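import Cfsg.Statements.S4691
import Cfsg.Agent.Lib.Block.H11Fus
import Cfsg.Agent.Lib.Grp.Hyperfocal

set_option autoImplicit false
open Cfsg

namespace Cfsg.Agent.S4691

open CA.H11Brg CA.H11Pair CA.H11Def CA.H11Amb CA.H11Max CA.H11Fus CA.BlkCore CA.SylIn

/-- Fix a prime p and a maximal ideal M of the algebraic integers containing p. A finite group G has a normal p-complement if and only if its principal p-block is nilpotent. -/
theorem result {G : Type*} [Group G] [Fintype G] (p : ℕ) [Fact p.Prime] (M : Ideal Cfsg.AlgInt) (hM : Cfsg.IsPModular p M) : Cfsg.HasNormalPComplement p G ↔ Cfsg.IsNilpotentBlock p M (Cfsg.principalBlock M G) := by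
  have hp := CA.BlkDefect.p_eq_zero hM
  have hB : IsPBlock M (principalBlock M G) := isPBlock_principalBlock
  have hb := blk_eB hM hB
  have ha := aug_eB_principal (G := G) hM
  have hc : ∀ g : G, (orderOf g).Coprime p ↔ ¬ p ∣ orderOf g := fun g => by
    rw [Nat.coprime_comm, (Fact.out : p.Prime).coprime_iff_not_dvd]
  rw [isNilpotentBlock_iff hM, and_iff_right hB, CA.Hyperfocal.hasNPC_iff_forall_pgroup]
  constructor
  · exact fun h Q f hf _ x hx h1 => h Q hf.pg x (St_le_NN hx) ((hc x).2 h1)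
  · intro h Q hQ g hg h1
    obtain ⟨f, hf, h2⟩ := exists_prin (k := CA.BlkVal.k M) (⊤ ⊓ CC Q)
    have hq : Pr p ⊤ Q f := ⟨le_top, hQ, hf⟩
    refine h Q f hq (of_of_aug hp hb ha hq h2) g (mem_St.2 ⟨trivial, hg, fixed_of_aug hf h2 ?_⟩)
      ((hc g).1 h1)
    rw [top_inf_eq]
    exact normalizer_le_normalizer_centralizer Q hg

end Cfsg.Agent.S4691
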