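import Cfsg.Statements.S4646
import Cfsg.Agent.Lib.Block.BlkGal
import Cfsg.Agent.Lib.Block.H11Contrib
import Cfsg.Agent.S4691
import Cfsg.Agent.Lib.Grp.PRes

set_option autoImplicit false
open Cfsg

namespace Cfsg.Agent.S4646
open Cfsg MonoidAlgebra CA.BlkAlg CA.BlkVal CA.BlkOmega CA.BlkRed CA.BlkCore CA.BlkDefect CA.BlkInd CA.BlkHeight CA.SylIn CA.H12PPart CChar.CharFun CChar.CharOrth Subgroup CA.BlkKer CChar.CharKer CA.BlkZero CChar.CharInt CA.BlkReg CA.BlkGal

/-- For a finite group G, a prime p and a maximal ideal M of the algebraic integers containing p: the principal block of G is nilpotent if and only if its p-regular rank is 1 (the trivial Brauer character is its only irreducible Brauer character). -/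
theorem result {G : Type*} [Group G] [Finite G] (p : ℕ) [Fact p.Prime] (M : Ideal Cfsg.AlgInt) (hM : Cfsg.IsPModular p M) : Cfsg.IsNilpotentBlock p M (Cfsg.principalBlock M G) ↔ Cfsg.blockRank p (Cfsg.principalBlock M G) = 1 := by
  haveI := Fintype.ofFinite G
  rw [← Cfsg.Agent.S4691.result p M hM]
  have h1 := irrOne_mem_principalBlock (G := G) hM
  constructor
  · intro hG
    obtain ⟨N, hN, hc', hq⟩ := CA.PRes.hasNPC_iff_exists_normal.mp hG
    have hi : ∃ n, N.index = p ^ n := IsPGroup.iff_card.mp hq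
    refine CA.H11Contrib.blockRank_eq_one hM.1 h1 (w := fun _ => 1) fun ψ hψ => ⟨ψ.1 1, fun x hx => ?_⟩
    rw [mul_one]
    exact apply_of_mem_charKer ((mem_principalBlock_iff_of_complement hM N hc' hi).mp hψ
      ((mem_iff_not_dvd_of_index hM.1 N hc' hi x).mpr hx))
  · intro h
    have h2 : ∀ g : G, ¬ p ∣ orderOf g → g ∈ pPrimeCore p G := fun g hg => by
      rw [← kerB_principalBlock hM, mem_kerB]
      intro χ hχ
      have := congrFun (CA.H11Contrib.smul_pReg_of_rank_one hM.1 h hχ h1) g
      simpa [pReg_of_not_dvd _ hg, irrOne_apply] using this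
    exact CA.PRes.hasNPC_of_normal (pPrimeCore p G) (not_dvd_card_pPrimeCore hM.1)
      (CA.PRes.isPGroup_quotient_of_pResidual_le (CA.PRes.pResidual_le_iff.mpr fun g hg =>
        h2 g (CA.PRes.coprime_iff_not_dvd.mp hg)))

end Cfsg.Agent.S4646
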