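import Cfsg.Statements.S4640
import Cfsg.Agent.Lib.Block.BlkSubs
import Cfsg.Agent.Lib.Block.BlkRk
import Cfsg.Agent.Lib.Block.BlkCov
import Cfsg.Agent.Lib.Block.H12Brg
import Cfsg.Agent.Lib.Char.Gall

set_option autoImplicit false
open Cfsg

namespace Cfsg.Agent.S4640

open MonoidAlgebra CA.BlkAlg CA.BlkVal CA.BlkOmega CA.BlkRed CA.BlkCore CA.BlkDefect CA.SylIn
  CA.BlkHeight CA.H12Cover CA.H11Amb CA.H11Def CA.H11Pair CA.H11Brg CA.H12Fong CA.H12FR CA.H12Brg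
  CA.BlkCov CChar.CharFun CChar.CharOrth CChar.CharInt CChar.CharKer Subgroup CA.BlkReg

theorem nonvan {G : Type*} [Group G] [Fintype G] {p : ℕ} [hp : Fact p.Prime] {M : Ideal AlgInt}
    (hM : IsPModular p M) {B : Set (IrrCharacter G)} (hB : IsPBlock M B) {P : Subgroup G}
    (hP : IsDef p ⊤ (eB M B) P) {u : G} (hu : u ∈ P) (hu' : u ∈ CC P) {χ : IrrCharacter G}
    (hχ : χ ∈ B) : ∃ y, ¬ p ∣ orderOf y ∧ χ.1 (u * y) ≠ 0 := by
  have := Fintype.ofFinite (centralizer ({u} : Set G))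
  obtain ⟨e, he⟩ := CA.H11Max.exists_mx (p_eq_zero hM) (blk_eB hM hB) hP
  obtain ⟨c, -, h1, h2⟩ := CA.BlkSubs.exists_major hM hB he hu hu'
  have h3 := CA.BlkQuo.orderOf_eq_pow_of_mem hp.out he.pr.2 hu
  by_contra! h
  refine CA.H11Sec.sp_ne_zero_of_major hM h3 rfl h1 h2 hχ ?_
  rw [CA.H11Sec.sp_congr hM (isSat_of_isPBlock hM h1.1) le_rfl (irr_classFun χ.2)
    (η := 0) (fun _ _ => rfl) fun c hc => h c (by rwa [orderOf_coe]), map_zero]

theorem irr_res {G : Type*} [Group G] [Fintype G] {N : Subgroup G} [N.Normal] [Fintype N]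
    (hc : ∀ a b : G ⧸ N, a * b = b * a) {χ : IrrCharacter G}
    (h : ∀ q : G ⧸ N, ∃ x : G, (x : G ⧸ N) = q ∧ χ.1 x ≠ 0) :
    IsIrrCharacter N fun n : N => χ.1 n := by
  refine irr_of_char_of_inner_self (char_restrict (char_of_irr χ.2) N) ?_
  rw [← CA.Ind.inner_ind_left N _ (irr_classFun χ.2), CA.Gall.indFun_res_eq_sum (irr_classFun χ.2),
    CChar.CharFun.inner_sum_left, Finset.sum_eq_single (irrOne _) (fun μ _ hμ => ?_) (by simp),
    ← inner_irr_self χ.2]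
  · congr 1
    funext g; simp [irrOne_apply]
  · rw [CChar.CharFun.inner_smul_left]
    refine mul_eq_zero_of_right _ (by_contra fun h0 => hμ (Subtype.ext (funext fun q => ?_)))
    obtain ⟨lam, hl⟩ := char_exists_unitsHom_of_apply_one (char_of_irr μ.2)
      (irr_apply_one_of_comm hc μ.2)
    have h1 := irr_unitsHom_mul χ.2 (lam.comp (QuotientGroup.mk' N))
    obtain ⟨x, rfl, hx⟩ := h q
    have h2 := congrFun (irr_eq_of_inner_ne_zero h1 χ.2 (by rw [hl] at h0; exact h0)) x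
    rw [hl]
    exact mul_right_cancel₀ hx (h2.trans (one_mul _).symm)

/-- Let N be a normal subgroup of the finite group G of index a power of the prime p, M a maximal ideal of the algebraic integers containing p, b a block of N stabilized by every element of G, and B a block of G covering b (some member of B has a member of b as a constituent of its restriction to N). Suppose that B has a commutative defect group P. Then G = NP and P ∩ N is a defect group of b; every member of B restricts to a member of b; every member of b is the restriction of exactly [G : N] members of B; B contains exactly [G : N] times as many irreducible characters as b; and B and b have the same p-regular rank. -/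
theorem result {G : Type*} [Group G] [Fintype G] (p : ℕ) [Fact p.Prime] (M : Ideal Cfsg.AlgInt) (hM : Cfsg.IsPModular p M) (N : Subgroup G) [N.Normal] [Fintype N] (hNi : ∃ k : ℕ, N.index = p ^ k) (b : Set (Cfsg.IrrCharacter N)) (hb : Cfsg.IsPBlock M b) (hstab : ∀ g : G, Cfsg.StabilizesBlock N b g) (B : Set (Cfsg.IrrCharacter G)) (hB : Cfsg.IsPBlock M B) (hcov : ∃ χ ∈ B, ∃ θ ∈ b, Cfsg.classInner (fun n : N => (χ : G → ℂ) n) (θ : N → ℂ) ≠ 0) (P : Subgroup G) (hPD : Cfsg.IsDefectGroup p M B P) (hPab : ∀ x ∈ P, ∀ y ∈ P, x * y = y * x) : N ⊔ P = ⊤ ∧ Cfsg.IsDefectGroup p M b ((P ⊓ N).subgroupOf N) ∧ (∀ χ ∈ B, ∃ θ ∈ b, ∀ n : N, (χ : G → ℂ) n = (θ : N → ℂ) n) ∧ (∀ θ ∈ b, Nat.card {χ : Cfsg.IrrCharacter G // χ ∈ B ∧ ∀ n : N, (χ : G → ℂ) n = (θ : N → ℂ) n} = N.index) ∧ Nat.card B = N.index * Nat.card b ∧ Cfsg.blockRank p B = Cfsg.blockRank p b := by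
  classical
  have hp0 := p_eq_zero hM
  have hNN := NN_top_of_normal N
  have hN' : ∃ n, N.relIndex ⊤ = p ^ n := by rwa [relIndex_top_right]
  have he := blk_ab hM hb
  have hE := blk_of_pquot hM le_top hNN hN' he fun g _ => ((stabilizesBlock_iff hM hb).1 (hstab g)).2
  have key : ∀ B', IsPBlock M B' → (∃ χ ∈ B', ∃ θ ∈ b,
      classInner (fun n : N => (χ : G → ℂ) n) (θ : N → ℂ) ≠ 0) → eB M B' = ab M N b :=
    fun B' hB' h => hE.eq_of_mul_ne_zero (blk_eB hM hB') ((cov_iff_ab hM hB' hb).1 h)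
  have h := key B hB hcov
  have hP := (isDefectGroup_iff_top hM hB).1 hPD
  have hs : N ⊔ P = ⊤ := sup_comm P N ▸ sup_eq_of_pquot hp0 le_top hNN hN' he hE (h ▸ hP)
  have hq : ∀ q : G ⧸ N, ∃ u ∈ P, (u : G ⧸ N) = q := fun q => by
    obtain ⟨g, rfl⟩ := QuotientGroup.mk_surjective q
    obtain ⟨n, hn, u, hu, rfl⟩ := mem_sup_of_normal_left.1 (hs ▸ mem_top g : g ∈ N ⊔ P)
    exact ⟨u, hu, by rw [QuotientGroup.mk_mul, (QuotientGroup.eq_one_iff n).2 hn, one_mul]⟩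
  have hc : ∀ a b : G ⧸ N, a * b = b * a := fun a b => by
    obtain ⟨u, hu, rfl⟩ := hq a
    obtain ⟨v, hv, rfl⟩ := hq b
    rw [← QuotientGroup.mk_mul, hPab u hu v hv, QuotientGroup.mk_mul]
  have h1 : ∀ χ ∈ B, IsIrrCharacter N fun n : N => χ.1 n := fun χ hχ => irr_res hc fun q => by
    obtain ⟨u, hu, rfl⟩ := hq q
    obtain ⟨y, hy, h0⟩ := nonvan hM hB hP hu (mem_CC.2 fun v hv => hPab v hv u hu) hχ
    exact ⟨u * y, by rw [QuotientGroup.mk_mul, (QuotientGroup.eq_one_iff y).2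
      (CA.BlkQuo.regular_mem_of_index hM.1 N hNi hy), mul_one], h0⟩
  have h2 : ∀ χ ∈ B, ∃ θ ∈ b, ∀ n : N, (χ : G → ℂ) n = (θ : N → ℂ) n := fun χ hχ => by
    obtain ⟨θ, hθ, h0⟩ := exists_under_of_mul N.subtype_injective (isSat_of_isPBlock hM hB)
      (isSat_of_isPBlock hM hb) (by rw [← ab_eq_mp, ← h]; exact (blk_eB hM hB).idem) hχ
    exact ⟨θ, hθ, congrFun (irr_eq_of_inner_ne_zero (h1 χ hχ) θ.2 h0)⟩
  have h3 : ∀ θ ∈ b, ∃ χ ∈ B, ∀ n : N, (χ : G → ℂ) n = (θ : N → ℂ) n := fun θ hθ => by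
    obtain ⟨χ, hχ, h2⟩ := exists_over_of_cov hM hb (isSat_of_isPBlock hM hB) (cov_iff.2 hcov) hθ
    exact ⟨χ, hχ, congrFun (irr_eq_of_inner_ne_zero (h1 χ hχ) θ.2 (over_iff.1 h2))⟩
  have h4 : ∀ θ ∈ b, Nat.card {χ : IrrCharacter G // χ ∈ B ∧
      ∀ n : N, (χ : G → ℂ) n = (θ : N → ℂ) n} = N.index := fun θ hθ => by
    obtain ⟨χ, hχ, h0⟩ := h3 θ hθ
    have hk : ∀ μ : IrrCharacter (G ⧸ N), ∀ n ∈ N, μ.1 (n : G ⧸ N) = μ.1 ((1 : G) : G ⧸ N) :=
      fun μ n hn => by rw [(QuotientGroup.eq_one_iff n).2 hn]; rfl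
    have hi := fun μ : IrrCharacter (G ⧸ N) =>
      CA.Gall.irr_mul (char_of_irr χ.2) (h1 χ hχ) (irr_inflate μ.2) (hk μ)
    have hr : ∀ μ : IrrCharacter (G ⧸ N), ∀ n : N,
        ((fun g : G => μ.1 (g : G ⧸ N)) * χ.1) n = θ.1 n := fun μ n => by
      rw [Pi.mul_apply, hk μ n n.2, h0, QuotientGroup.mk_one,
        comm_iff_irr_apply_one.1 hc _ μ.2, one_mul]
    have hm : ∀ μ, (⟨_, hi μ⟩ : IrrCharacter G) ∈ B := fun μ => by
      have h5 := isPBlock_blockOf (M := M) (⟨_, hi μ⟩ : IrrCharacter G)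
      rw [eB_inj hM hB h5 (h.trans (key _ h5 ⟨⟨_, hi μ⟩, self_mem_blockOf hM _, θ, hθ, by
        rw [funext (hr μ), inner_irr_self θ.2]; exact one_ne_zero⟩).symm)]
      exact self_mem_blockOf hM _
    rw [index_eq_card, ← card_irr_of_comm hc]
    refine (Nat.card_eq_of_bijective (fun μ => ⟨⟨_, hi μ⟩, hm μ, hr μ⟩) ⟨fun μ ν e => ?_, ?_⟩).symm
    · have := CA.Gall.mul_inj (char_of_irr χ.2) (h1 χ hχ) (irr_inflate μ.2) (hk μ)
        (irr_inflate ν.2) (hk ν) (congrArg (fun x => x.1.1) e)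
      exact Subtype.ext (funext fun q => by
        obtain ⟨g, rfl⟩ := QuotientGroup.mk_surjective q; exact congrFun this g)
    · rintro ⟨ψ, hψ, h5⟩
      obtain ⟨β, hβ, h6, h7⟩ := CA.Gall.exists_eq_mul (char_of_irr χ.2) (h1 χ hχ) ψ.2 (by
        rw [funext h5, funext h0, inner_irr_self θ.2]; exact one_ne_zero)
      obtain ⟨μ, hμ, h8⟩ := irr_exists_quotient hβ N h6
      exact ⟨⟨μ, hμ⟩, Subtype.ext (Subtype.ext (by rw [h7, ← funext h8]))⟩
  refine ⟨hs, (isDefectGroup_iff_subgroupOf hM hb inf_le_right).2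
    ((h ▸ hP).inf' hp0 he le_top hNN), h2, h4, ?_, ?_⟩
  · choose f hf hf' using h2
    have := Fintype.ofFinite b
    rw [← Nat.card_congr (Equiv.sigmaFiberEquiv fun χ : B => (⟨f χ.1 χ.2, hf _ _⟩ : b)),
      Nat.card_sigma, Finset.sum_congr rfl (g := fun _ => N.index) fun θ _ => ?_, Finset.sum_const,
      Finset.card_univ, ← Nat.card_eq_fintype_card, smul_eq_mul, mul_comm]
    rw [← h4 θ.1 θ.2]
    refine Nat.card_congr ⟨fun x => ⟨x.1.1, x.1.2, fun n => (hf' _ x.1.2 n).trans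
      (congrArg (fun y : b => y.1.1 n) x.2)⟩,
      fun x => ⟨⟨x.1, x.2.1⟩, Subtype.ext (Subtype.ext (funext fun n => by
        rw [← x.2.2 n]; exact (hf' _ x.2.1 n).symm))⟩, fun _ => rfl, fun _ => rfl⟩
  · have h5 : ∀ (χ : IrrCharacter G) (θ : IrrCharacter N), (∀ n : N, χ.1 n = θ.1 n) →
        extendByZero N (pRegularPart p θ.1) = pRegularPart p χ.1 := fun χ θ h0 => funext fun g => by
      by_cases hg : g ∈ N
      · rw [CA.Ind.ext_of_mem _ _ hg, ← funext h0]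
        exact (pRegularPart_comp N.subtype_injective χ.1 ⟨g, hg⟩).symm
      · rw [CA.Ind.ext_of_not_mem _ _ hg, pReg_of_dvd _ (by_contra fun h =>
          hg (CA.BlkQuo.regular_mem_of_index hM.1 N hNi h))]
    refine CA.BlkRk.blockRank_eq_of_map
      ⟨⟨extendByZero N, fun a b => funext (CA.Ind.ext_add N a b)⟩,
        fun a b => funext (CA.Ind.ext_smul N a b)⟩ (fun f _ hf => funext fun n => ?_)
      (fun θ hθ => ?_) fun χ hχ => ?_
    · exact (CA.Ind.ext_coe N f n).symm.trans (congrFun hf n)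
    · obtain ⟨χ, hχ, h0⟩ := h3 θ hθ
      exact Submodule.subset_span ⟨χ, hχ, (h5 χ θ h0).symm⟩
    · obtain ⟨θ, hθ, h0⟩ := h2 χ hχ
      exact ⟨_, Submodule.subset_span ⟨θ, hθ, rfl⟩, h5 χ θ h0⟩

end Cfsg.Agent.S4640
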