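import Cfsg.Statements.S4512
import Cfsg.Agent.Lib.Block.H11Dih3
import Cfsg.Agent.Lib.Block.H11Contrib

set_option autoImplicit false
open Cfsg

namespace Cfsg.Agent.S4512

open CA.H11Dih3 CA.H11Contrib CA.H11Inv CA.H13Inv CA.BlkCore CChar.CharFun CChar.CharOrth CChar.CharGen

/-- If G is a finite group with a Sylow 2-subgroup that is a Klein four-group and a single conjugacy class of involutions, then its principal 2-block (relative to a maximal ideal M of the algebraic integers containing 2) has 2-regular rank 3: the restrictions of its irreducible characters to the elements of odd order span a space of dimension 3 (it has three irreducible Brauer characters). -/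
theorem result {G : Type*} [Group G] [Finite G] (M : Ideal Cfsg.AlgInt) (hM : Cfsg.IsPModular 2 M) (P : Sylow 2 G)
    (hP : Nat.card P = 4) (hexp : ∀ x : P, x * x = 1)
    (hone : ∀ s t : G, orderOf s = 2 → orderOf t = 2 → IsConj s t) :
    Cfsg.blockRank 2 (Cfsg.principalBlock M G) = 3 := by
  classical
  haveI := Fintype.ofFinite G
  obtain ⟨J, hJ, hJ2⟩ := exists_involution_of_even (H := (P : Subgroup G)) (by
    rw [show Nat.card (P : Subgroup G) = 4 from hP]; decide)
  obtain ⟨y, D, -⟩ := exists_dih P hP (fun x hx => by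
    rw [pow_two]; exact congrArg Subtype.val (hexp ⟨x, hx⟩)) hJ hJ2
  obtain ⟨Θ, h1, h2, h3, h4, -⟩ := four D hM fun t => hone J t hJ2
  choose n hn using fun χ : IrrCharacter G => exists_int (char_of_irr χ.2) (mul_self hJ2)
  have h5 : ∑ χ with χ ∈ principalBlock M G, n χ ^ 2 = 4 := by
    rw [inner_eq_sum h1.1, ← Finset.sum_subset (Finset.filter_subset (· ∈ principalBlock M G) _)
      fun χ _ h => by rw [h1.2 χ (by simpa using h), zero_mul], Finset.sum_congr rfl
      (g := fun χ => (n χ : ℂ) ^ 2) fun χ h => by
        rw [(h2 χ (Finset.mem_filter.1 h).2).1, hn, map_intCast, sq]] at h4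
    exact_mod_cast h4
  have o := irrOne_mem_principalBlock (G := G) hM
  have o' : irrOne G ∈ Finset.univ.filter (· ∈ principalBlock M G) := by simpa using o
  have h6 := h5
  rw [← Finset.add_sum_erase _ _ o', show n (irrOne G) = 1 by
    exact_mod_cast (hn (irrOne G)).symm.trans (irrOne_apply J)] at h6
  have h7 := (card_of_sum_sq (n := 3) (a := n)
    (s := (Finset.univ.filter (· ∈ principalBlock M G)).erase (irrOne G))
    (fun χ h e => (h2 χ (Finset.mem_filter.1
    (Finset.mem_of_mem_erase h)).2).2.1 (by rw [hn, e, Int.cast_zero])) le_rfl (by omega)).1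
  rw [Finset.card_erase_of_mem o'] at h7
  have h8 := blockRank_eq_sum hM (isSat_of_isPBlock hM (isPBlock_principalBlock (G := G)))
  rw [Finset.sum_congr rfl (g := fun χ => 1 - (n χ : ℂ) ^ 2 / 4) fun χ h => by
    have e := h2 χ (Finset.mem_filter.1 h).2
    rw [mm_def, show pRegularPart 2 χ.1 = χ.1 - (χ.1 J / 4) • Θ from funext fun g => by
      by_cases h : 2 ∣ orderOf g <;> simp [pRegularPart, IsPRegular, h3, h, e.2.2],
      CChar.CharFun.inner_sub_left, CChar.CharFun.inner_smul_left, inner_irr_self χ.2, e.1, hn]
    ring, Finset.sum_sub_distrib, ← Finset.sum_div, Finset.sum_const,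
    show (Finset.univ.filter (· ∈ principalBlock M G)).card = 4 by omega,
    show ∑ χ with χ ∈ principalBlock M G, (n χ : ℂ) ^ 2 = 4 by exact_mod_cast h5] at h8
  norm_num at h8
  exact_mod_cast h8

end Cfsg.Agent.S4512
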