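import Cfsg.Statements.S4593
import Cfsg.Agent.Lib.Loc.H6Ctl
import Cfsg.Agent.Lib.Grp.Fus2
import Cfsg.Agent.S0215

set_option autoImplicit false
open Cfsg

namespace Cfsg.Agent.S4593

open Subgroup CA.Amb CA.AmbSyl CA.AmbCore CA.H6Ctl CA.PRes

theorem key {H : Type*} [Group H] [Finite H] (T : Sylow 2 H) (hc : IsMulCommutative T)
    (hO : ∀ N : Subgroup H, N.Normal → Odd (Nat.card N) → N = ⊥) (hZ : center H = ⊥) :
    pResidual 2 H = ⊤ := by
  haveI : Fact (Nat.Prime 2) := ⟨Nat.prime_two⟩
  have h := (CA.Fus2.abelian_sylow_decomp T hc).2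
  suffices e : (T : Subgroup H) ⊓ centralizer (normalizer (T : Set H) : Set H) = ⊥ by
    rwa [e, bot_sup_eq] at h
  by_contra e
  obtain ⟨u, hu, ho⟩ := exists_orderOf_eq_of_ne_bot (T.isPGroup'.to_le inf_le_left) e
  have ctl := ctl_of_comm (sylIn_top T) le_rfl (sc_self _ _) hc
  obtain ⟨N, hN, h1, h2⟩ := Cfsg.Agent.S0215.result T u ho hu.1 (fun g hg => by
    obtain ⟨m, hm, e⟩ := ctl.elem hu.1 (mem_top g) hg
    rw [← e, mem_centralizer_iff.1 hu.2 m hm.2, mul_inv_cancel_right])
  rw [hO N hN h1] at h2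
  have : u ∈ center H := mem_center_iff.2 fun g => by
    have := mem_bot.1 (h2 g)
    rw [mul_inv_eq_one, mul_inv_eq_iff_eq_mul] at this
    exact this.symm
  rw [hZ, mem_bot] at this
  rw [this] at ho
  simp at ho

theorem abs {G Γ : Type*} [Group G] [Finite G] [Group Γ] [Finite Γ] (f : G →* Γ)
    (hf : Function.Injective f) [hn : f.range.Normal] (a : Γ) (hs : zpowers a ⊔ f.range = ⊤) {j : ℕ}
    (ha : orderOf a = 2 ^ j) (hZ : center Γ = ⊥) (hcore : pPrimeCore 2 G = ⊥) (P : Sylow 2 G)
    (hab : IsMulCommutative (P : Subgroup G)) (hfix : ∀ x ∈ (P : Subgroup G), f x * a = a * f x) :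
    a ∈ f.range := by
  haveI : Fact (Nat.Prime 2) := ⟨Nat.prime_two⟩
  have hq : pResidual 2 Γ ≤ f.range := by
    refine pResidual_le_of_index_dvd (k := j) ?_
    rw [← relIndex_top_right, ← hs, relIndex_sup_of_norm norm_of_normal, ← ha, ← Nat.card_zpowers]
    exact relIndex_dvd_card _ _
  have hP : SylIn 2 ((P : Subgroup G).map f) f.range := by
    rw [f.range_eq_map]; exact (sylIn_top P).map f
  have hc : zpowers a ≤ 𝐂 ((P : Subgroup G).map f) := by
    rw [zpowers_le, mem_centralizer_sub]
    rintro _ ⟨x, hx, rfl⟩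
    exact hfix x hx
  have hT0 : IsPGroup 2 ↥(zpowers a ⊔ (P : Subgroup G).map f) :=
    isPGroup_sup_of_norm (isPGroup_zpowers_of_orderOf ha) hP.pg (norm_of_centralizer hc)
  obtain ⟨T, hT⟩ := hT0.exists_le_sylow
  have h1 : f.range ⊓ T = (P : Subgroup G).map f :=
    hP.max (T.isPGroup'.to_le inf_le_right) (le_inf hP.le (le_sup_right.trans hT)) inf_le_left
  have h2 : (T : Subgroup Γ) = zpowers a ⊔ (P : Subgroup G).map f := by
    rw [← h1, ← sup_inf_of_norm norm_of_normal (le_sup_left.trans hT), hs, top_inf_eq]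
  have hTc : IsMulCommutative T := by
    have : (T : Subgroup Γ) ≤ 𝐂 (T : Subgroup Γ) := by
      rw [h2, CA.Amb.centralizer_sup]
      refine sup_le (le_inf ?_ hc) (le_inf (le_centralizer_iff.1 hc) ?_)
      · rw [centralizer_zpowers, zpowers_le, mem_centralizer_singleton_iff]
      · refine cent_map f fun x hx => mem_centralizer_sub.2 fun y hy => ?_
        exact congrArg Subtype.val (hab.1.1 (⟨y, hy⟩ : P) ⟨x, hx⟩)
    exact ⟨⟨fun x y => Subtype.ext (mem_centralizer_sub.1 (this y.2) _ x.2)⟩⟩
  have := key T hTc (fun N hN ho => by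
    have h3 : N ≤ f.range := (le_pResidual_of_coprime (Nat.coprime_two_right.2 ho)).trans hq
    have h4 : (N.comap f).map f = N := map_comap_eq_self h3
    have h5 : N.comap f ≤ pPrimeCore 2 G := le_sSup ⟨inferInstance, by
      rw [← card_map_of_injective hf, h4]; exact Nat.coprime_two_right.2 ho⟩
    rw [← h4, le_bot_iff.1 (h5.trans hcore.le), Subgroup.map_bot]) hZ
  exact hq (this ▸ mem_top a)

/-- Let G be a finite group with trivial centre and no nontrivial normal subgroup of odd order, whose Sylow 2-subgroups are abelian, and let P be a Sylow 2-subgroup. Every automorphism of G of 2-power order that fixes P elementwise is inner. -/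
theorem result {G : Type*} [Group G] [Finite G] (hZ : Subgroup.center G = ⊥) (hcore : Cfsg.pPrimeCore 2 G = ⊥) (P : Sylow 2 G) (hab : IsMulCommutative (P : Subgroup G))
    (α : MulAut G) (h2 : ∃ j : ℕ, orderOf α = 2 ^ j) (hfix : ∀ x ∈ (P : Subgroup G), α x = x) :
    ∃ g : G, ∀ x : G, α x = g * x * g⁻¹ := by
  obtain ⟨j, hj⟩ := h2
  let I : Subgroup (MulAut G) := (MulAut.conj : G →* MulAut G).range
  have hcj : ∀ (β : MulAut G) (g : G), β * MulAut.conj g * β⁻¹ = MulAut.conj (β g) := by
    intro β g; ext x; simp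
  have hinj : Function.Injective (MulAut.conj : G →* MulAut G) := by
    rw [injective_iff_map_eq_one]
    intro g hg
    rw [← mem_bot, ← hZ, mem_center_iff]
    intro x
    have := congrArg (fun φ : MulAut G => φ x) hg
    simp only [MulAut.conj_apply, MulAut.one_apply] at this
    rw [mul_inv_eq_iff_eq_mul] at this
    exact this.symm
  let H := zpowers α ⊔ I
  let f : G →* H := (MulAut.conj : G →* MulAut G).codRestrict H fun g =>
    (le_sup_right : I ≤ H) ⟨g, rfl⟩
  have hr : f.range = I.subgroupOf H := by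
    ext x
    exact ⟨fun ⟨g, hg⟩ => ⟨g, congrArg Subtype.val hg⟩, fun ⟨g, hg⟩ => ⟨g, Subtype.ext hg⟩⟩
  haveI : I.Normal := ⟨by
    rintro _ ⟨g, rfl⟩ β
    exact ⟨β g, (hcj β g).symm⟩⟩
  haveI : f.range.Normal := by rw [hr]; infer_instance
  let a : H := ⟨α, (le_sup_left : zpowers α ≤ H) (mem_zpowers α)⟩
  obtain ⟨g, hg⟩ := abs f (fun x y e => hinj (congrArg Subtype.val e)) a (j := j) (by
      apply map_injective H.subtype_injective
      rw [Subgroup.map_sup, hr, map_subgroupOf_eq_of_le le_sup_right, MonoidHom.map_zpowers,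
        map_subtype_top]
      rfl) (by rw [← hj]; exact (orderOf_injective H.subtype H.subtype_injective a).symm) (by
      rw [eq_bot_iff]
      intro z hz
      rw [mem_bot]
      ext g
      have := congrArg Subtype.val (mem_center_iff.1 hz (f g))
      apply hinj
      rw [← hcj]
      exact mul_inv_eq_iff_eq_mul.2 this.symm) hcore P hab (by
      intro x hx
      apply Subtype.ext
      have := hcj α x
      rw [hfix x hx, mul_inv_eq_iff_eq_mul] at this
      exact this.symm)
  refine ⟨g, fun x => ?_⟩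
  have := congrArg (fun φ : H => (φ : MulAut G) x) hg
  exact this.symm

end Cfsg.Agent.S4593
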