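import Cfsg.Statements.S0493
import Cfsg.Agent.Lib.Block.H28Sv
-- import your own Cfsg.Agent.* helpers here

set_option autoImplicit false
open Cfsg

namespace Cfsg.Agent.S0493

def cert : List (ℕ × ℕ) :=
    [(2,3),(2,3),(3,2),(2,3),(5,2),(2,3),(7,2),(2,3),(3,2),(2,5),(11,2),(2,3),(13,2),(2,7),(3,5),
    (2,3),(17,2),(2,3),(19,2),(2,5),(3,7),(2,11),(23,2),(2,3),(5,2),(2,13),(3,2),(2,7),(29,2),
    (3,0),(31,2),(2,3),(3,11),(2,17),(5,7),(2,3),(37,2),(2,19),(3,13),(2,5),(41,2),(7,0),(43,2),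
    (2,11),(3,5),(2,23),(47,2),(2,3),(7,2),(2,5),(3,17),(2,13),(53,2),(2,3),(5,11),(2,7),(3,19),
    (2,29),(59,2),(0,0),(61,2),(2,31),(3,7),(2,3),(5,13),(11,0),(67,2),(2,17),(3,23),(5,0),
    (71,2),(2,3),(73,2),(2,37),(3,5),(2,19),(7,11),(13,0),(79,2),(2,5),(3,2),(2,41),(83,2),(7,0),
    (5,17),(2,43),(3,29),(2,11),(89,2),(3,1),(7,13),(2,23),(3,31),(2,47),(5,19),(2,3),(97,2),
    (2,7),(3,11),(2,5)]

theorem cert_ok : CA.H28Sv.checkL 80 [60] 1 cert = true := by decide +kernel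

/-- A finite simple group of order at most 100 that is not cyclic has order 60. -/
theorem result {G : Type*} [Group G] [Finite G] [IsSimpleGroup G]
    (hG : ¬ IsCyclic G) (h : Nat.card G ≤ 100) : Nat.card G = 60 := by
  simpa using CA.H28Sv.mem_of_checkL (CA.H28Simp.not_comm_of_not_cyclic hG) cert_ok Nat.card_pos
    (Nat.lt_of_le_of_lt h (by decide +kernel))

end Cfsg.Agent.S0493
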