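import Cfsg.Statements.S0496
import Cfsg.Agent.Lib.Block.H28Sv
-- import your own Cfsg.Agent.* helpers here

set_option autoImplicit false
open Cfsg

namespace Cfsg.Agent.S0496

def cert : List (ℕ × ℕ) :=
    [(2,3),(2,3),(3,2),(2,3),(5,2),(2,3),(7,2),(2,3),(3,2),(2,5),(11,2),(2,3),(13,2),(2,7),(3,5),
    (2,3),(17,2),(2,3),(19,2),(2,5),(3,7),(2,11),(23,2),(2,3),(5,2),(2,13),(3,2),(2,7),(29,2),
    (3,0),(31,2),(2,3),(3,11),(2,17),(5,7),(2,3),(37,2),(2,19),(3,13),(2,5),(41,2),(7,0),(43,2),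
    (2,11),(3,5),(2,23),(47,2),(2,3),(7,2),(2,5),(3,17),(2,13),(53,2),(2,3),(5,11),(2,7),(3,19),
    (2,29),(59,2),(0,0),(61,2),(2,31),(3,7),(2,3),(5,13),(11,0),(67,2),(2,17),(3,23),(5,0),
    (71,2),(2,3),(73,2),(2,37),(3,5),(2,19),(7,11),(13,0),(79,2),(2,5),(3,2),(2,41),(83,2),(7,0),
    (5,17),(2,43),(3,29),(2,11),(89,2),(3,1),(7,13),(2,23),(3,31),(2,47),(5,19),(2,3),(97,2),
    (2,7),(3,11),(2,5),(101,2),(17,0),(103,2),(2,13),(5,0),(2,53),(107,2),(2,3),(109,2),(11,0),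
    (3,37),(2,7),(113,2),(19,0),(5,23),(2,29),(3,13),(2,59),(7,17),(2,1),(11,2),(2,61),(3,41),
    (2,31),(5,2),(7,0),(127,2),(2,3),(3,43),(13,0),(131,2),(11,0),(7,19),(2,67),(3,5),(2,17),
    (137,2),(23,0),(139,2),(7,0),(3,47),(2,71),(11,13),(2,3),(5,29),(2,73),(3,7),(2,37),(149,2),
    (5,1),(151,2),(2,19),(3,17),(11,0),(5,31),(13,0),(157,2),(2,79),(3,53),(2,5),(7,23),(2,3),
    (163,2),(2,41),(11,0),(2,83),(167,2),(0,0),(13,2),(5,0),(3,19),(2,43),(173,2),(29,0),(5,7),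
    (2,11),(3,59),(2,89),(179,2),(5,0),(181,2),(7,0),(3,61),(2,23),(5,37),(31,0),(11,17),(2,47),
    (3,7),(5,0),(191,2),(2,3),(193,2),(2,97),(5,0),(2,7),(197,2),(3,1),(199,2),(2,5),(3,67),
    (2,101),(7,29),(17,0),(5,41),(2,103),(3,23),(2,13),(11,19),(2,0),(211,2),(2,53),(3,71),
    (2,107),(5,43),(2,3),(7,31),(2,109),(3,73),(11,0),(13,17),(37,0),(223,2),(2,7),(3,5),(2,113),
    (227,2),(19,0),(229,2),(5,0),(7,0),(2,29),(233,2),(13,0),(5,47),(2,59),(3,79),(7,0),(239,2),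
    (5,0),(241,2),(2,11),(3,2),(2,61),(5,7),(3,0),(13,19),(2,31),(3,83),(2,5),(251,2),(7,0),
    (11,23),(2,127),(17,0),(2,3),(257,2),(43,0),(7,37),(13,0),(3,29),(2,131),(263,2),(11,0),
    (5,53),(7,0),(3,89),(2,67),(269,2),(5,0),(271,2),(2,17),(7,0),(2,137),(5,11),(23,0),(277,2),
    (2,139),(3,31),(7,0),(281,2),(3,0),(283,2),(2,71),(19,0),(11,0),(7,41),(2,3),(17,2),(5,0),
    (3,97),(2,73),(293,2),(7,1),(5,59),(2,37),(3,11),(2,149),(13,23),(5,1),(7,43),(2,151),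
    (3,101),(2,19),(5,61),(3,1),(307,2),(11,0),(3,103),(31,0),(311,2),(13,0),(313,2),(2,157),
    (5,0),(2,79),(317,2),(3,0),(11,29),(2,5),(3,107),(7,0),(17,19),(2,3),(5,13),(2,163),(3,109),
    (2,41),(7,47),(11,0),(331,2),(2,83),(3,37),(2,167),(5,67),(7,0),(337,2),(2,13),(3,113),
    (17,0),(11,31),(19,0),(7,2),(2,43),(5,0),(2,173),(347,2),(29,0),(349,2),(5,1),(3,13),(2,11),
    (353,2),(3,0),(5,71),(2,89),(7,0),(2,179),(359,2),(0,0),(19,2),(2,181),(3,11),(7,0),(5,73),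
    (61,0),(367,2),(2,23),(3,41),(5,0),(7,53),(31,0),(373,2),(17,0),(3,5),(2,47),(13,29),(3,1),
    (379,2),(5,0),(3,127),(2,191),(383,2),(2,3),(11,0),(2,193),(3,43),(2,97),(389,2),(13,0),
    (17,23),(2,7),(3,131),(2,197),(5,79),(11,0),(397,2),(2,199),(19,0),(2,5),(401,2),(67,0),
    (13,31),(2,101),(3,5),(29,0),(11,37),(17,0),(409,2),(41,0),(3,137),(2,103),(7,59),(3,1),
    (5,83),(2,13),(3,139),(11,0),(419,2),(7,0),(421,2),(2,211),(3,47),(2,53),(5,17),(3,0),(7,61),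
    (2,107),(11,0),(5,0),(431,2),(2,3),(433,2),(7,0),(5,0),(2,109),(19,23),(73,0),(439,2),(11,0),
    (3,7),(13,0),(443,2),(37,0),(5,89),(2,223),(3,149),(2,7),(449,2),(5,1),(11,41),(2,113),
    (3,151),(2,227),(13,0),(19,0),(457,2),(2,229),(3,17),(23,0),(461,2),(11,0),(463,2),(2,29),
    (31,0),(2,233),(467,2),(13,0),(7,67),(5,0),(3,157),(2,59),(11,43),(79,0),(5,19),(17,0),
    (3,53),(2,239),(479,2),(2,1),(13,37),(2,241),(7,0),(2,11),(5,97),(2,3),(487,2),(2,61),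
    (3,163),(7,1),(491,2),(41,0),(17,29),(13,0),(3,1),(2,31),(7,71),(3,0),(499,2),(2,5),(3,167),
    (2,251),(503,2),(0,0),(5,101),(23,0),(3,13),(2,127),(509,2),(17,0),(7,73),(2,3),(3,19),
    (2,257),(5,103),(43,0),(11,47),(7,0),(3,173),(13,0),(521,2),(3,1),(523,2),(2,131),(5,1),
    (2,263),(17,31),(11,0),(23,2),(5,0),(3,59),(7,0),(13,41),(89,0),(5,107),(2,67),(3,179),
    (2,269),(7,11),(5,0),(541,2),(2,271),(3,181),(2,17),(5,109),(7,0),(547,2),(2,137),(3,61),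
    (11,0),(19,29),(23,0),(7,79),(2,277),(37,0),(2,139),(557,2),(31,0),(13,43),(2,1),(11,0),
    (2,281),(563,2),(47,0),(5,113),(2,283),(3,7),(2,71),(569,2),(19,0),(571,2),(11,0),(3,191),
    (7,0),(5,23),(2,3),(577,2),(2,17),(3,193),(29,0),(7,83),(97,0),(11,53),(2,73),(13,0),(2,293),
    (587,2),(7,1),(19,31),(5,0),(3,197),(2,37),(593,2),(11,0),(7,0),(2,149),(3,199),(13,0),
    (599,2),(5,1),(601,2),(43,0),(3,67),(2,151),(5,11),(101,0),(607,2),(2,19),(29,0),(61,0),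
    (13,47),(17,0),(613,2),(2,307),(5,0),(11,0),(617,2),(103,0),(619,2),(31,0),(3,23),(2,311),
    (7,89),(13,0),(5,2),(2,313),(11,0),(2,157),(17,37),(5,0),(631,2),(2,79),(3,211),(2,317),
    (5,127),(53,0),(7,13),(11,0),(3,71),(2,5),(641,2),(107,0),(643,2),(23,0),(5,0),(17,0),
    (647,2),(2,3),(11,59),(5,1),(7,0),(2,163),(653,2),(109,0),(5,131),(2,41),(3,73),(7,0),
    (659,2),(0,0),(661,2),(2,331),(13,0),(2,83),(19,0),(37,0),(23,29),(2,167),(3,223),(5,0),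
    (11,61),(7,0),(673,2),(2,337),(3,5),(2,13),(677,2),(113,0),(7,97),(17,0),(3,227),(11,0),
    (683,2),(19,0),(5,137),(2,7),(3,229),(2,43),(13,53),(23,0),(691,2),(2,173),(11,0),(2,347),
    (5,139),(29,0),(17,41),(2,349),(3,233),(5,1),(701,2),(3,1),(19,37),(2,11),(5,0),(2,353),
    (7,101),(59,0),(709,2),(71,0),(3,79),(2,89),(23,31),(17,0),(11,0),(2,179),(3,239),(2,359),
    (719,2),(5,0),(7,103),(2,19),(3,241),(2,181),(5,29),(11,1),(727,2),(7,0),(3,2),(5,0),(17,43),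
    (61,0),(733,2),(2,367),(7,1),(2,23),(11,67),(3,1),(739,2),(37,0),(13,0),(7,0),(743,2),(31,0),
    (5,149),(2,373),(3,83),(17,0),(7,107),(5,1),(751,2),(2,47),(3,251),(13,0),(5,151),(7,0),
    (757,2),(2,379),(23,0),(19,0),(761,2),(127,0),(7,109),(2,191),(17,0),(2,383),(13,59),(2,3),
    (769,2),(11,0),(3,257),(2,193),(773,2),(43,0),(5,31),(2,97),(7,0),(2,389),(19,41),(13,0),
    (11,71),(17,0),(3,29),(2,7),(5,157),(131,0),(787,2),(2,197),(3,263),(5,0),(7,113),(11,0),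
    (13,61),(2,397),(5,0),(2,199),(797,2),(19,0),(17,47),(2,5),(3,89),(2,401),(11,73),(67,0),
    (23,0),(13,0),(3,269),(2,101),(809,2),(5,0),(811,2),(29,0),(3,271),(11,0),(5,163),(17,0),
    (19,43),(2,409),(13,0),(41,0),(821,2),(137,0),(823,2),(2,103),(11,0),(7,0),(827,2),(23,0),
    (829,2),(5,0),(3,277),(2,13),(7,17),(139,0),(5,167),(11,0),(3,31),(2,419),(839,2),(7,0),
    (29,2),(2,421),(3,281),(2,211),(5,13),(3,1),(7,11),(2,53),(3,283),(5,1),(23,37),(71,0),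
    (853,2),(7,0),(19,0),(2,107),(857,2),(11,0),(859,2),(43,0),(7,0),(2,431),(863,2),(2,3),
    (5,173),(2,433),(3,17),(7,0),(11,79),(5,0),(13,67),(2,109),(3,97),(19,0),(5,7),(73,0),
    (877,2),(2,439),(3,293),(11,0),(881,2),(7,1),(883,2),(13,0),(5,0),(2,443),(887,2),(37,0),
    (7,127),(5,0),(3,11),(2,223),(19,47),(149,0),(5,179),(2,7),(13,0),(2,449),(29,31),(5,1),
    (17,53),(11,0),(43,0),(2,113),(5,181),(151,0),(907,2),(2,227),(3,101),(13,0),(911,2),(19,0),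
    (11,83),(2,457),(5,0),(2,229),(7,131),(17,0),(919,2),(23,0),(3,307),(2,461),(13,71),(11,0),
    (5,37),(2,463),(3,103),(2,29),(929,2),(31,0),(7,19),(2,233),(3,311),(2,467),(11,0),(13,0),
    (937,2),(7,0),(3,313),(47,0),(941,2),(157,0),(23,41),(2,59),(3,1),(11,0),(947,2),(79,0),
    (13,73),(5,1),(3,317),(17,0),(953,2),(3,1),(5,191),(2,239),(11,0),(2,479),(7,137),(2,1),
    (31,2),(13,0),(3,107),(2,241),(5,193),(23,0),(967,2),(2,11),(17,0),(5,0),(971,2),(2,3),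
    (7,139),(2,487),(5,1),(2,61),(977,2),(163,0),(11,89),(7,1),(3,109),(2,491),(983,2),(41,0),
    (5,197),(17,0),(7,0),(13,0),(23,43),(11,0),(991,2),(2,31),(3,331),(71,0),(5,199),(83,0),
    (997,2),(2,499),(3,37),(2,5),(13,0),(167,0),(17,59),(2,251),(5,0),(2,503),(19,53),(7,0),
    (1009,2),(101,0),(3,337),(23,0),(1013,2),(13,1),(29,0),(2,127),(3,113),(2,509),(1019,2),
    (17,0),(1021,2),(7,0),(11,0),(2,3),(5,41),(19,0),(13,79),(2,257),(3,7),(5,0),(1031,2),(43,0),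
    (1033,2),(11,0),(23,0),(37,0),(17,61),(173,0),(1039,2),(13,0),(3,347),(2,521),(7,149),(29,0),
    (11,0),(2,523),(3,349),(2,131),(1049,2),(5,1),(1051,2),(2,263),(3,13),(17,0),(5,211),(11,0),
    (7,151),(2,23),(3,353),(53,0),(1061,2),(3,1),(1063,2),(19,0),(5,0),(13,0),(11,97),(89,0),
    (1069,2),(5,0),(17,0),(2,67),(29,37),(179,0),(5,43),(2,269),(3,359),(7,1),(13,83),(5,0),
    (23,47),(2,541),(3,19),(2,271),(31,0),(181,0),(1087,2),(2,17),(3,11),(5,0),(1091,2),(0,0)]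

theorem cert_ok : CA.H28Sv.checkL 80 [60, 168, 360, 504, 660, 1092] 1 cert = true := by
  decide +kernel

/-- A non-abelian finite simple group of order at most 1092 has order 60, 168, 360, 504, 660 or 1092. -/
theorem result {G : Type*} [Group G] [Finite G] [IsSimpleGroup G]
    (hG : ¬ IsMulCommutative G) (h : Nat.card G ≤ 1092) :
    Nat.card G = 60 ∨ Nat.card G = 168 ∨ Nat.card G = 360 ∨ Nat.card G = 504 ∨ Nat.card G = 660 ∨
      Nat.card G = 1092 := by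
  simpa using CA.H28Sv.mem_of_checkL hG cert_ok Nat.card_pos
    (Nat.lt_of_le_of_lt h (by decide +kernel))

end Cfsg.Agent.S0496
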