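import Cfsg.Statements.S0983
import Cfsg.Agent.Lib.Block.H28Sv
-- import your own Cfsg.Agent.* helpers here

set_option autoImplicit false
open Cfsg

namespace Cfsg.Agent.S0983

open Subgroup MulAction in
theorem dvd_card_sub {H X : Type*} [Group H] [MulAction H X] [Finite X] (S : SubMulAction H X)
    {d : ℕ} (h : ∀ y ∈ S, d ∣ (stabilizer H y).index) : d ∣ Nat.card S := by
  classical
  have := Fintype.ofFinite (orbitRel.Quotient H S)
  rw [Nat.card_congr (selfEquivSigmaOrbits H S), Nat.card_sigma]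
  refine Finset.dvd_sum fun ω _ => ?_
  rw [Nat.card_coe_set_eq, ← index_stabilizer, SubMulAction.stabilizer_of_subMul]
  exact h _ ω.out.2

open Subgroup in
theorem no450 {M : Type*} [Group M] [Finite M] (h : Nat.card M = 450) [Fact (Nat.Prime 5)]
    {P R : Sylow 5 M} : P = R := by
  by_contra hne
  obtain ⟨Q⟩ : Nonempty (Sylow (Nat.card M).minFac M) := by
    haveI : Fact (Nat.card M).minFac.Prime := ⟨Nat.minFac_prime (by omega)⟩
    infer_instance
  have h2 : (Nat.card M).minFac = 2 := by rw [h]; norm_num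
  generalize hq : (Nat.card M).minFac = q at Q h2
  subst h2
  have h3 := CA.H28Simp.card_sylow_of (G := M) (p := 2) (a := 1) (m := 225) h (by norm_num) Q
  have h4 := (isCyclic_of_prime_card (p := 2) h3).isComplement' hq
  set K := (MonoidHom.transferSylow Q _).ker
  have h5 : K.index = 2 := by rw [h4.symm.index_eq_card, h3]; rfl
  have h6 : Nat.card K = 5 ^ 2 * 9 := by
    have := K.card_mul_index
    rw [h5] at this
    omega
  have key : ∀ S : Sylow 5 M, (S : Subgroup M) ≤ K := fun S x hx => by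
    have h7 := CA.H28Simp.card_sylow_of (G := M) (p := 5) (a := 2) (m := 18) h (by norm_num) S
    have h8 : x ^ 25 = 1 := congrArg Subtype.val (h7 ▸ pow_card_eq_one' (x := (⟨x, hx⟩ : S)))
    have h9 := K.pow_mem (K.pow_index_mem x) 13
    rwa [h5, ← pow_mul, pow_succ, h8, one_mul] at h9
  have h7 := CA.H28Sv.one_lt_card_sylow hne (key P) (key R)
  have h8 := CA.H28Simp.card_sylow_dvd h6 (by norm_num)
  have h9 := card_sylow_modEq_one 5 K
  have := Nat.le_of_dvd (by norm_num) h8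
  unfold Nat.ModEq at h9
  generalize Nat.card (Sylow 5 K) = n at *
  interval_cases n <;> omega

open Subgroup MulAction Pointwise in
theorem no5400 {G : Type*} [Group G] [Finite G] [IsSimpleGroup G] (hG : ¬ IsMulCommutative G)
    (h : Nat.card G = 5400) : False := by
  haveI : Fact (Nat.Prime 5) := ⟨by norm_num⟩
  haveI : Fact (Nat.Prime 3) := ⟨by norm_num⟩
  obtain ⟨P⟩ : Nonempty (Sylow 5 G) := inferInstance
  have hh : Nat.card G = 5 ^ 2 * 216 := h
  have hd : 5 ∣ Nat.card G := by rw [h]; norm_num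
  have hc := fun R : Sylow 5 G => CA.H28Simp.card_sylow_of hh (by norm_num) R
  have hcomm := fun R : Sylow 5 G => IsPGroup.isMulCommutative_of_card_eq_prime_sq (hc R)
  have h1 : Nat.card (Sylow 5 G) = 36 := by
    have h1 := CA.H28Simp.card_sylow_dvd hh (by norm_num)
    have h2 := CA.H28Simp.card_sylow_ne_one hG hd
    have h3 := card_sylow_modEq_one 5 G
    have h4 := CA.H28Simp.two_mul_card_dvd_sylow hG hd
    have h5 := CA.H28Simp.card_sylow_ne_index hG hd P (hcomm P)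
    rw [CA.H28Simp.index_sylow_of hh (by norm_num) P] at h5
    rw [h] at h4
    unfold Nat.ModEq at h3
    generalize Nat.card (Sylow 5 G) = n at *
    have h6 : n ∈ Nat.divisors 216 := Nat.mem_divisors.2 ⟨h1, by norm_num⟩
    have h7 : n ≠ 6 := by rintro rfl; norm_num [Nat.factorial] at h4
    have h8 : ∀ n ∈ Nat.divisors 216, n % 5 = 1 % 5 → n = 1 ∨ n = 6 ∨ n = 36 ∨ n = 216 := by decide
    have := h8 n h6 h3
    omega
  have h2 : Nat.card (normalizer ((P : Subgroup G) : Set G)) = 150 := by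
    have := (normalizer ((P : Subgroup G) : Set G)).card_mul_index
    rw [show (normalizer ((P : Subgroup G) : Set G)).index = 36 from
      P.card_eq_index_normalizer.symm.trans h1] at this
    omega
  obtain ⟨⟨u, hu⟩, hu3⟩ := exists_prime_orderOf_dvd_card' (G := normalizer ((P : Subgroup G) : Set G))
    3 (by rw [h2]; norm_num)
  rw [Subgroup.orderOf_mk] at hu3
  have key : ∀ g ∈ normalizer ((P : Subgroup G) : Set G), ∀ R : Sylow 5 G,
      (P : Subgroup G) ⊓ (g • R : Sylow 5 G) = ⊥ ↔ (P : Subgroup G) ⊓ R = ⊥ := fun g hg R => by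
    conv_lhs => rw [← Sylow.smul_eq_iff_mem_normalizer.2 hg]
    rw [Sylow.coe_subgroup_smul, Sylow.coe_subgroup_smul, ← smul_inf,
      ← smul_bot (MulAut.conj g), smul_left_cancel_iff, smul_bot]
  let S₁ : SubMulAction (zpowers u) (Sylow 5 G) := ⟨{R | R ≠ P ∧ (P : Subgroup G) ⊓ R ≠ ⊥},
    fun g R hR => ⟨fun e => hR.1 ((smul_left_cancel_iff (g : G)).1 (e.trans
      (Sylow.smul_eq_iff_mem_normalizer.2 (zpowers_le_of_mem hu g.2)).symm)),
      fun e => hR.2 ((key _ (zpowers_le_of_mem hu g.2) R).1 e)⟩⟩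
  let S₂ : SubMulAction (P : Subgroup G) (Sylow 5 G) := ⟨{R | (P : Subgroup G) ⊓ R = ⊥},
    fun g R hR => (key _ (le_normalizer g.2) R).2 hR⟩
  have h3 : 25 ∣ Nat.card S₂ := dvd_card_sub S₂ fun R hR => by
    have h3 : stabilizer (P : Subgroup G) R = ⊥ := eq_bot_iff.2 fun g hg => by
      rw [mem_stabilizer_iff, Subgroup.smul_def, Sylow.smul_eq_iff_mem_normalizer] at hg
      have h4 := P.isPGroup'.inf_normalizer_sylow R ▸ mem_inf.2 ⟨g.2, hg⟩
      rw [show (P : Subgroup G) ⊓ R = ⊥ from hR] at h4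
      exact Subtype.ext h4
    rw [h3, index_bot, hc]; rfl
  have h4 : Nat.card S₁ + Nat.card S₂ + 1 = 36 := by
    have h4 : P ∉ (S₁ : Set (Sylow 5 G)) ∪ S₂ := by
      rintro (h4 | h4)
      · exact h4.1 rfl
      · exact CA.H28Simp.sylow_ne_bot hd P ((inf_idem _).symm.trans h4)
    rw [← h1, ← Set.ncard_univ (Sylow 5 G), show (Set.univ : Set (Sylow 5 G)) = insert P ((S₁ : Set (Sylow 5 G)) ∪ S₂) from
      (Set.eq_univ_of_forall fun R => by
        by_cases e : R = P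
        · exact Or.inl e
        · by_cases e' : (P : Subgroup G) ⊓ R = ⊥
          · exact Or.inr (Or.inr e')
          · exact Or.inr (Or.inl ⟨e, e'⟩)).symm, Set.ncard_insert_of_notMem h4,
      Set.ncard_union_eq (Set.disjoint_left.2 fun R h5 h6 => h5.2 h6)]
    rfl
  obtain ⟨R, ⟨hR1, hR2⟩, hR⟩ : ∃ R ∈ S₁, u • R = R := by
    by_contra h5
    push Not at h5
    have h6 : 3 ∣ Nat.card S₁ := dvd_card_sub S₁ fun R hR => by
      have h6 := (stabilizer (zpowers u) R).index_dvd_card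
      rw [Nat.card_zpowers, hu3] at h6
      rcases (Nat.dvd_prime Nat.prime_three).1 h6 with h7 | h7
      · exact absurd (((index_eq_one.1 h7).ge : ⊤ ≤ _) (mem_top ⟨u, mem_zpowers u⟩)) (h5 R hR)
      · rw [h7]
    omega
  set M := normalizer (((P : Subgroup G) ⊓ R : Subgroup G) : Set G) with hM
  have hP : (P : Subgroup G) ≤ M := (normal_subgroupOf_iff_le_normalizer inf_le_left).1
    (haveI := hcomm P; inferInstance)
  have hR' : (R : Subgroup G) ≤ M := (normal_subgroupOf_iff_le_normalizer inf_le_right).1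
    (haveI := hcomm R; inferInstance)
  have hu' : u ∈ M := inf_normalizer_le_normalizer_inf ⟨hu, Sylow.smul_eq_iff_mem_normalizer.1 hR⟩
  have h5 : M ≠ ⊤ := CA.H28Simp.normalizer_ne_top hR2 fun e =>
    CA.H28Simp.sylow_ne_top hG P (top_le_iff.1 (e ▸ inf_le_left))
  have h6 := CA.H28Simp.two_mul_card_dvd hG M h5
  have h7 : 10 ≤ M.index := by
    by_contra h7
    have := h6.trans (Nat.factorial_dvd_factorial (show M.index ≤ 9 by omega))
    rw [h] at this
    norm_num [Nat.factorial] at this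
  have h8 := M.card_mul_index
  have h9 := CA.H28Sv.one_lt_card_sylow hR1.symm hP hR'
  have h10 := card_sylow_modEq_one 5 M
  set P' := P.subtype hP
  have h11 := (normalizer ((P' : Subgroup M) : Set M)).card_mul_index
  rw [show (normalizer ((P' : Subgroup M) : Set M)).index = _ from
    P'.card_eq_index_normalizer.symm] at h11
  have h12 : 25 ∣ Nat.card (normalizer ((P' : Subgroup M) : Set M)) := by
    have := card_dvd_of_le (le_normalizer (H := (P' : Subgroup M)))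
    rwa [Sylow.coe_subtype, Nat.card_congr (subgroupOfEquivOfLe hP).toEquiv, hc] at this
  have h13 : 3 ∣ Nat.card (normalizer ((P' : Subgroup M) : Set M)) := by
    have h13 : (⟨u, hu'⟩ : M) ∈ normalizer ((P' : Subgroup M) : Set M) := by
      rw [mem_normalizer_iff] at hu ⊢
      exact fun g => hu g
    have := orderOf_dvd_natCard (⟨_, h13⟩ : normalizer ((P' : Subgroup M) : Set M))
    rwa [Subgroup.orderOf_mk, Subgroup.orderOf_mk, hu3] at this
  obtain ⟨k, hk⟩ := Nat.Coprime.mul_dvd_of_dvd_of_dvd (by norm_num) h12 h13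
  have h14 : Nat.card M = 450 := by
    have hk0 : 0 < k := Nat.pos_of_ne_zero fun e => by
      rw [e] at hk; exact Nat.card_pos.ne' hk
    unfold Nat.ModEq at h10
    rw [hk] at h11
    generalize Nat.card (Sylow 5 M) = n at *
    have h14 : Nat.card M * 10 ≤ 5400 := by nlinarith
    have h15 : n ≤ 7 := by nlinarith
    have h16 : k ≤ 1 := by nlinarith [show 6 ≤ n by omega]
    obtain rfl : k = 1 := by omega
    omega
  exact hR1 (Sylow.ext (by
    have := congrArg (fun S : Sylow 5 M => (S : Subgroup M).map M.subtype)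
      (no450 h14 (P := R.subtype hR') (R := P'))
    simpa [P', Sylow.coe_subtype, hP, hR', inf_of_le_left] using this))

def L0 : List (ℕ × ℕ) :=
    [(11,331),(607,0),(3643,2),(2,911),(3,5),(2,1823),(7,521),(19,0),(41,89),(5,1),(3,1217),
    (83,0),(13,281),(29,0),(17,0),(2,457),(23,0),(31,0),(3659,2),(61,0),(7,523),(2,1831),(37,0),
    (2,229),(5,733),(13,0),(19,193),(131,0),(3,1223),(367,0),(3671,2),(17,0),(3673,2),(11,0),
    (7,1),(2,919),(3677,2),(613,0),(13,283),(23,0),(3,409),(263,0),(29,127),(307,0),(67,0),(19,0),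
    (3,1229),(2,461),(17,0),(41,0),(3691,2),(13,0),(3,1231),(2,1847),(5,739),(11,0),(3697,2),
    (2,43),(3,137),(5,1),(3701,2),(617,0),(7,23),(2,463),(13,0),(17,0),(11,337),(103,0),(3709,2),
    (53,0),(3,1237),(2,29),(47,79),(619,0),(5,743),(2,929),(59,0),(13,1),(3719,2),(31,0),(61,2),
    (2,1861),(17,0),(7,1),(5,149),(23,0),(3727,2),(2,233),(11,0),(373,0),(41,0),(311,0),(3733,2),
    (2,1867),(83,0),(2,467),(37,101),(89,0),(3739,2),(17,0),(29,0),(2,1871),(19,197),(13,0),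
    (107,0),(2,1873),(3,1249),(2,937),(23,163),(5,1),(11,31),(67,0),(3,139),(2,1877),(5,751),
    (313,0),(13,17),(2,1879),(179,0),(47,0),(3761,2),(19,0),(53,71),(2,941),(251,0),(269,0),
    (3767,2),(157,0),(3769,2),(29,0),(3,419),(23,0),(7,11),(37,0),(5,151),(2,59),(3,1259),
    (2,1889),(3779,2),(7,0),(19,199),(31,0),(13,0),(11,0),(5,757),(631,0),(7,541),(2,947),(3,421),
    (379,0),(17,223),(79,0),(3793,2),(271,0),(23,0),(13,0),(3797,2),(211,0),(29,131),(19,0),
    (181,0),(2,1901),(3803,2),(317,0),(5,761),(11,0),(3,47),(17,0),(13,293),(127,0),(37,103),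
    (2,953),(31,0),(2,1907),(109,0),(53,0),(11,347),(23,0),(19,0),(191,0),(3821,2),(7,1),(3823,2),
    (2,239),(17,0),(2,1913),(43,89),(29,0),(7,547),(383,0),(3,1277),(2,479),(3833,2),(71,0),
    (13,0),(137,0),(3,1279),(19,0),(11,349),(2,1),(23,167),(17,0),(61,0),(2,31),(5,769),(641,0),
    (3847,2),(37,0),(3,1283),(11,0),(3851,2),(107,0),(3853,2),(41,0),(257,0),(2,241),(19,0),
    (643,0),(17,227),(193,0),(11,0),(2,1931),(3863,2),(23,0),(5,773),(2,1933),(3,1289),(2,967),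
    (53,73),(43,0),(7,79),(2,11),(3,1291),(13,0),(5,31),(19,0),(3877,2),(277,0),(3,431),(97,0),
    (3881,2),(647,0),(11,353),(2,971),(37,0),(29,0),(13,23),(2,3),(3889,2),(389,0),(3,1297),
    (139,0),(17,229),(59,0),(19,0),(2,487),(3,433),(2,1949),(7,557),(13,0),(47,83),(2,1951),
    (3,1301),(2,61),(11,0),(31,0),(3907,2),(2,977),(3,1303),(23,0),(3911,2),(163,0),(13,0),(19,0),
    (29,0),(89,0),(3917,2),(653,0),(3919,2),(7,1),(3,1307),(37,0),(3923,2),(109,0),(5,157),(13,0),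
    (17,0),(2,491),(3929,2),(131,0),(3931,2),(2,983),(19,0),(281,0),(5,787),(41,0),(31,127),
    (11,0),(13,0),(197,0),(7,563),(73,0),(3943,2),(17,0),(263,0),(2,1973),(3947,2),(47,0),
    (11,359),(5,1),(3,439),(19,0),(59,67),(659,0),(113,0),(23,0),(3,1319),(2,1979),(37,107),
    (11,0),(17,233),(283,0),(3,1321),(2,991),(13,0),(661,0),(3967,2),(2,31),(3,7),(397,0),(11,19),
    (331,0),(29,137),(2,1987),(5,1),(71,0),(41,97),(13,0),(23,173),(199,0),(3,1327),(11,0),
    (7,569),(83,0),(5,797),(2,1993),(3,443),(2,997),(3989,2),(19,0),(13,307),(2,499),(3,11),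
    (2,1997),(17,0),(37,0),(7,571),(2,1999),(31,0),(2,5),(4001,2),(23,0),(4003,2),(11,0),(89,0),
    (2,2003),(4007,2),(167,0),(19,211),(401,0),(191,0),(17,0),(4013,2),(223,0),(11,0),(2,251),
    (13,0),(7,1),(4019,2),(67,0),(4021,2),(2,2011),(3,149),(2,503),(23,0),(61,0),(4027,2),(19,0),
    (17,0),(31,0),(29,139),(7,0),(37,109),(2,2017),(269,0),(2,1009),(11,367),(673,0),(7,577),
    (101,0),(3,449),(43,0),(13,311),(337,0),(5,809),(17,1),(19,0),(23,0),(4049,2),(2,0),(4051,2),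
    (2,1013),(193,0),(2,2027),(5,811),(13,1),(4057,2),(2,2029),(41,0),(29,0),(31,131),(677,0),
    (17,239),(2,127),(271,0),(19,0),(7,83),(113,0),(13,313),(37,0),(23,0),(2,509),(4073,2),(97,0),
    (5,163),(2,1019),(3,151),(2,2039),(4079,2),(0,0),(53,0),(157,0),(3,1361),(2,1021),(19,0),
    (227,0),(61,67),(73,0),(29,0),(409,0),(4091,2),(31,0),(4093,2),(23,0),(13,0),(2,3),(17,241),
    (683,0),(4099,2),(41,0),(3,1367),(293,0),(11,373),(19,0),(5,821),(2,2053),(3,37),(79,0),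
    (7,587),(137,0),(4111,2),(2,257),(3,457),(11,1),(5,823),(7,1),(23,179),(29,0),(3,1373),
    (103,0),(13,317),(229,0),(19,0),(2,1031),(5,1),(2,2063),(4127,2),(43,0),(4129,2),(59,0),
    (3,17),(2,1033),(4133,2),(53,0),(5,827),(47,0),(197,0),(2,2069),(4139,2),(23,0),(41,101),
    (19,0),(3,1381),(37,0),(5,829),(691,0),(29,0),(17,0),(3,461),(5,1),(7,593),(173,0),(4153,2),
    (31,0),(277,0),(2,1039),(4157,2),(11,0),(4159,2),(13,0),(19,0),(2,2081),(23,181),(347,0),
    (7,1),(2,2083),(3,463),(2,521),(11,379),(139,0),(43,97),(149,0),(13,0),(2,2087),(5,167),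
    (29,0),(4177,2),(2,2089),(199,0),(19,0),(37,113),(17,0),(47,89),(2,523),(31,0),(23,0),(53,79),
    (349,0),(59,71),(419,0),(11,0),(2,131),(7,599),(233,0),(5,839),(2,1049),(3,1399),(2,2099),
    (19,0),(7,0),(4201,2),(11,0),(3,467),(2,1051),(5,29),(701,0),(7,601),(2,263),(23,0),(421,0),
    (4211,2),(13,0),(11,383),(43,0),(281,0),(17,0),(4217,2),(19,0),(4219,2),(211,0),(67,0),
    (2,2111),(41,103),(11,0),(5,13),(2,2113),(3,1409),(151,0),(4229,2),(47,0),(4231,2),(2,23),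
    (17,0),(29,0),(11,1),(353,0),(19,223),(13,0),(3,157),(53,0),(4241,2),(101,0),(4243,2),
    (2,1061),(283,0),(11,0),(31,137),(59,0),(7,607),(5,1),(13,0),(2,1063),(4253,2),(709,0),(37,0),
    (19,0),(43,0),(2,2129),(4259,2),(71,0),(4261,2),(2,2131),(29,0),(41,0),(5,853),(79,0),
    (17,251),(11,0),(3,1423),(61,0),(4271,2),(89,0),(4273,2),(2,2137),(19,0),(2,1069),(13,0),
    (31,0),(11,389),(107,0),(3,1427),(2,2141),(4283,2),(17,0),(5,857),(2,2143),(3,1429),(2,67)]

theorem c0 : CA.H28Sv.checkL 80 [4080, 5400, 5616, 6048, 6072] 3641 L0 = true ∧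
    L0.length = 648 := by decide +kernel

def L1 : List (ℕ × ℕ) :=
    [(4289,2),(13,0),(7,613),(29,0),(3,53),(19,0),(5,859),(179,0),(4297,2),(307,0),(3,1433),
    (43,0),(23,0),(239,0),(13,331),(2,269),(41,0),(2,2153),(59,73),(359,0),(31,139),(431,0),
    (3,479),(11,0),(19,227),(719,0),(5,863),(13,0),(3,1439),(17,0),(7,617),(5,0),(29,149),
    (2,2161),(11,0),(47,0),(5,173),(103,0),(4327,2),(2,541),(37,0),(433,0),(61,71),(19,1),(7,619),
    (11,0),(17,1),(2,271),(4337,2),(241,0),(4339,2),(31,0),(3,1447),(13,0),(43,101),(181,0),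
    (11,0),(41,0),(23,0),(2,1087),(4349,2),(5,1),(19,229),(2,17),(3,1451),(311,0),(13,0),(11,1),
    (4357,2),(2,2179),(3,1453),(109,0),(7,89),(727,0),(4363,2),(2,1091),(97,0),(37,0),(11,397),
    (7,0),(17,257),(23,0),(31,0),(2,1093),(4373,2),(2,3),(5,7),(2,547),(3,1459),(199,0),(29,151),
    (73,0),(13,337),(313,0),(3,487),(2,137),(5,877),(43,0),(41,107),(2,1097),(11,0),(439,0),
    (4391,2),(61,0),(23,191),(2,13),(293,0),(157,0),(4397,2),(733,0),(53,83),(11,0),(3,163),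
    (31,0),(17,0),(367,0),(5,881),(2,2203),(13,0),(29,0),(4409,2),(7,1),(11,401),(2,1103),
    (3,1471),(2,2207),(5,883),(23,0),(7,631),(2,47),(3,491),(17,0),(4421,2),(67,0),(4423,2),
    (79,0),(5,1),(2,2213),(19,233),(41,0),(43,103),(443,0),(211,0),(2,277),(31,0),(739,0),(5,887),
    (2,1109),(29,0),(317,0),(23,193),(37,0),(4441,2),(2,2221),(3,1481),(11,0),(127,0),(13,0),
    (4447,2),(2,139),(3,1483),(5,1),(4451,2),(53,0),(61,73),(17,0),(11,0),(2,557),(4457,2),
    (743,0),(7,13),(223,0),(3,1487),(23,0),(4463,2),(31,0),(19,0),(29,0),(3,1489),(2,1117),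
    (41,109),(149,0),(17,263),(43,0),(71,0),(2,2237),(5,179),(373,0),(11,37),(2,2239),(3,1493),
    (2,1),(4481,2),(83,0),(4483,2),(19,0),(23,0),(2,2243),(7,641),(17,0),(67,2),(449,0),(3,499),
    (2,1123),(4493,2),(107,0),(29,0),(2,281),(3,1499),(13,0),(11,409),(5,1),(7,643),(2,2251),
    (19,0),(2,563),(17,0),(751,0),(4507,2),(7,1),(3,167),(41,0),(13,347),(47,0),(4513,2),(37,0),
    (43,0),(2,1129),(4517,2),(251,0),(4519,2),(113,0),(11,0),(19,0),(4523,2),(29,0),(5,181),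
    (31,0),(3,503),(2,283),(7,647),(151,0),(23,197),(11,0),(3,1511),(2,2267),(5,907),(7,0),
    (13,349),(2,2269),(17,0),(227,0),(19,239),(757,0),(11,0),(2,71),(101,0),(2,2273),(4547,2),
    (379,0),(4549,2),(13,0),(37,0),(2,569),(29,157),(23,0),(5,911),(17,0),(7,1),(43,0),(47,97),
    (19,0),(4561,2),(2,2281),(3,13),(163,0),(11,0),(761,0),(4567,2),(2,571),(3,1523),(457,0),
    (7,653),(127,0),(17,269),(2,2287),(61,0),(13,0),(23,199),(109,0),(19,241),(229,0),(3,509),
    (29,0),(4583,2),(191,0),(131,0),(2,2293),(11,0),(31,0),(13,353),(17,0),(4591,2),(41,0),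
    (3,1531),(2,2297),(5,919),(383,0),(4597,2),(11,1),(73,0),(23,0),(43,107),(59,0),(4603,2),
    (2,1151),(307,0),(7,1),(17,271),(2,3),(11,419),(461,0),(29,0),(2,1153),(7,659),(769,0),(13,0),
    (2,577),(3,19),(2,2309),(31,149),(7,0),(4621,2),(2,2311),(23,0),(2,17),(5,37),(257,0),(7,661),
    (13,0),(3,1543),(463,0),(11,421),(193,0),(41,113),(331,0),(103,0),(19,0),(4637,2),(773,0),
    (4639,2),(29,0),(13,0),(11,0),(4643,2),(43,0),(5,929),(23,0),(3,1549),(83,0),(4649,2),(31,0),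
    (4651,2),(2,1163),(47,0),(13,0),(7,1),(97,0),(4657,2),(137,0),(3,1553),(233,0),(59,79),(37,0),
    (4663,2),(53,0),(311,0),(2,2333),(13,359),(389,0),(23,0),(467,0),(3,173),(2,73),(4673,2),
    (19,0),(17,0),(167,0),(3,1559),(2,2339),(4679,2),(13,0),(31,151),(2,2341),(223,0),(2,1171),
    (5,937),(11,0),(43,109),(2,293),(3,521),(67,0),(4691,2),(23,0),(13,19),(2,2347),(313,0),
    (2,587),(11,0),(29,0),(37,127),(5,1),(3,1567),(2,2351),(4703,2),(7,1),(5,941),(13,0),(3,523),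
    (11,0),(17,277),(157,0),(7,673),(31,0),(3,1571),(2,2357),(23,0),(131,0),(53,89),(337,0),
    (11,1),(59,0),(4721,2),(787,0),(4723,2),(2,1181),(5,1),(17,0),(29,163),(197,0),(4729,2),
    (43,0),(19,0),(13,1),(4733,2),(263,0),(5,947),(2,37),(3,1579),(23,0),(7,677),(79,0),(11,431),
    (2,2371),(31,0),(2,593),(13,0),(113,0),(47,101),(2,1187),(3,1583),(5,1),(4751,2),(11,0),
    (7,97),(2,2377),(317,0),(29,0),(67,71),(61,0),(4759,2),(17,0),(3,23),(2,2381),(11,433),
    (397,0),(5,953),(2,2383),(227,0),(2,149),(19,251),(53,0),(13,367),(2,1193),(37,0),(31,0),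
    (5,191),(199,0),(17,281),(2,2389),(3,59),(239,0),(7,683),(797,0),(4783,2),(23,0),(29,0),
    (2,2393),(4787,2),(19,0),(4789,2),(479,0),(3,1597),(2,599),(4793,2),(17,0),(137,0),(11,0),
    (41,0),(2,2399),(4799,2),(3,0),(4801,2),(2,7),(3,1601),(2,1201),(5,31),(89,0),(23,0),(2,601),
    (229,0),(37,0),(17,283),(401,0),(4813,2),(29,0),(107,0),(43,0),(4817,2),(11,0),(61,79),
    (241,0),(3,1607),(2,2411),(53,0),(67,0),(5,193),(19,0),(3,1609),(17,0),(11,439),(23,0),
    (4831,2),(2,151),(3,179),(2,2417),(5,967),(13,0),(7,691),(41,0),(3,1613),(11,1),(47,103),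
    (269,0),(29,167),(173,0),(19,0),(2,2423),(37,131),(101,0),(13,373),(5,1),(7,1),(2,1213),
    (23,211),(809,0),(5,971),(2,607),(3,1619),(347,0),(43,113),(3,1),(4861,2),(17,0),(3,1621),
    (2,19),(139,0),(811,0),(31,157),(2,1217),(3,541),(487,0),(4871,2),(29,0),(11,443),(2,2437),
    (5,1),(23,0),(4877,2),(271,0),(17,0),(61,0),(3,1627),(2,2441),(19,257),(37,0),(5,977),(349,0),
    (3,181),(47,0),(4889,2),(163,0),(67,73),(2,1223),(233,0),(2,2447),(89,0),(17,0),(59,83),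
    (31,0),(23,0),(5,1),(13,29),(19,0),(4903,2),(2,613),(109,0),(11,0),(7,701),(409,0),(4909,2),
    (491,0),(3,1637),(2,307),(17,2),(13,0),(5,983),(2,1229),(11,0),(2,2459),(4919,2),(41,0),
    (19,0),(23,0),(3,547),(2,1231),(5,197),(821,0),(13,379),(11,0),(31,0),(29,0),(4931,2),(137,0),
    (4933,2),(2,2467),(47,0),(2,617)]

theorem c1 : CA.H28Sv.checkL 80 [4080, 5400, 5616, 6048, 6072] 4289 L1 = true ∧
    L1.length = 648 := by decide +kernel

def L2 : List (ℕ × ℕ) :=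
    [(4937,2),(823,0),(11,449),(13,0),(3,61),(353,0),(4943,2),(103,0),(23,0),(2,2473),(17,0),
    (2,1237),(7,101),(11,0),(4951,2),(2,619),(13,0),(2,2477),(5,991),(59,0),(4957,2),(37,0),
    (29,0),(31,0),(11,41),(827,0),(7,709),(17,0),(331,0),(13,0),(4967,2),(23,0),(4969,2),(71,0),
    (3,1657),(11,0),(4973,2),(829,0),(5,199),(2,311),(79,0),(19,0),(13,383),(83,0),(17,293),
    (47,0),(11,0),(89,0),(5,997),(277,0),(4987,2),(29,0),(3,1663),(499,0),(23,0),(13,0),(4993,2),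
    (11,0),(37,0),(2,1249),(19,263),(7,1),(4999,2),(2,5),(3,1667),(41,0),(5003,2),(139,0),(13,0),
    (2,2503),(3,1669),(2,313),(5009,2),(167,0),(5011,2),(179,0),(3,557),(23,0),(17,0),(19,0),
    (29,173),(13,0),(239,0),(251,0),(5021,2),(31,0),(5023,2),(2,157),(5,1),(359,0),(11,457),
    (419,0),(47,107),(503,0),(43,0),(17,0),(7,719),(839,0),(19,0),(2,1259),(23,0),(11,0),(5039,2),
    (5,0),(71,2),(2,2521),(3,41),(13,0),(5,1009),(29,1),(7,103),(2,631),(17,0),(101,0),(5051,2),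
    (421,0),(31,163),(19,1),(337,0),(2,79),(13,389),(281,0),(5059,2),(23,0),(241,0),(2,2531),
    (61,83),(211,0),(5,1013),(17,0),(3,563),(181,0),(37,137),(13,1),(11,461),(2,317),(19,0),
    (43,0),(5,1),(47,0),(5077,2),(2,2539),(3,1693),(127,0),(5081,2),(11,1),(23,0),(31,0),(113,0),
    (2,2543),(5087,2),(53,0),(7,727),(509,0),(3,1697),(67,0),(11,463),(283,0),(5,1019),(7,1),
    (3,1699),(2,2549),(5099,2),(17,0),(5101,2),(2,2551),(3,7),(29,0),(5,1021),(23,0),(5107,2),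
    (2,1277),(131,0),(73,0),(19,269),(71,0),(5113,2),(2,2557),(31,0),(2,1279),(17,0),(853,0),
    (5119,2),(2,5),(3,569),(13,0),(47,109),(61,0),(5,41),(11,0),(3,1709),(2,641),(23,223),(19,0),
    (7,733),(2,1283),(59,0),(17,0),(13,0),(107,0),(11,467),(367,0),(3,571),(257,0),(53,97),
    (857,0),(37,139),(2,643),(7,1),(31,0),(5147,2),(11,0),(19,271),(5,1),(17,0),(23,0),(5153,2),
    (859,0),(5,1031),(2,1289),(3,191),(2,2579),(67,0),(43,0),(13,397),(29,0),(3,1721),(2,1291),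
    (5,1033),(41,0),(5167,2),(19,0),(3,1723),(47,0),(5171,2),(431,0),(7,739),(13,0),(23,0),
    (2,647),(31,167),(863,0),(5179,2),(37,0),(11,0),(2,2591),(71,73),(2,3),(17,0),(2,2593),(13,0),
    (2,1297),(5189,2),(173,0),(29,179),(59,0),(3,577),(7,1),(5,1039),(433,0),(5197,2),(23,0),
    (3,1733),(13,0),(7,743),(17,1),(11,43),(2,1301),(347,0),(19,0),(41,127),(31,0),(5209,2),
    (521,0),(3,193),(2,1303),(13,401),(11,0),(149,0),(2,163),(37,0),(2,2609),(17,307),(29,0),
    (23,227),(373,0),(3,1741),(2,653),(19,0),(13,0),(5227,2),(2,1307),(83,0),(523,0),(5231,2),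
    (109,0),(5233,2),(2,2617),(349,0),(17,0),(5237,2),(97,0),(13,31),(131,0),(3,1747),(2,2621),
    (7,107),(23,0),(5,1049),(43,0),(53,0),(2,41),(29,181),(5,1),(59,89),(13,0),(17,0),(37,0),
    (5,1051),(73,0),(7,751),(11,0),(3,1753),(263,0),(5261,2),(877,0),(19,277),(47,0),(3,1),
    (2,2633),(23,229),(439,0),(11,479),(31,0),(251,0),(2,659),(5273,2),(293,0),(5,211),(2,1319),
    (3,1759),(29,0),(5279,2),(11,0),(5281,2),(19,0),(3,587),(2,1321),(151,0),(881,0),(17,311),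
    (2,661),(41,0),(23,1),(37,0),(7,1),(67,79),(2,2647),(353,0),(2,331),(5297,2),(883,0),(7,757),
    (53,0),(19,0),(11,0),(5303,2),(13,0),(5,1061),(379,0),(29,0),(2,1327),(5309,2),(59,0),
    (47,113),(2,83),(23,0),(2,2657),(5,1063),(443,0),(13,409),(2,2659),(3,197),(19,0),(17,313),
    (887,0),(5323,2),(2,11),(71,0),(2,2663),(7,761),(37,0),(73,2),(41,0),(3,1777),(31,0),(5333,2),
    (127,0),(11,0),(29,0),(3,593),(17,0),(19,281),(89,0),(7,109),(2,2671),(13,0),(2,167),(5,1069),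
    (3,1),(5347,2),(191,0),(3,1783),(5,1),(5351,2),(223,0),(53,101),(2,2677),(17,0),(13,0),
    (11,487),(19,0),(23,233),(67,0),(3,1787),(383,0),(31,173),(149,0),(29,0),(2,2683),(3,1789),
    (61,0),(13,0),(179,0),(41,131),(17,0),(3,199),(2,2687),(5,43),(7,0),(19,283),(2,2689),(11,0),
    (269,0),(5381,2),(23,0),(7,769),(2,673),(359,0),(2,2693),(5387,2),(449,0),(17,317),(11,0),
    (3,599),(2,337),(5393,2),(29,0),(13,0),(19,0),(257,0),(2,2699),(5399,2),(0,0),(11,491),(37,0),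
    (3,1801),(193,0),(47,0),(17,0),(5407,2),(2,13),(3,601),(541,0),(7,773),(41,0),(5413,2),
    (2,2707),(19,1),(2,677),(5417,2),(43,0),(5419,2),(271,0),(13,0),(2,2711),(29,0),(113,0),
    (31,0),(2,2713),(3,67),(23,0),(61,89),(181,0),(5431,2),(97,0),(3,1811),(19,0),(5,1087),
    (151,0),(5437,2),(2,2719),(7,1),(17,0),(5441,2),(907,0),(5443,2),(2,1361),(11,1),(389,0),
    (13,419),(227,0),(5449,2),(5,1),(23,0),(29,0),(19,0),(101,0),(5,1091),(31,0),(17,0),(2,2729),
    (53,103),(13,0),(43,127),(2,2731),(3,607),(2,683),(5,1093),(911,0),(11,0),(2,1367),(3,1823),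
    (547,0),(5471,2),(19,0),(13,421),(23,0),(5,1),(2,37),(5477,2),(11,0),(5479,2),(137,0),(29,0),
    (2,2741),(5483,2),(457,0),(5,1097),(13,0),(31,0),(2,7),(11,499),(61,0),(17,19),(2,1373),
    (3,1831),(41,0),(157,0),(229,0),(23,239),(2,2749),(47,0),(5,1),(5501,2),(131,0),(5503,2),
    (2,43),(367,0),(2,2753),(5507,2),(17,0),(7,787),(29,0),(11,0),(53,0),(37,149),(919,0),
    (5,1103),(197,0),(3,613),(31,0),(5519,2),(23,0),(5521,2),(11,0),(263,0),(2,1381),(17,0),
    (307,0),(5527,2),(2,691),(19,0),(79,0),(5531,2),(461,0),(11,503),(2,2767),(41,0),(2,173),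
    (7,113),(13,0),(29,191),(277,0),(3,1847),(17,0),(23,241),(11,0),(5,1109),(47,0),(3,43),(19,0),
    (31,179),(37,0),(13,0),(2,347),(3,617),(2,2777),(11,0),(463,0),(5557,2),(397,0),(17,0),
    (139,0),(67,83),(103,0),(5563,2),(13,0),(53,0),(23,0),(19,293),(29,0),(5569,2),(557,0),
    (3,619),(199,0),(5573,2),(929,0),(5,223),(17,0),(13,1),(2,2789),(7,797),(31,0),(5581,2),
    (2,2791),(3,1861),(2,349)]

theorem c2 : CA.H28Sv.checkL 80 [4080, 5400, 5616, 6048, 6072] 4937 L2 = true ∧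
    L2.length = 648 := by decide +kernel

def L3 : List (ℕ × ℕ) :=
    [(5,1117),(19,0),(37,151),(127,0),(3,23),(13,0),(5591,2),(233,0),(17,0),(2,2797),(373,0),
    (2,1399),(29,193),(311,0),(11,509),(7,0),(3,1867),(2,2801),(13,431),(467,0),(19,0),(2,2803),
    (89,0),(2,701),(71,79),(17,0),(31,181),(23,0),(3,1871),(401,0),(5,1123),(0,0),(41,137),(2,53),
    (3,1873),(281,0),(11,0),(937,0),(5623,2),(19,0),(3,5),(29,0),(17,331),(67,0),(13,433),(563,0),
    (3,1877),(2,11),(43,131),(313,0),(7,1),(2,1409),(3,1879),(2,2819),(5639,2),(47,0),(5641,2),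
    (31,0),(19,0),(17,0),(5,1129),(941,0),(5647,2),(2,353),(269,0),(5,1),(5651,2),(157,0),
    (5653,2),(11,0),(29,0),(101,0),(5657,2),(23,0),(5659,2),(283,0),(17,0),(19,0),(7,809),(59,0),
    (11,0),(2,2833),(3,1889),(13,0),(5669,2),(7,0),(53,107),(2,709),(31,0),(2,2837),(5,227),
    (11,0),(7,811),(17,0),(3,631),(71,0),(23,0),(947,0),(5683,2),(29,0),(379,0),(2,2843),(11,47),
    (79,0),(5689,2),(569,0),(271,0),(2,1423),(5693,2),(13,0),(17,0),(2,89),(3,211),(37,0),
    (41,139),(19,0),(5701,2),(2,2851),(3,1901),(23,0),(163,0),(317,0),(13,439),(2,1427),(11,0),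
    (571,0),(5711,2),(17,0),(29,197),(2,2857),(127,0),(2,1429),(5717,2),(953,0),(19,0),(13,0),
    (3,1907),(2,2861),(59,97),(53,0),(5,229),(409,0),(23,0),(2,179),(17,337),(191,0),(11,521),
    (2,1433),(7,1),(47,0),(31,0),(239,0),(5737,2),(19,0),(3,1913),(41,0),(5741,2),(29,0),(5743,2),
    (2,359),(383,0),(13,1),(7,821),(479,0),(5749,2),(23,0),(3,71),(2,719),(11,523),(137,0),
    (5,1151),(2,1439),(19,0),(2,2879),(13,443),(5,0),(7,823),(43,0),(17,0),(11,0),(5,1153),(31,1),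
    (73,79),(103,0),(3,641),(577,0),(29,199),(37,0),(23,251),(2,2887),(11,0),(2,19),(53,109),
    (107,0),(5779,2),(17,1),(41,0),(7,1),(5783,2),(241,0),(13,0),(11,0),(3,643),(2,1447),(7,827),
    (193,0),(5791,2),(2,181),(3,1931),(2,2897),(19,0),(23,0),(17,0),(13,0),(3,1933),(29,0),
    (5801,2),(967,0),(7,829),(2,1451),(43,0),(2,2903),(5807,2),(11,1),(37,157),(83,0),(13,0),
    (2,1453),(5813,2),(19,0),(5,1163),(2,727),(277,0),(2,2909),(11,23),(97,0),(5821,2),(41,0),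
    (3,647),(7,0),(5,233),(971,0),(5827,2),(47,0),(29,0),(53,0),(7,17),(2,3),(19,307),(2,2917),
    (389,0),(2,1459),(13,449),(139,0),(5839,2),(73,0),(59,0),(23,0),(5843,2),(487,0),(167,0),
    (37,0),(3,1949),(43,0),(5849,2),(13,0),(5851,2),(19,0),(3,1951),(2,2927),(5,1171),(61,0),
    (5857,2),(29,0),(31,0),(293,0),(5861,2),(977,0),(41,0),(2,733),(23,0),(419,0),(5867,2),
    (163,0),(5869,2),(587,0),(19,0),(2,367),(7,839),(89,0),(5,47),(13,0),(3,653),(2,2939),
    (5879,2),(5,0),(5881,2),(17,0),(37,0),(2,1471),(11,0),(109,0),(7,29),(2,23),(13,0),(31,0),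
    (43,137),(491,0),(71,83),(421,0),(131,0),(67,0),(5897,2),(983,0),(17,347),(59,0),(281,0),
    (13,0),(5903,2),(41,0),(5,1181),(2,2953),(11,0),(211,0),(19,311),(197,0),(23,257),(2,739),
    (3,73),(2,2957),(13,1),(17,0),(61,97),(11,0),(3,1973),(37,0),(31,191),(47,0),(5923,2),
    (2,1481),(5,1),(2,2963),(5927,2),(13,0),(7,11),(593,0),(3,659),(2,1483),(17,349),(23,0),
    (5,1187),(53,0),(3,1979),(2,2969),(5939,2),(11,0),(13,457),(2,2971),(283,0),(2,743),(29,0),
    (991,0),(19,313),(2,1487),(3,661),(5,1),(11,541),(31,0),(5953,2),(13,0),(397,0),(2,1489),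
    (23,0),(331,0),(59,101),(149,0),(3,1987),(11,0),(67,89),(71,0),(5,1193),(19,0),(17,0),(2,373),
    (47,127),(199,0),(7,853),(2,1493),(11,0),(29,0),(5,239),(83,0),(43,139),(7,1),(3,1993),(23,0),
    (5981,2),(997,0),(31,193),(17,0),(19,0),(41,0),(5987,2),(499,0),(53,113),(599,0),(3,1997),
    (107,0),(13,461),(37,0),(11,0),(2,1499),(3,1999),(2,2999),(7,857),(5,1),(17,353),(2,3001),
    (23,0),(19,0),(5,1201),(11,0),(6007,2),(2,751),(3,2003),(601,0),(6011,2),(167,0),(7,859),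
    (31,0),(401,0),(2,47),(11,547),(17,0),(13,463),(43,0),(3,223),(2,3011),(19,317),(251,0),
    (5,241),(23,0),(7,1),(11,0),(6029,2),(67,0),(37,163),(29,0),(3,2011),(431,0),(17,0),(503,0),
    (6037,2),(2,3019),(61,0),(151,0),(7,863),(19,0),(6043,2),(2,1511),(31,0),(2,3023),(6047,2),
    (0,0),(23,263),(11,1),(3,2017),(17,0),(6053,2),(1009,0),(173,0),(2,757),(3,673),(13,0),
    (73,83),(101,0),(29,0),(433,0),(43,0),(2,379),(5,1213),(337,0),(6067,2),(37,0),(17,1),(607,0),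
    (13,467),(0,0),(6073,2),(2,3037),(3,5),(7,1),(59,103),(1013,0),(6079,2),(19,0),(3,2027),
    (2,3041),(11,0),(13,1),(5,1217),(17,0),(3,2029),(2,761),(6089,2),(29,0),(6091,2),(2,1523),
    (3,677),(11,0),(23,0),(127,0),(67,0),(2,3049),(19,0),(61,0),(6101,2),(113,0),(17,359),(109,0),
    (37,0),(43,0),(31,197),(509,0),(41,149),(47,0),(97,0),(2,191),(6113,2),(1019,0),(5,1223),
    (11,0),(3,2039),(23,0),(29,211),(17,0),(6121,2),(2,3061),(157,0),(2,1531),(5,7),(1021,0),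
    (11,557),(2,383),(3,227),(613,0),(6131,2),(73,0),(6133,2),(2,3067),(409,0),(59,0),(17,19),
    (31,0),(7,877),(307,0),(23,0),(37,0),(6143,2),(2,3),(5,1229),(439,0),(3,683),(29,0),(43,0),
    (41,0),(6151,2),(2,769),(293,0),(17,0),(5,1231),(19,0),(47,131),(2,3079),(3,2053),(7,0),
    (61,101),(79,0),(6163,2),(23,0),(137,0),(2,3083),(7,881),(257,0),(31,199),(617,0),(11,1),
    (2,1543),(6173,2),(7,1),(19,0),(2,193),(29,0),(2,3089),(37,167),(103,0),(7,883),(281,0),
    (3,229),(2,773),(5,1237),(1031,0),(23,269),(17,0),(3,2063),(619,0),(41,151),(43,0),(11,563),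
    (19,0),(59,0),(2,1549),(6197,2),(1033,0),(6199,2),(31,0),(53,0),(443,0),(6203,2),(47,0),
    (17,0),(29,0),(3,2069),(2,97),(7,887),(23,0),(6211,2),(2,1553),(19,0),(13,0),(11,0),(37,0),
    (6217,2),(2,3109),(3,691),(311,0),(6221,2),(17,0),(7,127),(2,389),(5,1),(11,0),(13,479),
    (173,0),(6229,2),(89,0),(31,0),(19,0)]

theorem c3 : CA.H28Sv.checkL 80 [4080, 5400, 5616, 6048, 6072] 5585 L3 = true ∧
    L3.length = 648 := by decide +kernel


/-- A non-abelian finite simple group of order greater than 3640 and at most 6232 has order 4080, 5616, 6048 or 6072. -/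
theorem result {G : Type*} [Group G] [Finite G] [IsSimpleGroup G] (hG : ¬ IsMulCommutative G) (h1 : 3640 < Nat.card G) (h2 : Nat.card G ≤ 6232) : Nat.card G = 4080 ∨ Nat.card G = 5616 ∨ Nat.card G = 6048 ∨ Nat.card G = 6072 := by
  have h3 : Nat.card G ∈ [4080, 5400, 5616, 6048, 6072] := by
    by_cases h10 : Nat.card G < 4289
    · exact CA.H28Sv.mem_of_checkL hG c0.1 (by omega) (by rw [c0.2]; omega)
    by_cases h11 : Nat.card G < 4937
    · exact CA.H28Sv.mem_of_checkL hG c1.1 (by omega) (by rw [c1.2]; omega)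
    by_cases h12 : Nat.card G < 5585
    · exact CA.H28Sv.mem_of_checkL hG c2.1 (by omega) (by rw [c2.2]; omega)
    exact CA.H28Sv.mem_of_checkL hG c3.1 (by omega) (by rw [c3.2]; omega)
  have h4 : Nat.card G ≠ 5400 := no5400 hG
  simp only [List.mem_cons, List.not_mem_nil, or_false] at h3
  omega

end Cfsg.Agent.S0983
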