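import Cfsg.Statements.S0497
import Cfsg.Agent.Lib.Block.H28E2
import Cfsg.Agent.S0254
-- import your own Cfsg.Agent.* helpers here

set_option autoImplicit false
open Cfsg

namespace Cfsg.Agent.S0497

open Subgroup CA.H28Syl CA.H28SC CA.H28E2 CA.H28Simp CA.H28BT

/-- A simple group of order 360 is isomorphic to the alternating group of degree 6. -/
theorem result {G : Type*} [Group G] [Finite G] [IsSimpleGroup G]
    (h : Nat.card G = 360) : Nonempty (G ≃* alternatingGroup (Fin 6)) := by
  have hG : ¬ IsMulCommutative G := not_comm_of_card (by rw [h]; norm_num)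
  have := Fact.mk Nat.prime_five
  have := Fact.mk Nat.prime_three
  obtain ⟨x, hx⟩ := exists_isSylGen (G := G) (p := 5) (by rw [h]; decide) (by rw [h]; decide)
  have h1 := card_sylow_dvd (G := G) (p := 5) (a := 1) (m := 72) h (by decide)
  have h2 := card_sylow_modEq_one 5 G
  have h3 := card_sylow_ne_one hG (p := 5) (by rw [h]; decide)
  obtain h4 | h4 : Nat.card (Sylow 5 G) = 6 ∨ Nat.card (Sylow 5 G) = 36 := by
    have := Nat.le_of_dvd (by decide) h1
    rw [Nat.ModEq] at h2
    generalize Nat.card (Sylow 5 G) = n at *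
    interval_cases n <;> omega
  · exact equiv_alt hG (NN x) 6 (by decide) (hx.card_sylow.symm.trans h4) (by rw [h]; rfl)
  obtain ⟨hs, he⟩ := sc_two hG hx (by rw [h, h4])
  obtain ⟨ζ, ψ, ε, T⟩ := exists_two hG hs he
  obtain ⟨hz, hy, rfl⟩ : charDegree ζ.1 = 9 ∧ charDegree ψ.1 = 8 ∧ ε = -1 := by
    have c1 := T.deg
    have c2 := T.cong
    have c3 := h4 ▸ T.dvd₁
    have c4 := h4 ▸ T.dvd₂
    have c5 := T.lt₁
    have c6 := T.bt 2 3 2 Nat.prime_two (by decide) (by rw [h]; decide) ζ (Or.inl rfl)
    have := Nat.le_of_dvd (by decide) c3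
    generalize charDegree ζ.1 = z at *
    generalize charDegree ψ.1 = y at *
    rcases T.sgn with rfl | rfl
    · obtain rfl : y = z + 1 := by omega
      interval_cases z <;> omega
    · obtain rfl : z = y + 1 := by omega
      have : y ≤ 72 := by omega
      interval_cases y <;> omega
  have h5 : ∀ g : G, 3 ∣ orderOf g → ∀ r, r.Prime → r ∣ orderOf g → r = 3 := fun g hg r hr hd => by
    have h6 := SC_no hs (by decide) g hg
    have h7 : r ∣ 2 ^ 3 * (3 ^ 2 * 5) := hd.trans ((orderOf_dvd_natCard g).trans h.dvd)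
    rw [hr.dvd_mul, hr.dvd_mul] at h7
    rcases h7 with e | e | e
    · obtain rfl := (Nat.prime_dvd_prime_iff_eq hr Nat.prime_two).1 (hr.dvd_of_dvd_pow e)
      have := T.reg g h6
      rw [vanish (χ := ζ) Nat.prime_three (m := 40) (by rw [h, hz]) (by decide) hg,
        vanish (χ := ψ) Nat.prime_two (m := 45) (by rw [h, hy]) (by decide) hd] at this
      simp at this
    · exact (Nat.prime_dvd_prime_iff_eq hr Nat.prime_three).1 (hr.dvd_of_dvd_pow e)
    · exact absurd ((Nat.prime_dvd_prime_iff_eq hr Nat.prime_five).1 e ▸ hd) h6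
  have h6 := card_sylow_of (G := G) (p := 3) (a := 2) (m := 40) h (by decide)
  have h7 : ∀ S : Sylow 3 G, IsMulCommutative (S : Subgroup G) := fun S =>
    IsPGroup.isMulCommutative_of_card_eq_prime_sq (h6 S)
  have h8 : Nat.card (Sylow 3 G) = 9 + 1 := by
    obtain ⟨S⟩ : Nonempty (Sylow 3 G) := inferInstance
    have c1 := card_sylow_dvd (G := G) (p := 3) (a := 2) (m := 40) h (by decide)
    have c2 := card_sylow_modEq_one 3 G
    have c3 := card_sylow_ne_one hG (p := 3) (by rw [h]; decide)
    have c4 := card_sylow_ne_index hG (p := 3) (by rw [h]; decide) S (h7 S)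
    have c5 := two_mul_card_dvd_sylow hG (p := 3) (by rw [h]; decide)
    rw [index_sylow_of (a := 2) (m := 40) h (by decide)] at c4
    rw [h] at c5
    have := Nat.le_of_dvd (by decide) c1
    rw [Nat.ModEq] at c2
    generalize Nat.card (Sylow 3 G) = n at *
    interval_cases n <;> first | omega | (simp [Nat.factorial] at c5)
  obtain ⟨F, _, _, -, ⟨e⟩⟩ := zass (fun S s hs h1 => CC_eq h5 S h1 hs fun u hu =>
    congrArg Subtype.val ((h7 S).is_comm.comm ⟨u, hu⟩ ⟨s, hs⟩)) (q := 9) (by decide) (by decide) h6 h8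
    (d := 18) h
  have h9 := CA.SLnCard.card_PSL2 (F := F)
  rw [← Nat.card_congr e.toEquiv, h, Nat.card_eq_fintype_card] at h9
  obtain ⟨e'⟩ := S0254.result (F := F) (by
    generalize Fintype.card F = q at h9
    have h10 := Nat.gcd_le_left (q - 1) two_pos
    have : q ≤ 9 := by
      by_contra h11
      have h12 : 10 ^ 2 ≤ q ^ 2 := Nat.pow_le_pow_left (by omega) 2
      have := Nat.mul_le_mul (show 10 ≤ q by omega) (show 99 ≤ q ^ 2 - 1 by omega)
      omega
    interval_cases q <;> first | rfl | (simp at h9))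
  exact ⟨e.trans e'⟩

end Cfsg.Agent.S0497
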