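import Cfsg.Statements.S0498
import Cfsg.Agent.Lib.Block.H28Br5
-- import your own Cfsg.Agent.* helpers here

set_option autoImplicit false
open Cfsg

namespace Cfsg.Agent.S0498

/-- A simple group of order 660, respectively 1092, is isomorphic to the projective special linear group of dimension 2
over the field with 11, respectively 13, elements. -/
theorem result {G : Type*} [Group G] [Finite G] [IsSimpleGroup G] (p : ℕ)
    (hp : p = 11 ∨ p = 13) (h : 2 * Nat.card G = p * (p ^ 2 - 1)) {F : Type*} [Field F] [Fintype F]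
    (hF : Fintype.card F = p) : Nonempty (G ≃* Matrix.ProjectiveSpecialLinearGroup (Fin 2) F) := by
  have : Fact p.Prime := ⟨by rcases hp with rfl | rfl <;> norm_num⟩
  have h0 : (p = 11 ∧ Nat.card G = 660) ∨ (p = 13 ∧ Nat.card G = 1092) := by
    rcases hp with rfl | rfl <;> omega
  obtain ⟨-, ⟨-, ⟨e⟩⟩ | ⟨m, -, -, -, -, h1, h2, -⟩⟩ := CA.H28Br5.simple_of_lt (G := G) (p := p)
    (CA.H28Simp.not_comm_of_card (by rcases h0 with ⟨-, h0⟩ | ⟨-, h0⟩ <;> rw [h0] <;> norm_num))
    (by rcases h0 with ⟨rfl, h0⟩ | ⟨rfl, h0⟩ <;> rw [h0] <;> norm_num)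
    (by rcases h0 with ⟨rfl, h0⟩ | ⟨rfl, h0⟩ <;> rw [h0] <;> norm_num)
  · obtain ⟨i⟩ := CA.FieldIso.nonempty_zmod (F := F) p (by rw [Nat.card_eq_fintype_card, hF])
    exact ⟨e.trans (CA.FieldIso.pslEquiv i.symm)⟩
  · rcases h0 with ⟨rfl, h0⟩ | ⟨rfl, h0⟩
    · rw [h0, show 2 ^ m = 10 by omega] at h2
      norm_num at h2
    · rw [h0, show 2 ^ m = 12 by omega] at h2
      norm_num at h2

end Cfsg.Agent.S0498
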