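import Cfsg.Statements.S0984
import Cfsg.Agent.Lib.GW.A7b
import Cfsg.Agent.Lib.Grp.L0Frob
import Cfsg.Agent.S0215

set_option autoImplicit false
set_option linter.unusedSectionVars false
set_option linter.unusedVariables false
set_option linter.style.haveILetI false
open Cfsg

namespace Cfsg.Agent.S0984

open Subgroup CA.BG CA.MC2 CA.GW CA.A7 CA

variable {G : Type*} [Group G] [Finite G] [IsSimpleGroup G] {S X : Subgroup G} {a g u v w y : G}

theorem card_S (h : Nat.card G = 2520) (hS : Syl 2 S ⊤) : ♯S = 8 := by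
  obtain ⟨P, rfl⟩ := hS.exists_sylow_top Nat.prime_two
  exact H28Simp.card_sylow_of (a := 3) (m := 315) h (by decide) P

theorem fuse (hS : Syl 2 S ⊤) (hc : S ≤ 𝓒(S)) (hu : u ∈ S) (hg : g * u * g⁻¹ ∈ S) :
    ∃ n ∈ 𝓝(S), n * u * n⁻¹ = g * u * g⁻¹ := by
  have h1 : Syl 2 S 𝓒₁(g * u * g⁻¹) := hS.of_le (hc.trans (cent_le_cent1 hg)) le_top
  have h2 : Syl 2 (cj g S) 𝓒₁(g * u * g⁻¹) := (hS.cj_mem (mem_top g)).of_le
    (by rw [← cj_cent1]; exact cj_mono g (hc.trans (cent_le_cent1 hu))) le_top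
  obtain ⟨c, hc, e⟩ := h2.syl_conj Nat.prime_two h1
  refine ⟨c * g, mem_norm_iff_cj.2 (by rw [cj_mul, e]), ?_⟩
  rw [← conj_eq_of_cent hc]; group

theorem not_iso (h : Nat.card G = 2520) (hS : Syl 2 S ⊤) (hu : u ∈ S) (h2 : orderOf u = 2) :
    ∃ g : G, g * u * g⁻¹ ∈ S ∧ g * u * g⁻¹ ≠ u := by
  by_contra h1
  push Not at h1
  obtain ⟨P, rfl⟩ := hS.exists_sylow_top Nat.prime_two
  obtain ⟨N, hN, ho, h3⟩ := S0215.result P u h2 hu h1
  rcases hN.eq_bot_or_eq_top with rfl | rfl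
  · refine H28Simp.centralizer_ne_top (not_comm h) (ne_one_of_ord h2) (eq_top_iff.2 fun g _ => mem_cent1.2 ?_)
    have := mem_bot.1 (h3 g)
    rw [mul_inv_eq_one, mul_inv_eq_iff_eq_mul] at this
    exact this.symm
  · rw [card_top, h] at ho; exact absurd ho (by decide)

theorem dih (h : Nat.card G = 2520) (hS : Syl 2 S ⊤) (ha : a ∈ S) (h4 : orderOf a = 4) :
    DihSyl (⊤ : Subgroup G) := by
  have h8 := card_S h hS
  have z2 : orderOf (a ^ 2) = 2 := by rw [orderOf_pow, h4]; rfl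
  obtain ⟨g, hg, hne⟩ := not_iso h hS (pow_mem ha 2) z2
  have y2 := (ord_conj g _).trans z2
  have hi : (zpowers a).relIndex S = 2 := by
    have := card_mul_relIndex (zp_le.2 ha)
    rw [Nat.card_zpowers, h4, h8] at this; omega
  have hn : S ≤ 𝓝(zpowers a) := (normal_subgroupOf_iff_le_normalizer (zp_le.2 ha)).1 (normal_of_index_eq_two hi)
  have hy : g * a ^ 2 * g⁻¹ ∉ zpowers a := fun e =>
    hne (cyc_inv_eq (cyc_zpowers a) e (pow_mem (mem_zpowers a) 2) y2 z2)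
  have hV : V4 a (g * a ^ 2 * g⁻¹) = S := eq_of_le_of_card_le (V4_le ha hg) (by
    rw [V4_comm, card_sup_of_disjoint (zp_le.2 (hn hg)) (inf_eq_bot_of_prime_not_le
      (by rw [Nat.card_zpowers, y2]; decide) fun e => hy (zp_le.1 e)), Nat.card_zpowers, Nat.card_zpowers,
      y2, h4, h8])
  rcases MC3.eq_or_inv_of_four h4 (conj_mem_of_norm hn hg (mem_zpowers a)) ((ord_conj _ a).trans h4) with e | e
  · have hc : S ≤ 𝓒(S) := comm_iff_le_cent.1 (hV ▸ comm_sup (comm_of_cyclic (cyc_zpowers _))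
      (comm_of_cyclic (cyc_zpowers _)) (by
        rw [cent_zpowers]; exact zp_le.2 (mem_cent1_symm.1 (mem_cent1_of_conj e))))
    obtain ⟨n, hn', e1⟩ := fuse hS hc (pow_mem ha 2) hg
    refine absurd ?_ hy
    rw [← e1, ← conj_pow]
    exact sq_mem_of_index_two hi ⟨_, conj_mem_of_mem_norm hn' ha⟩
  · exact ⟨1, a, _, _, DS.mk' ⟨h4, hy, by simpa using e, by
      rw [sq, sq_of_ord y2]; simp, by simp⟩ hS hV rfl⟩

theorem cls_disj (h : v ∉ cls X u) : Disjoint (cls X u) (cls X v) := Set.disjoint_left.2 fun _ ⟨g, hg, e⟩ ⟨k, hk, e'⟩ =>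
  h ⟨k⁻¹ * g, mul_mem (inv_mem hk) hg, by rw [mul_assoc k⁻¹, mul_inv_rev, ← mul_assoc, mul_assoc k⁻¹, e, ← e']; group⟩

theorem norm5 (h : ♯X = 40) (hy : y ∈ X) (h5 : orderOf y = 5) (hw : w ∈ X) (h5' : orderOf w = 5) :
    w ∈ zpowers y := by
  haveI := Fact.mk Nat.prime_five
  have h1 := H28Simp.card_sylow_dvd (G := X) (p := 5) (a := 1) (m := 8) h (by decide)
  have h2 := card_sylow_modEq_one 5 X
  have h3 : Nat.card (Sylow 5 X) = 1 := by
    have := Nat.le_of_dvd (by decide) h1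
    rw [Nat.ModEq] at h2
    generalize Nat.card (Sylow 5 X) = n at *
    interval_cases n <;> omega
  haveI := (Nat.card_eq_one_iff_unique.1 h3).1
  have key : ∀ z ∈ X, orderOf z = 5 → Syl 5 (zpowers z) X := fun z hz h6 => by
    have := card_mul_relIndex (zp_le.2 hz)
    rw [Nat.card_zpowers, h6, h] at this
    exact Syl.mk'' Nat.prime_five (zp_le.2 hz) (isPi_of_card_eq Nat.prime_five (by rw [Nat.card_zpowers, h6]))
      (by omega)
  obtain ⟨P, hP⟩ := (key y hy h5).exists_sylow Nat.prime_five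
  obtain ⟨Q, hQ⟩ := (key w hw h5').exists_sylow Nat.prime_five
  rw [← hP, Subsingleton.elim P Q, hQ]; exact mem_zpowers w

section E8
variable (h : Nat.card G = 2520) (hS : Syl 2 S ⊤) (he : ∀ a ∈ S, a * a = 1)
include h hS he

omit h hS in
theorem S_comm : S ≤ 𝓒(S) := fun a ha => mem_cent.2 fun b hb => by
  rw [← inv_of_sq (he _ (mul_mem hb ha)), mul_inv_rev, inv_of_sq (he a ha), inv_of_sq (he b hb)]

theorem invs_S : (Invs S).ncard = 7 := by
  have : Invs S = (S : Set G) \ {1} := Set.ext fun a =>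
    ⟨fun ha => ⟨ha.2, ne_one_of_ord ha.1⟩, fun ha => ⟨ord_two (he a ha.1) ha.2, ha.1⟩⟩
  rw [this, Set.ncard_sdiff_singleton_of_mem (one_mem S), show (S : Set G).ncard = 8 from card_S h hS]

theorem cls_eq (hu : u ∈ Invs S) : cls 𝓝(S) u = Invs S := by
  have sub : ∀ u ∈ Invs S, cls 𝓝(S) u ⊆ Invs S := fun u hu => cls_sub hu.1 hu.2 le_rfl
  have key : ∀ u ∈ Invs S, 3 ≤ (cls 𝓝(S) u).ncard ∧ (cls 𝓝(S) u).ncard % 2 = 1 := fun u hu => by
    have h1 := not_dvd_relIndex_of_le Nat.prime_two (hS.of_le le_normalizer le_top)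
      ((S_comm he).trans (cent_le_cent1 hu.2))
    obtain ⟨g, hg, hne⟩ := not_iso h hS hu.2 hu.1
    have h2 := (Set.one_lt_ncard (s := cls 𝓝(S) u)).2 ⟨_, fuse hS (S_comm he) hu.2 hg, u,
      ⟨1, one_mem _, by group⟩, hne⟩
    rw [← ncard_cls] at h1; omega
  have h7 := invs_S h hS he
  refine (sub u hu).antisymm fun v hv => by_contra fun hn => ?_
  have h1 := Set.ncard_union_eq (cls_disj hn)
  have h2 := Set.union_subset (sub u hu) (sub v hv)
  have h3 := Set.ncard_le_ncard h2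
  have h4 := key u hu
  have h5 := key v hv
  obtain ⟨w, hw, hw'⟩ := Set.exists_mem_notMem_of_ncard_lt_ncard (s := cls 𝓝(S) u ∪ cls 𝓝(S) v)
    (t := Invs S) (by omega)
  have h6 := Set.ncard_union_eq (Set.disjoint_union_left.2 ⟨cls_disj fun e => hw' (Or.inl e),
    cls_disj fun e => hw' (Or.inr e)⟩)
  have h8 := Set.ncard_le_ncard (Set.union_subset h2 (sub w hw))
  have := key w hw
  omega

omit h in
theorem sq_one (hg : g ^ 8 = 1) : g * g = 1 := by
  obtain ⟨k, -, hk⟩ := hS.syl_conj_le Nat.prime_two (K := zpowers g)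
    (isPi_zpowers.2 ((piNat_pow Nat.prime_two 3).of_dvd (orderOf_dvd_of_pow_eq_one hg))) le_top
  have := he _ (hk (conj_mem_cj.2 (mem_zpowers g)))
  rwa [conj_mul, conj_eq_one_iff] at this

theorem invs_mod (hX : S ≤ X) : (Invs X).ncard % 8 = 7 := by
  have h1 := L0Frob.dvd_card_pow_eq_one (G := X) (card_S h hS ▸ card_dvd hX)
  have h2 : Subtype.val '' {g : X | g ^ 8 = 1} = insert 1 (Invs X) := by
    ext a
    refine ⟨?_, ?_⟩
    · rintro ⟨g, hg, rfl⟩
      exact or_iff_not_imp_left.2 fun e => ⟨ord_two (sq_one hS he (congrArg Subtype.val hg)) e, g.2⟩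
    · rintro (rfl | ha)
      · exact ⟨1, one_pow _, rfl⟩
      · exact ⟨⟨a, ha.2⟩, Subtype.ext (orderOf_dvd_iff_pow_eq_one.1 (by rw [ha.1]; decide) : a ^ 8 = 1), rfl⟩
  have h3 := Set.ncard_image_of_injective {g : X | g ^ 8 = 1} Subtype.val_injective
  rw [h2, Set.ncard_insert_of_notMem fun e => ne_one_of_ord e.1 rfl] at h3
  change 8 ∣ Set.ncard {g : X | g ^ 8 = 1} at h1
  omega

theorem cls_top (hu : u ∈ Invs S) : cls ⊤ u = Invs ⊤ :=
  (cls_sub hu.1 (mem_top u) le_normalizer).antisymm fun j hj => by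
    obtain ⟨k, -, hk⟩ := hS.syl_conj_le Nat.prime_two (pi2_zp (sq_of_ord hj.1)) le_top
    obtain ⟨n, -, e⟩ : k * j * k⁻¹ ∈ cls 𝓝(S) u := (cls_eq h hS he hu).ge
      ⟨(ord_conj k j).trans hj.1, hk (conj_mem_cj.2 (mem_zpowers j))⟩
    exact ⟨k⁻¹ * n, trivial, by rw [mul_assoc k⁻¹, mul_inv_rev, ← mul_assoc, mul_assoc k⁻¹, e]; group⟩

theorem e8 (h7 : ∀ X : Subgroup G, X.index ≠ 7) : False := by
  have c7 := invs_S h hS he
  obtain ⟨u, hu⟩ := Set.nonempty_of_ncard_ne_zero (s := Invs S) (by omega)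
  have hC := (S_comm he).trans (cent_le_cent1 hu.2)
  have h1 := ncard_cls ⊤ u
  have h2 := invs_mod h hS he le_top
  have h3 := 𝓒₁(u).index_mul_card
  have hN := card_inf_mul_relIndex 𝓒₁(u) 𝓝(S)
  have hN' := 𝓝(S).index_mul_card
  obtain ⟨k, hk⟩ := card_dvd hC
  rw [← ncard_cls, cls_eq h hS he hu, c7] at hN
  rw [cls_top h hS he hu, relIndex_top_right] at h1
  rw [h1] at h2
  rw [card_S h hS] at hk
  rw [h] at h3 hN'
  obtain h4 | h4 : 𝓒₁(u).index = 15 ∨ 𝓒₁(u).index = 63 := by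
    have h4 : 𝓒₁(u).index ∈ Nat.divisors 315 :=
      Nat.mem_divisors.2 ⟨⟨k, by rw [hk, mul_left_comm] at h3; omega⟩, by decide⟩
    have h5 := h7 𝓒₁(u)
    exact (by decide : ∀ n ∈ Nat.divisors 315, n % 8 = 7 → n ≠ 7 → n = 15 ∨ n = 63) _ h4 h2 h5
  · have h5 := invs_mod h hS he hC
    have h6 := invs_mono (le_top (a := 𝓒₁(u)))
    have h8 := Set.ncard_le_ncard h6
    obtain h9 | h9 : (Invs 𝓒₁(u)).ncard = 7 ∨ (Invs 𝓒₁(u)).ncard = 15 := by omega
    · have e := Set.eq_of_subset_of_ncard_le (invs_mono hC) (by omega)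
      have h10 : 𝓒₁(u) ≤ 𝓝(S) := fun g hg => mem_norm_of_cj_le fun x hx => by
        obtain ⟨y, hy, rfl⟩ := mem_cj'.1 hx
        by_cases y1 : y = 1
        · simp [y1]
        · exact (e.ge ⟨(ord_conj g y).trans (ord_two (he y hy) y1), mul_mem (mul_mem hg (hC hy)) (inv_mem hg)⟩).2
      rw [inf_eq_left.2 h10] at hN
      rw [← hN, show ♯𝓒₁(u) = 168 by rw [h4] at h3; omega] at hN'
      omega
    · have e := Set.eq_of_subset_of_ncard_le h6 (by omega)
      have h10 : normalClosure {u} ≤ 𝓒₁(u) := (closure_le _).2 fun x hx => by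
        obtain ⟨y, rfl, hy⟩ := Group.mem_conjugatesOfSet_iff.1 hx
        obtain ⟨g, rfl⟩ := isConj_iff.1 hy
        exact (e.ge ⟨(ord_conj g y).trans hu.1, trivial⟩).2
      rcases (normalClosure_normal (s := {u})).eq_bot_or_eq_top with h11 | h11
      · exact ne_one_of_ord hu.1 (mem_bot.1 (h11 ▸ subset_normalClosure rfl))
      · rw [top_le_iff.1 (h11.ge.trans h10), index_top] at h4; omega
  have c40 : ∀ w ∈ Invs S, ♯𝓒₁(w) = 40 := fun w hw => by
    obtain ⟨g, -, rfl⟩ := (cls_eq h hS he hu).ge hw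
    rw [← cj_cent1, card_cj]; rw [h4] at h3; omega
  obtain ⟨y, hy, y5⟩ := exists_orderOf_eq (H := 𝓒₁(u)) Nat.prime_five (by rw [c40 u hu]; decide)
  have p5 : ∀ y : G, orderOf y = 5 → (♯(zpowers y)).Prime := fun y h => by rw [Nat.card_zpowers, h]; decide
  have big : ∀ w ∈ Invs S, ∀ y ∈ 𝓒₁(w), orderOf y = 5 → 4 ≤ ♯(𝓒₁(y) ⊓ S) := fun w hw y hy y5 => by
    have a1 : cls S y ⊆ {y, y⁻¹} := by
      rintro _ ⟨a, ha, rfl⟩
      have a2 := cent_le_cent1 hw.2 (S_comm he ha)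
      by_cases a3 : zpowers y ≤ 𝓒₁(a)
      · exact Or.inl (conj_eq_of_cent (mem_cent1_symm.1 (zp_le.1 a3)))
      · exact Or.inr (ivt_of_cent (he a ha) (mem_norm_of_cj_le (by
          rw [cj_zpowers]; exact zp_le.2 (norm5 (c40 w hw) hy y5 (mul_mem (mul_mem a2 hy) (inv_mem a2))
            ((ord_conj a y).trans y5)))) (inf_eq_bot_of_prime_not_le (p5 y y5) a3) y (mem_zpowers y))
    have a2 := (Set.ncard_le_ncard a1).trans (Set.ncard_insert_le _ _)
    have a3 := card_inf_mul_relIndex 𝓒₁(y) S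
    rw [Set.ncard_singleton, ncard_cls] at a2
    rw [card_S h hS] at a3
    nlinarith
  have nN : 𝓝(S) ≤ 𝓝(zpowers y) := fun n hn => mem_norm_of_cj_le (by
    have a1 : n * u * n⁻¹ ∈ Invs S := cls_sub hu.1 hu.2 le_rfl ⟨n, hn, rfl⟩
    have a2 : n * y * n⁻¹ ∈ 𝓒₁(n * u * n⁻¹) := by rwa [← cj_cent1, conj_mem_cj]
    have a3 := (ord_conj n y).trans y5
    have a4 := big u hu y hy y5
    have a5 := big _ a1 _ a2 a3
    have a6 := card_sup_mul_inf (A := 𝓒₁(y) ⊓ S) (N := 𝓒₁(n * y * n⁻¹) ⊓ S)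
      (norm_of_cent (le_cent_mono (S_comm he) inf_le_right inf_le_right))
    have a7 := card_le_of_le' (sup_le inf_le_right inf_le_right : 𝓒₁(y) ⊓ S ⊔ 𝓒₁(n * y * n⁻¹) ⊓ S ≤ S)
    rw [card_S h hS] at a7
    obtain ⟨v, hv, v1⟩ := exists_ne_one (X := 𝓒₁(y) ⊓ S ⊓ (𝓒₁(n * y * n⁻¹) ⊓ S)) fun e => by
      rw [e, card_bot] at a6; nlinarith
    rw [cj_zpowers]
    exact zp_le.2 (norm5 (c40 v ⟨ord_two (he v hv.1.2) v1, hv.1.2⟩) (mem_cent1_symm.1 hv.1.1) y5
      (mem_cent1_symm.1 hv.2.1) a3))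
  haveI := Fact.mk Nat.prime_five
  have hY : Syl 5 (zpowers y) ⊤ := Syl.mk'' Nat.prime_five le_top
    (isPi_of_card_eq Nat.prime_five (by rw [Nat.card_zpowers, y5])) (by
      have := (zpowers y).index_mul_card
      rw [Nat.card_zpowers, y5, h] at this
      rw [relIndex_top_right]; omega)
  obtain ⟨P, hP⟩ := hY.exists_sylow_top Nat.prime_five
  have b1 : 𝓝(zpowers y).index % 5 = 1 := hP ▸ P.card_eq_index_normalizer ▸ card_sylow_modEq_one 5 G
  have b2 : 𝓝(zpowers y).index ≠ 1 := hP ▸ P.card_eq_index_normalizer ▸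
    H28Simp.card_sylow_ne_one (not_comm h) (by rw [h]; decide)
  have b3 := 𝓝(zpowers y).index_mul_card
  have b4 := card_dvd nN
  have b5 := card_dvd (le_inf hC le_normalizer)
  have b6 := card_dvd (le_normalizer (H := zpowers y))
  rw [card_S h hS] at b5
  rw [Nat.card_zpowers, y5] at b6
  obtain ⟨j, hj⟩ : 280 ∣ ♯𝓝(zpowers y) := by
    have := (hN ▸ Nat.mul_dvd_mul_right b5 7).trans b4
    omega
  rw [h, hj, mul_left_comm] at b3
  have b7 : 𝓝(zpowers y).index ∣ 9 := ⟨j, by omega⟩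
  have := Nat.le_of_dvd (by decide) b7
  generalize 𝓝(zpowers y).index = n at *
  interval_cases n <;> omega

end E8

/-- A simple group of order 2520 is isomorphic to the alternating group of degree 7. -/
theorem result {G : Type*} [Group G] [Finite G] [IsSimpleGroup G] (h : Nat.card G = 2520) : Nonempty (G ≃* alternatingGroup (Fin 7)) := by
  by_cases h7 : ∀ X : Subgroup G, X.index ≠ 7
  swap
  · push Not at h7
    obtain ⟨X, hX⟩ := h7
    exact H28Simp.equiv_alt (not_comm h) X 7 (by norm_num) hX (by rw [h]; rfl)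
  obtain ⟨S, hS⟩ := syl_exists Nat.prime_two (⊤ : Subgroup G)
  by_cases he : ∀ a ∈ S, a * a = 1
  · exact (e8 h hS he h7).elim
  push Not at he
  obtain ⟨a, ha, h1⟩ := he
  have h2 := orderOf_dvd_card_of_mem ha
  rw [card_S h hS] at h2
  have h3 : ¬ orderOf a ∣ 2 := by rwa [orderOf_dvd_iff_pow_eq_one, sq]
  obtain h4 | h4 : orderOf a = 4 ∨ orderOf a = 8 := by
    have := Nat.le_of_dvd (by decide) h2
    generalize orderOf a = n at *
    interval_cases n <;> omega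
  · exact a7_of_ds h (dih h hS ha h4)
  · exact a7_of_ds h (dih h hS (pow_mem ha 2) (by rw [orderOf_pow, h4]; rfl))

end Cfsg.Agent.S0984
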