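import Cfsg.Statements.S1011
import Cfsg.Agent.Lib.Block.H28E2
-- import your own Cfsg.Agent.* helpers here

set_option autoImplicit false
open Cfsg

namespace Cfsg.Agent.S1011

open Finset Subgroup CA.H28Syl CA.H28SC CA.H28E2 CA.H28Simp CA.H28BT CChar.CharOrth

/-- A simple group of order 504 is isomorphic to the projective special linear group of dimension 2 over the field with 8 elements. -/
theorem result {G : Type*} [Group G] [Finite G] [IsSimpleGroup G] (h : Nat.card G = 504) {F : Type*} [Field F] [Fintype F] (hF : Fintype.card F = 8) : Nonempty (G ≃* Matrix.ProjectiveSpecialLinearGroup (Fin 2) F) := by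
  classical
  have hG : ¬ IsMulCommutative G := not_comm_of_card (by rw [h]; norm_num)
  have := Fact.mk (show Nat.Prime 7 by norm_num)
  have := Fact.mk Nat.prime_two
  have := Fintype.ofFinite G
  obtain ⟨x, hx⟩ := exists_isSylGen (G := G) (p := 7) (by rw [h]; decide) (by rw [h]; decide)
  have h1 := card_sylow_dvd (G := G) (p := 7) (a := 1) (m := 72) h (by decide)
  have h2 := card_sylow_modEq_one 7 G
  have h3 := card_sylow_ne_one hG (p := 7) (by rw [h]; decide)
  have h4 : Nat.card (Sylow 7 G) = 36 := by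
    have h5 : Nat.card (Sylow 7 G) ≠ 1 + 1 * 7 := fun e => by
      obtain ⟨-, ⟨h6, -⟩ | ⟨m, -, -, -, -, h6, -⟩⟩ := CA.H28Br5.simple_cases hG hx.dvd_card
        hx.not_sq_dvd e (CA.H28Br5.not_star_of_lt (by decide) (by decide))
      · omega
      · rcases m with _ | _ | _ | m <;> omega
    have := Nat.le_of_dvd (by decide) h1
    rw [Nat.ModEq] at h2
    generalize Nat.card (Sylow 7 G) = n at *
    interval_cases n <;> omega
  obtain ⟨hs, he⟩ := sc_two hG hx (by rw [h, h4])
  obtain ⟨ζ, ψ, ε, T⟩ := exists_two hG hs he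
  obtain ⟨hz, hy, rfl⟩ : charDegree ζ.1 = 8 ∧ charDegree ψ.1 = 9 ∧ ε = 1 := by
    have c1 := T.deg
    have c2 := T.cong
    have c3 := h4 ▸ T.dvd₁
    have c4 := h4 ▸ T.dvd₂
    have c5 := T.lt₁
    have := Nat.le_of_dvd (by decide) c3
    generalize charDegree ζ.1 = z at *
    generalize charDegree ψ.1 = y at *
    rcases T.sgn with rfl | rfl
    · obtain rfl : y = z + 1 := by omega
      interval_cases z <;> omega
    · obtain rfl : z = y + 1 := by omega
      have : y ≤ 72 := by omega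
      interval_cases y <;> omega
  have v2 := @vanish G _ _ ζ 2 Nat.prime_two 63 (by rw [h, hz]) (by decide)
  have v3 := @vanish G _ _ ψ 3 Nat.prime_three 56 (by rw [h, hy]) (by decide)
  have h5 : ∀ (g : G) (r : ℕ), r.Prime → r ∣ orderOf g → r = 2 ∨ ζ.1 g = 1 ∨ ζ.1 g = -1 := by
    intro g r hr hd
    by_cases h6 : 7 ∣ orderOf g
    · exact Or.inr (Or.inl (by simpa using T.sing g h6))
    have h7 : r ∣ 2 ^ 3 * (3 ^ 2 * 7) := hd.trans ((orderOf_dvd_natCard g).trans h.dvd)
    rw [hr.dvd_mul, hr.dvd_mul] at h7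
    rcases h7 with e | e | e
    · exact Or.inl ((Nat.prime_dvd_prime_iff_eq hr Nat.prime_two).1 (hr.dvd_of_dvd_pow e))
    · obtain rfl := (Nat.prime_dvd_prime_iff_eq hr Nat.prime_three).1 (hr.dvd_of_dvd_pow e)
      have := T.reg g h6
      rw [v3 hd, Int.cast_one] at this
      exact Or.inr (Or.inr (by linear_combination -this))
    · exact absurd ((Nat.prime_dvd_prime_iff_eq hr Fact.out).1 e ▸ hd) h6
  have h6 := card_sing ζ.2 (r := 2) (by decide) (fun g => v2) fun g h1 h2 => by
    obtain ⟨r, hr, hd⟩ := Nat.exists_prime_and_dvd (mt orderOf_eq_one_iff.1 h1)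
    exact (h5 g r hr hd).resolve_left fun e => h2 (e ▸ hd)
  obtain ⟨S⟩ : Nonempty (Sylow 2 G) := inferInstance
  have h7 := card_sylow_of (G := G) (p := 2) (a := 3) (m := 63) h (by decide) S
  have : Nontrivial (S : Subgroup G) := Finite.one_lt_card_iff_nontrivial.1 (by rw [h7]; decide)
  obtain ⟨k, hk, h8⟩ := IsPGroup.card_center_eq_prime_pow h7 (by decide)
  obtain ⟨t, ht⟩ := exists_prime_orderOf_dvd_card' (G := center (S : Subgroup G)) 2
    (h8 ▸ dvd_pow_self 2 hk.ne')
  rw [← Subgroup.orderOf_coe, ← Subgroup.orderOf_coe] at ht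
  have h9 := card_centralizer_mul_card_class (t.1 : G)
  rw [show centralizer {(t.1 : G)} = S from CC_eq (fun g hg r hr hd => (h5 g r hr hd).resolve_right
    (by simp [v2 hg])) S (fun e => by simp [e] at ht) t.1.2 fun u hu =>
      congrArg Subtype.val (mem_center_iff.1 t.2 ⟨u, hu⟩), h7, h] at h9
  have h10 : ∀ g, IsConj (t.1 : G) g → orderOf g = 2 := fun g hg => by
    obtain ⟨u, rfl⟩ := isConj_iff.1 hg
    rw [orderOf_conj', ht]
  have h11 := eq_of_subset_of_card_le (s := univ.filter (IsConj (t.1 : G)))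
    (t := univ.filter fun g : G => 2 ∣ orderOf g)
    (fun g hg => by simp [h10 g (mem_filter.1 hg).2]) (by rw [hz] at h6; omega)
  have h12 : ∀ g : G, Even (orderOf g) → orderOf g = 2 := fun g hg => h10 g
    (mem_filter.1 (h11.ge (mem_filter.2 ⟨mem_univ g, hg.two_dvd⟩))).2
  obtain ⟨a, K, _, _, c1, c2, ⟨e⟩⟩ := CA.H28Fe2.sl2_of_count (G := G) (p := 9) (by decide)
    (by decide) h h12 (by
      rw [filter_congr (q := fun g : G => 2 ∣ orderOf g) fun g _ =>
        ⟨fun e => e ▸ dvd_rfl, fun e => h12 g (even_iff_two_dvd.2 e)⟩]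
      rw [hz] at h6
      omega)
  obtain ⟨e'⟩ := CA.H28Br5.psl_of_sl hG e
  exact ⟨e'.trans (CA.FieldIso.pslEquiv (FiniteField.ringEquivOfCardEq (by omega)))⟩

end Cfsg.Agent.S1011
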