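import Cfsg.Statements.S3968
import Cfsg.Agent.Lib.Odd.BGMisc
import Cfsg.Agent.Lib.Char.CharMisc
import Cfsg.Agent.Lib.Char.Cons

set_option autoImplicit false
open Cfsg

namespace Cfsg.Agent.S3968

open CA.BG CA.OQuo Subgroup CChar
open scoped commutatorElement

/-- Let `p` be a prime and `G` a finite group with a faithful irreducible complex character of degree `p` (so `G` is an irreducible linear group in `p` variables). If `p ^ 2` divides the order of `G`, then the centre of `G` is nontrivial. -/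
theorem result {G : Type*} [Group G] [Finite G] (p : ℕ) (hp : p.Prime) (χ : Cfsg.IrrCharacter G) (hdeg : χ.1 1 = p) (hfaith : ∀ g : G, χ.1 g = χ.1 1 → g = 1) (hdiv : p ^ 2 ∣ Nat.card G) : Subgroup.center G ≠ ⊥ := by
  classical
  intro hZ
  have hχ := χ.2
  have hch := CharFun.char_of_irr hχ
  have hker : CharKer.charKer χ.1 = ⊥ := by
    rw [eq_bot_iff]; intro g hg; exact hfaith g ((CharKer.mem_charKer hch).1 hg)
  obtain ⟨P, hP⟩ := syl_exists hp (⊤ : Subgroup G)
  have hP2 : p ^ 2 ∣ ♯P := by
    obtain ⟨S, rfl⟩ := hP.exists_sylow_top hp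
    haveI := Fact.mk hp
    exact S.pow_dvd_card_of_pow_dvd_card hdiv
  have hz : ∀ z ∈ 𝓒(P), z ≠ 1 → χ.1 z = 0 := by
    intro z hz h1
    have := not_dvd_relIndex_of_le hp hP (le_cent1_iff.2 hz)
    rw [relIndex_top_right] at this
    rcases CharInt.eq_zero_or_mem_charCenter_of_coprime hχ hdeg z ((Nat.Prime.coprime_iff_not_dvd hp).2 this) with h | h
    · exact h
    · rw [CharKer.charCenter_eq_center hχ hker, hZ, mem_bot] at h; exact absurd h h1
  have hPne : P ≠ ⊥ := by
    rintro rfl
    rw [card_bot] at hP2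
    exact hp.one_lt.ne' (Nat.dvd_one.1 ((dvd_pow_self p two_ne_zero).trans hP2))
  have hcomm : P ≤ 𝓒(P) := by
    letI := Fintype.ofFinite P
    have hr := CharFun.char_restrict hch P
    have key : ∀ ψ, IsIrrCharacter P ψ → classInner (fun x : P => χ.1 x) ψ ≠ 0 → ψ 1 = 1 := by
      intro ψ hψ h0
      obtain ⟨ξ, hξ, he⟩ := CA.Cons.exists_eq_add hr hψ h0
      obtain ⟨n, -, hn⟩ := CharFun.irr_apply_one hψ
      obtain ⟨m, hm⟩ := CharFun.char_apply_one hξ
      have e1 := congrFun he 1
      simp only [OneMemClass.coe_one, Pi.add_apply, hdeg, hn, hm] at e1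
      have e2 : p = n + m := by exact_mod_cast e1
      obtain ⟨k, hk⟩ := hP.pi.exists_card hp
      obtain ⟨j, -, hj⟩ := (Nat.dvd_prime_pow hp).1 (hk ▸ CharInt.degree_dvd_card hψ hn)
      rcases j with _ | j
      · rw [hn, hj]; simp
      · exfalso
        have : p ≤ n := hj ▸ Nat.le_self_pow (by omega) p
        have hm0 : m = 0 := by omega
        rw [hm0, Nat.cast_zero] at hm
        rw [CharFun.char_eq_zero_of_apply_one hξ hm, add_zero] at he
        obtain ⟨z, hz1, hz2⟩ := exists_ne_one (hP.pi.center_ne_bot hPne)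
        have hc : (⟨z, hz1.1⟩ : P) ∈ center P := mem_center_iff.2 fun g => Subtype.ext (mem_cent.1 hz1.2 g g.2)
        have := (CharKer.mem_charCenter (CharFun.char_of_irr hψ)).1 (CharKer.center_le_charCenter hψ hc)
        rw [← he] at this
        simp only [OneMemClass.coe_one, hdeg, hz z hz1.2 hz2] at this
        simp at this
        exact hp.ne_zero (by exact_mod_cast this.symm)
    intro a ha
    rw [mem_cent]
    intro b hb
    have := CharKer.mem_charKer_of_forall (CharFun.char_classFun hr) (g := ⁅(⟨b, hb⟩ : P), ⟨a, ha⟩⁆)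
      (fun ψ hψ h0 => (CharKer.irr_apply_one_iff hψ).1 (key ψ hψ h0)
        (commutator_mem_commutator (mem_top _) (mem_top _)))
    have h2 := hfaith _ ((CharKer.mem_charKer hr).1 this)
    exact commutatorElement_eq_one_iff_mul_comm.1 h2
  obtain ⟨k, hk⟩ := CharMisc.card_dvd_degree_of_vanish hch P fun g hg h1 => hz g (hcomm hg) h1
  rw [hdeg] at hk
  have e : p = ♯P * k := by exact_mod_cast hk
  have : p ^ 2 ∣ p := hP2.trans ⟨k, e⟩
  have := Nat.le_of_dvd hp.pos this
  nlinarith [hp.one_lt]

end Cfsg.Agent.S3968
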