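import Cfsg.Statements.S0927
import Cfsg.Agent.Lib.Block.BlkHeight

set_option autoImplicit false
open Cfsg

namespace Cfsg.Agent.S0927
open Cfsg MonoidAlgebra CA.BlkAlg CA.BlkVal CA.BlkOmega CA.BlkRed CA.BlkCore CA.BlkDefect CA.BlkInd CA.BlkHeight CA.SylIn CA.H12PPart CChar.CharFun CChar.CharOrth Subgroup

/-- Let B be a block of the finite group G relative to a maximal ideal M of the algebraic integers containing p, let y represent a defect class of B and let P be a Sylow p-subgroup of the centralizer of y. (a) If x ∈ P and χ ∈ B has height zero, then χ (x * y) is not in the local ideal at M. (b) If x lies in the centre of P, then for every χ ∈ B the central character of χ at x * y is not in the local ideal at M. -/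
theorem result {G : Type*} [Group G] [Finite G] (p : ℕ) [Fact p.Prime] (M : Ideal Cfsg.AlgInt) (hM : Cfsg.IsPModular p M) (B : Set (Cfsg.IrrCharacter G)) (hB : Cfsg.IsPBlock M B) (y : G) (hy : Cfsg.IsDefectClass M B y) (P : Sylow p (Subgroup.centralizer ({y} : Set G))) (x : Subgroup.centralizer ({y} : Set G)) (hx : x ∈ (P : Subgroup (Subgroup.centralizer ({y} : Set G)))) : (∀ χ ∈ B, Cfsg.blockHeight p B (χ : G → ℂ) = 0 → ¬ Cfsg.MemLocalIdeal M ((χ : G → ℂ) ((x : G) * y))) ∧ ((∀ w ∈ (P : Subgroup (Subgroup.centralizer ({y} : Set G))), x * w = w * x) → ∀ χ ∈ B, ¬ Cfsg.MemLocalIdeal M (Cfsg.centralChar (χ : G → ℂ) ((x : G) * y))) := by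
  have hD := isSylowIn_map P
  have hxD : (x : G) ∈ (P : Subgroup (centralizer ({y} : Set G))).map
      (centralizer ({y} : Set G)).subtype := mem_map_of_mem _ hx
  constructor
  · intro χ hχ h0
    obtain ⟨n, hn⟩ := IsPGroup.iff_orderOf.mp P.isPGroup' ⟨x, hx⟩
    rw [not_memLocalIdeal_char_iff hM (char_of_irr χ.2), v_char_mul_eq_one_iff hM (char_of_irr χ.2)
      (mem_centralizer_singleton_iff.mp x.2) ⟨n, by rw [← hn, orderOf_coe, ← orderOf_coe (⟨x, hx⟩ : (P : Subgroup _))]⟩
      (isPRegular_of_isDefectClass hM hB hy)]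
    exact (height_zero_iff hM hB hy hχ).mp h0
  · intro hc χ hχ
    rw [memLocalIdeal_centralChar_iff hM]
    refine lam_classSum_mul_ne_zero hM hB hy hD hxD ?_ hχ
    exact (mem_centralizer_map_subtype _ x).mpr fun w hw => (hc w hw).symm

end Cfsg.Agent.S0927
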