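import Cfsg.Statements.S0926
import Cfsg.Agent.Lib.Block.H12Second
import Cfsg.Agent.Lib.Block.BlkDefect
import Cfsg.Agent.S0927

set_option autoImplicit false
open Cfsg

namespace Cfsg.Agent.S0926

/-- Let B be a block of the finite group G with defect group D (relative to a maximal ideal M of the algebraic integers containing p), let χ ∈ B have height zero, and let x be a p-element. Then some conjugate of x lies in D if and only if χ does not vanish on the whole p-section of x (the elements whose p-part is conjugate to x). -/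
theorem result {G : Type*} [Group G] [Finite G] (p : ℕ) [Fact p.Prime] (M : Ideal Cfsg.AlgInt) (hM : Cfsg.IsPModular p M) (B : Set (Cfsg.IrrCharacter G)) (hB : Cfsg.IsPBlock M B) (D : Subgroup G) (hD : Cfsg.IsDefectGroup p M B D) (χ : Cfsg.IrrCharacter G) (hχ : χ ∈ B) (h0 : Cfsg.blockHeight p B (χ : G → ℂ) = 0) (x : G) (hx : ∃ k : ℕ, orderOf x = p ^ k) : (∃ g : G, g * x * g⁻¹ ∈ D) ↔ ∃ u : G, (∃ z : G, Cfsg.IsPPart p u z ∧ IsConj x z) ∧ (χ : G → ℂ) u ≠ 0 := by
  constructor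
  · rintro ⟨g, hg⟩
    obtain ⟨y, hy, P, rfl⟩ := hD
    obtain ⟨x', hx', he⟩ := hg
    have he' : (x' : G) = g * x * g⁻¹ := he
    have hc : IsConj x (x' : G) := isConj_iff.2 ⟨g, he'.symm⟩
    refine ⟨x' * y, ⟨x', CA.H12PPart.isPPart_mul
      (Subgroup.mem_centralizer_singleton_iff.1 x'.2) (by rw [he', ← MulAut.conj_apply, MulEquiv.orderOf_eq]; exact hx)
      (CA.H12Second.not_dvd_orderOf_of_isDefectClass hM hB hy), hc⟩, fun h => ?_⟩
    refine (Cfsg.Agent.S0927.result p M hM B hB y hy P x' hx').1 χ hχ h0 ?_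
    rw [h]
    exact ⟨0, 1, M.zero_mem, fun h1 => hM.2.1.ne_top ((Ideal.eq_top_iff_one M).2 h1), by simp⟩
  · rintro ⟨u, ⟨z, hz, hxz⟩, hne⟩
    obtain ⟨D', hD', hzD⟩ := CA.H12Second.exists_isDefectGroup_of_ne_zero hM hB hχ hz hne
    obtain ⟨a, rfl⟩ := CA.BlkDefect.exists_conj_eq_of_isDefectGroup hM hB hD' hD
    obtain ⟨c, rfl⟩ := isConj_iff.1 hxz
    exact ⟨a * c, c * x * c⁻¹, hzD, by simp [mul_assoc]⟩

end Cfsg.Agent.S0926
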