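import Cfsg.Statements.S3341
import Cfsg.Agent.Lib.Char.H7Exc2
import Cfsg.Agent.Lib.Grp.H28Simp
import Cfsg.Agent.S0496
import Cfsg.Agent.S0497

set_option autoImplicit false
open Cfsg

namespace Cfsg.Agent.S3341

open Subgroup CA.H7Exc
open scoped Classical

theorem num2 {d1 d2 d3 a b : ℤ} (h1 : 1 + (d1 + (d2 + (2 * d3 + (a + b)))) = 0)
    (h2 : 1 + (-2 * d1 + (d2 + (-d3 + (a + b)))) = 0) (h3 : 1 + (d1 + (-2 * d2 + (-d3 + (a + b)))) = 0)
    (h4 : 1 + ((-2 : ℚ) / d1 + (1 / d2 + (-4 / d3 + (1 / a + 1 / b)))) = 0) (k : 3 ∣ d3 - 2) (ka : a ≠ 0 ∧ a ≠ 1)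
    (kb : b ≠ 0 ∧ b ≠ 1) : False := by
  obtain rfl : d1 = -d3 := by omega
  obtain rfl : d2 = -d3 := by omega
  obtain rfl : b = -1 - a := by omega
  have e1 : (d3 : ℚ) ≠ 0 := by exact_mod_cast (by omega : d3 ≠ 0)
  have e2 : (a : ℚ) ≠ 0 := by exact_mod_cast ka.1
  have e3 : ((-1 - a : ℤ) : ℚ) ≠ 0 := by exact_mod_cast kb.1
  have e4 : d3 * (a * (a + 1) + 1) = 3 * (a * (a + 1)) := by
    push_cast at *
    field_simp at h4
    exact_mod_cast (by linear_combination -h4 : (d3 : ℚ) * (a * (a + 1) + 1) = 3 * (a * (a + 1)))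
  have e5 : 2 < a * (a + 1) := by
    rcases (by omega : a ≤ -3 ∨ 2 ≤ a) with h | h <;> nlinarith
  generalize a * (a + 1) = m at *
  rcases (by omega : d3 ≤ 2 ∨ 3 ≤ d3) with h | h <;> nlinarith

variable {G : Type*} [Group G] [Finite G] {f : Z3 × Z3 →* G}

theorem case2 (hG : commutator G = ⊤) (h : Sp f.range) (hf : Function.Injective f)
    (hc : ∀ v ≠ 1, Nat.card (centralizer ({f v} : Set G)) = 9)
    (hρ : ∀ v w, IsConj (f v) (f w) ↔ (w = v ∨ w = v⁻¹)) : False := by
  have h3 : ∀ v, f v ^ 3 = 1 := fun v => h.exp _ ⟨v, rfl⟩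
  have h4 : ∀ v, IsConj (f v) (f v)⁻¹ := fun v => map_inv f v ▸ (hρ _ _).2 (.inr rfl)
  have hi : ∀ v, IntAt (f v) := fun v =>
    intAt_of_real (by rw [show 6 = 3 * 2 from rfl, pow_mul, h3, one_pow]) (h4 v)
  have hd := fun v => dvd_three (h3 v) (h4 v)
  have h1 : ∀ v ≠ 1, f v ≠ 1 := fun v hv => by simpa [map_eq_one_iff f hf] using hv
  have hg : ∀ g ∈ [f (k2 1 0), f (k2 0 1), f (k2 1 1)], IntAt g := by simp [hi]
  obtain ⟨R, hR, E, hP⟩ := exists_pat hg (by simp only [List.pairwise_cons, List.forall_mem_cons, hρ]; simp; decide)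
    (ns := [9, 9, 9]) (by simp [hc (k2 1 0) (by decide), hc (k2 0 1) (by decide), hc (k2 1 1) (by decide)])
    (k := 3) (by norm_num) [[1, 1, 1], [1, 0, -1], [1, -1, 0]] [[1, 1, 1], [1, 1, -2], [1, -2, 1]]
    (fun χ => by
      have := hd (k2 1 0) χ; have := hd (k2 0 1) χ; have := hd (k2 1 1) χ
      simp [col]; omega)
    (fun χ => by
      have := hd (k2 1 0) χ; have := hd (k2 0 1) χ; have := hd (k2 1 1) χ
      simp [col]; omega)
  rw [show tabs _ _ _ _ = [[[1, -2, 1], [1, 1, -2], [2, -1, -1], [1, 1, 1], [1, 1, 1]]] by decide +kernel,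
    List.mem_singleton] at hR
  subst hR
  have k0 := hP.all (fun r d => 3 ∣ d - r.getD 0 0 ∧ d ≠ 0 ∧ d ≠ 1) fun χ hχ => by
    have := hd (k2 1 0) χ; have := iv_one_pos χ; have := iv_one_ne_one hG hχ
    simp [col]; omega
  obtain ⟨d1, d2, d3, a, b, rfl⟩ : ∃ d1 d2 d3 a b, E = [d1, d2, d3, a, b] := by
    match E, hP.len with | [_, _, _, _, _], _ => exact ⟨_, _, _, _, _, rfl⟩
  have k1 := hP.lin 0 rfl (hi _) (h1 _ (by decide))
  have k2 := hP.lin 1 rfl (hi _) (h1 _ (by decide))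
  have k3 := hP.lin 2 rfl (hi _) (h1 _ (by decide))
  have k4 := hP.cub 0 0 1 rfl rfl rfl hg
  rw [h.cnt hf hρ (by decide) (by decide), show Finset.card _ = 0 by decide] at k4
  simp at k0 k1 k2 k3 k4
  exact num2 (by simpa using k1) (by simpa using k2) (by simpa using k3)
    (by have := k4.resolve_left Nat.card_pos.ne'; norm_num at this ⊢; exact this) k0.2.2.1.1 k0.2.2.2.1.2 k0.2.2.2.2.2

def κ (v : Z3 × Z3) : ℕ := if v = 1 then 0 else if v.1 = 1 ∨ v.2 = 1 then 1 else 2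

theorem case4 (hG : commutator G = ⊤) (h : Sp f.range) (hf : Function.Injective f)
    (hc : ∀ v ≠ 1, Nat.card (centralizer ({f v} : Set G)) = 9)
    (hρ : ∀ v w, IsConj (f v) (f w) ↔ κ v = κ w) : Nat.card G ≤ 720 := by
  have h3 : ∀ v, f v ^ 3 = 1 := fun v => h.exp _ ⟨v, rfl⟩
  have h4 : ∀ v, IsConj (f v) (f v)⁻¹ := fun v => map_inv f v ▸ (hρ _ _).2 (by revert v; decide)
  have hi : ∀ v, IntAt (f v) := fun v =>
    intAt_of_real (by rw [show 6 = 3 * 2 from rfl, pow_mul, h3, one_pow]) (h4 v)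
  have hd := fun v => dvd_three (h3 v) (h4 v)
  have h1 : ∀ v ≠ 1, f v ≠ 1 := fun v hv => by simpa [map_eq_one_iff f hf] using hv
  have hg : ∀ g ∈ [f (k2 1 0), f (k2 1 1)], IntAt g := by simp [hi]
  obtain ⟨R, hR, E, hP⟩ := exists_pat hg (by simp only [List.pairwise_cons, List.forall_mem_cons, hρ]; simp; decide)
    (ns := [9, 9]) (by simp [hc (k2 1 0) (by decide), hc (k2 1 1) (by decide)])
    (k := 3) (by norm_num) [[1, 2], [-1, 1]] [[1, -2], [1, 1]]
    (fun χ => by have := hd (k2 1 0) χ; have := hd (k2 1 1) χ; simp [col]; omega)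
    (fun χ => by have := hd (k2 1 0) χ; have := hd (k2 1 1) χ; simp [col]; omega)
  rw [show tabs _ _ _ _ = [[[-2, 1], [1, 1], [1, 1], [1, 1], [-1, 2]]] by decide +kernel,
    List.mem_singleton] at hR
  subst hR
  have k0 := hP.all (fun r d => 9 ∣ d + 4 * r.getD 0 0 + 4 * r.getD 1 0 ∧ d ≠ 1) fun χ hχ => by
    have := dvd_sum_rep f hi (fun v => if v = 1 then 1 else if v.1 = 1 ∨ v.2 = 1 then k2 1 0 else k2 1 1)
      (fun v => (hρ _ _).2 (by revert v; decide))
      (L := [1, k2 1 0, k2 1 0, k2 1 0, k2 1 0, k2 1 1, k2 1 1, k2 1 1, k2 1 1]) (by decide) χ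
    have := iv_one_pos χ; have := iv_one_ne_one hG hχ
    simp [col] at *; omega
  obtain ⟨d1, a, b, c, d2, rfl⟩ : ∃ d1 d2 d3 a b, E = [d1, d2, d3, a, b] := by
    match E, hP.len with | [_, _, _, _, _], _ => exact ⟨_, _, _, _, _, rfl⟩
  have k1 := hP.lin 0 rfl (hi _) (h1 _ (by decide))
  have k2 := hP.lin 1 rfl (hi _) (h1 _ (by decide))
  have k4 := hP.cub 0 0 1 rfl rfl rfl hg
  rw [h.cnt hf hρ (by decide) (by decide), show Finset.card _ = 2 by decide, hc _ (by decide)] at k4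
  simp at k0 k1 k2 k4
  obtain rfl : d2 = -d1 := by omega
  have e1 := le_inv (a := a) (n := 8) (by norm_num) (by omega)
  have e2 := le_inv (a := b) (n := 8) (by norm_num) (by omega)
  have e3 := le_inv (a := c) (n := 8) (by norm_num) (by omega)
  have e4 := le_inv (a := d1) (n := 5) (by norm_num) (by omega)
  have e5 : (0 : ℚ) ≤ Nat.card G := by positivity
  push_cast at *
  rw [div_neg, div_eq_mul_one_div (2 * 2), div_eq_mul_one_div 2] at k4
  simp only [one_div] at *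
  exact_mod_cast (by nlinarith : (Nat.card G : ℚ) ≤ 720)

/-- Let G be a finite simple group whose Sylow 3-subgroup S is elementary abelian of order 9, such that G has more than one conjugacy class of elements of order 3 and C_G(s) = S for every non-identity s in S. Then G is isomorphic to the alternating group of degree 6. -/
theorem result {G : Type*} [Group G] [Finite G] [IsSimpleGroup G]
    (P : Sylow 3 G) (S : Subgroup G) (hSP : S = P) (hcomm : IsMulCommutative S) (hexp : ∀ a ∈ S, a ^ 3 = 1)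
    (hcard : Nat.card S = 9)
    (hclasses : ∃ a b : G, orderOf a = 3 ∧ orderOf b = 3 ∧ ∀ g : G, g * a * g⁻¹ ≠ b)
    (hcent : ∀ s ∈ S, s ≠ 1 → Subgroup.centralizer ({s} : Set G) = S) :
    Nonempty (G ≃* alternatingGroup (Fin 6)) := by
  subst hSP
  have hT := sp_of_sylow P hexp fun t ht h1 => (hcent t ht h1).le.trans le_normalizer
  have hG : ¬ IsMulCommutative G := fun h => by
    have h1 := card_subgroup_dvd_card (P : Subgroup G)
    have h2 := @IsSimpleGroup.prime_card G { ‹Group G› with mul_comm := h.1.1 } _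
    rw [hcard] at h1
    exact absurd ((Nat.dvd_prime h2).1 h1 |>.resolve_left (by norm_num) ▸ h2) (by norm_num)
  have hG' : commutator G = ⊤ := (IsSimpleGroup.eq_bot_or_eq_top_of_normal _ inferInstance).resolve_left
    fun h => hG ((commutator_eq_bot_iff_center_eq_top G).1 h |> fun e : center G = ⊤ => ⟨⟨fun a b => (mem_center_iff.1 (e ▸ mem_top b) a)⟩⟩)
  obtain ⟨e, he⟩ : 9 ∣ Nat.card (normalizer ((P : Subgroup G) : Set G)) := hcard ▸ card_dvd_of_le le_normalizer
  have h1 : ∀ t ∈ (P : Subgroup G), t ≠ 1 → {s | s ∈ (P : Subgroup G) ∧ IsConj t s}.ncard = e := fun t ht k => by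
    have := hT.card_cls ht k
    rw [hcent t ht k, hcard, he] at this
    omega
  obtain ⟨a, b, ha, hb, hab⟩ := hclasses
  obtain ⟨x, hx, ax⟩ := hT.syl a (ha ▸ pow_orderOf_eq_one a)
  obtain ⟨z, hz, bz⟩ := hT.syl b (hb ▸ pow_orderOf_eq_one b)
  have x1 : x ≠ 1 := by rintro rfl; simp [isConj_one_left.1 ax] at ha
  have z1 : z ≠ 1 := by rintro rfl; simp [isConj_one_left.1 bz] at hb
  have h2 : e + e + 1 ≤ 9 := by
    have k1 : Disjoint {s | s ∈ (P : Subgroup G) ∧ IsConj x s} {s | s ∈ (P : Subgroup G) ∧ IsConj z s} :=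
      Set.disjoint_left.2 fun s k1 k2 => let ⟨g, hg⟩ := isConj_iff.1 (ax.trans (k1.2.trans (bz.trans k2.2).symm)); hab g hg
    rw [← hcard]
    nth_rw 1 [← h1 x hx x1, ← h1 z hz z1, ← Set.ncard_union_eq k1, ← Set.ncard_insert_of_notMem (a := 1)
      (by simp [x1, z1])]
    refine Set.ncard_le_ncard (t := ((P : Subgroup G) : Set G)) ?_
    rintro _ (rfl | k | k)
    exacts [one_mem _, k.1, k.1]
  have h3 : ¬ 3 ∣ e := fun k => P.not_dvd_index (k.trans ?_)
  swap
  · have := relIndex_mul_index (le_normalizer (H := (P : Subgroup G)))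
    have k2 := card_mul_index ((P : Subgroup G).subgroupOf (normalizer ((P : Subgroup G) : Set G)))
    rw [Nat.card_congr (subgroupOfEquivOfLe le_normalizer).toEquiv, hcard, he] at k2
    exact ⟨_, by rw [← this, relIndex, Nat.eq_of_mul_eq_mul_left (by norm_num) k2]⟩
  have h4 : e ≠ 1 := by
    rintro rfl
    refine CA.H28Simp.burnside hG ((by norm_num : 3 ∣ 9).trans (hcard ▸ card_subgroup_dvd_card _)) P ?_
    rw [← eq_of_le_of_card_ge le_normalizer (by omega)]
    exact le_centralizer _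
  have h5 : e = 2 ∨ e = 4 := by omega
  have h6 : ∀ s ∈ (P : Subgroup G), IsConj s s⁻¹ := fun s hs => by
    obtain ⟨⟨t, ht⟩, k⟩ := exists_prime_orderOf_dvd_card' (G := normalizer ((P : Subgroup G) : Set G)) 2 (by omega)
    rw [orderOf_mk] at k
    have k1 : t * s * t⁻¹ ∈ (P : Subgroup G) := (mem_normalizer_iff.1 ht s).1 hs
    have k2 : t * t = 1 := by rw [← pow_two, ← k, pow_orderOf_eq_one]
    by_contra k3
    have k4 : t ∈ centralizer ({t * s * t⁻¹ * s} : Set G) := by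
      rw [mem_centralizer_singleton_iff]
      nth_rw 2 [setLike_mul_comm k1 hs]
      calc t * (t * s * t⁻¹ * s) = (t * t) * s * t⁻¹ * s := by group
        _ = _ := by rw [k2, one_mul, mul_assoc s (_ * _), inv_mul_cancel_right, inv_eq_of_mul_eq_one_left k2, mul_assoc]
    rw [hcent _ (mul_mem k1 hs) fun e => k3 (isConj_iff.2 ⟨t, eq_inv_of_mul_eq_one_left e⟩)] at k4
    exact absurd (k ▸ orderOf_dvd_of_pow_eq_one (hexp t k4)) (by norm_num)
  have h7 : ∀ s ∈ (P : Subgroup G), s ≠ 1 → s ≠ s⁻¹ := fun s hs k e => k (by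
    have := hexp s hs
    rwa [pow_succ, pow_two, eq_inv_iff_mul_eq_one.1 e, one_mul] at this)
  have h8 : ∀ f : Z3 × Z3 →* G, Function.Injective f → f.range = P → ∀ v ≠ 1, Nat.card (centralizer ({f v} : Set G)) = 9 :=
    fun f hf e v hv => by rw [hcent _ (e ▸ ⟨v, rfl⟩) (by simpa [map_eq_one_iff f hf] using hv), hcard]
  have h9 : ∀ f : Z3 × Z3 →* G, Function.Injective f → f.range = P → ∀ v ≠ 1,
      (Finset.univ.filter fun w => IsConj (f v) (f w)).card = e := fun f hf k v hv => by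
    rw [← h1 (f v) (k ▸ ⟨v, rfl⟩) (by simpa [map_eq_one_iff f hf] using hv), ← Set.ncard_coe_finset,
      ← Set.ncard_image_of_injective _ hf, ← k]
    congr 1
    ext s
    simp only [Finset.coe_filter, Finset.mem_univ, true_and, Set.mem_image, Set.mem_setOf_eq, MonoidHom.mem_range]
    exact ⟨by rintro ⟨w, k, rfl⟩; exact ⟨⟨w, rfl⟩, k⟩, by rintro ⟨⟨w, rfl⟩, k⟩; exact ⟨w, k, rfl⟩⟩
  have h10 : ∀ f : Z3 × Z3 →* G, f.range = P → ∀ v, IsConj (f v) (f v⁻¹) := fun f k v =>
    map_inv f v ▸ h6 _ (k ▸ ⟨v, rfl⟩)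
  rcases h5 with rfl | rfl
  · obtain ⟨y, hy, k⟩ : ∃ y ∈ (P : Subgroup G), y ∉ ({1, x, x⁻¹} : Set G) :=
      Set.exists_mem_notMem_of_ncard_lt_ncard (by
        refine (Set.ncard_insert_le _ _).trans_lt ((Nat.succ_le_succ (Set.ncard_insert_le _ _)).trans_lt ?_)
        rw [Set.ncard_singleton, ← Nat.card_coe_set_eq]
        exact hcard.symm ▸ by norm_num)
    obtain ⟨f, hf, k1, -⟩ := exists_hom2 hcard hexp hx hy x1 (by simpa [not_or] using k)
    refine (case2 hG' (k1 ▸ hT) hf (h8 f hf k1) fun v w => ⟨fun k2 => ?_, ?_⟩).elim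
    · by_cases hv : v = 1
      · subst hv
        exact .inl (hf (by rw [map_one] at k2 ⊢; exact isConj_one_right.1 k2))
      have := Finset.eq_of_subset_of_card_le (s := {v, v⁻¹}) (t := Finset.univ.filter fun w => IsConj (f v) (f w))
        (by simp [Finset.insert_subset_iff, -map_inv, -isConj_iff, IsConj.refl, h10 f k1]) (by
          rw [h9 f hf k1 v hv, Finset.card_pair (by clear k2; revert v; decide)])
      simpa using this.ge (Finset.mem_filter.2 ⟨Finset.mem_univ w, k2⟩)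
    · rintro (rfl | rfl)
      exacts [IsConj.refl _, h10 f k1 _]
  obtain ⟨y, hy, k⟩ : ∃ y ∈ {s | s ∈ (P : Subgroup G) ∧ IsConj x s}, y ∉ ({x, x⁻¹} : Set G) :=
    Set.exists_mem_notMem_of_ncard_lt_ncard (by rw [h1 x hx x1, Set.ncard_pair (h7 x hx x1)]; norm_num)
  obtain ⟨f, hf, k1, rfl, rfl⟩ := exists_hom2 hcard hexp hx hy.1 x1
    ⟨by rintro rfl; exact x1 (isConj_one_left.1 hy.2), by simpa [not_or] using k⟩
  have k2 : ∀ w, IsConj (f (k2 1 0)) (f w) ↔ κ w = 1 := by
    have := Finset.eq_of_subset_of_card_le (s := {k2 1 0, (k2 1 0)⁻¹, k2 0 1, (k2 0 1)⁻¹})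
      (t := Finset.univ.filter fun w => IsConj (f (k2 1 0)) (f w))
      (by simp [Finset.insert_subset_iff, -map_inv, -isConj_iff, IsConj.refl, h10 f k1, hy.2, hy.2.trans (h10 f k1 _)])
      (by rw [h9 f hf k1 _ (by decide)]; decide)
    intro w
    rw [← (Finset.mem_filter_univ (p := fun w => IsConj (f (k2 1 0)) (f w)) w), ← this]
    revert w; decide
  have k3 : ∀ w, IsConj (f (CA.H7Exc.k2 1 1)) (f w) ↔ κ w = 2 := by
    have := Finset.eq_of_subset_of_card_le (t := Finset.univ.filter fun w => κ w = 2)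
      (s := Finset.univ.filter fun w => IsConj (f (CA.H7Exc.k2 1 1)) (f w)) (fun w hw => by
        rw [Finset.mem_filter_univ] at hw ⊢
        have k4 : κ w ≠ 1 := fun e => absurd ((k2 _).1 (((k2 w).2 e).trans hw.symm)) (by decide)
        have k5 : w ≠ 1 := by rintro rfl; exact absurd (hf (by simpa using hw : f _ = f 1)) (by decide)
        revert k4 k5; generalize w = w; revert w; decide) (by rw [h9 f hf k1 _ (by decide)]; decide)
    intro w
    rw [← (Finset.mem_filter_univ (p := fun w => IsConj (f (CA.H7Exc.k2 1 1)) (f w)) w), this, Finset.mem_filter_univ]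
  have k4 := case4 hG' (k1 ▸ hT) hf (h8 f hf k1) fun v w => by
    rcases (by revert v; decide : v = 1 ∨ κ v = 1 ∨ κ v = 2) with rfl | e | e
    · rw [map_one, isConj_one_right, map_eq_one_iff f hf]; revert w; decide
    · rw [e, eq_comm, ← k2]; exact ⟨((k2 v).2 e).trans, ((k2 v).2 e).symm.trans⟩
    · rw [e, eq_comm, ← k3]; exact ⟨((k3 v).2 e).trans, ((k3 v).2 e).symm.trans⟩
  have k5 := index_mul_card (normalizer ((P : Subgroup G) : Set G))
  rw [he] at k5
  have k6 := card_sylow_modEq_one 3 G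
  rw [P.card_eq_index_normalizer, Nat.ModEq] at k6
  refine Cfsg.Agent.S0497.result ?_
  have := Cfsg.Agent.S0496.result hG (by omega)
  change (normalizer ((P : Subgroup G) : Set G)).index % 3 = _ at k6
  omega

end Cfsg.Agent.S3341
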