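import Cfsg.Statements.S3331
import Cfsg.Agent.Lib.Grp.H7FT4
import Cfsg.Agent.S0495
import Cfsg.Agent.Lib.Loc.H6Dih
import Cfsg.Agent.Lib.Grp.PGDihedral

set_option autoImplicit false
open Cfsg

namespace Cfsg.Agent.S3331

open Subgroup CA.BG CA.H7FT in
theorem six {Γ : Type*} [Group Γ] [Finite Γ] {y : Γ} (h : SC y) (hc : Nat.card Γ = 6) :
    Nonempty (Γ ≃* Equiv.Perm (Fin 3)) := by
  haveI := Fact.mk Nat.prime_two
  obtain ⟨t, ht⟩ := exists_prime_orderOf_dvd_card' (G := Γ) 2 (by rw [hc]; norm_num)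
  have hn : (⊤ : Subgroup Γ) ≤ 𝓝(zpowers y) := norm_of_two le_top (by rw [card_top, hc, h.card])
  have nt : t ∉ zpowers y := fun hm => by
    have := orderOf_dvd_card_of_mem hm
    rw [ht, h.card] at this
    norm_num at this
  have e := (h.norm_cases (hn (mem_top t))).resolve_left nt
  obtain ⟨φ⟩ := CA.PGDihedral.nonempty_mulEquiv_dihedral h.ord nt (ht ▸ pow_orderOf_eq_one t) e
    ((eq_or_of_two le_sup_left le_top (by rw [card_top, hc, h.card])).resolve_left
      fun e' => nt (e' ▸ mem_sup_right (mem_zpowers t)))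
  obtain ⟨ψ⟩ := CA.H6Dih.nonempty_S3
  exact ⟨φ.trans ψ.symm⟩

open Subgroup CA.BG CA.H7FT in

/-- Let G be a finite group containing a subgroup X of order 3 with C_G(X) = X. Then one of the following holds: G has a nilpotent normal subgroup N of order prime to 3 with G/N of order 3 or isomorphic to Sym(3); or G has an elementary abelian normal 2-subgroup N with G/N isomorphic to the alternating group of degree 5; or G is isomorphic to PSL(2,7). -/
theorem result {G : Type*} [Group G] [Finite G]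
    (X : Subgroup G) (hX : Nat.card X = 3) (hC : Subgroup.centralizer (X : Set G) = X) :
    (∃ (N : Subgroup G) (hN : N.Normal), Group.IsNilpotent N ∧ (Nat.card N).Coprime 3 ∧
        (Nat.card (G ⧸ N) = 3 ∨ Nonempty (G ⧸ N ≃* Equiv.Perm (Fin 3)))) ∨
    (∃ (N : Subgroup G) (hN : N.Normal), IsMulCommutative N ∧ (∀ n ∈ N, n ^ 2 = 1) ∧
        Nonempty (G ⧸ N ≃* alternatingGroup (Fin 5))) ∨
    Nonempty (G ≃* Matrix.ProjectiveSpecialLinearGroup (Fin 2) (ZMod 7)) := by
  obtain ⟨x, hx, ho⟩ := exists_orderOf_eq (H := X) p3 (by rw [hX])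
  have x1 : x ≠ 1 := by rintro rfl; simp at ho
  have hp : (♯X).Prime := hX ▸ p3
  have h : SC x := ⟨ho, by
    rw [← cent_eq_cent1_of_prime hp hx x1, hC]; exact (eq_zpowers_of_prime hp hx x1).le⟩
  rcases h.str with ⟨N, hN, h1, h2⟩ | ⟨f, hf, hk⟩ | ⟨h1, h2⟩
  · refine Or.inl ⟨N, hN, h.nil ⟨norm_of_normal N x, h1⟩, (isPi_compl_iff_coprime p3).1 h1, h2.imp id fun e => ?_⟩
    exact six (h.map (QuotientGroup.mk' N) (QuotientGroup.mk'_surjective N)
      (by rw [QuotientGroup.ker_mk']; exact h1)) e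
  · obtain ⟨h1, h2⟩ := h.higman hf hk
    exact Or.inr (Or.inl ⟨f.ker, inferInstance, h1, h2, ⟨QuotientGroup.quotientKerEquivOfSurjective f hf⟩⟩)
  · haveI := CA.H28G168.fact7
    exact Or.inr (Or.inr (Cfsg.Agent.S0495.result h2 (F := ZMod 7) (ZMod.card 7)))

end Cfsg.Agent.S3331
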