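import Cfsg.Statements.S0839
import Cfsg.Agent.Lib.Lin.CFormMisc2

set_option autoImplicit false
open Cfsg

namespace Cfsg.Agent.S0839

open Matrix in
/-- Every transvection t ∈ SL_(n+2)(F) (rank(t − 1) = 1, (t − 1)² = 0) is conjugate in SL_(n+2)(F) to 1 + v·e_0ᵀ for some column vector v with v_0 = 0 (the group A of matrices that are the identity except in the first column below the diagonal); the dimension is written n + 2 ≥ 2. -/
theorem result {F : Type*} [Field F] (n : ℕ) (t : Matrix.SpecialLinearGroup (Fin (n + 2)) F) (ht : Cfsg.IsTransvection (t : Matrix (Fin (n + 2)) (Fin (n + 2)) F)) : ∃ (g : Matrix.SpecialLinearGroup (Fin (n + 2)) F) (v : Fin (n + 2) → F), v 0 = 0 ∧ ((g⁻¹ * t * g : Matrix.SpecialLinearGroup (Fin (n + 2)) F) : Matrix (Fin (n + 2)) (Fin (n + 2)) F) = 1 + Matrix.vecMulVec v (Pi.single 0 1) := by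
  obtain ⟨h1, h2⟩ := ht
  obtain ⟨u, φ, h⟩ : ∃ u φ : Fin (n + 2) → F, (t : Matrix (Fin (n + 2)) (Fin (n + 2)) F) - 1 = vecMulVec u φ := by
    obtain ⟨u, hu⟩ := finrank_le_one_iff.1 h1.le
    choose c hc using fun j => hu ⟨_, LinearMap.mem_range_self _ (Pi.single j 1)⟩
    refine ⟨u, c, ?_⟩
    ext i j
    have := congrFun (congrArg Subtype.val (hc j)) i
    simpa [vecMulVec_apply, mul_comm, Pi.single_apply, one_apply] using this.symm
  have hu : u ≠ 0 := by rintro rfl; simp [h] at h1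
  have hφ : φ ≠ 0 := by rintro rfl; simp [h] at h1
  have h3 : φ ⬝ᵥ u = 0 := by
    rw [h, vecMulVec_mul_vecMulVec, vecMulVec_eq_zero, smul_eq_zero] at h2
    tauto
  have := MulAction.isPretransitive_of_is_two_pretransitive
    (G := SpecialLinearGroup (Fin (n + 2)) F) (α := Projectivization F (Fin (n + 2) → F))
  obtain ⟨g, hg⟩ := this.exists_smul_eq (Projectivization.mk F φ hφ)
    (Projectivization.mk F (Pi.single 0 1) (by simp))
  rw [Projectivization.smul_mk, Projectivization.mk_eq_mk_iff'] at hg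
  obtain ⟨a, ha⟩ := hg
  have h4 : φ ᵥ* (g.transpose : Matrix (Fin (n + 2)) (Fin (n + 2)) F) = a • Pi.single 0 1 := by
    rw [SpecialLinearGroup.coe_transpose, vecMul_transpose]; exact ha.symm
  generalize g.transpose = k at h4
  have h5 : ((k⁻¹ : SpecialLinearGroup (Fin (n + 2)) F) : Matrix (Fin (n + 2)) (Fin (n + 2)) F) * k = 1 := by
    rw [← Matrix.SpecialLinearGroup.coe_mul, inv_mul_cancel, Matrix.SpecialLinearGroup.coe_one]
  refine ⟨k, a • ((k⁻¹ : SpecialLinearGroup (Fin (n + 2)) F) : Matrix (Fin (n + 2)) (Fin (n + 2)) F) *ᵥ u, ?_, ?_⟩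
  · have := congrArg (· ⬝ᵥ ((k⁻¹ : SpecialLinearGroup (Fin (n + 2)) F) : Matrix (Fin (n + 2)) (Fin (n + 2)) F) *ᵥ u) h4
    simp only [← dotProduct_mulVec, mulVec_mulVec, mul_eq_one_comm.1 h5, one_mulVec, h3] at this
    simpa using this.symm
  · rw [Matrix.SpecialLinearGroup.coe_mul, Matrix.SpecialLinearGroup.coe_mul, eq_add_of_sub_eq' h, mul_add, add_mul,
      mul_one, h5, mul_vecMulVec, vecMulVec_mul, h4, vecMulVec_smul, smul_vecMulVec]

end Cfsg.Agent.S0839
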