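import Cfsg.Statements.S0820
import Cfsg.Agent.S0839

set_option autoImplicit false
open Cfsg

namespace Cfsg.Agent.S0820

open Matrix

theorem conj_of {F : Type*} [Field F] {a b : Matrix.SpecialLinearGroup (Fin 3) F}
    (M : Matrix (Fin 3) (Fin 3) F) (hM : M.det = 1) (h : M * a.1 = b.1 * M) : IsConj a b :=
  ⟨toUnits ⟨M, hM⟩, Subtype.ext h⟩

theorem key {F : Type*} [Field F] (h2 : (2 : F) = 0) (x : ProjectiveSpecialLinearGroup (Fin 3) F)
    (hx : orderOf x = 2) : IsConj x
      (Matrix.SpecialLinearGroup.transvection (show (1 : Fin 3) ≠ 0 by decide) (1 : F) :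
        SpecialLinearGroup (Fin 3) F) := by
  obtain ⟨s, rfl⟩ := QuotientGroup.mk_surjective x
  have h1 : s ^ 2 ∈ Subgroup.center _ := by
    rw [← QuotientGroup.eq_one_iff, QuotientGroup.mk_pow, ← hx, pow_orderOf_eq_one]
  have h3 : ((s ^ 3 : SpecialLinearGroup (Fin 3) F) : ProjectiveSpecialLinearGroup (Fin 3) F) = s := by
    rw [pow_succ, QuotientGroup.mk_mul, (QuotientGroup.eq_one_iff _).2 h1, one_mul]
  have h4 : s ^ 3 * s ^ 3 = 1 := by
    obtain ⟨r, hr, hr'⟩ := Matrix.SpecialLinearGroup.mem_center_iff.1 h1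
    rw [← pow_add, show 3 + 3 = 2 * 3 from rfl, pow_mul]
    apply Subtype.ext
    rw [Matrix.SpecialLinearGroup.coe_pow, ← hr', ← map_pow, show r ^ 3 = 1 from hr, map_one]; rfl
  have h5 : s ^ 3 ≠ 1 := fun h => by
    rw [← h3, h] at hx; simp at hx
  rw [← h3]
  generalize s ^ 3 = t at h4 h5
  have hsq : (t.1 - 1) * (t.1 - 1) = 0 := by
    have hc' : (2 : Matrix (Fin 3) (Fin 3) F) = 0 := by
      rw [← map_ofNat (algebraMap F (Matrix (Fin 3) (Fin 3) F)), h2, map_zero]
    have : (t.1 - 1) * (t.1 - 1) = t.1 * t.1 - 1 + 2 * (1 - t.1) := by noncomm_ring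
    rw [this, hc', zero_mul, add_zero, ← Matrix.SpecialLinearGroup.coe_mul, h4]; simp
  have hr : (t.1 - 1).rank = 1 := by
    have h6 := Matrix.rank_add_rank_le_card_of_mul_eq_zero hsq
    have h7 : (t.1 - 1).rank ≠ 0 := fun h => h5 (Subtype.ext (by
      rw [rank, Submodule.finrank_eq_zero, LinearMap.range_eq_bot] at h
      exact sub_eq_zero.1 (Matrix.toLin'.map_eq_zero_iff.1 h)))
    simp at h6
    omega
  obtain ⟨g, v, hv, hg⟩ : ∃ (g : Matrix.SpecialLinearGroup (Fin 3) F) (v : Fin 3 → F), v 0 = 0 ∧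
      (g⁻¹ * t * g).1 = 1 + vecMulVec v (Pi.single 0 1) := Cfsg.Agent.S0839.result 1 t ⟨hr, hsq⟩
  have h8 : IsConj t (g⁻¹ * t * g) := isConj_iff.2 ⟨g⁻¹, by simp⟩
  refine (QuotientGroup.mk' _).map_isConj (h8.trans ?_)
  have h9 : g⁻¹ * t * g ≠ 1 := fun h => h5 (isConj_one_left.1 (h ▸ h8))
  generalize g⁻¹ * t * g = u at hg h9
  by_cases ha : v 1 = 0
  · have hb : v 2 ≠ 0 := fun hb => h9 (Subtype.ext (by
      have : v = 0 := by ext i; fin_cases i <;> assumption
      simp [hg, this]))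
    refine conj_of !![1, 0, 0; 0, 0, (v 2)⁻¹; 0, -v 2, 0] (by simp [det_fin_three, hb]) ?_
    rw [hg, Matrix.SpecialLinearGroup.transvection_coe]
    ext i j
    fin_cases i <;> fin_cases j <;>
      simp [mul_apply, Fin.sum_univ_three, vecMulVec_apply, hv, ha, hb, one_apply]
  · refine conj_of !![1, 0, 0; 0, (v 1)⁻¹, 0; 0, -v 2, v 1] (by simp [det_fin_three, ha]) ?_
    rw [hg, Matrix.SpecialLinearGroup.transvection_coe]
    ext i j
    fin_cases i <;> fin_cases j <;>
      simp [mul_apply, Fin.sum_univ_three, vecMulVec_apply, hv, ha, one_apply, mul_comm]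

/-- Any two elements of order 2 of PSL_3(4) are conjugate. -/
theorem result {F : Type*} [Field F] [Fintype F] (hF : Fintype.card F = 4) (x y : Matrix.ProjectiveSpecialLinearGroup (Fin 3) F) (hx : orderOf x = 2) (hy : orderOf y = 2) : IsConj x y := by
  have h2 : (2 : F) = 0 := by
    have : (2 : F) ^ 2 = 0 := by
      have := Nat.cast_card_eq_zero F
      rw [hF] at this
      linear_combination this
    exact pow_eq_zero_iff two_ne_zero |>.1 this
  exact (key h2 x hx).trans (key h2 y hy).symm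

end Cfsg.Agent.S0820
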