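import Cfsg.Statements.S4134
import Cfsg.Agent.Lib.Grp.H7Ito

set_option autoImplicit false
open Cfsg

namespace Cfsg.Agent.S4134

open Subgroup CA.BG CA.H7Ito CA.PGBasic CA.PRes
open scoped commutatorElement

/-- Let G be a finite group whose conjugacy classes have exactly two sizes, 1 and n > 1. Then n is a power of a prime p and G is the direct product of a p-group and an abelian group of order prime to p: its Sylow p-subgroup P is normal with an abelian normal complement centralizing it; moreover P has an abelian normal subgroup A with P/A of exponent dividing p. -/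
theorem result {G : Type*} [Group G] [Finite G] (n : ℕ) (hn : 1 < n)
    (h : ∀ x : G, (Subgroup.centralizer ({x} : Set G)).index = 1 ∨ (Subgroup.centralizer ({x} : Set G)).index = n) (hex : ∃ x : G, (Subgroup.centralizer ({x} : Set G)).index = n) :
    ∃ (p : ℕ) (_ : Fact p.Prime) (a : ℕ), n = p ^ a ∧ ∀ P : Sylow p G, (P : Subgroup G).Normal ∧
      (∃ N : Subgroup G, N.Normal ∧ N.IsComplement' (P : Subgroup G) ∧ IsMulCommutative N ∧
        ∀ x ∈ N, ∀ y ∈ (P : Subgroup G), x * y = y * x) ∧
      ∃ A : Subgroup (P : Subgroup G), A.Normal ∧ IsMulCommutative A ∧ ∀ y : (P : Subgroup G), y ^ p ∈ A := by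
  obtain ⟨x, hx⟩ := hex
  have hx' : x ∉ center G := fun e => by rw [ind_one.2 e] at hx; omega
  obtain ⟨p, m, hp, h1, h2⟩ := exists_part hx'
  haveI := Fact.mk hp
  have h3 : pResidual p G ≤ center G :=
    pResidual_le_iff.2 fun g hg => central_of_coprime h hp h2 h1 hg
  obtain ⟨a, ha⟩ := exists_index_eq_of_pResidual_le (h3.trans (center_le_centralizer {x}))
  refine ⟨p, ⟨hp⟩, a, hx.symm.trans ha, fun P => ?_⟩
  obtain ⟨k1, k2, k3⟩ := CA.CS1.split (p := p) (fun y hy => by
    rw [ind_one.2 (h3 (mem_pResidual_of_coprime hy))]; exact hp.not_dvd_one) P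
  refine ⟨k1, ⟨_, inferInstance, (hasNPC_iff_isComplement' P).1 k3, isMulCommutative_of_le h3,
    fun x hx y _ => (mem_center_iff.1 (h3 hx) y).symm⟩, center P, inferInstance, inferInstance,
    pow_central P.isPGroup' (m := n) fun y => ?_⟩
  rw [CA.CS1.index_centralizer_coe, ← CA.AmbSpe.relIndex_sup_left_of_le le_normalizer_of_normal
    (h3.trans (center_le_centralizer _)), sup_comm, pResidual_sup_sylow, relIndex_top_right]
  exact h y

end Cfsg.Agent.S4134
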