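import Cfsg.Statements.S4249
import Cfsg.Agent.Lib.Grp.Kegel
import Cfsg.Agent.Lib.Grp.H1Basic
import Cfsg.Agent.Lib.Grp.Fitting
import Cfsg.Agent.Lib.Grp.PGBasic

set_option autoImplicit false
open Cfsg

namespace Cfsg.Agent.S4249

open Subgroup CA.SylIn

/-- Let G be a finite group and p a prime such that G is not a p-group, and suppose the Hughes subgroup H_p(G), generated by all elements g with g^p ≠ 1, is a proper subgroup. Then H_p(G) is nilpotent and has index p in G. -/
theorem result {G : Type*} [Group G] [Finite G] (p : ℕ) (hp : p.Prime) (hG : ¬ IsPGroup p G)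
    (hH : Subgroup.closure {g : G | g ^ p ≠ 1} ≠ ⊤) :
    Group.IsNilpotent (Subgroup.closure {g : G | g ^ p ≠ 1}) ∧ (Subgroup.closure {g : G | g ^ p ≠ 1}).index = p := by
  have := Fact.mk hp
  set H := Subgroup.closure {g : G | g ^ p ≠ 1} with hHdef
  have hout : ∀ g, g ∉ H → g ^ p = 1 := fun g hg => by
    by_contra h; exact hg (subset_closure h)
  have hn : H.Normal := by
    constructor
    intro x hx g
    induction hx using closure_induction with
    | mem x hx => exact subset_closure (by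
        show (g * x * g⁻¹) ^ p ≠ 1
        rw [conj_pow]; intro h; apply hx
        simpa [mul_inv_eq_iff_eq_mul] using h)
    | one => simp
    | mul a b _ _ ha hb => simpa [mul_assoc] using H.mul_mem ha hb
    | inv a _ ha => simpa [mul_assoc] using H.inv_mem ha
  obtain ⟨a, ha⟩ : ∃ a, a ∉ H := by
    by_contra h; push Not at h; exact hH (eq_top_iff.2 fun x _ => h x)
  have hnil : Group.IsNilpotent H := by
    refine CA.Kegel.isNilpotent_of_coset_pow (a := a) (by rw [normalizer_eq_top]; trivial) hp fun k hk => ?_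
    exact hout _ fun h => ha (by simpa using H.mul_mem (H.inv_mem hk) h)
  refine ⟨hnil, ?_⟩
  have hq : IsPGroup p (G ⧸ H) := by
    intro g
    obtain ⟨g, rfl⟩ := QuotientGroup.mk_surjective g
    refine ⟨1, ?_⟩
    rw [pow_one, ← QuotientGroup.mk_pow, QuotientGroup.eq_one_iff]
    by_cases h : g ∈ H
    · exact H.pow_mem h p
    · rw [hout g h]; exact H.one_mem
  set K := (pPrimeCore p H).map H.subtype with hK
  have hKn : K.Normal := CA.H1Basic.normal_map_subtype_of_characteristic _
  have hKH : K ≤ H := map_subtype_le _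
  have hK1 : K ≠ ⊥ := by
    intro h
    have h1 := CA.Fitting.map_pCore_sup_map_pPrimeCore p hnil
    rw [← hK, h, sup_bot_eq] at h1
    have h2 : IsPGroup p H := h1 ▸ CA.Core.isPGroup_map_pCore H
    apply hG
    have h3 := (hq.to_subgroup ⊤).comap_of_ker_isPGroup (QuotientGroup.mk' H) (by rwa [QuotientGroup.ker_mk'])
    rw [comap_top] at h3
    exact CA.Core.isPGroup_top_iff.1 h3
  have : Group.IsSolvable K := by
    have := CA.Core.isNilpotent_of_le hKH hnil
    infer_instance
  obtain ⟨V, hVn, hVK, hV1, hVc⟩ := CA.H1Basic.exists_normal_comm K hK1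
  have hVp : (Nat.card V).Coprime p := CA.Core.coprime_card_of_le hVK (CA.Core.coprime_map_pPrimeCore H)
  have hnt : (⊥ : Subgroup (G ⧸ H)) ≠ ⊤ := by
    intro h
    have : (a : G ⧸ H) ∈ (⊥ : Subgroup (G ⧸ H)) := h ▸ mem_top _
    exact ha ((QuotientGroup.eq_one_iff a).1 (mem_bot.1 this))
  obtain ⟨M0, -, hM0n, hM0⟩ := CA.PGBasic.exists_index_eq_of_ne_top hq hnt
  set M := M0.comap (QuotientGroup.mk' H) with hM
  have hMi : M.index = p := by rw [hM, CA.H1Basic.index_comap_mk, hM0]
  have hHM : H ≤ M := by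
    intro x hx
    rw [hM, mem_comap, QuotientGroup.mk'_apply, (QuotientGroup.eq_one_iff x).2 hx]; exact M0.one_mem
  suffices h : M = H by rw [← h, hMi]
  by_contra hne
  obtain ⟨P⟩ : Nonempty (Sylow p G) := inferInstance
  have hPH := CA.Fitting.sylow_sup_eq_top_of_isPGroup_quotient P hq
  obtain ⟨x, hxP, hxM⟩ : ∃ x ∈ (P : Subgroup G), x ∉ M := by
    by_contra h; push Not at h
    have : M = ⊤ := top_le_iff.1 (hPH ▸ sup_le h hHM)
    rw [this, index_top] at hMi
    exact hp.one_lt.ne hMi
  have hc := CA.Fpf.le_centralizer_of_coset_pow (Q := (P : Subgroup G) ⊓ M) hVc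
    (by rw [normalizer_eq_top]; exact le_top) (x := x) (by rw [normalizer_eq_top]; trivial)
    (CA.SylIn.inf_normalizer_le_normalizer_inf _ _ ⟨le_normalizer hxP, by rw [normalizer_eq_top]; trivial⟩) hp
    (fun v hv y hy => hout _ fun h => hxM (by
      have h1 := M.mul_mem (M.mul_mem (M.inv_mem (hHM (hKH (hVK hv)))) (hHM h)) (M.inv_mem hy.2)
      simpa using h1))
    (CA.Core.coprime_card_of_isPGroup (P.isPGroup'.to_le inf_le_left) hVp.symm)
  obtain ⟨q, hq1, hq2⟩ : ∃ q ∈ (P : Subgroup G) ⊓ M, q ∉ H := by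
    by_contra h; push Not at h
    apply hne
    refine le_antisymm ?_ hHM
    rw [← top_inf_eq M, ← hPH, ← CA.H1SZ.inf_sup_normal _ hHM]
    exact sup_le h le_rfl
  obtain ⟨v, hv, hv1⟩ := (V.bot_or_exists_ne_one).resolve_left hV1
  have h1 : Commute q v := (mem_centralizer_iff.1 (hc hq1) v hv).symm
  have h2 := hout (q * v) fun h => hq2 (by simpa using H.mul_mem h (H.inv_mem (hKH (hVK hv))))
  rw [h1.mul_pow, hout q hq2, one_mul] at h2
  have h3 : orderOf v ∣ Nat.gcd (Nat.card V) p := Nat.dvd_gcd (V.orderOf_dvd_natCard hv) (orderOf_dvd_of_pow_eq_one h2)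
  rw [hVp, Nat.dvd_one, orderOf_eq_one_iff] at h3
  exact hv1 h3

end Cfsg.Agent.S4249
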