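import Cfsg.Statements.S4137
import Cfsg.Agent.Lib.Cit.CtG6
import Cfsg.Agent.Lib.Lin.FieldIso
import Cfsg.Agent.Lib.GW.GW15

set_option autoImplicit false
open Cfsg

namespace Cfsg.Agent.S4137

/-- Let G be a finite group with trivial centre and at most three distinct sizes of conjugacy classes other than 1. Then G is solvable or G is isomorphic to PSL₂(2^a) for some a ≥ 1. -/
theorem result {G : Type*} [Group G] [Finite G]
    (hZ : Subgroup.center G = ⊥) (h : Nat.card {n : ℕ | 1 < n ∧ ∃ x : G, (Subgroup.centralizer ({x} : Set G)).index = n} ≤ 3) :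
    Group.IsSolvable G ∨ ∃ a : ℕ, 0 < a ∧ Nonempty (G ≃* Matrix.ProjectiveSpecialLinearGroup (Fin 2) (GaloisField 2 a)) := by
  refine or_iff_not_imp_left.2 fun hG => ?_
  have hc := CA.R3.cai_of_three hZ h hG
  obtain ⟨S, hS⟩ := CA.BG.syl_exists Nat.prime_two (⊤ : Subgroup G)
  obtain ⟨F, _, _, A, _, _, h2, -, ⟨e⟩⟩ := hc.main hS
    (fun e => hG (CA.R3.solv_top (CA.GW.HasPC.solv2 (CA.GW.hasPC_of_cyc hS e)))) fun e => by
      obtain ⟨P, rfl⟩ := hS.exists_sylow_top Nat.prime_two
      exact hG (CA.H4Cls.solv_of_normal_syl P (CA.BG.normal_of_top_le_norm e.ge))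
  haveI : Subsingleton A := ⟨fun a b => by
    have k : ∀ a : A, a = 1 := fun a => by
      have : e.symm (1, a) ∈ Subgroup.center G := Subgroup.mem_center_iff.2 fun g =>
        e.injective (by simp [Prod.ext_iff, mul_comm])
      rw [hZ, Subgroup.mem_bot] at this
      simpa using this
    rw [k a, k b]⟩
  haveI : Unique A := uniqueOfSubsingleton 1
  haveI := Fact.mk Nat.prime_two
  obtain ⟨n, hn, hF⟩ := CA.SL2Unip.exists_card_eq_pow (F := F) 2
  obtain ⟨f⟩ := CA.FieldIso.nonempty_ringEquiv (F := F) (K := GaloisField 2 n)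
    (by rw [hF, GaloisField.card 2 n hn.ne'])
  exact ⟨n, hn, ⟨(e.trans MulEquiv.prodUnique).trans ((CA.Ca.slE (CharP.cast_eq_zero F 2)).trans
    (CA.FieldIso.pslEquiv f))⟩⟩

end Cfsg.Agent.S4137
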