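import Cfsg.Statements.S4160
import Cfsg.Agent.Lib.Solv.CS1

set_option autoImplicit false
open Cfsg

namespace Cfsg.Agent.S4160


/-- Let G be a finite group and p ≠ q primes each dividing the size of some conjugacy class of G, such that no conjugacy class size is divisible by pq. Then G has a normal p-complement or a normal q-complement. -/
theorem result {G : Type*} [Group G] [Finite G] (p q : ℕ) (hp : p.Prime) (hq : q.Prime) (hpq : p ≠ q)
    (hp' : ∃ x : G, p ∣ (Subgroup.centralizer ({x} : Set G)).index) (hq' : ∃ x : G, q ∣ (Subgroup.centralizer ({x} : Set G)).index) (h : ∀ x : G, ¬ p * q ∣ (Subgroup.centralizer ({x} : Set G)).index) :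
    Cfsg.HasNormalPComplement p G ∨ Cfsg.HasNormalPComplement q G := by
  haveI := Fact.mk hp
  haveI := Fact.mk hq
  obtain ⟨P⟩ : Nonempty (Sylow p G) := inferInstance
  obtain ⟨Q⟩ : Nonempty (Sylow q G) := inferInstance
  by_contra hc
  rw [not_or] at hc
  have h1 : Subgroup.centralizer ((P : Subgroup G) : Set G) <
      Subgroup.normalizer ((P : Subgroup G) : Set G) :=
    lt_of_le_not_ge (Subgroup.centralizer_le_normalizer _) fun h =>
      hc.1 (CA.PRes.hasNPC_of_normalizer_le_centralizer P h)
  have h2 : Subgroup.centralizer ((Q : Subgroup G) : Set G) <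
      Subgroup.normalizer ((Q : Subgroup G) : Set G) :=
    lt_of_le_not_ge (Subgroup.centralizer_le_normalizer _) fun h =>
      hc.2 (CA.PRes.hasNPC_of_normalizer_le_centralizer Q h)
  refine CA.CS1.not_cover_two h1 (CA.SylIn.normalizer_le_normalizer_centralizer _) h2
    (CA.SylIn.normalizer_le_normalizer_centralizer _) fun g => ?_
  by_cases hg : p ∣ (Subgroup.centralizer ({g} : Set G)).index
  · refine Or.inr (CA.CS1.exists_conj_mem_centralizer Q fun hg' => h g ?_)
    exact ((Nat.coprime_primes hp hq).2 hpq).mul_dvd_of_dvd_of_dvd hg hg'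
  · exact Or.inl (CA.CS1.exists_conj_mem_centralizer P hg)

end Cfsg.Agent.S4160
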