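import Cfsg.Statements.S0255
import Cfsg.Agent.Lib.Lin.A8GL4
import Cfsg.Agent.Lib.Lin.SLnGen
import Cfsg.Agent.Lib.Lin.TriPres
import Cfsg.Agent.Lib.Lin.PSL2Struct

set_option autoImplicit false
open Cfsg

namespace Cfsg.Agent.S0255

open CA.H27Words CA.TriPres Matrix

def R7b : List Rule := [([0,0],[]),([1,1,1],[]),([0,1,0,1,0,1,0,1,0,1,0,1,0,1],[]),([0,1,0,1,1,0,1,0,1,1,0,1,0,1,1,0,1,0,1,1],[])]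
def R7 : List Rule := complete 53 R7b [([0,0,1,0,1,0,1,0,1,0,1,0,1,0,1],2,1,false),([1,0,1,0,1,0,1,0,1,0,1,0,1,1,1],13,12,true),([1,0,1,0,1,0,1,0,1,0,1,0,0],12,11,true),([1,0,1,0,1,0,1,0,1,0,1,1,1],11,10,true),([1,0,1,0,1,0,1,0,1,0,0],10,9,true),([1,0,1,0,1,0,1,0,1,1,1],9,8,false),([0,0,1,1,0,1,1,0,1,1],2,1,true),([0,1,0,1,0,1,0,1,0,0],9,8,false),([1,0,1,0,1,0,1,0,1,1,0,1,1,0,1,1],9,7,true),([1,1,0,1,1,0,1,1,0,1,0,1,0,1,0,1],9,7,false),([1,0,1,0,1,0,1,1,0,1,0,1,0,1,0,0],15,14,false),([0,0,1,0,1,1,0,1,0,1,1,0,1,0,1,1,0,1,0,1,1],2,1,false),([1,0,1,1,0,1,0,1,1,0,1,0,1,1,0,1,0,1,1,1],19,17,true),([1,0,1,1,0,1,0,1,1,0,1,0,1,1,0,1,0,0],17,16,true),([1,0,1,1,0,1,0,1,1,0,1,0,1,1,0,1,1,1],16,15,true),([1,0,1,1,0,1,0,1,1,0,1,0,1,1,0,0],15,14,true),([1,0,1,1,0,1,0,1,1,0,1,0,1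,1,1],14,12,true),([1,0,1,1,0,1,0,1,1,0,1,0,0],12,11,true),([1,0,1,1,0,1,0,1,1,0,1,1,1],11,10,true),([1,1,1,0,1,1,0,1,0,1,1,0],3,2,true),([1,1,1,0,1,1,0,1,0,1,1,0,1],3,2,true),([1,1,0,1,1,0,1,1,0,1,0,1,1,0],9,4,true),([1,0,1,1,0,1,0,1,1,0,1,1,0,1,1],11,6,true),([1,1,0,1,1,0,1,1,0,1,0,1,1,0,1],9,4,false),([1,1,0,1,0,1,1,0,1,0,1,0,1,0,1],10,6,false),([1,0,1,1,0,1,1,0,1,0,1,0,1,0,0],14,13,true),([1,1,0,1,1,0,1,1,0,1,0,1,0,1],9,1,true),([1,1,0,1,1,0,1,1,0,1,0,1,0,1,0],9,1,false),([0,0,1,0,1,0,1,0,1,1,0,1,1,0,1],2,1,false),([1,0,1,0,1,0,1,1,0,1,1,0,1,1],13,5,false),([0,1,0,1,0,1,0,1,1,0,1,1,0,1,1],14,6,true),([1,0,1,1,0,1,1,0,1,0,1,0,1,1,1],13,12,false),([0,0,1,0,1,0,1,0,1,1,0,1,0,1,0],2,1,true),([1,1,1,0,1,0,1,0,1,1,0,1,1,0,1],3,2,true),([0,1,0,1,0,1,1,0,1,0,1,0,1,0,0],14,13,false),([0,1,0,1,0,1,1,0,1,0,1,0,1,1,1],14,12,false),([1,0,1,0,1,0,1,0,1,1,0,1,0,1,1,0],9,6,true),([1,0,1,0,1,1,0,1,1,0,1,0,1,1,1],14,12,false),([0,0,1,1,0,1,0,1,1,0,1,1,0,1,0,1],2,1,false),([1,1,1,0,1,0,1,1,0,1,1,0,1,0,1],3,1,true),([0,0,1,0,1,1,0,1,0,1,0,1,1,0,1,1],2,1,false),([1,1,0,1,1,0,1,0,1,0,1,1,0,1,0,0],15,14,true),([1,1,0,1,1,0,1,0,1,0,1,1,0,1,1],14,1,true)]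
def R7W : List (List ℕ) := [[],[0],[1],[1,0],[0,1],[1,1],[0,1,0],[1,1,0],[1,0,1],[0,1,1],[1,0,1,0],[0,1,1,0],[0,1,0,1],[1,1,0,1],[1,0,1,1],[0,1,0,1,0],[1,1,0,1,0],[1,0,1,1,0],[1,0,1,0,1],[0,1,1,0,1],[0,1,0,1,1],[1,1,0,1,1],[1,0,1,0,1,0],[0,1,1,0,1,0],[0,1,0,1,1,0],[1,1,0,1,1,0],[0,1,0,1,0,1],[1,1,0,1,0,1],[1,0,1,1,0,1],[1,0,1,0,1,1],[0,1,1,0,1,1],[0,1,0,1,0,1,0],[1,1,0,1,0,1,0],[1,0,1,1,0,1,0],[1,0,1,0,1,1,0],[0,1,1,0,1,1,0],[1,0,1,0,1,0,1],[0,1,1,0,1,0,1],[0,1,0,1,1,0,1],[1,1,0,1,1,0,1],[0,1,0,1,0,1,1],[1,1,0,1,0,1,1],[1,0,1,1,0,1,1],[1,0,1,0,1,0,1,0],[0,1,1,0,1,0,1,0],[0,1,0,1,1,0,1,0],[1,1,0,1,1,0,1,0],[0,1,0,1,0,1,1,0],[1,1,0,1,0,1,1,0],[1,0,1,1,0,1,1,0],[0,1,0,1,0,1,0,1],[1,1,0,1,0,1,0,1],[1,0,1,1,0,1,0,1],[1,0,1,0,1,1,0,1],[0,1,1,0,1,1,0,1],[1,0,1,0,1,0,1,1],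[0,1,1,0,1,0,1,1],[0,1,0,1,1,0,1,1],[1,1,0,1,1,0,1,1],[1,1,0,1,0,1,0,1,0],[1,0,1,1,0,1,0,1,0],[1,0,1,0,1,1,0,1,0],[0,1,1,0,1,1,0,1,0],[1,0,1,0,1,0,1,1,0],[0,1,1,0,1,0,1,1,0],[0,1,0,1,1,0,1,1,0],[0,1,1,0,1,0,1,0,1],[0,1,0,1,1,0,1,0,1],[1,1,0,1,1,0,1,0,1],[0,1,0,1,0,1,1,0,1],[1,1,0,1,0,1,1,0,1],[1,0,1,1,0,1,1,0,1],[0,1,0,1,0,1,0,1,1],[1,1,0,1,0,1,0,1,1],[1,0,1,1,0,1,0,1,1],[1,0,1,0,1,1,0,1,1],[0,1,1,0,1,0,1,0,1,0],[0,1,0,1,1,0,1,0,1,0],[1,1,0,1,1,0,1,0,1,0],[0,1,0,1,0,1,1,0,1,0],[0,1,1,0,1,0,1,1,0,1],[1,0,1,1,0,1,1,0,1,0],[0,1,0,1,0,1,0,1,1,0],[1,1,0,1,0,1,0,1,1,0],[0,1,0,1,1,0,1,0,1,1],[1,0,1,0,1,1,0,1,1,0],[1,0,1,1,0,1,0,1,0,1],[1,0,1,0,1,1,0,1,0,1],[0,1,1,0,1,1,0,1,0,1],[1,0,1,0,1,0,1,1,0,1],[0,1,0,1,1,0,1,1,0,1],[0,1,1,0,1,0,1,0,1,1],[1,1,0,1,1,0,1,0,1,1],[0,1,0,1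,0,1,1,0,1,1],[1,1,0,1,0,1,1,0,1,1],[1,0,1,1,0,1,0,1,0,1,0],[1,0,1,0,1,1,0,1,0,1,0],[0,1,1,0,1,1,0,1,0,1,0],[1,0,1,0,1,0,1,1,0,1,0],[0,1,0,1,1,0,1,1,0,1,0],[0,1,1,0,1,0,1,0,1,1,0],[1,0,1,0,1,1,0,1,0,1,1],[0,1,0,1,0,1,1,0,1,1,0],[1,1,0,1,0,1,1,0,1,1,0],[0,1,0,1,1,0,1,0,1,0,1],[1,1,0,1,1,0,1,0,1,0,1],[0,1,0,1,0,1,1,0,1,0,1],[0,1,1,0,1,0,1,1,0,1,1],[1,0,1,1,0,1,1,0,1,0,1],[0,1,0,1,0,1,0,1,1,0,1],[1,1,0,1,0,1,0,1,1,0,1],[1,0,1,0,1,1,0,1,1,0,1],[1,0,1,1,0,1,0,1,0,1,1],[0,1,1,0,1,1,0,1,0,1,1],[1,0,1,0,1,0,1,1,0,1,1],[0,1,0,1,1,0,1,0,1,0,1,0],[1,1,0,1,1,0,1,0,1,0,1,0],[0,1,0,1,0,1,1,0,1,0,1,0],[0,1,1,0,1,0,1,1,0,1,1,0],[1,0,1,1,0,1,1,0,1,0,1,0],[0,1,0,1,0,1,0,1,1,0,1,0],[1,1,0,1,0,1,0,1,1,0,1,0],[1,0,1,0,1,1,0,1,1,0,1,0],[1,0,1,1,0,1,0,1,0,1,1,0],[0,1,0,1,0,1,1,0,1,0,1,1],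[1,0,1,0,1,0,1,1,0,1,1,0],[1,0,1,0,1,1,0,1,0,1,0,1],[0,1,1,0,1,1,0,1,0,1,0,1],[1,0,1,0,1,0,1,1,0,1,0,1],[0,1,0,1,1,0,1,1,0,1,0,1],[0,1,1,0,1,0,1,0,1,1,0,1],[0,1,0,1,0,1,1,0,1,1,0,1],[1,1,0,1,0,1,1,0,1,1,0,1],[0,1,0,1,1,0,1,0,1,0,1,1],[1,1,0,1,1,0,1,0,1,0,1,1],[1,0,1,1,0,1,1,0,1,0,1,1],[0,1,0,1,0,1,0,1,1,0,1,1],[1,1,0,1,0,1,0,1,1,0,1,1],[1,0,1,0,1,1,0,1,0,1,0,1,0],[0,1,1,0,1,1,0,1,0,1,0,1,0],[1,0,1,0,1,0,1,1,0,1,0,1,0],[0,1,0,1,1,0,1,1,0,1,0,1,0],[0,1,1,0,1,0,1,0,1,1,0,1,0],[0,1,0,1,0,1,1,0,1,1,0,1,0],[1,1,0,1,0,1,1,0,1,1,0,1,0],[0,1,0,1,1,0,1,0,1,0,1,1,0],[1,1,0,1,1,0,1,0,1,0,1,1,0],[1,0,1,0,1,0,1,1,0,1,0,1,1],[0,1,0,1,0,1,0,1,1,0,1,1,0],[1,1,0,1,0,1,0,1,1,0,1,1,0],[0,1,0,1,0,1,1,0,1,0,1,0,1],[0,1,1,0,1,0,1,1,0,1,1,0,1],[0,1,0,1,0,1,0,1,1,0,1,0,1],[1,1,0,1,0,1,0,1,1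,0,1,0,1],[1,0,1,0,1,1,0,1,1,0,1,0,1],[1,0,1,1,0,1,0,1,0,1,1,0,1],[1,0,1,0,1,1,0,1,0,1,0,1,1],[0,1,1,0,1,1,0,1,0,1,0,1,1],[0,1,0,1,1,0,1,1,0,1,0,1,1],[0,1,1,0,1,0,1,0,1,1,0,1,1],[0,1,1,0,1,0,1,1,0,1,1,0,1,0],[0,1,0,1,0,1,1,0,1,1,0,1,0,1],[1,0,1,1,0,1,0,1,0,1,1,0,1,0],[0,1,1,0,1,1,0,1,0,1,0,1,1,0],[0,1,0,1,0,1,0,1,1,0,1,0,1,1],[0,1,1,0,1,0,1,0,1,1,0,1,1,0],[0,1,0,1,1,0,1,0,1,0,1,1,0,1],[0,1,0,1,1,0,1,0,1,0,1,1,0,1,0]]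
theorem R7_closed : closedB R7 53 2 R7W = true := by decide +kernel

theorem holds {G : Type*} [Group G] {x y : G} (hx : x ^ 2 = 1) (hy : y ^ 3 = 1)
    (h7 : (x * y) ^ 7 = 1) (h4 : (x * y * x * y * y) ^ 4 = 1) : Holds (two x y) R7 := by
  refine complete_sound _ _ _ _ fun r hr => ?_
  simp only [R7b, List.mem_cons, List.not_mem_nil, or_false] at hr
  rcases hr with rfl | rfl | rfl | rfl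
  · simpa [two, sq] using hx
  · simpa [two, pow_succ, mul_assoc] using hy
  · simpa [two, pow_succ, mul_assoc] using h7
  · simpa [two, pow_succ, mul_assoc] using h4

theorem hom {G H : Type*} [Group G] [Group H] [IsSimpleGroup G] (hG : Nat.card G = 168) {x y : G}
    (hx : x ^ 2 = 1) (hy : y ^ 3 = 1) (h7 : (x * y) ^ 7 = 1) (h4 : (x * y * x * y * y) ^ 4 = 1)
    (hy' : y ≠ 1) (h7' : x * y ≠ 1) (h4' : (x * y * x * y * y) ^ 2 ≠ 1) {a b : H}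
    (h : Holds (two a b) R7) (hb : b ≠ 1) : ∃ φ : G →* H, Function.Injective φ := by
  have : Finite G := Nat.finite_of_card_ne_zero (by omega)
  have : Fact (Nat.Prime 7) := ⟨by norm_num⟩
  obtain ⟨φ, hφ⟩ := exists_hom (two x y) (two a b) (holds hx hy h7 h4) h R7_closed (by
    set K := Subgroup.closure (two x y '' {i | i < 2})
    have h1 : x ∈ K := Subgroup.subset_closure ⟨0, by simp, rfl⟩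
    have h2 : y ∈ K := Subgroup.subset_closure ⟨1, by simp, rfl⟩
    have d3 := K.orderOf_dvd_natCard h2
    have d7 := K.orderOf_dvd_natCard (K.mul_mem h1 h2)
    have d4 := K.orderOf_dvd_natCard (K.mul_mem (K.mul_mem (K.mul_mem (K.mul_mem h1 h2) h1) h2) h2)
    rw [orderOf_eq_prime hy hy'] at d3
    rw [orderOf_eq_prime h7 h7'] at d7
    rw [orderOf_eq_prime_pow (p := 2) (n := 1) h4' h4] at d4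
    have h5 := K.card_mul_index
    have h6 : 84 ∣ Nat.card K := by omega
    obtain ⟨c, hc⟩ := h6
    rw [hG, hc] at h5
    have h7 : K.index ∣ 2 := ⟨c, by linarith⟩
    rcases (Nat.dvd_prime Nat.prime_two).1 h7 with h8 | h8
    · exact Subgroup.index_eq_one.1 h8
    · rcases (Subgroup.normal_of_index_eq_two h8).eq_bot_or_eq_top with h9 | h9
      · rw [h9, Subgroup.index_bot] at h8; omega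
      · exact h9) (by rw [hG]; rfl)
  exact ⟨φ, CA.SnPres.injective_of_simple φ (x := y) (by rwa [show φ y = b from hφ 1 (by norm_num)])⟩

instance instFact7 : Fact (Nat.Prime 7) := ⟨by norm_num⟩

def x3 : SpecialLinearGroup (Fin 3) (ZMod 2) := ⟨!![0, 0, 1; 0, 1, 0; 1, 0, 0], by
  rw [det_fin_three]; decide⟩
def y3 : SpecialLinearGroup (Fin 3) (ZMod 2) := ⟨!![0, 1, 0; 1, 0, 1; 1, 1, 0], by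
  rw [det_fin_three]; decide⟩
def x2 : SpecialLinearGroup (Fin 2) (ZMod 7) := ⟨!![0, 1; 6, 0], by rw [det_fin_two]; decide⟩
def y2 : SpecialLinearGroup (Fin 2) (ZMod 7) := ⟨!![0, 6; 1, 6], by rw [det_fin_two]; decide⟩

/-- PSL_2(7) is isomorphic to PSL_3(2). -/
theorem result {F K : Type*} [Field F] [Fintype F] [Field K] [Fintype K] (hF : Fintype.card F = 7) (hK : Fintype.card K = 2) : Nonempty (Matrix.ProjectiveSpecialLinearGroup (Fin 2) F ≃* Matrix.ProjectiveSpecialLinearGroup (Fin 3) K) := by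
  open CA.PSL2Struct in
  obtain ⟨e⟩ := CA.FieldIso.nonempty_zmod (F := F) 7 (by rw [Nat.card_eq_fintype_card, hF])
  obtain ⟨f⟩ := CA.FieldIso.nonempty_zmod (F := K) 2 (by rw [Nat.card_eq_fintype_card, hK])
  let g := CA.A8GL4.pslEquivSL (F := ZMod 2) (n := 3) (by norm_num) (by rw [Nat.card_zmod]; rfl)
  have := CA.SLnGen.isSimpleGroup_PSL (ι := Fin 3) (F := ZMod 2) (Or.inl (by simp))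
  have := g.symm.isSimpleGroup
  have hc : Nat.card (SpecialLinearGroup (Fin 3) (ZMod 2)) = 168 := by
    have := CA.SLnCard.card_SL (F := ZMod 2) 3 (by norm_num)
    rw [Nat.card_zmod, Fin.prod_univ_three] at this
    generalize Nat.card (SpecialLinearGroup (Fin 3) (ZMod 2)) = N at this ⊢
    simpa using this
  obtain ⟨φ, hφ⟩ := hom hc (x := x3) (y := y3) (by decide +kernel) (by decide +kernel)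
    (by decide +kernel) (by decide +kernel) (by decide +kernel) (by decide +kernel) (by decide +kernel)
    (a := pr _ x2) (b := pr _ y2) (holds
      (by rw [← map_pow, pr_eq_one_iff]; decide +kernel) (by rw [← map_pow, pr_eq_one_iff]; decide +kernel)
      (by rw [← map_mul, ← map_pow, pr_eq_one_iff]; decide +kernel)
      (by simp only [← map_mul, ← map_pow, pr_eq_one_iff]; decide +kernel))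
    (by rw [Ne, pr_eq_one_iff]; decide +kernel)
  obtain ⟨k⟩ := CA.SnPres.nonempty_equiv_of_injective φ hφ (by
    have := CA.SLnCard.card_PSL2_odd (F := ZMod 7) (by rw [Nat.card_zmod]; decide)
    rw [Nat.card_zmod] at this
    omega)
  exact ⟨(CA.FieldIso.pslEquiv e).trans (k.symm.trans (g.symm.trans (CA.FieldIso.pslEquiv f).symm))⟩

end Cfsg.Agent.S0255
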