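import Cfsg.Statements.S0989
import Cfsg.Agent.Lib.Grp.H28SC
import Cfsg.Agent.Lib.Grp.H28Simp
-- import your own Cfsg.Agent.* helpers here

set_option autoImplicit false
open Cfsg

namespace Cfsg.Agent.S0989

/-- In the symmetric group on p or p + 1 letters, p a prime, the normalizer of a Sylow p-subgroup has order p * (p - 1). -/
theorem result {α : Type*} [Fintype α] [DecidableEq α] (p : ℕ) [Fact p.Prime] (hα : Fintype.card α = p ∨ Fintype.card α = p + 1) (P : Sylow p (Equiv.Perm α)) : Nat.card ↥(Subgroup.normalizer ((P : Subgroup (Equiv.Perm α)) : Set (Equiv.Perm α))) = p * (p - 1) := by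
  have hp : p.Prime := Fact.out
  have h0 : ¬ p ∣ (p - 1).factorial := by
    rw [hp.dvd_factorial]; have := hp.pos; omega
  have h1 : Nat.card (P : Subgroup (Equiv.Perm α)) = p ^ 1 := by
    rcases hα with h | h
    · refine CA.H28Simp.card_sylow_of ?_ h0 P
      rw [Nat.card_perm, Nat.card_eq_fintype_card, h, pow_one, Nat.mul_factorial_pred hp.ne_zero]
    · refine CA.H28Simp.card_sylow_of (m := (p + 1) * (p - 1).factorial) ?_ (fun h2 => ?_) P
      · rw [Nat.card_perm, Nat.card_eq_fintype_card, h, Nat.factorial_succ,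
          ← Nat.mul_factorial_pred hp.ne_zero]
        ring
      · exact hp.one_lt.ne' (Nat.dvd_one.1 ((Nat.dvd_add_right dvd_rfl).1
          ((hp.dvd_mul.1 h2).resolve_right h0)))
  obtain ⟨x, hx, h2⟩ := CA.H28Syl.exists_isSylGen_of_sylow P (h1.trans (pow_one p))
  have key : ∀ y : Equiv.Perm α, orderOf y = p → y.IsCycle ∧ y.support.card = p := fun y hy => by
    have h3 := Equiv.Perm.isCycle_of_prime_order' (σ := y) (hy ▸ hp)
      (by have := hp.two_le; omega)
    exact ⟨h3, h3.orderOf.symm.trans hy⟩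
  have h3 : CA.H28SC.SC p x := ⟨hx.ord, (Subgroup.eq_of_le_of_card_ge (CA.H28Syl.zpowers_le_CC x) (by
    rw [Equiv.Perm.nat_card_centralizer, (key x hx.ord).1.cycleType, (key x hx.ord).2,
      Nat.card_zpowers, hx.ord]
    rcases hα with h | h <;> simp [h])).symm⟩
  rw [h2, h3.card_NN]
  congr 1
  refine le_antisymm (CA.H28Syl.ee_le hx.ord) ?_
  have h4 : (Finset.univ.erase (0 : ZMod p)).card = p - 1 := by simp
  rw [← CA.H28Syl.card_roots hx.ord, ← h4]
  refine Finset.card_le_card fun a ha => Finset.mem_filter.2 ⟨Finset.mem_univ _, ?_⟩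
  have h5 := key _ (CA.H28Syl.orderOf_xp hx.ord (Finset.ne_of_mem_erase ha))
  have h6 := key _ (CA.H28Syl.orderOf_xp hx.ord one_ne_zero)
  rw [(CA.H28Syl.isConj_xp_iff hx.ord (Finset.ne_of_mem_erase ha)).1
    (h5.1.isConj h6.1 (h5.2.trans h6.2.symm)), one_pow]

end Cfsg.Agent.S0989
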