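import Cfsg.Statements.S0990
import Cfsg.Agent.Lib.Grp.H28Aut
-- import your own Cfsg.Agent.* helpers here

set_option autoImplicit false
open Cfsg

namespace Cfsg.Agent.S0990

/-- Let p be an odd prime and P a Sylow p-subgroup of the symmetric group on a finite set with at least two elements. Then P is contained in the alternating group, and twice the order of the normalizer of P inside the alternating group equals the order of the normalizer of P in the symmetric group. -/
theorem result {α : Type*} [Fintype α] [DecidableEq α] (hα : 2 ≤ Fintype.card α) (p : ℕ) [Fact p.Prime] (hp : p ≠ 2) (P : Sylow p (Equiv.Perm α)) : (P : Subgroup (Equiv.Perm α)) ≤ alternatingGroup α ∧ 2 * Nat.card ↥(Subgroup.normalizer ((((P : Subgroup (Equiv.Perm α)).subgroupOf (alternatingGroup α) : Subgroup ↥(alternatingGroup α)) : Set ↥(alternatingGroup α)))) = Nat.card ↥(Subgroup.normalizer ((P : Subgroup (Equiv.Perm α)) : Set (Equiv.Perm α))) := by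
  haveI : Nontrivial α := Fintype.one_lt_card_iff_nontrivial.1 hα
  have h1 : (P : Subgroup (Equiv.Perm α)) ≤ alternatingGroup α :=
    CA.H28Aut.le_of_not_dvd_index P.isPGroup' (by
      rw [alternatingGroup.index_eq_two, Nat.prime_dvd_prime_iff_eq Fact.out Nat.prime_two]
      exact hp)
  refine ⟨h1, ?_⟩
  have h2 := Subgroup.relIndex_sup_right
    (Subgroup.normalizer ((P : Subgroup (Equiv.Perm α)) : Set (Equiv.Perm α))) (alternatingGroup α)
  rw [show Subgroup.normalizer ((P : Subgroup (Equiv.Perm α)) : Set (Equiv.Perm α)) ⊔ _ = ⊤ from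
    P.normalizer_sup_eq_top' h1, Subgroup.relIndex_top_right, alternatingGroup.index_eq_two] at h2
  rw [← Subgroup.subgroupOf_normalizer_eq h1, ← Subgroup.inf_subgroupOf_right,
    Nat.card_congr (Subgroup.subgroupOfEquivOfLe inf_le_right).toEquiv, h2, mul_comm,
    ← Nat.card_congr (Subgroup.subgroupOfEquivOfLe inf_le_left).toEquiv,
    Subgroup.inf_subgroupOf_left]
  exact Subgroup.card_mul_index _

end Cfsg.Agent.S0990
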