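import Cfsg.Statements.S0998
import Cfsg.Agent.Lib.Block.H28BT
import Cfsg.Agent.Lib.Block.H28Br5
-- import your own Cfsg.Agent.* helpers here

set_option autoImplicit false
open Cfsg

namespace Cfsg.Agent.S0998

theorem eq_two_of_four_dvd {q r b : ℕ} (hq : q.Prime) (hr : r.Prime) (h : 4 ∣ r * q ^ b) : q = 2 := by
  by_contra h1
  have h2 : (4 : ℕ).Coprime (q ^ b) := Nat.Coprime.pow_right _
    (Nat.Coprime.pow_left 2 ((Nat.coprime_primes Nat.prime_two hq).2 (Ne.symm h1)))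
  rcases (Nat.dvd_prime hr).1 (h2.dvd_of_dvd_mul_right h) with h3 | h3
  · omega
  · rw [← h3] at hr; norm_num at hr

theorem arith1 {p q r b : ℕ} (hp : p.Prime) (hq : q.Prime) (hr : r.Prime) (h3 : 3 < p)
    (h : 2 * (p * r * q ^ b) = p * (p ^ 2 - 1)) : p = 5 ∨ p = 7 := by
  obtain ⟨f, rfl⟩ := hp.odd_of_ne_two (by omega)
  have h1 : r * q ^ b = 2 * (f * (f + 1)) := by
    have : (2 * f + 1) ^ 2 - 1 = 2 * (2 * f * (f + 1)) := by
      rw [Nat.sub_eq_iff_eq_add (Nat.one_le_pow _ _ (by omega))]; ring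
    rw [this] at h
    exact Nat.eq_of_mul_eq_mul_left (show 0 < 2 * (2 * f + 1) by omega) (by linarith)
  obtain rfl := eq_two_of_four_dvd hq hr (h1 ▸ Nat.mul_dvd_mul_left 2
    (even_iff_two_dvd.1 (Nat.even_mul_succ_self f)))
  have h2 : 3 ∣ r * 2 ^ b := by
    have h4 : ¬ 3 ∣ 2 * f + 1 := fun h4 => by
      have := (Nat.prime_dvd_prime_iff_eq Nat.prime_three hp).1 h4; omega
    rw [h1]
    rcases (by rcases (by omega : f % 3 = 0 ∨ f % 3 = 1 ∨ f % 3 = 2) with e | e | e <;> omega :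
      3 ∣ f ∨ 3 ∣ f + 1) with h5 | h5
    · exact (h5.mul_right _).mul_left _
    · exact (h5.mul_left _).mul_left _
  obtain rfl := (Nat.prime_dvd_prime_iff_eq Nat.prime_three hr).1
    ((Nat.Coprime.pow_right b (by norm_num : (3 : ℕ).Coprime 2)).dvd_of_dvd_mul_right h2)
  have key : ∀ n, Odd n → n ∣ f * (f + 1) → n = 1 ∨ n = 3 := fun n h4 h5 =>
    (Nat.dvd_prime Nat.prime_three).1 ((Nat.Coprime.pow_right b
      (Nat.coprime_two_right.2 h4)).dvd_of_dvd_mul_right (h1 ▸ h5.mul_left _))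
  rcases Nat.even_or_odd f with h4 | h4
  · have := key _ h4.add_one (dvd_mul_left _ _); omega
  · have := key _ h4 (dvd_mul_right _ _); omega

theorem arith2 {p q r b m : ℕ} (hp : p.Prime) (hq : q.Prime) (hr : r.Prime) (h3 : 3 < p)
    (hm : p = 2 ^ m + 1) (h : p * r * q ^ b = (2 ^ m + 1) * 2 ^ m * (2 ^ m - 1)) : m = 2 := by
  have h1 : r * q ^ b = 2 ^ m * (2 ^ m - 1) :=
    Nat.eq_of_mul_eq_mul_left hp.pos (by rw [← mul_assoc, h, ← hm, mul_assoc])
  have h2 : 2 ≤ m := by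
    by_contra h2
    interval_cases m <;> omega
  obtain ⟨k, rfl⟩ := Nat.exists_eq_add_of_le h2
  have h4 : 2 ^ (2 + k) = 4 * 2 ^ k := by ring
  have h5 : 1 ≤ 2 ^ k := Nat.one_le_two_pow
  obtain rfl := eq_two_of_four_dvd hq hr (h1 ▸ Dvd.dvd.mul_right ⟨_, h4⟩ _)
  have h6 := (Nat.dvd_prime hr).1 ((Nat.Coprime.pow_right b (Nat.coprime_two_right.2
    (show Odd (2 ^ (2 + k) - 1) from ⟨2 * 2 ^ k - 1, by omega⟩))).dvd_of_dvd_mul_right
    (h1 ▸ dvd_mul_left _ _))
  have h7 : ¬ 3 ∣ 2 ^ (2 + k) := fun h7 => by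
    have := Nat.le_of_dvd two_pos (Nat.prime_three.dvd_of_dvd_pow h7); omega
  have h8 : ¬ 3 ∣ p := fun h8 => by
    have := (Nat.prime_dvd_prime_iff_eq Nat.prime_three hp).1 h8; omega
  have h9 := (Nat.prime_dvd_prime_iff_eq Nat.prime_three hr).1 (by
    rcases (by omega : 2 ^ k % 3 = 0 ∨ 2 ^ k % 3 = 1 ∨ 2 ^ k % 3 = 2) with e | e | e <;> omega)
  have h10 : 2 ^ k = 2 ^ 0 := by omega
  rw [Nat.pow_right_injective le_rfl h10]

theorem psl_60 {G : Type*} [Group G] [Finite G] [IsSimpleGroup G] (hG : ¬ IsMulCommutative G)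
    (h : Nat.card G = 60) : Nonempty (G ≃* Matrix.ProjectiveSpecialLinearGroup (Fin 2) (ZMod 5)) := by
  haveI : Fact (Nat.Prime 5) := ⟨by norm_num⟩
  have h1 := CA.H28Simp.card_sylow_dvd (p := 5) (a := 1) (m := 12) h (by norm_num)
  have h2 := CA.H28Simp.card_sylow_ne_one hG (p := 5) (by rw [h]; norm_num)
  have h3 := card_sylow_modEq_one 5 G
  have h4 : Nat.card (Sylow 5 G) = 5 + 1 := by
    have := Nat.le_of_dvd (by norm_num) h1
    unfold Nat.ModEq at h3
    generalize Nat.card (Sylow 5 G) = n at *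
    interval_cases n <;> omega
  exact CA.H28Br5.psl2_of_degree (CA.H28BT.perfect hG) (X := Sylow 5 G) h4 (e := 2) rfl two_pos h

theorem aux {G : Type*} [Group G] [Finite G] [IsSimpleGroup G] (hG : ¬ IsCyclic G) (p q r b : ℕ) (hp : p.Prime) (hq : q.Prime) (hr : r.Prime) (hpq : p ≠ q) (hpr : r < p) (hqr : q ≠ r) (hG' : Nat.card G = p * r * q ^ b) : (∃ (F : Type) (_ : Field F) (_ : Fintype F), Fintype.card F = 5 ∧ Nonempty (G ≃* Matrix.ProjectiveSpecialLinearGroup (Fin 2) F)) ∨ (∃ (F : Type) (_ : Field F) (_ : Fintype F), Fintype.card F = 7 ∧ Nonempty (G ≃* Matrix.ProjectiveSpecialLinearGroup (Fin 2) F)) := by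
  haveI := Fact.mk hp
  haveI := Fact.mk hq
  have h1 := CA.H28Simp.not_comm_of_not_cyclic hG
  have h2 : r < p - 1 := by
    by_contra h2
    have h3 : r = 2 := by
      by_contra h3
      have := hr.eq_two_or_odd
      have := hp.eq_two_or_odd
      have := hr.two_le
      omega
    subst h3
    obtain rfl : p = 3 := by omega
    obtain ⟨x, h⟩ := CA.H28Syl.exists_isSylGen (G := G) (p := 2)
      (hG' ▸ (dvd_mul_left _ _).mul_right _) fun h4 => by
        rw [hG', mul_comm] at h4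
        have := (Nat.Coprime.pow 2 b ((Nat.coprime_primes hr hq).2 hqr.symm)).dvd_of_dvd_mul_left h4
        norm_num at this
    exact CA.H28SC.ee_ne_one_of_perfect h (CA.H28BT.perfect h1)
      (Nat.dvd_one.1 (CA.H28Syl.ee_dvd h.ord))
  obtain ⟨h3, ⟨h4, h5⟩ | ⟨m, F, i1, i2, h4, h5, h6, -⟩⟩ := CA.H28Br5.simple_of_lt (p := p) h1
    (hG' ▸ (dvd_mul_right _ _).mul_right _) (CA.H28BT.card_lt h1 hpq (b := b)
      (by rw [hG', mul_right_comm]) h2)
  · rcases arith1 hp hq hr h3 (hG' ▸ h4) with rfl | rfl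
    · exact Or.inl ⟨ZMod 5, inferInstance, inferInstance, ZMod.card 5, h5⟩
    · exact Or.inr ⟨ZMod 7, inferInstance, inferInstance, ZMod.card 7, h5⟩
  · obtain rfl := arith2 hp hq hr h3 h5 (hG' ▸ h6)
    haveI : Fact (Nat.Prime 5) := ⟨by norm_num⟩
    exact Or.inl ⟨ZMod 5, inferInstance, inferInstance, ZMod.card 5, psl_60 h1 h6⟩

/-- A non-cyclic finite simple group whose order has the form p * r * q^b for distinct primes p, q, r is isomorphic to the projective special linear group of dimension 2 over the field with 5 or with 7 elements. -/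
theorem result {G : Type*} [Group G] [Finite G] [IsSimpleGroup G] (hG : ¬ IsCyclic G) (p q r b : ℕ) (hp : p.Prime) (hq : q.Prime) (hr : r.Prime) (hpq : p ≠ q) (hpr : p ≠ r) (hqr : q ≠ r) (hG' : Nat.card G = p * r * q ^ b) : (∃ (F : Type) (_ : Field F) (_ : Fintype F), Fintype.card F = 5 ∧ Nonempty (G ≃* Matrix.ProjectiveSpecialLinearGroup (Fin 2) F)) ∨ (∃ (F : Type) (_ : Field F) (_ : Fintype F), Fintype.card F = 7 ∧ Nonempty (G ≃* Matrix.ProjectiveSpecialLinearGroup (Fin 2) F)) := by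
  rcases lt_or_gt_of_ne hpr with h | h
  · exact aux hG r q p b hr hq hp hqr.symm h hpq.symm (by rw [hG', mul_comm p r])
  · exact aux hG p q r b hp hq hr hpq h hqr hG'

end Cfsg.Agent.S0998
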