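import Cfsg.Statements.S1996
import Cfsg.Agent.Lib.Grp.CFun3
import Cfsg.Agent.S1994

set_option autoImplicit false
universe u
open Cfsg

namespace Cfsg.Agent.S1996

open Subgroup CA.SylIn CA.CFun

theorem aux {G : Type*} [Group G] [Finite G] {p : ℕ} [Fact p.Prime] {W₁ W₂ : Subgroup G → Subgroup G}
    (h₁ : IsConjugacyFunctor p W₁) (h₂ : IsConjugacyFunctor p W₂) (S : Sylow p G)
    (h : ∀ x : G, ∃ a ∈ normalizer (W₁ S : Set G), ∃ b ∈ normalizer (W₂ S : Set G), x = a * b) :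
    SF {W₁, W₂} ⊤ S := by
  intro D g d1 _ d2
  obtain ⟨a, ha, b, hb, rfl⟩ := h g
  have s1 := cf_le_norm h₁ S.2
  have s2 := cf_le_norm h₂ S.2
  obtain ⟨m, hm, e⟩ := (isSylowIn_of_le S (le_inf s1 s2)).exists_conj_le (isPGroup_conj (S.2.to_le d1) b)
    (le_inf (by
      rw [← conj_eq_of_mem (inv_mem ha), ← conj_le_iff_le_inv_conj, conj_conj]; exact d2.trans s1)
      ((conj_mono b (d1.trans s2)).trans (conj_eq_of_mem hb).le))
  rw [conj_conj] at e
  have e' : a * b = a * m⁻¹ * (m * b) := by group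
  rw [e'] at d2 ⊢
  exact (fr_ch _ _).comp D _ _ d1 e d2 (Ch.single d1 ⟨W₂, by simp, mem_top _, mul_mem hm.2 hb⟩ e)
    (Ch.single e ⟨W₁, by simp, mem_inf.2 ⟨mem_top _, mul_mem ha (inv_mem (mem_inf.1 hm).1)⟩⟩ (by rwa [conj_conj]))

/-- Let p be a prime, G a finite group and W₁, W₂ two isomorphism-invariant p-group functors (W assigns to every group Q a subgroup W(Q), nontrivial whenever Q is a nontrivial finite p-group, and every isomorphism from a finite p-group Q onto a group R carries W(Q) onto W(R)). Suppose that G* = N_{G*}(W₁(S*)) N_{G*}(W₂(S*)) whenever G* = K/R is a section of G with C_{G*}(O_p(G*)) ≤ O_p(G*) and S* is a Sylow p-subgroup of G*. Then the pair {W₁, W₂} controls strong fusion in G. -/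
theorem result {G : Type u} [Group G] [Finite G] {p : ℕ} [Fact p.Prime] (W₁ W₂ : ∀ (Q : Type u) [Group Q], Subgroup Q) (hW₁ : Cfsg.IsCharPFunctor.{u} p W₁) (hW₂ : Cfsg.IsCharPFunctor.{u} p W₂) (hfac : ∀ (K R : Subgroup G) [hR : (R.subgroupOf K).Normal], Subgroup.centralizer ((Cfsg.pCore p (↥K ⧸ R.subgroupOf K) : Subgroup (↥K ⧸ R.subgroupOf K)) : Set (↥K ⧸ R.subgroupOf K)) ≤ Cfsg.pCore p (↥K ⧸ R.subgroupOf K) → ∀ T : Sylow p (↥K ⧸ R.subgroupOf K), ∀ x : (↥K ⧸ R.subgroupOf K), ∃ a ∈ Subgroup.normalizer ((Cfsg.inducedFunctor (G := (↥K ⧸ R.subgroupOf K)) W₁ (T : Subgroup (↥K ⧸ R.subgroupOf K)) : Subgroup (↥K ⧸ R.subgroupOf K)) : Set (↥K ⧸ R.subgroupOf K)), ∃ b ∈ Subgroup.normalizer ((Cfsg.inducedFunctor (G := (↥K ⧸ R.subgroupOf K)) W₂ (T : Subgroup (↥K ⧸ R.subgroupOf K)) : Subgroup (↥K ⧸ R.subgroupOf K)) : Set (↥K ⧸ R.subgroupOf K)), x = a * b) : Cfsg.FamilyControlsStrongFusionIn p {Cfsg.inducedFunctor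 (G := G) W₁, Cfsg.inducedFunctor (G := G) W₂} ⊤ := by
  have h𝓦 : ∀ W ∈ ({W₁, W₂} : Set _), IsCharPFunctor.{u} p W := by
    rintro _ (rfl | rfl) <;> assumption
  rw [← Set.image_pair (fun W => inducedFunctor (G := G) W)]
  refine Cfsg.Agent.S1994.result _ h𝓦 fun K R _ hC => ?_
  obtain ⟨S⟩ : Nonempty (Sylow p (K ⧸ R.subgroupOf K)) := inferInstance
  rw [fsf_iff (cf_I h𝓦) (isSylowIn_top S), I, Set.image_pair]
  exact aux (cf_induced hW₁) (cf_induced hW₂) S (hfac K R hC S)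

end Cfsg.Agent.S1996
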