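import Cfsg.Statements.S1997
import Cfsg.Agent.Lib.Grp.CFun3
import Cfsg.Agent.Lib.Loc.H6Ctl
import Cfsg.Agent.S1996

set_option autoImplicit false
universe u
open Cfsg

namespace Cfsg.Agent.S1997

open Subgroup CA.SylIn CA.CFun CA.H6W CA.H6PSolv CA.AmbCore CA.AmbRes CA.H6NPC

def Hyp (p : ℕ) (W : ∀ (Q : Type u) [Group Q], Subgroup Q) (X : Type u) [Group X] : Prop :=
  centralizer (pCore p X : Set X) ≤ pCore p X → ∀ (T : Sylow p X) (x : X),
    ∃ a ∈ centralizer (OZ p (T : Subgroup X) : Set X),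
      ∃ b ∈ normalizer (inducedFunctor W (T : Subgroup X) : Set X), x = a * b

variable {p : ℕ} [Fact p.Prime] {W : ∀ (Q : Type u) [Group Q], Subgroup Q} (hW : IsCharPFunctor.{u} p W)
  {G : Type u} [Group G] [Finite G] (S : Sylow p G)
include hW

theorem fin (h1 : (S : Subgroup G) ⊓ centralizer (pCore p G : Set G) ≤ pCore p G)
    (h2 : OZ p (S : Subgroup G) ≤ pCore p G) (h : Hyp p W (G ⧸ pPrimeCore p G)) (x : G) :
    ∃ a ∈ centralizer (OZ p (S : Subgroup G) : Set G),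
      ∃ b ∈ normalizer (inducedFunctor W (S : Subgroup G) : Set G), x = a * b := by
  obtain ⟨a, ha, b, hb, e⟩ := h (CA.AmbChar.charP_top_iff.1 (CA.H6Ctl.charP_quot_of_centric
    (CA.AmbSyl.sylIn_top S) (pCore_le_sylow S) h1)) (S.mapSurjective π_surj) (π p G x)
  rw [Sylow.coe_mapSurjective, OZ_map (inf_π_ker S.2),
    ← map_centralizer π_surj π_cop (S.2.to_le (OZ_le _ _))] at ha
  rw [Sylow.coe_mapSurjective, (fn_induced hW).map _ S.2 (inf_π_ker S.2),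
    ← map_normalizer π_surj π_cop (S.2.to_le ((fn_induced hW).le _))] at hb
  obtain ⟨a, ha, rfl⟩ := ha
  obtain ⟨b, hb, rfl⟩ := hb
  refine ⟨x * (a * b)⁻¹ * a, mul_mem (centralizer_le h2 (mem_centralizer_iff.2 fun q hq =>
    commute_of_normal_of_disjoint (pCore p G) (π p G).ker inferInstance inferInstance
      (disjoint_iff.2 (inf_π_ker (isPGroup_pCore p G))) q _ hq (by
        rw [MonoidHom.mem_ker, map_mul, e, map_inv, map_mul, mul_inv_cancel]))) ha, b, hb, by group⟩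

theorem main (h : ∀ (K R : Subgroup G) [(R.subgroupOf K).Normal], Hyp p W (K ⧸ R.subgroupOf K))
    (H : Subgroup G) (h1 : (S : Subgroup G) ≤ H) (h2 : OZ p (S : Subgroup G) ≤ pCoreOf p H) :
    ∀ x ∈ H, ∃ a ∈ centralizer (OZ p (S : Subgroup G) : Set G),
      ∃ b ∈ H ⊓ normalizer (inducedFunctor W (S : Subgroup G) : Set G), x = a * b := by
  induction' hn : Nat.card H using Nat.strong_induction_on with n ih generalizing H
  have hS := isSylowIn_of_le S h1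
  have hQ := CA.Amb.norm_inf le_normalizer (CA.Amb.norm_centralizer (norm_pCoreOf p H))
  let L := H ⊓ normalizer (((S : Subgroup G) ⊓ (H ⊓ centralizer (pCoreOf p H : Set G)) : Subgroup G) : Set G)
  have hL : (S : Subgroup G) ≤ L := le_inf h1 (CA.Amb.norm_inf le_normalizer (h1.trans hQ))
  rcases (inf_le_left : L ≤ H).lt_or_eq with e | e
  · intro x hx
    obtain ⟨k, hk, n, n1, rfl⟩ := (hS.inf_of_normal inf_le_left hQ).frattini (hQ hx)
    obtain ⟨a, ha, b, hb, rfl⟩ := ih _ (hn ▸ card_lt_of_lt e) L hL (h2.trans (pCoreOf_le_pCoreOf_of_le e.le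
      ((pCoreOf_le_syl (CA.AmbSyl.sylIn_of_le S h1)).trans hL))) rfl n
      ⟨(H.mul_mem_cancel_left hk.1).1 hx, n1⟩
    exact ⟨k * a, mul_mem (centralizer_le h2 hk.2) ha, b, ⟨hb.1.1, hb.2⟩, (mul_assoc _ _ _).symm⟩
  have e1 := le_pCoreOf (inf_le_left.trans h1) S.2.to_inf_left (inf_eq_left.1 e)
  have e2 : OZ p ((S : Subgroup G).subgroupOf H) = (OZ p (S : Subgroup G)).subgroupOf H :=
    (fn_omega.comp fn_Z).subgroupOf S.2 h1
  have e3 : ∀ (N : Subgroup H) [N.Normal], N = pPrimeCore p H → Hyp p W (H ⧸ N) →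
      Hyp p W (H ⧸ pPrimeCore p H) := fun N _ a b => by subst a; exact b
  have e4 : ((pPrimeCore p H).map H.subtype).subgroupOf H = pPrimeCore p H :=
    comap_map_eq_self_of_injective H.subtype_injective (pPrimeCore p H)
  haveI : (((pPrimeCore p H).map H.subtype).subgroupOf H).Normal := by
    rw [e4]; infer_instance
  intro x hx
  obtain ⟨a, ha, b, hb, e⟩ := fin hW hS.toSylow (fun y hy => mem_pCoreOf_iff.1 (e1 ⟨hy.1, y.2,
    CA.Amb.cent_map H.subtype le_rfl (mem_map_of_mem _ hy.2)⟩))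
    (by rw [hS.coe_toSylow, e2, ← subgroupOf_pCoreOf]; exact comap_mono h2) (e3 _ e4 (h H _)) ⟨x, hx⟩
  rw [hS.coe_toSylow, e2, CA.Amb.centralizer_subgroupOf ((OZ_le _ _).trans h1)] at ha
  rw [hS.coe_toSylow, (fn_induced hW).subgroupOf S.2 h1,
    CA.Amb.normalizer_subgroupOf (((fn_induced hW).le _).trans h1)] at hb
  exact ⟨a, ha, b, ⟨b.2, hb⟩, congrArg Subtype.val e⟩

omit hW in
theorem ncl_le_of {Z A B : Subgroup G} (h : ∀ x ∈ A, ∃ a ∈ centralizer (Z : Set G), ∃ b ∈ A ⊓ B, x = a * b) :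
    ncl Z A ≤ ncl Z B := ncl_le_iff.2 fun g hg => by
  obtain ⟨a, ha, b, hb, e⟩ := h _ (inv_mem hg)
  rw [inv_eq_iff_eq_inv.1 e, mul_inv_rev, CA.Amb.cj, ← conj_conj, conj_eq_of_cent' (inv_mem ha)]
  exact cj_le_ncl Z (inv_mem (mem_inf.1 hb).2)

omit hW

/-- Let p be a prime, G a finite group with Sylow p-subgroup S, and W₁, W₂ two isomorphism-invariant p-group functors (W assigns to every group Q a subgroup W(Q), nontrivial whenever Q is a nontrivial finite p-group, and every isomorphism from a finite p-group Q onto a group R carries W(Q) onto W(R)). Suppose that G* = C_{G*}(Ω₁Z(S*)) N_{G*}(W₁(S*)) = C_{G*}(Ω₁Z(S*)) N_{G*}(W₂(S*)) = N_{G*}(W₁(S*)) N_{G*}(W₂(S*)) whenever G* = K/R is a section of G with C_{G*}(O_p(G*)) ≤ O_p(G*) and S* is a Sylow p-subgroup of G*, where Ω₁Z denotes the subgroup generated by the elements of order dividing p in the centre. Suppose also Ω₁Z(S) ≤ W₁(S) ∩ W₂(S),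 and let A be the normal closure of Ω₁Z(S) in N_G(W₁(S)). Then A is an elementary abelian subgroup of S, strongly closed in S with respect to G, and A controls strong fusion in G. -/
theorem result {G : Type u} [Group G] [Finite G] {p : ℕ} [Fact p.Prime] (S : Sylow p G) (W₁ W₂ : ∀ (Q : Type u) [Group Q], Subgroup Q) (hW₁ : Cfsg.IsCharPFunctor.{u} p W₁) (hW₂ : Cfsg.IsCharPFunctor.{u} p W₂) (hfac : ∀ (K R : Subgroup G) [hR : (R.subgroupOf K).Normal], Subgroup.centralizer ((Cfsg.pCore p (↥K ⧸ R.subgroupOf K) : Subgroup (↥K ⧸ R.subgroupOf K)) : Set (↥K ⧸ R.subgroupOf K)) ≤ Cfsg.pCore p (↥K ⧸ R.subgroupOf K) → ∀ T : Sylow p (↥K ⧸ R.subgroupOf K), (∀ x : (↥K ⧸ R.subgroupOf K), ∃ a ∈ Subgroup.centralizer ((Cfsg.omegaOne p ((T : Subgroup (↥K ⧸ R.subgroupOf K)) ⊓ Subgroup.centralizer (((T : Subgroup (↥K ⧸ R.subgroupOf K)) : Subgroup (↥K ⧸ R.subgroupOf K)) : Set (↥K ⧸ R.subgroupOf K))) : Subgroup (↥K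 ⧸ R.subgroupOf K)) : Set (↥K ⧸ R.subgroupOf K)), ∃ b ∈ Subgroup.normalizer ((Cfsg.inducedFunctor (G := (↥K ⧸ R.subgroupOf K)) W₁ (T : Subgroup (↥K ⧸ R.subgroupOf K)) : Subgroup (↥K ⧸ R.subgroupOf K)) : Set (↥K ⧸ R.subgroupOf K)), x = a * b) ∧ (∀ x : (↥K ⧸ R.subgroupOf K), ∃ a ∈ Subgroup.centralizer ((Cfsg.omegaOne p ((T : Subgroup (↥K ⧸ R.subgroupOf K)) ⊓ Subgroup.centralizer (((T : Subgroup (↥K ⧸ R.subgroupOf K)) : Subgroup (↥K ⧸ R.subgroupOf K)) : Set (↥K ⧸ R.subgroupOf K))) : Subgroup (↥K ⧸ R.subgroupOf K)) : Set (↥K ⧸ R.subgroupOf K)), ∃ b ∈ Subgroup.normalizer ((Cfsg.inducedFunctor (G := (↥K ⧸ R.subgroupOf K)) W₂ (T : Subgroup (↥K ⧸ R.subgroupOf K)) : Subgroup (↥K ⧸ R.subgroupOf K)) : Set (↥K ⧸ R.subgroupOf K)), x = a * b) ∧ (∀ x : (↥K ⧸ R.subgroupOf K), ∃ a ∈ Subgroup.normalizer ((Cfsg.inducedFunctor (G := (↥K ⧸ R.subgroupOf K)) W₁ (T : Subgroup (↥K ⧸ R.subgroupOf K)) : Subgroup (↥K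 ⧸ R.subgroupOf K)) : Set (↥K ⧸ R.subgroupOf K)), ∃ b ∈ Subgroup.normalizer ((Cfsg.inducedFunctor (G := (↥K ⧸ R.subgroupOf K)) W₂ (T : Subgroup (↥K ⧸ R.subgroupOf K)) : Subgroup (↥K ⧸ R.subgroupOf K)) : Set (↥K ⧸ R.subgroupOf K)), x = a * b)) (hZ : Cfsg.omegaOne p ((S : Subgroup G) ⊓ Subgroup.centralizer (((S : Subgroup G) : Subgroup G) : Set G)) ≤ Cfsg.inducedFunctor (G := G) W₁ (S : Subgroup G) ⊓ Cfsg.inducedFunctor (G := G) W₂ (S : Subgroup G)) (N₁ : Subgroup G) (hN₁ : N₁ = Subgroup.normalizer ((Cfsg.inducedFunctor (G := G) W₁ (S : Subgroup G) : Subgroup G) : Set G)) (A : Subgroup G) (hA : A = (Subgroup.normalClosure (((Cfsg.omegaOne p ((S : Subgroup G) ⊓ Subgroup.centralizer (((S : Subgroup G) : Subgroup G) : Set G))).subgroupOf N₁ : Subgroup ↥N₁) : Set ↥N₁)).map N₁.subtype) : A ≤ (S : Subgroup G) ∧ Cfsg.IsElementaryAbelian p A ∧ Cfsg.IsStronglyClosed A (S : Subgroup G) ∧ Cfsg.ControlsStrongFusion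 p A := by
  have c₁ := cf_induced (G := G) hW₁
  have c₂ := cf_induced (G := G) hW₂
  have s₁ := cf_le_norm c₁ S.2
  have s₂ := cf_le_norm c₂ S.2
  have q : ∀ {U : Subgroup G}, U ≤ S → U ≤ pCoreOf p (normalizer (U : Set G)) := fun h =>
    le_pCoreOf le_normalizer (S.2.to_le h) le_rfl
  have z₁ := (hZ.trans inf_le_left).trans (q (cf_le c₁ S.2))
  have z₂ := (hZ.trans inf_le_right).trans (q (cf_le c₂ S.2))
  have e1 := ncl_le_of (main hW₂ S (fun K R _ hC T => (hfac K R hC T).2.1) _ s₁ z₁)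
  have e2 := ncl_le_of (main hW₁ S (fun K R _ hC T => (hfac K R hC T).1) _ s₂ z₂)
  subst hN₁
  rw [map_normalClosure_subgroupOf ((OZ_le _ _).trans s₁)] at hA
  have hQS := pCoreOf_le_syl (CA.AmbSyl.sylIn_of_le S s₁)
  have h1 : A ≤ OZ p (pCoreOf p (normalizer (inducedFunctor W₁ (S : Subgroup G) : Set G))) :=
    hA.le.trans (ncl_le (CA.H6J.omegaOne_le_iff.2 fun x a b => CA.H6J.mem_omegaOne
      ⟨z₁ (CA.H6J.mem_omegaOne a b), centralizer_le hQS a.2⟩ b) ((norm_pCoreOf _ _).trans (norm_OZ _ _)))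
  have h2 : A ≤ S := h1.trans ((OZ_le _ _).trans hQS)
  have h3 : ∀ (D : Subgroup G) g, D ≤ S → g •ᶜ D ≤ S →
      ∃ v ∈ normalizer (A : Set G), ∀ a ∈ D, v * a * v⁻¹ = g * a * g⁻¹ := fun D g d1 d2 =>
    ((fsf_iff (by rintro _ (rfl | rfl) <;> assumption) (isSylowIn_top S)).1
      (Cfsg.Agent.S1996.result W₁ W₂ hW₁ hW₂ fun K R _ hC T => (hfac K R hC T).2.2) D g d1 (mem_top g)
      d2).elim (fr_ctrl S _) le_rfl (by
        rintro E x - ⟨_, rfl | rfl, hx⟩ -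
        · exact ⟨x, hA ▸ norm_ncl _ _ hx.2, fun _ _ => rfl⟩
        · exact ⟨x, (hA.trans (le_antisymm e1 e2)) ▸ norm_ncl _ _ hx.2, fun _ _ => rfl⟩)
  refine ⟨h2, ⟨CA.H6Basic.isMulCommutative_of_le (isAb_OZ _ _).1 h1, fun a ha => (isAb_OZ _ _).2 a (h1 ha)⟩,
    ⟨h2, fun x hx g hg => ?_⟩, S, h2, fun B hB => ⟨hB, fun g hg => ?_⟩⟩
  · obtain ⟨v, hv, e⟩ := h3 (zpowers x) g (zpowers_le.2 (h2 hx)) (by rw [conj_zpowers]; exact zpowers_le.2 hg)
    rw [← e x (mem_zpowers x)]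
    exact conj_mem_of_mem_normalizer hv hx
  · obtain ⟨v, hv, e⟩ := h3 (closure B) g ((closure_le _).2 hB) (conj_closure_le.2 hg)
    exact ⟨v, hv, fun a ha => (e a (subset_closure ha)).symm⟩

end Cfsg.Agent.S1997
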