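import Cfsg.Statements.S2796
import Cfsg.Agent.Lib.Grp.S4F7
import Cfsg.Agent.S1997

set_option autoImplicit false
universe u
open Cfsg

namespace Cfsg.Agent.S2796

open CA.S4F

/-- Let G be a finite group in which the symmetric group of degree 4 is not involved, such that for every section K/R of G with C(O₂(K/R)) ≤ O₂(K/R) every non-abelian composition factor of K/R is a Suzuki group Sz(2^(2n+1)) or PSL₂ over a field with 3^(2n+1) elements. Let S be a Sylow 2-subgroup, J_e(S) the subgroup generated by its elementary abelian subgroups of largest order, and A the normal closure of Ω₁(Z(S)) in N_G(J_e(S)). Then A is an elementary abelian subgroup of S, strongly closed in S with respect to G, and A controls strong fusion in G. -/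
theorem result {G : Type u} [Group G] [Finite G] (hfree : ¬ Cfsg.Involves (Equiv.Perm (Fin 4)) G) (hsec : ∀ (K R : Subgroup G) [hR : (R.subgroupOf K).Normal], Subgroup.centralizer (Cfsg.pCore 2 (K ⧸ R.subgroupOf K) : Set (K ⧸ R.subgroupOf K)) ≤ Cfsg.pCore 2 (K ⧸ R.subgroupOf K) → Cfsg.IsCompositionKGroupWith Cfsg.IsSuzukiOrPSL2OddPowerThree (K ⧸ R.subgroupOf K)) (S : Sylow 2 G) (N : Subgroup G) (hN : N = Subgroup.normalizer (Cfsg.thompsonSubgroupOf 2 (S : Subgroup G) : Set G)) (A : Subgroup G) (hA : A = (Subgroup.normalClosure (((Cfsg.omegaOne 2 ((S : Subgroup G) ⊓ Subgroup.centralizer ((S : Subgroup G) : Set G))).subgroupOf N : Subgroup ↥N) : Set ↥N)).map N.subtype) : A ≤ S ∧ Cfsg.IsElementaryAbelian 2 A ∧ Cfsg.IsStronglyClosed A (S : Subgroup G) ∧ Cfsg.ControlsStrongFusion 2 A := by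
  refine Cfsg.Agent.S1997.result S _ _ (charP_J 2 dvd_rfl) charP_OZJh (fun K R _ hc T => ?_) ?_ N
    (by rw [hN, induced_J, CA.H6J.thompsonSubgroupOf_eq]) A hA
  · obtain ⟨h1, h2, h3⟩ := triple' hc (fun b => hfree (CA.Fus.involves_of_inj _ K.subtype_injective
      (CA.Fus.involves_of_surj _ (QuotientGroup.mk'_surjective _) b))) (hsec K R hc) T
    rw [induced_J, induced_OZJh]
    have h4 := CA.Amb.centralizer_anti (CA.H6J.omegaOne_le 2 (CA.H6J.Z (T : Subgroup (K ⧸ R.subgroupOf K))))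
    refine ⟨fun x => ?_, fun x => ?_, fun x => ?_⟩
    · obtain ⟨c, hc, n, hn, e⟩ := h1 x
      exact ⟨c, h4 hc, n, hn, e⟩
    · obtain ⟨c, hc, n, hn, e⟩ := h2 x
      exact ⟨c, h4 hc, n, CA.H6W.norm_OZ 2 _ hn, e⟩
    · obtain ⟨c, hc, n, hn, e⟩ := h3 x⁻¹
      exact ⟨n⁻¹, inv_mem hn, c⁻¹, inv_mem (Subgroup.centralizer_le_normalizer _ hc), by
        rw [← mul_inv_rev, ← e, inv_inv]⟩
  · rw [induced_J, induced_OZJh]
    exact le_inf ((CA.H6J.omegaOne_Z_le 2 _).trans (CA.H6W.OZ_le 2 _)) (OZ_le_OZ_Jh _)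

end Cfsg.Agent.S2796
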