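import Cfsg.Statements.S2601
import Cfsg.Agent.Lib.Lin.AutOut

set_option autoImplicit false
open Cfsg

namespace Cfsg.Agent.S2601

open CA.AutOut CA.AutFld

/-- Structure of the outer automorphism group of PSL_n(q), n ≥ 3, q = p^f: it has a normal cyclic subgroup of order gcd(n, q − 1) (the diagonal automorphisms) whose quotient is the direct product of a cyclic group of order f (field automorphisms) and a group of order 2 (the inverse-transpose graph automorphism). -/
theorem result {F : Type*} [Field F] [Fintype F] {p f n : ℕ} [Fact p.Prime] (hf : 1 ≤ f) (hF : Fintype.card F = p ^ f) (hn : 3 ≤ n) : ∃ φ : Cfsg.Out (Matrix.ProjectiveSpecialLinearGroup (Fin n) F) →* Multiplicative (ZMod f × ZMod 2), Function.Surjective φ ∧ IsCyclic φ.ker ∧ Nat.card φ.ker = Nat.gcd n (p ^ f - 1) := by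
  obtain ⟨χ, h1, h2, -⟩ := exists_chi_three (F := F) hn
  obtain ⟨e⟩ := nonempty_ringAut_zmod hF
  let e' := (e.prodCongr (MulEquiv.refl CA.AutGam.C2)).trans
    (MulEquiv.prodMultiplicative (ZMod f) (ZMod 2)).symm
  have := exists_out_of_chi (by omega) (e'.toMonoidHom.comp χ) (e'.surjective.comp h1)
    (by rw [← h2]; exact MonoidHom.ker_mulEquiv_comp χ e')
  rwa [Nat.card_eq_fintype_card (α := F), hF] at this

end Cfsg.Agent.S2601
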