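import Cfsg.Statements.S2652
import Cfsg.Agent.Lib.Fi.J22
import Cfsg.Agent.Lib.Fi.FiY
import Cfsg.Agent.Lib.Fi.FiAut
import Cfsg.Agent.Lib.Spor.Fi23Pres

set_option autoImplicit false
open Cfsg

namespace Cfsg.Agent.S2652

open Subgroup CA.Fi CA.Tr3Block in
theorem of_thom {G : Type*} [Group G] [Finite G] {S A B : Subgroup G} (h : thompsonSubgroupOf 2 S = A) (h1 : B ≤ S)
    (h2 : IsElementaryAbelian 2 B) : Nat.card B ≤ Nat.card A ∧ (Nat.card A ≤ Nat.card B → B ≤ A) := by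
  obtain ⟨m, hm, hx⟩ := Set.exists_max_image {B : Subgroup S | IsElementaryAbelian 2 B} (fun B => Nat.card B)
    (Set.toFinite _) ⟨_, CA.JT.elem_sub h2⟩
  have k : ∀ E ∈ maxElementaryAbelianSubgroups 2 S, E.map S.subtype ≤ A := fun E hE => h ▸ map_mono (le_sSup hE)
  have e : Nat.card m ≤ Nat.card A :=
    (card_map_of_injective S.subtype_injective).ge.trans (card_le_of_le (k m ⟨hm, hx⟩))
  have e1 := card_sub h1
  exact ⟨e1.ge.trans ((hx _ (CA.JT.elem_sub h2)).trans e), fun h3 => (map_subgroupOf_eq_of_le h1).ge.trans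
    (k _ ⟨CA.JT.elem_sub h2, fun E hE => (hx E hE).trans (e.trans (h3.trans e1.ge))⟩)⟩

open Subgroup CA.Fi CA.Tr3Block in
theorem main {G : Type*} [Group G] {D : Set G} (M : M23 G D) (T : Sylow 2 G) :
    (∀ A : Subgroup G, A ≤ T → IsElementaryAbelian 2 A → Nat.card A ≤ 2 ^ 11) ∧
    ∃ E : Subgroup G, (E ≤ T ∧ (E.subgroupOf T).Normal ∧ IsElementaryAbelian 2 E ∧ Nat.card E = 2 ^ 11) ∧
      ∀ A : Subgroup G, A ≤ T → IsElementaryAbelian 2 A → Nat.card A = 2 ^ 11 → A = E := by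
  have := M.finite
  have hD := M.prim.cls.1
  obtain ⟨i, hi⟩ := (T.2.map M.φ).nonempty_fixed_point_of_prime_not_dvd_card (Fin C23.n)
    (by rw [Nat.card_fin]; decide)
  set d := M.t i with hd
  have hT : T.1 ≤ centralizer {d} := fun x hx =>
    mem_centralizer_singleton_iff.2 ((M.commute_iff x i).2 (hi ⟨_, mem_map_of_mem _ hx⟩))
  have d2 : orderOf d = 2 := hD.1 _ (M.t_mem i)
  have cd : Nat.card (closure {d}) = 2 := by rw [← zpowers_eq_closure, Nat.card_zpowers, d2]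
  have dT : closure {d} ≤ T := le_sup_right.trans (T.3 (T.2.to_sup_of_normal_right' (.of_card (n := 1) cd)
    (hT.trans ((centralizer_closure _).ge.trans (centralizer_le_normalizer _)))) le_sup_left).le
  obtain ⟨M0⟩ := model22
  have := M0.finite
  obtain ⟨χ, h⟩ := lo23 M M0 (M.t_mem i)
  obtain ⟨M1, h1⟩ := CA.J22.syl M0 ((T.subtype hT).mapSurjective h.surj)
  rw [Sylow.coe_mapSurjective, Sylow.coe_subtype] at h1
  have kc : Nat.card χ.ker = 2 := by rw [h.ker_eq, card_sub h.le, cd]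
  have cc : ∀ U, Nat.card (comap χ U) = Nat.card U * 2 := fun U =>
    kc ▸ (comap_quot χ (le_top.trans (MonoidHom.range_eq_top.2 h.surj).ge)).2
  have key : ∀ A : Subgroup G, A ≤ T → IsElementaryAbelian 2 A →
      Nat.card A ≤ Nat.card ((A.subgroupOf _).map χ) * 2 ∧ Nat.card ((A.subgroupOf _).map χ) ≤ 2 ^ 10 ∧
      (2 ^ 10 ≤ Nat.card ((A.subgroupOf _).map χ) → (A.subgroupOf _).map χ ≤ M1.H CA.J22.gA) := fun A a1 a2 => by
    have a3 := CA.JT.elem_sub (T := centralizer {d}) a2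
    have := a3.1
    have := of_thom (CA.J22.thom M1) (h1 ▸ map_mono (comap_mono a1)) (B := (A.subgroupOf _).map χ)
      ⟨inferInstance, by rintro _ ⟨x, hx, rfl⟩; rw [← map_pow, a3.2 x hx, map_one]⟩
    rw [CA.J22.cardA] at this
    exact ⟨by rw [← cc, ← card_sub (a1.trans hT)]; exact card_le_of_le (le_comap_map _ _), this⟩
  have kT : ∀ x : centralizer {d}, χ x ∈ (T.1.subgroupOf _).map χ → x.1 ∈ T.1 := fun x ⟨y, hy, e⟩ => by
    have := dT ((h.ker (y⁻¹ * x)).1 (by rw [map_mul, map_inv, e, inv_mul_cancel]))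
    simpa using mul_mem (mem_subgroupOf.1 hy) this
  set E := closure {x | x ∈ D ∧ x ∈ T.1} with hE
  have ET : E ≤ T := (closure_le _).2 fun x hx => hx.2
  have cm : ∀ x ∈ {x | x ∈ D ∧ x ∈ T.1}, ∀ y ∈ {x | x ∈ D ∧ x ∈ T.1}, x * y = y * x := fun x hx y hy =>
    commute_of_mul_mem_two hD T.2 hx.1 hy.1 (mul_mem hx.2 hy.2)
  have ab : IsMulCommutative E := isMulCommutative_closure cm
  have el : IsElementaryAbelian 2 E := ⟨ab, fun x hx => by
    induction hx using closure_induction with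
    | mem x hx => rw [← hD.1 x hx.1, pow_orderOf_eq_one]
    | one => simp
    | mul x y hx hy e1 e2 => rw [(show Commute x y from congrArg Subtype.val (ab.1.1 (⟨x, hx⟩ : E) ⟨y, hy⟩)).mul_pow,
        e1, e2, one_mul]
    | inv x _ e => rw [inv_pow, e, inv_one]⟩
  have dE : closure {d} ≤ E := closure_mono (Set.singleton_subset_iff.2 ⟨M.t_mem i, dT (subset_closure rfl)⟩)
  have AE : M1.H CA.J22.gA ≤ (E.subgroupOf _).map χ := by
    rw [← CA.J22.trs M1, closure_le]
    rintro x ⟨x1, x2⟩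
    obtain ⟨y, y1, rfl⟩ := h.bij.2.2 x1
    exact mem_map_of_mem _ (subset_closure ⟨y1.1, kT y (h1 ▸ x2)⟩)
  have cE : comap χ ((E.subgroupOf _).map χ) = E.subgroupOf _ :=
    comap_map_eq_self fun x hx => dE ((h.ker x).1 hx)
  have e10 : Nat.card ((E.subgroupOf _).map χ) = 2 ^ 10 :=
    le_antisymm (key E ET el).2.1 ((CA.J22.cardA M1).ge.trans (card_le_of_le AE))
  have e11 : Nat.card E = 2 ^ 11 := by rw [← card_sub (ET.trans hT), ← cE, cc, e10, ← pow_succ]
  refine ⟨fun A a1 a2 => by have := key A a1 a2; omega, E, ⟨ET, (normal_subgroupOf_iff_le_normalizer ET).2 ?_, el, e11⟩,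
    fun A a1 a2 a3 => eq_of_le_of_card_ge (fun x hx => ?_) (by rw [a3, e11])⟩
  · exact le_normalizer_closure_iff.2 fun g hg x hx =>
      subset_closure ⟨h.conj g x hx.1, mul_mem (mul_mem hg hx.2) (inv_mem hg)⟩
  · have k := key A a1 a2
    exact (show (⟨x, hT (a1 hx)⟩ : centralizer {d}) ∈ E.subgroupOf _ from
      cE.le (AE (k.2.2 (by omega) (mem_map_of_mem χ hx))))

/-- Let T be a Sylow 2-subgroup of the Fischer group Fi₂₃ (the finitely presented group `Spor.Fi23`; T has order 2¹⁸). Then every elementary abelian subgroup of Fi₂₃ contained in T and normal in T has order at most 2¹¹, and there is exactly one such subgroup of order 2¹¹. -/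
theorem result
    (T : Sylow 2 Cfsg.Spor.Fi23) :
    (∀ A : Subgroup Cfsg.Spor.Fi23, A ≤ T → (A.subgroupOf T).Normal → Cfsg.IsElementaryAbelian 2 A →
        Nat.card A ≤ 2 ^ 11) ∧
    ∃! A : Subgroup Cfsg.Spor.Fi23, A ≤ T ∧ (A.subgroupOf T).Normal ∧ Cfsg.IsElementaryAbelian 2 A ∧
        Nat.card A = 2 ^ 11 := by
  obtain ⟨e⟩ := CA.Fi23Pres.equiv
  obtain ⟨M⟩ := CA.Fi.model23
  have f := e.trans (MulEquiv.subgroupCongr CA.Fi23Pres.gens_eq)
  obtain ⟨h1, E, h2, h3⟩ := main (M.map f.symm rfl (CA.FiL.prim_map M.prim _)) T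
  exact ⟨fun A a1 _ a2 => h1 A a1 a2, E, h2, fun A a => h3 A a.1 a.2.2.1 a.2.2.2⟩

end Cfsg.Agent.S2652
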