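import Cfsg.Agent.Lib.Grp.SchurLow
import Cfsg.Agent.Lib.Spor.H22Chev
import Cfsg.Agent.S1055
import Cfsg.Agent.S1059
-- Template for statement S2101 (row 2101; see /opt/grader/pristine/manifest.json for weights).
-- Copy to Cfsg/Agent/S2101.lean and replace the sorry. The statement below is byte-identical to the frozen
-- statement Cfsg.CfsgFrozen.S2101 (Cfsg/Statements/S2101.lean; the theorem Cfsg.kfact_multiplier_g2_three);
-- the grader kernel-checks Cfsg.Agent.S2101.result against that frozen type. Keep the theorem IN THIS FILE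
-- (a `result` declared elsewhere and merely imported here is not credited); helpers may live anywhere
-- under Cfsg/Agent/.
import Cfsg.Statements.S2101
-- import your own Cfsg.Agent.* helpers here

set_option autoImplicit false
open Cfsg

set_option autoImplicit false
set_option maxRecDepth 100000

namespace Cfsg.Agent.S2101
open Cfsg CA.SchurHopf CA.SchurPc CA.SchurCG CA.SchurLow CA.CWord CA.CNet CA.CLevel CA.CSimple CA.CPoint CA.CTodd CA.CLow
universe u
noncomputable section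
def x0 : Net := [(nat_lit 0x1505150514014404415041414150504141450141404400000000041501414141501140004451540111555000555, nat_lit 1),
  (nat_lit 0x200202311332321100131132331001203323313023333222232310320021322323221021012230321022100002, nat_lit 2),
  (nat_lit 0xd04010c020a0a0a0c0e0d06010c000c01090a020a0b0b0e0f0900080c0b0b0f0005070b0c0601030706010000, nat_lit 4),
  (nat_lit 0x20094004c00f90006003b00b000d9008d00f20052009e00600085000500b60048000f004e00f60061005600b4, nat_lit 8),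
  (nat_lit 0xe7e60000abd10000ddb500000d460000f4b1000086d40000e0ad00002ffc00008f7800005a3e0000bf40, nat_lit 16),
  (nat_lit 0x28000000005ed4864a00000000b1c9b65000000000f35e0be100000000e14fbffe00000000c0090000, nat_lit 32),
  (nat_lit 0xb8b7d5a6df40000000000000000bf7fbd3f1ddc6f2f0000000000000000b6b5fffec0290000, nat_lit 64),
  (nat_lit 0xe2adfbf598f13113baff56e97a101c5, nat_lit 128),
  (nat_lit 0xa017adbfd70bbefd56e978101c5, nat_lit 256),
  (nat_lit 0x20048587d60b3afd56e978101c5, nat_lit 128),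
  (nat_lit 0x903ab10ccf50000000000000000a6a57d9e01614a0100000000000000008000000000000000, nat_lit 64),
  (nat_lit 0x2c500000000c86ea840000000008960a044000000001dc3223000000000d559f28a0000000080000000, nat_lit 32),
  (nat_lit 0x65a500002b9000000d840000018e0000fa9e0000aa7600004c22000022640000b82b0000400a00000000, nat_lit 16),
  (nat_lit 0x2005c00d4009b00bc00010087000900430077005800fa000d008a00ec000a001c002000080060000000400040, nat_lit 8),
  (nat_lit 0x20f08090200060c0f020d070001040a0b0e0d0f04080608050209000d0c000f040c060a0b060001080b010100, nat_lit 4),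
  (nat_lit 0x3313310200210011310013022102201303333032111312123220303120221211222001010121002122011000000, nat_lit 2),
  (nat_lit 0x4115450510114554004111515115014101500145440054000011115514404114010550514410154104100000004, nat_lit 1)]
def x1 : Net := [(nat_lit 0x4440100510501454000101405515001551445045054055000015505405115440104010514510154104555000001, nat_lit 1),
  (nat_lit 0x220010002301232222302321113131023011033312330232330011221012032133121000231322232022000001, nat_lit 2),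
  (nat_lit 0xb0e020d0d06070c0305050e060303030f0f0c090a060d000101010c07030b0f0708060b0f030e0207080000, nat_lit 4),
  (nat_lit 0x50043007900e1007d00e500860005009b006b008b003d00ed005400bc003d00cb007400600091008900f800f8, nat_lit 8),
  (nat_lit 0x7d1e00009a9c0000568500009d4a00002fc9000050070000b31f0000a2d60000fa6b0000d2c8000007f8, nat_lit 16),
  (nat_lit 0x176000000004067bd7300000000f10168f10000000013b30ca7000000008364ef4200000000d1311000, nat_lit 32),
  (nat_lit 0xfb292cb5aba0000000000000000ba55014364ec3e1300000000000000004eaafedf61211000, nat_lit 64),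
  (nat_lit 0xb14c073a7bbc81e3dedff2f82c48bd5f, nat_lit 128),
  (nat_lit 0x71ad33c66aeb2fd58a02c59bd5f, nat_lit 256),
  (nat_lit 0x71ac134402c92dd08a02c49bd5f, nat_lit 128),
  (nat_lit 0xbb2f22042a40000000000000000b3c50820228081430000000000000000b064500000000000, nat_lit 64),
  (nat_lit 0x8b000000000e8a256cb00000000719946bd0000000082c3191b0000000003c5ac1f0000000001311000, nat_lit 32),
  (nat_lit 0x75f200004a750000b80400009f35000009d7000001dc0000bf5a0000851a0000f43b0000400800000000, nat_lit 16),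
  (nat_lit 0x9007d001200ab00d1004d00cd00b800c400e5008300170064000a00a4001c0001002c0030001200d000ff0000, nat_lit 8),
  (nat_lit 0x7050504090d0200020d05060206000f040b010804030403010401090001020703060d040b0701030107080000, nat_lit 4),
  (nat_lit 0x3202200131123201113020221112112011032333323222302221010230000122101020022320101330022000000, nat_lit 2),
  (nat_lit 0x114401515410000005111404540104140050101411555155040010501510001004100005510540011155000000, nat_lit 1)]
def x2 : Net := [(nat_lit 0x4440415010010414445545514404004114004404044500441401011015500015110541105401504040041015105, nat_lit 1),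
  (nat_lit 0x122312033103223002233323310020232122132213303032112220332021322331231003111223120213310213, nat_lit 2),
  (nat_lit 0xb040605000d090e08010e07000100000b0408000b0e050a010b010d070e0a030405050a0d0a0c0b0c0b090c00, nat_lit 4),
  (nat_lit 0x4007c004900270017000b004900d5005100e1000d00e300b800e4003d00a0004400720036005600cb00d90016, nat_lit 8),
  (nat_lit 0xd7e8000029b100004be400008268000018a20000b1770000b8c50000fed700001aa300007d4300008213, nat_lit 16),
  (nat_lit 0x64100000000fe37ca1f00000000b507a8d70000000064dc849500000000e5162c6000000000bb0c12b5, nat_lit 32),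
  (nat_lit 0x920cf9fa9b800000000000000001344382e5692479800000000000000002a0ef854e20c5b03, nat_lit 64),
  (nat_lit 0x1c410053841e37b8d19986162ac40d42, nat_lit 128),
  (nat_lit 0xeb215c18199eaa7721248800540, nat_lit 256),
  (nat_lit 0xcb201000111a805201048800540, nat_lit 128),
  (nat_lit 0xca0598180810000000000000000280c8862a682280900000000000000006226700000000000, nat_lit 64),
  (nat_lit 0xc1a00000000fabfe6ba00000000c8d85da5000000005ad52c870000000095ba14040000000042000000, nat_lit 32),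
  (nat_lit 0xb9e7000035a5000088840000bea30000182800008162000012c5000012b200002c870000234300000883, nat_lit 16),
  (nat_lit 0x300580024001e0019000e00740063005500d6004500e100410036007c00c1007600df003200ba00e000480000, nat_lit 8),
  (nat_lit 0x20607060e060e0e0001040b0c05080a0200080808080d06000f0f0a0206020701070c0b03000a000b080c060c, nat_lit 4),
  (nat_lit 0x2121232202201323002233101102320201322020213013100102203031332332230131303311233130011211220, nat_lit 2),
  (nat_lit 0x4110054011101411110511451411114105410440141400454154114104500045010444045401501015000044154, nat_lit 1)]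
def x3 : Net := [(nat_lit 0x5114410504114055415551105000014040054140054511515151004501100001551510510005404150401141401, nat_lit 1),
  (nat_lit 0x2302000323031211123110212332002102202211132332001210020110011021022111302332310012023221003, nat_lit 2),
  (nat_lit 0x20f050b00020b0e070b0c000d06060c0e060e030a0e0b080e040808040e0e000b0f050800080302040a030307, nat_lit 4),
  (nat_lit 0xc00b50019002b0010005b0041000800290049004100ab009500350081004e003200a50070005c009600f50032, nat_lit 8),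
  (nat_lit 0x13a600006b2f000001e0000000470000765d0000b5590000d10900004887000085a30000112a00009904, nat_lit 16),
  (nat_lit 0x4800000000aff9451400000000a01e3dd4000000006f8eaaf5000000001cdbf45b00000000681c1ab0, nat_lit 32),
  (nat_lit 0x33fff73786900000000000000004094a82a1a48b894000000000000000009033029c6344900, nat_lit 64),
  (nat_lit 0xb72587801856295741185c77a40be302, nat_lit 128),
  (nat_lit 0x394218d38690adb64700413a302, nat_lit 256),
  (nat_lit 0x802000024164300413a302, nat_lit 128),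
  (nat_lit 0x23421031a4900000000000000008004c101800e01100000000000000000001a000000000000, nat_lit 64),
  (nat_lit 0x283000000009ba8421000000000050142a4000000008d0b50e400000000087a30660000000000494000, nat_lit 32),
  (nat_lit 0x5cc40000456f000067320000525c0000488b0000525e000081580000caff000079930000304700000220, nat_lit 16),
  (nat_lit 0xb007d00eb00280000003900a600850081004a006d002300cf002200a100f8002200d600700049004a00810060, nat_lit 8),
  (nat_lit 0x204000e0c07010e070b060e0c030e0a0d0606010c0f03020e010b050e070b01020b0d0a0c0a0b0606090a0700, nat_lit 4),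
  (nat_lit 0x2203130301031003123310212213231130303002120030220210130130302101233112302332211011002213000, nat_lit 2),
  (nat_lit 0x5155405145445010140405151404055511140440510110401044004045510041411401050005001545000140410, nat_lit 1)]
def x4 : Net := [(nat_lit 0x401401040554101400044504050145451045440041114041500104141540540101515004400505155010054550, nat_lit 1),
  (nat_lit 0x20232202001022211003003032313002003102102033002021100102213322312031131012010313210200000, nat_lit 2),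
  (nat_lit 0x403050a0a0c02090a0a04030c0b0f0a0e0d0c0204050d0f0901050b0a04020f060d0c0901040f0a030008010b, nat_lit 4),
  (nat_lit 0xf003e00d0003300c200e8003000b100f700fe0043006c006600b1006500f6008400750095005d007700540024, nat_lit 8),
  (nat_lit 0xf3b50000bf4a0000fc7b0000bbc40000a9150000aa7b000011460000e0bb0000664400009f2b00005644, nat_lit 16),
  (nat_lit 0x75600000000bbd33420000000007a21b74a00000000a7ead9d100000000334314c20000000012522bc2, nat_lit 32),
  (nat_lit 0x52f1a56731f0000000000000000898e40d5d43a2b8e0000000000000000ef9a7500638b6400, nat_lit 64),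
  (nat_lit 0xd19113d5168a5e72dde394e4f0916070, nat_lit 128),
  (nat_lit 0x7259aee57ffbfc9f08070104070, nat_lit 256),
  (nat_lit 0x3051aa817e497c8c08030104070, nat_lit 128),
  (nat_lit 0x5254a6e018f0000000000000000043084840420689000000000000000002b01700000000000, nat_lit 64),
  (nat_lit 0x468000000001ed974b500000000532f648c00000000b1424c4500000000f781214000000000c0102000, nat_lit 32),
  (nat_lit 0xc3240000be5a0000e94a00001f44000044060000326b000011340000c132000007ac00008c0100000000, nat_lit 16),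
  (nat_lit 0xe00ba00600023002e00dc0071008e0068004300030024004c002100b700340082003500d400c1005700800000, nat_lit 8),
  (nat_lit 0x60f090a08030f0e0f070e000409020c0f0d0c010d000d040709080f0c080b0f0d0302010a040e000109040a, nat_lit 4),
  (nat_lit 0x1021332002000023330222002032203210131011003233112302110022311122112131122031000233000202230, nat_lit 2),
  (nat_lit 0x5440150454101000154440150151450101004441115040400145150444500101501401550554514004154400, nat_lit 1)]
def x5 : Net := [(nat_lit 0x5554144055410105040044541145054044541004055555055011105504444500501014401410551114014154401, nat_lit 1),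
  (nat_lit 0x1330010331232011103012000223033222302131332322100030230333211100030003302010222002010013230, nat_lit 2),
  (nat_lit 0x70906080d0609050c0f060a060d000d080800010a0a010e03090c040f040607050c0d0000020c030b01080c01, nat_lit 4),
  (nat_lit 0xf00ee008600cc00c500860011006600dc002a000f006f002f00420012006600a0001c0038002d004400250044, nat_lit 8),
  (nat_lit 0x54f6000016e7000091c60000548c0000a30f000017f700005a4d00005df300001f3c0000d2b200004147, nat_lit 16),
  (nat_lit 0x4db000000008039c0f800000000c4ffba61000000002cfd6102000000003f970401000000009120d26a, nat_lit 32),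
  (nat_lit 0x9c54929eb4e0000000000000000ac3904a5c7ebf7470000000000000000c6f3748237c00023, nat_lit 64),
  (nat_lit 0xf0422bcad13cd7155865782c86bb1400, nat_lit 128),
  (nat_lit 0xbebc926ed5e96f7642816ab1400, nat_lit 256),
  (nat_lit 0xa2bc0042c5816f0242816ab1400, nat_lit 128),
  (nat_lit 0x9a38d05794e0000000000000000b6820984802ae141000000000000000086c7200000000000, nat_lit 64),
  (nat_lit 0x2540000000086de88a100000000c1962006000000006988188300000000078d002000000000c0000000, nat_lit 32),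
  (nat_lit 0x10ee000092e40000e1e100005e8800005300000056d50000c10900002dd000000a080000d27400000403, nat_lit 16),
  (nat_lit 0x300ca008000cc00e000a60012009b009600fa000400e6002a00730053002e0035003f000500d9001000200030, nat_lit 8),
  (nat_lit 0xd0d00040d0009080c0b060f000901050c0200000d03080900080d040e060a06060d0c00060c01030b020e0c02, nat_lit 4),
  (nat_lit 0x2132211130231011013313032311120222232131033123101203330320332300000202103030012102200120110, nat_lit 2),
  (nat_lit 0x1110115051515115014144450414114105011400115154005510144501444540500415004540500115010055540, nat_lit 1)]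
def x6 : Net := [(nat_lit 0x4040450540544154004100115011550050010504515115011054411055051510051051114005405405544110051, nat_lit 1),
  (nat_lit 0x3213002022331301013031002013020103230001031111023013023021300200000212210101131120331132110, nat_lit 2),
  (nat_lit 0x9090c0503090c0606010e0600030f030709000e030d000c0c00060009080c06070400030d050805000607060e, nat_lit 4),
  (nat_lit 0xe00a80041000900d90005001400c8002a00fd005200e900a400a4000400ae009a004100fa00a60023002d006e, nat_lit 8),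
  (nat_lit 0xce68000017b80000414700008968000085ea000097fa0000c3e10000c1f10000359a000097b800004ba5, nat_lit 16),
  (nat_lit 0x53a0000000039efceaf000000006395e7a30000000003d1c01b000000001c26069c000000001bb8d529, nat_lit 32),
  (nat_lit 0x73159f4fbbe000000000000000051a32a102400466a0000000000000000cd7a918c380ed700, nat_lit 64),
  (nat_lit 0xe64002a05e56fc32830d7b270b7a2030, nat_lit 128),
  (nat_lit 0x4b15bb4d906af7f838c09422030, nat_lit 256),
  (nat_lit 0x480009408008a1c830409422030, nat_lit 128),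
  (nat_lit 0x631119059260000000000000000c61cb8020992843000000000000000000c02000000000000, nat_lit 64),
  (nat_lit 0xb000000000319dccbb0000000028627c68000000000cd1041100000000012416280000000000000000, nat_lit 32),
  (nat_lit 0x8c6e000095aa0000cd6e0000a12800008848000002d600008278000047cf000075380000149800000080, nat_lit 16),
  (nat_lit 0xa00880003004900a2002c008d005b007100830042007b00e600400006001c008c0041004e0006001100340000, nat_lit 8),
  (nat_lit 0x9090e040700080809090e020700060105080c040305010400080f000202070601040302050c040e0101000e09, nat_lit 4),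
  (nat_lit 0x1230000102332023101130223300021321121021331131010131031021020300021211110313120230130000120, nat_lit 2),
  (nat_lit 0x4440450541544141005014115410050044001401555015410554551051054014001550514140015011110100540, nat_lit 1)]
def x7 : Net := [(nat_lit 0x1014115015011414100501440145505511444154000540155101004504501541544105001415540540454454011, nat_lit 1),
  (nat_lit 0x112320122113232000031320122022030120230111010012010210333230122220101003301032110331201032, nat_lit 2),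
  (nat_lit 0x80d0b070a030d0900030b07070401060003010104050e0a09020c0205070d0d050409000a08070e07010d0a, nat_lit 4),
  (nat_lit 0xd000c00c200050055001100d400bf008d005f00730060004e003f0055000c000b00f2004300440073009c002b, nat_lit 8),
  (nat_lit 0xba700000368e00000348000061f600008c9600009c130000a92600004885000046830000f36d00008c17, nat_lit 16),
  (nat_lit 0xb4500000000d4a7c87000000000ed9ff5bf00000000c99a700600000000bbc4280b000000007a18b071, nat_lit 32),
  (nat_lit 0xe2449ed85d0000000000000000000b18999ac8ced250000000000000000b35880b58f02f418, nat_lit 64),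
  (nat_lit 0xa0c700729b4c259251200c2e54042d05, nat_lit 128),
  (nat_lit 0xa708b9db0d0f6d2c09904162d0d, nat_lit 256),
  (nat_lit 0x870828130002010c09904162d0d, nat_lit 128),
  (nat_lit 0xa280b899dd0000000000000000031c284a509d5150a000000000000000046d2000000000000, nat_lit 64),
  (nat_lit 0x54000000000c6a740f1000000002227b803000000009cea7902000000006ad020890000000040001000, nat_lit 32),
  (nat_lit 0x8a140000341f000016c2000025d2000044ac0000e50b00005d03000088920000020200000b6c00000808, nat_lit 16),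
  (nat_lit 0x7005400d6000700a8008900440027004d007f007f00240046002c0055000c008b00e3005800100072009e0010, nat_lit 8),
  (nat_lit 0x10c0d07070203060b040b0c0b0c0f050208080d050007030a0c030c05050a0f0d050d0005060a0f05050a0d01, nat_lit 4),
  (nat_lit 0x1101321333111121001231222200032021310001211000233100211332030220202102302220010022230203000, nat_lit 2),
  (nat_lit 0x5415115015011401011415440544005505541051040440540401144500504045514404401550150104000444500, nat_lit 1)]
def x8 : Net := [(nat_lit 0x1055100055411514410011145451500114400115015451151400540555145104511414514541000414400000000, nat_lit 1),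
  (nat_lit 0x212212003001111203121232222012223012223131133213103330023013011323013033013013020220220100, nat_lit 2),
  (nat_lit 0xa010b050f0e060e000b06020605000f0e0a0006030d040d020f0d0b00000e080e09050b07070a000d010a00, nat_lit 4),
  (nat_lit 0x2004500da00190060000c0079001b00f4001b00a3003f005900d400e8003500c4009a005300ad008000800000, nat_lit 8),
  (nat_lit 0x6ee20000c9d600001bde000049c80000a9a300003cc100004c75000081e20000c6420000a18400000054, nat_lit 16),
  (nat_lit 0x43d0000000004d9611500000000483b22d900000000d896ba710000000055d6a810000000002f8c2580, nat_lit 32),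
  (nat_lit 0xbbaa9f7036f000000000000000031aa3601f4e140020000000000000000b12cc002838c0854, nat_lit 64),
  (nat_lit 0xfc43e37bcde416d74fc3b640b6673bb4, nat_lit 128),
  (nat_lit 0xb7abff8e75fdafff602bee73bb0, nat_lit 256),
  (nat_lit 0xb480a68661dd292b602bce73bb0, nat_lit 128),
  (nat_lit 0xd50030ec94b0000000000000000b1120043e004404c00000000000000004825c00000000000, nat_lit 64),
  (nat_lit 0x2c6000000003534b8850000000069a11458000000005ab0880600000000549bc81000000000a6840000, nat_lit 32),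
  (nat_lit 0xe1fe00001eec00007b380000f1a9000093fe0000368f00000e62000004c3000067140000058400000054, nat_lit 16),
  (nat_lit 0x8700ae00f90087004500d100c60046003b00e30079009c0022005a0006001d00d600260023000000800000, nat_lit 8),
  (nat_lit 0x20e000804070e03070e0402020309000e0f080b0203050906080a040006030e080e0d0d000e070a040d050a00, nat_lit 4),
  (nat_lit 0x303012220001030033131022230230131033322100233322002133221213021222013022021022020200220000, nat_lit 2),
  (nat_lit 0x4041400101505450110005504505444410040011504541151441501445551144010404504105000410010000000, nat_lit 1)]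
def x9 : Net := [(nat_lit 0x4041400101505450110005504505444410040011504541151441501445551144010404504105000410010000000, nat_lit 1),
  (nat_lit 0x3201312220101131033133032230230010023020000332332112133321322211323013122000032021220230000, nat_lit 2),
  (nat_lit 0x40c060a03010c01090c0e0000090b02090904080400030a000b00060605030d0b050c0608090408020a080800, nat_lit 4),
  (nat_lit 0xd00f7006f00a700f4005600d900e000b2007100be00f5003900f300bd006f00c80025002b007e001000410000, nat_lit 8),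
  (nat_lit 0x536d0000b8f700007a12000072a600009fb8000016fe00001c2e00000498000043180000c4d800000188, nat_lit 16),
  (nat_lit 0xcd2000000005dbebacf0000000051ff12180000000012cfb3660000000061f4d9940000000029000688, nat_lit 32),
  (nat_lit 0xf32802ff11c000000000000000022b2574001b8605e0000000000000000d883109030440908, nat_lit 64),
  (nat_lit 0xc0e18ab5cb625e1f335ea9ee67f0f3e1, nat_lit 128),
  (nat_lit 0xfabebb3e87ebbdff85a3df4f3e1, nat_lit 256),
  (nat_lit 0x4abe80228762359f8121df4f3e1, nat_lit 128),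
  (nat_lit 0x7ea6405ab7f0000000000000000037547c031d0100000000000000000009086800000000000, nat_lit 64),
  (nat_lit 0x1280000000056aad995000000002aa652b20000000006e5821f0000000071b488dc0000000020840000, nat_lit 32),
  (nat_lit 0x10f2000020d10000a8740000a8c40000d78200000ada00001c0d0000148e000041e10000025800000108, nat_lit 16),
  (nat_lit 0x5005c003300dd008e008e001100ac00aa000f009b00ef00c30095009e00ca008100b100540087001000410000, nat_lit 8),
  (nat_lit 0x30c0709070801040d000804090c0f020908000700000b020b05050b080f0a0d0f04010705040508020a000800, nat_lit 4),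
  (nat_lit 0x3303212013010231213121232320213200012023131032313213331033010201132012033012012021230220000, nat_lit 2),
  (nat_lit 0x1055100055411514410011145451500114400115015451151400540555145104511414514541000414400000000, nat_lit 1)]
def x10 : Net := [(nat_lit 0x504545551005051455500114450510414154510051011041415040541055445450510455040054010511040111, nat_lit 1),
  (nat_lit 0x2033000211232003131221001100132303333111312002203330021333003112323120333201301221322002212, nat_lit 2),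
  (nat_lit 0x8040b0506000104090305000d0b010e09080b02050700020f060108020f07080604080108020f070802050805, nat_lit 4),
  (nat_lit 0x2005b00c6008c0042002100df0090004000d6008f00f600d300e00069007600c300380029001000780040003b, nat_lit 8),
  (nat_lit 0x203500001753000007440000a0e60000c90d00005f1a000089300000e8bb0000818f0000103700009ce2, nat_lit 16),
  (nat_lit 0xfad00000000fa5f12280000000054864bb600000000b38124e300000000fd9a5e7800000000c1812f3c, nat_lit 32),
  (nat_lit 0xed7b3e525be00000000000000006d96a94f1a8d88c10000000000000000edb25c3b01126b00, nat_lit 64),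
  (nat_lit 0x51404fc6c7112d86f84df8f2a1018e09, nat_lit 128),
  (nat_lit 0xac41ff997fedf1af019c1138a09, nat_lit 256),
  (nat_lit 0x84413310670c5107019c1130a09, nat_lit 128),
  (nat_lit 0x8959a6896f600000000000000006104ac498000040000000000000000004610c00000000000, nat_lit 64),
  (nat_lit 0x8a651100000000002404451000000000734300a1000000009fb8dc520000000080809000, nat_lit 32),
  (nat_lit 0x200c00005f7b0000942d0000a48c0000292d000017520000299600007e600000a1ac0000211500000c80, nat_lit 16),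
  (nat_lit 0x20095008d005a0019003800e300d0004a0073008f0007009a004b00c9007600e3009100330064005800510000, nat_lit 8),
  (nat_lit 0xd0e0e0705090204030d070407070b0a0a0c000f0e080606040f02010e06040c00040a0a030e010b0b010304, nat_lit 4),
  (nat_lit 0x3022233101022113023301110121203301130200332002210330210113021111302103213001103101122130110, nat_lit 2),
  (nat_lit 0x4455545110550014411410545501050400401451515050414414051445451455001514055114044101040000510, nat_lit 1)]
def x11 : Net := [(nat_lit 0x101010055005505141445050005505155154540000145145141444110105500550041400405111044455555001, nat_lit 1),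
  (nat_lit 0x1002332310021203103002223100301313303020301301033200230302111222103303222302023323200232102, nat_lit 2),
  (nat_lit 0x2040c0f020a0b01090409060f00060d0d0e02000e0a0f0f050103000a070c0f0107030708060d04030a090604, nat_lit 4),
  (nat_lit 0x500f6005e00ae0027000a004f000700f300db005e00e900d800800086007200d500ee00b500ff003f0065008d, nat_lit 8),
  (nat_lit 0x40a20000a5a80000133300000f700000b634000029ee00004c6300001fd4000043bd0000f4a700000756, nat_lit 16),
  (nat_lit 0xb5a00000000981b3ed3000000000200c9fc00000000a9d6fc0a000000007e7b448b00000000300b12bc, nat_lit 32),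
  (nat_lit 0xd1fa0272fff00000000000000009ba5b47b05e5ac0a00000000000000007a1c79c90226c080, nat_lit 64),
  (nat_lit 0x420f09f202a80eef848ba2dddf411216, nat_lit 128),
  (nat_lit 0x8b6eef80f7bbdef76804d491006, nat_lit 256),
  (nat_lit 0x84ca980022396b46004d491006, nat_lit 128),
  (nat_lit 0x12a0310f7d000000000000000099896c8b10700498000000000000000005c5600000000000, nat_lit 64),
  (nat_lit 0x4a70000000051623e820000000001c80d5800000000ae99789a000000000f6d05880000000006110000, nat_lit 32),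
  (nat_lit 0x41a0000a9ed00001eb5000042950000b329000007ae0000df71000009e8000009c30000782700000610, nat_lit 16),
  (nat_lit 0x8002100c5001a000900ef00d400de00d70052004600ea00d600c30094004600d800c700ef004200a300550090, nat_lit 8),
  (nat_lit 0x70d03090e050a0b0a0400050700030b0b0b04010a0c0f0a0c000b000d00000502090e01090605040008000304, nat_lit 4),
  (nat_lit 0x3002020320030103122333010220331233202323230300021221212303111203311332320202120103301001200, nat_lit 2),
  (nat_lit 0x5011010044501544110141441544045141401045404144454540415014500111104401000540501154004415400, nat_lit 1)]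
def x12 : Net := [(nat_lit 0x1011500400055445515414100100140400001445015401414410515045115515104554154545100044054455000, nat_lit 1),
  (nat_lit 0x3122322030010132020310210102303320001223020202333331012331113222022103002122311200011021020, nat_lit 2),
  (nat_lit 0xe0a0d040a09050d0d0200080106010c000504080402030e070e09000d040b0109030200040b03070400030b02, nat_lit 4),
  (nat_lit 0xd00e400240020005f004500b90032008000dc009b000800d1001a00dd00d8000e00c200b300eb005200450052, nat_lit 8),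
  (nat_lit 0x5256000097a80000654e0000a9d20000d35e000008770000658a0000f90100008eb900004950000005ad, nat_lit 16),
  (nat_lit 0xa4500000000e4b2174a00000000d452fc27000000008497df3a00000000e95ea5d70000000008412001, nat_lit 32),
  (nat_lit 0x8a64ba12f870000000000000000b7d9c3563c12490400000000000000005daeba80f15206f8, nat_lit 64),
  (nat_lit 0xd0624f79aa554bb9a0f4126db5abfd2e, nat_lit 128),
  (nat_lit 0x6190e3df396f7de91e3b4bafd6e, nat_lit 256),
  (nat_lit 0x61800084392534e01e3a4bafd6e, nat_lit 128),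
  (nat_lit 0x6c0b632147e0000000000000000609a50053c14082c000000000000000005d0900000000000, nat_lit 64),
  (nat_lit 0x1b500000000638e0d8600000000026f15a400000000bb69ea81000000000538b8060000000058132000, nat_lit 32),
  (nat_lit 0x87760000f5da0000a1c80000ea13000095440000401b000045120000b04400008dc10000214a00000cf9, nat_lit 16),
  (nat_lit 0xd009600c8000c0014006b00810029004d00de00f400160024004a00d0000c002c008c0093006a0018000d0070, nat_lit 8),
  (nat_lit 0x50b030c0605080b02050e030d05030c0407030e0c0200010708090400090a030f0709070007050c08040300, nat_lit 4),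
  (nat_lit 0x132133331011301322122103121012122003223021112221220010222321011230222111122301200011002320, nat_lit 2),
  (nat_lit 0x514515505015151451010415001144000451400514150145510154104450451554551000041510044151515100, nat_lit 1)]
def x13 : Net := [(nat_lit 0x514515505015151451010415001144100451400514151145410154104415451554451000041510044151555100, nat_lit 1),
  (nat_lit 0x33003230011301233033103010112222102232021110221330011222300100330322111303201210001012300, nat_lit 2),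
  (nat_lit 0x40102070d0b050b08070d06070c0503050c0402030002000f000408010d0103060d07040d08070404040f080c, nat_lit 4),
  (nat_lit 0x4007800ee00c100140049009e004600a700e700ac002500ff007300a00049009700590010000900aa00510042, nat_lit 8),
  (nat_lit 0x325500000d2600005471000053b8000035f50000fb060000f92b0000c1dc000048050000ca6d00005ccc, nat_lit 16),
  (nat_lit 0xbf600000000e967562400000000fadac3b70000000046a42d8b000000003f615ee100000000014b400c, nat_lit 32),
  (nat_lit 0xc5fb714e3eb00000000000000003047b3bc8c507a180000000000000000b05e904ea012ad8c, nat_lit 64),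
  (nat_lit 0x6335abee015a2ec7cf4ee2e91f7b18b9, nat_lit 128),
  (nat_lit 0xaff4ffb3c1cf766f2a53e13d0b9, nat_lit 256),
  (nat_lit 0x24c41e9281cd340a0a53e13d0b9, nat_lit 128),
  (nat_lit 0x466ea808380000000000000000764283480a18108100000000000000003720500000000000, nat_lit 64),
  (nat_lit 0x51f00000000b1a33c04000000001a4eea1d000000001354f03800000000382a5e80000000000040c000, nat_lit 32),
  (nat_lit 0xa2780000f3740000c07f00005311000003130000bfe200008e33000025a1000068bc0000810900000c84, nat_lit 16),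
  (nat_lit 0x6008f009300dd0096001800180060000b00e700fe001300f6002500d800eb00d300e9000000c100a000b10000, nat_lit 8),
  (nat_lit 0xe030a0d0d08090508090c0405020004000c040905000306070208060a0506090006090d0e0c0706040c02020c, nat_lit 4),
  (nat_lit 0x3132232331000133020210200002213322002233031303333330111230101232132003003313200200011021000, nat_lit 2),
  (nat_lit 0x1011500400055445515404100100140400001444015401414410514145111515104554154504100044054451000, nat_lit 1)]
def x14 : Net := [(nat_lit 0x4515104144005114040504410401440511110155001101510504550450115140400105115010445041105000000, nat_lit 1),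
  (nat_lit 0x3101223003123321022322221132030113021031102210303331200332100313002202322331021200300000000, nat_lit 2),
  (nat_lit 0x70f0a060e0b06040d000d0c010f060f0c0c090208060a0a0f050e00090309040a0205000c0e03050605080a06, nat_lit 4),
  (nat_lit 0x5001100ef00600015001b00c800f0005800b9005e00640035008500cc00120027008e00400064001c008a0010, nat_lit 8),
  (nat_lit 0xd3ca00008fd80000326e000074f500007bff0000443800002b8e0000689f0000fcfc0000a55800005006, nat_lit 16),
  (nat_lit 0x7d70000000012b1656800000000248e895d00000000b7c4c02600000000e4eedb1800000000690e5218, nat_lit 32),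
  (nat_lit 0xfab73ab65f60000000000000000f560ae02165aa1500000000000000000e64d475440009208, nat_lit 64),
  (nat_lit 0x9c405f240e58b6f8591d3aefc3d241ce, nat_lit 128),
  (nat_lit 0xfaf6fbeb3f4bf6d9479eac2c1cc, nat_lit 256),
  (nat_lit 0x72008b682001b28843962c241cc, nat_lit 128),
  (nat_lit 0xf01c4a4c0200000000000000000595ce2d3454880140000000000000000b645900000000000, nat_lit 64),
  (nat_lit 0x6b900000000936fa0340000000025c8a83a0000000021c6c81a0000000084225c1000000000b910c000, nat_lit 32),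
  (nat_lit 0x19f2000024d600003686000074350000dfb70000c42000000f82000060100000d974000000500000000e, nat_lit 16),
  (nat_lit 0x5007d00f10010009300d300600045002800480050007e002900f9006a001c002200d6000400140008009a0000, nat_lit 8),
  (nat_lit 0x9050e090001030405080f09010e040e0c0d09030e0f0900030d01000d030e000a0607000c0702040a05080a06, nat_lit 4),
  (nat_lit 0x3330132202002303131021323302233002200211130023331321122112101032102302003331201002300001000, nat_lit 2),
  (nat_lit 0x1005455514154500400504450115144505040451451004515005010554415545115544555011444100001000000, nat_lit 1)]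
def x15 : Net := [(nat_lit 0x4554400045001145511051111004401050415104054051051500155004405014451444100005100011004000010, nat_lit 1),
  (nat_lit 0x3010130212003032020133222201310330022223320333031300110022301222202103300301002112001020000, nat_lit 2),
  (nat_lit 0x50e0408020a0f0f0d01080f00070c01060007060a04060b02040809030906090d050b0b040108070b09030100, nat_lit 4),
  (nat_lit 0x300ff00c700d5004000b500f400e500ce00860095008d0050002700b4000a0070004c00e00011002b00200050, nat_lit 8),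
  (nat_lit 0xbedf0000d1e800000f380000c9b30000df1d0000985b00000d5a00004b0c000084100000dc6400000b00, nat_lit 16),
  (nat_lit 0xb4d00000000c693f4fb0000000042828d3a00000000d9f4cbd700000000dcd5a146000000000181d028, nat_lit 32),
  (nat_lit 0x8ce2825d70a000000000000000077a50e9d89b0d96e00000000000000001fe1190699802040, nat_lit 64),
  (nat_lit 0x8e45090611f1a1646704265be5a8ca3d, nat_lit 128),
  (nat_lit 0xbd677bfadf3b6fd3d48d9a9483d, nat_lit 256),
  (nat_lit 0xc4320728d336240948d9a9483d, nat_lit 128),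
  (nat_lit 0xdaee1e0dd100000000000000005361028103160180000000000000000010c8100000000000, nat_lit 64),
  (nat_lit 0x2a100000000c53a46060000000029a0453400000000dce1ca7100000000d1b0a8460000000008808000, nat_lit 32),
  (nat_lit 0xa3b80000228700009e800000c19700003fc50000dc4a00000c300000cc9c000080b30000546400000b00, nat_lit 16),
  (nat_lit 0xa001d0086004c006e002500f9009d000a00690096006e0075003500c0009b007a006800e00099004900200050, nat_lit 8),
  (nat_lit 0xa0f0d030d080509030b040601050a01000c070b0a08020206060f08070802080d030807040102010809030100, nat_lit 4),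
  (nat_lit 0x3021120331221302011212021031233110020121211300000200012132000012000103200301113312000020000, nat_lit 2),
  (nat_lit 0x1440450515500541454051105500105440515500154150005000141014401001145011440104111150004000000, nat_lit 1)]
def x16 : Net := [(nat_lit 0x1555440504515051051114001444141000541400555001504140404411410004044501005500141004015415500, nat_lit 1),
  (nat_lit 0x3222012211003123331003210303233303010003222123333322233332320020113000202110032022112233200, nat_lit 2),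
  (nat_lit 0xd0d050e0b08020e090e0f040f060b0b07010c0c0c080f010f050e070308040f060b0b090f000c000804000008, nat_lit 4),
  (nat_lit 0x3004800ac005f00de007a005100a80060003f00f5007f0039006200cc003c0088007f009a00f9002100f00008, nat_lit 8),
  (nat_lit 0xd3730000af830000a79b000062590000e7700000e6b500008d400000a9ff0000729100009081000080a2, nat_lit 16),
  (nat_lit 0x96400000000d3c4142f000000000ee2c1670000000058d0b90e00000000e6717011000000004851c004, nat_lit 32),
  (nat_lit 0x950b529c36d0000000000000000ca8a6891f462280000000000000000000ccdf00085511800, nat_lit 64),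
  (nat_lit 0x283b3ab1ce1bc64c27549dd263fc5a6, nat_lit 128),
  (nat_lit 0xfaf7afa7ef1cdad605dcf72d506, nat_lit 256),
  (nat_lit 0x48f6a903c600921405dc762d506, nat_lit 128),
  (nat_lit 0xc428112fba4000000000000000000d3aa800412008000000000000000000d8d200000000000, nat_lit 64),
  (nat_lit 0xc960000000085e61fb1000000007491c14600000000db31fda00000000069155000000000000950d000, nat_lit 32),
  (nat_lit 0x634a000069900000c3820000768100006753000063e20000896d0000db2d0000629100001081000000a0, nat_lit 16),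
  (nat_lit 0x8009c003d0021002f004b001600320084003e004400ab000c000c0005008d003400fe00080009002100100000, nat_lit 8),
  (nat_lit 0xb0e070b0c0d0e01010d000207040b0d03010d0e040002000e0e0903070003030d040b090e000c0008000f0408, nat_lit 4),
  (nat_lit 0x230002300020313003102113302033013020300001033330030033120121202201312302011012022121011200, nat_lit 2),
  (nat_lit 0x1040451441451144400101510004151555451401500455100504450011101140500440105441140000100151500, nat_lit 1)]
def x17 : Net := [(nat_lit 0x1040451541451144400101510004141555551401500455100504450011101140500440105441140000100151500, nat_lit 1),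
  (nat_lit 0x32122300022131033300233301001213120100001031012231201122123202201310300013032002123011200, nat_lit 2),
  (nat_lit 0x70e0201090102000900040103090e060d0d040d05000f0f080b070601050d0a0f07050205080f0009010e0900, nat_lit 4),
  (nat_lit 0x900e800650037007c003b009c00a20075002600c60011004a00f7004b00ae0035002f0029005a00a000d90080, nat_lit 8),
  (nat_lit 0xc9a40000f613000070b70000c91600008732000013e200001c11000073fb0000fd5c0000134000000843, nat_lit 16),
  (nat_lit 0xc28000000002fbd417e000000000a105df800000000f2470811000000008f1c113c000000001004b044, nat_lit 32),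
  (nat_lit 0x7ec10d8c9200000000000000000aa3b12c4800118110000000000000000410260400cb00d80, nat_lit 64),
  (nat_lit 0x410e1c602ba02df7d394e517fe46b3ad, nat_lit 128),
  (nat_lit 0xfdda9afe5dfa313e74756e613ec, nat_lit 256),
  (nat_lit 0x9012801458ea101874716e603ec, nat_lit 128),
  (nat_lit 0x19fd22e14210000000000000000a28152002a25086000000000000000000102600000000000, nat_lit 64),
  (nat_lit 0x7ba00000000a62932ae00000000003350cf000000001ac54290000000008d37e801000000005004b000, nat_lit 32),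
  (nat_lit 0x12a0000067b50000ba750000cb9e0000a6a3000077700000c8b10000011b0000fd54000011c000000041, nat_lit 16),
  (nat_lit 0x6006e004500ee0085000a001300a9003900260037005200a100d8000f0036005c00e500000042002000190000, nat_lit 8),
  (nat_lit 0x3000e0d080e0c060c0007010b030e0a050d04080d06080103040f060f02060a0a02060204080f000901050d00, nat_lit 4),
  (nat_lit 0x2301210211201321033201232303231123010201222321313202133333300022123200002112012002110033200, nat_lit 2),
  (nat_lit 0x1555440504515051051114001444141000541400555401504140404411450004044101005500141004015415500, nat_lit 1)]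
def x18 : Net := [(nat_lit 0x4015045514451144011100141440011040454055414115110145011004450454544110440004001000010454040, nat_lit 1),
  (nat_lit 0x1133020220332201303120221122221000112032100113220311221021201311121310112011200001021033020, nat_lit 2),
  (nat_lit 0x9090d0c0601070a04010d060f0806020a0f050d040e0603080f000805080607060800040004060a0305020008, nat_lit 4),
  (nat_lit 0xa00a400580092007f00ed0006001100090099008800bc0011006d00c700ac00d9008a0004002c0019008c0000, nat_lit 8),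
  (nat_lit 0x1aae0000a6eb000049d700002d1b000039d100002ff300001d33000017fa00008f43000043800000100b, nat_lit 16),
  (nat_lit 0xf770000000035f6e9190000000067707edc000000006acfe74600000000be9ee16c0000000000d8900c, nat_lit 32),
  (nat_lit 0xe1112e1ed75000000000000000006c842f6092c8022000000000000000073dc91800c046808, nat_lit 64),
  (nat_lit 0xa3501e1d2b0485a240e101ea4bd977dd, nat_lit 128),
  (nat_lit 0xe4ffbbe93ef76ff420a0d596fdc, nat_lit 256),
  (nat_lit 0x408290a008310fd02020d596fdc, nat_lit 128),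
  (nat_lit 0x2c481725b000000000000000030dc1351008405200000000000000000564e000000000000, nat_lit 64),
  (nat_lit 0xe0000000006f0ace0100000000b7d456cf000000006f90e6cc00000000ec0073280000000000509000, nat_lit 32),
  (nat_lit 0x34ad00005f2500006b0100002d9b0000716d0000f54100005c0d0000337c00008b430000420000000809, nat_lit 16),
  (nat_lit 0x300f40017005b0048009500760092000900240094005a0081007a00ba00b0005700140002008a005b00980000, nat_lit 8),
  (nat_lit 0x10b0a07030c0d05000d0c060d0f05020a080f0a0a06000f0f0d0d0e0f06020e0e0207040001040a010d030808, nat_lit 4),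
  (nat_lit 0x3322331303000130211123323102001020310110001330111101020223213233301132012011200003010301000, nat_lit 2),
  (nat_lit 0x4555055450001404401111501151001040514115014444501144501140451001041551040001001000514414040, nat_lit 1)]
def x19 : Net := [(nat_lit 0x4555055450001404401111501151001040514115014444501144501140451001041551040001001000514414040, nat_lit 1),
  (nat_lit 0x3002103101222132033312002100203000100222333310331123222001031101103300212023110201233323220, nat_lit 2),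
  (nat_lit 0xa01060b020c0606010509060e0c020a01080202010c060f0f070704060d0e0f070100070004010e0f05010006, nat_lit 4),
  (nat_lit 0xd003500ad00320075006300aa00230028009900ca00ee0018000c00f700ff00db00b1008800a2000900460032, nat_lit 8),
  (nat_lit 0xbb4b0000a8cc000060430000cfab0000b95f0000497000008cc6000084190000632000000db200002822, nat_lit 16),
  (nat_lit 0x43d00000000fcc59c1300000000a1d117f2000000008fdb4c730000000033eee8910000000057010242, nat_lit 32),
  (nat_lit 0x18ed208e713000000000000000089331551ca19c00000000000000000002dde69221626e210, nat_lit 64),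
  (nat_lit 0x989318b24e24041f7723812c85d0dcc3, nat_lit 128),
  (nat_lit 0xebb6bfd073f39fdecae9790d4d3, nat_lit 256),
  (nat_lit 0xa394021003e006484ae9690d4d3, nat_lit 128),
  (nat_lit 0x2059ea493e4000000000000000021b00803000500010000000000000000215d600000000000, nat_lit 64),
  (nat_lit 0x7e10000000069558dbb0000000031b3dc5100000000c6d1c8910000000033b5e9b00000000047010000, nat_lit 32),
  (nat_lit 0x1c920000412b0000eda30000cf890000ca99000043d90000080400003195000066a10000023200000810, nat_lit 16),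
  (nat_lit 0x300f200e4000f002e0035000200e300280027006400070045009300280053005b002d00890001000500300010, nat_lit 8),
  (nat_lit 0x1080405020104000d06020f0a0a0a0a010c020c0d03050f0007080b0d080e0f070b0a070001010e0f05000006, nat_lit 4),
  (nat_lit 0x3111302013312003123112012310223000330030102321101033003223123123303332112020130002203011200, nat_lit 2),
  (nat_lit 0x4015045514451144011100141440011040454055414115110145011004450454544110440004001000010454040, nat_lit 1)]
def x20 : Net := [(nat_lit 0x441410101041501141114550450005104505000114011001540111155504155115555001105515440114505404, nat_lit 1),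
  (nat_lit 0x1112021013332021200131211133013223320220200203200111101221333003100330010000000111011103030, nat_lit 2),
  (nat_lit 0xb0505030e0d0c07040e07090606060d070b06020f0302020b050e0b050c05080a030d0103020a03060204050c, nat_lit 4),
  (nat_lit 0xb003c00990082009b00a7003b00c700f100280006003a000d005300ae00b900de00b20000000800f800b40040, nat_lit 8),
  (nat_lit 0x2fce0000954000006e6a00003c51000062e50000285e00003fa4000062ff0000dd500000ea930000299b, nat_lit 16),
  (nat_lit 0xb2a00000000788f461700000000af2bee5f00000000a0dbfdf0000000002b8c5148000000005718cc40, nat_lit 32),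
  (nat_lit 0x71b23c95e6b0000000000000000419a84f8298a64700000000000000000e659b67032144509, nat_lit 64),
  (nat_lit 0xa9e55bb9d2b63c9a1c328d3c426ae1a1, nat_lit 128),
  (nat_lit 0x8bfccbf74d8faeb9150534ec9a0, nat_lit 256),
  (nat_lit 0x81acca130c060289150534e49a0, nat_lit 128),
  (nat_lit 0x10e84e4e5600000000000000000c022928f0904004900000000000000009208000000000000, nat_lit 64),
  (nat_lit 0x82b0000000040ac441600000000bfb7efc700000000bc465431000000002b90d149000000002500a000, nat_lit 32),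
  (nat_lit 0xe693000094400000feea000058c80000a2e50000ca0e000019f5000018850000dc5100008a2400000819, nat_lit 16),
  (nat_lit 0x300ee0062009f00db00b20023006400a1003a00a600b800f60078008a00a900a000f800000049008700910000, nat_lit 8),
  (nat_lit 0xb010501020403070406060f0d0c0509060003070b050a0a0d09080c0c09050b080e0f080300070801000d0108, nat_lit 4),
  (nat_lit 0x1113030030110022130331313332303231202020223213332022001322221011011302100002002123312032030, nat_lit 2),
  (nat_lit 0x540054104141511145540011040544004151140000110441140115415510015405500001115105400054555404, nat_lit 1)]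
def x21 : Net := [(nat_lit 0x540454100551111045540011040554044111040054100441150115405510004401510101115105400054555404, nat_lit 1),
  (nat_lit 0x3113211032200030311331131333311031211232033111331022213311303230033002310002211123311030010, nat_lit 2),
  (nat_lit 0x3030f0201070b010604040f00070d08070207070a000e050b0e0d070c070107050d0c010e080d090a080204, nat_lit 4),
  (nat_lit 0x10064004f0031008600020040005f0081002c00a800a300de005100b300ea00380033000100eb002700780004, nat_lit 8),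
  (nat_lit 0x2950000014570000aea800001d63000043ca000012510000935b0000ca36000070620000d4560000db2e, nat_lit 16),
  (nat_lit 0xaf800000000abaaae6f00000000659ba199000000006566370c000000005368952200000000266c0600, nat_lit 32),
  (nat_lit 0x5dd26c22f7f00000000000000000e1947ff4046a2540000000000000000079e8093d440cc10, nat_lit 64),
  (nat_lit 0xcd20bddbacd8d1f5a2acd36e0a23093b, nat_lit 128),
  (nat_lit 0x2fea6fdb5f78bbb9950ac2a001b, nat_lit 256),
  (nat_lit 0x20aa211b4948a219150ac2a001b, nat_lit 128),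
  (nat_lit 0x2320c3314cc00000000000000008688403d08206c000000000000000000000a900000000000, nat_lit 64),
  (nat_lit 0x852000000008933ac8c000000002802268b00000000e42a232100000000d16ca8200000000006080000, nat_lit 32),
  (nat_lit 0xe34000011e6000027680000546000000d2a0000613a0000ac3b00003b2400003c6300002ac500000b24, nat_lit 16),
  (nat_lit 0x58002200c300a700150058006f000600aa0064008200b200e40097009000af0014000000f800a200180000, nat_lit 8),
  (nat_lit 0x90903000c0d080b02060d07040206010901060e0502070a090901060e0e0507010b0d00010e0f070d0e010600, nat_lit 4),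
  (nat_lit 0x3133023203303303220331011331032013211222202033123101201120331203122130100001200132212101010, nat_lit 2),
  (nat_lit 0x441010501041511541114550450005144545004500111010540111055504154015514401104515440014505404, nat_lit 1)]
def x22 : Net := [(nat_lit 0x441041450101054400050150141504144051504455511450051541500055151501554141101415500514000154, nat_lit 1),
  (nat_lit 0x2231121331230230221213323211021023011300102031102233022233331332301001011301330320233013032, nat_lit 2),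
  (nat_lit 0x4050b0f0b030a04080c0e0b0a0101070b0b04030f050f020e0b0d0b0c000e00030a08090e000b090c000f0400, nat_lit 4),
  (nat_lit 0x60082002000b400aa001f007c001c00fc00ce005e00a100ad00f70003000a00cc0012003d002000b000300090, nat_lit 8),
  (nat_lit 0x58b60000291a00003f680000285c00003d1b000068cb00006b970000a5da0000880d0000896a000034e9, nat_lit 16),
  (nat_lit 0x7dc00000000b189373b00000000e602bd59000000009fa11ebf0000000039560c160000000015e8b801, nat_lit 32),
  (nat_lit 0x375ce9a76880000000000000000c6cb38e190915e2f0000000000000000d4f179e5e7000a50, nat_lit 64),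
  (nat_lit 0x491fb5ede590ffefe31fd3f61eeea591, nat_lit 128),
  (nat_lit 0x69ded67caeba17fda31ede02511, nat_lit 256),
  (nat_lit 0xe00142a0014e9a31ede02511, nat_lit 128),
  (nat_lit 0xe394805c9100000000000000000234a38010ca800490000000000000000a171500000000000, nat_lit 64),
  (nat_lit 0x88500000000692618d400000000e422102400000000376cb90900000000f967285200000000808aa000, nat_lit 32),
  (nat_lit 0xb6b400005d26000009a40000297c0000297900009c0d00000d85000004dd0000bc4d000008f9000008a1, nat_lit 16),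
  (nat_lit 0x6007c0014006200d8003b007b00d000b8000200e100a40042007b0080000b00840053003f000000d100800090, nat_lit 8),
  (nat_lit 0xe000e080b010e000e0801080f0409070e06010d0c000805020e060209040a00020702010b05090900000b0400, nat_lit 4),
  (nat_lit 0x1313000120223010212112123323111100233313301031320303321323231322122212200212020321323013020, nat_lit 2),
  (nat_lit 0x4141010555105145555055450540054044000111114104555540501505004444104104441140015504511000154, nat_lit 1)]
def x23 : Net := [(nat_lit 0x4141011555105145555055450540054044000111114104555540501505004444104104441140015504511000154, nat_lit 1),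
  (nat_lit 0x2020323211110323121221210010222233100000032302013030012010002011211120133121113012010220212, nat_lit 2),
  (nat_lit 0x308030a0e040b00030a040a07010605030104070b00020d000b010906010200000d080c0e050e0600080e0900, nat_lit 4),
  (nat_lit 0xb00d900c9001000f200c4005c00f8006b000000bc00290018005600a0000e0023005500cf0080007400a00060, nat_lit 8),
  (nat_lit 0xa3eb000015090000ec23000045db0000ec5e0000a5070000c52d000080ff00002197000060f600004926, nat_lit 16),
  (nat_lit 0xbc100000000f583c57d00000000da8ac3c50000000045192f0a000000001d9f05540000000003b0e0a4, nat_lit 32),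
  (nat_lit 0xede65cf2fd800000000000000007f7e8c3d142a100200000000000000007ffc90101f0049d4, nat_lit 64),
  (nat_lit 0xfcc52710d66c0f25fc9bedfd303b3c68, nat_lit 128),
  (nat_lit 0xa6fb697a12667ddb9c43d3a1cdc, nat_lit 256),
  (nat_lit 0x272002012267cdb9c43d3a1cdc, nat_lit 128),
  (nat_lit 0x9c92f20883a000000000000000060944300d56c283300000000000000004190100000000000, nat_lit 64),
  (nat_lit 0xaf7000000004f240cca00000000598aea3a00000000e426000b000000000dd38045000000006528a000, nat_lit 32),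
  (nat_lit 0x1961000040ca00000f9a000060db000085c6000058340000f4ed000027fa000041870000641a000002b4, nat_lit 16),
  (nat_lit 0xb00a2008000e9002000cd00db004b007300bb00db00ac00ac007d0004000200b300c0004e008800e000480060, nat_lit 8),
  (nat_lit 0x90d0e07060c020902030b060a040405060e01040e0d0f000b0e0f060b080300040a020e0300060603000f0100, nat_lit 4),
  (nat_lit 0x1102212002102102112120010122112310322013231300221100311100002001032332322032003013000320200, nat_lit 2),
  (nat_lit 0x441041450101014400050150141504144051504455511450051541500055151501554141101415500514000154, nat_lit 1)]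
def t0 : Net := [(nat_lit 0x1055100055411514410011145451500114400115015451151400540555145104511414514541000414400000000, nat_lit 1),
  (nat_lit 0x212212003001111203121232222012223012223131133213103330023013011323013033013013020220220100, nat_lit 2),
  (nat_lit 0xa010b050f0e060e000b06020605000f0e0a0006030d040d020f0d0b00000e080e09050b07070a000d010a00, nat_lit 4),
  (nat_lit 0x2004500da00190060000c0079001b00f4001b00a3003f005900d400e8003500c4009a005300ad008000800000, nat_lit 8),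
  (nat_lit 0x6ee20000c9d600001bde000049c80000a9a300003cc100004c75000081e20000c6420000a18400000054, nat_lit 16),
  (nat_lit 0x43d0000000004d9611500000000483b22d900000000d896ba710000000055d6a810000000002f8c2580, nat_lit 32),
  (nat_lit 0xbbaa9f7036f000000000000000031aa3601f4e140020000000000000000b12cc002838c0854, nat_lit 64),
  (nat_lit 0xfc43e37bcde416d74fc3b640b6673bb4, nat_lit 128),
  (nat_lit 0xb7abff8e75fdafff602bee73bb0, nat_lit 256),
  (nat_lit 0xb480a68661dd292b602bce73bb0, nat_lit 128),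
  (nat_lit 0xd50030ec94b0000000000000000b1120043e004404c00000000000000004825c00000000000, nat_lit 64),
  (nat_lit 0x2c6000000003534b8850000000069a11458000000005ab0880600000000549bc81000000000a6840000, nat_lit 32),
  (nat_lit 0xe1fe00001eec00007b380000f1a9000093fe0000368f00000e62000004c3000067140000058400000054, nat_lit 16),
  (nat_lit 0x8700ae00f90087004500d100c60046003b00e30079009c0022005a0006001d00d600260023000000800000, nat_lit 8),
  (nat_lit 0x20e000804070e03070e0402020309000e0f080b0203050906080a040006030e080e0d0d000e070a040d050a00, nat_lit 4),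
  (nat_lit 0x303012220001030033131022230230131033322100233322002133221213021222013022021022020200220000, nat_lit 2),
  (nat_lit 0x4041400101505450110005504505444410040011504541151441501445551144010404504105000410010000000, nat_lit 1)]
def t1 : Net := [(nat_lit 0x1150001504441155041104151410105400451444041555105051541050010501404115004514045050155455550, nat_lit 1),
  (nat_lit 0x100232103303031103212133321110332333001233031330011120231221031122010102323301223131302000, nat_lit 2),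
  (nat_lit 0xc050905000e080903040e050d0f050000090109070b0b02000706060706010b020f0700070a0302070f000502, nat_lit 4),
  (nat_lit 0xc002200da007d009f008000d3005800bf008e0089000800b4001b005f00fd00e200d700d5001a004c008b001a, nat_lit 8),
  (nat_lit 0x90000c8220000f4c50000885200006ab600006ede00002dbe000015620000b53200005e8600005380, nat_lit 16),
  (nat_lit 0x2f30000000071debae30000000001deda6400000000f843a69700000000e578d2ab0000000023025880, nat_lit 32),
  (nat_lit 0x80217a3362f0000000000000000628aae918e200492000000000000000079d8f4856306a000, nat_lit 64),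
  (nat_lit 0xf0d2cf97ce0403e206255ee234fe4a66, nat_lit 128),
  (nat_lit 0xcb65be355ddcafdfaac74be6266, nat_lit 256),
  (nat_lit 0xc9449a1451902456a0434be6266, nat_lit 128),
  (nat_lit 0x222572b760f0000000000000000642471c055050ab20000000000000000c8a8200000000000, nat_lit 64),
  (nat_lit 0x46200000000aa7910cb000000000338826100000000de82a48600000000144a204e0000000050822000, nat_lit 32),
  (nat_lit 0x4a900007207000046b30000010000009eb4000025dc0000273900000588000095c800002f2400000800, nat_lit 16),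
  (nat_lit 0xc00ea00da004d008700d00056005a00a1008d0071008a00d8009f00dc007b002000830002006e000c00cb0000, nat_lit 8),
  (nat_lit 0x20b0100020e090c05090403010f05080e0905020903030c030204050d0a060f0408010c0a0807010100080702, nat_lit 4),
  (nat_lit 0x123332013323133101012331030010331212100310300310003120011003221303022020012100020200100100, nat_lit 2),
  (nat_lit 0x1415540404505110141140144101515100155044454500104104505014441150444111414410041150000500000, nat_lit 1)]
def t2 : Net := [(nat_lit 0x5455054150040114015510115154114405101141101001054154441554541454445515441444104505414440110, nat_lit 1),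
  (nat_lit 0x3212220213023111222232330222020003100333000311002031323031332300132302320320023001223030030, nat_lit 2),
  (nat_lit 0xe0d01030b070104010e0609060c09040a0b0d0c0f0003020a020709080808010b03070907050200000d0f0808, nat_lit 4),
  (nat_lit 0xeb00220049008500990086000c00bd00b60068005400f6004f00b9000700050073003e003d0010003b0060, nat_lit 8),
  (nat_lit 0x7557000043630000d1e70000ad2700003b8f0000a79b0000778d0000ffe00000406500004a8800000f2d, nat_lit 16),
  (nat_lit 0xf78000000009b7bba8a00000000bd5acd3d00000000c3ac14f100000000ec7d220300000000ed3e5458, nat_lit 32),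
  (nat_lit 0xaf7efb491e5000000000000000030361f44683c2e730000000000000000c257004226b65000, nat_lit 64),
  (nat_lit 0x272060ecce790f2923ecb2e3bf8bfa94, nat_lit 128),
  (nat_lit 0x3def83e3abeabfebd6effe7dabd, nat_lit 256),
  (nat_lit 0xcea80e18a0ab78b4203fa3c0bc, nat_lit 128),
  (nat_lit 0x41c6091c0050000000000000000009090ae0000340100000000000000002a24000000000000, nat_lit 64),
  (nat_lit 0x59800000000b4cd9c2200000000c12e6d88000000002a1254cb00000000a261206300000000082c1000, nat_lit 32),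
  (nat_lit 0x334f00008deb0000d7340000271f0000158d00006d2100003b170000454a0000004500000c0800000309, nat_lit 16),
  (nat_lit 0x800010083006100a40069004600f600a400ba00d000aa005600470090002f006f00180092001d000000110000, nat_lit 8),
  (nat_lit 0x6070b0d030d01040b040e0304020104000f0b04070a010a00020903000a08030d0905030f07080008030c0a00, nat_lit 4),
  (nat_lit 0x3232320233023313222232332222022203102333000331002020323031332100132302300320001100223030020, nat_lit 2),
  (nat_lit 0x5045054150040114015510105154114405101141101001054154441555541554445415441444104505014440110, nat_lit 1)]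
def t3 : Net := [(nat_lit 0x50151415151504114540010144040451151040141515455410001500501154540051440405411010540041110, nat_lit 1),
  (nat_lit 0x1203103232022100232312001001030211130222321011101003221203312302300221120212112302211120230, nat_lit 2),
  (nat_lit 0x2010809040f03010a09060004000003000e0d0c06030e0905060a0c0f0c05080b0a020f090e08020001000208, nat_lit 4),
  (nat_lit 0xf0073008000f900b9008d00ef00e500c0007100b4004c00bf00f000ed003d004700f700f1005900b900440002, nat_lit 8),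
  (nat_lit 0x299d0000e7970000b9300000eed00000b0250000dabd0000568d000035b60000f89e0000b28c00005826, nat_lit 16),
  (nat_lit 0xb5700000000fdbfdf4a000000006316ee4300000000f3b5027d00000000b0ebaa0a0000000028578820, nat_lit 32),
  (nat_lit 0xff54adf3a170000000000000000707189b49842622900000000000000003edd01e8bda31120, nat_lit 64),
  (nat_lit 0xc26a5eaadc7e3ea0af1ba7d61f1d92fb, nat_lit 128),
  (nat_lit 0x2beb623f49bf7df35f49f0312f9, nat_lit 256),
  (nat_lit 0x2a834211482921e25f49f0312f9, nat_lit 128),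
  (nat_lit 0x416ab2100710000000000000000717120042840aa19000000000000000016cc100000000000, nat_lit 64),
  (nat_lit 0x1050000000050be31280000000042176531000000004e159a20000000008aca92080000000000560000, nat_lit 32),
  (nat_lit 0x18bd0000d7b70000b8310000ffd0000081010000ab9d0000668d000025960000e8be0000b28c00000802, nat_lit 16),
  (nat_lit 0xf0073008000f900b900a900ee00c500c0003100b4004c009f00d000e8001d0042007700a80058002900440000, nat_lit 8),
  (nat_lit 0x2010809040f01010a0a060104000002000e0d0c04030e0905060a0c0f0e05080b0a0007080a09020001000200, nat_lit 4),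
  (nat_lit 0x1203103232022100232212001001030010130222321011101002221203312302300221121312102302211120220, nat_lit 2),
  (nat_lit 0x50151415151504114500010144040451151040141515454410001500501154540051414505411010140041010, nat_lit 1)]
def t4 : Net := [(nat_lit 0x4550001440440115140054441554114005505411144400141555441554544040505110051101004040005041000, nat_lit 1),
  (nat_lit 0x3302303213023013123201320302031011022201211030112031122232312012301001200320300103223323010, nat_lit 2),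
  (nat_lit 0xf040c0006090d0903030e0806080100010009050b0604070004000f0a040e0b00080902070d09010e0c040800, nat_lit 4),
  (nat_lit 0x8004a00c0006e00ca00dd0031004d00d100a900d700ea00e300aa00170018007d00f0009800f2003500a10001, nat_lit 8),
  (nat_lit 0x4892000055e800000078000031660000ebd600002e040000286c0000db2e00000991000023d200000301, nat_lit 16),
  (nat_lit 0x400000000605e316f00000000bfcf16e9000000008270012000000000009a5d0600000000d1809129, nat_lit 32),
  (nat_lit 0x2a7bfc4fc570000000000000000541ada2319cf3eb700000000000000009fefe1060e119404, nat_lit 64),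
  (nat_lit 0x746a3d41f07469571d8d14f96a422305, nat_lit 128),
  (nat_lit 0x9f7fdf16b2fbbfffdbfbe722385, nat_lit 256),
  (nat_lit 0x943f1f00105b02d55a90a722205, nat_lit 128),
  (nat_lit 0xa0daa108020000000000000000182a782099044a12000000000000000093dac00000000000, nat_lit 64),
  (nat_lit 0x4000000006a6d704c000000009ceb76e00000000063f040620000000009003d8400000000d8109000, nat_lit 32),
  (nat_lit 0x810000014500000287a0000716400000b54000046b40000686e0000330e00000891000001c200000200, nat_lit 16),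
  (nat_lit 0x8006300c000cd006a003e003100c900e100090057004b00a300ea001700b800f50018009900b2003400800000, nat_lit 8),
  (nat_lit 0x7040c00060b0d0903010408060801000100090f0b060c0f000408050a04060102000a02070d09010e0c000000, nat_lit 4),
  (nat_lit 0x3302303213023033123201300302011011022223011032110031122232310012103203000320300103220302000, nat_lit 2),
  (nat_lit 0x4550001440440115140014441554114005505411144400141544441550144040505110051100004040100041000, nat_lit 1)]
def C : Ctx := ⟨364, 9, [t0, t1, t2, t3, t4, x0, x1, x2, x3, x4, x5, x6, x7, x8, x9, x10, x11, x12, x13, x14, x15, x16, x17, x18, x19, x20, x21, x22, x23]⟩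
theorem hC : C.ok = true := by decide +kernel
noncomputable def lk : ℕ → ℕ → ℕ := look C 64
theorem hlk : Good C lk := good_look hC (by decide +kernel)
abbrev gens : List Word := sg 5
def rels : List Word := [[0,0,0], [2,2,2], [0,2,1,2,0,3], [4,4], [0,4,0,4], [2,4,2,4], [6,6], [0,6,1,6], [4,6,4,6], [0,2,0,6,2,6,3,0,6,2,6,3,6,1,3,6,3,6], [8,8], [0,3,0,8,3,0,8,3,8], [0,2,6,8,3,1,3,6,8,2], [0,2,0,4,6,2,6,3,6,3,8,2,6,2,6,3,6,3,8,6]]
namespace T4
noncomputable def A_0 : List (ℕ) := [nat_lit 0x2020120100a00]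
noncomputable def A : List (List (ℕ)) := [A_0]
noncomputable def K_0 : List (ℕ) := [nat_lit 0x4060000]
noncomputable def K : List (List (ℕ)) := [K_0]
noncomputable def R_0 : List (Rule) := [Rule.mk (nat_lit 1) (nat_lit 19) (Steps.bwd (nat_lit 1) (Steps.bwd (nat_lit 1) Steps.nil)) (nat_lit 0) (nat_lit 0)]
noncomputable def R : List (List (Rule)) := [R_0]
def LW : List Word := [[], [0], [1]]
def par : Par := ⟨9, 2, 11, 20, 511, 2047, 1048575⟩
theorem hpar : par.ok := by decide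
theorem hR0_0 : lall (R) (fun l => lall l (ruleOK rels LW par)) = true := by decide +kernel
theorem hR0 : lall (R) (fun l => lall l (ruleOK rels LW par)) = true := hR0_0
theorem hR : RulesOK rels LW par R := rulesOK_of rfl hR0
def cols : List (ℕ × ℕ) := [(512, 2)]
theorem hcols : lall cols (colOK rels LW par) = true := by decide +kernel
noncomputable def JS0 : List ℕ := [nat_lit 0x401]
theorem S0_c : blocks (facts 9 2 11 20 511 2047 1048575 9 511 1 1 A R 32) 32 JS0 257 = true := by decide +kernel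
theorem S0 : On (Step.{u} rels LW par A) 257 289 :=
  steps_of_blocks hpar hR S0_c (by decide +kernel)
theorem D0_c : allB (defOK 9 11 20 511 1048575 258 A K) 1 2 = true := by decide +kernel
theorem D0 : On (fun r => defOK par.W par.WL par.E par.mW par.mE 258 A K r = true) 256 384 :=
  On.of_allB D0_c
noncomputable def JW0 : List ℕ := [nat_lit 0x3e10042]
theorem W0_c : blocks (rows 9 2 11 20 511 2047 1048575 10 1023 10 A 289 3 cols 128) 128 JW0 0 = true := by decide +kernel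
theorem W0 : On (Row.{u} rels LW par A 289 3 cols) 0 128 :=
  rows_of_blocks hpar (by decide) hcols W0_c (by decide +kernel)
theorem idx : Idx.{u} rels [[0]] [] 3 :=
  idx_of_cert hpar hR (K := K) (by decide +kernel) (T := 258) (T' := 384) (by decide) D0
    (subs := []) (by decide +kernel) (T1 := 257) (by decide) (N := 289) S0
    (by decide) (n' := 128) (by decide) W0 (by decide +kernel) (by decide +kernel)
end T4
theorem b4 : Bound.{u} rels [[0]] 3 := .of_idx T4.idx (.nil _) (by decide)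
namespace T3
noncomputable def A_0 : List (ℕ) := [nat_lit 0x23020048100e40e0380702b028188140440c006020010001080c0f00c052020340180c80404c0201600]
noncomputable def A : List (List (ℕ)) := [A_0]
noncomputable def K_0 : List (ℕ) := [nat_lit 0x82c0e0906814060000]
noncomputable def K : List (List (ℕ)) := [K_0]
noncomputable def R_0 : List (Rule) := [Rule.mk (nat_lit 3) (nat_lit 21) (Steps.bwd (nat_lit 3) (Steps.bwd (nat_lit 3) Steps.nil)) (nat_lit 2) (nat_lit 0),
  Rule.mk (nat_lit 1) (nat_lit 48) (Steps.bwd (nat_lit 4) (Steps.bwd (nat_lit 1) (Steps.bwd (nat_lit 3) (Steps.fwd (nat_lit 512) (Steps.bwd (nat_lit 3) Steps.nil))))) (nat_lit 4) (nat_lit 5),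
  Rule.mk (nat_lit 1) (nat_lit 21) (Steps.bwd (nat_lit 1) (Steps.bwd (nat_lit 1) Steps.nil)) (nat_lit 0) (nat_lit 0),
  Rule.mk (nat_lit 3) (nat_lit 48) (Steps.bwd (nat_lit 1) (Steps.fwd (nat_lit 1536) (Steps.bwd (nat_lit 1) (Steps.bwd (nat_lit 3) (Steps.fwd (nat_lit 512) Steps.nil))))) (nat_lit 4) (nat_lit 4),
  Rule.mk (nat_lit 4) (nat_lit 21) (Steps.bwd (nat_lit 4) (Steps.bwd (nat_lit 4) Steps.nil)) (nat_lit 3) (nat_lit 0),
  Rule.mk (nat_lit 1) (nat_lit 48) (Steps.bwd (nat_lit 4) (Steps.bwd (nat_lit 1) (Steps.bwd (nat_lit 3) (Steps.fwd (nat_lit 512) (Steps.fwd (nat_lit 2048) Steps.nil))))) (nat_lit 4) (nat_lit 5),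
  Rule.mk (nat_lit 3) (nat_lit 48) (Steps.bwd (nat_lit 1) (Steps.bwd (nat_lit 4) (Steps.bwd (nat_lit 1) (Steps.fwd (nat_lit 2048) (Steps.fwd (nat_lit 512) Steps.nil))))) (nat_lit 4) (nat_lit 4)]
noncomputable def R : List (List (Rule)) := [R_0]
def LW : List Word := [[], [0], [1], [2], [3], [0], [1]]
def par : Par := ⟨9, 3, 12, 21, 511, 4095, 2097151⟩
theorem hpar : par.ok := by decide
theorem hR0_0 : lall (R) (fun l => lall l (ruleOK rels LW par)) = true := by decide +kernel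
theorem hR0 : lall (R) (fun l => lall l (ruleOK rels LW par)) = true := hR0_0
theorem hR : RulesOK rels LW par R := rulesOK_of rfl hR0
def cols : List (ℕ × ℕ) := [(512, 2), (1536, 4)]
theorem hcols : lall cols (colOK rels LW par) = true := by decide +kernel
noncomputable def JS0 : List ℕ := [nat_lit 0x400802020470581d81c04010101f0200d40c02018080d00005600008200c05407031]
theorem S0_c : blocks (facts 9 3 12 21 511 4095 2097151 9 511 3 7 A R 32) 32 JS0 263 = true := by decide +kernel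
theorem S0 : On (Step.{u} rels LW par A) 263 295 :=
  steps_of_blocks hpar hR S0_c (by decide +kernel)
theorem D0_c : allB (defOK 9 12 21 511 2097151 263 A K) 1 2 = true := by decide +kernel
theorem D0 : On (fun r => defOK par.W par.WL par.E par.mW par.mE 263 A K r = true) 256 384 :=
  On.of_allB D0_c
noncomputable def JW0 : List ℕ := [nat_lit 0x114341243c0e03a0c0320dc420f8461304a13840]
theorem W0_c : blocks (rows 9 3 12 21 511 4095 2097151 10 1023 20 A 295 8 cols 64) 64 JW0 0 = true := by decide +kernel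
theorem W0 : On (Row.{u} rels LW par A 295 8 cols) 0 64 :=
  rows_of_blocks hpar (by decide) hcols W0_c (by decide +kernel)
theorem idx : Idx.{u} rels [[0], [2]] [[0]] 8 :=
  idx_of_cert hpar hR (K := K) (by decide +kernel) (T := 263) (T' := 384) (by decide) D0
    (subs := [1]) (by decide +kernel) (T1 := 263) (by decide) (N := 295) S0
    (by decide) (n' := 64) (by decide) W0 (by decide +kernel) (by decide +kernel)
end T3
theorem b3 : Bound.{u} rels [[0], [2]] 24 := .of_idx T3.idx b4 (by decide)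
namespace T2
noncomputable def A_0 : List (ℕ) := [nat_lit 0x26010088040060000080002a00]
noncomputable def A : List (List (ℕ)) := [A_0]
noncomputable def K_0 : List (ℕ) := [nat_lit 0x20000]
noncomputable def K : List (List (ℕ)) := [K_0]
noncomputable def R_0 : List (Rule) := [Rule.mk (nat_lit 1) (nat_lit 29) (Steps.bwd (nat_lit 5) (Steps.bwd (nat_lit 1) (Steps.fwd (nat_lit 2560) Steps.nil))) (nat_lit 8) (nat_lit 1),
  Rule.mk (nat_lit 3) (nat_lit 29) (Steps.bwd (nat_lit 5) (Steps.bwd (nat_lit 3) (Steps.fwd (nat_lit 2560) Steps.nil))) (nat_lit 10) (nat_lit 1)]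
noncomputable def R : List (List (Rule)) := [R_0]
def LW : List Word := [[], [0], [1], [2], [3], [4], [0], [1], [2], [3]]
def par : Par := ⟨9, 4, 13, 22, 511, 8191, 4194303⟩
theorem hpar : par.ok := by decide
theorem hR0_0 : lall (R) (fun l => lall l (ruleOK rels LW par)) = true := by decide +kernel
theorem hR0 : lall (R) (fun l => lall l (ruleOK rels LW par)) = true := hR0_0
theorem hR : RulesOK rels LW par R := rulesOK_of rfl hR0
def cols : List (ℕ × ℕ) := [(512, 2), (1536, 4), (2560, 5)]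
theorem hcols : lall cols (colOK rels LW par) = true := by decide +kernel
noncomputable def JS0 : List ℕ := [nat_lit 0x60101c0200809]
theorem S0_c : blocks (facts 9 4 13 22 511 8191 4194303 9 511 2 3 A R 32) 32 JS0 258 = true := by decide +kernel
theorem S0 : On (Step.{u} rels LW par A) 258 290 :=
  steps_of_blocks hpar hR S0_c (by decide +kernel)
theorem D0_c : allB (defOK 9 13 22 511 4194303 257 A K) 1 2 = true := by decide +kernel
theorem D0 : On (fun r => defOK par.W par.WL par.E par.mW par.mE 257 A K r = true) 256 384 :=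
  On.of_allB D0_c
noncomputable def JW0 : List ℕ := [nat_lit 0x1143c0f84410042]
theorem W0_c : blocks (rows 9 4 13 22 511 8191 4194303 10 1023 30 A 290 2 cols 42) 42 JW0 0 = true := by decide +kernel
theorem W0 : On (Row.{u} rels LW par A 290 2 cols) 0 42 :=
  rows_of_blocks hpar (by decide) hcols W0_c (by decide +kernel)
theorem idx : Idx.{u} rels [[0], [2], [4]] [[0], [2]] 2 :=
  idx_of_cert hpar hR (K := K) (by decide +kernel) (T := 257) (T' := 384) (by decide) D0
    (subs := [1,3]) (by decide +kernel) (T1 := 258) (by decide) (N := 290) S0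
    (by decide) (n' := 42) (by decide) W0 (by decide +kernel) (by decide +kernel)
end T2
theorem b2 : Bound.{u} rels [[0], [2], [4]] 48 := .of_idx T2.idx b3 (by decide)
namespace T1
noncomputable def A_0 : List (ℕ) := [nat_lit 0x3a0cca3288e63b98d53998c838c8e43588c133889b3350ea3a90e43908c731cc9b26d85d2498583bc8d7374cc135d0b22dd8742c986f3798d030588a340c9e370cdb3ac8d13b18da34c8db36ccbe34509e3690d83610bd2f44cf3494cf33c49e2794be2f88a0319891281860350caf354ca41b183a2b54af2bcca22884642918631918362cd0b4245057214c4e2eccac144c501ecc4621c8862f087c1f08ac2b0c7a1a4c682ad0a52a94ae1a886b298466260cc91dd078170c3215502c1c103d23d0c230c4c230909422cc532548c8324cb6320ccc2e08b933089730088923448c274ca1284c6218946318c83627c88328c8812e98781d104016105916502f24d8b02414b42d08732d58961cd8b62508c52d889632cc9a2590972c106d314c8c2c549a268cb91e14542e548c230454150c2c23886127045e29488022047d14048621904e1f4c482b8ca81ac83a2a087f1a18a92a4c6d1bc48a17503225c8a71f9048438d0143450a431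10942d0fc4295094250fd420c3a41cc1c41943a0e8c2317cc5e20cc4c264c76228c89224c5229d8661fd08019903719548020104921145e178c34208c81180c35185481204c4a414d030d8c2641150340cc194089014048fe40184b3fd8673f984d3f48fa3f08fb3ec8f93e98f53e58f43e04f63dd0f63d84f414c82c1d48761d884314982a0b181410d81f1e884613884f13c8291e58441198200a58131c884015885715c82f1c583e10181e0bd81516c8321b486e1b883d1698300c98160f581d0e481c1208491248230dd81a07180e08d8111308260d08350d481912982409981206580d0844110fc81e11c44b0e044d0b482e06c41a06840e0c08310a841410903c0888110f043b11503b0ed06719c84b12cc410cc84d134c270c481609c4130a101806102e0b88150f902411042009041209504110441f0ad01705c40d3d54f43d0cf3050c1307cc1008141304cc0b078c1d054c0c05941d074c0f038c0d044c0904940d034c063cd80a04080902c80c03080603d80702580301980202900801440401c40302100401040200d402008c01005800,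
  nat_lit 0x17c48218048302980a0280f30d9436064c36098c190e943a070c3a08cc1c0200f40d81050641040e81060701080400f909810303410c08c1070381090240fc04810b04410a0cd84b09410e0e186713584708410d12c10119c10211c0fe0cc1000e00ff1e4c7913cc4f43190440d90b42c50e3f8d0d42d50c42910b41d90a3f110a168c7514cc6e42190941d50808cd08418d07070d0620d45f0d0c5f210c8322949929cc99148c8a22587f29d4891d8ca719947f12507f1950661798650dd0651590561c9072211880130c84181482128c82184c600d4c610d9505064d05410c36098d040e19023f89020cd9014015013fc9003f94ff3dd8fd3f14fd3d98fc3e48fc3e18fb3e54fa3d04f83d44f70ad8531d545314885310587510c8751098761494760b085210d42c11587a13947a1e487a09d84e0a484e0a184f1e544f1188790a54460fd8721594721c48720b58560bc8560b98571c54571008710bd4400c585b1b545b16885b0ed86d0f486d0f186e16946e0c885a0f543206d8391214390dc83908584808c8480898490dd44907083708d41c09584c0d144c12884c05d83406483406183512943509884a0654260fd02111cc2106d42108842111d03f0b543f0f883f0e144719c4470b503806cc380cc43806d0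2d05482d03841b0a901a0c0c1a08941a0a8c300f143005883010942a0ac42a10484207c4420890420f102207443c11084508044509d44519d0450ec41d0c543b1354670cd44b094c4b05d0330acc330c4c4d09cc310a042704c4281114280b90280604170344180914180f942e07883e11103e09104409442404842505d4250ad44105042b3cccf507d41402cc14080c1f040c2005541e03cc1e058c15030c1604540e018c0e048c11024c123cd4f33cc8f302181002d41003c81001180b01880b01580c03d40c02480f01940902840a02940a01100a01500501d40500840501cc0702040702140400c40800cc02004c03005401004801001400000c000004002fd8853658bb3a4ce8384cc439c8ca3948f23c08e237c8e0310ce23888f13b50e03810f13c54f23c88e8,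
  nat_lit 0x2c88d6338cce2698ce3348ce2658cd26c8cd3054cd3910cd3a98dc3a84ea3794ea3754e435d4c7248cc724909b2c949b2dd4922488923bccef3748ef35c8dd378cdd2dd0d72c90b72dc8b73048b2304cde3788de3408d03714d0344cd03708dc2f8cdc3acceb34d8eb3b14eb3688eb3b10ec34c4ec36c8ec3190d3280cd33694d33458db3454db3684d12f50da2cd8d83604d83194d82098bd2814bd2784bd3484a027d8d2348cd22f84d233cccf2758cf17d89e20d8be2810c63188c63508d43554d4288cd43548d52b4cd51b106c1b146c2b446c2bc86c2b48af1a98ad290cad1ad8af1898a22914a22904a21904a41910641914642cc4b32454b31c50b32444912410912148852ed485218c852ec8bb1e8cbb1458511448511ed4510a4c511ed87b1ec87b1f0c7b21cc872b98872f14871408872f0cbc2a98bc2b08bc118c7c2ad87c14147c1a58ac2194ac2a84692ac8691f54690e4c692a88ab2214ab2210ab1a90aa298caa1a946b29906a0e886a3318a62a14a61f84a62618701704981dc89823d4982d8c981dd85517087715547710d07723d85c1c145c174c5c23c8551c045515105523c4701bd07025108f2350c3300cc33214c322c4c322c8c23254c225548b1b8c8b1690951d4c953248953208c92e0c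c8330cb828d8b82354b81e08b83014cc29c8cc234cc02a18c02a48c028588d15048d20849d17c89d27d49d188c9d2384a11848a128d4a11888630d886228d06327cc6328cc9f18089f2e88a3238cba2710ba2394ba2048ba1d04741614741cd0741604580bd05816589424c8592404591cd45924d0932d549324089331589015d0902d50b51c4cb432d8b42d48b41cc8b51010732d94942c089432c8b62588cb3154cb2e4ccb2c149616d0963148b02a50b02c4cc5230cb11bc8b12284b126885d26489a10cc782e48782058b918588c239854270c8e29589c27149c21049c220ca52954a51948a51418882b84880a50501f58862b887d1f8c7d1accae2a0c6b1a08a81a0c391f94681fc8682248a925d4a90f506f17546f26445d16cc971f989719847e200865178484,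
  nat_lit 0x2fd0bf3654bf2fc8bf3650d93648d93858e93a48e93854e9328ce93848e1388ce139cce73258e737d4e73988e7394ce531d8e53c14e53a08e53c0cf035d8f03c48f037ccdf3098df3108df22d8c43808c43294c43758e23a14e23b44ed3518ed3b94ed3c50ed30d8e03994e03bd8f1398cf23b90f238d8f23918e82558ca3990ee3b88ee38cce33bd4e331c8e3358cd62c58d63394d6]
noncomputable def A : List (List (ℕ)) := [A_0]
noncomputable def K_0 : List (ℕ) := [nat_lit 0x5a1675996559163589615815f4711b43a00806077c9fd80de87a5f782dff825fc821f67ee0482a02819ed7c5ea799e4831e37c1fa769db79de1795eb781f97e1b768dfe6e9b97d5dd682056f9bd7b1b6835de789cc741ae671b87bda469da874dee67da175d92761ca721c7639905e9c565dd56bdd66cddc6c1df6d1987d19e5f5c462da26eda56a9f3749a96fd996d59b6f17c5ed9673594745755f9735c1765e58a64dcb739585559d70d5c575ad6995253dc06354a52dd9645c67258f4b1785ddd46c5b25c5725fd74631c2531496adac541517059a5795b73d95559574a5404ad3d511454e1544b9225653147d4e4e52351d2f4b5805193750d6e4f93f4a9484a133535244d95a4793254d2649d3c48121505304e9184651644d424d5344ed25475144551a45d104450d4291243d0b431074250441508419034090140000,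
  nat_lit 0x189621876198561183609815bd6d5b16b5a969]
noncomputable def K : List (List (ℕ)) := [K_0]
noncomputable def R_0 : List (Rule) := [Rule.mk (nat_lit 2) (nat_lit 41) (Steps.bwd (nat_lit 6) (Steps.bwd (nat_lit 1) (Steps.fwd (nat_lit 6144) Steps.nil))) (nat_lit 14) (nat_lit 3),
  Rule.mk (nat_lit 5) (nat_lit 41) (Steps.bwd (nat_lit 6) (Steps.fwd (nat_lit 5120) (Steps.fwd (nat_lit 6144) Steps.nil))) (nat_lit 16) (nat_lit 1),
  Rule.mk (nat_lit 3) (nat_lit 41) (Steps.bwd (nat_lit 5) (Steps.bwd (nat_lit 3) (Steps.fwd (nat_lit 5120) Steps.nil))) (nat_lit 10) (nat_lit 1),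
  Rule.mk (nat_lit 3) (nat_lit 30) (Steps.bwd (nat_lit 3) (Steps.bwd (nat_lit 3) Steps.nil)) (nat_lit 2) (nat_lit 0),
  Rule.mk (nat_lit 1) (nat_lit 63) (Steps.bwd (nat_lit 4) (Steps.bwd (nat_lit 1) (Steps.bwd (nat_lit 3) (Steps.bwd (nat_lit 2) (Steps.bwd (nat_lit 3) Steps.nil))))) (nat_lit 4) (nat_lit 5),
  Rule.mk (nat_lit 5) (nat_lit 41) (Steps.bwd (nat_lit 1) (Steps.fwd (nat_lit 5120) (Steps.bwd (nat_lit 1) Steps.nil))) (nat_lit 8) (nat_lit 0),
  Rule.mk (nat_lit 1) (nat_lit 30) (Steps.bwd (nat_lit 1) (Steps.bwd (nat_lit 1) Steps.nil)) (nat_lit 0) (nat_lit 0),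
  Rule.mk (nat_lit 3) (nat_lit 63) (Steps.bwd (nat_lit 1) (Steps.fwd (nat_lit 3072) (Steps.fwd (nat_lit 2048) (Steps.bwd (nat_lit 3) (Steps.fwd (nat_lit 1024) Steps.nil))))) (nat_lit 4) (nat_lit 4),
  Rule.mk (nat_lit 4) (nat_lit 63) (Steps.bwd (nat_lit 1) (Steps.fwd (nat_lit 4096) (Steps.fwd (nat_lit 1024) (Steps.bwd (nat_lit 3) (Steps.bwd (nat_lit 1) Steps.nil))))) (nat_lit 4) (nat_lit 0),
  Rule.mk (nat_lit 4) (nat_lit 30) (Steps.bwd (nat_lit 4) (Steps.bwd (nat_lit 4) Steps.nil)) (nat_lit 3) (nat_lit 0),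
  Rule.mk (nat_lit 5) (nat_lit 41) (Steps.bwd (nat_lit 4) (Steps.bwd (nat_lit 5) (Steps.bwd (nat_lit 4) Steps.nil))) (nat_lit 11) (nat_lit 1),
  Rule.mk (nat_lit 1) (nat_lit 63) (Steps.bwd (nat_lit 4) (Steps.bwd (nat_lit 1) (Steps.bwd (nat_lit 3) (Steps.fwd (nat_lit 1024) (Steps.fwd (nat_lit 4096) Steps.nil))))) (nat_lit 4) (nat_lit 5),
  Rule.mk (nat_lit 5) (nat_lit 41) (Steps.bwd (nat_lit 6) (Steps.bwd (nat_lit 5) (Steps.fwd (nat_lit 6144) Steps.nil))) (nat_lit 16) (nat_lit 1),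
  Rule.mk (nat_lit 5) (nat_lit 41) (Steps.bwd (nat_lit 2) (Steps.bwd (nat_lit 5) (Steps.bwd (nat_lit 2) Steps.nil))) (nat_lit 9) (nat_lit 1),
  Rule.mk (nat_lit 6) (nat_lit 41) (Steps.bwd (nat_lit 2) (Steps.bwd (nat_lit 6) (Steps.bwd (nat_lit 1) Steps.nil))) (nat_lit 14) (nat_lit 2),
  Rule.mk (nat_lit 2) (nat_lit 30) (Steps.bwd (nat_lit 2) (Steps.bwd (nat_lit 2) Steps.nil)) (nat_lit 1) (nat_lit 0),
  Rule.mk (nat_lit 6) (nat_lit 41) (Steps.bwd (nat_lit 2) (Steps.fwd (nat_lit 6144) (Steps.bwd (nat_lit 1) Steps.nil))) (nat_lit 14) (nat_lit 2),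
  Rule.mk (nat_lit 5) (nat_lit 41) (Steps.bwd (nat_lit 2) (Steps.fwd (nat_lit 5120) (Steps.bwd (nat_lit 2) Steps.nil))) (nat_lit 9) (nat_lit 1),
  Rule.mk (nat_lit 3) (nat_lit 41) (Steps.bwd (nat_lit 5) (Steps.bwd (nat_lit 3) (Steps.bwd (nat_lit 5) Steps.nil))) (nat_lit 10) (nat_lit 1),
  Rule.mk (nat_lit 5) (nat_lit 41) (Steps.bwd (nat_lit 3) (Steps.fwd (nat_lit 5120) (Steps.bwd (nat_lit 3) Steps.nil))) (nat_lit 10) (nat_lit 0),
  Rule.mk (nat_lit 5) (nat_lit 41) (Steps.bwd (nat_lit 1) (Steps.bwd (nat_lit 5) (Steps.bwd (nat_lit 1) Steps.nil))) (nat_lit 8) (nat_lit 0),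
  Rule.mk (nat_lit 5) (nat_lit 41) (Steps.bwd (nat_lit 4) (Steps.fwd (nat_lit 5120) (Steps.bwd (nat_lit 4) Steps.nil))) (nat_lit 11) (nat_lit 1),
  Rule.mk (nat_lit 4) (nat_lit 63) (Steps.bwd (nat_lit 1) (Steps.bwd (nat_lit 3) (Steps.fwd (nat_lit 1024) (Steps.fwd (nat_lit 4096) (Steps.bwd (nat_lit 1) Steps.nil))))) (nat_lit 4) (nat_lit 0),
  Rule.mk (nat_lit 2) (nat_lit 63) (Steps.bwd (nat_lit 4) (Steps.bwd (nat_lit 1) (Steps.fwd (nat_lit 3072) (Steps.bwd (nat_lit 2) (Steps.bwd (nat_lit 3) Steps.nil))))) (nat_lit 5) (nat_lit 2),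
  Rule.mk (nat_lit 1) (nat_lit 63) (Steps.bwd (nat_lit 4) (Steps.bwd (nat_lit 2) (Steps.bwd (nat_lit 3) (Steps.bwd (nat_lit 2) (Steps.fwd (nat_lit 3072) Steps.nil))))) (nat_lit 5) (nat_lit 4),
  Rule.mk (nat_lit 1) (nat_lit 63) (Steps.bwd (nat_lit 4) (Steps.bwd (nat_lit 1) (Steps.fwd (nat_lit 4096) (Steps.fwd (nat_lit 1024) (Steps.bwd (nat_lit 3) Steps.nil))))) (nat_lit 4) (nat_lit 5),
  Rule.mk (nat_lit 3) (nat_lit 63) (Steps.bwd (nat_lit 2) (Steps.bwd (nat_lit 3) (Steps.fwd (nat_lit 2048) (Steps.bwd (nat_lit 4) (Steps.bwd (nat_lit 1) Steps.nil))))) (nat_lit 4) (nat_lit 2),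
  Rule.mk (nat_lit 3) (nat_lit 63) (Steps.bwd (nat_lit 2) (Steps.bwd (nat_lit 3) (Steps.bwd (nat_lit 1) (Steps.fwd (nat_lit 3072) (Steps.bwd (nat_lit 1) Steps.nil))))) (nat_lit 4) (nat_lit 2),
  Rule.mk (nat_lit 4) (nat_lit 63) (Steps.bwd (nat_lit 2) (Steps.bwd (nat_lit 3) (Steps.fwd (nat_lit 1024) (Steps.bwd (nat_lit 4) (Steps.bwd (nat_lit 1) Steps.nil))))) (nat_lit 5) (nat_lit 5),
  Rule.mk (nat_lit 3) (nat_lit 30) (Steps.bwd (nat_lit 3) (Steps.fwd (nat_lit 4096) Steps.nil)) (nat_lit 2) (nat_lit 0),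
  Rule.mk (nat_lit 5) (nat_lit 41) (Steps.bwd (nat_lit 4) (Steps.fwd (nat_lit 5120) (Steps.fwd (nat_lit 3072) Steps.nil))) (nat_lit 11) (nat_lit 1),
  Rule.mk (nat_lit 1) (nat_lit 41) (Steps.fwd (nat_lit 5120) (Steps.fwd (nat_lit 2048) (Steps.bwd (nat_lit 5) Steps.nil))) (nat_lit 8) (nat_lit 1),
  Rule.mk (nat_lit 2) (nat_lit 63) (Steps.bwd (nat_lit 4) (Steps.bwd (nat_lit 1) (Steps.fwd (nat_lit 3072) (Steps.bwd (nat_lit 2) (Steps.fwd (nat_lit 4096) Steps.nil))))) (nat_lit 5) (nat_lit 2),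
  Rule.mk (nat_lit 4) (nat_lit 63) (Steps.bwd (nat_lit 2) (Steps.bwd (nat_lit 3) (Steps.bwd (nat_lit 2) (Steps.fwd (nat_lit 3072) (Steps.bwd (nat_lit 1) Steps.nil))))) (nat_lit 5) (nat_lit 5),
  Rule.mk (nat_lit 2) (nat_lit 63) (Steps.bwd (nat_lit 4) (Steps.bwd (nat_lit 1) (Steps.bwd (nat_lit 4) (Steps.bwd (nat_lit 2) (Steps.bwd (nat_lit 3) Steps.nil))))) (nat_lit 5) (nat_lit 2),
  Rule.mk (nat_lit 5) (nat_lit 41) (Steps.bwd (nat_lit 2) (Steps.bwd (nat_lit 5) (Steps.fwd (nat_lit 1024) Steps.nil))) (nat_lit 9) (nat_lit 1),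
  Rule.mk (nat_lit 3) (nat_lit 63) (Steps.bwd (nat_lit 2) (Steps.bwd (nat_lit 3) (Steps.fwd (nat_lit 2048) (Steps.fwd (nat_lit 3072) (Steps.bwd (nat_lit 1) Steps.nil))))) (nat_lit 4) (nat_lit 2),
  Rule.mk (nat_lit 5) (nat_lit 41) (Steps.bwd (nat_lit 1) (Steps.fwd (nat_lit 5120) (Steps.fwd (nat_lit 2048) Steps.nil))) (nat_lit 8) (nat_lit 0),
  Rule.mk (nat_lit 3) (nat_lit 63) (Steps.bwd (nat_lit 1) (Steps.fwd (nat_lit 3072) (Steps.fwd (nat_lit 2048) (Steps.bwd (nat_lit 3) (Steps.bwd (nat_lit 2) Steps.nil))))) (nat_lit 4) (nat_lit 4),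
  Rule.mk (nat_lit 4) (nat_lit 63) (Steps.bwd (nat_lit 2) (Steps.fwd (nat_lit 4096) (Steps.fwd (nat_lit 1024) (Steps.fwd (nat_lit 3072) (Steps.bwd (nat_lit 1) Steps.nil))))) (nat_lit 5) (nat_lit 5),
  Rule.mk (nat_lit 1) (nat_lit 30) (Steps.bwd (nat_lit 1) (Steps.fwd (nat_lit 2048) Steps.nil)) (nat_lit 0) (nat_lit 0),
  Rule.mk (nat_lit 4) (nat_lit 63) (Steps.bwd (nat_lit 1) (Steps.bwd (nat_lit 3) (Steps.fwd (nat_lit 1024) (Steps.fwd (nat_lit 4096) (Steps.fwd (nat_lit 2048) Steps.nil))))) (nat_lit 4) (nat_lit 0),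
  Rule.mk (nat_lit 3) (nat_lit 63) (Steps.bwd (nat_lit 1) (Steps.fwd (nat_lit 3072) (Steps.bwd (nat_lit 1) (Steps.bwd (nat_lit 3) (Steps.fwd (nat_lit 1024) Steps.nil))))) (nat_lit 4) (nat_lit 4),
  Rule.mk (nat_lit 4) (nat_lit 63) (Steps.bwd (nat_lit 1) (Steps.bwd (nat_lit 3) (Steps.bwd (nat_lit 2) (Steps.bwd (nat_lit 3) (Steps.fwd (nat_lit 2048) Steps.nil))))) (nat_lit 4) (nat_lit 0),
  Rule.mk (nat_lit 6) (nat_lit 41) (Steps.bwd (nat_lit 2) (Steps.bwd (nat_lit 6) (Steps.fwd (nat_lit 2048) Steps.nil))) (nat_lit 14) (nat_lit 2),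
  Rule.mk (nat_lit 2) (nat_lit 41) (Steps.bwd (nat_lit 6) (Steps.fwd (nat_lit 2048) (Steps.fwd (nat_lit 6144) Steps.nil))) (nat_lit 14) (nat_lit 3),
  Rule.mk (nat_lit 6) (nat_lit 41) (Steps.bwd (nat_lit 2) (Steps.fwd (nat_lit 6144) (Steps.fwd (nat_lit 2048) Steps.nil))) (nat_lit 14) (nat_lit 2),
  Rule.mk (nat_lit 6) (nat_lit 195) (Steps.bwd (nat_lit 4) (Steps.fwd (nat_lit 6144) (Steps.bwd (nat_lit 2) (Steps.bwd (nat_lit 3) (Steps.bwd (nat_lit 6) (Steps.fwd (nat_lit 3072) (Steps.bwd (nat_lit 6) (Steps.fwd (nat_lit 1024) (Steps.fwd (nat_lit 3072) (Steps.fwd (nat_lit 1024) (Steps.fwd (nat_lit 6144) (Steps.bwd (nat_lit 3) (Steps.fwd (nat_lit 6144) (Steps.bwd (nat_lit 3) (Steps.bwd (nat_lit 1) (Steps.bwd (nat_lit 6) (Steps.bwd (nat_lit 3) Steps.nil))))))))))))))))) (nat_lit 19) (nat_lit 8),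
  Rule.mk (nat_lit 4) (nat_lit 195) (Steps.fwd (nat_lit 6144) (Steps.bwd (nat_lit 2) (Steps.fwd (nat_lit 3072) (Steps.bwd (nat_lit 6) (Steps.fwd (nat_lit 3072) (Steps.fwd (nat_lit 6144) (Steps.fwd (nat_lit 2048) (Steps.bwd (nat_lit 3) (Steps.bwd (nat_lit 1) (Steps.bwd (nat_lit 6) (Steps.bwd (nat_lit 3) (Steps.bwd (nat_lit 6) (Steps.bwd (nat_lit 4) (Steps.fwd (nat_lit 2048) (Steps.fwd (nat_lit 6144) (Steps.fwd (nat_lit 4096) (Steps.bwd (nat_lit 6) Steps.nil))))))))))))))))) (nat_lit 18) (nat_lit 12),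
  Rule.mk (nat_lit 4) (nat_lit 41) (Steps.bwd (nat_lit 5) (Steps.bwd (nat_lit 4) (Steps.fwd (nat_lit 5120) Steps.nil))) (nat_lit 11) (nat_lit 0),
  Rule.mk (nat_lit 6) (nat_lit 41) (Steps.bwd (nat_lit 5) (Steps.fwd (nat_lit 6144) (Steps.bwd (nat_lit 5) Steps.nil))) (nat_lit 16) (nat_lit 0),
  Rule.mk (nat_lit 3) (nat_lit 195) (Steps.bwd (nat_lit 6) (Steps.bwd (nat_lit 4) (Steps.bwd (nat_lit 6) (Steps.fwd (nat_lit 1024) (Steps.bwd (nat_lit 4) (Steps.bwd (nat_lit 6) (Steps.bwd (nat_lit 4) (Steps.fwd (nat_lit 6144) (Steps.fwd (nat_lit 2048) (Steps.bwd (nat_lit 3) (Steps.fwd (nat_lit 2048) (Steps.fwd (nat_lit 6144) (Steps.fwd (nat_lit 4096) (Steps.bwd (nat_lit 6) (Steps.fwd (nat_lit 3072) (Steps.bwd (nat_lit 1) (Steps.bwd (nat_lit 6) Steps.nil))))))))))))))))) (nat_lit 18) (nat_lit 10),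
  Rule.mk (nat_lit 5) (nat_lit 41) (Steps.bwd (nat_lit 3) (Steps.bwd (nat_lit 5) (Steps.bwd (nat_lit 3) Steps.nil))) (nat_lit 10) (nat_lit 0),
  Rule.mk (nat_lit 6) (nat_lit 41) (Steps.fwd (nat_lit 5120) (Steps.fwd (nat_lit 6144) (Steps.bwd (nat_lit 5) Steps.nil))) (nat_lit 16) (nat_lit 0),
  Rule.mk (nat_lit 6) (nat_lit 195) (Steps.bwd (nat_lit 4) (Steps.fwd (nat_lit 6144) (Steps.fwd (nat_lit 1024) (Steps.fwd (nat_lit 3072) (Steps.bwd (nat_lit 6) (Steps.bwd (nat_lit 4) (Steps.bwd (nat_lit 6) (Steps.fwd (nat_lit 2048) (Steps.bwd (nat_lit 3) (Steps.fwd (nat_lit 2048) (Steps.bwd (nat_lit 6) (Steps.fwd (nat_lit 4096) (Steps.fwd (nat_lit 6144) (Steps.bwd (nat_lit 4) (Steps.bwd (nat_lit 1) (Steps.fwd (nat_lit 6144) (Steps.bwd (nat_lit 3) Steps.nil))))))))))))))))) (nat_lit 18) (nat_lit 11),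
  Rule.mk (nat_lit 3) (nat_lit 195) (Steps.fwd (nat_lit 6144) (Steps.bwd (nat_lit 4) (Steps.bwd (nat_lit 6) (Steps.bwd (nat_lit 2) (Steps.bwd (nat_lit 3) (Steps.bwd (nat_lit 6) (Steps.bwd (nat_lit 4) (Steps.fwd (nat_lit 6144) (Steps.fwd (nat_lit 1024) (Steps.fwd (nat_lit 3072) (Steps.bwd (nat_lit 2) (Steps.bwd (nat_lit 6) (Steps.fwd (nat_lit 4096) (Steps.bwd (nat_lit 6) (Steps.bwd (nat_lit 3) (Steps.bwd (nat_lit 1) (Steps.bwd (nat_lit 6) Steps.nil))))))))))))))))) (nat_lit 19) (nat_lit 7),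
  Rule.mk (nat_lit 6) (nat_lit 41) (Steps.bwd (nat_lit 5) (Steps.fwd (nat_lit 6144) (Steps.fwd (nat_lit 5120) Steps.nil))) (nat_lit 16) (nat_lit 0),
  Rule.mk (nat_lit 3) (nat_lit 195) (Steps.bwd (nat_lit 1) (Steps.fwd (nat_lit 6144) (Steps.bwd (nat_lit 3) (Steps.bwd (nat_lit 6) (Steps.fwd (nat_lit 3072) (Steps.fwd (nat_lit 2048) (Steps.fwd (nat_lit 6144) (Steps.fwd (nat_lit 4096) (Steps.bwd (nat_lit 6) (Steps.fwd (nat_lit 3072) (Steps.fwd (nat_lit 6144) (Steps.bwd (nat_lit 2) (Steps.bwd (nat_lit 4) (Steps.fwd (nat_lit 6144) (Steps.bwd (nat_lit 4) (Steps.bwd (nat_lit 6) (Steps.fwd (nat_lit 2048) Steps.nil))))))))))))))))) (nat_lit 18) (nat_lit 2),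
  Rule.mk (nat_lit 1) (nat_lit 63) (Steps.bwd (nat_lit 3) (Steps.bwd (nat_lit 2) (Steps.bwd (nat_lit 3) (Steps.bwd (nat_lit 1) (Steps.bwd (nat_lit 4) Steps.nil))))) (nat_lit 4) (nat_lit 1),
  Rule.mk (nat_lit 6) (nat_lit 195) (Steps.bwd (nat_lit 1) (Steps.bwd (nat_lit 3) (Steps.fwd (nat_lit 2048) (Steps.fwd (nat_lit 6144) (Steps.fwd (nat_lit 4096) (Steps.bwd (nat_lit 6) (Steps.bwd (nat_lit 4) (Steps.fwd (nat_lit 2048) (Steps.bwd (nat_lit 6) (Steps.bwd (nat_lit 3) (Steps.fwd (nat_lit 6144) (Steps.bwd (nat_lit 4) (Steps.bwd (nat_lit 6) (Steps.bwd (nat_lit 2) (Steps.fwd (nat_lit 3072) (Steps.fwd (nat_lit 6144) (Steps.fwd (nat_lit 3072) Steps.nil))))))))))))))))) (nat_lit 18) (nat_lit 0),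
  Rule.mk (nat_lit 6) (nat_lit 41) (Steps.bwd (nat_lit 5) (Steps.bwd (nat_lit 6) (Steps.bwd (nat_lit 5) Steps.nil))) (nat_lit 16) (nat_lit 0),
  Rule.mk (nat_lit 3) (nat_lit 195) (Steps.fwd (nat_lit 6144) (Steps.bwd (nat_lit 4) (Steps.bwd (nat_lit 6) (Steps.bwd (nat_lit 2) (Steps.fwd (nat_lit 3072) (Steps.bwd (nat_lit 6) (Steps.bwd (nat_lit 4) (Steps.fwd (nat_lit 6144) (Steps.bwd (nat_lit 1) (Steps.bwd (nat_lit 3) (Steps.fwd (nat_lit 2048) (Steps.bwd (nat_lit 6) (Steps.fwd (nat_lit 4096) (Steps.bwd (nat_lit 6) (Steps.fwd (nat_lit 3072) (Steps.bwd (nat_lit 1) (Steps.bwd (nat_lit 6) Steps.nil))))))))))))))))) (nat_lit 18) (nat_lit 10),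
  Rule.mk (nat_lit 0) (nat_lit 206) (Steps.bwd (nat_lit 6) (Steps.bwd (nat_lit 2) (Steps.bwd (nat_lit 3) (Steps.bwd (nat_lit 6) (Steps.fwd (nat_lit 3072) (Steps.bwd (nat_lit 6) (Steps.bwd (nat_lit 2) (Steps.fwd (nat_lit 3072) (Steps.fwd (nat_lit 1024) (Steps.bwd (nat_lit 6) (Steps.bwd (nat_lit 3) (Steps.fwd (nat_lit 6144) (Steps.fwd (nat_lit 4096) (Steps.fwd (nat_lit 2048) (Steps.bwd (nat_lit 6) (Steps.fwd (nat_lit 4096) (Steps.fwd (nat_lit 6144) (Steps.bwd (nat_lit 4) Steps.nil)))))))))))))))))) (nat_lit 19) (nat_lit 9),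
  Rule.mk (nat_lit 0) (nat_lit 41) (Steps.fwd (nat_lit 2048) (Steps.fwd (nat_lit 0) (Steps.fwd (nat_lit 1024) Steps.nil))) (nat_lit 28) (nat_lit 0)]
noncomputable def R_1 : List (Rule) := [Rule.mk (nat_lit 0) (nat_lit 41) (Steps.bwd (nat_lit 5) (Steps.fwd (nat_lit 0) (Steps.bwd (nat_lit 5) Steps.nil))) (nat_lit 28) (nat_lit 0),
  Rule.mk (nat_lit 0) (nat_lit 41) (Steps.fwd (nat_lit 6144) (Steps.bwd (nat_lit 0) (Steps.bwd (nat_lit 6) Steps.nil))) (nat_lit 28) (nat_lit 0),
  Rule.mk (nat_lit 0) (nat_lit 41) (Steps.fwd (nat_lit 5120) (Steps.fwd (nat_lit 0) (Steps.bwd (nat_lit 5) Steps.nil))) (nat_lit 28) (nat_lit 0),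
  Rule.mk (nat_lit 0) (nat_lit 41) (Steps.fwd (nat_lit 3072) (Steps.fwd (nat_lit 0) (Steps.bwd (nat_lit 3) Steps.nil))) (nat_lit 28) (nat_lit 0),
  Rule.mk (nat_lit 6) (nat_lit 30) (Steps.bwd (nat_lit 0) (Steps.bwd (nat_lit 6) Steps.nil)) (nat_lit 28) (nat_lit 0),
  Rule.mk (nat_lit 6) (nat_lit 30) (Steps.bwd (nat_lit 0) (Steps.fwd (nat_lit 6144) Steps.nil)) (nat_lit 28) (nat_lit 0),
  Rule.mk (nat_lit 0) (nat_lit 41) (Steps.bwd (nat_lit 3) (Steps.fwd (nat_lit 0) (Steps.fwd (nat_lit 3072) Steps.nil))) (nat_lit 28) (nat_lit 0),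
  Rule.mk (nat_lit 0) (nat_lit 41) (Steps.fwd (nat_lit 1024) (Steps.fwd (nat_lit 0) (Steps.bwd (nat_lit 1) Steps.nil))) (nat_lit 28) (nat_lit 0),
  Rule.mk (nat_lit 0) (nat_lit 41) (Steps.bwd (nat_lit 1) (Steps.fwd (nat_lit 0) (Steps.fwd (nat_lit 1024) Steps.nil))) (nat_lit 28) (nat_lit 0),
  Rule.mk (nat_lit 0) (nat_lit 41) (Steps.bwd (nat_lit 4) (Steps.fwd (nat_lit 0) (Steps.bwd (nat_lit 3) Steps.nil))) (nat_lit 28) (nat_lit 0),
  Rule.mk (nat_lit 0) (nat_lit 41) (Steps.bwd (nat_lit 6) (Steps.fwd (nat_lit 0) (Steps.fwd (nat_lit 6144) Steps.nil))) (nat_lit 28) (nat_lit 0),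
  Rule.mk (nat_lit 0) (nat_lit 41) (Steps.bwd (nat_lit 2) (Steps.fwd (nat_lit 0) (Steps.fwd (nat_lit 2048) Steps.nil))) (nat_lit 28) (nat_lit 0),
  Rule.mk (nat_lit 0) (nat_lit 41) (Steps.fwd (nat_lit 6144) (Steps.fwd (nat_lit 0) (Steps.fwd (nat_lit 6144) Steps.nil))) (nat_lit 28) (nat_lit 0),
  Rule.mk (nat_lit 3) (nat_lit 30) (Steps.bwd (nat_lit 0) (Steps.fwd (nat_lit 3072) Steps.nil)) (nat_lit 28) (nat_lit 0),
  Rule.mk (nat_lit 5) (nat_lit 30) (Steps.bwd (nat_lit 0) (Steps.bwd (nat_lit 5) Steps.nil)) (nat_lit 28) (nat_lit 0),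
  Rule.mk (nat_lit 5) (nat_lit 30) (Steps.bwd (nat_lit 0) (Steps.fwd (nat_lit 5120) Steps.nil)) (nat_lit 28) (nat_lit 0),
  Rule.mk (nat_lit 0) (nat_lit 41) (Steps.fwd (nat_lit 3072) (Steps.fwd (nat_lit 0) (Steps.fwd (nat_lit 4096) Steps.nil))) (nat_lit 28) (nat_lit 0),
  Rule.mk (nat_lit 1) (nat_lit 63) (Steps.bwd (nat_lit 3) (Steps.bwd (nat_lit 2) (Steps.bwd (nat_lit 3) (Steps.fwd (nat_lit 2048) (Steps.fwd (nat_lit 3072) Steps.nil))))) (nat_lit 4) (nat_lit 1),
  Rule.mk (nat_lit 1) (nat_lit 63) (Steps.fwd (nat_lit 3072) (Steps.fwd (nat_lit 2048) (Steps.bwd (nat_lit 3) (Steps.bwd (nat_lit 2) (Steps.bwd (nat_lit 3) Steps.nil))))) (nat_lit 4) (nat_lit 5),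
  Rule.mk (nat_lit 1) (nat_lit 63) (Steps.fwd (nat_lit 3072) (Steps.bwd (nat_lit 2) (Steps.bwd (nat_lit 3) (Steps.bwd (nat_lit 2) (Steps.fwd (nat_lit 3072) Steps.nil))))) (nat_lit 5) (nat_lit 4),
  Rule.mk (nat_lit 2) (nat_lit 41) (Steps.fwd (nat_lit 6144) (Steps.bwd (nat_lit 1) (Steps.bwd (nat_lit 6) Steps.nil))) (nat_lit 14) (nat_lit 3),
  Rule.mk (nat_lit 1) (nat_lit 63) (Steps.bwd (nat_lit 4) (Steps.fwd (nat_lit 2048) (Steps.bwd (nat_lit 3) (Steps.bwd (nat_lit 2) (Steps.fwd (nat_lit 4096) Steps.nil))))) (nat_lit 4) (nat_lit 5),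
  Rule.mk (nat_lit 3) (nat_lit 63) (Steps.bwd (nat_lit 2) (Steps.fwd (nat_lit 3072) (Steps.fwd (nat_lit 2048) (Steps.fwd (nat_lit 3072) (Steps.bwd (nat_lit 2) Steps.nil))))) (nat_lit 5) (nat_lit 1),
  Rule.mk (nat_lit 1) (nat_lit 63) (Steps.bwd (nat_lit 4) (Steps.fwd (nat_lit 2048) (Steps.bwd (nat_lit 3) (Steps.bwd (nat_lit 2) (Steps.bwd (nat_lit 3) Steps.nil))))) (nat_lit 4) (nat_lit 5),
  Rule.mk (nat_lit 4) (nat_lit 63) (Steps.bwd (nat_lit 1) (Steps.fwd (nat_lit 3072) (Steps.bwd (nat_lit 2) (Steps.bwd (nat_lit 3) (Steps.bwd (nat_lit 2) Steps.nil))))) (nat_lit 5) (nat_lit 3),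
  Rule.mk (nat_lit 2) (nat_lit 63) (Steps.bwd (nat_lit 3) (Steps.fwd (nat_lit 2048) (Steps.bwd (nat_lit 4) (Steps.bwd (nat_lit 1) (Steps.bwd (nat_lit 3) Steps.nil))))) (nat_lit 4) (nat_lit 3),
  Rule.mk (nat_lit 2) (nat_lit 41) (Steps.bwd (nat_lit 6) (Steps.fwd (nat_lit 2048) (Steps.bwd (nat_lit 6) Steps.nil))) (nat_lit 14) (nat_lit 3),
  Rule.mk (nat_lit 3) (nat_lit 41) (Steps.fwd (nat_lit 5120) (Steps.fwd (nat_lit 4096) (Steps.bwd (nat_lit 5) Steps.nil))) (nat_lit 10) (nat_lit 1),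
  Rule.mk (nat_lit 3) (nat_lit 63) (Steps.bwd (nat_lit 2) (Steps.bwd (nat_lit 3) (Steps.fwd (nat_lit 2048) (Steps.bwd (nat_lit 4) (Steps.fwd (nat_lit 2048) Steps.nil))))) (nat_lit 4) (nat_lit 2),
  Rule.mk (nat_lit 2) (nat_lit 63) (Steps.bwd (nat_lit 3) (Steps.fwd (nat_lit 2048) (Steps.fwd (nat_lit 3072) (Steps.fwd (nat_lit 2048) (Steps.bwd (nat_lit 3) Steps.nil))))) (nat_lit 4) (nat_lit 3),
  Rule.mk (nat_lit 6) (nat_lit 195) (Steps.bwd (nat_lit 4) (Steps.fwd (nat_lit 6144) (Steps.bwd (nat_lit 1) (Steps.bwd (nat_lit 3) (Steps.fwd (nat_lit 2048) (Steps.bwd (nat_lit 6) (Steps.bwd (nat_lit 3) (Steps.bwd (nat_lit 6) (Steps.fwd (nat_lit 3072) (Steps.bwd (nat_lit 1) (Steps.fwd (nat_lit 6144) (Steps.bwd (nat_lit 3) (Steps.fwd (nat_lit 6144) (Steps.fwd (nat_lit 3072) (Steps.fwd (nat_lit 6144) (Steps.bwd (nat_lit 2) (Steps.fwd (nat_lit 3072) Steps.nil))))))))))))))))) (nat_lit 18) (nat_lit 16),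
  Rule.mk (nat_lit 4) (nat_lit 63) (Steps.bwd (nat_lit 1) (Steps.bwd (nat_lit 4) (Steps.bwd (nat_lit 2) (Steps.bwd (nat_lit 3) (Steps.bwd (nat_lit 2) Steps.nil))))) (nat_lit 5) (nat_lit 3),
  Rule.mk (nat_lit 6) (nat_lit 41) (Steps.bwd (nat_lit 1) (Steps.bwd (nat_lit 6) (Steps.fwd (nat_lit 1024) Steps.nil))) (nat_lit 14) (nat_lit 0),
  Rule.mk (nat_lit 3) (nat_lit 63) (Steps.bwd (nat_lit 2) (Steps.fwd (nat_lit 4096) (Steps.fwd (nat_lit 2048) (Steps.fwd (nat_lit 3072) (Steps.bwd (nat_lit 1) Steps.nil))))) (nat_lit 4) (nat_lit 2),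
  Rule.mk (nat_lit 6) (nat_lit 41) (Steps.bwd (nat_lit 1) (Steps.bwd (nat_lit 6) (Steps.bwd (nat_lit 2) Steps.nil))) (nat_lit 14) (nat_lit 0),
  Rule.mk (nat_lit 6) (nat_lit 195) (Steps.bwd (nat_lit 3) (Steps.bwd (nat_lit 6) (Steps.fwd (nat_lit 3072) (Steps.fwd (nat_lit 2048) (Steps.bwd (nat_lit 6) (Steps.bwd (nat_lit 3) (Steps.bwd (nat_lit 6) (Steps.fwd (nat_lit 3072) (Steps.fwd (nat_lit 6144) (Steps.bwd (nat_lit 2) (Steps.fwd (nat_lit 3072) (Steps.fwd (nat_lit 6144) (Steps.fwd (nat_lit 3072) (Steps.fwd (nat_lit 6144) (Steps.fwd (nat_lit 2048) (Steps.bwd (nat_lit 3) (Steps.fwd (nat_lit 2048) Steps.nil))))))))))))))))) (nat_lit 18) (nat_lit 4),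
  Rule.mk (nat_lit 6) (nat_lit 41) (Steps.bwd (nat_lit 1) (Steps.fwd (nat_lit 6144) (Steps.bwd (nat_lit 2) Steps.nil))) (nat_lit 14) (nat_lit 0),
  Rule.mk (nat_lit 2) (nat_lit 41) (Steps.bwd (nat_lit 5) (Steps.fwd (nat_lit 1024) (Steps.fwd (nat_lit 5120) Steps.nil))) (nat_lit 9) (nat_lit 0),
  Rule.mk (nat_lit 2) (nat_lit 63) (Steps.bwd (nat_lit 3) (Steps.bwd (nat_lit 2) (Steps.fwd (nat_lit 3072) (Steps.fwd (nat_lit 2048) (Steps.fwd (nat_lit 3072) Steps.nil))))) (nat_lit 5) (nat_lit 0),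
  Rule.mk (nat_lit 2) (nat_lit 30) (Steps.fwd (nat_lit 1024) (Steps.bwd (nat_lit 2) Steps.nil)) (nat_lit 1) (nat_lit 0),
  Rule.mk (nat_lit 1) (nat_lit 41) (Steps.bwd (nat_lit 5) (Steps.fwd (nat_lit 2048) (Steps.fwd (nat_lit 5120) Steps.nil))) (nat_lit 8) (nat_lit 1),
  Rule.mk (nat_lit 2) (nat_lit 41) (Steps.bwd (nat_lit 5) (Steps.bwd (nat_lit 2) (Steps.bwd (nat_lit 5) Steps.nil))) (nat_lit 9) (nat_lit 0),
  Rule.mk (nat_lit 4) (nat_lit 30) (Steps.bwd (nat_lit 4) (Steps.fwd (nat_lit 3072) Steps.nil)) (nat_lit 3) (nat_lit 0),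
  Rule.mk (nat_lit 2) (nat_lit 63) (Steps.bwd (nat_lit 4) (Steps.fwd (nat_lit 2048) (Steps.bwd (nat_lit 4) (Steps.bwd (nat_lit 2) (Steps.bwd (nat_lit 3) Steps.nil))))) (nat_lit 5) (nat_lit 2),
  Rule.mk (nat_lit 2) (nat_lit 63) (Steps.bwd (nat_lit 3) (Steps.fwd (nat_lit 2048) (Steps.fwd (nat_lit 3072) (Steps.fwd (nat_lit 2048) (Steps.fwd (nat_lit 4096) Steps.nil))))) (nat_lit 4) (nat_lit 3),
  Rule.mk (nat_lit 4) (nat_lit 195) (Steps.bwd (nat_lit 6) (Steps.bwd (nat_lit 2) (Steps.bwd (nat_lit 4) (Steps.fwd (nat_lit 6144) (Steps.bwd (nat_lit 4) (Steps.fwd (nat_lit 6144) (Steps.bwd (nat_lit 1) (Steps.bwd (nat_lit 3) (Steps.fwd (nat_lit 2048) (Steps.fwd (nat_lit 6144) (Steps.fwd (nat_lit 4096) (Steps.fwd (nat_lit 6144) (Steps.bwd (nat_lit 4) (Steps.bwd (nat_lit 1) (Steps.fwd (nat_lit 6144) (Steps.bwd (nat_lit 3) (Steps.fwd (nat_lit 6144) Steps.nil))))))))))))))))) (nat_lit 18) (nat_lit 12),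
  Rule.mk (nat_lit 3) (nat_lit 63) (Steps.bwd (nat_lit 2) (Steps.fwd (nat_lit 4096) (Steps.fwd (nat_lit 2048) (Steps.bwd (nat_lit 4) (Steps.fwd (nat_lit 2048) Steps.nil))))) (nat_lit 4) (nat_lit 2),
  Rule.mk (nat_lit 4) (nat_lit 63) (Steps.fwd (nat_lit 2048) (Steps.fwd (nat_lit 4096) (Steps.bwd (nat_lit 2) (Steps.bwd (nat_lit 3) (Steps.fwd (nat_lit 2048) Steps.nil))))) (nat_lit 4) (nat_lit 0),
  Rule.mk (nat_lit 4) (nat_lit 41) (Steps.bwd (nat_lit 5) (Steps.fwd (nat_lit 3072) (Steps.bwd (nat_lit 5) Steps.nil))) (nat_lit 11) (nat_lit 0),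
  Rule.mk (nat_lit 4) (nat_lit 195) (Steps.bwd (nat_lit 6) (Steps.bwd (nat_lit 4) (Steps.fwd (nat_lit 6144) (Steps.bwd (nat_lit 1) (Steps.bwd (nat_lit 3) (Steps.fwd (nat_lit 2048) (Steps.bwd (nat_lit 6) (Steps.bwd (nat_lit 3) (Steps.fwd (nat_lit 6144) (Steps.fwd (nat_lit 3072) (Steps.bwd (nat_lit 1) (Steps.bwd (nat_lit 6) (Steps.bwd (nat_lit 3) (Steps.bwd (nat_lit 6) (Steps.fwd (nat_lit 3072) (Steps.bwd (nat_lit 6) (Steps.bwd (nat_lit 2) Steps.nil))))))))))))))))) (nat_lit 18) (nat_lit 15),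
  Rule.mk (nat_lit 1) (nat_lit 63) (Steps.bwd (nat_lit 4) (Steps.bwd (nat_lit 2) (Steps.fwd (nat_lit 4096) (Steps.bwd (nat_lit 2) (Steps.bwd (nat_lit 4) Steps.nil))))) (nat_lit 5) (nat_lit 4),
  Rule.mk (nat_lit 2) (nat_lit 63) (Steps.bwd (nat_lit 4) (Steps.fwd (nat_lit 2048) (Steps.bwd (nat_lit 4) (Steps.bwd (nat_lit 2) (Steps.fwd (nat_lit 4096) Steps.nil))))) (nat_lit 5) (nat_lit 2),
  Rule.mk (nat_lit 6) (nat_lit 41) (Steps.fwd (nat_lit 2048) (Steps.fwd (nat_lit 6144) (Steps.bwd (nat_lit 2) Steps.nil))) (nat_lit 14) (nat_lit 0),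
  Rule.mk (nat_lit 1) (nat_lit 63) (Steps.bwd (nat_lit 4) (Steps.fwd (nat_lit 2048) (Steps.fwd (nat_lit 4096) (Steps.bwd (nat_lit 2) (Steps.fwd (nat_lit 4096) Steps.nil))))) (nat_lit 4) (nat_lit 5),
  Rule.mk (nat_lit 4) (nat_lit 195) (Steps.bwd (nat_lit 6) (Steps.fwd (nat_lit 3072) (Steps.bwd (nat_lit 6) (Steps.bwd (nat_lit 1) (Steps.fwd (nat_lit 4096) (Steps.bwd (nat_lit 1) (Steps.bwd (nat_lit 6) (Steps.fwd (nat_lit 4096) (Steps.bwd (nat_lit 6) (Steps.fwd (nat_lit 3072) (Steps.fwd (nat_lit 2048) (Steps.bwd (nat_lit 6) (Steps.bwd (nat_lit 3) (Steps.fwd (nat_lit 6144) (Steps.bwd (nat_lit 4) (Steps.fwd (nat_lit 6144) (Steps.fwd (nat_lit 1024) Steps.nil))))))))))))))))) (nat_lit 18) (nat_lit 15),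
  Rule.mk (nat_lit 3) (nat_lit 195) (Steps.bwd (nat_lit 6) (Steps.fwd (nat_lit 3072) (Steps.fwd (nat_lit 2048) (Steps.fwd (nat_lit 6144) (Steps.fwd (nat_lit 4096) (Steps.bwd (nat_lit 6) (Steps.bwd (nat_lit 4) (Steps.fwd (nat_lit 6144) (Steps.bwd (nat_lit 2) (Steps.bwd (nat_lit 4) (Steps.fwd (nat_lit 6144) (Steps.bwd (nat_lit 4) (Steps.bwd (nat_lit 6) (Steps.fwd (nat_lit 2048) (Steps.bwd (nat_lit 3) (Steps.bwd (nat_lit 1) (Steps.fwd (nat_lit 6144) Steps.nil))))))))))))))))) (nat_lit 18) (nat_lit 5),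
  Rule.mk (nat_lit 2) (nat_lit 30) (Steps.bwd (nat_lit 2) (Steps.fwd (nat_lit 1024) Steps.nil)) (nat_lit 1) (nat_lit 0),
  Rule.mk (nat_lit 3) (nat_lit 63) (Steps.bwd (nat_lit 2) (Steps.bwd (nat_lit 3) (Steps.fwd (nat_lit 2048) (Steps.fwd (nat_lit 3072) (Steps.fwd (nat_lit 2048) Steps.nil))))) (nat_lit 4) (nat_lit 2),
  Rule.mk (nat_lit 4) (nat_lit 63) (Steps.bwd (nat_lit 2) (Steps.bwd (nat_lit 3) (Steps.bwd (nat_lit 2) (Steps.fwd (nat_lit 3072) (Steps.fwd (nat_lit 2048) Steps.nil))))) (nat_lit 5) (nat_lit 5),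
  Rule.mk (nat_lit 2) (nat_lit 41) (Steps.bwd (nat_lit 5) (Steps.bwd (nat_lit 2) (Steps.fwd (nat_lit 5120) Steps.nil))) (nat_lit 9) (nat_lit 0),
  Rule.mk (nat_lit 5) (nat_lit 41) (Steps.bwd (nat_lit 3) (Steps.bwd (nat_lit 5) (Steps.fwd (nat_lit 4096) Steps.nil))) (nat_lit 10) (nat_lit 0),
  Rule.mk (nat_lit 1) (nat_lit 63) (Steps.bwd (nat_lit 3) (Steps.bwd (nat_lit 2) (Steps.fwd (nat_lit 4096) (Steps.fwd (nat_lit 2048) (Steps.fwd (nat_lit 3072) Steps.nil))))) (nat_lit 4) (nat_lit 1),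
  Rule.mk (nat_lit 1) (nat_lit 63) (Steps.bwd (nat_lit 3) (Steps.fwd (nat_lit 1024) (Steps.bwd (nat_lit 3) (Steps.fwd (nat_lit 2048) (Steps.fwd (nat_lit 3072) Steps.nil))))) (nat_lit 4) (nat_lit 1),
  Rule.mk (nat_lit 3) (nat_lit 63) (Steps.bwd (nat_lit 1) (Steps.bwd (nat_lit 4) (Steps.fwd (nat_lit 2048) (Steps.fwd (nat_lit 4096) (Steps.bwd (nat_lit 2) Steps.nil))))) (nat_lit 4) (nat_lit 4)]
noncomputable def R_2 : List (Rule) := [Rule.mk (nat_lit 4) (nat_lit 63) (Steps.bwd (nat_lit 1) (Steps.bwd (nat_lit 4) (Steps.bwd (nat_lit 2) (Steps.bwd (nat_lit 3) (Steps.fwd (nat_lit 1024) Steps.nil))))) (nat_lit 5) (nat_lit 3),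
  Rule.mk (nat_lit 2) (nat_lit 63) (Steps.bwd (nat_lit 4) (Steps.fwd (nat_lit 2048) (Steps.fwd (nat_lit 3072) (Steps.bwd (nat_lit 2) (Steps.fwd (nat_lit 4096) Steps.nil))))) (nat_lit 5) (nat_lit 2),
  Rule.mk (nat_lit 5) (nat_lit 41) (Steps.bwd (nat_lit 3) (Steps.fwd (nat_lit 5120) (Steps.fwd (nat_lit 4096) Steps.nil))) (nat_lit 10) (nat_lit 0),
  Rule.mk (nat_lit 6) (nat_lit 195) (Steps.bwd (nat_lit 3) (Steps.bwd (nat_lit 6) (Steps.fwd (nat_lit 3072) (Steps.fwd (nat_lit 6144) (Steps.fwd (nat_lit 1024) (Steps.fwd (nat_lit 3072) (Steps.fwd (nat_lit 6144) (Steps.fwd (nat_lit 3072) (Steps.fwd (nat_lit 6144) (Steps.fwd (nat_lit 2048) (Steps.fwd (nat_lit 4096) (Steps.fwd (nat_lit 2048) (Steps.bwd (nat_lit 6) (Steps.bwd (nat_lit 3) (Steps.bwd (nat_lit 6) (Steps.bwd (nat_lit 4) (Steps.fwd (nat_lit 2048) Steps.nil))))))))))))))))) (nat_lit 18) (nat_lit 9),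
  Rule.mk (nat_lit 2) (nat_lit 63) (Steps.bwd (nat_lit 4) (Steps.fwd (nat_lit 2048) (Steps.fwd (nat_lit 3072) (Steps.bwd (nat_lit 2) (Steps.bwd (nat_lit 3) Steps.nil))))) (nat_lit 5) (nat_lit 2),
  Rule.mk (nat_lit 6) (nat_lit 41) (Steps.fwd (nat_lit 2048) (Steps.bwd (nat_lit 6) (Steps.bwd (nat_lit 2) Steps.nil))) (nat_lit 14) (nat_lit 0),
  Rule.mk (nat_lit 6) (nat_lit 41) (Steps.fwd (nat_lit 1024) (Steps.bwd (nat_lit 6) (Steps.bwd (nat_lit 1) Steps.nil))) (nat_lit 14) (nat_lit 2),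
  Rule.mk (nat_lit 5) (nat_lit 41) (Steps.bwd (nat_lit 1) (Steps.bwd (nat_lit 5) (Steps.fwd (nat_lit 2048) Steps.nil))) (nat_lit 8) (nat_lit 0),
  Rule.mk (nat_lit 5) (nat_lit 41) (Steps.fwd (nat_lit 3072) (Steps.bwd (nat_lit 5) (Steps.bwd (nat_lit 4) Steps.nil))) (nat_lit 11) (nat_lit 1),
  Rule.mk (nat_lit 4) (nat_lit 41) (Steps.bwd (nat_lit 5) (Steps.fwd (nat_lit 3072) (Steps.fwd (nat_lit 5120) Steps.nil))) (nat_lit 11) (nat_lit 0),
  Rule.mk (nat_lit 2) (nat_lit 63) (Steps.bwd (nat_lit 4) (Steps.fwd (nat_lit 2048) (Steps.bwd (nat_lit 4) (Steps.fwd (nat_lit 1024) (Steps.bwd (nat_lit 3) Steps.nil))))) (nat_lit 5) (nat_lit 2),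
  Rule.mk (nat_lit 2) (nat_lit 63) (Steps.bwd (nat_lit 3) (Steps.fwd (nat_lit 2048) (Steps.bwd (nat_lit 4) (Steps.fwd (nat_lit 2048) (Steps.fwd (nat_lit 4096) Steps.nil))))) (nat_lit 4) (nat_lit 3),
  Rule.mk (nat_lit 1) (nat_lit 63) (Steps.bwd (nat_lit 3) (Steps.bwd (nat_lit 2) (Steps.bwd (nat_lit 3) (Steps.fwd (nat_lit 2048) (Steps.bwd (nat_lit 4) Steps.nil))))) (nat_lit 4) (nat_lit 1),
  Rule.mk (nat_lit 6) (nat_lit 195) (Steps.bwd (nat_lit 3) (Steps.fwd (nat_lit 6144) (Steps.bwd (nat_lit 4) (Steps.bwd (nat_lit 1) (Steps.fwd (nat_lit 6144) (Steps.fwd (nat_lit 4096) (Steps.fwd (nat_lit 6144) (Steps.fwd (nat_lit 3072) (Steps.fwd (nat_lit 6144) (Steps.bwd (nat_lit 2) (Steps.bwd (nat_lit 4) (Steps.bwd (nat_lit 6) (Steps.bwd (nat_lit 4) (Steps.fwd (nat_lit 6144) (Steps.bwd (nat_lit 1) (Steps.bwd (nat_lit 3) (Steps.bwd (nat_lit 1) Steps.nil))))))))))))))))) (nat_lit 18) (nat_lit 4),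
  Rule.mk (nat_lit 5) (nat_lit 41) (Steps.bwd (nat_lit 2) (Steps.fwd (nat_lit 5120) (Steps.fwd (nat_lit 1024) Steps.nil))) (nat_lit 9) (nat_lit 1),
  Rule.mk (nat_lit 3) (nat_lit 63) (Steps.bwd (nat_lit 2) (Steps.bwd (nat_lit 4) (Steps.fwd (nat_lit 2048) (Steps.bwd (nat_lit 4) (Steps.bwd (nat_lit 2) Steps.nil))))) (nat_lit 5) (nat_lit 1),
  Rule.mk (nat_lit 6) (nat_lit 195) (Steps.bwd (nat_lit 3) (Steps.bwd (nat_lit 6) (Steps.fwd (nat_lit 3072) (Steps.fwd (nat_lit 6144) (Steps.fwd (nat_lit 1024) (Steps.fwd (nat_lit 3072) (Steps.bwd (nat_lit 6) (Steps.fwd (nat_lit 3072) (Steps.fwd (nat_lit 6144) (Steps.fwd (nat_lit 2048) (Steps.bwd (nat_lit 3) (Steps.bwd (nat_lit 1) (Steps.bwd (nat_lit 6) (Steps.bwd (nat_lit 3) (Steps.fwd (nat_lit 6144) (Steps.fwd (nat_lit 3072) (Steps.fwd (nat_lit 2048) Steps.nil))))))))))))))))) (nat_lit 18) (nat_lit 9),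
  Rule.mk (nat_lit 2) (nat_lit 63) (Steps.bwd (nat_lit 3) (Steps.bwd (nat_lit 1) (Steps.bwd (nat_lit 4) (Steps.fwd (nat_lit 2048) (Steps.bwd (nat_lit 3) Steps.nil))))) (nat_lit 4) (nat_lit 3),
  Rule.mk (nat_lit 6) (nat_lit 195) (Steps.bwd (nat_lit 3) (Steps.bwd (nat_lit 6) (Steps.bwd (nat_lit 4) (Steps.fwd (nat_lit 2048) (Steps.bwd (nat_lit 6) (Steps.bwd (nat_lit 3) (Steps.fwd (nat_lit 6144) (Steps.fwd (nat_lit 3072) (Steps.fwd (nat_lit 6144) (Steps.bwd (nat_lit 2) (Steps.fwd (nat_lit 3072) (Steps.fwd (nat_lit 6144) (Steps.fwd (nat_lit 3072) (Steps.bwd (nat_lit 6) (Steps.fwd (nat_lit 2048) (Steps.bwd (nat_lit 3) (Steps.fwd (nat_lit 2048) Steps.nil))))))))))))))))) (nat_lit 18) (nat_lit 4),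
  Rule.mk (nat_lit 4) (nat_lit 195) (Steps.bwd (nat_lit 6) (Steps.fwd (nat_lit 2048) (Steps.fwd (nat_lit 4096) (Steps.fwd (nat_lit 2048) (Steps.bwd (nat_lit 6) (Steps.fwd (nat_lit 4096) (Steps.bwd (nat_lit 6) (Steps.bwd (nat_lit 4) (Steps.fwd (nat_lit 2048) (Steps.fwd (nat_lit 6144) (Steps.bwd (nat_lit 3) (Steps.bwd (nat_lit 6) (Steps.fwd (nat_lit 3072) (Steps.bwd (nat_lit 6) (Steps.bwd (nat_lit 2) (Steps.fwd (nat_lit 3072) (Steps.fwd (nat_lit 6144) Steps.nil))))))))))))))))) (nat_lit 18) (nat_lit 17),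
  Rule.mk (nat_lit 1) (nat_lit 41) (Steps.bwd (nat_lit 6) (Steps.bwd (nat_lit 2) (Steps.fwd (nat_lit 6144) Steps.nil))) (nat_lit 14) (nat_lit 1),
  Rule.mk (nat_lit 6) (nat_lit 195) (Steps.bwd (nat_lit 3) (Steps.fwd (nat_lit 6144) (Steps.fwd (nat_lit 3072) (Steps.bwd (nat_lit 6) (Steps.fwd (nat_lit 1024) (Steps.bwd (nat_lit 4) (Steps.fwd (nat_lit 6144) (Steps.bwd (nat_lit 4) (Steps.fwd (nat_lit 6144) (Steps.fwd (nat_lit 2048) (Steps.bwd (nat_lit 3) (Steps.fwd (nat_lit 2048) (Steps.bwd (nat_lit 6) (Steps.bwd (nat_lit 3) (Steps.fwd (nat_lit 6144) (Steps.fwd (nat_lit 3072) (Steps.fwd (nat_lit 2048) Steps.nil))))))))))))))))) (nat_lit 18) (nat_lit 9),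
  Rule.mk (nat_lit 2) (nat_lit 41) (Steps.fwd (nat_lit 6144) (Steps.fwd (nat_lit 2048) (Steps.bwd (nat_lit 6) Steps.nil))) (nat_lit 14) (nat_lit 3),
  Rule.mk (nat_lit 1) (nat_lit 41) (Steps.bwd (nat_lit 6) (Steps.bwd (nat_lit 2) (Steps.bwd (nat_lit 6) Steps.nil))) (nat_lit 14) (nat_lit 1),
  Rule.mk (nat_lit 4) (nat_lit 195) (Steps.bwd (nat_lit 6) (Steps.fwd (nat_lit 2048) (Steps.bwd (nat_lit 3) (Steps.bwd (nat_lit 1) (Steps.fwd (nat_lit 6144) (Steps.fwd (nat_lit 4096) (Steps.bwd (nat_lit 6) (Steps.fwd (nat_lit 3072) (Steps.bwd (nat_lit 1) (Steps.bwd (nat_lit 6) (Steps.bwd (nat_lit 3) (Steps.fwd (nat_lit 6144) (Steps.bwd (nat_lit 4) (Steps.bwd (nat_lit 6) (Steps.bwd (nat_lit 2) (Steps.fwd (nat_lit 3072) (Steps.fwd (nat_lit 6144) Steps.nil))))))))))))))))) (nat_lit 18) (nat_lit 17),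
  Rule.mk (nat_lit 2) (nat_lit 63) (Steps.bwd (nat_lit 3) (Steps.bwd (nat_lit 1) (Steps.fwd (nat_lit 3072) (Steps.fwd (nat_lit 2048) (Steps.bwd (nat_lit 3) Steps.nil))))) (nat_lit 4) (nat_lit 3),
  Rule.mk (nat_lit 2) (nat_lit 63) (Steps.bwd (nat_lit 3) (Steps.fwd (nat_lit 2048) (Steps.fwd (nat_lit 3072) (Steps.bwd (nat_lit 1) (Steps.bwd (nat_lit 3) Steps.nil))))) (nat_lit 4) (nat_lit 3),
  Rule.mk (nat_lit 4) (nat_lit 195) (Steps.bwd (nat_lit 6) (Steps.fwd (nat_lit 1024) (Steps.bwd (nat_lit 4) (Steps.fwd (nat_lit 6144) (Steps.bwd (nat_lit 4) (Steps.bwd (nat_lit 6) (Steps.fwd (nat_lit 2048) (Steps.fwd (nat_lit 4096) (Steps.fwd (nat_lit 2048) (Steps.fwd (nat_lit 6144) (Steps.bwd (nat_lit 3) (Steps.bwd (nat_lit 6) (Steps.fwd (nat_lit 3072) (Steps.bwd (nat_lit 1) (Steps.fwd (nat_lit 6144) (Steps.bwd (nat_lit 3) (Steps.fwd (nat_lit 6144) Steps.nil))))))))))))))))) (nat_lit 18) (nat_lit 12),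
  Rule.mk (nat_lit 3) (nat_lit 195) (Steps.bwd (nat_lit 1) (Steps.fwd (nat_lit 6144) (Steps.bwd (nat_lit 3) (Steps.bwd (nat_lit 6) (Steps.bwd (nat_lit 4) (Steps.fwd (nat_lit 6144) (Steps.bwd (nat_lit 2) (Steps.bwd (nat_lit 3) (Steps.fwd (nat_lit 6144) (Steps.bwd (nat_lit 4) (Steps.fwd (nat_lit 6144) (Steps.fwd (nat_lit 1024) (Steps.bwd (nat_lit 4) (Steps.fwd (nat_lit 1024) (Steps.fwd (nat_lit 6144) (Steps.bwd (nat_lit 3) (Steps.bwd (nat_lit 6) Steps.nil))))))))))))))))) (nat_lit 19) (nat_lit 4),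
  Rule.mk (nat_lit 1) (nat_lit 41) (Steps.bwd (nat_lit 5) (Steps.bwd (nat_lit 1) (Steps.bwd (nat_lit 5) Steps.nil))) (nat_lit 8) (nat_lit 1),
  Rule.mk (nat_lit 6) (nat_lit 41) (Steps.bwd (nat_lit 1) (Steps.fwd (nat_lit 6144) (Steps.fwd (nat_lit 1024) Steps.nil))) (nat_lit 14) (nat_lit 0),
  Rule.mk (nat_lit 6) (nat_lit 195) (Steps.fwd (nat_lit 1024) (Steps.bwd (nat_lit 4) (Steps.fwd (nat_lit 6144) (Steps.fwd (nat_lit 3072) (Steps.bwd (nat_lit 6) (Steps.bwd (nat_lit 1) (Steps.bwd (nat_lit 3) (Steps.fwd (nat_lit 2048) (Steps.bwd (nat_lit 6) (Steps.fwd (nat_lit 4096) (Steps.fwd (nat_lit 6144) (Steps.fwd (nat_lit 3072) (Steps.fwd (nat_lit 2048) (Steps.bwd (nat_lit 6) (Steps.fwd (nat_lit 4096) (Steps.fwd (nat_lit 6144) (Steps.bwd (nat_lit 4) Steps.nil))))))))))))))))) (nat_lit 18) (nat_lit 13),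
  Rule.mk (nat_lit 1) (nat_lit 63) (Steps.bwd (nat_lit 4) (Steps.bwd (nat_lit 1) (Steps.fwd (nat_lit 4096) (Steps.fwd (nat_lit 1024) (Steps.fwd (nat_lit 4096) Steps.nil))))) (nat_lit 4) (nat_lit 5),
  Rule.mk (nat_lit 6) (nat_lit 195) (Steps.bwd (nat_lit 3) (Steps.fwd (nat_lit 6144) (Steps.fwd (nat_lit 3072) (Steps.bwd (nat_lit 6) (Steps.bwd (nat_lit 2) (Steps.bwd (nat_lit 4) (Steps.fwd (nat_lit 6144) (Steps.fwd (nat_lit 3072) (Steps.fwd (nat_lit 6144) (Steps.fwd (nat_lit 2048) (Steps.fwd (nat_lit 4096) (Steps.bwd (nat_lit 1) (Steps.fwd (nat_lit 6144) (Steps.bwd (nat_lit 3) (Steps.bwd (nat_lit 6) (Steps.bwd (nat_lit 4) (Steps.bwd (nat_lit 1) Steps.nil))))))))))))))))) (nat_lit 18) (nat_lit 9),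
  Rule.mk (nat_lit 4) (nat_lit 63) (Steps.bwd (nat_lit 2) (Steps.bwd (nat_lit 3) (Steps.bwd (nat_lit 2) (Steps.bwd (nat_lit 4) (Steps.fwd (nat_lit 2048) Steps.nil))))) (nat_lit 5) (nat_lit 5),
  Rule.mk (nat_lit 2) (nat_lit 41) (Steps.bwd (nat_lit 6) (Steps.bwd (nat_lit 1) (Steps.bwd (nat_lit 6) Steps.nil))) (nat_lit 14) (nat_lit 3),
  Rule.mk (nat_lit 1) (nat_lit 195) (Steps.bwd (nat_lit 6) (Steps.fwd (nat_lit 4096) (Steps.fwd (nat_lit 6144) (Steps.fwd (nat_lit 3072) (Steps.bwd (nat_lit 6) (Steps.fwd (nat_lit 1024) (Steps.bwd (nat_lit 4) (Steps.bwd (nat_lit 6) (Steps.fwd (nat_lit 3072) (Steps.bwd (nat_lit 6) (Steps.fwd (nat_lit 2048) (Steps.bwd (nat_lit 3) (Steps.fwd (nat_lit 2048) (Steps.bwd (nat_lit 6) (Steps.fwd (nat_lit 4096) (Steps.fwd (nat_lit 6144) (Steps.bwd (nat_lit 4) Steps.nil))))))))))))))))) (nat_lit 18) (nat_lit 8),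
  Rule.mk (nat_lit 4) (nat_lit 63) (Steps.fwd (nat_lit 2048) (Steps.bwd (nat_lit 3) (Steps.bwd (nat_lit 2) (Steps.bwd (nat_lit 3) (Steps.bwd (nat_lit 1) Steps.nil))))) (nat_lit 4) (nat_lit 0),
  Rule.mk (nat_lit 3) (nat_lit 63) (Steps.bwd (nat_lit 2) (Steps.bwd (nat_lit 4) (Steps.bwd (nat_lit 1) (Steps.bwd (nat_lit 4) (Steps.bwd (nat_lit 2) Steps.nil))))) (nat_lit 5) (nat_lit 1),
  Rule.mk (nat_lit 2) (nat_lit 63) (Steps.bwd (nat_lit 3) (Steps.bwd (nat_lit 1) (Steps.bwd (nat_lit 4) (Steps.bwd (nat_lit 1) (Steps.bwd (nat_lit 3) Steps.nil))))) (nat_lit 4) (nat_lit 3),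
  Rule.mk (nat_lit 3) (nat_lit 195) (Steps.bwd (nat_lit 6) (Steps.fwd (nat_lit 3072) (Steps.bwd (nat_lit 6) (Steps.bwd (nat_lit 2) (Steps.bwd (nat_lit 4) (Steps.bwd (nat_lit 6) (Steps.bwd (nat_lit 4) (Steps.fwd (nat_lit 6144) (Steps.bwd (nat_lit 1) (Steps.fwd (nat_lit 4096) (Steps.fwd (nat_lit 2048) (Steps.bwd (nat_lit 6) (Steps.bwd (nat_lit 3) (Steps.fwd (nat_lit 6144) (Steps.bwd (nat_lit 4) (Steps.bwd (nat_lit 1) (Steps.fwd (nat_lit 6144) Steps.nil))))))))))))))))) (nat_lit 18) (nat_lit 10),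
  Rule.mk (nat_lit 4) (nat_lit 195) (Steps.bwd (nat_lit 6) (Steps.bwd (nat_lit 4) (Steps.bwd (nat_lit 6) (Steps.fwd (nat_lit 2048) (Steps.fwd (nat_lit 4096) (Steps.bwd (nat_lit 1) (Steps.fwd (nat_lit 6144) (Steps.fwd (nat_lit 4096) (Steps.bwd (nat_lit 6) (Steps.fwd (nat_lit 3072) (Steps.bwd (nat_lit 1) (Steps.bwd (nat_lit 6) (Steps.fwd (nat_lit 4096) (Steps.fwd (nat_lit 6144) (Steps.fwd (nat_lit 3072) (Steps.fwd (nat_lit 6144) (Steps.bwd (nat_lit 2) Steps.nil))))))))))))))))) (nat_lit 18) (nat_lit 15),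
  Rule.mk (nat_lit 2) (nat_lit 63) (Steps.bwd (nat_lit 3) (Steps.bwd (nat_lit 2) (Steps.bwd (nat_lit 4) (Steps.fwd (nat_lit 2048) (Steps.bwd (nat_lit 4) Steps.nil))))) (nat_lit 5) (nat_lit 0),
  Rule.mk (nat_lit 4) (nat_lit 195) (Steps.bwd (nat_lit 6) (Steps.fwd (nat_lit 2048) (Steps.bwd (nat_lit 3) (Steps.fwd (nat_lit 2048) (Steps.fwd (nat_lit 6144) (Steps.bwd (nat_lit 3) (Steps.bwd (nat_lit 6) (Steps.fwd (nat_lit 3072) (Steps.bwd (nat_lit 1) (Steps.bwd (nat_lit 6) (Steps.bwd (nat_lit 3) (Steps.fwd (nat_lit 6144) (Steps.bwd (nat_lit 4) (Steps.bwd (nat_lit 6) (Steps.bwd (nat_lit 2) (Steps.bwd (nat_lit 4) (Steps.fwd (nat_lit 6144) Steps.nil))))))))))))))))) (nat_lit 18) (nat_lit 17),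
  Rule.mk (nat_lit 6) (nat_lit 195) (Steps.bwd (nat_lit 4) (Steps.bwd (nat_lit 6) (Steps.fwd (nat_lit 2048) (Steps.bwd (nat_lit 3) (Steps.fwd (nat_lit 2048) (Steps.bwd (nat_lit 6) (Steps.bwd (nat_lit 3) (Steps.fwd (nat_lit 6144) (Steps.fwd (nat_lit 3072) (Steps.fwd (nat_lit 2048) (Steps.fwd (nat_lit 6144) (Steps.bwd (nat_lit 3) (Steps.fwd (nat_lit 6144) (Steps.bwd (nat_lit 4) (Steps.bwd (nat_lit 6) (Steps.bwd (nat_lit 2) (Steps.fwd (nat_lit 3072) Steps.nil))))))))))))))))) (nat_lit 18) (nat_lit 16),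
  Rule.mk (nat_lit 3) (nat_lit 63) (Steps.bwd (nat_lit 2) (Steps.fwd (nat_lit 4096) (Steps.bwd (nat_lit 1) (Steps.bwd (nat_lit 4) (Steps.fwd (nat_lit 2048) Steps.nil))))) (nat_lit 4) (nat_lit 2),
  Rule.mk (nat_lit 4) (nat_lit 195) (Steps.bwd (nat_lit 6) (Steps.fwd (nat_lit 2048) (Steps.bwd (nat_lit 3) (Steps.bwd (nat_lit 1) (Steps.fwd (nat_lit 6144) (Steps.bwd (nat_lit 3) (Steps.bwd (nat_lit 6) (Steps.fwd (nat_lit 3072) (Steps.bwd (nat_lit 1) (Steps.fwd (nat_lit 6144) (Steps.bwd (nat_lit 3) (Steps.bwd (nat_lit 6) (Steps.bwd (nat_lit 4) (Steps.fwd (nat_lit 6144) (Steps.bwd (nat_lit 2) (Steps.fwd (nat_lit 3072) (Steps.fwd (nat_lit 6144) Steps.nil))))))))))))))))) (nat_lit 18) (nat_lit 17),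
  Rule.mk (nat_lit 6) (nat_lit 195) (Steps.bwd (nat_lit 3) (Steps.fwd (nat_lit 6144) (Steps.fwd (nat_lit 3072) (Steps.fwd (nat_lit 6144) (Steps.bwd (nat_lit 2) (Steps.bwd (nat_lit 4) (Steps.bwd (nat_lit 6) (Steps.fwd (nat_lit 3072) (Steps.fwd (nat_lit 6144) (Steps.bwd (nat_lit 1) (Steps.bwd (nat_lit 3) (Steps.fwd (nat_lit 2048) (Steps.fwd (nat_lit 6144) (Steps.fwd (nat_lit 4096) (Steps.fwd (nat_lit 6144) (Steps.fwd (nat_lit 3072) (Steps.fwd (nat_lit 2048) Steps.nil))))))))))))))))) (nat_lit 18) (nat_lit 9),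
  Rule.mk (nat_lit 3) (nat_lit 195) (Steps.fwd (nat_lit 6144) (Steps.fwd (nat_lit 3072) (Steps.bwd (nat_lit 6) (Steps.bwd (nat_lit 2) (Steps.bwd (nat_lit 3) (Steps.fwd (nat_lit 6144) (Steps.fwd (nat_lit 3072) (Steps.fwd (nat_lit 6144) (Steps.bwd (nat_lit 2) (Steps.bwd (nat_lit 4) (Steps.fwd (nat_lit 1024) (Steps.fwd (nat_lit 6144) (Steps.fwd (nat_lit 4096) (Steps.fwd (nat_lit 6144) (Steps.bwd (nat_lit 3) (Steps.fwd (nat_lit 2048) (Steps.fwd (nat_lit 6144) Steps.nil))))))))))))))))) (nat_lit 19) (nat_lit 7),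
  Rule.mk (nat_lit 5) (nat_lit 41) (Steps.bwd (nat_lit 4) (Steps.bwd (nat_lit 5) (Steps.fwd (nat_lit 3072) Steps.nil))) (nat_lit 11) (nat_lit 1),
  Rule.mk (nat_lit 6) (nat_lit 195) (Steps.bwd (nat_lit 4) (Steps.fwd (nat_lit 6144) (Steps.fwd (nat_lit 2048) (Steps.bwd (nat_lit 3) (Steps.fwd (nat_lit 2048) (Steps.fwd (nat_lit 6144) (Steps.bwd (nat_lit 3) (Steps.bwd (nat_lit 6) (Steps.bwd (nat_lit 4) (Steps.bwd (nat_lit 1) (Steps.fwd (nat_lit 6144) (Steps.fwd (nat_lit 4096) (Steps.bwd (nat_lit 6) (Steps.fwd (nat_lit 3072) (Steps.bwd (nat_lit 6) (Steps.fwd (nat_lit 1024) (Steps.bwd (nat_lit 4) Steps.nil))))))))))))))))) (nat_lit 18) (nat_lit 16),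
  Rule.mk (nat_lit 6) (nat_lit 195) (Steps.bwd (nat_lit 4) (Steps.fwd (nat_lit 6144) (Steps.fwd (nat_lit 1024) (Steps.fwd (nat_lit 3072) (Steps.fwd (nat_lit 6144) (Steps.bwd (nat_lit 4) (Steps.bwd (nat_lit 6) (Steps.fwd (nat_lit 2048) (Steps.fwd (nat_lit 4096) (Steps.bwd (nat_lit 1) (Steps.fwd (nat_lit 6144) (Steps.bwd (nat_lit 3) (Steps.fwd (nat_lit 6144) (Steps.bwd (nat_lit 4) (Steps.fwd (nat_lit 2048) (Steps.bwd (nat_lit 6) (Steps.bwd (nat_lit 3) Steps.nil))))))))))))))))) (nat_lit 18) (nat_lit 11),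
  Rule.mk (nat_lit 1) (nat_lit 41) (Steps.fwd (nat_lit 6144) (Steps.bwd (nat_lit 2) (Steps.bwd (nat_lit 6) Steps.nil))) (nat_lit 14) (nat_lit 1),
  Rule.mk (nat_lit 2) (nat_lit 63) (Steps.bwd (nat_lit 3) (Steps.bwd (nat_lit 2) (Steps.bwd (nat_lit 4) (Steps.bwd (nat_lit 1) (Steps.bwd (nat_lit 4) Steps.nil))))) (nat_lit 5) (nat_lit 0),
  Rule.mk (nat_lit 6) (nat_lit 195) (Steps.bwd (nat_lit 3) (Steps.fwd (nat_lit 6144) (Steps.fwd (nat_lit 3072) (Steps.bwd (nat_lit 6) (Steps.bwd (nat_lit 2) (Steps.fwd (nat_lit 3072) (Steps.bwd (nat_lit 6) (Steps.fwd (nat_lit 3072) (Steps.fwd (nat_lit 6144) (Steps.bwd (nat_lit 1) (Steps.fwd (nat_lit 4096) (Steps.fwd (nat_lit 2048) (Steps.bwd (nat_lit 6) (Steps.bwd (nat_lit 3) (Steps.fwd (nat_lit 6144) (Steps.bwd (nat_lit 4) (Steps.fwd (nat_lit 2048) Steps.nil))))))))))))))))) (nat_lit 18) (nat_lit 9),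
  Rule.mk (nat_lit 3) (nat_lit 63) (Steps.bwd (nat_lit 2) (Steps.fwd (nat_lit 3072) (Steps.fwd (nat_lit 2048) (Steps.bwd (nat_lit 4) (Steps.bwd (nat_lit 2) Steps.nil))))) (nat_lit 5) (nat_lit 1),
  Rule.mk (nat_lit 2) (nat_lit 63) (Steps.bwd (nat_lit 3) (Steps.fwd (nat_lit 2048) (Steps.bwd (nat_lit 4) (Steps.fwd (nat_lit 2048) (Steps.bwd (nat_lit 3) Steps.nil))))) (nat_lit 4) (nat_lit 3),
  Rule.mk (nat_lit 6) (nat_lit 195) (Steps.bwd (nat_lit 3) (Steps.fwd (nat_lit 6144) (Steps.bwd (nat_lit 4) (Steps.fwd (nat_lit 6144) (Steps.bwd (nat_lit 2) (Steps.fwd (nat_lit 3072) (Steps.bwd (nat_lit 6) (Steps.fwd (nat_lit 3072) (Steps.bwd (nat_lit 6) (Steps.fwd (nat_lit 2048) (Steps.bwd (nat_lit 3) (Steps.bwd (nat_lit 1) (Steps.bwd (nat_lit 6) (Steps.bwd (nat_lit 3) (Steps.bwd (nat_lit 6) (Steps.fwd (nat_lit 3072) (Steps.fwd (nat_lit 2048) Steps.nil))))))))))))))))) (nat_lit 18) (nat_lit 9),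
  Rule.mk (nat_lit 4) (nat_lit 195) (Steps.bwd (nat_lit 6) (Steps.fwd (nat_lit 2048) (Steps.bwd (nat_lit 3) (Steps.fwd (nat_lit 2048) (Steps.fwd (nat_lit 6144) (Steps.fwd (nat_lit 4096) (Steps.fwd (nat_lit 6144) (Steps.fwd (nat_lit 3072) (Steps.fwd (nat_lit 2048) (Steps.fwd (nat_lit 6144) (Steps.bwd (nat_lit 3) (Steps.bwd (nat_lit 6) (Steps.bwd (nat_lit 4) (Steps.bwd (nat_lit 6) (Steps.bwd (nat_lit 2) (Steps.fwd (nat_lit 3072) (Steps.fwd (nat_lit 6144) Steps.nil))))))))))))))))) (nat_lit 18) (nat_lit 17),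
  Rule.mk (nat_lit 4) (nat_lit 195) (Steps.bwd (nat_lit 6) (Steps.fwd (nat_lit 2048) (Steps.bwd (nat_lit 3) (Steps.fwd (nat_lit 2048) (Steps.bwd (nat_lit 6) (Steps.bwd (nat_lit 3) (Steps.fwd (nat_lit 6144) (Steps.bwd (nat_lit 4) (Steps.bwd (nat_lit 1) (Steps.fwd (nat_lit 6144) (Steps.fwd (nat_lit 4096) (Steps.bwd (nat_lit 6) (Steps.fwd (nat_lit 3072) (Steps.fwd (nat_lit 6144) (Steps.bwd (nat_lit 2) (Steps.fwd (nat_lit 3072) (Steps.fwd (nat_lit 6144) Steps.nil))))))))))))))))) (nat_lit 18) (nat_lit 17)]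
noncomputable def R : List (List (Rule)) := [R_0, R_1, R_2]
def LW : List Word := [[], [0], [1], [2], [3], [4], [6], [0], [1], [2], [3], [4], [5]]
def par : Par := ⟨10, 4, 14, 24, 1023, 16383, 16777215⟩
theorem hpar : par.ok := by decide
theorem hR0_0 : lall (R) (fun l => lall l (ruleOK rels LW par)) = true := by decide +kernel
theorem hR0 : lall (R) (fun l => lall l (ruleOK rels LW par)) = true := hR0_0
theorem hR : RulesOK rels LW par R := rulesOK_of rfl hR0
def cols : List (ℕ × ℕ) := [(1024, 2), (3072, 4), (5120, 5), (6144, 6)]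
theorem hcols : lall cols (colOK rels LW par) = true := by decide +kernel
noncomputable def JS0 : List ℕ := [nat_lit 0x8e11904000464100611a232260048e11a142384641000119040144688c8991a016468088c809232020448e9190f0040188c0900422e20474009171122e458400411922c1e000009150e22c4688a80916238454348b00600a0188b0600000c4542c8b9140a0020180291622812008019130622a4481c8900400c01089040012220e000899120600200c899112200a00089020002224400c88801222044400111001,
  nat_lit 0x244484280012627440014001201f2440009009002026480509511f1e00e48c0192023e3a0449712123e478700011e0400000c9101723c360008f0392a01a4980111e1a00e00c8e8b11d23814000920393126a4ac8e11b192380008d0b00001a468380681d0264708d0c000232140008d91c0104645c001190701e4b09011a2320a46800118160000088c0a80202649c8c918050184688c81801238468508e11904000464100591a232260048e11a14,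
  nat_lit 0x9a15f2661a4d41f04e2ba4d0b09a822066108999580b07e4c8549d931290064f40d9542623a01c1c130120544bc400181b25e0c4e8971492f04407c9e12e2a25e0149881c25a104e496148012a00849e92c2827a4ac409612b0700c504a114d2562e00c181530644a89c968302524c00c099320284a4949600d250484c8938800204849c1810926072584ac9512824c4608c0212824e49468001240a0005041a1432484401092038150284f0019242103e0b09f0022460a024011221f,
  nat_lit 0x1590024f8bc9f13d102d25009e968000024f0389e84d2785c4f42c93c022c25049e9680200c4f0480213b102ae0049d8893b274200c09e93a0f0000049c8713a04e4e4b89d16d2721a07c9f13a0f0040189c890042702004400938112704dc40a593a26e5a000009360e26e5149b009370964d8081e93b26e1e00803136120084d4401900126a224d49a0803126e4d03c000012661c4d0a793301,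
  nat_lit 0x9450e28c608a2971460c0514080314928c1e0040194512292004a28894528820004a31440f28a62ca20694728a0e1bc3e98a28c514143694a28c1e008031451200851040248012885e510a18804828c50c3c000012841c50cb59420128619ca10104928e50c3c0100628424010a08805200250444a0940100a250ca0078000024fc38a017227e02500bd93f0d2b2510a01680200c4fc480213e10,
  nat_lit 0x14f29808000a60205429a5304c0095729a2855ca60200e298080041514c1400652c10a614b04000530011b00004c528d41206d356274e00a03706bc3103400a0d03098f302530a51a00129852858a61490a00252428a580329266110a494832058000161902a09c0fcbc14700000422883126274d98a5366234c202a31000110410923662a4de0ae15a2b8de0a93666acc604028c60110a394613002524a38a14928c08000a30204528e5184c0094928e28524a30200028c0810ca39461309c004a38894728c20618a49462d,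
  nat_lit 0x788020454c36401009a59dd0060550cd580302c962f801166433b20040aa50af00403d24d70042c0900d8022309b0065751c19003462fa00d143a8020148825801032432f200817210780020c9043d800060801e02701f09c6a04d84700211c4c0973566540503c3666c8bb1f84700011c0c2289738a2e0601ce168704be8312ac004b819e0d26d8229f0030005b8f4b719f39673c5c0bf170714c684b0361283a0272de544001e0022a2000b79503b04c09439048032124c59c316c2f45b1cd158658ab0022a074000a91501600254028020032a0720a0a814f3209e000178182d136278570b63882a84e02c04a5380000231c1583e84d38002640cb86207c04c1f1981422b0551ca38626c1582429a6e004a794d14,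
  nat_lit 0x30a5f0780017c042fa128e498d2f8ba008be0800030222d70038022f6041080017a5b3185ec008822f4b400c3f179353780cc3183e2f2b20001d978150765e4001b82f0b01ec179a607c5e15c001882ee1e6244380b1085dd582180007eaa62c4580637e10d501908a00a234222998b37e010de97f523dc00114fa0063c0a210c032804300a9c11002a717600a9e0a002270250089c334021924d30a010c2239b700805934b88040448e6b80201e4b,
  nat_lit 0xc628400018a103166883200b314da014c69891431a620100102231016094c3b5801006084511876c332619ac001860431261cc30981e002615a82c801308d20000eb41a438a0000098367106618c18198330860998d6800304666100018265306190ef1e141a8510d90b4384350e21b4283e4741c2304c80082801d0c46087002059304c6000d2181060306001c0198530e678c03100033e5fc480a17e102fe008bf308022fa526f01a9bb2fc5f580bf0943a0801040fe42240c81211420824771fa3d41e0beaf8012fe6404997d5e,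
  nat_lit 0x678402999d338f8678ee8dc3be671ecce1ce418778cdbd19c3b6354e699b7a098669e40199a100566b4d401f33c030cf02007e204428cc1e42a0f6027334f06bc430874083a0ff0bf086110de8c91b63c4781ee04c665dc149a93301a098129972e32e7c8431f232eec0085c1961602065428ca80200a008cabb19532814000ca80f75004010031ee326e8014f607e15c649cc050b1322160040119b03a20c640fa4588cc93a322368a0760b4334645c8c980f3201a0000818f5b01600cc79c8aa002639c40100015401001b80a40ee78c0198d6f00a638c61680031620630c718b2e3c64051391a4540d11510a448880fb8b334e0b8c798d316dc0040198b0e,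
  nat_lit 0xd91b00a372738e49b13610204c2283d3606be000400235c4c000d69480243e7241d1ad6c35e0e0d60f8021886b0504a1ab041bc188d79ad356f6820500083586a9e8001a9100006ac1b834352bc000d4821aa37e0cc1a9a95d362104d4179aa38669c901f1a610006154d3071d134a2000ce08bd3c069494e50933485a140d18800607468d94de1a2073c604006803344fe2250b09d006685780400334028680cf820090100100119f7e13284c2b80233cbc008cf19d7d,
  nat_lit 0x6392204411c68d38c7dd0a88438b181f4411c41410070c10019c61921d4e1c58720e67087c389c16b0021e4e0c50043ea7004c000030f11200c3a8740ec6fc88f99be1004c824df329f217c6f6203f9bc0700002007439bd1f80600d1bb7e37607c0d81a374da6f8099b97d3846e0100000300d0c0102b9dc0b46de14031dc36c1615cdab58020081682d85c3c080519a364cc9b8b195e2aa525179b58436c3d0da419e93663c6d4049b842c6ce08d9a29140854d92b1d8362d66c80300944e6c558349b00a,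
  nat_lit 0xed9fe3b52a7692026e26c58c63165212940f68323d6800320603fa76a50ec8b23b2047643c0750f0765d8012023b02c1d0ebb59d74b03a92c1d7760e07582800a1212843ceb2d002216754d5089d41e000930079d93a8bc764e9820000044288495b230278f581e03402c0500b02c060469d39300242506a0c3a52400c069d13511874078001d04945b0bb9893166354f18f53c62cc49772d8928e8488003a474d229cf5e00e738100108820681ce748089110734bc018083981c80ce5bc80139a8fc011cb57014008e5179ca392203fc5b0fa394725e8020013905e7f4009c78f0020240788e3de7a82d05e3d6050081d1494509318f538f1c7f07a9c683,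
  nat_lit 0x48a01562922b244c892592a6a7cd22ae524454011ec001407acf60083d87ac30058013d42c1d4039ea9f0027a8f4831ea3d00e0003f1ed980e600cf39c9e60027980cf39e63cb3c000388123de0580a9f00ee1903186849640c8224600279674370003c8ca3d8001e433188798f2079e521028d060650cc8bc131f445a9a89517e2667bc0b9e49c3c6058f18080101c028041e49b004798f18a1e63c408000029e501678a68031e1043c28e93b13e2ca4d473915306a81338a714a29855a293c332780609e0020040ccefcc00344c7796c001f00052e0b8009dd39004774ee01a224669c8c427728490c36a053e00dc2005b0b4800001dc960c6778ee3180100676c18001da07,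
  nat_lit 0x804749fb0d3fe2a8fd869fa1567e804fd00300a00cfd378003f220004018020087e6ac021f8040007e028009fb4d64813712a1ce9ccb919d1feabcbe2ae5328e8fc551f71427dc04fca583ee027e12b8dd53ab394b1580720dc0a2003f8028060100067dea4fb0003ec5c0040801102e7dea0012023ec6a7ecfa8f000402024fc1f55e3f07d0100100c0247e0fa539f50107ccb4018083e41c020f8bc8000067ecf9801a60027ed0314a5686a4bea8f2084d95c19d536478058073e14a00c029efa402a050fc1f03df4602c0680e3de7b870010013db1e00401006232a58cc2b32f64cc872592223488b1080207b688f69f33d9067b4011ee00c7b284f69ec0a,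
  nat_lit 0x41a830284fa591e05551904c462190328d51ce0350a21d044005065980141882ec8040024167283c53a4711492d621b75b46ccb48a50068310580100c006c40200341882d0551a0e000824bd092134289f1601ad3566bcb1935306b5cd816614400104d824c416824b50524d152a30a214550e109130400822c82985545812504d7a08090820b904a0d01c83504d701701e82049062071040e0700e81c40ef43710a2060f0060190287018408208100600f018811bc6ca084065a005010827d53a5616d1824f80dd0e02403a0700ea1342006801a02ad40880d010034024604c01a001f4007fc2800a09028660000880020014000fe8f8080007f449010023fb06000fe0f1fd15ea80b12cb2fa9f90a02605009c5208f470948669fcac,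
  nat_lit 0x446221110122110c884b910a5d4c4264519184bc22845a5e23028c4ca624ba22110dda2010e880b801a2102630cd31d762a7b56e0f51eca2084830066089105d0014580791521f5e0040550f1aa2943a0800111a25020876e510a1c0400406512a26438ae2fc0e21b2f0140350d07224432208640b01b02c865bc0e8164305e00d0f2171243c8584000a1b00c8610b5c03100e854bd0ba141042885c03a174295c96c0521311002848405625813e2851181d43e0841022d0860d81a22a05a009095ba1300601909211b642c005080a02800e840bd09a1241e1c00029000b50a6178608c31602bc4688f50eb30ca9bc3182a45280241d680240120d16,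
  nat_lit 0x2234be6616eb1941885099a124288318cadd33097c44223bc]
theorem S0_c : blocks (facts 10 4 14 24 1023 16383 16777215 11 2047 8 255 A R 32) 32 JS0 528 = true := by decide +kernel
theorem S0 : On (Step.{u} rels LW par A) 528 1104 :=
  steps_of_blocks hpar hR S0_c (by decide +kernel)
theorem D0_c : allB (defOK 10 14 24 1023 16777215 526 A K) 3 2 = true := by decide +kernel
theorem D0 : On (fun r => defOK par.W par.WL par.E par.mW par.mE 526 A K r = true) 256 640 :=
  On.of_allB D0_c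
noncomputable def JW0 : List ℕ := [nat_lit 0x5ee43743a66260443e44042561267867440261d3ae2b43ad39f3c73db3de61a3e43e263662b3c12ae3b93bb42065741e3b742f40d41c6106794443eb60643f4423dd5ec43643863c5fa67066c65262868144c65e61e44744a62c45245466e68768d45f67a45761c44644863862a68067c66645c45e67668b4584556726892a646669346468f46267e46145347569947668c46d47047269146368245b45d46c46b46e45947446969468e69d47a69669069c47869a6a147c69e47f6a0480482484,
  nat_lit 0x37b3cc3c362f60242365b3cf61339d2933953973e93f73f83934046476424ee2b02b219739e3a02886152d53d13d63d861b3ab3213a34f82aa2ac2033ba3bc5bc6253b63b35b86232d140940e64d61139c51c39b38d40541265160e3e83e663b60738b21f38338542241b6593813cd3d56355ed36656c3653574316654325ea3ec3e13ee5fb37927b37137341865541636f3ff64e4146293c05c43bf3b142e66142c62642142942a61f3af5a03a73a93e53f56413a53c63c43c85f867143c65c,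
  nat_lit 0x1193063081f531f5b65a25704b82955892961b01b21b41ab38c38e24d60960f3991d339122122654b2244ba21954921c38438623160138037d3235ff1a81ad51f1b82665661bb56a3563585285e55eb3635aa35b15a15e16015d27717b50216f3723742e65f536e36b4fe5f32d74074106323b03b25a46212d040840a6306273bd5c03b53a83aa31b6193a43a157a6172d63d03cb3d25f93785043773693fe6453fc5f64194273fb5ef3671af35f3613ed63f3f235d43064a3f160538a23d389,
  nat_lit 0x3123185af28d29b28b58d29c27d18528057417817a17650b16215f16616536836a50c5f15f73752e436d54456725e1e31a91ac51b1a33603625a65e935c3592f85e74c221854721655522721b23b37a37c3255fd60338714b37f19e1b35211bc4c42941bf2573963982fa60d39238f58460b4ef12c12b12e13919228457f13519318f51517d18418618058328a50e2872d44064016495ac3195b151631e5b331d2754f91441434f44f653c20653f13b53d53a2012655bf3301fd4e832b32e20b,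
  nat_lit 0x10f1f72085411184e34ca4e01171f61f81f226a26c21126e4b90c04b60ad0a756255a25b0ab30c30e25d19f1a41a61a029a29129858b55224a55d2450911cf1d452b22023e1c155754d22a2292234bb0c20bf0c54e61494fd14c22e54f14f22d1b11a55231b726721326856f1ee1e11c31f02645685605360711ce1d01cb4c830d3105863133145a828f27618b18d27816a16c16850727c17f5795764861521541513275b73282a011b30730a2a410732a32c2a22635be5ba2153265b25b529f,
  nat_lit 0x48704003f04311a4e24d44e51061080ff10a17216d17050948815315815754521220e20d2625695642611de1e01dc5314c30c30cf0d355423f52c55955322b23323923654e2345511011484fb1464c50c10d10a309f56325425854c24b55f2411384f04ea13116b51228227f1344f113613317c17e50017517918a5111831735131901895822902511ed1eb19b57c5815ad3153161e719819a19519c26b2722705734f713d4ec1401df1ff20554313a13c4f213e1ef1fe5381fa4e910911d10c,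
  nat_lit 0x6c05906a4954c70b70d60d90770b90cc0c90b20dd0e20e10f80fa4cc0f14d00f74d90eb4890410450471001044db1020670bb4c10cb09e0a009c4ad4a612312812707d1221241210e70f60f44d310e4df1101120f90fb4d70fc4c60dc0de0db1164de1144dc0a60a10a44af0aa0ae4b10a91991e452e5332372462482430900754a24a50571cd5181d74a81c71da1d905f0ba0bc09b4e71050f311f22f24725224f07007448c06f0831c61c41c806d1cc5275244c90af4be0d51ea1e51e8535,
  nat_lit 0x8c49e0884a108649f0810690660610644930870990c64bd4a707f08b09507c07e49b07a4d10e90ed0ee0e60e80e44cf0b30b64b30b404804c04e04b08e07948a06305605805448f4a908509305b05e06005c49108f0b80b14b508d0980964ab07607849649904904d05205108208449d073]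
theorem W0_c : blocks (rows 10 4 14 24 1023 16383 16777215 12 4095 48 A 1104 243 cols 32) 32 JW0 0 = true := by decide +kernel
theorem W0 : On (Row.{u} rels LW par A 1104 243 cols) 0 256 :=
  rows_of_blocks hpar (by decide) hcols W0_c (by decide +kernel)
theorem idx : Idx.{u} rels [[0], [2], [4], [6]] [[0], [2], [4]] 243 :=
  idx_of_cert hpar hR (K := K) (by decide +kernel) (T := 526) (T' := 640) (by decide) D0
    (subs := [1,3,5]) (by decide +kernel) (T1 := 528) (by decide) (N := 1104) S0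
    (by decide) (n' := 256) (by decide) W0 (by decide +kernel) (by decide +kernel)
end T1
theorem b1 : Bound.{u} rels [[0], [2], [4], [6]] 11664 := .of_idx T1.idx b2 (by decide)
namespace T0
noncomputable def A_0 : List (ℕ) := [nat_lit 0x459d1753c54952554e4645374dd0dc53913a4518b04e98e539952749d0f52e44b82e045a311c692ed478169c262f08b027c9072bd4862c1d0b14d8691a51826088661989816050d23498ab2acccd334d0b190c6318cc2c19446f3ad0ec3250ca3f1d3c30185c3d987b4b48ca4804b33718ca4b90e52cd9214f10e83950c2309c5d21903e41cd2542c5254944c330cc5e179c2931486f1bcc334bd10546d0c72a1c9d1fdcf8339d03415c92471ce03b1cdf1d9c363a1c74485cb6329cdd1884c731dc5f384c7532ccef22d88128990a2d9856159c252c886c1b1c3037509338d0e43e089d1f04f53d44a739107129dc4d274c49124c9e279d11441d0643dd4724c89741891151cd244450df37c4711c44e0380cba25cd0a4909082e9c59421c954288a328dd0912d021455cc62850fe20c4813f849821444a261c4a3a5c77128c211dcc373bc48c1e1c88231c4122103f10583e0f88811d44730ddc161cd081205045130499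600845115c1e250899264ca9171c272f9c5b2a5c4f19dc2e0cc46e1b5c311b9c320fdc1b101c1c1edc380e9c18139c2229904d3ccc7a47cd04368c6b4d08db3058db36c90441189224890340d50945c4a5424c9a2590462944f43d107a318c5f2708e7268861121020184c2b244c4439ccb71d18352dc8951658262554721c84360d8c202c486b1e88390e484d1558251ad83013582211dc1f5fc97b5f897d5f497a5f18235ed8145e980f085c0e0b1c1211882017485f17c82b11181e08180e0ad8120bdc13075c0d144c5814102309102506500c0f10310ecc1e05900b0d501b0d1458160c2a15d02809902709d01107840e0a8429050c290a44120c082509485415102d0b505b16c84f13cc2308c8280a102e0b881306c81c05c81a069c0c0c4832054c0b0c8c3807080d0e0422060c0c08900f07c80e03dc07038c0d048c0a5e517504d40d034c075e1d6e5dc9765d89755d580304480a02c80c03080704197402997301d8025d05735cc5705c89715c516f5c14055bd4045b940102040302500501180101480601880200cc02008c015b456c5b0401005c00,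
  nat_lit 0x15d43505d035078c3409845815c8580988570b9057045026041c2313c8270c984f16d83105582716c4270554270a941e07c41e04842a050823029c140a081403d4140c0c140c102907d429089430150830040c250614250e145416d0540b582d0b44130b842d07142d0c945b0c544f069423045c2805d4280b982e06d42e02dc1705cc1b06d81b03481b03c81706880f0c501a0548310c8815070c320e0c1c07181c06043808841807d02203d01f04940e01cc0e04cc1203580d04d81302581102181000d80a04c17904417601540904017701940801140402817500940302417002017401016f00540100c17300416e0001785e5979028c130219770259765c181102d41104081101580b01c80b01980c04140c02881001d40a0195745b8d730095735c8d6e00d5720255715c11715bd1705b996f5bc56f5b856e011c04015c09009c08020c0802440800440100416d00416c01040401900602480301100901500400880500dc06004c0300456d001800001400000c000004005a99654894fb3ed87e38952c4b18bf4e113950c90152d55b56c93255192a5605324c9133409d012351014049394e594255d93b4cd91a3558685ad1675a456859d1685a1d64569931528d405009455795645985645158f755592b5919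50589151595161564951571d4c54514c58454d53190653591158dd4f57dd4e581d49511952558546519cf7505cf1549d1f4390c84348c826d8483218613f4c82474cac4c4cd1364cd823cc43400cf02244432104f03c0c8a22884310cc902414d84784ae34446a3518671a982f3608ae2b98c41484ac2b0caa2a94820f488020983c20183b4ad0bd3dd07c3c4c793c89364ecce6508cf54a8cbd4d8cdc4690a71f903a3790c521cc3f1c0c6f2fcc5c34ccd2430c992d0c56238c4e10901d1a106935906c3e59181e48e62f585a449cd735c4d22b485318082c33192e48c8b533d93054d9243a98754998b84f994f4f58e85745504fccee540d354a5cee4d4530461ca53b88a0281d143fd1485211494c11164a14ed2d591344cced3b493a3410fa3e9cf41f44a429104e,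
  nat_lit 0x1d8cec3a0876484ce8328921188cca189c2b32d8623858c732c4e13a4ce1288ccb3bdc8b22d08b22048b10488b3bcca212c4a22848a243ccb628d0b638c4b63748b615846c2c84562c90b22c9c5438d8b237586c38c8dd4190dd1c50e31f1c3951d0f8490cf81f18f83908f829c47c3d5c7a3918f52748e42758a7278c9d124893081c4925c84927890f44089e440ce043c9102e8d1028cd0f111c93418c9351c90644494745511137d1151b58df3804df0cd8711b98e0491cb7119c97420c972e89244208ba259d0a428d0845490a28c91512d8a328444b12904b28591520d0a120d8880f1c833f90830f8483215cfe3a44fe0f90851dc485261047260c8c3a48981d4ce91dc84a1e0c771e04ef0dcc7823047811d08c1044880750411d5c35065c3e0dc4751cc4370d1c731150730edc8113182111c82111442108418013104c60184c25044c11c980114847251845170c9411d8991704a92a44be2f845c2f90be055c331b44331b846d1b906e0fc41d07444010043f1010400e884e1ec83a13887b1ed07b3cd8a62984a63694a62950a63cc8f347d4f33d0cf336991f47c91f2c4d1f3688da36ccda4d0d3440d93445d5344109343045031c8cc11750c12594c12484c11accdb2954db2c51043d1504245092110c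9231949240cd09268d0345d1174259173d0517269ce73185092589092958963188962550961350a53198f4270cc6271c4817cc9c27189c24549c24489c26949a12089a1848481854480d9048245c61164c6124589139c89139d8e739d4e71d0ce72dcc742dd4740d84741c887415d8b71648b716502b0d9459254859161895119095174c720d18720598361518b11e94b11548b10e187a13487a0e4c390618391554390a181708d80f05181a05c17f03c17c06817b0a017e08c17a1550551ac85513546b0a197f5f957f5e897e06997d5e957b07d8461754461108460a585d0ac85d0a985f11145f0808440ad4200904511408510ed4510a8c510908500f145013d0500654240410240f08190ec4190610190ec83c06903c0d0c3b0d48160d04160994160550160d0835,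
  nat_lit 0x4f953e4dc53e46493e574d3d3b453d4e893d57555d4fc55d4ddd3f54053f54153f460d3f465d504a4d504a54ee4a49142f19293409294d4d2936dd3546153544c5353e89183b8d184585181dd8ee3fc8ee2808ff2814d0280d133b4ca01298a02158ff341cff4514ff5250ff521d274219484a05484e95484c151644c9304d1d3053d1304a10d02e99283e91283e95132d5ccd2d547d158cb5411d131d98ed1918d04508d03e85161f58fa285c7d0e907d4598a412dca453cd1653d54f53854f52454e46594946553729d11953993745114e4e9114399d3a1cd8e64810e62e59272e5c581cd4b91684b915dcb841d0b8494cb81d54b831148c30d0c4178cc42ec4c42edcd21690bb2f0cbb1694372f105a495cbc1dd4bc1908bc131c9f12589f32d49f2bc89f2bdc9925d8af14d0af2c0caf41c8af2c08642c14850fd467348c671988670bc46719c1812adc5007542f1a502f60482f19842f0bc1820b5c6614dc2414ccb00f94532ac453348469105469075582604982198c661014660fd5812214d220d4ab42ccab4158cd18c4cd2854cd191cc31294640b0c6433986312d46308542c17842c0b186532dc6519506513146531446543d8eb46dceb3248eb3f04eb4414eb1d90eb2798c94bdcc93f08c92794c91890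c93f19103f150f1fccfc3390fc4814f53714a71f14b32754ca39152d4854f84f15472e94764914e839550842952e3394a31ed4b20e94561b144e2d947f38d4f62a14dd46d50618944930949724d4c73855074954e942d4fe2614c31794471bd4942654c51714332f946e1b54a945550544552f3814ec1c54c04714df301c71369ca61f10b34b4cc03d90c03b04c04708c03d9ce42c5d2038dd2d4b50f61fc4f62a08f648192d48492d3705201adcdc2cc4dc33892e305d2e41452e30912e155cb346c93c4bc53c48513c0e987f1d88e52a184e1c9ce53a04e53088c73084622198c2315c8632c88638448621508641dc9424d90726190b30c50b3a59253f98c331585e1b4cc5385c6f2f98ec4718a946c52f47112f2a111b1fc8a831d0a8338c7f4148ce470d053b091c,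
  nat_lit 0x515545554545590d55589962595d62588562589562531162594565595565571165535d59564d594bd9595355595709595715614f195c58515c54495c54554c46d951585d5151d96153056153454c53514d58096357c56358d163504d5f58055f54915f505941519946559956510d60559160511cf3558d445109444add56504556504946519146548552548d4143990e439d0e43850e43950e26d10e321cc8435d0d434d0d26990d43550d26c90d26dc9b32109b32149b32089b3f58fd3f5cfd3f48fd4754fd200cfd47591d475d1d47491d2a8d1d365d314c4931401531478d3123d8d93648d923d4d91a8cd9401c8f23c88f240c8f400900228d00225c892250890fd8893514892284890f5c842110842318842b9484240484229c8a3c1c821e18f02408f04794f010188a34548a10dc430758431a9443241c803bd8902a9d1e345cd1344d1e2ed91e36051e1998d13504d1351cd4350cd41a84d41a9c6a360c6a361cac4498d82b90ae149cae1490520918520f54522a84522a88ac1458ac2014ac1418aa0f4c3d06583d20883d2010822008823dc92b3c452b3c552b4a912b3c48f73dd4f72cd0f73c8cf14edcf21e4cf24a94f25088f24a893b46853b50953b480d3b4a9d424d894249cd4246892a469d364695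364dcd3646511a379c7e1f847e2d147e1f507e21d8de3784de4314de1b50de1c1c8721c88734d487220c871c08702fd4700ccc7034dcbf2fc8bf250cbf4318d334c8d319ccd32d1d0c43090c2a4d0c2d08b42d4cb423988e109c8e23888e35948e290c8e1084421a1442105042359c681a04680bd0683598d63584d633d0d6289cf93e50f948d4f92904f91f48f93b5c790dd8792f54793a88794a1cbd4984bd49c8bd4494ef27d112330d122ec91231051235d0d72b58d722d4d71a44d7145cad1810ad2e4cad2054ad2ac8ad0a9c602e50601bd86011546017886048dccc27cccc2894cc3344cc18c8cc48cd234d592333c92318dccf1b10cf2914cf2d48cf499d534f4d535751534f55535205534a09533a9d3d498cea4f90ea4994ea3988ea4f8d2649c526575d3e,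
  nat_lit 0x5a9d6a5a916a5a956a5a896a489d2c2d1922488d224885223ed0fb389cfb3ec8fb1c18e24e50e24e0ce23884e255cd2c56112c4b092c4e195b50dd3852c93840853856153850cd433c99435515434e494352dd3956194b52cd4b40894b55dd5b56cd5b56095b551d5855115455c5544cc95455d158235c8d4cdd32409932409532355132405102234d0223488d10988d35548d4d99014cd50155d5394cc557355cd5354d333548d55ad96b5add6b5ac56b5ad56b5a116b599d695a516958d9695a556959c56951954659d56854954458d56358155f55954157d9675a0567579d67581968569d4a554d5a59115a52955a56895a40194a52894a578d4a501d405791403c59405555405549405789644fd95e59895e599566555d55599166575966515d45515145]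
noncomputable def A : List (List (ℕ)) := [A_0]
noncomputable def K_0 : List (ℕ) := [nat_lit 0x82999939df9fe02885b48d5dd6c96a5de338d24664e0c811c578616659c358df7759b16d67e6f9a469a2c6d9da5c97592e3e876229be408a1e790603861c87961a6f5c17824f6fd69739f3741d55cdde8a58387df07c9a17d5f4585ba81a26761b8571ed7ba3d8723b79a3a609ca6c1785ae00679bb66e0b7bdad6bd68941676159768d6c57d866a9705924392a259d1916f245921908add46624766a3862a377262d805b35ed5b88192651c46356262d5e6962a7357e5fdb75623f7ae23605e9789e478dc05961b52dcf531844c1f15813c4edb9565327b23c515444bd7955d89675956b9665594d61d4a9122463d7c5f58e8e5415017a569246315d4f93d601264a13451d2c4c54e521374d52d4e53a4cd434b92253d4948538519254ad29509234a93f49d364711e459134811f46d14455124210944505419074110340000,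
  nat_lit 0x1ea7a1885555454d52545504751a4651845d1043d0e4350c42d0a409019ba819b66b9b2669866396a62976589666784a5f9e66a982779c6569927885e5397a107f9fa96e5c9ea697f6096a255996579ee31952688461484dd78c9f89ca7c7ee2f839749c27693208731d97727d8da3083e077da15745a286680709db5da42935c672e2e7f20d5b9ff671f98161e69dac6ae52946277499f5b5a074da971d715be759ce49]
noncomputable def K : List (List (ℕ)) := [K_0]
noncomputable def R_0 : List (Rule) := [Rule.mk (nat_lit 1) (nat_lit 31) (Steps.bwd (nat_lit 1) (Steps.bwd (nat_lit 1) Steps.nil)) (nat_lit 0) (nat_lit 0),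
  Rule.mk (nat_lit 3) (nat_lit 31) (Steps.bwd (nat_lit 3) (Steps.bwd (nat_lit 3) Steps.nil)) (nat_lit 2) (nat_lit 0),
  Rule.mk (nat_lit 7) (nat_lit 97) (Steps.bwd (nat_lit 2) (Steps.bwd (nat_lit 3) (Steps.bwd (nat_lit 7) (Steps.fwd (nat_lit 1024) (Steps.bwd (nat_lit 3) (Steps.fwd (nat_lit 1024) (Steps.fwd (nat_lit 7168) (Steps.bwd (nat_lit 3) Steps.nil)))))))) (nat_lit 23) (nat_lit 3),
  Rule.mk (nat_lit 2) (nat_lit 31) (Steps.bwd (nat_lit 2) (Steps.bwd (nat_lit 2) Steps.nil)) (nat_lit 1) (nat_lit 0),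
  Rule.mk (nat_lit 4) (nat_lit 108) (Steps.bwd (nat_lit 6) (Steps.bwd (nat_lit 7) (Steps.bwd (nat_lit 3) (Steps.bwd (nat_lit 1) (Steps.bwd (nat_lit 3) (Steps.fwd (nat_lit 6144) (Steps.fwd (nat_lit 7168) (Steps.fwd (nat_lit 3072) (Steps.bwd (nat_lit 2) Steps.nil))))))))) (nat_lit 24) (nat_lit 7),
  Rule.mk (nat_lit 4) (nat_lit 31) (Steps.bwd (nat_lit 4) (Steps.bwd (nat_lit 4) Steps.nil)) (nat_lit 3) (nat_lit 0),
  Rule.mk (nat_lit 2) (nat_lit 108) (Steps.fwd (nat_lit 3072) (Steps.bwd (nat_lit 7) (Steps.fwd (nat_lit 6144) (Steps.bwd (nat_lit 3) (Steps.bwd (nat_lit 1) (Steps.bwd (nat_lit 3) (Steps.fwd (nat_lit 7168) (Steps.fwd (nat_lit 6144) (Steps.bwd (nat_lit 4) Steps.nil))))))))) (nat_lit 25) (nat_lit 0),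
  Rule.mk (nat_lit 4) (nat_lit 64) (Steps.fwd (nat_lit 2048) (Steps.fwd (nat_lit 4096) (Steps.bwd (nat_lit 2) (Steps.bwd (nat_lit 3) (Steps.fwd (nat_lit 2048) Steps.nil))))) (nat_lit 4) (nat_lit 0),
  Rule.mk (nat_lit 1) (nat_lit 64) (Steps.bwd (nat_lit 4) (Steps.bwd (nat_lit 2) (Steps.bwd (nat_lit 3) (Steps.bwd (nat_lit 2) (Steps.bwd (nat_lit 4) Steps.nil))))) (nat_lit 5) (nat_lit 4),
  Rule.mk (nat_lit 0) (nat_lit 75) (Steps.bwd (nat_lit 1) (Steps.fwd (nat_lit 3072) (Steps.bwd (nat_lit 2) (Steps.fwd (nat_lit 4096) (Steps.bwd (nat_lit 2) (Steps.fwd (nat_lit 3072) Steps.nil)))))) (nat_lit 5) (nat_lit 3),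
  Rule.mk (nat_lit 0) (nat_lit 53) (Steps.bwd (nat_lit 1) (Steps.fwd (nat_lit 0) (Steps.fwd (nat_lit 1024) (Steps.fwd (nat_lit 0) Steps.nil)))) (nat_lit 28) (nat_lit 0),
  Rule.mk (nat_lit 1) (nat_lit 31) (Steps.bwd (nat_lit 0) (Steps.fwd (nat_lit 1024) Steps.nil)) (nat_lit 28) (nat_lit 0),
  Rule.mk (nat_lit 1) (nat_lit 31) (Steps.bwd (nat_lit 1) (Steps.fwd (nat_lit 2048) Steps.nil)) (nat_lit 0) (nat_lit 0),
  Rule.mk (nat_lit 3) (nat_lit 64) (Steps.bwd (nat_lit 1) (Steps.fwd (nat_lit 3072) (Steps.bwd (nat_lit 1) (Steps.bwd (nat_lit 3) (Steps.fwd (nat_lit 1024) Steps.nil))))) (nat_lit 4) (nat_lit 4),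
  Rule.mk (nat_lit 7) (nat_lit 97) (Steps.fwd (nat_lit 3072) (Steps.bwd (nat_lit 1) (Steps.bwd (nat_lit 7) (Steps.bwd (nat_lit 4) (Steps.fwd (nat_lit 7168) (Steps.fwd (nat_lit 2048) (Steps.bwd (nat_lit 4) (Steps.fwd (nat_lit 2048) Steps.nil)))))))) (nat_lit 22) (nat_lit 4),
  Rule.mk (nat_lit 7) (nat_lit 97) (Steps.bwd (nat_lit 4) (Steps.fwd (nat_lit 2048) (Steps.bwd (nat_lit 7) (Steps.fwd (nat_lit 3072) (Steps.fwd (nat_lit 7168) (Steps.fwd (nat_lit 2048) (Steps.bwd (nat_lit 4) (Steps.fwd (nat_lit 2048) Steps.nil)))))))) (nat_lit 22) (nat_lit 4),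
  Rule.mk (nat_lit 7) (nat_lit 97) (Steps.fwd (nat_lit 4096) (Steps.bwd (nat_lit 7) (Steps.bwd (nat_lit 2) (Steps.bwd (nat_lit 3) (Steps.bwd (nat_lit 7) (Steps.fwd (nat_lit 1024) (Steps.fwd (nat_lit 4096) (Steps.fwd (nat_lit 1024) Steps.nil)))))))) (nat_lit 23) (nat_lit 1),
  Rule.mk (nat_lit 1) (nat_lit 42) (Steps.bwd (nat_lit 5) (Steps.bwd (nat_lit 1) (Steps.fwd (nat_lit 5120) Steps.nil))) (nat_lit 8) (nat_lit 1),
  Rule.mk (nat_lit 6) (nat_lit 42) (Steps.bwd (nat_lit 5) (Steps.bwd (nat_lit 6) (Steps.fwd (nat_lit 5120) Steps.nil))) (nat_lit 16) (nat_lit 0),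
  Rule.mk (nat_lit 4) (nat_lit 42) (Steps.bwd (nat_lit 5) (Steps.bwd (nat_lit 4) (Steps.fwd (nat_lit 5120) Steps.nil))) (nat_lit 11) (nat_lit 0),
  Rule.mk (nat_lit 5) (nat_lit 42) (Steps.bwd (nat_lit 4) (Steps.bwd (nat_lit 5) (Steps.bwd (nat_lit 4) Steps.nil))) (nat_lit 11) (nat_lit 1),
  Rule.mk (nat_lit 5) (nat_lit 42) (Steps.bwd (nat_lit 2) (Steps.fwd (nat_lit 5120) (Steps.bwd (nat_lit 2) Steps.nil))) (nat_lit 9) (nat_lit 1),
  Rule.mk (nat_lit 3) (nat_lit 42) (Steps.bwd (nat_lit 5) (Steps.bwd (nat_lit 3) (Steps.bwd (nat_lit 5) Steps.nil))) (nat_lit 10) (nat_lit 1),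
  Rule.mk (nat_lit 5) (nat_lit 42) (Steps.bwd (nat_lit 1) (Steps.bwd (nat_lit 5) (Steps.fwd (nat_lit 2048) Steps.nil))) (nat_lit 8) (nat_lit 0),
  Rule.mk (nat_lit 3) (nat_lit 64) (Steps.bwd (nat_lit 1) (Steps.bwd (nat_lit 4) (Steps.fwd (nat_lit 2048) (Steps.bwd (nat_lit 3) (Steps.fwd (nat_lit 1024) Steps.nil))))) (nat_lit 4) (nat_lit 4),
  Rule.mk (nat_lit 5) (nat_lit 42) (Steps.bwd (nat_lit 1) (Steps.fwd (nat_lit 5120) (Steps.fwd (nat_lit 2048) Steps.nil))) (nat_lit 8) (nat_lit 0),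
  Rule.mk (nat_lit 5) (nat_lit 42) (Steps.bwd (nat_lit 6) (Steps.fwd (nat_lit 5120) (Steps.fwd (nat_lit 6144) Steps.nil))) (nat_lit 16) (nat_lit 1),
  Rule.mk (nat_lit 2) (nat_lit 42) (Steps.bwd (nat_lit 6) (Steps.bwd (nat_lit 1) (Steps.fwd (nat_lit 6144) Steps.nil))) (nat_lit 14) (nat_lit 3),
  Rule.mk (nat_lit 5) (nat_lit 42) (Steps.bwd (nat_lit 2) (Steps.bwd (nat_lit 5) (Steps.bwd (nat_lit 2) Steps.nil))) (nat_lit 9) (nat_lit 1),
  Rule.mk (nat_lit 6) (nat_lit 42) (Steps.bwd (nat_lit 2) (Steps.bwd (nat_lit 6) (Steps.fwd (nat_lit 2048) Steps.nil))) (nat_lit 14) (nat_lit 2),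
  Rule.mk (nat_lit 6) (nat_lit 42) (Steps.bwd (nat_lit 2) (Steps.fwd (nat_lit 6144) (Steps.fwd (nat_lit 2048) Steps.nil))) (nat_lit 14) (nat_lit 2),
  Rule.mk (nat_lit 6) (nat_lit 42) (Steps.bwd (nat_lit 2) (Steps.bwd (nat_lit 6) (Steps.bwd (nat_lit 1) Steps.nil))) (nat_lit 14) (nat_lit 2),
  Rule.mk (nat_lit 6) (nat_lit 42) (Steps.bwd (nat_lit 2) (Steps.fwd (nat_lit 6144) (Steps.bwd (nat_lit 1) Steps.nil))) (nat_lit 14) (nat_lit 2),
  Rule.mk (nat_lit 6) (nat_lit 218) (Steps.bwd (nat_lit 4) (Steps.bwd (nat_lit 6) (Steps.fwd (nat_lit 3072) (Steps.bwd (nat_lit 7) (Steps.fwd (nat_lit 6144) (Steps.bwd (nat_lit 1) (Steps.bwd (nat_lit 3) (Steps.bwd (nat_lit 1) (Steps.fwd (nat_lit 5120) (Steps.fwd (nat_lit 6144) (Steps.bwd (nat_lit 3) (Steps.fwd (nat_lit 6144) (Steps.fwd (nat_lit 3072) (Steps.fwd (nat_lit 6144) (Steps.fwd (nat_lit 3072) (Steps.fwd (nat_lit 7168) (Steps.bwd (nat_lit 3) (Steps.fwd (nat_lit 6144) (Steps.fwd (nat_lit 4096) Steps.nil)))))))))))))))))))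 (nat_lit 26) (nat_lit 15),
  Rule.mk (nat_lit 0) (nat_lit 229) (Steps.bwd (nat_lit 7) (Steps.bwd (nat_lit 6) (Steps.bwd (nat_lit 1) (Steps.fwd (nat_lit 4096) (Steps.fwd (nat_lit 2048) (Steps.fwd (nat_lit 5120) (Steps.fwd (nat_lit 6144) (Steps.fwd (nat_lit 4096) (Steps.fwd (nat_lit 6144) (Steps.bwd (nat_lit 4) (Steps.bwd (nat_lit 6) (Steps.fwd (nat_lit 3072) (Steps.bwd (nat_lit 7) (Steps.bwd (nat_lit 3) (Steps.fwd (nat_lit 6144) (Steps.bwd (nat_lit 3) (Steps.fwd (nat_lit 6144) (Steps.fwd (nat_lit 3072) (Steps.fwd (nat_lit 6144) (Steps.fwd (nat_lit 3072) Steps.nil)))))))))))))))))))) (nat_lit 26) (nat_lit 18),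
  Rule.mk (nat_lit 0) (nat_lit 42) (Steps.fwd (nat_lit 7168) (Steps.fwd (nat_lit 0) (Steps.fwd (nat_lit 7168) Steps.nil))) (nat_lit 28) (nat_lit 0),
  Rule.mk (nat_lit 0) (nat_lit 42) (Steps.fwd (nat_lit 3072) (Steps.fwd (nat_lit 0) (Steps.bwd (nat_lit 3) Steps.nil))) (nat_lit 28) (nat_lit 0),
  Rule.mk (nat_lit 5) (nat_lit 31) (Steps.bwd (nat_lit 0) (Steps.bwd (nat_lit 5) Steps.nil)) (nat_lit 28) (nat_lit 0),
  Rule.mk (nat_lit 0) (nat_lit 42) (Steps.fwd (nat_lit 6144) (Steps.fwd (nat_lit 0) (Steps.fwd (nat_lit 6144) Steps.nil))) (nat_lit 28) (nat_lit 0),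
  Rule.mk (nat_lit 0) (nat_lit 42) (Steps.bwd (nat_lit 1) (Steps.fwd (nat_lit 0) (Steps.fwd (nat_lit 1024) Steps.nil))) (nat_lit 28) (nat_lit 0),
  Rule.mk (nat_lit 0) (nat_lit 42) (Steps.fwd (nat_lit 1024) (Steps.fwd (nat_lit 0) (Steps.fwd (nat_lit 2048) Steps.nil))) (nat_lit 28) (nat_lit 0),
  Rule.mk (nat_lit 5) (nat_lit 31) (Steps.bwd (nat_lit 0) (Steps.fwd (nat_lit 5120) Steps.nil)) (nat_lit 28) (nat_lit 0),
  Rule.mk (nat_lit 0) (nat_lit 42) (Steps.bwd (nat_lit 6) (Steps.bwd (nat_lit 0) (Steps.fwd (nat_lit 6144) Steps.nil))) (nat_lit 28) (nat_lit 0),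
  Rule.mk (nat_lit 0) (nat_lit 42) (Steps.fwd (nat_lit 6144) (Steps.bwd (nat_lit 0) (Steps.fwd (nat_lit 6144) Steps.nil))) (nat_lit 28) (nat_lit 0),
  Rule.mk (nat_lit 0) (nat_lit 42) (Steps.fwd (nat_lit 6144) (Steps.bwd (nat_lit 0) (Steps.bwd (nat_lit 6) Steps.nil))) (nat_lit 28) (nat_lit 0),
  Rule.mk (nat_lit 0) (nat_lit 42) (Steps.bwd (nat_lit 4) (Steps.fwd (nat_lit 0) (Steps.bwd (nat_lit 3) Steps.nil))) (nat_lit 28) (nat_lit 0),
  Rule.mk (nat_lit 6) (nat_lit 31) (Steps.bwd (nat_lit 0) (Steps.bwd (nat_lit 6) Steps.nil)) (nat_lit 28) (nat_lit 0),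
  Rule.mk (nat_lit 6) (nat_lit 31) (Steps.bwd (nat_lit 0) (Steps.fwd (nat_lit 6144) Steps.nil)) (nat_lit 28) (nat_lit 0),
  Rule.mk (nat_lit 6) (nat_lit 42) (Steps.bwd (nat_lit 0) (Steps.fwd (nat_lit 6144) (Steps.fwd (nat_lit 0) Steps.nil))) (nat_lit 28) (nat_lit 0),
  Rule.mk (nat_lit 6) (nat_lit 42) (Steps.fwd (nat_lit 5120) (Steps.fwd (nat_lit 6144) (Steps.bwd (nat_lit 5) Steps.nil))) (nat_lit 16) (nat_lit 0),
  Rule.mk (nat_lit 5) (nat_lit 42) (Steps.bwd (nat_lit 3) (Steps.fwd (nat_lit 5120) (Steps.bwd (nat_lit 3) Steps.nil))) (nat_lit 10) (nat_lit 0),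
  Rule.mk (nat_lit 4) (nat_lit 108) (Steps.bwd (nat_lit 2) (Steps.fwd (nat_lit 3072) (Steps.bwd (nat_lit 6) (Steps.bwd (nat_lit 7) (Steps.bwd (nat_lit 3) (Steps.bwd (nat_lit 1) (Steps.bwd (nat_lit 3) (Steps.fwd (nat_lit 6144) (Steps.fwd (nat_lit 7168) Steps.nil))))))))) (nat_lit 24) (nat_lit 5),
  Rule.mk (nat_lit 1) (nat_lit 64) (Steps.bwd (nat_lit 3) (Steps.bwd (nat_lit 2) (Steps.bwd (nat_lit 3) (Steps.fwd (nat_lit 2048) (Steps.bwd (nat_lit 4) Steps.nil))))) (nat_lit 4) (nat_lit 1),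
  Rule.mk (nat_lit 3) (nat_lit 64) (Steps.bwd (nat_lit 2) (Steps.bwd (nat_lit 3) (Steps.fwd (nat_lit 2048) (Steps.fwd (nat_lit 3072) (Steps.bwd (nat_lit 1) Steps.nil))))) (nat_lit 4) (nat_lit 2),
  Rule.mk (nat_lit 2) (nat_lit 64) (Steps.bwd (nat_lit 3) (Steps.fwd (nat_lit 2048) (Steps.fwd (nat_lit 3072) (Steps.fwd (nat_lit 2048) (Steps.bwd (nat_lit 3) Steps.nil))))) (nat_lit 4) (nat_lit 3),
  Rule.mk (nat_lit 4) (nat_lit 108) (Steps.bwd (nat_lit 7) (Steps.fwd (nat_lit 6144) (Steps.fwd (nat_lit 4096) (Steps.fwd (nat_lit 2048) (Steps.fwd (nat_lit 4096) (Steps.fwd (nat_lit 7168) (Steps.bwd (nat_lit 6) (Steps.fwd (nat_lit 3072) (Steps.bwd (nat_lit 2) Steps.nil))))))))) (nat_lit 25) (nat_lit 1),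
  Rule.mk (nat_lit 2) (nat_lit 64) (Steps.fwd (nat_lit 4096) (Steps.fwd (nat_lit 1024) (Steps.fwd (nat_lit 3072) (Steps.fwd (nat_lit 2048) (Steps.bwd (nat_lit 4) Steps.nil))))) (nat_lit 5) (nat_lit 0),
  Rule.mk (nat_lit 3) (nat_lit 64) (Steps.bwd (nat_lit 2) (Steps.bwd (nat_lit 3) (Steps.fwd (nat_lit 2048) (Steps.bwd (nat_lit 4) (Steps.fwd (nat_lit 2048) Steps.nil))))) (nat_lit 4) (nat_lit 2),
  Rule.mk (nat_lit 7) (nat_lit 108) (Steps.bwd (nat_lit 3) (Steps.fwd (nat_lit 2048) (Steps.bwd (nat_lit 3) (Steps.bwd (nat_lit 6) (Steps.bwd (nat_lit 7) (Steps.fwd (nat_lit 3072) (Steps.fwd (nat_lit 1024) (Steps.bwd (nat_lit 4) (Steps.bwd (nat_lit 6) Steps.nil))))))))) (nat_lit 24) (nat_lit 9),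
  Rule.mk (nat_lit 5) (nat_lit 42) (Steps.bwd (nat_lit 4) (Steps.fwd (nat_lit 5120) (Steps.fwd (nat_lit 3072) Steps.nil))) (nat_lit 11) (nat_lit 1),
  Rule.mk (nat_lit 7) (nat_lit 108) (Steps.bwd (nat_lit 4) (Steps.bwd (nat_lit 2) (Steps.fwd (nat_lit 3072) (Steps.fwd (nat_lit 6144) (Steps.bwd (nat_lit 7) (Steps.fwd (nat_lit 4096) (Steps.fwd (nat_lit 2048) (Steps.fwd (nat_lit 4096) (Steps.bwd (nat_lit 6) Steps.nil))))))))) (nat_lit 24) (nat_lit 4),
  Rule.mk (nat_lit 5) (nat_lit 42) (Steps.bwd (nat_lit 3) (Steps.fwd (nat_lit 5120) (Steps.fwd (nat_lit 4096) Steps.nil))) (nat_lit 10) (nat_lit 0),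
  Rule.mk (nat_lit 1) (nat_lit 31) (Steps.fwd (nat_lit 2048) (Steps.bwd (nat_lit 1) Steps.nil)) (nat_lit 0) (nat_lit 0),
  Rule.mk (nat_lit 6) (nat_lit 42) (Steps.fwd (nat_lit 1024) (Steps.fwd (nat_lit 6144) (Steps.bwd (nat_lit 1) Steps.nil))) (nat_lit 14) (nat_lit 2)]
noncomputable def R_1 : List (Rule) := [Rule.mk (nat_lit 5) (nat_lit 42) (Steps.bwd (nat_lit 2) (Steps.fwd (nat_lit 5120) (Steps.fwd (nat_lit 1024) Steps.nil))) (nat_lit 9) (nat_lit 1),
  Rule.mk (nat_lit 3) (nat_lit 64) (Steps.bwd (nat_lit 2) (Steps.bwd (nat_lit 4) (Steps.bwd (nat_lit 1) (Steps.fwd (nat_lit 3072) (Steps.bwd (nat_lit 2) Steps.nil))))) (nat_lit 5) (nat_lit 1),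
  Rule.mk (nat_lit 4) (nat_lit 64) (Steps.bwd (nat_lit 1) (Steps.bwd (nat_lit 3) (Steps.bwd (nat_lit 2) (Steps.bwd (nat_lit 3) (Steps.fwd (nat_lit 2048) Steps.nil))))) (nat_lit 4) (nat_lit 0),
  Rule.mk (nat_lit 3) (nat_lit 31) (Steps.bwd (nat_lit 3) (Steps.fwd (nat_lit 4096) Steps.nil)) (nat_lit 2) (nat_lit 0),
  Rule.mk (nat_lit 2) (nat_lit 64) (Steps.bwd (nat_lit 3) (Steps.bwd (nat_lit 1) (Steps.fwd (nat_lit 3072) (Steps.fwd (nat_lit 2048) (Steps.fwd (nat_lit 4096) Steps.nil))))) (nat_lit 4) (nat_lit 3),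
  Rule.mk (nat_lit 7) (nat_lit 108) (Steps.bwd (nat_lit 3) (Steps.bwd (nat_lit 1) (Steps.bwd (nat_lit 3) (Steps.fwd (nat_lit 6144) (Steps.bwd (nat_lit 7) (Steps.bwd (nat_lit 4) (Steps.bwd (nat_lit 2) (Steps.fwd (nat_lit 3072) (Steps.bwd (nat_lit 6) Steps.nil))))))))) (nat_lit 24) (nat_lit 9),
  Rule.mk (nat_lit 5) (nat_lit 42) (Steps.bwd (nat_lit 1) (Steps.fwd (nat_lit 5120) (Steps.bwd (nat_lit 1) Steps.nil))) (nat_lit 8) (nat_lit 0),
  Rule.mk (nat_lit 1) (nat_lit 64) (Steps.bwd (nat_lit 4) (Steps.fwd (nat_lit 2048) (Steps.bwd (nat_lit 3) (Steps.bwd (nat_lit 2) (Steps.fwd (nat_lit 4096) Steps.nil))))) (nat_lit 4) (nat_lit 5),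
  Rule.mk (nat_lit 6) (nat_lit 196) (Steps.bwd (nat_lit 4) (Steps.fwd (nat_lit 6144) (Steps.bwd (nat_lit 1) (Steps.bwd (nat_lit 3) (Steps.bwd (nat_lit 1) (Steps.bwd (nat_lit 6) (Steps.bwd (nat_lit 3) (Steps.fwd (nat_lit 6144) (Steps.fwd (nat_lit 3072) (Steps.fwd (nat_lit 2048) (Steps.fwd (nat_lit 6144) (Steps.fwd (nat_lit 4096) (Steps.bwd (nat_lit 6) (Steps.fwd (nat_lit 3072) (Steps.fwd (nat_lit 6144) (Steps.bwd (nat_lit 2) (Steps.fwd (nat_lit 3072) Steps.nil))))))))))))))))) (nat_lit 18) (nat_lit 16),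
  Rule.mk (nat_lit 6) (nat_lit 42) (Steps.fwd (nat_lit 2048) (Steps.bwd (nat_lit 6) (Steps.fwd (nat_lit 1024) Steps.nil))) (nat_lit 14) (nat_lit 0),
  Rule.mk (nat_lit 6) (nat_lit 42) (Steps.fwd (nat_lit 2048) (Steps.bwd (nat_lit 6) (Steps.bwd (nat_lit 2) Steps.nil))) (nat_lit 14) (nat_lit 0),
  Rule.mk (nat_lit 2) (nat_lit 42) (Steps.fwd (nat_lit 6144) (Steps.fwd (nat_lit 2048) (Steps.bwd (nat_lit 6) Steps.nil))) (nat_lit 14) (nat_lit 3),
  Rule.mk (nat_lit 7) (nat_lit 108) (Steps.fwd (nat_lit 3072) (Steps.bwd (nat_lit 2) (Steps.bwd (nat_lit 4) (Steps.fwd (nat_lit 6144) (Steps.fwd (nat_lit 7168) (Steps.fwd (nat_lit 4096) (Steps.bwd (nat_lit 1) (Steps.bwd (nat_lit 3) (Steps.bwd (nat_lit 6) Steps.nil))))))))) (nat_lit 24) (nat_lit 4),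
  Rule.mk (nat_lit 2) (nat_lit 64) (Steps.bwd (nat_lit 4) (Steps.fwd (nat_lit 2048) (Steps.fwd (nat_lit 3072) (Steps.bwd (nat_lit 2) (Steps.fwd (nat_lit 4096) Steps.nil))))) (nat_lit 5) (nat_lit 2),
  Rule.mk (nat_lit 1) (nat_lit 64) (Steps.bwd (nat_lit 3) (Steps.fwd (nat_lit 1024) (Steps.bwd (nat_lit 3) (Steps.fwd (nat_lit 2048) (Steps.bwd (nat_lit 4) Steps.nil))))) (nat_lit 4) (nat_lit 1),
  Rule.mk (nat_lit 4) (nat_lit 31) (Steps.bwd (nat_lit 4) (Steps.fwd (nat_lit 3072) Steps.nil)) (nat_lit 3) (nat_lit 0),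
  Rule.mk (nat_lit 2) (nat_lit 64) (Steps.bwd (nat_lit 4) (Steps.fwd (nat_lit 2048) (Steps.fwd (nat_lit 3072) (Steps.fwd (nat_lit 1024) (Steps.bwd (nat_lit 3) Steps.nil))))) (nat_lit 5) (nat_lit 2),
  Rule.mk (nat_lit 1) (nat_lit 64) (Steps.bwd (nat_lit 4) (Steps.fwd (nat_lit 2048) (Steps.bwd (nat_lit 3) (Steps.fwd (nat_lit 1024) (Steps.bwd (nat_lit 3) Steps.nil))))) (nat_lit 4) (nat_lit 5),
  Rule.mk (nat_lit 2) (nat_lit 64) (Steps.bwd (nat_lit 4) (Steps.fwd (nat_lit 2048) (Steps.bwd (nat_lit 4) (Steps.fwd (nat_lit 1024) (Steps.bwd (nat_lit 3) Steps.nil))))) (nat_lit 5) (nat_lit 2),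
  Rule.mk (nat_lit 1) (nat_lit 64) (Steps.bwd (nat_lit 4) (Steps.fwd (nat_lit 2048) (Steps.fwd (nat_lit 4096) (Steps.fwd (nat_lit 1024) (Steps.bwd (nat_lit 3) Steps.nil))))) (nat_lit 4) (nat_lit 5),
  Rule.mk (nat_lit 5) (nat_lit 42) (Steps.bwd (nat_lit 4) (Steps.fwd (nat_lit 5120) (Steps.bwd (nat_lit 4) Steps.nil))) (nat_lit 11) (nat_lit 1),
  Rule.mk (nat_lit 2) (nat_lit 64) (Steps.bwd (nat_lit 3) (Steps.fwd (nat_lit 2048) (Steps.bwd (nat_lit 4) (Steps.fwd (nat_lit 2048) (Steps.fwd (nat_lit 4096) Steps.nil))))) (nat_lit 4) (nat_lit 3),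
  Rule.mk (nat_lit 1) (nat_lit 64) (Steps.bwd (nat_lit 3) (Steps.fwd (nat_lit 1024) (Steps.fwd (nat_lit 4096) (Steps.fwd (nat_lit 2048) (Steps.bwd (nat_lit 4) Steps.nil))))) (nat_lit 4) (nat_lit 1),
  Rule.mk (nat_lit 2) (nat_lit 42) (Steps.bwd (nat_lit 6) (Steps.fwd (nat_lit 2048) (Steps.fwd (nat_lit 6144) Steps.nil))) (nat_lit 14) (nat_lit 3),
  Rule.mk (nat_lit 4) (nat_lit 196) (Steps.bwd (nat_lit 6) (Steps.bwd (nat_lit 2) (Steps.bwd (nat_lit 4) (Steps.fwd (nat_lit 6144) (Steps.bwd (nat_lit 4) (Steps.bwd (nat_lit 6) (Steps.fwd (nat_lit 2048) (Steps.bwd (nat_lit 3) (Steps.fwd (nat_lit 2048) (Steps.bwd (nat_lit 6) (Steps.bwd (nat_lit 3) (Steps.fwd (nat_lit 6144) (Steps.bwd (nat_lit 4) (Steps.bwd (nat_lit 1) (Steps.bwd (nat_lit 6) (Steps.bwd (nat_lit 3) (Steps.fwd (nat_lit 6144) Steps.nil))))))))))))))))) (nat_lit 18) (nat_lit 12),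
  Rule.mk (nat_lit 0) (nat_lit 207) (Steps.fwd (nat_lit 2048) (Steps.fwd (nat_lit 6144) (Steps.fwd (nat_lit 4096) (Steps.fwd (nat_lit 6144) (Steps.bwd (nat_lit 4) (Steps.fwd (nat_lit 2048) (Steps.fwd (nat_lit 6144) (Steps.fwd (nat_lit 4096) (Steps.bwd (nat_lit 6) (Steps.fwd (nat_lit 3072) (Steps.fwd (nat_lit 6144) (Steps.fwd (nat_lit 1024) (Steps.bwd (nat_lit 4) (Steps.bwd (nat_lit 6) (Steps.fwd (nat_lit 3072) (Steps.bwd (nat_lit 6) (Steps.fwd (nat_lit 2048) (Steps.bwd (nat_lit 3) Steps.nil)))))))))))))))))) (nat_lit 18) (nat_lit 2),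
  Rule.mk (nat_lit 0) (nat_lit 42) (Steps.fwd (nat_lit 2048) (Steps.fwd (nat_lit 0) (Steps.bwd (nat_lit 2) Steps.nil))) (nat_lit 28) (nat_lit 0),
  Rule.mk (nat_lit 0) (nat_lit 42) (Steps.fwd (nat_lit 5120) (Steps.fwd (nat_lit 0) (Steps.fwd (nat_lit 5120) Steps.nil))) (nat_lit 28) (nat_lit 0),
  Rule.mk (nat_lit 0) (nat_lit 42) (Steps.bwd (nat_lit 6) (Steps.bwd (nat_lit 0) (Steps.bwd (nat_lit 6) Steps.nil))) (nat_lit 28) (nat_lit 0),
  Rule.mk (nat_lit 3) (nat_lit 42) (Steps.fwd (nat_lit 5120) (Steps.fwd (nat_lit 4096) (Steps.bwd (nat_lit 5) Steps.nil))) (nat_lit 10) (nat_lit 1),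
  Rule.mk (nat_lit 6) (nat_lit 196) (Steps.bwd (nat_lit 3) (Steps.fwd (nat_lit 2048) (Steps.fwd (nat_lit 6144) (Steps.fwd (nat_lit 4096) (Steps.fwd (nat_lit 6144) (Steps.fwd (nat_lit 3072) (Steps.fwd (nat_lit 6144) (Steps.bwd (nat_lit 2) (Steps.bwd (nat_lit 3) (Steps.fwd (nat_lit 6144) (Steps.bwd (nat_lit 4) (Steps.bwd (nat_lit 6) (Steps.fwd (nat_lit 1024) (Steps.fwd (nat_lit 3072) (Steps.bwd (nat_lit 2) (Steps.bwd (nat_lit 6) (Steps.fwd (nat_lit 4096) Steps.nil))))))))))))))))) (nat_lit 19) (nat_lit 3),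
  Rule.mk (nat_lit 6) (nat_lit 42) (Steps.bwd (nat_lit 1) (Steps.fwd (nat_lit 6144) (Steps.fwd (nat_lit 1024) Steps.nil))) (nat_lit 14) (nat_lit 0),
  Rule.mk (nat_lit 3) (nat_lit 196) (Steps.bwd (nat_lit 1) (Steps.fwd (nat_lit 6144) (Steps.fwd (nat_lit 4096) (Steps.bwd (nat_lit 6) (Steps.bwd (nat_lit 4) (Steps.fwd (nat_lit 6144) (Steps.bwd (nat_lit 2) (Steps.bwd (nat_lit 3) (Steps.fwd (nat_lit 6144) (Steps.fwd (nat_lit 3072) (Steps.fwd (nat_lit 6144) (Steps.bwd (nat_lit 2) (Steps.fwd (nat_lit 3072) (Steps.bwd (nat_lit 2) (Steps.fwd (nat_lit 6144) (Steps.bwd (nat_lit 3) (Steps.bwd (nat_lit 6) Steps.nil))))))))))))))))) (nat_lit 19) (nat_lit 4),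
  Rule.mk (nat_lit 4) (nat_lit 42) (Steps.bwd (nat_lit 5) (Steps.fwd (nat_lit 3072) (Steps.bwd (nat_lit 5) Steps.nil))) (nat_lit 11) (nat_lit 0),
  Rule.mk (nat_lit 6) (nat_lit 42) (Steps.bwd (nat_lit 5) (Steps.fwd (nat_lit 6144) (Steps.bwd (nat_lit 5) Steps.nil))) (nat_lit 16) (nat_lit 0),
  Rule.mk (nat_lit 2) (nat_lit 42) (Steps.bwd (nat_lit 6) (Steps.bwd (nat_lit 1) (Steps.bwd (nat_lit 6) Steps.nil))) (nat_lit 14) (nat_lit 3),
  Rule.mk (nat_lit 5) (nat_lit 42) (Steps.bwd (nat_lit 6) (Steps.bwd (nat_lit 5) (Steps.bwd (nat_lit 6) Steps.nil))) (nat_lit 16) (nat_lit 1),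
  Rule.mk (nat_lit 2) (nat_lit 42) (Steps.bwd (nat_lit 6) (Steps.fwd (nat_lit 2048) (Steps.bwd (nat_lit 6) Steps.nil))) (nat_lit 14) (nat_lit 3),
  Rule.mk (nat_lit 1) (nat_lit 42) (Steps.bwd (nat_lit 6) (Steps.bwd (nat_lit 2) (Steps.bwd (nat_lit 6) Steps.nil))) (nat_lit 14) (nat_lit 1),
  Rule.mk (nat_lit 5) (nat_lit 42) (Steps.bwd (nat_lit 6) (Steps.fwd (nat_lit 5120) (Steps.bwd (nat_lit 6) Steps.nil))) (nat_lit 16) (nat_lit 1),
  Rule.mk (nat_lit 3) (nat_lit 196) (Steps.bwd (nat_lit 6) (Steps.bwd (nat_lit 4) (Steps.fwd (nat_lit 6144) (Steps.bwd (nat_lit 2) (Steps.fwd (nat_lit 3072) (Steps.fwd (nat_lit 1024) (Steps.bwd (nat_lit 6) (Steps.bwd (nat_lit 3) (Steps.fwd (nat_lit 6144) (Steps.bwd (nat_lit 3) (Steps.fwd (nat_lit 2048) (Steps.fwd (nat_lit 6144) (Steps.fwd (nat_lit 4096) (Steps.bwd (nat_lit 6) (Steps.bwd (nat_lit 4) (Steps.fwd (nat_lit 6144) (Steps.bwd (nat_lit 2) Steps.nil))))))))))))))))) (nat_lit 19) (nat_lit 12),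
  Rule.mk (nat_lit 5) (nat_lit 42) (Steps.bwd (nat_lit 3) (Steps.bwd (nat_lit 5) (Steps.bwd (nat_lit 3) Steps.nil))) (nat_lit 10) (nat_lit 0),
  Rule.mk (nat_lit 6) (nat_lit 196) (Steps.fwd (nat_lit 3072) (Steps.bwd (nat_lit 6) (Steps.bwd (nat_lit 2) (Steps.bwd (nat_lit 4) (Steps.fwd (nat_lit 6144) (Steps.bwd (nat_lit 4) (Steps.bwd (nat_lit 6) (Steps.bwd (nat_lit 1) (Steps.bwd (nat_lit 3) (Steps.fwd (nat_lit 2048) (Steps.bwd (nat_lit 6) (Steps.fwd (nat_lit 4096) (Steps.fwd (nat_lit 6144) (Steps.bwd (nat_lit 4) (Steps.fwd (nat_lit 2048) (Steps.fwd (nat_lit 6144) (Steps.bwd (nat_lit 3) Steps.nil))))))))))))))))) (nat_lit 18) (nat_lit 11),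
  Rule.mk (nat_lit 2) (nat_lit 64) (Steps.bwd (nat_lit 3) (Steps.fwd (nat_lit 2048) (Steps.fwd (nat_lit 3072) (Steps.bwd (nat_lit 1) (Steps.bwd (nat_lit 3) Steps.nil))))) (nat_lit 4) (nat_lit 3),
  Rule.mk (nat_lit 6) (nat_lit 196) (Steps.bwd (nat_lit 3) (Steps.bwd (nat_lit 6) (Steps.bwd (nat_lit 3) (Steps.bwd (nat_lit 1) (Steps.bwd (nat_lit 6) (Steps.bwd (nat_lit 3) (Steps.bwd (nat_lit 6) (Steps.fwd (nat_lit 3072) (Steps.bwd (nat_lit 6) (Steps.bwd (nat_lit 2) (Steps.fwd (nat_lit 4096) (Steps.bwd (nat_lit 6) (Steps.bwd (nat_lit 4) (Steps.fwd (nat_lit 6144) (Steps.bwd (nat_lit 2) (Steps.fwd (nat_lit 3072) (Steps.bwd (nat_lit 2) Steps.nil))))))))))))))))) (nat_lit 19) (nat_lit 1),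
  Rule.mk (nat_lit 7) (nat_lit 218) (Steps.bwd (nat_lit 3) (Steps.bwd (nat_lit 6) (Steps.bwd (nat_lit 3) (Steps.fwd (nat_lit 6144) (Steps.fwd (nat_lit 3072) (Steps.fwd (nat_lit 6144) (Steps.bwd (nat_lit 4) (Steps.fwd (nat_lit 7168) (Steps.bwd (nat_lit 6) (Steps.fwd (nat_lit 2048) (Steps.bwd (nat_lit 3) (Steps.fwd (nat_lit 2048) (Steps.bwd (nat_lit 5) (Steps.bwd (nat_lit 6) (Steps.bwd (nat_lit 3) (Steps.fwd (nat_lit 6144) (Steps.fwd (nat_lit 3072) (Steps.fwd (nat_lit 6144) (Steps.fwd (nat_lit 3072) Steps.nil))))))))))))))))))) (nat_lit 26) (nat_lit 11),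
  Rule.mk (nat_lit 2) (nat_lit 64) (Steps.bwd (nat_lit 4) (Steps.fwd (nat_lit 2048) (Steps.bwd (nat_lit 4) (Steps.bwd (nat_lit 2) (Steps.bwd (nat_lit 3) Steps.nil))))) (nat_lit 5) (nat_lit 2),
  Rule.mk (nat_lit 7) (nat_lit 108) (Steps.bwd (nat_lit 4) (Steps.bwd (nat_lit 2) (Steps.fwd (nat_lit 3072) (Steps.fwd (nat_lit 6144) (Steps.bwd (nat_lit 7) (Steps.bwd (nat_lit 3) (Steps.fwd (nat_lit 2048) (Steps.bwd (nat_lit 3) (Steps.fwd (nat_lit 6144) Steps.nil))))))))) (nat_lit 24) (nat_lit 4),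
  Rule.mk (nat_lit 6) (nat_lit 196) (Steps.bwd (nat_lit 4) (Steps.fwd (nat_lit 2048) (Steps.bwd (nat_lit 6) (Steps.fwd (nat_lit 4096) (Steps.bwd (nat_lit 6) (Steps.bwd (nat_lit 4) (Steps.fwd (nat_lit 6144) (Steps.fwd (nat_lit 1024) (Steps.bwd (nat_lit 4) (Steps.fwd (nat_lit 6144) (Steps.bwd (nat_lit 4) (Steps.bwd (nat_lit 6) (Steps.bwd (nat_lit 1) (Steps.bwd (nat_lit 3) (Steps.fwd (nat_lit 2048) (Steps.fwd (nat_lit 6144) (Steps.bwd (nat_lit 3) Steps.nil))))))))))))))))) (nat_lit 18) (nat_lit 6),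
  Rule.mk (nat_lit 4) (nat_lit 64) (Steps.bwd (nat_lit 1) (Steps.bwd (nat_lit 4) (Steps.bwd (nat_lit 2) (Steps.bwd (nat_lit 3) (Steps.bwd (nat_lit 2) Steps.nil))))) (nat_lit 5) (nat_lit 3),
  Rule.mk (nat_lit 2) (nat_lit 64) (Steps.bwd (nat_lit 4) (Steps.fwd (nat_lit 2048) (Steps.fwd (nat_lit 3072) (Steps.bwd (nat_lit 2) (Steps.bwd (nat_lit 3) Steps.nil))))) (nat_lit 5) (nat_lit 2),
  Rule.mk (nat_lit 6) (nat_lit 196) (Steps.bwd (nat_lit 4) (Steps.fwd (nat_lit 6144) (Steps.bwd (nat_lit 1) (Steps.bwd (nat_lit 3) (Steps.bwd (nat_lit 1) (Steps.bwd (nat_lit 6) (Steps.bwd (nat_lit 3) (Steps.bwd (nat_lit 6) (Steps.fwd (nat_lit 3072) (Steps.fwd (nat_lit 2048) (Steps.fwd (nat_lit 6144) (Steps.fwd (nat_lit 4096) (Steps.bwd (nat_lit 6) (Steps.fwd (nat_lit 3072) (Steps.bwd (nat_lit 6) (Steps.bwd (nat_lit 2) (Steps.bwd (nat_lit 4) Steps.nil))))))))))))))))) (nat_lit 18) (nat_lit 16),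
  Rule.mk (nat_lit 1) (nat_lit 64) (Steps.bwd (nat_lit 3) (Steps.bwd (nat_lit 2) (Steps.bwd (nat_lit 3) (Steps.fwd (nat_lit 2048) (Steps.fwd (nat_lit 3072) Steps.nil))))) (nat_lit 4) (nat_lit 1),
  Rule.mk (nat_lit 7) (nat_lit 108) (Steps.fwd (nat_lit 6144) (Steps.fwd (nat_lit 3072) (Steps.fwd (nat_lit 1024) (Steps.bwd (nat_lit 4) (Steps.fwd (nat_lit 7168) (Steps.fwd (nat_lit 6144) (Steps.bwd (nat_lit 3) (Steps.bwd (nat_lit 1) (Steps.bwd (nat_lit 3) Steps.nil))))))))) (nat_lit 25) (nat_lit 7),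
  Rule.mk (nat_lit 6) (nat_lit 42) (Steps.bwd (nat_lit 1) (Steps.bwd (nat_lit 6) (Steps.bwd (nat_lit 2) Steps.nil))) (nat_lit 14) (nat_lit 0),
  Rule.mk (nat_lit 4) (nat_lit 64) (Steps.bwd (nat_lit 1) (Steps.fwd (nat_lit 4096) (Steps.bwd (nat_lit 2) (Steps.fwd (nat_lit 4096) (Steps.bwd (nat_lit 1) Steps.nil))))) (nat_lit 4) (nat_lit 0),
  Rule.mk (nat_lit 3) (nat_lit 42) (Steps.bwd (nat_lit 5) (Steps.bwd (nat_lit 3) (Steps.fwd (nat_lit 5120) Steps.nil))) (nat_lit 10) (nat_lit 1),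
  Rule.mk (nat_lit 5) (nat_lit 42) (Steps.bwd (nat_lit 2) (Steps.bwd (nat_lit 5) (Steps.fwd (nat_lit 1024) Steps.nil))) (nat_lit 9) (nat_lit 1),
  Rule.mk (nat_lit 4) (nat_lit 64) (Steps.bwd (nat_lit 2) (Steps.bwd (nat_lit 3) (Steps.fwd (nat_lit 1024) (Steps.fwd (nat_lit 3072) (Steps.fwd (nat_lit 2048) Steps.nil))))) (nat_lit 5) (nat_lit 5),
  Rule.mk (nat_lit 4) (nat_lit 196) (Steps.bwd (nat_lit 6) (Steps.bwd (nat_lit 2) (Steps.bwd (nat_lit 3) (Steps.bwd (nat_lit 6) (Steps.bwd (nat_lit 4) (Steps.fwd (nat_lit 6144) (Steps.fwd (nat_lit 1024) (Steps.fwd (nat_lit 3072) (Steps.bwd (nat_lit 2) (Steps.fwd (nat_lit 6144) (Steps.bwd (nat_lit 3) (Steps.fwd (nat_lit 6144) (Steps.fwd (nat_lit 4096) (Steps.bwd (nat_lit 1) (Steps.fwd (nat_lit 6144) (Steps.fwd (nat_lit 4096) (Steps.bwd (nat_lit 6) Steps.nil))))))))))))))))) (nat_lit 19) (nat_lit 9),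
  Rule.mk (nat_lit 3) (nat_lit 64) (Steps.bwd (nat_lit 2) (Steps.fwd (nat_lit 4096) (Steps.fwd (nat_lit 2048) (Steps.bwd (nat_lit 4) (Steps.fwd (nat_lit 2048) Steps.nil))))) (nat_lit 4) (nat_lit 2),
  Rule.mk (nat_lit 4) (nat_lit 196) (Steps.bwd (nat_lit 6) (Steps.fwd (nat_lit 3072) (Steps.bwd (nat_lit 6) (Steps.fwd (nat_lit 2048) (Steps.fwd (nat_lit 4096) (Steps.bwd (nat_lit 1) (Steps.fwd (nat_lit 6144) (Steps.bwd (nat_lit 3) (Steps.fwd (nat_lit 6144) (Steps.bwd (nat_lit 4) (Steps.bwd (nat_lit 1) (Steps.bwd (nat_lit 6) (Steps.bwd (nat_lit 3) (Steps.bwd (nat_lit 6) (Steps.fwd (nat_lit 3072) (Steps.fwd (nat_lit 6144) (Steps.bwd (nat_lit 2) Steps.nil))))))))))))))))) (nat_lit 18) (nat_lit 15),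
  Rule.mk (nat_lit 3) (nat_lit 196) (Steps.bwd (nat_lit 6) (Steps.fwd (nat_lit 3072) (Steps.bwd (nat_lit 6) (Steps.bwd (nat_lit 2) (Steps.fwd (nat_lit 3072) (Steps.fwd (nat_lit 6144) (Steps.fwd (nat_lit 3072) (Steps.bwd (nat_lit 6) (Steps.fwd (nat_lit 2048) (Steps.bwd (nat_lit 3) (Steps.fwd (nat_lit 2048) (Steps.fwd (nat_lit 6144) (Steps.fwd (nat_lit 4096) (Steps.bwd (nat_lit 6) (Steps.bwd (nat_lit 4) (Steps.fwd (nat_lit 2048) (Steps.bwd (nat_lit 6) Steps.nil))))))))))))))))) (nat_lit 18) (nat_lit 10),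
  Rule.mk (nat_lit 1) (nat_lit 64) (Steps.fwd (nat_lit 3072) (Steps.fwd (nat_lit 2048) (Steps.fwd (nat_lit 4096) (Steps.fwd (nat_lit 1024) (Steps.bwd (nat_lit 3) Steps.nil))))) (nat_lit 4) (nat_lit 5)]
noncomputable def R_2 : List (Rule) := [Rule.mk (nat_lit 3) (nat_lit 64) (Steps.bwd (nat_lit 2) (Steps.fwd (nat_lit 3072) (Steps.fwd (nat_lit 2048) (Steps.bwd (nat_lit 4) (Steps.bwd (nat_lit 2) Steps.nil))))) (nat_lit 5) (nat_lit 1),
  Rule.mk (nat_lit 2) (nat_lit 64) (Steps.bwd (nat_lit 3) (Steps.fwd (nat_lit 2048) (Steps.bwd (nat_lit 4) (Steps.fwd (nat_lit 2048) (Steps.bwd (nat_lit 3) Steps.nil))))) (nat_lit 4) (nat_lit 3),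
  Rule.mk (nat_lit 6) (nat_lit 196) (Steps.bwd (nat_lit 3) (Steps.bwd (nat_lit 6) (Steps.fwd (nat_lit 3072) (Steps.bwd (nat_lit 6) (Steps.fwd (nat_lit 1024) (Steps.bwd (nat_lit 4) (Steps.fwd (nat_lit 6144) (Steps.bwd (nat_lit 4) (Steps.bwd (nat_lit 6) (Steps.fwd (nat_lit 2048) (Steps.bwd (nat_lit 3) (Steps.fwd (nat_lit 2048) (Steps.fwd (nat_lit 6144) (Steps.fwd (nat_lit 4096) (Steps.fwd (nat_lit 6144) (Steps.fwd (nat_lit 3072) (Steps.fwd (nat_lit 2048) Steps.nil))))))))))))))))) (nat_lit 18) (nat_lit 9),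
  Rule.mk (nat_lit 2) (nat_lit 64) (Steps.bwd (nat_lit 3) (Steps.fwd (nat_lit 2048) (Steps.bwd (nat_lit 4) (Steps.bwd (nat_lit 1) (Steps.bwd (nat_lit 3) Steps.nil))))) (nat_lit 4) (nat_lit 3),
  Rule.mk (nat_lit 5) (nat_lit 42) (Steps.bwd (nat_lit 4) (Steps.bwd (nat_lit 5) (Steps.fwd (nat_lit 3072) Steps.nil))) (nat_lit 11) (nat_lit 1),
  Rule.mk (nat_lit 6) (nat_lit 196) (Steps.bwd (nat_lit 4) (Steps.bwd (nat_lit 6) (Steps.bwd (nat_lit 1) (Steps.bwd (nat_lit 3) (Steps.fwd (nat_lit 2048) (Steps.fwd (nat_lit 6144) (Steps.fwd (nat_lit 4096) (Steps.bwd (nat_lit 6) (Steps.bwd (nat_lit 4) (Steps.bwd (nat_lit 1) (Steps.bwd (nat_lit 6) (Steps.fwd (nat_lit 4096) (Steps.fwd (nat_lit 6144) (Steps.bwd (nat_lit 4) (Steps.fwd (nat_lit 6144) (Steps.bwd (nat_lit 2) (Steps.fwd (nat_lit 3072) Steps.nil))))))))))))))))) (nat_lit 18) (nat_lit 16),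
  Rule.mk (nat_lit 4) (nat_lit 97) (Steps.bwd (nat_lit 7) (Steps.bwd (nat_lit 1) (Steps.bwd (nat_lit 4) (Steps.fwd (nat_lit 2048) (Steps.bwd (nat_lit 7) (Steps.fwd (nat_lit 3072) (Steps.bwd (nat_lit 1) (Steps.fwd (nat_lit 7168) Steps.nil)))))))) (nat_lit 22) (nat_lit 8),
  Rule.mk (nat_lit 2) (nat_lit 97) (Steps.fwd (nat_lit 4096) (Steps.bwd (nat_lit 7) (Steps.fwd (nat_lit 1024) (Steps.bwd (nat_lit 3) (Steps.bwd (nat_lit 2) (Steps.fwd (nat_lit 7168) (Steps.fwd (nat_lit 4096) (Steps.fwd (nat_lit 7168) Steps.nil)))))))) (nat_lit 23) (nat_lit 4),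
  Rule.mk (nat_lit 2) (nat_lit 97) (Steps.bwd (nat_lit 7) (Steps.bwd (nat_lit 3) (Steps.fwd (nat_lit 7168) (Steps.bwd (nat_lit 2) (Steps.fwd (nat_lit 4096) (Steps.fwd (nat_lit 7168) (Steps.bwd (nat_lit 2) (Steps.fwd (nat_lit 4096) Steps.nil)))))))) (nat_lit 23) (nat_lit 0),
  Rule.mk (nat_lit 4) (nat_lit 97) (Steps.bwd (nat_lit 7) (Steps.fwd (nat_lit 2048) (Steps.fwd (nat_lit 3072) (Steps.fwd (nat_lit 2048) (Steps.bwd (nat_lit 7) (Steps.fwd (nat_lit 3072) (Steps.fwd (nat_lit 2048) (Steps.fwd (nat_lit 7168) Steps.nil)))))))) (nat_lit 22) (nat_lit 8),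
  Rule.mk (nat_lit 1) (nat_lit 97) (Steps.bwd (nat_lit 7) (Steps.fwd (nat_lit 3072) (Steps.fwd (nat_lit 7168) (Steps.fwd (nat_lit 2048) (Steps.fwd (nat_lit 3072) (Steps.fwd (nat_lit 2048) (Steps.fwd (nat_lit 7168) (Steps.bwd (nat_lit 4) Steps.nil)))))))) (nat_lit 22) (nat_lit 6),
  Rule.mk (nat_lit 1) (nat_lit 97) (Steps.bwd (nat_lit 4) (Steps.bwd (nat_lit 1) (Steps.bwd (nat_lit 7) (Steps.fwd (nat_lit 3072) (Steps.fwd (nat_lit 2048) (Steps.bwd (nat_lit 7) (Steps.fwd (nat_lit 3072) (Steps.fwd (nat_lit 7168) Steps.nil)))))))) (nat_lit 22) (nat_lit 1),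
  Rule.mk (nat_lit 4) (nat_lit 97) (Steps.bwd (nat_lit 7) (Steps.fwd (nat_lit 2048) (Steps.bwd (nat_lit 4) (Steps.fwd (nat_lit 2048) (Steps.fwd (nat_lit 7168) (Steps.fwd (nat_lit 3072) (Steps.fwd (nat_lit 2048) (Steps.fwd (nat_lit 7168) Steps.nil)))))))) (nat_lit 22) (nat_lit 8),
  Rule.mk (nat_lit 1) (nat_lit 97) (Steps.bwd (nat_lit 7) (Steps.bwd (nat_lit 4) (Steps.bwd (nat_lit 7) (Steps.fwd (nat_lit 2048) (Steps.fwd (nat_lit 3072) (Steps.fwd (nat_lit 2048) (Steps.fwd (nat_lit 7168) (Steps.bwd (nat_lit 4) Steps.nil)))))))) (nat_lit 22) (nat_lit 6),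
  Rule.mk (nat_lit 7) (nat_lit 97) (Steps.bwd (nat_lit 1) (Steps.bwd (nat_lit 4) (Steps.bwd (nat_lit 1) (Steps.bwd (nat_lit 7) (Steps.bwd (nat_lit 4) (Steps.fwd (nat_lit 2048) (Steps.fwd (nat_lit 7168) (Steps.fwd (nat_lit 3072) Steps.nil)))))))) (nat_lit 22) (nat_lit 0),
  Rule.mk (nat_lit 4) (nat_lit 97) (Steps.bwd (nat_lit 7) (Steps.bwd (nat_lit 1) (Steps.bwd (nat_lit 4) (Steps.fwd (nat_lit 2048) (Steps.bwd (nat_lit 7) (Steps.fwd (nat_lit 3072) (Steps.fwd (nat_lit 2048) (Steps.fwd (nat_lit 7168) Steps.nil)))))))) (nat_lit 22) (nat_lit 8),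
  Rule.mk (nat_lit 1) (nat_lit 97) (Steps.bwd (nat_lit 4) (Steps.bwd (nat_lit 1) (Steps.bwd (nat_lit 7) (Steps.bwd (nat_lit 4) (Steps.fwd (nat_lit 2048) (Steps.bwd (nat_lit 7) (Steps.fwd (nat_lit 3072) (Steps.fwd (nat_lit 7168) Steps.nil)))))))) (nat_lit 22) (nat_lit 1),
  Rule.mk (nat_lit 6) (nat_lit 108) (Steps.bwd (nat_lit 3) (Steps.bwd (nat_lit 1) (Steps.fwd (nat_lit 4096) (Steps.bwd (nat_lit 7) (Steps.bwd (nat_lit 6) (Steps.bwd (nat_lit 4) (Steps.bwd (nat_lit 2) (Steps.bwd (nat_lit 4) (Steps.fwd (nat_lit 7168) Steps.nil))))))))) (nat_lit 25) (nat_lit 3),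
  Rule.mk (nat_lit 3) (nat_lit 64) (Steps.bwd (nat_lit 2) (Steps.bwd (nat_lit 3) (Steps.bwd (nat_lit 1) (Steps.bwd (nat_lit 4) (Steps.bwd (nat_lit 1) Steps.nil))))) (nat_lit 4) (nat_lit 2),
  Rule.mk (nat_lit 6) (nat_lit 108) (Steps.bwd (nat_lit 7) (Steps.fwd (nat_lit 3072) (Steps.bwd (nat_lit 2) (Steps.bwd (nat_lit 4) (Steps.fwd (nat_lit 6144) (Steps.fwd (nat_lit 7168) (Steps.fwd (nat_lit 4096) (Steps.bwd (nat_lit 1) (Steps.bwd (nat_lit 3) Steps.nil))))))))) (nat_lit 24) (nat_lit 3),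
  Rule.mk (nat_lit 6) (nat_lit 42) (Steps.bwd (nat_lit 1) (Steps.fwd (nat_lit 6144) (Steps.bwd (nat_lit 2) Steps.nil))) (nat_lit 14) (nat_lit 0),
  Rule.mk (nat_lit 4) (nat_lit 64) (Steps.bwd (nat_lit 1) (Steps.bwd (nat_lit 3) (Steps.fwd (nat_lit 1024) (Steps.bwd (nat_lit 3) (Steps.bwd (nat_lit 1) Steps.nil))))) (nat_lit 4) (nat_lit 0),
  Rule.mk (nat_lit 0) (nat_lit 119) (Steps.bwd (nat_lit 6) (Steps.fwd (nat_lit 4096) (Steps.bwd (nat_lit 1) (Steps.bwd (nat_lit 3) (Steps.bwd (nat_lit 7) (Steps.fwd (nat_lit 6144) (Steps.fwd (nat_lit 3072) (Steps.bwd (nat_lit 2) (Steps.fwd (nat_lit 3072) (Steps.fwd (nat_lit 7168) Steps.nil)))))))))) (nat_lit 25) (nat_lit 2),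
  Rule.mk (nat_lit 1) (nat_lit 31) (Steps.bwd (nat_lit 0) (Steps.bwd (nat_lit 2) Steps.nil)) (nat_lit 28) (nat_lit 0),
  Rule.mk (nat_lit 2) (nat_lit 31) (Steps.bwd (nat_lit 0) (Steps.fwd (nat_lit 2048) Steps.nil)) (nat_lit 28) (nat_lit 0),
  Rule.mk (nat_lit 7) (nat_lit 97) (Steps.bwd (nat_lit 4) (Steps.bwd (nat_lit 7) (Steps.bwd (nat_lit 1) (Steps.fwd (nat_lit 3072) (Steps.fwd (nat_lit 2048) (Steps.fwd (nat_lit 7168) (Steps.bwd (nat_lit 4) (Steps.fwd (nat_lit 2048) Steps.nil)))))))) (nat_lit 22) (nat_lit 7),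
  Rule.mk (nat_lit 7) (nat_lit 97) (Steps.bwd (nat_lit 4) (Steps.fwd (nat_lit 7168) (Steps.bwd (nat_lit 1) (Steps.bwd (nat_lit 4) (Steps.fwd (nat_lit 2048) (Steps.bwd (nat_lit 7) (Steps.bwd (nat_lit 4) (Steps.fwd (nat_lit 2048) Steps.nil)))))))) (nat_lit 22) (nat_lit 7),
  Rule.mk (nat_lit 1) (nat_lit 97) (Steps.bwd (nat_lit 7) (Steps.bwd (nat_lit 4) (Steps.bwd (nat_lit 7) (Steps.fwd (nat_lit 2048) (Steps.bwd (nat_lit 4) (Steps.bwd (nat_lit 1) (Steps.fwd (nat_lit 7168) (Steps.bwd (nat_lit 4) Steps.nil)))))))) (nat_lit 22) (nat_lit 6),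
  Rule.mk (nat_lit 7) (nat_lit 97) (Steps.bwd (nat_lit 2) (Steps.fwd (nat_lit 4096) (Steps.fwd (nat_lit 7168) (Steps.bwd (nat_lit 2) (Steps.fwd (nat_lit 4096) (Steps.bwd (nat_lit 2) (Steps.bwd (nat_lit 7) (Steps.fwd (nat_lit 4096) Steps.nil)))))))) (nat_lit 23) (nat_lit 3),
  Rule.mk (nat_lit 7) (nat_lit 97) (Steps.fwd (nat_lit 4096) (Steps.fwd (nat_lit 7168) (Steps.bwd (nat_lit 2) (Steps.fwd (nat_lit 4096) (Steps.bwd (nat_lit 7) (Steps.bwd (nat_lit 2) (Steps.fwd (nat_lit 4096) (Steps.fwd (nat_lit 1024) Steps.nil)))))))) (nat_lit 23) (nat_lit 1),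
  Rule.mk (nat_lit 4) (nat_lit 108) (Steps.bwd (nat_lit 6) (Steps.fwd (nat_lit 7168) (Steps.fwd (nat_lit 4096) (Steps.bwd (nat_lit 1) (Steps.bwd (nat_lit 3) (Steps.fwd (nat_lit 6144) (Steps.fwd (nat_lit 7168) (Steps.bwd (nat_lit 4) (Steps.fwd (nat_lit 1024) Steps.nil))))))))) (nat_lit 24) (nat_lit 7),
  Rule.mk (nat_lit 1) (nat_lit 64) (Steps.bwd (nat_lit 4) (Steps.fwd (nat_lit 1024) (Steps.fwd (nat_lit 4096) (Steps.fwd (nat_lit 1024) (Steps.bwd (nat_lit 4) Steps.nil))))) (nat_lit 5) (nat_lit 4),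
  Rule.mk (nat_lit 4) (nat_lit 97) (Steps.bwd (nat_lit 7) (Steps.bwd (nat_lit 1) (Steps.bwd (nat_lit 4) (Steps.bwd (nat_lit 1) (Steps.bwd (nat_lit 7) (Steps.fwd (nat_lit 3072) (Steps.fwd (nat_lit 2048) (Steps.fwd (nat_lit 7168) Steps.nil)))))))) (nat_lit 22) (nat_lit 8),
  Rule.mk (nat_lit 3) (nat_lit 97) (Steps.bwd (nat_lit 7) (Steps.fwd (nat_lit 1024) (Steps.fwd (nat_lit 4096) (Steps.fwd (nat_lit 1024) (Steps.bwd (nat_lit 7) (Steps.fwd (nat_lit 4096) (Steps.fwd (nat_lit 7168) (Steps.fwd (nat_lit 1024) Steps.nil)))))))) (nat_lit 23) (nat_lit 5),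
  Rule.mk (nat_lit 3) (nat_lit 97) (Steps.bwd (nat_lit 7) (Steps.bwd (nat_lit 2) (Steps.bwd (nat_lit 3) (Steps.fwd (nat_lit 1024) (Steps.bwd (nat_lit 7) (Steps.bwd (nat_lit 3) (Steps.bwd (nat_lit 7) (Steps.fwd (nat_lit 1024) Steps.nil)))))))) (nat_lit 23) (nat_lit 5),
  Rule.mk (nat_lit 2) (nat_lit 97) (Steps.bwd (nat_lit 7) (Steps.bwd (nat_lit 3) (Steps.bwd (nat_lit 7) (Steps.fwd (nat_lit 1024) (Steps.bwd (nat_lit 3) (Steps.bwd (nat_lit 7) (Steps.fwd (nat_lit 1024) (Steps.bwd (nat_lit 3) Steps.nil)))))))) (nat_lit 23) (nat_lit 0),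
  Rule.mk (nat_lit 3) (nat_lit 64) (Steps.bwd (nat_lit 1) (Steps.fwd (nat_lit 3072) (Steps.bwd (nat_lit 1) (Steps.bwd (nat_lit 3) (Steps.bwd (nat_lit 2) Steps.nil))))) (nat_lit 4) (nat_lit 4),
  Rule.mk (nat_lit 4) (nat_lit 64) (Steps.fwd (nat_lit 2048) (Steps.bwd (nat_lit 4) (Steps.fwd (nat_lit 1024) (Steps.bwd (nat_lit 3) (Steps.bwd (nat_lit 2) Steps.nil))))) (nat_lit 5) (nat_lit 3),
  Rule.mk (nat_lit 4) (nat_lit 64) (Steps.bwd (nat_lit 1) (Steps.bwd (nat_lit 3) (Steps.fwd (nat_lit 1024) (Steps.fwd (nat_lit 4096) (Steps.fwd (nat_lit 2048) Steps.nil))))) (nat_lit 4) (nat_lit 0),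
  Rule.mk (nat_lit 7) (nat_lit 97) (Steps.bwd (nat_lit 1) (Steps.bwd (nat_lit 4) (Steps.fwd (nat_lit 2048) (Steps.bwd (nat_lit 7) (Steps.fwd (nat_lit 3072) (Steps.bwd (nat_lit 1) (Steps.bwd (nat_lit 7) (Steps.bwd (nat_lit 4) Steps.nil)))))))) (nat_lit 22) (nat_lit 0),
  Rule.mk (nat_lit 4) (nat_lit 64) (Steps.bwd (nat_lit 1) (Steps.fwd (nat_lit 4096) (Steps.fwd (nat_lit 1024) (Steps.bwd (nat_lit 3) (Steps.bwd (nat_lit 1) Steps.nil))))) (nat_lit 4) (nat_lit 0),
  Rule.mk (nat_lit 7) (nat_lit 97) (Steps.bwd (nat_lit 1) (Steps.bwd (nat_lit 4) (Steps.bwd (nat_lit 1) (Steps.bwd (nat_lit 7) (Steps.fwd (nat_lit 3072) (Steps.fwd (nat_lit 2048) (Steps.fwd (nat_lit 7168) (Steps.bwd (nat_lit 4) Steps.nil)))))))) (nat_lit 22) (nat_lit 0),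
  Rule.mk (nat_lit 6) (nat_lit 108) (Steps.bwd (nat_lit 4) (Steps.fwd (nat_lit 1024) (Steps.bwd (nat_lit 4) (Steps.bwd (nat_lit 7) (Steps.fwd (nat_lit 6144) (Steps.bwd (nat_lit 3) (Steps.fwd (nat_lit 2048) (Steps.fwd (nat_lit 4096) (Steps.bwd (nat_lit 7) Steps.nil))))))))) (nat_lit 25) (nat_lit 8),
  Rule.mk (nat_lit 6) (nat_lit 108) (Steps.bwd (nat_lit 7) (Steps.bwd (nat_lit 3) (Steps.fwd (nat_lit 2048) (Steps.bwd (nat_lit 3) (Steps.fwd (nat_lit 6144) (Steps.bwd (nat_lit 7) (Steps.bwd (nat_lit 4) (Steps.fwd (nat_lit 1024) (Steps.bwd (nat_lit 4) Steps.nil))))))))) (nat_lit 24) (nat_lit 8),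
  Rule.mk (nat_lit 1) (nat_lit 64) (Steps.bwd (nat_lit 4) (Steps.fwd (nat_lit 2048) (Steps.fwd (nat_lit 4096) (Steps.fwd (nat_lit 1024) (Steps.fwd (nat_lit 4096) Steps.nil))))) (nat_lit 4) (nat_lit 5),
  Rule.mk (nat_lit 6) (nat_lit 108) (Steps.bwd (nat_lit 7) (Steps.bwd (nat_lit 3) (Steps.fwd (nat_lit 2048) (Steps.fwd (nat_lit 4096) (Steps.fwd (nat_lit 6144) (Steps.fwd (nat_lit 7168) (Steps.fwd (nat_lit 3072) (Steps.bwd (nat_lit 2) (Steps.bwd (nat_lit 4) Steps.nil))))))))) (nat_lit 24) (nat_lit 8),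
  Rule.mk (nat_lit 2) (nat_lit 42) (Steps.fwd (nat_lit 6144) (Steps.bwd (nat_lit 1) (Steps.bwd (nat_lit 6) Steps.nil))) (nat_lit 14) (nat_lit 3),
  Rule.mk (nat_lit 3) (nat_lit 97) (Steps.bwd (nat_lit 7) (Steps.bwd (nat_lit 2) (Steps.bwd (nat_lit 3) (Steps.bwd (nat_lit 2) (Steps.fwd (nat_lit 7168) (Steps.bwd (nat_lit 3) (Steps.fwd (nat_lit 7168) (Steps.bwd (nat_lit 2) Steps.nil)))))))) (nat_lit 23) (nat_lit 5),
  Rule.mk (nat_lit 7) (nat_lit 97) (Steps.bwd (nat_lit 3) (Steps.bwd (nat_lit 7) (Steps.bwd (nat_lit 2) (Steps.bwd (nat_lit 3) (Steps.fwd (nat_lit 7168) (Steps.bwd (nat_lit 2) (Steps.bwd (nat_lit 3) (Steps.bwd (nat_lit 2) Steps.nil)))))))) (nat_lit 23) (nat_lit 1),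
  Rule.mk (nat_lit 2) (nat_lit 97) (Steps.bwd (nat_lit 7) (Steps.bwd (nat_lit 3) (Steps.fwd (nat_lit 7168) (Steps.bwd (nat_lit 2) (Steps.bwd (nat_lit 3) (Steps.fwd (nat_lit 7168) (Steps.bwd (nat_lit 2) (Steps.bwd (nat_lit 3) Steps.nil)))))))) (nat_lit 23) (nat_lit 0),
  Rule.mk (nat_lit 7) (nat_lit 97) (Steps.bwd (nat_lit 3) (Steps.fwd (nat_lit 7168) (Steps.bwd (nat_lit 2) (Steps.bwd (nat_lit 3) (Steps.bwd (nat_lit 7) (Steps.bwd (nat_lit 2) (Steps.bwd (nat_lit 3) (Steps.bwd (nat_lit 2) Steps.nil)))))))) (nat_lit 23) (nat_lit 1),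
  Rule.mk (nat_lit 7) (nat_lit 97) (Steps.fwd (nat_lit 3072) (Steps.fwd (nat_lit 7168) (Steps.fwd (nat_lit 2048) (Steps.bwd (nat_lit 4) (Steps.fwd (nat_lit 2048) (Steps.bwd (nat_lit 7) (Steps.fwd (nat_lit 3072) (Steps.fwd (nat_lit 2048) Steps.nil)))))))) (nat_lit 22) (nat_lit 7),
  Rule.mk (nat_lit 6) (nat_lit 108) (Steps.bwd (nat_lit 3) (Steps.fwd (nat_lit 2048) (Steps.bwd (nat_lit 3) (Steps.fwd (nat_lit 7168) (Steps.fwd (nat_lit 6144) (Steps.bwd (nat_lit 4) (Steps.fwd (nat_lit 1024) (Steps.fwd (nat_lit 3072) (Steps.fwd (nat_lit 7168) Steps.nil))))))))) (nat_lit 25) (nat_lit 3),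
  Rule.mk (nat_lit 4) (nat_lit 108) (Steps.bwd (nat_lit 2) (Steps.fwd (nat_lit 3072) (Steps.fwd (nat_lit 7168) (Steps.fwd (nat_lit 6144) (Steps.fwd (nat_lit 4096) (Steps.fwd (nat_lit 2048) (Steps.fwd (nat_lit 4096) (Steps.fwd (nat_lit 7168) (Steps.bwd (nat_lit 6) Steps.nil))))))))) (nat_lit 25) (nat_lit 9),
  Rule.mk (nat_lit 2) (nat_lit 64) (Steps.bwd (nat_lit 3) (Steps.fwd (nat_lit 2048) (Steps.fwd (nat_lit 3072) (Steps.bwd (nat_lit 1) (Steps.fwd (nat_lit 4096) Steps.nil))))) (nat_lit 4) (nat_lit 3),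
  Rule.mk (nat_lit 7) (nat_lit 97) (Steps.bwd (nat_lit 2) (Steps.bwd (nat_lit 3) (Steps.bwd (nat_lit 2) (Steps.bwd (nat_lit 7) (Steps.bwd (nat_lit 3) (Steps.bwd (nat_lit 7) (Steps.bwd (nat_lit 2) (Steps.bwd (nat_lit 3) Steps.nil)))))))) (nat_lit 23) (nat_lit 6),
  Rule.mk (nat_lit 3) (nat_lit 97) (Steps.bwd (nat_lit 7) (Steps.bwd (nat_lit 2) (Steps.bwd (nat_lit 3) (Steps.bwd (nat_lit 2) (Steps.fwd (nat_lit 7168) (Steps.fwd (nat_lit 4096) (Steps.bwd (nat_lit 7) (Steps.bwd (nat_lit 2) Steps.nil)))))))) (nat_lit 23) (nat_lit 5),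
  Rule.mk (nat_lit 3) (nat_lit 97) (Steps.bwd (nat_lit 7) (Steps.bwd (nat_lit 2) (Steps.fwd (nat_lit 4096) (Steps.bwd (nat_lit 2) (Steps.fwd (nat_lit 7168) (Steps.fwd (nat_lit 4096) (Steps.fwd (nat_lit 7168) (Steps.bwd (nat_lit 2) Steps.nil)))))))) (nat_lit 23) (nat_lit 5),
  Rule.mk (nat_lit 2) (nat_lit 97) (Steps.bwd (nat_lit 7) (Steps.bwd (nat_lit 3) (Steps.fwd (nat_lit 7168) (Steps.bwd (nat_lit 2) (Steps.fwd (nat_lit 4096) (Steps.bwd (nat_lit 7) (Steps.bwd (nat_lit 2) (Steps.bwd (nat_lit 3) Steps.nil)))))))) (nat_lit 23) (nat_lit 0),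
  Rule.mk (nat_lit 3) (nat_lit 64) (Steps.bwd (nat_lit 1) (Steps.bwd (nat_lit 4) (Steps.fwd (nat_lit 2048) (Steps.bwd (nat_lit 3) (Steps.bwd (nat_lit 2) Steps.nil))))) (nat_lit 4) (nat_lit 4),
  Rule.mk (nat_lit 2) (nat_lit 97) (Steps.bwd (nat_lit 7) (Steps.fwd (nat_lit 4096) (Steps.bwd (nat_lit 7) (Steps.bwd (nat_lit 2) (Steps.fwd (nat_lit 4096) (Steps.fwd (nat_lit 7168) (Steps.bwd (nat_lit 2) (Steps.bwd (nat_lit 3) Steps.nil)))))))) (nat_lit 23) (nat_lit 0),
  Rule.mk (nat_lit 7) (nat_lit 97) (Steps.bwd (nat_lit 3) (Steps.bwd (nat_lit 7) (Steps.bwd (nat_lit 2) (Steps.bwd (nat_lit 3) (Steps.bwd (nat_lit 7) (Steps.bwd (nat_lit 2) (Steps.fwd (nat_lit 4096) (Steps.bwd (nat_lit 2) Steps.nil)))))))) (nat_lit 23) (nat_lit 1),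
  Rule.mk (nat_lit 6) (nat_lit 108) (Steps.bwd (nat_lit 7) (Steps.fwd (nat_lit 4096) (Steps.bwd (nat_lit 1) (Steps.fwd (nat_lit 4096) (Steps.bwd (nat_lit 6) (Steps.bwd (nat_lit 7) (Steps.fwd (nat_lit 3072) (Steps.bwd (nat_lit 2) (Steps.fwd (nat_lit 3072) Steps.nil))))))))) (nat_lit 24) (nat_lit 8),
  Rule.mk (nat_lit 2) (nat_lit 64) (Steps.bwd (nat_lit 4) (Steps.bwd (nat_lit 1) (Steps.fwd (nat_lit 3072) (Steps.bwd (nat_lit 2) (Steps.bwd (nat_lit 3) Steps.nil))))) (nat_lit 5) (nat_lit 2)]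
noncomputable def R_3 : List (Rule) := [Rule.mk (nat_lit 7) (nat_lit 108) (Steps.fwd (nat_lit 3072) (Steps.bwd (nat_lit 2) (Steps.fwd (nat_lit 3072) (Steps.fwd (nat_lit 6144) (Steps.fwd (nat_lit 7168) (Steps.fwd (nat_lit 4096) (Steps.bwd (nat_lit 1) (Steps.fwd (nat_lit 4096) (Steps.bwd (nat_lit 6) Steps.nil))))))))) (nat_lit 24) (nat_lit 4),
  Rule.mk (nat_lit 3) (nat_lit 64) (Steps.bwd (nat_lit 2) (Steps.bwd (nat_lit 3) (Steps.fwd (nat_lit 2048) (Steps.fwd (nat_lit 3072) (Steps.fwd (nat_lit 2048) Steps.nil))))) (nat_lit 4) (nat_lit 2),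
  Rule.mk (nat_lit 4) (nat_lit 64) (Steps.bwd (nat_lit 2) (Steps.bwd (nat_lit 3) (Steps.bwd (nat_lit 2) (Steps.fwd (nat_lit 3072) (Steps.fwd (nat_lit 2048) Steps.nil))))) (nat_lit 5) (nat_lit 5),
  Rule.mk (nat_lit 7) (nat_lit 108) (Steps.bwd (nat_lit 3) (Steps.fwd (nat_lit 2048) (Steps.fwd (nat_lit 4096) (Steps.fwd (nat_lit 6144) (Steps.fwd (nat_lit 7168) (Steps.bwd (nat_lit 4) (Steps.bwd (nat_lit 2) (Steps.bwd (nat_lit 4) (Steps.fwd (nat_lit 6144) Steps.nil))))))))) (nat_lit 24) (nat_lit 9),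
  Rule.mk (nat_lit 6) (nat_lit 108) (Steps.bwd (nat_lit 7) (Steps.bwd (nat_lit 3) (Steps.fwd (nat_lit 2048) (Steps.fwd (nat_lit 4096) (Steps.bwd (nat_lit 6) (Steps.fwd (nat_lit 7168) (Steps.fwd (nat_lit 3072) (Steps.bwd (nat_lit 2) (Steps.bwd (nat_lit 4) Steps.nil))))))))) (nat_lit 24) (nat_lit 8),
  Rule.mk (nat_lit 7) (nat_lit 108) (Steps.fwd (nat_lit 4096) (Steps.bwd (nat_lit 1) (Steps.fwd (nat_lit 4096) (Steps.fwd (nat_lit 6144) (Steps.fwd (nat_lit 7168) (Steps.fwd (nat_lit 3072) (Steps.fwd (nat_lit 1024) (Steps.bwd (nat_lit 4) (Steps.bwd (nat_lit 6) Steps.nil))))))))) (nat_lit 24) (nat_lit 9),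
  Rule.mk (nat_lit 1) (nat_lit 97) (Steps.bwd (nat_lit 7) (Steps.fwd (nat_lit 3072) (Steps.bwd (nat_lit 7) (Steps.fwd (nat_lit 2048) (Steps.fwd (nat_lit 3072) (Steps.fwd (nat_lit 2048) (Steps.fwd (nat_lit 7168) (Steps.bwd (nat_lit 4) Steps.nil)))))))) (nat_lit 22) (nat_lit 6),
  Rule.mk (nat_lit 1) (nat_lit 42) (Steps.bwd (nat_lit 6) (Steps.fwd (nat_lit 1024) (Steps.fwd (nat_lit 6144) Steps.nil))) (nat_lit 14) (nat_lit 1),
  Rule.mk (nat_lit 4) (nat_lit 108) (Steps.bwd (nat_lit 6) (Steps.bwd (nat_lit 7) (Steps.fwd (nat_lit 4096) (Steps.bwd (nat_lit 1) (Steps.bwd (nat_lit 3) (Steps.bwd (nat_lit 6) (Steps.fwd (nat_lit 7168) (Steps.fwd (nat_lit 3072) (Steps.bwd (nat_lit 2) Steps.nil))))))))) (nat_lit 24) (nat_lit 7),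
  Rule.mk (nat_lit 3) (nat_lit 108) (Steps.bwd (nat_lit 6) (Steps.bwd (nat_lit 7) (Steps.fwd (nat_lit 3072) (Steps.bwd (nat_lit 2) (Steps.bwd (nat_lit 4) (Steps.fwd (nat_lit 6144) (Steps.fwd (nat_lit 7168) (Steps.bwd (nat_lit 3) (Steps.fwd (nat_lit 2048) Steps.nil))))))))) (nat_lit 24) (nat_lit 2),
  Rule.mk (nat_lit 1) (nat_lit 42) (Steps.bwd (nat_lit 6) (Steps.bwd (nat_lit 2) (Steps.fwd (nat_lit 6144) Steps.nil))) (nat_lit 14) (nat_lit 1),
  Rule.mk (nat_lit 3) (nat_lit 108) (Steps.bwd (nat_lit 6) (Steps.fwd (nat_lit 7168) (Steps.bwd (nat_lit 4) (Steps.bwd (nat_lit 2) (Steps.fwd (nat_lit 3072) (Steps.fwd (nat_lit 6144) (Steps.fwd (nat_lit 7168) (Steps.bwd (nat_lit 3) (Steps.bwd (nat_lit 1) Steps.nil))))))))) (nat_lit 24) (nat_lit 2),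
  Rule.mk (nat_lit 1) (nat_lit 42) (Steps.bwd (nat_lit 6) (Steps.fwd (nat_lit 1024) (Steps.bwd (nat_lit 6) Steps.nil))) (nat_lit 14) (nat_lit 1),
  Rule.mk (nat_lit 4) (nat_lit 108) (Steps.bwd (nat_lit 6) (Steps.fwd (nat_lit 7168) (Steps.bwd (nat_lit 3) (Steps.bwd (nat_lit 1) (Steps.bwd (nat_lit 3) (Steps.fwd (nat_lit 6144) (Steps.fwd (nat_lit 7168) (Steps.bwd (nat_lit 4) (Steps.bwd (nat_lit 2) Steps.nil))))))))) (nat_lit 24) (nat_lit 7),
  Rule.mk (nat_lit 7) (nat_lit 108) (Steps.bwd (nat_lit 6) (Steps.fwd (nat_lit 4096) (Steps.bwd (nat_lit 1) (Steps.bwd (nat_lit 3) (Steps.bwd (nat_lit 7) (Steps.fwd (nat_lit 6144) (Steps.bwd (nat_lit 4) (Steps.bwd (nat_lit 2) (Steps.fwd (nat_lit 3072) Steps.nil))))))))) (nat_lit 25) (nat_lit 2),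
  Rule.mk (nat_lit 1) (nat_lit 64) (Steps.bwd (nat_lit 3) (Steps.fwd (nat_lit 1024) (Steps.bwd (nat_lit 3) (Steps.bwd (nat_lit 1) (Steps.fwd (nat_lit 3072) Steps.nil))))) (nat_lit 4) (nat_lit 1),
  Rule.mk (nat_lit 6) (nat_lit 108) (Steps.bwd (nat_lit 7) (Steps.bwd (nat_lit 3) (Steps.fwd (nat_lit 2048) (Steps.bwd (nat_lit 3) (Steps.bwd (nat_lit 6) (Steps.fwd (nat_lit 7168) (Steps.bwd (nat_lit 4) (Steps.fwd (nat_lit 1024) (Steps.fwd (nat_lit 3072) Steps.nil))))))))) (nat_lit 24) (nat_lit 8),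
  Rule.mk (nat_lit 7) (nat_lit 108) (Steps.fwd (nat_lit 4096) (Steps.fwd (nat_lit 2048) (Steps.fwd (nat_lit 4096) (Steps.fwd (nat_lit 6144) (Steps.fwd (nat_lit 7168) (Steps.bwd (nat_lit 4) (Steps.fwd (nat_lit 1024) (Steps.fwd (nat_lit 3072) (Steps.bwd (nat_lit 6) Steps.nil))))))))) (nat_lit 24) (nat_lit 9),
  Rule.mk (nat_lit 3) (nat_lit 97) (Steps.bwd (nat_lit 7) (Steps.bwd (nat_lit 2) (Steps.fwd (nat_lit 4096) (Steps.bwd (nat_lit 2) (Steps.bwd (nat_lit 7) (Steps.bwd (nat_lit 3) (Steps.fwd (nat_lit 7168) (Steps.fwd (nat_lit 1024) Steps.nil)))))))) (nat_lit 23) (nat_lit 5),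
  Rule.mk (nat_lit 2) (nat_lit 97) (Steps.bwd (nat_lit 7) (Steps.fwd (nat_lit 4096) (Steps.bwd (nat_lit 7) (Steps.fwd (nat_lit 1024) (Steps.bwd (nat_lit 3) (Steps.fwd (nat_lit 7168) (Steps.fwd (nat_lit 1024) (Steps.bwd (nat_lit 3) Steps.nil)))))))) (nat_lit 23) (nat_lit 0),
  Rule.mk (nat_lit 3) (nat_lit 97) (Steps.bwd (nat_lit 7) (Steps.fwd (nat_lit 1024) (Steps.bwd (nat_lit 3) (Steps.bwd (nat_lit 2) (Steps.bwd (nat_lit 7) (Steps.fwd (nat_lit 4096) (Steps.fwd (nat_lit 7168) (Steps.bwd (nat_lit 2) Steps.nil)))))))) (nat_lit 23) (nat_lit 5),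
  Rule.mk (nat_lit 2) (nat_lit 97) (Steps.bwd (nat_lit 7) (Steps.bwd (nat_lit 3) (Steps.bwd (nat_lit 7) (Steps.bwd (nat_lit 2) (Steps.fwd (nat_lit 4096) (Steps.fwd (nat_lit 7168) (Steps.bwd (nat_lit 2) (Steps.bwd (nat_lit 3) Steps.nil)))))))) (nat_lit 23) (nat_lit 0),
  Rule.mk (nat_lit 3) (nat_lit 97) (Steps.bwd (nat_lit 7) (Steps.fwd (nat_lit 1024) (Steps.bwd (nat_lit 3) (Steps.bwd (nat_lit 2) (Steps.bwd (nat_lit 7) (Steps.bwd (nat_lit 3) (Steps.fwd (nat_lit 7168) (Steps.bwd (nat_lit 2) Steps.nil)))))))) (nat_lit 23) (nat_lit 5),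
  Rule.mk (nat_lit 2) (nat_lit 97) (Steps.bwd (nat_lit 7) (Steps.bwd (nat_lit 3) (Steps.bwd (nat_lit 7) (Steps.bwd (nat_lit 2) (Steps.bwd (nat_lit 3) (Steps.fwd (nat_lit 7168) (Steps.bwd (nat_lit 2) (Steps.bwd (nat_lit 3) Steps.nil)))))))) (nat_lit 23) (nat_lit 0),
  Rule.mk (nat_lit 3) (nat_lit 97) (Steps.bwd (nat_lit 7) (Steps.bwd (nat_lit 2) (Steps.bwd (nat_lit 3) (Steps.fwd (nat_lit 1024) (Steps.fwd (nat_lit 7168) (Steps.fwd (nat_lit 4096) (Steps.fwd (nat_lit 7168) (Steps.bwd (nat_lit 2) Steps.nil)))))))) (nat_lit 23) (nat_lit 5),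
  Rule.mk (nat_lit 2) (nat_lit 97) (Steps.bwd (nat_lit 7) (Steps.bwd (nat_lit 3) (Steps.fwd (nat_lit 7168) (Steps.bwd (nat_lit 2) (Steps.fwd (nat_lit 4096) (Steps.fwd (nat_lit 7168) (Steps.bwd (nat_lit 2) (Steps.bwd (nat_lit 3) Steps.nil)))))))) (nat_lit 23) (nat_lit 0),
  Rule.mk (nat_lit 4) (nat_lit 97) (Steps.bwd (nat_lit 7) (Steps.fwd (nat_lit 2048) (Steps.fwd (nat_lit 3072) (Steps.fwd (nat_lit 2048) (Steps.bwd (nat_lit 7) (Steps.bwd (nat_lit 4) (Steps.fwd (nat_lit 2048) (Steps.fwd (nat_lit 7168) Steps.nil)))))))) (nat_lit 22) (nat_lit 8),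
  Rule.mk (nat_lit 6) (nat_lit 108) (Steps.bwd (nat_lit 7) (Steps.bwd (nat_lit 4) (Steps.bwd (nat_lit 2) (Steps.fwd (nat_lit 3072) (Steps.bwd (nat_lit 6) (Steps.fwd (nat_lit 7168) (Steps.fwd (nat_lit 4096) (Steps.bwd (nat_lit 1) (Steps.fwd (nat_lit 4096) Steps.nil))))))))) (nat_lit 24) (nat_lit 3),
  Rule.mk (nat_lit 7) (nat_lit 108) (Steps.bwd (nat_lit 3) (Steps.bwd (nat_lit 1) (Steps.fwd (nat_lit 4096) (Steps.bwd (nat_lit 6) (Steps.fwd (nat_lit 7168) (Steps.bwd (nat_lit 4) (Steps.fwd (nat_lit 1024) (Steps.bwd (nat_lit 4) (Steps.fwd (nat_lit 6144) Steps.nil))))))))) (nat_lit 24) (nat_lit 9),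
  Rule.mk (nat_lit 6) (nat_lit 108) (Steps.bwd (nat_lit 7) (Steps.fwd (nat_lit 3072) (Steps.bwd (nat_lit 2) (Steps.fwd (nat_lit 3072) (Steps.fwd (nat_lit 6144) (Steps.fwd (nat_lit 7168) (Steps.fwd (nat_lit 4096) (Steps.bwd (nat_lit 1) (Steps.bwd (nat_lit 3) Steps.nil))))))))) (nat_lit 24) (nat_lit 3),
  Rule.mk (nat_lit 6) (nat_lit 218) (Steps.bwd (nat_lit 3) (Steps.fwd (nat_lit 6144) (Steps.fwd (nat_lit 3072) (Steps.bwd (nat_lit 6) (Steps.bwd (nat_lit 4) (Steps.bwd (nat_lit 7) (Steps.bwd (nat_lit 6) (Steps.bwd (nat_lit 1) (Steps.fwd (nat_lit 4096) (Steps.bwd (nat_lit 1) (Steps.bwd (nat_lit 5) (Steps.fwd (nat_lit 6144) (Steps.fwd (nat_lit 4096) (Steps.fwd (nat_lit 6144) (Steps.fwd (nat_lit 3072) (Steps.bwd (nat_lit 6) (Steps.bwd (nat_lit 4) (Steps.bwd (nat_lit 7) (Steps.fwd (nat_lit 4096) Steps.nil))))))))))))))))))) (nat_lit 26) (nat_lit 13),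
  Rule.mk (nat_lit 6) (nat_lit 108) (Steps.bwd (nat_lit 3) (Steps.bwd (nat_lit 1) (Steps.bwd (nat_lit 3) (Steps.bwd (nat_lit 7) (Steps.bwd (nat_lit 6) (Steps.bwd (nat_lit 4) (Steps.fwd (nat_lit 1024) (Steps.fwd (nat_lit 3072) (Steps.bwd (nat_lit 7) Steps.nil))))))))) (nat_lit 25) (nat_lit 3),
  Rule.mk (nat_lit 7) (nat_lit 108) (Steps.fwd (nat_lit 3072) (Steps.fwd (nat_lit 1024) (Steps.bwd (nat_lit 4) (Steps.bwd (nat_lit 6) (Steps.bwd (nat_lit 7) (Steps.fwd (nat_lit 4096) (Steps.fwd (nat_lit 2048) (Steps.bwd (nat_lit 3) (Steps.bwd (nat_lit 6) Steps.nil))))))))) (nat_lit 24) (nat_lit 4),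
  Rule.mk (nat_lit 1) (nat_lit 64) (Steps.bwd (nat_lit 4) (Steps.bwd (nat_lit 1) (Steps.fwd (nat_lit 4096) (Steps.fwd (nat_lit 1024) (Steps.bwd (nat_lit 3) Steps.nil))))) (nat_lit 4) (nat_lit 5),
  Rule.mk (nat_lit 2) (nat_lit 64) (Steps.bwd (nat_lit 4) (Steps.bwd (nat_lit 1) (Steps.bwd (nat_lit 4) (Steps.bwd (nat_lit 2) (Steps.bwd (nat_lit 3) Steps.nil))))) (nat_lit 5) (nat_lit 2),
  Rule.mk (nat_lit 7) (nat_lit 97) (Steps.bwd (nat_lit 4) (Steps.fwd (nat_lit 7168) (Steps.fwd (nat_lit 2048) (Steps.bwd (nat_lit 4) (Steps.fwd (nat_lit 2048) (Steps.bwd (nat_lit 7) (Steps.fwd (nat_lit 3072) (Steps.fwd (nat_lit 2048) Steps.nil)))))))) (nat_lit 22) (nat_lit 7),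
  Rule.mk (nat_lit 6) (nat_lit 108) (Steps.bwd (nat_lit 7) (Steps.bwd (nat_lit 3) (Steps.bwd (nat_lit 1) (Steps.bwd (nat_lit 3) (Steps.bwd (nat_lit 6) (Steps.fwd (nat_lit 7168) (Steps.fwd (nat_lit 3072) (Steps.fwd (nat_lit 1024) (Steps.bwd (nat_lit 4) Steps.nil))))))))) (nat_lit 24) (nat_lit 8),
  Rule.mk (nat_lit 1) (nat_lit 42) (Steps.fwd (nat_lit 6144) (Steps.bwd (nat_lit 2) (Steps.bwd (nat_lit 6) Steps.nil))) (nat_lit 14) (nat_lit 1),
  Rule.mk (nat_lit 1) (nat_lit 64) (Steps.bwd (nat_lit 4) (Steps.bwd (nat_lit 1) (Steps.bwd (nat_lit 3) (Steps.bwd (nat_lit 2) (Steps.bwd (nat_lit 3) Steps.nil))))) (nat_lit 4) (nat_lit 5),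
  Rule.mk (nat_lit 7) (nat_lit 97) (Steps.bwd (nat_lit 4) (Steps.bwd (nat_lit 7) (Steps.fwd (nat_lit 2048) (Steps.fwd (nat_lit 3072) (Steps.fwd (nat_lit 2048) (Steps.bwd (nat_lit 7) (Steps.fwd (nat_lit 3072) (Steps.fwd (nat_lit 2048) Steps.nil)))))))) (nat_lit 22) (nat_lit 7),
  Rule.mk (nat_lit 6) (nat_lit 108) (Steps.bwd (nat_lit 7) (Steps.fwd (nat_lit 4096) (Steps.bwd (nat_lit 1) (Steps.bwd (nat_lit 3) (Steps.bwd (nat_lit 6) (Steps.bwd (nat_lit 7) (Steps.bwd (nat_lit 4) (Steps.bwd (nat_lit 2) (Steps.bwd (nat_lit 4) Steps.nil))))))))) (nat_lit 24) (nat_lit 8),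
  Rule.mk (nat_lit 2) (nat_lit 108) (Steps.bwd (nat_lit 4) (Steps.bwd (nat_lit 7) (Steps.fwd (nat_lit 6144) (Steps.fwd (nat_lit 4096) (Steps.fwd (nat_lit 2048) (Steps.fwd (nat_lit 4096) (Steps.fwd (nat_lit 7168) (Steps.bwd (nat_lit 6) (Steps.fwd (nat_lit 3072) Steps.nil))))))))) (nat_lit 25) (nat_lit 0),
  Rule.mk (nat_lit 2) (nat_lit 64) (Steps.bwd (nat_lit 4) (Steps.bwd (nat_lit 1) (Steps.bwd (nat_lit 4) (Steps.bwd (nat_lit 2) (Steps.fwd (nat_lit 4096) Steps.nil))))) (nat_lit 5) (nat_lit 2),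
  Rule.mk (nat_lit 7) (nat_lit 108) (Steps.bwd (nat_lit 6) (Steps.bwd (nat_lit 4) (Steps.fwd (nat_lit 1024) (Steps.bwd (nat_lit 4) (Steps.bwd (nat_lit 7) (Steps.fwd (nat_lit 6144) (Steps.fwd (nat_lit 4096) (Steps.fwd (nat_lit 2048) (Steps.fwd (nat_lit 4096) Steps.nil))))))))) (nat_lit 25) (nat_lit 7),
  Rule.mk (nat_lit 1) (nat_lit 64) (Steps.bwd (nat_lit 4) (Steps.fwd (nat_lit 2048) (Steps.bwd (nat_lit 3) (Steps.bwd (nat_lit 2) (Steps.bwd (nat_lit 3) Steps.nil))))) (nat_lit 4) (nat_lit 5),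
  Rule.mk (nat_lit 7) (nat_lit 97) (Steps.bwd (nat_lit 4) (Steps.fwd (nat_lit 7168) (Steps.bwd (nat_lit 1) (Steps.bwd (nat_lit 4) (Steps.fwd (nat_lit 2048) (Steps.fwd (nat_lit 7168) (Steps.bwd (nat_lit 4) (Steps.bwd (nat_lit 1) Steps.nil)))))))) (nat_lit 22) (nat_lit 7),
  Rule.mk (nat_lit 2) (nat_lit 108) (Steps.bwd (nat_lit 4) (Steps.fwd (nat_lit 7168) (Steps.fwd (nat_lit 6144) (Steps.bwd (nat_lit 3) (Steps.bwd (nat_lit 1) (Steps.fwd (nat_lit 4096) (Steps.fwd (nat_lit 7168) (Steps.bwd (nat_lit 6) (Steps.fwd (nat_lit 3072) Steps.nil))))))))) (nat_lit 25) (nat_lit 0),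
  Rule.mk (nat_lit 7) (nat_lit 108) (Steps.bwd (nat_lit 6) (Steps.fwd (nat_lit 3072) (Steps.fwd (nat_lit 1024) (Steps.bwd (nat_lit 4) (Steps.fwd (nat_lit 7168) (Steps.bwd (nat_lit 6) (Steps.bwd (nat_lit 3) (Steps.fwd (nat_lit 2048) (Steps.bwd (nat_lit 3) Steps.nil))))))))) (nat_lit 25) (nat_lit 7),
  Rule.mk (nat_lit 4) (nat_lit 108) (Steps.bwd (nat_lit 6) (Steps.bwd (nat_lit 7) (Steps.bwd (nat_lit 3) (Steps.fwd (nat_lit 2048) (Steps.fwd (nat_lit 4096) (Steps.fwd (nat_lit 6144) (Steps.fwd (nat_lit 7168) (Steps.fwd (nat_lit 3072) (Steps.bwd (nat_lit 2) Steps.nil))))))))) (nat_lit 24) (nat_lit 7),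
  Rule.mk (nat_lit 7) (nat_lit 97) (Steps.bwd (nat_lit 4) (Steps.fwd (nat_lit 2048) (Steps.bwd (nat_lit 7) (Steps.fwd (nat_lit 3072) (Steps.bwd (nat_lit 7) (Steps.fwd (nat_lit 2048) (Steps.bwd (nat_lit 4) (Steps.fwd (nat_lit 2048) Steps.nil)))))))) (nat_lit 22) (nat_lit 4),
  Rule.mk (nat_lit 7) (nat_lit 108) (Steps.bwd (nat_lit 6) (Steps.bwd (nat_lit 4) (Steps.fwd (nat_lit 1024) (Steps.fwd (nat_lit 3072) (Steps.bwd (nat_lit 7) (Steps.bwd (nat_lit 6) (Steps.bwd (nat_lit 3) (Steps.fwd (nat_lit 2048) (Steps.fwd (nat_lit 4096) Steps.nil))))))))) (nat_lit 25) (nat_lit 7),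
  Rule.mk (nat_lit 7) (nat_lit 97) (Steps.fwd (nat_lit 2048) (Steps.fwd (nat_lit 3072) (Steps.fwd (nat_lit 2048) (Steps.bwd (nat_lit 7) (Steps.bwd (nat_lit 4) (Steps.fwd (nat_lit 2048) (Steps.bwd (nat_lit 7) (Steps.bwd (nat_lit 4) Steps.nil)))))))) (nat_lit 22) (nat_lit 0),
  Rule.mk (nat_lit 4) (nat_lit 108) (Steps.bwd (nat_lit 6) (Steps.bwd (nat_lit 7) (Steps.fwd (nat_lit 4096) (Steps.bwd (nat_lit 1) (Steps.bwd (nat_lit 3) (Steps.bwd (nat_lit 6) (Steps.fwd (nat_lit 7168) (Steps.bwd (nat_lit 4) (Steps.bwd (nat_lit 2) Steps.nil))))))))) (nat_lit 24) (nat_lit 7),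
  Rule.mk (nat_lit 3) (nat_lit 108) (Steps.bwd (nat_lit 6) (Steps.bwd (nat_lit 7) (Steps.bwd (nat_lit 4) (Steps.bwd (nat_lit 2) (Steps.fwd (nat_lit 3072) (Steps.fwd (nat_lit 6144) (Steps.fwd (nat_lit 7168) (Steps.bwd (nat_lit 3) (Steps.fwd (nat_lit 2048) Steps.nil))))))))) (nat_lit 24) (nat_lit 2),
  Rule.mk (nat_lit 4) (nat_lit 196) (Steps.fwd (nat_lit 1024) (Steps.bwd (nat_lit 6) (Steps.bwd (nat_lit 3) (Steps.bwd (nat_lit 6) (Steps.bwd (nat_lit 3) (Steps.bwd (nat_lit 1) (Steps.bwd (nat_lit 6) (Steps.fwd (nat_lit 4096) (Steps.bwd (nat_lit 6) (Steps.bwd (nat_lit 4) (Steps.bwd (nat_lit 6) (Steps.fwd (nat_lit 1024) (Steps.fwd (nat_lit 4096) (Steps.fwd (nat_lit 6144) (Steps.bwd (nat_lit 4) (Steps.bwd (nat_lit 6) (Steps.fwd (nat_lit 1024) Steps.nil))))))))))))))))) (nat_lit 19) (nat_lit 17),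
  Rule.mk (nat_lit 7) (nat_lit 97) (Steps.bwd (nat_lit 4) (Steps.fwd (nat_lit 2048) (Steps.fwd (nat_lit 7168) (Steps.bwd (nat_lit 4) (Steps.fwd (nat_lit 7168) (Steps.fwd (nat_lit 2048) (Steps.fwd (nat_lit 3072) (Steps.fwd (nat_lit 2048) Steps.nil)))))))) (nat_lit 22) (nat_lit 4),
  Rule.mk (nat_lit 7) (nat_lit 97) (Steps.fwd (nat_lit 1024) (Steps.fwd (nat_lit 4096) (Steps.bwd (nat_lit 2) (Steps.fwd (nat_lit 7168) (Steps.bwd (nat_lit 3) (Steps.fwd (nat_lit 7168) (Steps.bwd (nat_lit 2) (Steps.bwd (nat_lit 3) Steps.nil)))))))) (nat_lit 23) (nat_lit 6),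
  Rule.mk (nat_lit 5) (nat_lit 218) (Steps.fwd (nat_lit 6144) (Steps.bwd (nat_lit 3) (Steps.bwd (nat_lit 6) (Steps.fwd (nat_lit 3072) (Steps.fwd (nat_lit 6144) (Steps.bwd (nat_lit 4) (Steps.fwd (nat_lit 7168) (Steps.fwd (nat_lit 4096) (Steps.fwd (nat_lit 6144) (Steps.bwd (nat_lit 3) (Steps.bwd (nat_lit 6) (Steps.bwd (nat_lit 4) (Steps.bwd (nat_lit 6) (Steps.fwd (nat_lit 3072) (Steps.bwd (nat_lit 7) (Steps.bwd (nat_lit 6) (Steps.fwd (nat_lit 2048) (Steps.bwd (nat_lit 3) (Steps.fwd (nat_lit 2048) Steps.nil))))))))))))))))))) (nat_lit 26) (nat_lit 4),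
  Rule.mk (nat_lit 5) (nat_lit 42) (Steps.fwd (nat_lit 2048) (Steps.bwd (nat_lit 5) (Steps.bwd (nat_lit 1) Steps.nil))) (nat_lit 8) (nat_lit 0),
  Rule.mk (nat_lit 5) (nat_lit 42) (Steps.fwd (nat_lit 4096) (Steps.bwd (nat_lit 5) (Steps.fwd (nat_lit 4096) Steps.nil))) (nat_lit 10) (nat_lit 0),
  Rule.mk (nat_lit 5) (nat_lit 42) (Steps.fwd (nat_lit 3072) (Steps.bwd (nat_lit 5) (Steps.bwd (nat_lit 4) Steps.nil))) (nat_lit 11) (nat_lit 1),
  Rule.mk (nat_lit 5) (nat_lit 42) (Steps.fwd (nat_lit 6144) (Steps.bwd (nat_lit 5) (Steps.fwd (nat_lit 6144) Steps.nil))) (nat_lit 16) (nat_lit 1),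
  Rule.mk (nat_lit 5) (nat_lit 42) (Steps.bwd (nat_lit 1) (Steps.bwd (nat_lit 5) (Steps.bwd (nat_lit 1) Steps.nil))) (nat_lit 8) (nat_lit 0),
  Rule.mk (nat_lit 5) (nat_lit 42) (Steps.fwd (nat_lit 1024) (Steps.bwd (nat_lit 5) (Steps.fwd (nat_lit 1024) Steps.nil))) (nat_lit 9) (nat_lit 1)]
noncomputable def R_4 : List (Rule) := [Rule.mk (nat_lit 5) (nat_lit 42) (Steps.fwd (nat_lit 3072) (Steps.bwd (nat_lit 5) (Steps.fwd (nat_lit 3072) Steps.nil))) (nat_lit 11) (nat_lit 1),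
  Rule.mk (nat_lit 5) (nat_lit 42) (Steps.bwd (nat_lit 3) (Steps.bwd (nat_lit 5) (Steps.fwd (nat_lit 4096) Steps.nil))) (nat_lit 10) (nat_lit 0),
  Rule.mk (nat_lit 5) (nat_lit 42) (Steps.fwd (nat_lit 2048) (Steps.bwd (nat_lit 5) (Steps.fwd (nat_lit 2048) Steps.nil))) (nat_lit 8) (nat_lit 0),
  Rule.mk (nat_lit 5) (nat_lit 42) (Steps.fwd (nat_lit 6144) (Steps.bwd (nat_lit 5) (Steps.bwd (nat_lit 6) Steps.nil))) (nat_lit 16) (nat_lit 1),
  Rule.mk (nat_lit 5) (nat_lit 42) (Steps.bwd (nat_lit 6) (Steps.bwd (nat_lit 5) (Steps.fwd (nat_lit 6144) Steps.nil))) (nat_lit 16) (nat_lit 1),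
  Rule.mk (nat_lit 4) (nat_lit 97) (Steps.bwd (nat_lit 7) (Steps.fwd (nat_lit 2048) (Steps.bwd (nat_lit 4) (Steps.fwd (nat_lit 2048) (Steps.bwd (nat_lit 7) (Steps.bwd (nat_lit 4) (Steps.bwd (nat_lit 1) (Steps.fwd (nat_lit 7168) Steps.nil)))))))) (nat_lit 22) (nat_lit 8),
  Rule.mk (nat_lit 3) (nat_lit 97) (Steps.bwd (nat_lit 7) (Steps.fwd (nat_lit 1024) (Steps.fwd (nat_lit 4096) (Steps.bwd (nat_lit 2) (Steps.bwd (nat_lit 7) (Steps.fwd (nat_lit 4096) (Steps.fwd (nat_lit 7168) (Steps.fwd (nat_lit 1024) Steps.nil)))))))) (nat_lit 23) (nat_lit 5),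
  Rule.mk (nat_lit 6) (nat_lit 196) (Steps.bwd (nat_lit 3) (Steps.bwd (nat_lit 1) (Steps.fwd (nat_lit 6144) (Steps.bwd (nat_lit 3) (Steps.bwd (nat_lit 6) (Steps.fwd (nat_lit 3072) (Steps.fwd (nat_lit 6144) (Steps.fwd (nat_lit 1024) (Steps.bwd (nat_lit 3) (Steps.bwd (nat_lit 6) (Steps.bwd (nat_lit 4) (Steps.bwd (nat_lit 6) (Steps.bwd (nat_lit 2) (Steps.bwd (nat_lit 4) (Steps.bwd (nat_lit 2) (Steps.bwd (nat_lit 6) (Steps.bwd (nat_lit 3) Steps.nil))))))))))))))))) (nat_lit 19) (nat_lit 3),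
  Rule.mk (nat_lit 7) (nat_lit 97) (Steps.bwd (nat_lit 4) (Steps.bwd (nat_lit 7) (Steps.fwd (nat_lit 2048) (Steps.bwd (nat_lit 4) (Steps.fwd (nat_lit 2048) (Steps.fwd (nat_lit 7168) (Steps.bwd (nat_lit 4) (Steps.bwd (nat_lit 1) Steps.nil)))))))) (nat_lit 22) (nat_lit 7),
  Rule.mk (nat_lit 6) (nat_lit 108) (Steps.bwd (nat_lit 4) (Steps.bwd (nat_lit 2) (Steps.bwd (nat_lit 4) (Steps.fwd (nat_lit 7168) (Steps.bwd (nat_lit 6) (Steps.bwd (nat_lit 3) (Steps.bwd (nat_lit 1) (Steps.fwd (nat_lit 4096) (Steps.fwd (nat_lit 7168) Steps.nil))))))))) (nat_lit 25) (nat_lit 8),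
  Rule.mk (nat_lit 2) (nat_lit 64) (Steps.bwd (nat_lit 4) (Steps.bwd (nat_lit 1) (Steps.fwd (nat_lit 3072) (Steps.bwd (nat_lit 2) (Steps.fwd (nat_lit 4096) Steps.nil))))) (nat_lit 5) (nat_lit 2),
  Rule.mk (nat_lit 7) (nat_lit 97) (Steps.bwd (nat_lit 4) (Steps.bwd (nat_lit 7) (Steps.bwd (nat_lit 1) (Steps.bwd (nat_lit 4) (Steps.bwd (nat_lit 1) (Steps.fwd (nat_lit 7168) (Steps.bwd (nat_lit 4) (Steps.fwd (nat_lit 2048) Steps.nil)))))))) (nat_lit 22) (nat_lit 7),
  Rule.mk (nat_lit 6) (nat_lit 108) (Steps.bwd (nat_lit 4) (Steps.bwd (nat_lit 2) (Steps.bwd (nat_lit 4) (Steps.bwd (nat_lit 7) (Steps.fwd (nat_lit 6144) (Steps.bwd (nat_lit 3) (Steps.fwd (nat_lit 2048) (Steps.fwd (nat_lit 4096) (Steps.fwd (nat_lit 7168) Steps.nil))))))))) (nat_lit 25) (nat_lit 8),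
  Rule.mk (nat_lit 7) (nat_lit 97) (Steps.bwd (nat_lit 4) (Steps.bwd (nat_lit 1) (Steps.fwd (nat_lit 7168) (Steps.fwd (nat_lit 3072) (Steps.bwd (nat_lit 7) (Steps.bwd (nat_lit 1) (Steps.bwd (nat_lit 4) (Steps.fwd (nat_lit 2048) Steps.nil)))))))) (nat_lit 22) (nat_lit 4),
  Rule.mk (nat_lit 6) (nat_lit 108) (Steps.fwd (nat_lit 4096) (Steps.bwd (nat_lit 1) (Steps.bwd (nat_lit 3) (Steps.fwd (nat_lit 7168) (Steps.bwd (nat_lit 6) (Steps.bwd (nat_lit 4) (Steps.bwd (nat_lit 2) (Steps.fwd (nat_lit 3072) (Steps.fwd (nat_lit 7168) Steps.nil))))))))) (nat_lit 25) (nat_lit 3),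
  Rule.mk (nat_lit 6) (nat_lit 196) (Steps.bwd (nat_lit 3) (Steps.bwd (nat_lit 6) (Steps.bwd (nat_lit 4) (Steps.fwd (nat_lit 6144) (Steps.fwd (nat_lit 1024) (Steps.fwd (nat_lit 3072) (Steps.fwd (nat_lit 6144) (Steps.bwd (nat_lit 4) (Steps.bwd (nat_lit 6) (Steps.bwd (nat_lit 1) (Steps.fwd (nat_lit 4096) (Steps.fwd (nat_lit 2048) (Steps.bwd (nat_lit 6) (Steps.fwd (nat_lit 4096) (Steps.bwd (nat_lit 6) (Steps.bwd (nat_lit 4) (Steps.fwd (nat_lit 2048) Steps.nil))))))))))))))))) (nat_lit 18) (nat_lit 9),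
  Rule.mk (nat_lit 7) (nat_lit 108) (Steps.fwd (nat_lit 6144) (Steps.bwd (nat_lit 4) (Steps.fwd (nat_lit 1024) (Steps.bwd (nat_lit 4) (Steps.bwd (nat_lit 7) (Steps.bwd (nat_lit 6) (Steps.bwd (nat_lit 3) (Steps.bwd (nat_lit 1) (Steps.bwd (nat_lit 3) Steps.nil))))))))) (nat_lit 25) (nat_lit 7),
  Rule.mk (nat_lit 6) (nat_lit 196) (Steps.bwd (nat_lit 3) (Steps.bwd (nat_lit 1) (Steps.fwd (nat_lit 6144) (Steps.bwd (nat_lit 3) (Steps.bwd (nat_lit 6) (Steps.bwd (nat_lit 4) (Steps.bwd (nat_lit 6) (Steps.bwd (nat_lit 2) (Steps.fwd (nat_lit 4096) (Steps.fwd (nat_lit 6144) (Steps.bwd (nat_lit 4) (Steps.bwd (nat_lit 6) (Steps.fwd (nat_lit 1024) (Steps.bwd (nat_lit 4) (Steps.fwd (nat_lit 1024) (Steps.fwd (nat_lit 6144) (Steps.bwd (nat_lit 3) Steps.nil))))))))))))))))) (nat_lit 19) (nat_lit 3),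
  Rule.mk (nat_lit 3) (nat_lit 108) (Steps.bwd (nat_lit 7) (Steps.fwd (nat_lit 6144) (Steps.bwd (nat_lit 4) (Steps.bwd (nat_lit 2) (Steps.fwd (nat_lit 3072) (Steps.fwd (nat_lit 7168) (Steps.bwd (nat_lit 6) (Steps.bwd (nat_lit 3) (Steps.bwd (nat_lit 1) Steps.nil))))))))) (nat_lit 25) (nat_lit 6),
  Rule.mk (nat_lit 7) (nat_lit 97) (Steps.bwd (nat_lit 1) (Steps.fwd (nat_lit 3072) (Steps.bwd (nat_lit 1) (Steps.fwd (nat_lit 7168) (Steps.fwd (nat_lit 3072) (Steps.bwd (nat_lit 1) (Steps.fwd (nat_lit 7168) (Steps.fwd (nat_lit 3072) Steps.nil)))))))) (nat_lit 22) (nat_lit 0),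
  Rule.mk (nat_lit 7) (nat_lit 108) (Steps.bwd (nat_lit 3) (Steps.fwd (nat_lit 2048) (Steps.fwd (nat_lit 4096) (Steps.fwd (nat_lit 6144) (Steps.bwd (nat_lit 7) (Steps.bwd (nat_lit 4) (Steps.bwd (nat_lit 2) (Steps.bwd (nat_lit 4) (Steps.fwd (nat_lit 6144) Steps.nil))))))))) (nat_lit 24) (nat_lit 9),
  Rule.mk (nat_lit 0) (nat_lit 108) (Steps.bwd (nat_lit 2) (Steps.bwd (nat_lit 3) (Steps.fwd (nat_lit 7168) (Steps.fwd (nat_lit 1024) (Steps.fwd (nat_lit 4096) (Steps.bwd (nat_lit 2) (Steps.fwd (nat_lit 7168) (Steps.bwd (nat_lit 3) (Steps.fwd (nat_lit 7168) Steps.nil))))))))) (nat_lit 23) (nat_lit 3),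
  Rule.mk (nat_lit 4) (nat_lit 31) (Steps.bwd (nat_lit 0) (Steps.fwd (nat_lit 4096) Steps.nil)) (nat_lit 28) (nat_lit 0),
  Rule.mk (nat_lit 7) (nat_lit 108) (Steps.fwd (nat_lit 4096) (Steps.fwd (nat_lit 2048) (Steps.fwd (nat_lit 4096) (Steps.fwd (nat_lit 6144) (Steps.bwd (nat_lit 7) (Steps.fwd (nat_lit 3072) (Steps.bwd (nat_lit 2) (Steps.bwd (nat_lit 4) (Steps.bwd (nat_lit 6) Steps.nil))))))))) (nat_lit 24) (nat_lit 9),
  Rule.mk (nat_lit 0) (nat_lit 108) (Steps.fwd (nat_lit 2048) (Steps.fwd (nat_lit 3072) (Steps.bwd (nat_lit 1) (Steps.bwd (nat_lit 7) (Steps.fwd (nat_lit 3072) (Steps.fwd (nat_lit 2048) (Steps.bwd (nat_lit 7) (Steps.bwd (nat_lit 4) (Steps.fwd (nat_lit 7168) Steps.nil))))))))) (nat_lit 22) (nat_lit 0),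
  Rule.mk (nat_lit 3) (nat_lit 31) (Steps.bwd (nat_lit 0) (Steps.bwd (nat_lit 4) Steps.nil)) (nat_lit 28) (nat_lit 0),
  Rule.mk (nat_lit 5) (nat_lit 42) (Steps.fwd (nat_lit 4096) (Steps.bwd (nat_lit 5) (Steps.bwd (nat_lit 3) Steps.nil))) (nat_lit 10) (nat_lit 0),
  Rule.mk (nat_lit 2) (nat_lit 64) (Steps.bwd (nat_lit 3) (Steps.bwd (nat_lit 1) (Steps.fwd (nat_lit 3072) (Steps.bwd (nat_lit 1) (Steps.bwd (nat_lit 3) Steps.nil))))) (nat_lit 4) (nat_lit 3),
  Rule.mk (nat_lit 2) (nat_lit 42) (Steps.bwd (nat_lit 5) (Steps.fwd (nat_lit 1024) (Steps.bwd (nat_lit 5) Steps.nil))) (nat_lit 9) (nat_lit 0),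
  Rule.mk (nat_lit 3) (nat_lit 42) (Steps.bwd (nat_lit 5) (Steps.fwd (nat_lit 4096) (Steps.fwd (nat_lit 5120) Steps.nil))) (nat_lit 10) (nat_lit 1),
  Rule.mk (nat_lit 4) (nat_lit 42) (Steps.bwd (nat_lit 5) (Steps.bwd (nat_lit 4) (Steps.bwd (nat_lit 5) Steps.nil))) (nat_lit 11) (nat_lit 0),
  Rule.mk (nat_lit 6) (nat_lit 42) (Steps.bwd (nat_lit 5) (Steps.bwd (nat_lit 6) (Steps.bwd (nat_lit 5) Steps.nil))) (nat_lit 16) (nat_lit 0),
  Rule.mk (nat_lit 7) (nat_lit 108) (Steps.bwd (nat_lit 3) (Steps.bwd (nat_lit 1) (Steps.fwd (nat_lit 4096) (Steps.bwd (nat_lit 6) (Steps.bwd (nat_lit 7) (Steps.bwd (nat_lit 4) (Steps.bwd (nat_lit 2) (Steps.fwd (nat_lit 3072) (Steps.bwd (nat_lit 6) Steps.nil))))))))) (nat_lit 24) (nat_lit 9),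
  Rule.mk (nat_lit 7) (nat_lit 97) (Steps.bwd (nat_lit 2) (Steps.bwd (nat_lit 3) (Steps.fwd (nat_lit 1024) (Steps.fwd (nat_lit 7168) (Steps.bwd (nat_lit 3) (Steps.bwd (nat_lit 7) (Steps.fwd (nat_lit 1024) (Steps.fwd (nat_lit 4096) Steps.nil)))))))) (nat_lit 23) (nat_lit 6),
  Rule.mk (nat_lit 7) (nat_lit 97) (Steps.bwd (nat_lit 2) (Steps.bwd (nat_lit 3) (Steps.bwd (nat_lit 2) (Steps.fwd (nat_lit 7168) (Steps.fwd (nat_lit 4096) (Steps.bwd (nat_lit 7) (Steps.bwd (nat_lit 2) (Steps.bwd (nat_lit 3) Steps.nil)))))))) (nat_lit 23) (nat_lit 6),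
  Rule.mk (nat_lit 4) (nat_lit 97) (Steps.bwd (nat_lit 7) (Steps.bwd (nat_lit 1) (Steps.fwd (nat_lit 3072) (Steps.fwd (nat_lit 2048) (Steps.fwd (nat_lit 7168) (Steps.fwd (nat_lit 3072) (Steps.bwd (nat_lit 1) (Steps.bwd (nat_lit 7) Steps.nil)))))))) (nat_lit 22) (nat_lit 8),
  Rule.mk (nat_lit 4) (nat_lit 42) (Steps.bwd (nat_lit 5) (Steps.fwd (nat_lit 3072) (Steps.fwd (nat_lit 5120) Steps.nil))) (nat_lit 11) (nat_lit 0),
  Rule.mk (nat_lit 7) (nat_lit 97) (Steps.bwd (nat_lit 1) (Steps.bwd (nat_lit 4) (Steps.bwd (nat_lit 1) (Steps.bwd (nat_lit 7) (Steps.bwd (nat_lit 4) (Steps.fwd (nat_lit 2048) (Steps.fwd (nat_lit 7168) (Steps.bwd (nat_lit 4) Steps.nil)))))))) (nat_lit 22) (nat_lit 0),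
  Rule.mk (nat_lit 1) (nat_lit 97) (Steps.bwd (nat_lit 7) (Steps.bwd (nat_lit 4) (Steps.bwd (nat_lit 7) (Steps.fwd (nat_lit 2048) (Steps.bwd (nat_lit 4) (Steps.fwd (nat_lit 2048) (Steps.fwd (nat_lit 7168) (Steps.bwd (nat_lit 4) Steps.nil)))))))) (nat_lit 22) (nat_lit 6),
  Rule.mk (nat_lit 3) (nat_lit 97) (Steps.bwd (nat_lit 7) (Steps.fwd (nat_lit 1024) (Steps.bwd (nat_lit 3) (Steps.fwd (nat_lit 1024) (Steps.bwd (nat_lit 7) (Steps.bwd (nat_lit 3) (Steps.fwd (nat_lit 7168) (Steps.fwd (nat_lit 1024) Steps.nil)))))))) (nat_lit 23) (nat_lit 5),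
  Rule.mk (nat_lit 4) (nat_lit 108) (Steps.bwd (nat_lit 7) (Steps.fwd (nat_lit 6144) (Steps.bwd (nat_lit 3) (Steps.fwd (nat_lit 2048) (Steps.bwd (nat_lit 3) (Steps.bwd (nat_lit 7) (Steps.bwd (nat_lit 6) (Steps.fwd (nat_lit 3072) (Steps.fwd (nat_lit 1024) Steps.nil))))))))) (nat_lit 25) (nat_lit 1),
  Rule.mk (nat_lit 3) (nat_lit 64) (Steps.bwd (nat_lit 1) (Steps.bwd (nat_lit 4) (Steps.bwd (nat_lit 1) (Steps.fwd (nat_lit 4096) (Steps.fwd (nat_lit 1024) Steps.nil))))) (nat_lit 4) (nat_lit 4),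
  Rule.mk (nat_lit 4) (nat_lit 64) (Steps.bwd (nat_lit 1) (Steps.fwd (nat_lit 4096) (Steps.bwd (nat_lit 2) (Steps.bwd (nat_lit 3) (Steps.fwd (nat_lit 2048) Steps.nil))))) (nat_lit 4) (nat_lit 0),
  Rule.mk (nat_lit 7) (nat_lit 97) (Steps.bwd (nat_lit 1) (Steps.bwd (nat_lit 4) (Steps.bwd (nat_lit 1) (Steps.bwd (nat_lit 7) (Steps.bwd (nat_lit 4) (Steps.bwd (nat_lit 1) (Steps.bwd (nat_lit 7) (Steps.bwd (nat_lit 4) Steps.nil)))))))) (nat_lit 22) (nat_lit 0),
  Rule.mk (nat_lit 7) (nat_lit 97) (Steps.fwd (nat_lit 3072) (Steps.fwd (nat_lit 2048) (Steps.fwd (nat_lit 7168) (Steps.fwd (nat_lit 3072) (Steps.fwd (nat_lit 7168) (Steps.fwd (nat_lit 2048) (Steps.bwd (nat_lit 4) (Steps.bwd (nat_lit 1) Steps.nil)))))))) (nat_lit 22) (nat_lit 4),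
  Rule.mk (nat_lit 6) (nat_lit 108) (Steps.bwd (nat_lit 4) (Steps.fwd (nat_lit 1024) (Steps.bwd (nat_lit 4) (Steps.fwd (nat_lit 7168) (Steps.bwd (nat_lit 6) (Steps.fwd (nat_lit 4096) (Steps.bwd (nat_lit 1) (Steps.bwd (nat_lit 3) (Steps.fwd (nat_lit 7168) Steps.nil))))))))) (nat_lit 25) (nat_lit 8),
  Rule.mk (nat_lit 6) (nat_lit 42) (Steps.bwd (nat_lit 5) (Steps.fwd (nat_lit 6144) (Steps.fwd (nat_lit 5120) Steps.nil))) (nat_lit 16) (nat_lit 0),
  Rule.mk (nat_lit 7) (nat_lit 108) (Steps.bwd (nat_lit 6) (Steps.fwd (nat_lit 4096) (Steps.fwd (nat_lit 2048) (Steps.bwd (nat_lit 3) (Steps.bwd (nat_lit 7) (Steps.fwd (nat_lit 6144) (Steps.bwd (nat_lit 4) (Steps.fwd (nat_lit 1024) (Steps.bwd (nat_lit 4) Steps.nil))))))))) (nat_lit 25) (nat_lit 2),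
  Rule.mk (nat_lit 4) (nat_lit 196) (Steps.bwd (nat_lit 6) (Steps.bwd (nat_lit 2) (Steps.bwd (nat_lit 3) (Steps.fwd (nat_lit 6144) (Steps.bwd (nat_lit 4) (Steps.bwd (nat_lit 6) (Steps.bwd (nat_lit 2) (Steps.fwd (nat_lit 3072) (Steps.bwd (nat_lit 2) (Steps.bwd (nat_lit 6) (Steps.bwd (nat_lit 3) (Steps.fwd (nat_lit 6144) (Steps.bwd (nat_lit 3) (Steps.bwd (nat_lit 1) (Steps.bwd (nat_lit 6) (Steps.fwd (nat_lit 4096) (Steps.fwd (nat_lit 6144) Steps.nil))))))))))))))))) (nat_lit 19) (nat_lit 9),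
  Rule.mk (nat_lit 6) (nat_lit 218) (Steps.bwd (nat_lit 4) (Steps.fwd (nat_lit 7168) (Steps.bwd (nat_lit 6) (Steps.fwd (nat_lit 2048) (Steps.fwd (nat_lit 4096) (Steps.bwd (nat_lit 1) (Steps.fwd (nat_lit 5120) (Steps.bwd (nat_lit 6) (Steps.fwd (nat_lit 4096) (Steps.fwd (nat_lit 6144) (Steps.bwd (nat_lit 4) (Steps.bwd (nat_lit 6) (Steps.fwd (nat_lit 3072) (Steps.fwd (nat_lit 7168) (Steps.fwd (nat_lit 4096) (Steps.fwd (nat_lit 6144) (Steps.bwd (nat_lit 3) (Steps.fwd (nat_lit 6144) (Steps.bwd (nat_lit 4) Steps.nil))))))))))))))))))) (nat_lit 26) (nat_lit 17),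
  Rule.mk (nat_lit 4) (nat_lit 64) (Steps.bwd (nat_lit 1) (Steps.bwd (nat_lit 4) (Steps.fwd (nat_lit 1024) (Steps.fwd (nat_lit 4096) (Steps.fwd (nat_lit 1024) Steps.nil))))) (nat_lit 5) (nat_lit 3),
  Rule.mk (nat_lit 3) (nat_lit 108) (Steps.bwd (nat_lit 7) (Steps.fwd (nat_lit 6144) (Steps.fwd (nat_lit 3072) (Steps.fwd (nat_lit 1024) (Steps.fwd (nat_lit 3072) (Steps.bwd (nat_lit 7) (Steps.fwd (nat_lit 6144) (Steps.fwd (nat_lit 4096) (Steps.bwd (nat_lit 1) Steps.nil))))))))) (nat_lit 25) (nat_lit 6),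
  Rule.mk (nat_lit 7) (nat_lit 97) (Steps.bwd (nat_lit 4) (Steps.bwd (nat_lit 7) (Steps.bwd (nat_lit 1) (Steps.bwd (nat_lit 4) (Steps.fwd (nat_lit 2048) (Steps.bwd (nat_lit 7) (Steps.bwd (nat_lit 4) (Steps.bwd (nat_lit 1) Steps.nil)))))))) (nat_lit 22) (nat_lit 7),
  Rule.mk (nat_lit 6) (nat_lit 108) (Steps.bwd (nat_lit 4) (Steps.bwd (nat_lit 2) (Steps.bwd (nat_lit 4) (Steps.bwd (nat_lit 7) (Steps.bwd (nat_lit 6) (Steps.fwd (nat_lit 4096) (Steps.bwd (nat_lit 1) (Steps.fwd (nat_lit 4096) (Steps.fwd (nat_lit 7168) Steps.nil))))))))) (nat_lit 25) (nat_lit 8),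
  Rule.mk (nat_lit 4) (nat_lit 64) (Steps.bwd (nat_lit 1) (Steps.bwd (nat_lit 4) (Steps.bwd (nat_lit 2) (Steps.fwd (nat_lit 4096) (Steps.bwd (nat_lit 2) Steps.nil))))) (nat_lit 5) (nat_lit 3),
  Rule.mk (nat_lit 7) (nat_lit 97) (Steps.bwd (nat_lit 1) (Steps.bwd (nat_lit 4) (Steps.fwd (nat_lit 2048) (Steps.bwd (nat_lit 7) (Steps.bwd (nat_lit 4) (Steps.fwd (nat_lit 2048) (Steps.bwd (nat_lit 7) (Steps.bwd (nat_lit 4) Steps.nil)))))))) (nat_lit 22) (nat_lit 0),
  Rule.mk (nat_lit 6) (nat_lit 108) (Steps.bwd (nat_lit 7) (Steps.bwd (nat_lit 3) (Steps.fwd (nat_lit 2048) (Steps.bwd (nat_lit 3) (Steps.fwd (nat_lit 6144) (Steps.fwd (nat_lit 7168) (Steps.bwd (nat_lit 4) (Steps.bwd (nat_lit 2) (Steps.bwd (nat_lit 4) Steps.nil))))))))) (nat_lit 24) (nat_lit 8),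
  Rule.mk (nat_lit 2) (nat_lit 64) (Steps.bwd (nat_lit 4) (Steps.bwd (nat_lit 1) (Steps.fwd (nat_lit 3072) (Steps.fwd (nat_lit 1024) (Steps.fwd (nat_lit 4096) Steps.nil))))) (nat_lit 5) (nat_lit 2),
  Rule.mk (nat_lit 6) (nat_lit 218) (Steps.bwd (nat_lit 4) (Steps.bwd (nat_lit 7) (Steps.bwd (nat_lit 3) (Steps.bwd (nat_lit 6) (Steps.fwd (nat_lit 4096) (Steps.bwd (nat_lit 6) (Steps.bwd (nat_lit 4) (Steps.fwd (nat_lit 6144) (Steps.bwd (nat_lit 4) (Steps.fwd (nat_lit 7168) (Steps.fwd (nat_lit 6144) (Steps.fwd (nat_lit 2048) (Steps.bwd (nat_lit 3) (Steps.bwd (nat_lit 1) (Steps.fwd (nat_lit 5120) (Steps.fwd (nat_lit 6144) (Steps.fwd (nat_lit 4096) (Steps.bwd (nat_lit 6) (Steps.fwd (nat_lit 3072) Steps.nil))))))))))))))))))) (nat_lit 26) (nat_lit 9),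
  Rule.mk (nat_lit 7) (nat_lit 218) (Steps.bwd (nat_lit 3) (Steps.fwd (nat_lit 6144) (Steps.bwd (nat_lit 3) (Steps.fwd (nat_lit 6144) (Steps.bwd (nat_lit 4) (Steps.bwd (nat_lit 6) (Steps.fwd (nat_lit 3072) (Steps.bwd (nat_lit 7) (Steps.fwd (nat_lit 6144) (Steps.fwd (nat_lit 2048) (Steps.fwd (nat_lit 4096) (Steps.fwd (nat_lit 2048) (Steps.bwd (nat_lit 5) (Steps.bwd (nat_lit 6) (Steps.fwd (nat_lit 4096) (Steps.fwd (nat_lit 6144) (Steps.bwd (nat_lit 4) (Steps.bwd (nat_lit 6) (Steps.bwd (nat_lit 4) Steps.nil))))))))))))))))))) (nat_lit 26) (nat_lit 11),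
  Rule.mk (nat_lit 3) (nat_lit 108) (Steps.bwd (nat_lit 6) (Steps.fwd (nat_lit 7168) (Steps.fwd (nat_lit 3072) (Steps.bwd (nat_lit 2) (Steps.fwd (nat_lit 3072) (Steps.fwd (nat_lit 6144) (Steps.fwd (nat_lit 7168) (Steps.fwd (nat_lit 4096) (Steps.bwd (nat_lit 1) Steps.nil))))))))) (nat_lit 24) (nat_lit 2),
  Rule.mk (nat_lit 7) (nat_lit 97) (Steps.fwd (nat_lit 1024) (Steps.bwd (nat_lit 3) (Steps.fwd (nat_lit 1024) (Steps.bwd (nat_lit 7) (Steps.fwd (nat_lit 4096) (Steps.fwd (nat_lit 7168) (Steps.fwd (nat_lit 1024) (Steps.bwd (nat_lit 3) Steps.nil)))))))) (nat_lit 23) (nat_lit 6),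
  Rule.mk (nat_lit 4) (nat_lit 218) (Steps.fwd (nat_lit 6144) (Steps.fwd (nat_lit 3072) (Steps.bwd (nat_lit 7) (Steps.fwd (nat_lit 6144) (Steps.fwd (nat_lit 2048) (Steps.bwd (nat_lit 3) (Steps.fwd (nat_lit 2048) (Steps.bwd (nat_lit 5) (Steps.fwd (nat_lit 6144) (Steps.bwd (nat_lit 3) (Steps.bwd (nat_lit 6) (Steps.bwd (nat_lit 4) (Steps.fwd (nat_lit 6144) (Steps.fwd (nat_lit 3072) (Steps.fwd (nat_lit 7168) (Steps.fwd (nat_lit 4096) (Steps.bwd (nat_lit 6) (Steps.bwd (nat_lit 3) (Steps.bwd (nat_lit 6) Steps.nil))))))))))))))))))) (nat_lit 26) (nat_lit 16),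
  Rule.mk (nat_lit 7) (nat_lit 97) (Steps.bwd (nat_lit 4) (Steps.bwd (nat_lit 7) (Steps.bwd (nat_lit 1) (Steps.bwd (nat_lit 4) (Steps.bwd (nat_lit 1) (Steps.fwd (nat_lit 7168) (Steps.fwd (nat_lit 3072) (Steps.fwd (nat_lit 2048) Steps.nil)))))))) (nat_lit 22) (nat_lit 7)]
noncomputable def R_5 : List (Rule) := [Rule.mk (nat_lit 2) (nat_lit 108) (Steps.bwd (nat_lit 4) (Steps.bwd (nat_lit 7) (Steps.fwd (nat_lit 6144) (Steps.bwd (nat_lit 3) (Steps.fwd (nat_lit 2048) (Steps.fwd (nat_lit 4096) (Steps.fwd (nat_lit 7168) (Steps.bwd (nat_lit 6) (Steps.fwd (nat_lit 3072) Steps.nil))))))))) (nat_lit 25) (nat_lit 0),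
  Rule.mk (nat_lit 5) (nat_lit 42) (Steps.fwd (nat_lit 1024) (Steps.bwd (nat_lit 5) (Steps.bwd (nat_lit 2) Steps.nil))) (nat_lit 9) (nat_lit 1),
  Rule.mk (nat_lit 1) (nat_lit 64) (Steps.bwd (nat_lit 4) (Steps.bwd (nat_lit 1) (Steps.fwd (nat_lit 4096) (Steps.bwd (nat_lit 2) (Steps.fwd (nat_lit 4096) Steps.nil))))) (nat_lit 4) (nat_lit 5),
  Rule.mk (nat_lit 6) (nat_lit 108) (Steps.bwd (nat_lit 4) (Steps.fwd (nat_lit 1024) (Steps.bwd (nat_lit 4) (Steps.fwd (nat_lit 7168) (Steps.fwd (nat_lit 6144) (Steps.bwd (nat_lit 3) (Steps.fwd (nat_lit 2048) (Steps.fwd (nat_lit 4096) (Steps.fwd (nat_lit 7168) Steps.nil))))))))) (nat_lit 25) (nat_lit 8),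
  Rule.mk (nat_lit 7) (nat_lit 108) (Steps.bwd (nat_lit 4) (Steps.fwd (nat_lit 1024) (Steps.bwd (nat_lit 4) (Steps.bwd (nat_lit 6) (Steps.bwd (nat_lit 7) (Steps.fwd (nat_lit 4096) (Steps.fwd (nat_lit 2048) (Steps.bwd (nat_lit 3) (Steps.bwd (nat_lit 6) Steps.nil))))))))) (nat_lit 24) (nat_lit 4),
  Rule.mk (nat_lit 7) (nat_lit 108) (Steps.bwd (nat_lit 4) (Steps.fwd (nat_lit 1024) (Steps.bwd (nat_lit 4) (Steps.fwd (nat_lit 6144) (Steps.bwd (nat_lit 7) (Steps.bwd (nat_lit 3) (Steps.bwd (nat_lit 1) (Steps.bwd (nat_lit 3) (Steps.bwd (nat_lit 6) Steps.nil))))))))) (nat_lit 24) (nat_lit 4),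
  Rule.mk (nat_lit 6) (nat_lit 218) (Steps.bwd (nat_lit 4) (Steps.fwd (nat_lit 6144) (Steps.fwd (nat_lit 3072) (Steps.fwd (nat_lit 7168) (Steps.fwd (nat_lit 6144) (Steps.bwd (nat_lit 1) (Steps.bwd (nat_lit 3) (Steps.fwd (nat_lit 2048) (Steps.fwd (nat_lit 5120) (Steps.fwd (nat_lit 6144) (Steps.bwd (nat_lit 3) (Steps.bwd (nat_lit 6) (Steps.bwd (nat_lit 4) (Steps.bwd (nat_lit 6) (Steps.bwd (nat_lit 4) (Steps.bwd (nat_lit 7) (Steps.fwd (nat_lit 4096) (Steps.fwd (nat_lit 6144) (Steps.fwd (nat_lit 4096) Steps.nil))))))))))))))))))) (nat_lit 26) (nat_lit 15),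
  Rule.mk (nat_lit 6) (nat_lit 108) (Steps.bwd (nat_lit 7) (Steps.bwd (nat_lit 4) (Steps.fwd (nat_lit 1024) (Steps.bwd (nat_lit 4) (Steps.fwd (nat_lit 6144) (Steps.bwd (nat_lit 7) (Steps.fwd (nat_lit 4096) (Steps.bwd (nat_lit 1) (Steps.fwd (nat_lit 4096) Steps.nil))))))))) (nat_lit 24) (nat_lit 3),
  Rule.mk (nat_lit 3) (nat_lit 108) (Steps.bwd (nat_lit 7) (Steps.bwd (nat_lit 6) (Steps.fwd (nat_lit 3072) (Steps.fwd (nat_lit 1024) (Steps.fwd (nat_lit 3072) (Steps.fwd (nat_lit 7168) (Steps.fwd (nat_lit 6144) (Steps.fwd (nat_lit 4096) (Steps.fwd (nat_lit 2048) Steps.nil))))))))) (nat_lit 25) (nat_lit 6),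
  Rule.mk (nat_lit 2) (nat_lit 64) (Steps.fwd (nat_lit 4096) (Steps.bwd (nat_lit 1) (Steps.bwd (nat_lit 4) (Steps.fwd (nat_lit 2048) (Steps.bwd (nat_lit 3) Steps.nil))))) (nat_lit 4) (nat_lit 3),
  Rule.mk (nat_lit 1) (nat_lit 97) (Steps.bwd (nat_lit 7) (Steps.bwd (nat_lit 4) (Steps.fwd (nat_lit 7168) (Steps.fwd (nat_lit 2048) (Steps.fwd (nat_lit 3072) (Steps.fwd (nat_lit 2048) (Steps.bwd (nat_lit 7) (Steps.bwd (nat_lit 4) Steps.nil)))))))) (nat_lit 22) (nat_lit 6),
  Rule.mk (nat_lit 3) (nat_lit 97) (Steps.bwd (nat_lit 7) (Steps.fwd (nat_lit 1024) (Steps.fwd (nat_lit 4096) (Steps.fwd (nat_lit 1024) (Steps.fwd (nat_lit 7168) (Steps.fwd (nat_lit 4096) (Steps.bwd (nat_lit 7) (Steps.bwd (nat_lit 2) Steps.nil)))))))) (nat_lit 23) (nat_lit 5),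
  Rule.mk (nat_lit 2) (nat_lit 97) (Steps.bwd (nat_lit 7) (Steps.fwd (nat_lit 4096) (Steps.fwd (nat_lit 7168) (Steps.fwd (nat_lit 1024) (Steps.fwd (nat_lit 4096) (Steps.fwd (nat_lit 7168) (Steps.fwd (nat_lit 1024) (Steps.fwd (nat_lit 4096) Steps.nil)))))))) (nat_lit 23) (nat_lit 0),
  Rule.mk (nat_lit 7) (nat_lit 97) (Steps.bwd (nat_lit 1) (Steps.bwd (nat_lit 4) (Steps.bwd (nat_lit 1) (Steps.bwd (nat_lit 7) (Steps.bwd (nat_lit 4) (Steps.bwd (nat_lit 1) (Steps.fwd (nat_lit 7168) (Steps.fwd (nat_lit 3072) Steps.nil)))))))) (nat_lit 22) (nat_lit 0),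
  Rule.mk (nat_lit 3) (nat_lit 97) (Steps.bwd (nat_lit 7) (Steps.bwd (nat_lit 2) (Steps.bwd (nat_lit 3) (Steps.bwd (nat_lit 2) (Steps.fwd (nat_lit 7168) (Steps.bwd (nat_lit 3) (Steps.bwd (nat_lit 7) (Steps.fwd (nat_lit 1024) Steps.nil)))))))) (nat_lit 23) (nat_lit 5),
  Rule.mk (nat_lit 2) (nat_lit 97) (Steps.bwd (nat_lit 7) (Steps.bwd (nat_lit 3) (Steps.bwd (nat_lit 7) (Steps.fwd (nat_lit 1024) (Steps.fwd (nat_lit 4096) (Steps.fwd (nat_lit 7168) (Steps.fwd (nat_lit 1024) (Steps.fwd (nat_lit 4096) Steps.nil)))))))) (nat_lit 23) (nat_lit 0),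
  Rule.mk (nat_lit 6) (nat_lit 108) (Steps.bwd (nat_lit 7) (Steps.bwd (nat_lit 3) (Steps.fwd (nat_lit 2048) (Steps.fwd (nat_lit 4096) (Steps.fwd (nat_lit 6144) (Steps.bwd (nat_lit 7) (Steps.bwd (nat_lit 4) (Steps.fwd (nat_lit 1024) (Steps.fwd (nat_lit 3072) Steps.nil))))))))) (nat_lit 24) (nat_lit 8),
  Rule.mk (nat_lit 7) (nat_lit 97) (Steps.bwd (nat_lit 3) (Steps.fwd (nat_lit 7168) (Steps.bwd (nat_lit 2) (Steps.fwd (nat_lit 4096) (Steps.bwd (nat_lit 7) (Steps.fwd (nat_lit 1024) (Steps.fwd (nat_lit 4096) (Steps.fwd (nat_lit 1024) Steps.nil)))))))) (nat_lit 23) (nat_lit 1),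
  Rule.mk (nat_lit 1) (nat_lit 64) (Steps.bwd (nat_lit 3) (Steps.bwd (nat_lit 2) (Steps.bwd (nat_lit 3) (Steps.bwd (nat_lit 1) (Steps.fwd (nat_lit 3072) Steps.nil))))) (nat_lit 4) (nat_lit 1),
  Rule.mk (nat_lit 7) (nat_lit 108) (Steps.bwd (nat_lit 3) (Steps.fwd (nat_lit 2048) (Steps.fwd (nat_lit 4096) (Steps.fwd (nat_lit 6144) (Steps.bwd (nat_lit 7) (Steps.fwd (nat_lit 3072) (Steps.bwd (nat_lit 2) (Steps.bwd (nat_lit 4) (Steps.bwd (nat_lit 6) Steps.nil))))))))) (nat_lit 24) (nat_lit 9),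
  Rule.mk (nat_lit 3) (nat_lit 108) (Steps.bwd (nat_lit 6) (Steps.bwd (nat_lit 7) (Steps.fwd (nat_lit 3072) (Steps.bwd (nat_lit 2) (Steps.bwd (nat_lit 4) (Steps.fwd (nat_lit 6144) (Steps.fwd (nat_lit 7168) (Steps.bwd (nat_lit 3) (Steps.bwd (nat_lit 1) Steps.nil))))))))) (nat_lit 24) (nat_lit 2),
  Rule.mk (nat_lit 7) (nat_lit 108) (Steps.bwd (nat_lit 6) (Steps.bwd (nat_lit 3) (Steps.bwd (nat_lit 1) (Steps.bwd (nat_lit 3) (Steps.fwd (nat_lit 7168) (Steps.fwd (nat_lit 6144) (Steps.bwd (nat_lit 4) (Steps.bwd (nat_lit 2) (Steps.fwd (nat_lit 3072) Steps.nil))))))))) (nat_lit 25) (nat_lit 2),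
  Rule.mk (nat_lit 3) (nat_lit 108) (Steps.bwd (nat_lit 6) (Steps.fwd (nat_lit 7168) (Steps.bwd (nat_lit 4) (Steps.bwd (nat_lit 2) (Steps.fwd (nat_lit 3072) (Steps.fwd (nat_lit 6144) (Steps.bwd (nat_lit 7) (Steps.fwd (nat_lit 4096) (Steps.bwd (nat_lit 1) Steps.nil))))))))) (nat_lit 24) (nat_lit 2),
  Rule.mk (nat_lit 4) (nat_lit 108) (Steps.bwd (nat_lit 6) (Steps.bwd (nat_lit 7) (Steps.fwd (nat_lit 4096) (Steps.fwd (nat_lit 2048) (Steps.fwd (nat_lit 4096) (Steps.fwd (nat_lit 6144) (Steps.fwd (nat_lit 7168) (Steps.bwd (nat_lit 4) (Steps.bwd (nat_lit 2) Steps.nil))))))))) (nat_lit 24) (nat_lit 7),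
  Rule.mk (nat_lit 3) (nat_lit 108) (Steps.bwd (nat_lit 6) (Steps.bwd (nat_lit 7) (Steps.bwd (nat_lit 4) (Steps.bwd (nat_lit 2) (Steps.fwd (nat_lit 3072) (Steps.bwd (nat_lit 6) (Steps.fwd (nat_lit 7168) (Steps.fwd (nat_lit 4096) (Steps.bwd (nat_lit 1) Steps.nil))))))))) (nat_lit 24) (nat_lit 2),
  Rule.mk (nat_lit 7) (nat_lit 108) (Steps.bwd (nat_lit 6) (Steps.fwd (nat_lit 3072) (Steps.bwd (nat_lit 2) (Steps.bwd (nat_lit 4) (Steps.bwd (nat_lit 7) (Steps.bwd (nat_lit 6) (Steps.fwd (nat_lit 4096) (Steps.bwd (nat_lit 1) (Steps.bwd (nat_lit 3) Steps.nil))))))))) (nat_lit 25) (nat_lit 7),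
  Rule.mk (nat_lit 4) (nat_lit 108) (Steps.bwd (nat_lit 6) (Steps.bwd (nat_lit 7) (Steps.bwd (nat_lit 3) (Steps.fwd (nat_lit 2048) (Steps.bwd (nat_lit 3) (Steps.bwd (nat_lit 6) (Steps.bwd (nat_lit 7) (Steps.fwd (nat_lit 3072) (Steps.fwd (nat_lit 1024) Steps.nil))))))))) (nat_lit 24) (nat_lit 7),
  Rule.mk (nat_lit 3) (nat_lit 108) (Steps.bwd (nat_lit 6) (Steps.bwd (nat_lit 7) (Steps.fwd (nat_lit 3072) (Steps.bwd (nat_lit 2) (Steps.bwd (nat_lit 4) (Steps.fwd (nat_lit 6144) (Steps.bwd (nat_lit 7) (Steps.bwd (nat_lit 3) (Steps.bwd (nat_lit 1) Steps.nil))))))))) (nat_lit 24) (nat_lit 2),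
  Rule.mk (nat_lit 7) (nat_lit 108) (Steps.bwd (nat_lit 6) (Steps.fwd (nat_lit 3072) (Steps.bwd (nat_lit 2) (Steps.bwd (nat_lit 4) (Steps.fwd (nat_lit 7168) (Steps.fwd (nat_lit 6144) (Steps.fwd (nat_lit 4096) (Steps.bwd (nat_lit 1) (Steps.bwd (nat_lit 3) Steps.nil))))))))) (nat_lit 25) (nat_lit 7),
  Rule.mk (nat_lit 4) (nat_lit 108) (Steps.bwd (nat_lit 6) (Steps.fwd (nat_lit 7168) (Steps.bwd (nat_lit 3) (Steps.fwd (nat_lit 2048) (Steps.fwd (nat_lit 4096) (Steps.fwd (nat_lit 6144) (Steps.fwd (nat_lit 7168) (Steps.bwd (nat_lit 4) (Steps.bwd (nat_lit 2) Steps.nil))))))))) (nat_lit 24) (nat_lit 7),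
  Rule.mk (nat_lit 7) (nat_lit 218) (Steps.bwd (nat_lit 6) (Steps.fwd (nat_lit 2048) (Steps.bwd (nat_lit 3) (Steps.bwd (nat_lit 1) (Steps.bwd (nat_lit 5) (Steps.bwd (nat_lit 6) (Steps.bwd (nat_lit 3) (Steps.fwd (nat_lit 6144) (Steps.bwd (nat_lit 4) (Steps.bwd (nat_lit 6) (Steps.bwd (nat_lit 4) (Steps.fwd (nat_lit 7168) (Steps.fwd (nat_lit 4096) (Steps.bwd (nat_lit 6) (Steps.bwd (nat_lit 3) (Steps.bwd (nat_lit 6) (Steps.bwd (nat_lit 4) (Steps.fwd (nat_lit 6144) (Steps.fwd (nat_lit 3072) Steps.nil))))))))))))))))))) (nat_lit 26) (nat_lit 19),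
  Rule.mk (nat_lit 3) (nat_lit 64) (Steps.bwd (nat_lit 2) (Steps.fwd (nat_lit 3072) (Steps.bwd (nat_lit 1) (Steps.bwd (nat_lit 4) (Steps.bwd (nat_lit 2) Steps.nil))))) (nat_lit 5) (nat_lit 1),
  Rule.mk (nat_lit 3) (nat_lit 108) (Steps.bwd (nat_lit 6) (Steps.fwd (nat_lit 7168) (Steps.fwd (nat_lit 3072) (Steps.bwd (nat_lit 2) (Steps.fwd (nat_lit 3072) (Steps.fwd (nat_lit 6144) (Steps.bwd (nat_lit 7) (Steps.fwd (nat_lit 4096) (Steps.fwd (nat_lit 2048) Steps.nil))))))))) (nat_lit 24) (nat_lit 2),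
  Rule.mk (nat_lit 7) (nat_lit 108) (Steps.bwd (nat_lit 6) (Steps.bwd (nat_lit 4) (Steps.fwd (nat_lit 1024) (Steps.fwd (nat_lit 3072) (Steps.bwd (nat_lit 7) (Steps.bwd (nat_lit 6) (Steps.bwd (nat_lit 3) (Steps.fwd (nat_lit 2048) (Steps.bwd (nat_lit 3) Steps.nil))))))))) (nat_lit 25) (nat_lit 7),
  Rule.mk (nat_lit 2) (nat_lit 31) (Steps.bwd (nat_lit 2) (Steps.fwd (nat_lit 1024) Steps.nil)) (nat_lit 1) (nat_lit 0),
  Rule.mk (nat_lit 4) (nat_lit 64) (Steps.bwd (nat_lit 2) (Steps.bwd (nat_lit 3) (Steps.bwd (nat_lit 2) (Steps.bwd (nat_lit 4) (Steps.bwd (nat_lit 1) Steps.nil))))) (nat_lit 5) (nat_lit 5),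
  Rule.mk (nat_lit 7) (nat_lit 97) (Steps.bwd (nat_lit 2) (Steps.bwd (nat_lit 3) (Steps.bwd (nat_lit 2) (Steps.fwd (nat_lit 7168) (Steps.bwd (nat_lit 3) (Steps.fwd (nat_lit 7168) (Steps.bwd (nat_lit 2) (Steps.bwd (nat_lit 3) Steps.nil)))))))) (nat_lit 23) (nat_lit 6),
  Rule.mk (nat_lit 3) (nat_lit 64) (Steps.bwd (nat_lit 2) (Steps.bwd (nat_lit 3) (Steps.fwd (nat_lit 2048) (Steps.bwd (nat_lit 4) (Steps.bwd (nat_lit 1) Steps.nil))))) (nat_lit 4) (nat_lit 2),
  Rule.mk (nat_lit 7) (nat_lit 97) (Steps.bwd (nat_lit 2) (Steps.bwd (nat_lit 3) (Steps.bwd (nat_lit 2) (Steps.bwd (nat_lit 7) (Steps.bwd (nat_lit 3) (Steps.bwd (nat_lit 7) (Steps.fwd (nat_lit 1024) (Steps.bwd (nat_lit 3) Steps.nil)))))))) (nat_lit 23) (nat_lit 6),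
  Rule.mk (nat_lit 4) (nat_lit 64) (Steps.bwd (nat_lit 1) (Steps.bwd (nat_lit 3) (Steps.fwd (nat_lit 1024) (Steps.fwd (nat_lit 4096) (Steps.bwd (nat_lit 1) Steps.nil))))) (nat_lit 4) (nat_lit 0),
  Rule.mk (nat_lit 1) (nat_lit 97) (Steps.bwd (nat_lit 7) (Steps.bwd (nat_lit 4) (Steps.bwd (nat_lit 1) (Steps.fwd (nat_lit 7168) (Steps.fwd (nat_lit 3072) (Steps.fwd (nat_lit 7168) (Steps.bwd (nat_lit 1) (Steps.bwd (nat_lit 4) Steps.nil)))))))) (nat_lit 22) (nat_lit 3),
  Rule.mk (nat_lit 2) (nat_lit 97) (Steps.bwd (nat_lit 7) (Steps.fwd (nat_lit 4096) (Steps.fwd (nat_lit 7168) (Steps.fwd (nat_lit 1024) (Steps.fwd (nat_lit 4096) (Steps.fwd (nat_lit 7168) (Steps.bwd (nat_lit 2) (Steps.bwd (nat_lit 3) Steps.nil)))))))) (nat_lit 23) (nat_lit 0),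
  Rule.mk (nat_lit 3) (nat_lit 108) (Steps.bwd (nat_lit 7) (Steps.fwd (nat_lit 6144) (Steps.fwd (nat_lit 3072) (Steps.fwd (nat_lit 1024) (Steps.bwd (nat_lit 4) (Steps.bwd (nat_lit 7) (Steps.bwd (nat_lit 6) (Steps.bwd (nat_lit 3) (Steps.bwd (nat_lit 1) Steps.nil))))))))) (nat_lit 25) (nat_lit 6),
  Rule.mk (nat_lit 4) (nat_lit 108) (Steps.bwd (nat_lit 7) (Steps.fwd (nat_lit 6144) (Steps.fwd (nat_lit 4096) (Steps.fwd (nat_lit 2048) (Steps.bwd (nat_lit 3) (Steps.bwd (nat_lit 7) (Steps.fwd (nat_lit 6144) (Steps.bwd (nat_lit 4) (Steps.bwd (nat_lit 2) Steps.nil))))))))) (nat_lit 25) (nat_lit 1),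
  Rule.mk (nat_lit 7) (nat_lit 108) (Steps.bwd (nat_lit 6) (Steps.bwd (nat_lit 4) (Steps.bwd (nat_lit 2) (Steps.fwd (nat_lit 3072) (Steps.fwd (nat_lit 7168) (Steps.fwd (nat_lit 6144) (Steps.bwd (nat_lit 3) (Steps.fwd (nat_lit 2048) (Steps.fwd (nat_lit 4096) Steps.nil))))))))) (nat_lit 25) (nat_lit 7),
  Rule.mk (nat_lit 7) (nat_lit 97) (Steps.bwd (nat_lit 2) (Steps.fwd (nat_lit 4096) (Steps.fwd (nat_lit 1024) (Steps.fwd (nat_lit 7168) (Steps.bwd (nat_lit 3) (Steps.bwd (nat_lit 7) (Steps.fwd (nat_lit 1024) (Steps.bwd (nat_lit 3) Steps.nil)))))))) (nat_lit 23) (nat_lit 6),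
  Rule.mk (nat_lit 4) (nat_lit 108) (Steps.bwd (nat_lit 6) (Steps.bwd (nat_lit 7) (Steps.fwd (nat_lit 4096) (Steps.fwd (nat_lit 2048) (Steps.bwd (nat_lit 3) (Steps.fwd (nat_lit 6144) (Steps.fwd (nat_lit 7168) (Steps.bwd (nat_lit 4) (Steps.bwd (nat_lit 2) Steps.nil))))))))) (nat_lit 24) (nat_lit 7),
  Rule.mk (nat_lit 7) (nat_lit 108) (Steps.bwd (nat_lit 6) (Steps.fwd (nat_lit 3072) (Steps.bwd (nat_lit 2) (Steps.fwd (nat_lit 3072) (Steps.bwd (nat_lit 7) (Steps.fwd (nat_lit 6144) (Steps.bwd (nat_lit 3) (Steps.bwd (nat_lit 1) (Steps.bwd (nat_lit 3) Steps.nil))))))))) (nat_lit 25) (nat_lit 7),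
  Rule.mk (nat_lit 1) (nat_lit 64) (Steps.bwd (nat_lit 4) (Steps.fwd (nat_lit 2048) (Steps.fwd (nat_lit 4096) (Steps.bwd (nat_lit 2) (Steps.fwd (nat_lit 4096) Steps.nil))))) (nat_lit 4) (nat_lit 5),
  Rule.mk (nat_lit 6) (nat_lit 196) (Steps.bwd (nat_lit 4) (Steps.fwd (nat_lit 6144) (Steps.fwd (nat_lit 2048) (Steps.fwd (nat_lit 4096) (Steps.bwd (nat_lit 1) (Steps.fwd (nat_lit 6144) (Steps.fwd (nat_lit 4096) (Steps.bwd (nat_lit 6) (Steps.fwd (nat_lit 3072) (Steps.fwd (nat_lit 2048) (Steps.bwd (nat_lit 6) (Steps.fwd (nat_lit 4096) (Steps.bwd (nat_lit 6) (Steps.fwd (nat_lit 3072) (Steps.fwd (nat_lit 6144) (Steps.bwd (nat_lit 2) (Steps.bwd (nat_lit 4) Steps.nil))))))))))))))))) (nat_lit 18) (nat_lit 16),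
  Rule.mk (nat_lit 1) (nat_lit 64) (Steps.bwd (nat_lit 4) (Steps.bwd (nat_lit 1) (Steps.fwd (nat_lit 4096) (Steps.fwd (nat_lit 1024) (Steps.fwd (nat_lit 4096) Steps.nil))))) (nat_lit 4) (nat_lit 5),
  Rule.mk (nat_lit 7) (nat_lit 97) (Steps.bwd (nat_lit 4) (Steps.fwd (nat_lit 7168) (Steps.bwd (nat_lit 1) (Steps.fwd (nat_lit 3072) (Steps.fwd (nat_lit 2048) (Steps.bwd (nat_lit 7) (Steps.bwd (nat_lit 4) (Steps.bwd (nat_lit 1) Steps.nil)))))))) (nat_lit 22) (nat_lit 7),
  Rule.mk (nat_lit 7) (nat_lit 97) (Steps.bwd (nat_lit 2) (Steps.bwd (nat_lit 3) (Steps.bwd (nat_lit 2) (Steps.bwd (nat_lit 7) (Steps.bwd (nat_lit 3) (Steps.fwd (nat_lit 7168) (Steps.fwd (nat_lit 1024) (Steps.fwd (nat_lit 4096) Steps.nil)))))))) (nat_lit 23) (nat_lit 6),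
  Rule.mk (nat_lit 6) (nat_lit 196) (Steps.fwd (nat_lit 2048) (Steps.bwd (nat_lit 3) (Steps.fwd (nat_lit 2048) (Steps.bwd (nat_lit 6) (Steps.bwd (nat_lit 3) (Steps.bwd (nat_lit 6) (Steps.fwd (nat_lit 3072) (Steps.fwd (nat_lit 2048) (Steps.bwd (nat_lit 6) (Steps.fwd (nat_lit 4096) (Steps.fwd (nat_lit 6144) (Steps.bwd (nat_lit 4) (Steps.bwd (nat_lit 6) (Steps.bwd (nat_lit 2) (Steps.bwd (nat_lit 4) (Steps.bwd (nat_lit 6) (Steps.fwd (nat_lit 3072) Steps.nil))))))))))))))))) (nat_lit 18) (nat_lit 0),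
  Rule.mk (nat_lit 2) (nat_lit 64) (Steps.bwd (nat_lit 3) (Steps.bwd (nat_lit 1) (Steps.bwd (nat_lit 4) (Steps.fwd (nat_lit 2048) (Steps.bwd (nat_lit 3) Steps.nil))))) (nat_lit 4) (nat_lit 3),
  Rule.mk (nat_lit 7) (nat_lit 97) (Steps.bwd (nat_lit 2) (Steps.bwd (nat_lit 3) (Steps.fwd (nat_lit 1024) (Steps.bwd (nat_lit 7) (Steps.bwd (nat_lit 3) (Steps.fwd (nat_lit 7168) (Steps.bwd (nat_lit 2) (Steps.bwd (nat_lit 3) Steps.nil)))))))) (nat_lit 23) (nat_lit 6),
  Rule.mk (nat_lit 2) (nat_lit 64) (Steps.bwd (nat_lit 3) (Steps.bwd (nat_lit 1) (Steps.bwd (nat_lit 4) (Steps.bwd (nat_lit 1) (Steps.bwd (nat_lit 3) Steps.nil))))) (nat_lit 4) (nat_lit 3),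
  Rule.mk (nat_lit 6) (nat_lit 108) (Steps.bwd (nat_lit 3) (Steps.bwd (nat_lit 1) (Steps.fwd (nat_lit 4096) (Steps.fwd (nat_lit 7168) (Steps.fwd (nat_lit 6144) (Steps.bwd (nat_lit 4) (Steps.fwd (nat_lit 1024) (Steps.fwd (nat_lit 3072) (Steps.bwd (nat_lit 7) Steps.nil))))))))) (nat_lit 25) (nat_lit 3),
  Rule.mk (nat_lit 2) (nat_lit 64) (Steps.bwd (nat_lit 3) (Steps.bwd (nat_lit 1) (Steps.fwd (nat_lit 3072) (Steps.fwd (nat_lit 2048) (Steps.bwd (nat_lit 3) Steps.nil))))) (nat_lit 4) (nat_lit 3),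
  Rule.mk (nat_lit 7) (nat_lit 97) (Steps.bwd (nat_lit 2) (Steps.bwd (nat_lit 3) (Steps.fwd (nat_lit 1024) (Steps.bwd (nat_lit 7) (Steps.fwd (nat_lit 4096) (Steps.bwd (nat_lit 7) (Steps.bwd (nat_lit 2) (Steps.bwd (nat_lit 3) Steps.nil)))))))) (nat_lit 23) (nat_lit 6),
  Rule.mk (nat_lit 7) (nat_lit 97) (Steps.bwd (nat_lit 2) (Steps.bwd (nat_lit 3) (Steps.fwd (nat_lit 1024) (Steps.bwd (nat_lit 7) (Steps.bwd (nat_lit 3) (Steps.fwd (nat_lit 7168) (Steps.fwd (nat_lit 1024) (Steps.bwd (nat_lit 3) Steps.nil)))))))) (nat_lit 23) (nat_lit 6),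
  Rule.mk (nat_lit 6) (nat_lit 196) (Steps.bwd (nat_lit 4) (Steps.bwd (nat_lit 6) (Steps.bwd (nat_lit 2) (Steps.bwd (nat_lit 4) (Steps.bwd (nat_lit 6) (Steps.bwd (nat_lit 4) (Steps.fwd (nat_lit 6144) (Steps.fwd (nat_lit 2048) (Steps.bwd (nat_lit 3) (Steps.bwd (nat_lit 1) (Steps.bwd (nat_lit 6) (Steps.fwd (nat_lit 4096) (Steps.fwd (nat_lit 6144) (Steps.bwd (nat_lit 4) (Steps.bwd (nat_lit 1) (Steps.bwd (nat_lit 6) (Steps.bwd (nat_lit 3) Steps.nil))))))))))))))))) (nat_lit 18) (nat_lit 11),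
  Rule.mk (nat_lit 7) (nat_lit 97) (Steps.bwd (nat_lit 4) (Steps.bwd (nat_lit 7) (Steps.bwd (nat_lit 1) (Steps.fwd (nat_lit 3072) (Steps.fwd (nat_lit 2048) (Steps.fwd (nat_lit 7168) (Steps.bwd (nat_lit 4) (Steps.bwd (nat_lit 1) Steps.nil)))))))) (nat_lit 22) (nat_lit 7),
  Rule.mk (nat_lit 7) (nat_lit 218) (Steps.bwd (nat_lit 3) (Steps.bwd (nat_lit 6) (Steps.fwd (nat_lit 4096) (Steps.fwd (nat_lit 6144) (Steps.fwd (nat_lit 3072) (Steps.bwd (nat_lit 6) (Steps.bwd (nat_lit 4) (Steps.bwd (nat_lit 7) (Steps.fwd (nat_lit 6144) (Steps.fwd (nat_lit 2048) (Steps.bwd (nat_lit 3) (Steps.bwd (nat_lit 1) (Steps.fwd (nat_lit 5120) (Steps.bwd (nat_lit 6) (Steps.bwd (nat_lit 3) (Steps.bwd (nat_lit 6) (Steps.bwd (nat_lit 4) (Steps.fwd (nat_lit 6144) (Steps.bwd (nat_lit 4) Steps.nil))))))))))))))))))) (nat_lit 26) (nat_lit 11)]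
noncomputable def R_6 : List (Rule) := [Rule.mk (nat_lit 2) (nat_lit 64) (Steps.bwd (nat_lit 3) (Steps.fwd (nat_lit 2048) (Steps.bwd (nat_lit 4) (Steps.bwd (nat_lit 1) (Steps.fwd (nat_lit 4096) Steps.nil))))) (nat_lit 4) (nat_lit 3),
  Rule.mk (nat_lit 7) (nat_lit 97) (Steps.bwd (nat_lit 3) (Steps.bwd (nat_lit 7) (Steps.bwd (nat_lit 2) (Steps.bwd (nat_lit 3) (Steps.fwd (nat_lit 7168) (Steps.fwd (nat_lit 1024) (Steps.fwd (nat_lit 4096) (Steps.bwd (nat_lit 2) Steps.nil)))))))) (nat_lit 23) (nat_lit 1),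
  Rule.mk (nat_lit 1) (nat_lit 64) (Steps.bwd (nat_lit 3) (Steps.bwd (nat_lit 2) (Steps.fwd (nat_lit 4096) (Steps.fwd (nat_lit 2048) (Steps.bwd (nat_lit 4) Steps.nil))))) (nat_lit 4) (nat_lit 1),
  Rule.mk (nat_lit 2) (nat_lit 64) (Steps.bwd (nat_lit 3) (Steps.bwd (nat_lit 2) (Steps.fwd (nat_lit 3072) (Steps.bwd (nat_lit 1) (Steps.fwd (nat_lit 3072) Steps.nil))))) (nat_lit 5) (nat_lit 0),
  Rule.mk (nat_lit 3) (nat_lit 64) (Steps.bwd (nat_lit 2) (Steps.bwd (nat_lit 3) (Steps.bwd (nat_lit 1) (Steps.bwd (nat_lit 4) (Steps.fwd (nat_lit 2048) Steps.nil))))) (nat_lit 4) (nat_lit 2),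
  Rule.mk (nat_lit 7) (nat_lit 97) (Steps.bwd (nat_lit 2) (Steps.bwd (nat_lit 3) (Steps.fwd (nat_lit 1024) (Steps.fwd (nat_lit 7168) (Steps.fwd (nat_lit 4096) (Steps.bwd (nat_lit 7) (Steps.fwd (nat_lit 1024) (Steps.bwd (nat_lit 3) Steps.nil)))))))) (nat_lit 23) (nat_lit 6),
  Rule.mk (nat_lit 2) (nat_lit 64) (Steps.bwd (nat_lit 4) (Steps.fwd (nat_lit 2048) (Steps.bwd (nat_lit 4) (Steps.fwd (nat_lit 1024) (Steps.fwd (nat_lit 4096) Steps.nil))))) (nat_lit 5) (nat_lit 2),
  Rule.mk (nat_lit 4) (nat_lit 196) (Steps.bwd (nat_lit 6) (Steps.bwd (nat_lit 2) (Steps.bwd (nat_lit 4) (Steps.fwd (nat_lit 6144) (Steps.bwd (nat_lit 4) (Steps.bwd (nat_lit 6) (Steps.fwd (nat_lit 2048) (Steps.fwd (nat_lit 4096) (Steps.fwd (nat_lit 2048) (Steps.fwd (nat_lit 6144) (Steps.bwd (nat_lit 3) (Steps.fwd (nat_lit 6144) (Steps.fwd (nat_lit 3072) (Steps.fwd (nat_lit 2048) (Steps.fwd (nat_lit 6144) (Steps.bwd (nat_lit 3) (Steps.fwd (nat_lit 6144) Steps.nil)))))))))))))))))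 (nat_lit 18) (nat_lit 12),
  Rule.mk (nat_lit 3) (nat_lit 64) (Steps.bwd (nat_lit 2) (Steps.bwd (nat_lit 4) (Steps.fwd (nat_lit 2048) (Steps.bwd (nat_lit 4) (Steps.bwd (nat_lit 2) Steps.nil))))) (nat_lit 5) (nat_lit 1),
  Rule.mk (nat_lit 6) (nat_lit 196) (Steps.bwd (nat_lit 3) (Steps.fwd (nat_lit 6144) (Steps.bwd (nat_lit 4) (Steps.bwd (nat_lit 6) (Steps.bwd (nat_lit 2) (Steps.bwd (nat_lit 4) (Steps.fwd (nat_lit 6144) (Steps.fwd (nat_lit 3072) (Steps.fwd (nat_lit 6144) (Steps.fwd (nat_lit 2048) (Steps.fwd (nat_lit 4096) (Steps.fwd (nat_lit 2048) (Steps.fwd (nat_lit 6144) (Steps.bwd (nat_lit 3) (Steps.bwd (nat_lit 6) (Steps.bwd (nat_lit 4) (Steps.bwd (nat_lit 1) Steps.nil))))))))))))))))) (nat_lit 18) (nat_lit 9),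
  Rule.mk (nat_lit 2) (nat_lit 196) (Steps.bwd (nat_lit 3) (Steps.fwd (nat_lit 6144) (Steps.bwd (nat_lit 4) (Steps.bwd (nat_lit 6) (Steps.bwd (nat_lit 2) (Steps.bwd (nat_lit 4) (Steps.bwd (nat_lit 2) (Steps.bwd (nat_lit 6) (Steps.bwd (nat_lit 3) (Steps.bwd (nat_lit 6) (Steps.bwd (nat_lit 3) (Steps.fwd (nat_lit 2048) (Steps.fwd (nat_lit 6144) (Steps.bwd (nat_lit 3) (Steps.bwd (nat_lit 6) (Steps.bwd (nat_lit 4) (Steps.bwd (nat_lit 6) Steps.nil))))))))))))))))) (nat_lit 19) (nat_lit 11),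
  Rule.mk (nat_lit 4) (nat_lit 64) (Steps.bwd (nat_lit 1) (Steps.bwd (nat_lit 3) (Steps.bwd (nat_lit 2) (Steps.bwd (nat_lit 3) (Steps.bwd (nat_lit 1) Steps.nil))))) (nat_lit 4) (nat_lit 0),
  Rule.mk (nat_lit 7) (nat_lit 108) (Steps.bwd (nat_lit 6) (Steps.fwd (nat_lit 3072) (Steps.bwd (nat_lit 2) (Steps.bwd (nat_lit 4) (Steps.fwd (nat_lit 7168) (Steps.bwd (nat_lit 6) (Steps.bwd (nat_lit 3) (Steps.bwd (nat_lit 1) (Steps.fwd (nat_lit 4096) Steps.nil))))))))) (nat_lit 25) (nat_lit 7),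
  Rule.mk (nat_lit 4) (nat_lit 196) (Steps.bwd (nat_lit 6) (Steps.fwd (nat_lit 1024) (Steps.fwd (nat_lit 3072) (Steps.bwd (nat_lit 6) (Steps.fwd (nat_lit 3072) (Steps.bwd (nat_lit 6) (Steps.fwd (nat_lit 2048) (Steps.fwd (nat_lit 4096) (Steps.fwd (nat_lit 2048) (Steps.fwd (nat_lit 6144) (Steps.fwd (nat_lit 4096) (Steps.fwd (nat_lit 6144) (Steps.fwd (nat_lit 3072) (Steps.fwd (nat_lit 2048) (Steps.bwd (nat_lit 6) (Steps.bwd (nat_lit 3) (Steps.fwd (nat_lit 6144) Steps.nil))))))))))))))))) (nat_lit 18) (nat_lit 12),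
  Rule.mk (nat_lit 7) (nat_lit 108) (Steps.bwd (nat_lit 3) (Steps.bwd (nat_lit 1) (Steps.fwd (nat_lit 4096) (Steps.fwd (nat_lit 6144) (Steps.fwd (nat_lit 7168) (Steps.bwd (nat_lit 4) (Steps.bwd (nat_lit 2) (Steps.bwd (nat_lit 4) (Steps.bwd (nat_lit 6) Steps.nil))))))))) (nat_lit 24) (nat_lit 9),
  Rule.mk (nat_lit 3) (nat_lit 108) (Steps.bwd (nat_lit 6) (Steps.bwd (nat_lit 7) (Steps.fwd (nat_lit 3072) (Steps.bwd (nat_lit 2) (Steps.bwd (nat_lit 4) (Steps.bwd (nat_lit 6) (Steps.bwd (nat_lit 7) (Steps.fwd (nat_lit 4096) (Steps.fwd (nat_lit 2048) Steps.nil))))))))) (nat_lit 24) (nat_lit 2),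
  Rule.mk (nat_lit 7) (nat_lit 108) (Steps.bwd (nat_lit 6) (Steps.bwd (nat_lit 4) (Steps.fwd (nat_lit 1024) (Steps.bwd (nat_lit 4) (Steps.fwd (nat_lit 7168) (Steps.fwd (nat_lit 6144) (Steps.fwd (nat_lit 4096) (Steps.fwd (nat_lit 2048) (Steps.bwd (nat_lit 3) Steps.nil))))))))) (nat_lit 25) (nat_lit 7),
  Rule.mk (nat_lit 3) (nat_lit 108) (Steps.bwd (nat_lit 6) (Steps.bwd (nat_lit 7) (Steps.bwd (nat_lit 4) (Steps.bwd (nat_lit 2) (Steps.fwd (nat_lit 3072) (Steps.bwd (nat_lit 6) (Steps.fwd (nat_lit 7168) (Steps.bwd (nat_lit 3) (Steps.bwd (nat_lit 1) Steps.nil))))))))) (nat_lit 24) (nat_lit 2),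
  Rule.mk (nat_lit 7) (nat_lit 108) (Steps.bwd (nat_lit 6) (Steps.fwd (nat_lit 3072) (Steps.fwd (nat_lit 1024) (Steps.bwd (nat_lit 4) (Steps.fwd (nat_lit 7168) (Steps.bwd (nat_lit 6) (Steps.bwd (nat_lit 3) (Steps.bwd (nat_lit 1) (Steps.bwd (nat_lit 3) Steps.nil))))))))) (nat_lit 25) (nat_lit 7),
  Rule.mk (nat_lit 6) (nat_lit 42) (Steps.bwd (nat_lit 1) (Steps.bwd (nat_lit 6) (Steps.fwd (nat_lit 1024) Steps.nil))) (nat_lit 14) (nat_lit 0),
  Rule.mk (nat_lit 7) (nat_lit 108) (Steps.bwd (nat_lit 3) (Steps.bwd (nat_lit 1) (Steps.fwd (nat_lit 4096) (Steps.bwd (nat_lit 6) (Steps.bwd (nat_lit 7) (Steps.bwd (nat_lit 4) (Steps.fwd (nat_lit 1024) (Steps.fwd (nat_lit 3072) (Steps.bwd (nat_lit 6) Steps.nil))))))))) (nat_lit 24) (nat_lit 9),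
  Rule.mk (nat_lit 7) (nat_lit 97) (Steps.fwd (nat_lit 1024) (Steps.bwd (nat_lit 3) (Steps.fwd (nat_lit 7168) (Steps.fwd (nat_lit 1024) (Steps.bwd (nat_lit 3) (Steps.fwd (nat_lit 1024) (Steps.bwd (nat_lit 7) (Steps.bwd (nat_lit 3) Steps.nil)))))))) (nat_lit 23) (nat_lit 3),
  Rule.mk (nat_lit 7) (nat_lit 108) (Steps.bwd (nat_lit 4) (Steps.bwd (nat_lit 2) (Steps.fwd (nat_lit 3072) (Steps.fwd (nat_lit 6144) (Steps.bwd (nat_lit 7) (Steps.fwd (nat_lit 4096) (Steps.fwd (nat_lit 2048) (Steps.bwd (nat_lit 3) (Steps.bwd (nat_lit 6) Steps.nil))))))))) (nat_lit 24) (nat_lit 4),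
  Rule.mk (nat_lit 6) (nat_lit 196) (Steps.bwd (nat_lit 3) (Steps.fwd (nat_lit 6144) (Steps.fwd (nat_lit 3072) (Steps.bwd (nat_lit 6) (Steps.fwd (nat_lit 1024) (Steps.bwd (nat_lit 4) (Steps.fwd (nat_lit 6144) (Steps.fwd (nat_lit 3072) (Steps.fwd (nat_lit 6144) (Steps.fwd (nat_lit 2048) (Steps.bwd (nat_lit 3) (Steps.fwd (nat_lit 2048) (Steps.fwd (nat_lit 6144) (Steps.fwd (nat_lit 4096) (Steps.bwd (nat_lit 6) (Steps.bwd (nat_lit 4) (Steps.bwd (nat_lit 1) Steps.nil))))))))))))))))) (nat_lit 18) (nat_lit 9),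
  Rule.mk (nat_lit 7) (nat_lit 218) (Steps.bwd (nat_lit 3) (Steps.fwd (nat_lit 6144) (Steps.bwd (nat_lit 3) (Steps.bwd (nat_lit 6) (Steps.fwd (nat_lit 3072) (Steps.bwd (nat_lit 6) (Steps.fwd (nat_lit 3072) (Steps.bwd (nat_lit 7) (Steps.fwd (nat_lit 6144) (Steps.fwd (nat_lit 2048) (Steps.bwd (nat_lit 3) (Steps.bwd (nat_lit 1) (Steps.fwd (nat_lit 5120) (Steps.fwd (nat_lit 6144) (Steps.bwd (nat_lit 3) (Steps.fwd (nat_lit 6144) (Steps.fwd (nat_lit 3072) (Steps.bwd (nat_lit 6) (Steps.fwd (nat_lit 3072) Steps.nil))))))))))))))))))) (nat_lit 26) (nat_lit 11),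
  Rule.mk (nat_lit 2) (nat_lit 97) (Steps.bwd (nat_lit 3) (Steps.bwd (nat_lit 2) (Steps.fwd (nat_lit 7168) (Steps.bwd (nat_lit 3) (Steps.bwd (nat_lit 7) (Steps.bwd (nat_lit 2) (Steps.fwd (nat_lit 4096) (Steps.fwd (nat_lit 7168) Steps.nil)))))))) (nat_lit 23) (nat_lit 7),
  Rule.mk (nat_lit 6) (nat_lit 196) (Steps.bwd (nat_lit 3) (Steps.fwd (nat_lit 6144) (Steps.bwd (nat_lit 4) (Steps.bwd (nat_lit 6) (Steps.bwd (nat_lit 2) (Steps.bwd (nat_lit 3) (Steps.fwd (nat_lit 6144) (Steps.fwd (nat_lit 3072) (Steps.bwd (nat_lit 6) (Steps.fwd (nat_lit 1024) (Steps.bwd (nat_lit 4) (Steps.fwd (nat_lit 1024) (Steps.bwd (nat_lit 6) (Steps.bwd (nat_lit 3) (Steps.fwd (nat_lit 6144) (Steps.bwd (nat_lit 3) (Steps.bwd (nat_lit 1) Steps.nil))))))))))))))))) (nat_lit 19) (nat_lit 6),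
  Rule.mk (nat_lit 7) (nat_lit 218) (Steps.bwd (nat_lit 6) (Steps.fwd (nat_lit 2048) (Steps.bwd (nat_lit 3) (Steps.bwd (nat_lit 1) (Steps.fwd (nat_lit 5120) (Steps.fwd (nat_lit 6144) (Steps.fwd (nat_lit 4096) (Steps.bwd (nat_lit 6) (Steps.bwd (nat_lit 4) (Steps.fwd (nat_lit 6144) (Steps.bwd (nat_lit 4) (Steps.fwd (nat_lit 7168) (Steps.bwd (nat_lit 3) (Steps.bwd (nat_lit 6) (Steps.bwd (nat_lit 3) (Steps.fwd (nat_lit 6144) (Steps.bwd (nat_lit 4) (Steps.bwd (nat_lit 6) (Steps.fwd (nat_lit 3072) Steps.nil))))))))))))))))))) (nat_lit 26) (nat_lit 19),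
  Rule.mk (nat_lit 7) (nat_lit 97) (Steps.fwd (nat_lit 3072) (Steps.bwd (nat_lit 7) (Steps.fwd (nat_lit 2048) (Steps.bwd (nat_lit 4) (Steps.fwd (nat_lit 2048) (Steps.fwd (nat_lit 7168) (Steps.fwd (nat_lit 3072) (Steps.fwd (nat_lit 2048) Steps.nil)))))))) (nat_lit 22) (nat_lit 7),
  Rule.mk (nat_lit 7) (nat_lit 108) (Steps.fwd (nat_lit 4096) (Steps.bwd (nat_lit 1) (Steps.bwd (nat_lit 3) (Steps.fwd (nat_lit 6144) (Steps.bwd (nat_lit 7) (Steps.fwd (nat_lit 3072) (Steps.fwd (nat_lit 1024) (Steps.bwd (nat_lit 4) (Steps.bwd (nat_lit 6) Steps.nil))))))))) (nat_lit 24) (nat_lit 9),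
  Rule.mk (nat_lit 7) (nat_lit 108) (Steps.fwd (nat_lit 4096) (Steps.bwd (nat_lit 1) (Steps.bwd (nat_lit 3) (Steps.fwd (nat_lit 6144) (Steps.bwd (nat_lit 7) (Steps.bwd (nat_lit 4) (Steps.fwd (nat_lit 1024) (Steps.bwd (nat_lit 4) (Steps.bwd (nat_lit 6) Steps.nil))))))))) (nat_lit 24) (nat_lit 9),
  Rule.mk (nat_lit 7) (nat_lit 97) (Steps.bwd (nat_lit 2) (Steps.bwd (nat_lit 3) (Steps.fwd (nat_lit 1024) (Steps.fwd (nat_lit 7168) (Steps.fwd (nat_lit 4096) (Steps.fwd (nat_lit 7168) (Steps.fwd (nat_lit 1024) (Steps.bwd (nat_lit 3) Steps.nil)))))))) (nat_lit 23) (nat_lit 6),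
  Rule.mk (nat_lit 6) (nat_lit 196) (Steps.bwd (nat_lit 3) (Steps.fwd (nat_lit 6144) (Steps.fwd (nat_lit 3072) (Steps.bwd (nat_lit 6) (Steps.fwd (nat_lit 1024) (Steps.fwd (nat_lit 3072) (Steps.bwd (nat_lit 6) (Steps.fwd (nat_lit 3072) (Steps.fwd (nat_lit 6144) (Steps.fwd (nat_lit 2048) (Steps.fwd (nat_lit 4096) (Steps.fwd (nat_lit 2048) (Steps.fwd (nat_lit 6144) (Steps.fwd (nat_lit 4096) (Steps.bwd (nat_lit 6) (Steps.fwd (nat_lit 3072) (Steps.fwd (nat_lit 2048) Steps.nil))))))))))))))))) (nat_lit 18) (nat_lit 9),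
  Rule.mk (nat_lit 7) (nat_lit 97) (Steps.bwd (nat_lit 2) (Steps.bwd (nat_lit 3) (Steps.fwd (nat_lit 1024) (Steps.fwd (nat_lit 7168) (Steps.bwd (nat_lit 3) (Steps.fwd (nat_lit 7168) (Steps.fwd (nat_lit 1024) (Steps.bwd (nat_lit 3) Steps.nil)))))))) (nat_lit 23) (nat_lit 6),
  Rule.mk (nat_lit 7) (nat_lit 97) (Steps.bwd (nat_lit 2) (Steps.bwd (nat_lit 3) (Steps.fwd (nat_lit 1024) (Steps.bwd (nat_lit 7) (Steps.fwd (nat_lit 4096) (Steps.fwd (nat_lit 7168) (Steps.fwd (nat_lit 1024) (Steps.bwd (nat_lit 3) Steps.nil)))))))) (nat_lit 23) (nat_lit 6),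
  Rule.mk (nat_lit 6) (nat_lit 196) (Steps.bwd (nat_lit 3) (Steps.fwd (nat_lit 6144) (Steps.fwd (nat_lit 3072) (Steps.bwd (nat_lit 1) (Steps.bwd (nat_lit 6) (Steps.bwd (nat_lit 3) (Steps.fwd (nat_lit 6144) (Steps.fwd (nat_lit 3072) (Steps.fwd (nat_lit 6144) (Steps.bwd (nat_lit 2) (Steps.bwd (nat_lit 4) (Steps.fwd (nat_lit 6144) (Steps.fwd (nat_lit 3072) (Steps.bwd (nat_lit 6) (Steps.fwd (nat_lit 2048) (Steps.bwd (nat_lit 3) (Steps.fwd (nat_lit 2048) Steps.nil))))))))))))))))) (nat_lit 18) (nat_lit 4),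
  Rule.mk (nat_lit 7) (nat_lit 97) (Steps.bwd (nat_lit 2) (Steps.bwd (nat_lit 3) (Steps.bwd (nat_lit 2) (Steps.bwd (nat_lit 7) (Steps.fwd (nat_lit 4096) (Steps.fwd (nat_lit 7168) (Steps.bwd (nat_lit 2) (Steps.bwd (nat_lit 3) Steps.nil)))))))) (nat_lit 23) (nat_lit 6),
  Rule.mk (nat_lit 6) (nat_lit 196) (Steps.bwd (nat_lit 3) (Steps.bwd (nat_lit 6) (Steps.bwd (nat_lit 4) (Steps.fwd (nat_lit 6144) (Steps.bwd (nat_lit 2) (Steps.bwd (nat_lit 4) (Steps.bwd (nat_lit 6) (Steps.fwd (nat_lit 3072) (Steps.fwd (nat_lit 6144) (Steps.fwd (nat_lit 2048) (Steps.fwd (nat_lit 4096) (Steps.fwd (nat_lit 2048) (Steps.bwd (nat_lit 6) (Steps.fwd (nat_lit 4096) (Steps.fwd (nat_lit 6144) (Steps.fwd (nat_lit 3072) (Steps.fwd (nat_lit 2048) Steps.nil))))))))))))))))) (nat_lit 18) (nat_lit 9),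
  Rule.mk (nat_lit 4) (nat_lit 196) (Steps.bwd (nat_lit 6) (Steps.fwd (nat_lit 2048) (Steps.bwd (nat_lit 3) (Steps.fwd (nat_lit 2048) (Steps.fwd (nat_lit 6144) (Steps.bwd (nat_lit 3) (Steps.bwd (nat_lit 6) (Steps.fwd (nat_lit 3072) (Steps.fwd (nat_lit 2048) (Steps.fwd (nat_lit 6144) (Steps.bwd (nat_lit 3) (Steps.fwd (nat_lit 6144) (Steps.fwd (nat_lit 3072) (Steps.bwd (nat_lit 6) (Steps.bwd (nat_lit 2) (Steps.fwd (nat_lit 3072) (Steps.fwd (nat_lit 6144) Steps.nil))))))))))))))))) (nat_lit 18) (nat_lit 17),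
  Rule.mk (nat_lit 7) (nat_lit 218) (Steps.bwd (nat_lit 6) (Steps.fwd (nat_lit 2048) (Steps.bwd (nat_lit 3) (Steps.fwd (nat_lit 2048) (Steps.fwd (nat_lit 5120) (Steps.bwd (nat_lit 6) (Steps.bwd (nat_lit 3) (Steps.bwd (nat_lit 6) (Steps.fwd (nat_lit 3072) (Steps.fwd (nat_lit 6144) (Steps.fwd (nat_lit 3072) (Steps.fwd (nat_lit 7168) (Steps.bwd (nat_lit 3) (Steps.fwd (nat_lit 6144) (Steps.bwd (nat_lit 3) (Steps.fwd (nat_lit 6144) (Steps.fwd (nat_lit 3072) (Steps.fwd (nat_lit 6144) (Steps.bwd (nat_lit 4) Steps.nil))))))))))))))))))) (nat_lit 26) (nat_lit 19),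
  Rule.mk (nat_lit 7) (nat_lit 108) (Steps.fwd (nat_lit 3072) (Steps.bwd (nat_lit 2) (Steps.bwd (nat_lit 4) (Steps.bwd (nat_lit 6) (Steps.fwd (nat_lit 7168) (Steps.bwd (nat_lit 3) (Steps.bwd (nat_lit 1) (Steps.bwd (nat_lit 3) (Steps.bwd (nat_lit 6) Steps.nil))))))))) (nat_lit 24) (nat_lit 4),
  Rule.mk (nat_lit 7) (nat_lit 108) (Steps.bwd (nat_lit 6) (Steps.fwd (nat_lit 3072) (Steps.bwd (nat_lit 2) (Steps.fwd (nat_lit 3072) (Steps.fwd (nat_lit 7168) (Steps.bwd (nat_lit 6) (Steps.bwd (nat_lit 3) (Steps.fwd (nat_lit 2048) (Steps.fwd (nat_lit 4096) Steps.nil))))))))) (nat_lit 25) (nat_lit 7),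
  Rule.mk (nat_lit 7) (nat_lit 97) (Steps.bwd (nat_lit 4) (Steps.fwd (nat_lit 7168) (Steps.fwd (nat_lit 2048) (Steps.fwd (nat_lit 3072) (Steps.fwd (nat_lit 2048) (Steps.fwd (nat_lit 7168) (Steps.bwd (nat_lit 4) (Steps.bwd (nat_lit 1) Steps.nil)))))))) (nat_lit 22) (nat_lit 7),
  Rule.mk (nat_lit 6) (nat_lit 196) (Steps.bwd (nat_lit 4) (Steps.bwd (nat_lit 6) (Steps.fwd (nat_lit 2048) (Steps.bwd (nat_lit 3) (Steps.fwd (nat_lit 2048) (Steps.fwd (nat_lit 6144) (Steps.fwd (nat_lit 4096) (Steps.fwd (nat_lit 6144) (Steps.bwd (nat_lit 4) (Steps.bwd (nat_lit 1) (Steps.fwd (nat_lit 6144) (Steps.bwd (nat_lit 3) (Steps.fwd (nat_lit 6144) (Steps.fwd (nat_lit 3072) (Steps.fwd (nat_lit 6144) (Steps.bwd (nat_lit 2) (Steps.bwd (nat_lit 4) Steps.nil))))))))))))))))) (nat_lit 18) (nat_lit 16),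
  Rule.mk (nat_lit 3) (nat_lit 97) (Steps.bwd (nat_lit 7) (Steps.bwd (nat_lit 2) (Steps.fwd (nat_lit 4096) (Steps.fwd (nat_lit 7168) (Steps.bwd (nat_lit 2) (Steps.bwd (nat_lit 3) (Steps.bwd (nat_lit 2) (Steps.fwd (nat_lit 7168) Steps.nil)))))))) (nat_lit 23) (nat_lit 2),
  Rule.mk (nat_lit 1) (nat_lit 97) (Steps.bwd (nat_lit 7) (Steps.fwd (nat_lit 3072) (Steps.bwd (nat_lit 7) (Steps.bwd (nat_lit 1) (Steps.bwd (nat_lit 4) (Steps.fwd (nat_lit 2048) (Steps.fwd (nat_lit 7168) (Steps.fwd (nat_lit 3072) Steps.nil)))))))) (nat_lit 22) (nat_lit 6),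
  Rule.mk (nat_lit 4) (nat_lit 97) (Steps.bwd (nat_lit 7) (Steps.fwd (nat_lit 2048) (Steps.fwd (nat_lit 3072) (Steps.fwd (nat_lit 2048) (Steps.fwd (nat_lit 7168) (Steps.bwd (nat_lit 4) (Steps.fwd (nat_lit 2048) (Steps.fwd (nat_lit 7168) Steps.nil)))))))) (nat_lit 22) (nat_lit 8),
  Rule.mk (nat_lit 2) (nat_lit 97) (Steps.fwd (nat_lit 4096) (Steps.bwd (nat_lit 7) (Steps.bwd (nat_lit 2) (Steps.fwd (nat_lit 4096) (Steps.bwd (nat_lit 2) (Steps.bwd (nat_lit 7) (Steps.bwd (nat_lit 3) (Steps.fwd (nat_lit 7168) Steps.nil)))))))) (nat_lit 23) (nat_lit 4),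
  Rule.mk (nat_lit 7) (nat_lit 97) (Steps.bwd (nat_lit 1) (Steps.bwd (nat_lit 4) (Steps.fwd (nat_lit 2048) (Steps.bwd (nat_lit 7) (Steps.fwd (nat_lit 3072) (Steps.fwd (nat_lit 2048) (Steps.fwd (nat_lit 7168) (Steps.bwd (nat_lit 4) Steps.nil)))))))) (nat_lit 22) (nat_lit 0),
  Rule.mk (nat_lit 3) (nat_lit 108) (Steps.bwd (nat_lit 6) (Steps.bwd (nat_lit 7) (Steps.fwd (nat_lit 3072) (Steps.bwd (nat_lit 2) (Steps.fwd (nat_lit 3072) (Steps.bwd (nat_lit 6) (Steps.fwd (nat_lit 7168) (Steps.bwd (nat_lit 3) (Steps.bwd (nat_lit 1) Steps.nil))))))))) (nat_lit 24) (nat_lit 2),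
  Rule.mk (nat_lit 7) (nat_lit 97) (Steps.bwd (nat_lit 3) (Steps.fwd (nat_lit 7168) (Steps.fwd (nat_lit 1024) (Steps.fwd (nat_lit 4096) (Steps.fwd (nat_lit 7168) (Steps.fwd (nat_lit 1024) (Steps.bwd (nat_lit 3) (Steps.bwd (nat_lit 2) Steps.nil)))))))) (nat_lit 23) (nat_lit 1),
  Rule.mk (nat_lit 4) (nat_lit 97) (Steps.bwd (nat_lit 7) (Steps.bwd (nat_lit 1) (Steps.bwd (nat_lit 4) (Steps.fwd (nat_lit 2048) (Steps.bwd (nat_lit 7) (Steps.fwd (nat_lit 3072) (Steps.bwd (nat_lit 1) (Steps.bwd (nat_lit 7) Steps.nil)))))))) (nat_lit 22) (nat_lit 8),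
  Rule.mk (nat_lit 3) (nat_lit 97) (Steps.bwd (nat_lit 7) (Steps.fwd (nat_lit 1024) (Steps.bwd (nat_lit 3) (Steps.fwd (nat_lit 1024) (Steps.bwd (nat_lit 7) (Steps.bwd (nat_lit 3) (Steps.fwd (nat_lit 7168) (Steps.bwd (nat_lit 2) Steps.nil)))))))) (nat_lit 23) (nat_lit 5),
  Rule.mk (nat_lit 6) (nat_lit 108) (Steps.bwd (nat_lit 3) (Steps.fwd (nat_lit 2048) (Steps.bwd (nat_lit 3) (Steps.bwd (nat_lit 7) (Steps.fwd (nat_lit 6144) (Steps.bwd (nat_lit 4) (Steps.bwd (nat_lit 2) (Steps.bwd (nat_lit 4) (Steps.bwd (nat_lit 7) Steps.nil))))))))) (nat_lit 25) (nat_lit 3),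
  Rule.mk (nat_lit 6) (nat_lit 108) (Steps.bwd (nat_lit 4) (Steps.fwd (nat_lit 1024) (Steps.bwd (nat_lit 4) (Steps.bwd (nat_lit 7) (Steps.fwd (nat_lit 6144) (Steps.fwd (nat_lit 4096) (Steps.bwd (nat_lit 1) (Steps.fwd (nat_lit 4096) (Steps.fwd (nat_lit 7168) Steps.nil))))))))) (nat_lit 25) (nat_lit 8),
  Rule.mk (nat_lit 4) (nat_lit 97) (Steps.bwd (nat_lit 7) (Steps.bwd (nat_lit 1) (Steps.bwd (nat_lit 4) (Steps.fwd (nat_lit 2048) (Steps.fwd (nat_lit 7168) (Steps.fwd (nat_lit 3072) (Steps.fwd (nat_lit 2048) (Steps.fwd (nat_lit 7168) Steps.nil)))))))) (nat_lit 22) (nat_lit 8),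
  Rule.mk (nat_lit 1) (nat_lit 97) (Steps.bwd (nat_lit 7) (Steps.bwd (nat_lit 4) (Steps.fwd (nat_lit 7168) (Steps.fwd (nat_lit 2048) (Steps.fwd (nat_lit 3072) (Steps.bwd (nat_lit 1) (Steps.bwd (nat_lit 7) (Steps.bwd (nat_lit 4) Steps.nil)))))))) (nat_lit 22) (nat_lit 6),
  Rule.mk (nat_lit 3) (nat_lit 97) (Steps.bwd (nat_lit 7) (Steps.fwd (nat_lit 1024) (Steps.fwd (nat_lit 4096) (Steps.fwd (nat_lit 1024) (Steps.bwd (nat_lit 7) (Steps.fwd (nat_lit 4096) (Steps.bwd (nat_lit 7) (Steps.fwd (nat_lit 1024) Steps.nil)))))))) (nat_lit 23) (nat_lit 5),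
  Rule.mk (nat_lit 4) (nat_lit 97) (Steps.bwd (nat_lit 7) (Steps.bwd (nat_lit 1) (Steps.bwd (nat_lit 4) (Steps.fwd (nat_lit 2048) (Steps.bwd (nat_lit 7) (Steps.bwd (nat_lit 4) (Steps.bwd (nat_lit 1) (Steps.fwd (nat_lit 7168) Steps.nil)))))))) (nat_lit 22) (nat_lit 8),
  Rule.mk (nat_lit 1) (nat_lit 97) (Steps.bwd (nat_lit 7) (Steps.bwd (nat_lit 4) (Steps.fwd (nat_lit 7168) (Steps.fwd (nat_lit 2048) (Steps.fwd (nat_lit 3072) (Steps.fwd (nat_lit 2048) (Steps.fwd (nat_lit 7168) (Steps.bwd (nat_lit 4) Steps.nil)))))))) (nat_lit 22) (nat_lit 6),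
  Rule.mk (nat_lit 2) (nat_lit 97) (Steps.fwd (nat_lit 4096) (Steps.bwd (nat_lit 7) (Steps.fwd (nat_lit 1024) (Steps.fwd (nat_lit 4096) (Steps.bwd (nat_lit 2) (Steps.bwd (nat_lit 7) (Steps.fwd (nat_lit 4096) (Steps.fwd (nat_lit 7168) Steps.nil)))))))) (nat_lit 23) (nat_lit 4),
  Rule.mk (nat_lit 4) (nat_lit 196) (Steps.bwd (nat_lit 6) (Steps.fwd (nat_lit 2048) (Steps.bwd (nat_lit 3) (Steps.fwd (nat_lit 2048) (Steps.bwd (nat_lit 6) (Steps.bwd (nat_lit 3) (Steps.bwd (nat_lit 6) (Steps.bwd (nat_lit 4) (Steps.fwd (nat_lit 2048) (Steps.bwd (nat_lit 6) (Steps.bwd (nat_lit 3) (Steps.fwd (nat_lit 6144) (Steps.bwd (nat_lit 4) (Steps.bwd (nat_lit 6) (Steps.bwd (nat_lit 2) (Steps.bwd (nat_lit 4) (Steps.fwd (nat_lit 6144) Steps.nil))))))))))))))))) (nat_lit 18) (nat_lit 17),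
  Rule.mk (nat_lit 7) (nat_lit 108) (Steps.bwd (nat_lit 4) (Steps.fwd (nat_lit 1024) (Steps.bwd (nat_lit 4) (Steps.bwd (nat_lit 6) (Steps.fwd (nat_lit 7168) (Steps.bwd (nat_lit 3) (Steps.fwd (nat_lit 2048) (Steps.fwd (nat_lit 4096) (Steps.bwd (nat_lit 6) Steps.nil))))))))) (nat_lit 24) (nat_lit 4),
  Rule.mk (nat_lit 6) (nat_lit 196) (Steps.bwd (nat_lit 4) (Steps.bwd (nat_lit 6) (Steps.bwd (nat_lit 2) (Steps.bwd (nat_lit 4) (Steps.fwd (nat_lit 6144) (Steps.bwd (nat_lit 4) (Steps.fwd (nat_lit 6144) (Steps.fwd (nat_lit 2048) (Steps.bwd (nat_lit 3) (Steps.bwd (nat_lit 1) (Steps.bwd (nat_lit 6) (Steps.bwd (nat_lit 3) (Steps.fwd (nat_lit 6144) (Steps.fwd (nat_lit 3072) (Steps.bwd (nat_lit 1) (Steps.bwd (nat_lit 6) (Steps.fwd (nat_lit 4096) Steps.nil))))))))))))))))) (nat_lit 18) (nat_lit 11)]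
noncomputable def R_7 : List (Rule) := [Rule.mk (nat_lit 4) (nat_lit 108) (Steps.bwd (nat_lit 7) (Steps.bwd (nat_lit 6) (Steps.bwd (nat_lit 3) (Steps.fwd (nat_lit 2048) (Steps.bwd (nat_lit 3) (Steps.bwd (nat_lit 7) (Steps.fwd (nat_lit 6144) (Steps.bwd (nat_lit 4) (Steps.fwd (nat_lit 1024) Steps.nil))))))))) (nat_lit 25) (nat_lit 1),
  Rule.mk (nat_lit 6) (nat_lit 218) (Steps.bwd (nat_lit 7) (Steps.fwd (nat_lit 4096) (Steps.fwd (nat_lit 6144) (Steps.fwd (nat_lit 4096) (Steps.bwd (nat_lit 6) (Steps.fwd (nat_lit 3072) (Steps.fwd (nat_lit 6144) (Steps.fwd (nat_lit 3072) (Steps.fwd (nat_lit 7168) (Steps.fwd (nat_lit 4096) (Steps.bwd (nat_lit 6) (Steps.bwd (nat_lit 3) (Steps.fwd (nat_lit 6144) (Steps.fwd (nat_lit 3072) (Steps.fwd (nat_lit 6144) (Steps.bwd (nat_lit 5) (Steps.bwd (nat_lit 2) (Steps.bwd (nat_lit 4) (Steps.bwd (nat_lit 2) Steps.nil))))))))))))))))))) (nat_lit 27) (nat_lit 1),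
  Rule.mk (nat_lit 5) (nat_lit 42) (Steps.fwd (nat_lit 6144) (Steps.fwd (nat_lit 5120) (Steps.bwd (nat_lit 6) Steps.nil))) (nat_lit 16) (nat_lit 1),
  Rule.mk (nat_lit 3) (nat_lit 64) (Steps.bwd (nat_lit 2) (Steps.bwd (nat_lit 4) (Steps.bwd (nat_lit 1) (Steps.bwd (nat_lit 4) (Steps.bwd (nat_lit 2) Steps.nil))))) (nat_lit 5) (nat_lit 1),
  Rule.mk (nat_lit 7) (nat_lit 108) (Steps.fwd (nat_lit 3072) (Steps.bwd (nat_lit 2) (Steps.bwd (nat_lit 4) (Steps.bwd (nat_lit 6) (Steps.fwd (nat_lit 7168) (Steps.bwd (nat_lit 3) (Steps.bwd (nat_lit 1) (Steps.fwd (nat_lit 4096) (Steps.fwd (nat_lit 6144) Steps.nil))))))))) (nat_lit 24) (nat_lit 4),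
  Rule.mk (nat_lit 7) (nat_lit 97) (Steps.bwd (nat_lit 4) (Steps.fwd (nat_lit 7168) (Steps.bwd (nat_lit 1) (Steps.bwd (nat_lit 4) (Steps.bwd (nat_lit 1) (Steps.fwd (nat_lit 7168) (Steps.bwd (nat_lit 4) (Steps.bwd (nat_lit 1) Steps.nil)))))))) (nat_lit 22) (nat_lit 7),
  Rule.mk (nat_lit 6) (nat_lit 196) (Steps.bwd (nat_lit 4) (Steps.fwd (nat_lit 6144) (Steps.bwd (nat_lit 1) (Steps.fwd (nat_lit 4096) (Steps.fwd (nat_lit 2048) (Steps.fwd (nat_lit 6144) (Steps.fwd (nat_lit 4096) (Steps.bwd (nat_lit 6) (Steps.fwd (nat_lit 3072) (Steps.fwd (nat_lit 2048) (Steps.fwd (nat_lit 6144) (Steps.bwd (nat_lit 3) (Steps.bwd (nat_lit 6) (Steps.fwd (nat_lit 3072) (Steps.bwd (nat_lit 6) (Steps.fwd (nat_lit 1024) (Steps.bwd (nat_lit 4) Steps.nil))))))))))))))))) (nat_lit 18) (nat_lit 16),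
  Rule.mk (nat_lit 3) (nat_lit 196) (Steps.bwd (nat_lit 6) (Steps.bwd (nat_lit 4) (Steps.bwd (nat_lit 6) (Steps.fwd (nat_lit 1024) (Steps.fwd (nat_lit 3072) (Steps.fwd (nat_lit 6144) (Steps.fwd (nat_lit 3072) (Steps.fwd (nat_lit 6144) (Steps.fwd (nat_lit 2048) (Steps.fwd (nat_lit 4096) (Steps.bwd (nat_lit 1) (Steps.bwd (nat_lit 6) (Steps.bwd (nat_lit 3) (Steps.fwd (nat_lit 6144) (Steps.fwd (nat_lit 3072) (Steps.bwd (nat_lit 1) (Steps.fwd (nat_lit 6144) Steps.nil))))))))))))))))) (nat_lit 18) (nat_lit 10),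
  Rule.mk (nat_lit 4) (nat_lit 196) (Steps.bwd (nat_lit 6) (Steps.fwd (nat_lit 2048) (Steps.bwd (nat_lit 3) (Steps.fwd (nat_lit 2048) (Steps.bwd (nat_lit 6) (Steps.bwd (nat_lit 3) (Steps.bwd (nat_lit 6) (Steps.fwd (nat_lit 3072) (Steps.fwd (nat_lit 2048) (Steps.fwd (nat_lit 6144) (Steps.bwd (nat_lit 3) (Steps.bwd (nat_lit 6) (Steps.bwd (nat_lit 4) (Steps.fwd (nat_lit 6144) (Steps.fwd (nat_lit 1024) (Steps.bwd (nat_lit 4) (Steps.fwd (nat_lit 6144) Steps.nil))))))))))))))))) (nat_lit 18) (nat_lit 17),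
  Rule.mk (nat_lit 7) (nat_lit 218) (Steps.bwd (nat_lit 6) (Steps.fwd (nat_lit 2048) (Steps.bwd (nat_lit 3) (Steps.fwd (nat_lit 2048) (Steps.fwd (nat_lit 5120) (Steps.bwd (nat_lit 6) (Steps.fwd (nat_lit 4096) (Steps.fwd (nat_lit 6144) (Steps.fwd (nat_lit 3072) (Steps.fwd (nat_lit 6144) (Steps.bwd (nat_lit 4) (Steps.fwd (nat_lit 7168) (Steps.fwd (nat_lit 4096) (Steps.fwd (nat_lit 6144) (Steps.fwd (nat_lit 4096) (Steps.fwd (nat_lit 6144) (Steps.bwd (nat_lit 4) (Steps.fwd (nat_lit 6144) (Steps.bwd (nat_lit 4) Steps.nil))))))))))))))))))) (nat_lit 26) (nat_lit 19),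
  Rule.mk (nat_lit 4) (nat_lit 196) (Steps.bwd (nat_lit 1) (Steps.bwd (nat_lit 6) (Steps.bwd (nat_lit 3) (Steps.bwd (nat_lit 6) (Steps.fwd (nat_lit 3072) (Steps.fwd (nat_lit 6144) (Steps.fwd (nat_lit 1024) (Steps.fwd (nat_lit 3072) (Steps.fwd (nat_lit 6144) (Steps.bwd (nat_lit 4) (Steps.bwd (nat_lit 6) (Steps.fwd (nat_lit 2048) (Steps.bwd (nat_lit 3) (Steps.fwd (nat_lit 2048) (Steps.fwd (nat_lit 6144) (Steps.fwd (nat_lit 4096) (Steps.bwd (nat_lit 6) Steps.nil))))))))))))))))) (nat_lit 18) (nat_lit 7),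
  Rule.mk (nat_lit 7) (nat_lit 108) (Steps.fwd (nat_lit 3072) (Steps.fwd (nat_lit 1024) (Steps.bwd (nat_lit 4) (Steps.fwd (nat_lit 6144) (Steps.bwd (nat_lit 7) (Steps.bwd (nat_lit 3) (Steps.bwd (nat_lit 1) (Steps.fwd (nat_lit 4096) (Steps.fwd (nat_lit 6144) Steps.nil))))))))) (nat_lit 24) (nat_lit 4),
  Rule.mk (nat_lit 2) (nat_lit 42) (Steps.bwd (nat_lit 5) (Steps.fwd (nat_lit 1024) (Steps.fwd (nat_lit 5120) Steps.nil))) (nat_lit 9) (nat_lit 0),
  Rule.mk (nat_lit 4) (nat_lit 64) (Steps.bwd (nat_lit 2) (Steps.fwd (nat_lit 4096) (Steps.fwd (nat_lit 1024) (Steps.fwd (nat_lit 3072) (Steps.fwd (nat_lit 2048) Steps.nil))))) (nat_lit 5) (nat_lit 5),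
  Rule.mk (nat_lit 7) (nat_lit 108) (Steps.fwd (nat_lit 6144) (Steps.bwd (nat_lit 3) (Steps.fwd (nat_lit 2048) (Steps.fwd (nat_lit 4096) (Steps.fwd (nat_lit 7168) (Steps.bwd (nat_lit 6) (Steps.bwd (nat_lit 4) (Steps.bwd (nat_lit 2) (Steps.bwd (nat_lit 4) Steps.nil))))))))) (nat_lit 25) (nat_lit 2),
  Rule.mk (nat_lit 6) (nat_lit 196) (Steps.bwd (nat_lit 3) (Steps.fwd (nat_lit 6144) (Steps.bwd (nat_lit 3) (Steps.fwd (nat_lit 2048) (Steps.bwd (nat_lit 6) (Steps.bwd (nat_lit 3) (Steps.bwd (nat_lit 6) (Steps.fwd (nat_lit 3072) (Steps.fwd (nat_lit 6144) (Steps.bwd (nat_lit 2) (Steps.bwd (nat_lit 3) (Steps.fwd (nat_lit 6144) (Steps.fwd (nat_lit 3072) (Steps.bwd (nat_lit 6) (Steps.bwd (nat_lit 2) (Steps.fwd (nat_lit 3072) (Steps.bwd (nat_lit 2) Steps.nil))))))))))))))))) (nat_lit 19) (nat_lit 1),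
  Rule.mk (nat_lit 4) (nat_lit 196) (Steps.bwd (nat_lit 6) (Steps.fwd (nat_lit 2048) (Steps.bwd (nat_lit 3) (Steps.bwd (nat_lit 1) (Steps.bwd (nat_lit 6) (Steps.fwd (nat_lit 4096) (Steps.fwd (nat_lit 6144) (Steps.bwd (nat_lit 4) (Steps.fwd (nat_lit 2048) (Steps.fwd (nat_lit 6144) (Steps.fwd (nat_lit 4096) (Steps.bwd (nat_lit 6) (Steps.bwd (nat_lit 4) (Steps.bwd (nat_lit 6) (Steps.fwd (nat_lit 1024) (Steps.fwd (nat_lit 3072) (Steps.fwd (nat_lit 6144) Steps.nil))))))))))))))))) (nat_lit 18) (nat_lit 17),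
  Rule.mk (nat_lit 3) (nat_lit 196) (Steps.bwd (nat_lit 6) (Steps.fwd (nat_lit 3072) (Steps.fwd (nat_lit 6144) (Steps.bwd (nat_lit 2) (Steps.fwd (nat_lit 3072) (Steps.bwd (nat_lit 6) (Steps.bwd (nat_lit 4) (Steps.fwd (nat_lit 6144) (Steps.fwd (nat_lit 2048) (Steps.bwd (nat_lit 3) (Steps.fwd (nat_lit 2048) (Steps.fwd (nat_lit 6144) (Steps.bwd (nat_lit 3) (Steps.bwd (nat_lit 6) (Steps.fwd (nat_lit 3072) (Steps.bwd (nat_lit 1) (Steps.fwd (nat_lit 6144) Steps.nil))))))))))))))))) (nat_lit 18) (nat_lit 10),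
  Rule.mk (nat_lit 7) (nat_lit 108) (Steps.bwd (nat_lit 3) (Steps.fwd (nat_lit 2048) (Steps.bwd (nat_lit 3) (Steps.bwd (nat_lit 6) (Steps.fwd (nat_lit 7168) (Steps.fwd (nat_lit 3072) (Steps.fwd (nat_lit 1024) (Steps.fwd (nat_lit 3072) (Steps.fwd (nat_lit 6144) Steps.nil))))))))) (nat_lit 24) (nat_lit 9),
  Rule.mk (nat_lit 6) (nat_lit 108) (Steps.bwd (nat_lit 7) (Steps.bwd (nat_lit 3) (Steps.bwd (nat_lit 1) (Steps.fwd (nat_lit 4096) (Steps.bwd (nat_lit 6) (Steps.fwd (nat_lit 7168) (Steps.bwd (nat_lit 4) (Steps.fwd (nat_lit 1024) (Steps.bwd (nat_lit 4) Steps.nil))))))))) (nat_lit 24) (nat_lit 8),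
  Rule.mk (nat_lit 7) (nat_lit 97) (Steps.bwd (nat_lit 4) (Steps.bwd (nat_lit 7) (Steps.fwd (nat_lit 2048) (Steps.bwd (nat_lit 4) (Steps.fwd (nat_lit 2048) (Steps.fwd (nat_lit 7168) (Steps.fwd (nat_lit 3072) (Steps.fwd (nat_lit 2048) Steps.nil)))))))) (nat_lit 22) (nat_lit 7),
  Rule.mk (nat_lit 1) (nat_lit 97) (Steps.fwd (nat_lit 7168) (Steps.bwd (nat_lit 4) (Steps.fwd (nat_lit 7168) (Steps.fwd (nat_lit 2048) (Steps.fwd (nat_lit 3072) (Steps.fwd (nat_lit 2048) (Steps.bwd (nat_lit 7) (Steps.bwd (nat_lit 4) Steps.nil)))))))) (nat_lit 22) (nat_lit 6),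
  Rule.mk (nat_lit 6) (nat_lit 218) (Steps.bwd (nat_lit 4) (Steps.bwd (nat_lit 7) (Steps.bwd (nat_lit 6) (Steps.bwd (nat_lit 1) (Steps.bwd (nat_lit 3) (Steps.fwd (nat_lit 2048) (Steps.fwd (nat_lit 5120) (Steps.bwd (nat_lit 6) (Steps.bwd (nat_lit 3) (Steps.fwd (nat_lit 6144) (Steps.fwd (nat_lit 3072) (Steps.bwd (nat_lit 6) (Steps.bwd (nat_lit 4) (Steps.fwd (nat_lit 7168) (Steps.fwd (nat_lit 4096) (Steps.fwd (nat_lit 6144) (Steps.bwd (nat_lit 3) (Steps.bwd (nat_lit 6) (Steps.bwd (nat_lit 4) Steps.nil))))))))))))))))))) (nat_lit 26) (nat_lit 17),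
  Rule.mk (nat_lit 5) (nat_lit 218) (Steps.fwd (nat_lit 6144) (Steps.bwd (nat_lit 3) (Steps.bwd (nat_lit 6) (Steps.bwd (nat_lit 4) (Steps.fwd (nat_lit 6144) (Steps.fwd (nat_lit 3072) (Steps.bwd (nat_lit 7) (Steps.bwd (nat_lit 3) (Steps.fwd (nat_lit 6144) (Steps.bwd (nat_lit 3) (Steps.fwd (nat_lit 6144) (Steps.fwd (nat_lit 3072) (Steps.bwd (nat_lit 6) (Steps.fwd (nat_lit 3072) (Steps.fwd (nat_lit 7168) (Steps.bwd (nat_lit 6) (Steps.bwd (nat_lit 1) (Steps.bwd (nat_lit 3) (Steps.bwd (nat_lit 1) Steps.nil))))))))))))))))))) (nat_lit 26) (nat_lit 4),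
  Rule.mk (nat_lit 5) (nat_lit 218) (Steps.fwd (nat_lit 1024) (Steps.fwd (nat_lit 3072) (Steps.bwd (nat_lit 2) (Steps.bwd (nat_lit 6) (Steps.bwd (nat_lit 7) (Steps.bwd (nat_lit 3) (Steps.bwd (nat_lit 6) (Steps.fwd (nat_lit 4096) (Steps.fwd (nat_lit 6144) (Steps.bwd (nat_lit 4) (Steps.fwd (nat_lit 6144) (Steps.fwd (nat_lit 3072) (Steps.fwd (nat_lit 7168) (Steps.bwd (nat_lit 3) (Steps.fwd (nat_lit 6144) (Steps.bwd (nat_lit 3) (Steps.bwd (nat_lit 6) (Steps.bwd (nat_lit 4) (Steps.fwd (nat_lit 6144) Steps.nil))))))))))))))))))) (nat_lit 27) (nat_lit 17),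
  Rule.mk (nat_lit 4) (nat_lit 64) (Steps.bwd (nat_lit 1) (Steps.fwd (nat_lit 4096) (Steps.fwd (nat_lit 1024) (Steps.fwd (nat_lit 4096) (Steps.bwd (nat_lit 1) Steps.nil))))) (nat_lit 4) (nat_lit 0),
  Rule.mk (nat_lit 7) (nat_lit 97) (Steps.bwd (nat_lit 4) (Steps.bwd (nat_lit 1) (Steps.bwd (nat_lit 7) (Steps.bwd (nat_lit 4) (Steps.bwd (nat_lit 7) (Steps.fwd (nat_lit 2048) (Steps.fwd (nat_lit 3072) (Steps.fwd (nat_lit 2048) Steps.nil)))))))) (nat_lit 22) (nat_lit 4),
  Rule.mk (nat_lit 7) (nat_lit 97) (Steps.bwd (nat_lit 4) (Steps.fwd (nat_lit 7168) (Steps.fwd (nat_lit 2048) (Steps.bwd (nat_lit 4) (Steps.bwd (nat_lit 1) (Steps.fwd (nat_lit 7168) (Steps.bwd (nat_lit 4) (Steps.bwd (nat_lit 1) Steps.nil)))))))) (nat_lit 22) (nat_lit 7),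
  Rule.mk (nat_lit 6) (nat_lit 196) (Steps.bwd (nat_lit 4) (Steps.fwd (nat_lit 6144) (Steps.bwd (nat_lit 1) (Steps.fwd (nat_lit 4096) (Steps.fwd (nat_lit 2048) (Steps.bwd (nat_lit 6) (Steps.fwd (nat_lit 4096) (Steps.fwd (nat_lit 6144) (Steps.fwd (nat_lit 3072) (Steps.bwd (nat_lit 1) (Steps.fwd (nat_lit 6144) (Steps.bwd (nat_lit 3) (Steps.bwd (nat_lit 6) (Steps.bwd (nat_lit 4) (Steps.bwd (nat_lit 6) (Steps.fwd (nat_lit 1024) (Steps.bwd (nat_lit 4) Steps.nil))))))))))))))))) (nat_lit 18) (nat_lit 16),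
  Rule.mk (nat_lit 3) (nat_lit 196) (Steps.bwd (nat_lit 6) (Steps.bwd (nat_lit 4) (Steps.fwd (nat_lit 6144) (Steps.bwd (nat_lit 2) (Steps.bwd (nat_lit 4) (Steps.fwd (nat_lit 6144) (Steps.fwd (nat_lit 3072) (Steps.bwd (nat_lit 6) (Steps.fwd (nat_lit 2048) (Steps.bwd (nat_lit 3) (Steps.bwd (nat_lit 1) (Steps.bwd (nat_lit 6) (Steps.bwd (nat_lit 3) (Steps.bwd (nat_lit 6) (Steps.bwd (nat_lit 4) (Steps.bwd (nat_lit 1) (Steps.fwd (nat_lit 6144) Steps.nil))))))))))))))))) (nat_lit 18) (nat_lit 10),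
  Rule.mk (nat_lit 7) (nat_lit 218) (Steps.bwd (nat_lit 3) (Steps.bwd (nat_lit 6) (Steps.fwd (nat_lit 4096) (Steps.bwd (nat_lit 6) (Steps.bwd (nat_lit 4) (Steps.fwd (nat_lit 6144) (Steps.bwd (nat_lit 4) (Steps.fwd (nat_lit 7168) (Steps.bwd (nat_lit 6) (Steps.bwd (nat_lit 1) (Steps.bwd (nat_lit 3) (Steps.fwd (nat_lit 2048) (Steps.bwd (nat_lit 5) (Steps.bwd (nat_lit 6) (Steps.fwd (nat_lit 4096) (Steps.fwd (nat_lit 6144) (Steps.bwd (nat_lit 4) (Steps.fwd (nat_lit 6144) (Steps.fwd (nat_lit 3072) Steps.nil))))))))))))))))))) (nat_lit 26) (nat_lit 11),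
  Rule.mk (nat_lit 6) (nat_lit 196) (Steps.bwd (nat_lit 4) (Steps.fwd (nat_lit 6144) (Steps.fwd (nat_lit 2048) (Steps.bwd (nat_lit 3) (Steps.bwd (nat_lit 1) (Steps.fwd (nat_lit 6144) (Steps.bwd (nat_lit 3) (Steps.bwd (nat_lit 6) (Steps.fwd (nat_lit 3072) (Steps.bwd (nat_lit 1) (Steps.bwd (nat_lit 6) (Steps.fwd (nat_lit 4096) (Steps.fwd (nat_lit 6144) (Steps.bwd (nat_lit 4) (Steps.bwd (nat_lit 6) (Steps.fwd (nat_lit 1024) (Steps.bwd (nat_lit 4) Steps.nil))))))))))))))))) (nat_lit 18) (nat_lit 16),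
  Rule.mk (nat_lit 2) (nat_lit 196) (Steps.bwd (nat_lit 4) (Steps.fwd (nat_lit 6144) (Steps.fwd (nat_lit 3072) (Steps.fwd (nat_lit 6144) (Steps.bwd (nat_lit 1) (Steps.bwd (nat_lit 3) (Steps.bwd (nat_lit 1) (Steps.fwd (nat_lit 6144) (Steps.fwd (nat_lit 4096) (Steps.bwd (nat_lit 6) (Steps.fwd (nat_lit 3072) (Steps.fwd (nat_lit 2048) (Steps.fwd (nat_lit 6144) (Steps.fwd (nat_lit 4096) (Steps.fwd (nat_lit 6144) (Steps.bwd (nat_lit 4) (Steps.bwd (nat_lit 6) Steps.nil))))))))))))))))) (nat_lit 18) (nat_lit 14),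
  Rule.mk (nat_lit 3) (nat_lit 108) (Steps.bwd (nat_lit 7) (Steps.fwd (nat_lit 6144) (Steps.fwd (nat_lit 3072) (Steps.fwd (nat_lit 1024) (Steps.bwd (nat_lit 4) (Steps.bwd (nat_lit 7) (Steps.bwd (nat_lit 6) (Steps.fwd (nat_lit 4096) (Steps.fwd (nat_lit 2048) Steps.nil))))))))) (nat_lit 25) (nat_lit 6),
  Rule.mk (nat_lit 4) (nat_lit 218) (Steps.bwd (nat_lit 7) (Steps.fwd (nat_lit 6144) (Steps.fwd (nat_lit 2048) (Steps.bwd (nat_lit 3) (Steps.bwd (nat_lit 1) (Steps.fwd (nat_lit 5120) (Steps.bwd (nat_lit 6) (Steps.fwd (nat_lit 4096) (Steps.fwd (nat_lit 6144) (Steps.fwd (nat_lit 3072) (Steps.fwd (nat_lit 6144) (Steps.bwd (nat_lit 4) (Steps.fwd (nat_lit 7168) (Steps.bwd (nat_lit 3) (Steps.bwd (nat_lit 6) (Steps.bwd (nat_lit 3) (Steps.fwd (nat_lit 6144) (Steps.fwd (nat_lit 3072) (Steps.bwd (nat_lit 6) Steps.nil))))))))))))))))))) (nat_lit 26) (nat_lit 18),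
  Rule.mk (nat_lit 6) (nat_lit 196) (Steps.bwd (nat_lit 4) (Steps.bwd (nat_lit 6) (Steps.bwd (nat_lit 2) (Steps.bwd (nat_lit 4) (Steps.fwd (nat_lit 6144) (Steps.fwd (nat_lit 3072) (Steps.bwd (nat_lit 6) (Steps.bwd (nat_lit 1) (Steps.bwd (nat_lit 3) (Steps.fwd (nat_lit 2048) (Steps.fwd (nat_lit 6144) (Steps.fwd (nat_lit 4096) (Steps.fwd (nat_lit 6144) (Steps.bwd (nat_lit 4) (Steps.bwd (nat_lit 1) (Steps.bwd (nat_lit 6) (Steps.bwd (nat_lit 3) Steps.nil))))))))))))))))) (nat_lit 18) (nat_lit 11),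
  Rule.mk (nat_lit 7) (nat_lit 218) (Steps.fwd (nat_lit 4096) (Steps.bwd (nat_lit 6) (Steps.fwd (nat_lit 4096) (Steps.fwd (nat_lit 6144) (Steps.fwd (nat_lit 3072) (Steps.fwd (nat_lit 6144) (Steps.fwd (nat_lit 3072) (Steps.fwd (nat_lit 7168) (Steps.fwd (nat_lit 6144) (Steps.bwd (nat_lit 1) (Steps.fwd (nat_lit 4096) (Steps.bwd (nat_lit 1) (Steps.bwd (nat_lit 5) (Steps.bwd (nat_lit 6) (Steps.bwd (nat_lit 3) (Steps.bwd (nat_lit 6) (Steps.bwd (nat_lit 4) (Steps.bwd (nat_lit 6) (Steps.bwd (nat_lit 4) Steps.nil))))))))))))))))))) (nat_lit 26) (nat_lit 11),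
  Rule.mk (nat_lit 7) (nat_lit 218) (Steps.bwd (nat_lit 3) (Steps.bwd (nat_lit 6) (Steps.fwd (nat_lit 4096) (Steps.bwd (nat_lit 6) (Steps.bwd (nat_lit 4) (Steps.fwd (nat_lit 6144) (Steps.bwd (nat_lit 4) (Steps.bwd (nat_lit 7) (Steps.fwd (nat_lit 6144) (Steps.fwd (nat_lit 2048) (Steps.fwd (nat_lit 4096) (Steps.fwd (nat_lit 2048) (Steps.bwd (nat_lit 5) (Steps.bwd (nat_lit 6) (Steps.fwd (nat_lit 4096) (Steps.fwd (nat_lit 6144) (Steps.bwd (nat_lit 4) (Steps.fwd (nat_lit 6144) (Steps.fwd (nat_lit 3072) Steps.nil))))))))))))))))))) (nat_lit 26) (nat_lit 11),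
  Rule.mk (nat_lit 4) (nat_lit 64) (Steps.bwd (nat_lit 1) (Steps.fwd (nat_lit 4096) (Steps.bwd (nat_lit 2) (Steps.bwd (nat_lit 3) (Steps.bwd (nat_lit 1) Steps.nil))))) (nat_lit 4) (nat_lit 0),
  Rule.mk (nat_lit 4) (nat_lit 108) (Steps.bwd (nat_lit 6) (Steps.bwd (nat_lit 7) (Steps.bwd (nat_lit 3) (Steps.bwd (nat_lit 1) (Steps.fwd (nat_lit 4096) (Steps.fwd (nat_lit 6144) (Steps.bwd (nat_lit 7) (Steps.bwd (nat_lit 4) (Steps.bwd (nat_lit 2) Steps.nil))))))))) (nat_lit 24) (nat_lit 7),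
  Rule.mk (nat_lit 7) (nat_lit 108) (Steps.fwd (nat_lit 4096) (Steps.bwd (nat_lit 1) (Steps.fwd (nat_lit 4096) (Steps.bwd (nat_lit 6) (Steps.bwd (nat_lit 7) (Steps.fwd (nat_lit 3072) (Steps.bwd (nat_lit 2) (Steps.fwd (nat_lit 3072) (Steps.fwd (nat_lit 6144) Steps.nil))))))))) (nat_lit 24) (nat_lit 9),
  Rule.mk (nat_lit 7) (nat_lit 97) (Steps.bwd (nat_lit 2) (Steps.fwd (nat_lit 4096) (Steps.bwd (nat_lit 2) (Steps.fwd (nat_lit 7168) (Steps.bwd (nat_lit 3) (Steps.bwd (nat_lit 7) (Steps.fwd (nat_lit 1024) (Steps.fwd (nat_lit 4096) Steps.nil)))))))) (nat_lit 23) (nat_lit 6),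
  Rule.mk (nat_lit 2) (nat_lit 42) (Steps.bwd (nat_lit 5) (Steps.bwd (nat_lit 2) (Steps.fwd (nat_lit 5120) Steps.nil))) (nat_lit 9) (nat_lit 0),
  Rule.mk (nat_lit 6) (nat_lit 218) (Steps.bwd (nat_lit 5) (Steps.bwd (nat_lit 2) (Steps.bwd (nat_lit 4) (Steps.bwd (nat_lit 2) (Steps.bwd (nat_lit 6) (Steps.bwd (nat_lit 7) (Steps.bwd (nat_lit 3) (Steps.fwd (nat_lit 6144) (Steps.fwd (nat_lit 4096) (Steps.bwd (nat_lit 6) (Steps.bwd (nat_lit 4) (Steps.fwd (nat_lit 6144) (Steps.bwd (nat_lit 4) (Steps.fwd (nat_lit 7168) (Steps.fwd (nat_lit 4096) (Steps.fwd (nat_lit 6144) (Steps.bwd (nat_lit 3) (Steps.fwd (nat_lit 6144) (Steps.bwd (nat_lit 4) Steps.nil))))))))))))))))))) (nat_lit 27) (nat_lit 16),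
  Rule.mk (nat_lit 7) (nat_lit 218) (Steps.bwd (nat_lit 6) (Steps.fwd (nat_lit 2048) (Steps.bwd (nat_lit 3) (Steps.bwd (nat_lit 1) (Steps.bwd (nat_lit 5) (Steps.fwd (nat_lit 6144) (Steps.fwd (nat_lit 4096) (Steps.bwd (nat_lit 6) (Steps.bwd (nat_lit 4) (Steps.fwd (nat_lit 6144) (Steps.bwd (nat_lit 4) (Steps.fwd (nat_lit 7168) (Steps.fwd (nat_lit 4096) (Steps.fwd (nat_lit 6144) (Steps.bwd (nat_lit 3) (Steps.fwd (nat_lit 6144) (Steps.bwd (nat_lit 4) (Steps.bwd (nat_lit 6) (Steps.fwd (nat_lit 3072) Steps.nil))))))))))))))))))) (nat_lit 26) (nat_lit 19),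
  Rule.mk (nat_lit 1) (nat_lit 64) (Steps.bwd (nat_lit 4) (Steps.fwd (nat_lit 2048) (Steps.fwd (nat_lit 4096) (Steps.bwd (nat_lit 2) (Steps.bwd (nat_lit 3) Steps.nil))))) (nat_lit 4) (nat_lit 5),
  Rule.mk (nat_lit 7) (nat_lit 97) (Steps.bwd (nat_lit 4) (Steps.fwd (nat_lit 7168) (Steps.fwd (nat_lit 2048) (Steps.fwd (nat_lit 3072) (Steps.fwd (nat_lit 2048) (Steps.fwd (nat_lit 7168) (Steps.bwd (nat_lit 4) (Steps.fwd (nat_lit 2048) Steps.nil)))))))) (nat_lit 22) (nat_lit 7),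
  Rule.mk (nat_lit 6) (nat_lit 108) (Steps.fwd (nat_lit 3072) (Steps.bwd (nat_lit 2) (Steps.bwd (nat_lit 4) (Steps.bwd (nat_lit 7) (Steps.fwd (nat_lit 6144) (Steps.fwd (nat_lit 4096) (Steps.fwd (nat_lit 2048) (Steps.bwd (nat_lit 3) (Steps.bwd (nat_lit 7) Steps.nil))))))))) (nat_lit 25) (nat_lit 8),
  Rule.mk (nat_lit 4) (nat_lit 108) (Steps.bwd (nat_lit 6) (Steps.fwd (nat_lit 7168) (Steps.bwd (nat_lit 3) (Steps.bwd (nat_lit 1) (Steps.fwd (nat_lit 4096) (Steps.fwd (nat_lit 6144) (Steps.fwd (nat_lit 7168) (Steps.bwd (nat_lit 4) (Steps.fwd (nat_lit 1024) Steps.nil))))))))) (nat_lit 24) (nat_lit 7),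
  Rule.mk (nat_lit 3) (nat_lit 108) (Steps.bwd (nat_lit 6) (Steps.fwd (nat_lit 7168) (Steps.fwd (nat_lit 3072) (Steps.fwd (nat_lit 1024) (Steps.bwd (nat_lit 4) (Steps.fwd (nat_lit 6144) (Steps.fwd (nat_lit 7168) (Steps.bwd (nat_lit 3) (Steps.bwd (nat_lit 1) Steps.nil))))))))) (nat_lit 24) (nat_lit 2),
  Rule.mk (nat_lit 1) (nat_lit 42) (Steps.bwd (nat_lit 5) (Steps.fwd (nat_lit 2048) (Steps.fwd (nat_lit 5120) Steps.nil))) (nat_lit 8) (nat_lit 1),
  Rule.mk (nat_lit 3) (nat_lit 42) (Steps.bwd (nat_lit 5) (Steps.fwd (nat_lit 4096) (Steps.bwd (nat_lit 5) Steps.nil))) (nat_lit 10) (nat_lit 1),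
  Rule.mk (nat_lit 7) (nat_lit 108) (Steps.bwd (nat_lit 6) (Steps.bwd (nat_lit 4) (Steps.bwd (nat_lit 2) (Steps.fwd (nat_lit 3072) (Steps.fwd (nat_lit 7168) (Steps.bwd (nat_lit 6) (Steps.bwd (nat_lit 3) (Steps.bwd (nat_lit 1) (Steps.bwd (nat_lit 3) Steps.nil))))))))) (nat_lit 25) (nat_lit 7),
  Rule.mk (nat_lit 4) (nat_lit 196) (Steps.bwd (nat_lit 6) (Steps.bwd (nat_lit 1) (Steps.fwd (nat_lit 4096) (Steps.bwd (nat_lit 1) (Steps.fwd (nat_lit 6144) (Steps.fwd (nat_lit 4096) (Steps.fwd (nat_lit 6144) (Steps.bwd (nat_lit 4) (Steps.bwd (nat_lit 1) (Steps.fwd (nat_lit 6144) (Steps.fwd (nat_lit 4096) (Steps.bwd (nat_lit 6) (Steps.bwd (nat_lit 4) (Steps.bwd (nat_lit 6) (Steps.fwd (nat_lit 1024) (Steps.bwd (nat_lit 4) (Steps.fwd (nat_lit 6144) Steps.nil))))))))))))))))) (nat_lit 18) (nat_lit 17),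
  Rule.mk (nat_lit 7) (nat_lit 108) (Steps.fwd (nat_lit 4096) (Steps.bwd (nat_lit 1) (Steps.fwd (nat_lit 4096) (Steps.bwd (nat_lit 6) (Steps.fwd (nat_lit 7168) (Steps.bwd (nat_lit 4) (Steps.fwd (nat_lit 1024) (Steps.fwd (nat_lit 3072) (Steps.bwd (nat_lit 6) Steps.nil))))))))) (nat_lit 24) (nat_lit 9),
  Rule.mk (nat_lit 4) (nat_lit 196) (Steps.bwd (nat_lit 6) (Steps.bwd (nat_lit 1) (Steps.fwd (nat_lit 4096) (Steps.fwd (nat_lit 2048) (Steps.fwd (nat_lit 6144) (Steps.fwd (nat_lit 4096) (Steps.bwd (nat_lit 6) (Steps.fwd (nat_lit 3072) (Steps.fwd (nat_lit 2048) (Steps.fwd (nat_lit 6144) (Steps.bwd (nat_lit 3) (Steps.fwd (nat_lit 6144) (Steps.bwd (nat_lit 4) (Steps.bwd (nat_lit 6) (Steps.bwd (nat_lit 2) (Steps.bwd (nat_lit 4) (Steps.fwd (nat_lit 6144) Steps.nil))))))))))))))))) (nat_lit 18) (nat_lit 17),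
  Rule.mk (nat_lit 7) (nat_lit 218) (Steps.bwd (nat_lit 6) (Steps.bwd (nat_lit 1) (Steps.fwd (nat_lit 4096) (Steps.fwd (nat_lit 2048) (Steps.bwd (nat_lit 5) (Steps.bwd (nat_lit 6) (Steps.bwd (nat_lit 3) (Steps.bwd (nat_lit 6) (Steps.bwd (nat_lit 4) (Steps.fwd (nat_lit 6144) (Steps.fwd (nat_lit 3072) (Steps.fwd (nat_lit 7168) (Steps.bwd (nat_lit 3) (Steps.bwd (nat_lit 6) (Steps.fwd (nat_lit 4096) (Steps.bwd (nat_lit 6) (Steps.bwd (nat_lit 4) (Steps.fwd (nat_lit 6144) (Steps.bwd (nat_lit 4) Steps.nil))))))))))))))))))) (nat_lit 26) (nat_lit 19)]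
noncomputable def R : List (List (Rule)) := [R_0, R_1, R_2, R_3, R_4, R_5, R_6, R_7]
def LW : List Word := [[], [0], [1], [2], [3], [4], [6], [8], [0], [1], [2], [3], [4], [5], [6], [7]]
def par : Par := ⟨10, 4, 14, 24, 1023, 16383, 16777215⟩
theorem hpar : par.ok := by decide
theorem hR0_0 : lall (R) (fun l => lall l (ruleOK rels LW par)) = true := by decide +kernel
theorem hR0 : lall (R) (fun l => lall l (ruleOK rels LW par)) = true := hR0_0
theorem hR : RulesOK rels LW par R := rulesOK_of rfl hR0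
def cols : List (ℕ × ℕ) := [(1024, 2), (3072, 4), (5120, 5), (6144, 6), (7168, 7)]
theorem hcols : lall cols (colOK rels LW par) = true := by decide +kernel
noncomputable def JS0 : List ℕ := [nat_lit 0x19f3266403c0000098f0e99032463c386400118f0d99b002640340200099100864032054c918f0c00002c64c2e0400018e0b0103206382a000c6818c700f31a1431c644c684cc600931812318014c60480380a006004c880900002c226380398f0000040000b3181001462c0380b00c02cc50000798901600405989070053100d01400018000c700031a0b00e008c30053166341400c021890020081261cc400030861810000c218b010024040063160100e000c1018001863120100300700c624c1014c19820200030e0140200530e610c100cc19820118430601,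
  nat_lit 0x1350694666a0d20080a9a4011a50006946400c09003188140063002401060698030bc0780533e2e022018080b4d7005131a600a0345805c020a8d6004131a400a67c56058020a81400334a29354008d18a0d58020322734e0044c0a400010129af000654480ac1482b0520ac1482b35c09ccb991000644cb8113406840b01532823320658131ad0540a0150280540a01482b0540ac141ad04c658c80880519132017032000c90840f1933241e33465cc9880010063241600864408680009910f99132004,
  nat_lit 0x1b1360040800d8021b136042032000d79040b00435e3c35e6b80c00404001200003643f3606bcd71ad35809020000d58f0d980035616016000d58f8d780135616030740e904b0a0068159ac3563d006004d50f0d50153541f0066e4d4874169cc084104201c3372008000ecd480435601cd40e8d380834e1f35869808000d3010001a73526acd68e4001a704e0e4e31c80820a4d28e0001a50200034e6c4131a51b80034a0200269cdb1af34a3634801cd207c001a40080034c00cd99a41a8003480634a6d0e09bc0640c4da00134834,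
  nat_lit 0x1ce2008e28313d0174e2138029ca07c170e194804858384153b2704a0008e39e005a704a2014141c00a82937e50018700df85c019e53ba034df93cdf80f38870cdf114df80339472cdf138e59bd031be37a0606e18c321ee0c20d8de80038e4d0000a001130e60003884b00200012928e584c3c27bcf58670647702283108a0d0f485f0c00c8dc924081be01a124dc120e484736e3c0020a8db91ce69b6069b836c010026f8080b4f39e60bc18c169cd36c6d48c6f4df02736a6d08a08c011b31f0003644436600c221c93644338a084d88600e80236241,
  nat_lit 0x1f505c0c4fe87d43824832840396000e59f10860c02a8063a25a3940fc32091130871102120fa7f02a82f3e410cf89f0394593947b8e4960e503b3921b06a73ce5878000023941639672808134e69ca0f1cc06472c367e8e91ce0f00200c7342c010e6010f08013982139872c080a0e71cb100000027283a72cee1ca0e1cb09c7283601c3501a02c734ae734f19d602c730ac02ce99cb199d339402396768128213944e00e0cce4954ee9c828003050720aa098e3940e403b3c47d0e3938018053927cce3150f21c5280010060141c1c52983638806,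
  nat_lit 0x13c4100218514162105c0bd1668f45d09d40a100f100135800004780d4000ef808021e10922051c89a458878098120261e03b2160dc80cef9a4010413bc680140ecee99c0403e3b866084010ee07c011db020003bc09cc40141c1da3280007a764c87ec011d93181c000760c40750000c41818832074436895190aa0ec7f421835002760c20c8001d7301f511a2ad188a345a2a846a0d0ce0fd028090dc060f39d72f84e3b675c3c008081d60b00e3aa040ce008ea884ea9d402001014004bc194eb1d3100090147483a028010c0ec002179d80042f0a000804170eb8023aa5d09800404970fb80000c5b,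
  nat_lit 0x78023e66802803c040023e67b0907d8040013e43a00c7c8f89e8001f3010113e47c0f2004fa02e0107c0f000c021ef3b9f13dc013dc0000380a0100440d81802c763e283cfa9f33da753da830f980c3d8560047f81523516632c59a4412883cfd8230aa16c3483c3d874006020f983d3d67303c7a80c7ec131fa3d67a8e4000019ec0220500f8530c28682c01b0380e0469fd0487a8e2004f50080080040e7b40480b3dc0f4f61c1030150287b8f48e8f400b3d01f01202cf3858041e6020000047983a000f2810018110267f8f29bcf28363c83c3d878ca0790ff04b0240441786144e210510a11662f5208c11148a9001e33700b3c44400078c049e609c2191f0bd46a208fe9e902210c249fc3c46d004014f40303c26c,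
  nat_lit 0x4000051ea684c62c857a06000005180010325d4ce370568ae40a8b40a971332611602b52b20545000002040020010325d15e9592e20544a054b89793525b16a80c00221010b44b495056a5b4b28090e8142622516a180220431002105e2741aa99d2c8b444a8110c80d1084c44280c908142c20242823402060028341104840284006111001a9061ff220024008744685c4528300e81c03e87857086456049021ff41800430031011fe1b80d3fa44000800062163fa820127f004008052140107f102008fe1fb10a0000e7e8827ecfc8100020e04407c062001a86b0da0fd1f09447e2f8640ac1b02b043a3742600cfc1fc292224982b071a631b838061a430ee1e044885424008fb9f8080023ec683ee7d8fa99c2204306a004fa9f4fd8013e8410628cc428870d809d010203fa0440500700c01c021f53e87c,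
  nat_lit 0xc0113322703e00c012125100049aa09420d144c84d08a39262815069700ea12000845420000e81f03c845400700f2241ac3546b8980028453e8490a211000975450ca1429e4b89d53a0a013c00909a104e80042001002854568d619631d2ea104e09b13a319432591240050826d0820f030921269c1428d54c284907a6802002178050029941c001309193b27019228109a1041800000a5c0080500e83d05a5800805414954188241a001048100020a0046600001002a0c1369384424f41094006010012094109346e31c5e8be1328280180141092002000028252e0941c6949038000029100081d2d25b4b82c528a06472064b2968490e14a025d03241308b34bc2e5048010048211e001038040020817297d38a5d16e81d1c81c5c25e16096c5b25d40e8d,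
  nat_lit 0x10fa1e00a43000878c09114e29e1f6298008020088796a87c008004e896c3a0654bcb414c9703d0644a619801a1d598034380200087008004012210d21b83a075438b20c81a0368730e82090e0005880043e19c3406f0e62050dac00021b0200000200d5e0040822445820c3706b4968695c8710f00b03e8695a8850c9400021b4540643f87e4d29310cab001219030004e4a2c738e946e0c418223558ac512a78772630368a10c2a8010084488990baa5112160680102029937a2803c00d0b2a00221506a1f4460590c215538044280d0020090f010034a60000040600500ca5000870068ac4e29690a2125221b0182ad108114260010928c0000300803d0921000a120100142401,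
  nat_lit 0x40022c0f8010328ec108a55503e07d22c62a2d0148cc06a2c270164565045e8ac0c0080001602e90c452755082c1880500980945e8a9868ec0e80a45c8a58400402a281000344e0445089c02001142330248f4420620c09898200000a264a80100c01d19226602270068cc0c87d0b81692f2265fa2744c020028a808a184da720228ac0522644abe024050020014483700000808008092300f21e11a008446bd0000080a808014bc0028bc08a6216800801a225d80f45a1d80801200a89110ae91680f4c002d110010048857299c4286f4bc8b516228442b844200807a274403a0008800888401a240128816e00110018002471ee3d8800aa00a88c05ad81e80143e60,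
  nat_lit 0x20091e8a11de0c12aa3a5924457031d3104404a93d1cb6c0023b13e0d816a5349c8e56000000a3c07411d318a0472da0008ec1ca6414a27d482396c8000028f05e8c24bc96d1cb600023b1780f01fa5a0728e5ae00000a3c48e0a014aa0472d60008ed230301cea7c5e2396a8004768f1490a04ba03d1cb511d23b5229782000e0208e5a60011e2660aca8c6e8c117e2f5a400400238302394d4171382ad5262a052a3868a390a01442c2386804c46e020088dc0400c0283e07e984270564d08dd9e00428aac260b4d5d2b20b08d99c0f52ba3566a614c48d0b012425263174a49512830648d1980d527a33658370648c8b00740f24b5183d0a21084668c99493017a4b164a986c2a84648c59201401230640050008bc38001180fc000012043f87d0f02068b98e000808fd1f450c812b30008a00001120241488a15558f3208c6,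
  nat_lit 0x1182404a01925bb526a4a030fe1e02f158a5b4ac0040124a7625600e92c0324a7581904008411249048224905013a0040c8780f0135344f09c13520892123ba80c00248c0007311f25a55551ba46e0d817ead15b10348c915d00740f01f002911ce004020215780000407dcc00d3fa82590b395d2b91c0909ca9212488d290b5486077484e404009c30064482e303c19431063480e20ca8fc0c00023a694d69340408810e20dc2114570a814c3e1212414808f9c019800a3e4aa3e47a010be0011e9802d85a20e38d6b8f4144a685329f15c2c05c27108c11c0080047adf0002144328e22eb748fad647ade10821545a3e47a930248fc0100348811c4228a47add0fa000048800080047a924788f81ec3ed43370008020080151d82402a3a2800147406,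
  nat_lit 0x980009d2040d8008b532a74000af03aaf001035808b30022e2002cc000b87f8780080d5fc1d80183c7ea950040d5f81d80083b3d29400001df601801a5d4be04068ac619c4818190f2662184382b4d20b0168737d00201a9d825a8d0dea45493e4622c2228050000575baafdf0a0c2ea810a213c2727c0941f54c89d14629d2c00001496dee9641d03b5dac5d8fafc56295dec01c1827523abe09c2fa560959ea0a4542556682914a950380080084e09ea143005b0b2f41943085f8c04d00b401001008f3098135432820b299401000790030629ad662f060658d59a517880e15a940ce03c56a4f2c0014a293c420b92701000a4e00ab316a2d95a80200803c16a4e7824f0569359608c03aac23c474908f0014935de2f0608dc1b236d63809498ee,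
  nat_lit 0x406c0d5442842988d010a0c7819d41140008421c238c710440ba1a4358b20a6a442a05513627048c20000110e66a0620b5570260581601f28083a961e23cd448445260f13fc19410015550006800040bfc3f0025070554c0042f0743e80005d030b60083d4054000155f021300041c07559800074184f60004c3f55a0000590309e00c33214690015321d19e0003386035802065040c800424874350000410309000d4b05540002101025140043a9e81780053f0306c000283f8288004e86a4ea0044e1e81a800558ff,
  nat_lit 0x71800532551fe0094c9054ca98020001fe000bc3f40029720aef000a5caa32800297340c8006a5c7ca5d4b0083d0721de3c47829d08ca787e8fc0bc1dc418850d8aa54b4494b8075541a94ab416f033529020020155406a190328638c60d511180009498f949a920104e0a217550ae6108208418c118619d5280200601401a92882d7000a447c36802001340650080019ac8da9b5b6705f8742a451e0061e1682e0c35b41e832a8e0010e00218c73aa251a961b60ad463fd4fa8b06ac111aae04b00500c1943628b86849096aa44008a58aa99454314528e0680d944c2c0483b0680d5443884c02c50e3c0d0a18a0ae55f8a112c011438460d4a1a141742fa9b11aac0412a450b09,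
  nat_lit 0x2d204e04cc935f350ace48b415a00221c00802809567231ea02d591e804ab10210b62e00c032b359cb3558c886508d5601f14e15957904022ae020005f23846aad71244488831790851106ab640049632ac8f80210aaae3c14041aaa8e80e020ac40e2b38e00d01c3a236054018a9560028d2aa0029900800130c41b21b86f6791a500401eaa232aa5542a701c014d835f6c060e3002c018a9518028b80a0029954400130d10ef19f340d78d6800012a862c6a9ac35768e0014f29f5400222a0014e079572ae9a91792ed1400202c3baf15e63c06e077537135f00094d9a14f800534cd53aa7001a9b53409,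
  nat_lit 0x510a3145588b0e6eb10b21666b2649a4145288b0e6c4288690f3706e8fd34958535002b1d648a52aa550b016358534000b0d613fc002c10080058400d9a000012c0098000beb042a38042093580afe660016083159c0adb99f76e45f9ad38038e724e41d93aad8848abf9900057e06580b88500a31842a5728a61c6c28738560b21096a02057f31002b70400da5dc2d0482de57f300060055fcbc2babf57c14000dbcd0b716b62443eb0157d2e00203961ac606c088d0b6e96b25008af48eaf55e004dbb2f03a0855e806010af2580580aabf014aee56b740100400caea5443c03ab97f8000ce405fa26c172c40040115d82257eae2520ddae1e76c605c0a82456f28002ae0d79b06fad880d2b69380056e6b8d7b2702a064114980090256b250063fd5a05c00002622fd,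
  nat_lit 0x5b004004b7d7482400f4a002b6c07c6c002dc012dc04eb9d798630b215d73ad5a492824ed109780000608012ad4a40ca18c2e85c17338a7d9c33692d0598b29676e661490922008b528e04c3306a61a1900980a008b4e8c08c022d22aad25a2060004799d8ee630c0851b275c945672608bf9782d201002adb5a14400a03c0f01959f435bab69670540000601d425a00298898b310da0bbad659b416c05884e1582b4d996aacca001159650000cb88794c6a8eb0d0b682fa5f8c0982306601c3b8a70816c044fc3d0065952f000b2d64c9404001593040023958b9e65fe16d758539f0000f802236390728e6330560abb56000b1a7a594cb9ea3ae7f0d09e13f4734e399660e33060941182330002c69e0ac5a4b183cb942986a0ce1802f8691882b1a820235ad74b814f29854963ac69d80e010018002c59d00058c00d9a004a3148696655a794d29eb1272440891bb37ad2ca22c558938,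
  nat_lit 0x7090d51d6be2466818b22eeac2ee0aabb60a12dbaaec3200360c361d4a1842cf18282ecab84b616bad9a00c02b050880200581807abaeacba81eaea0d84207aba59a0f97f2e80e00300ebb8d11a47346e59c2e8aa82f1f8b9ccec046f2e60e000006b99fe005728041d83c00c0100183803404572d517280b026ba57254c010035c633016b8804bd97b8c8182631c00065c552008b84040042680a820005febd8cc11c220420ea0917580500cb7ea2ba812aee31cdfd700055bd505bc05cbd81702c029702dda79791665bcb8ade008b8d6ed38018135b8ff026b6c1a05c0780d5e4cd99c1925b74d004025722e5314621bcadaa62de022dc8ba17315c5b16cd2c9e8055b21f,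
  nat_lit 0x990a560e4713ac1802849f5b536a42a44509960d6760c2a84489860ac30dc1ed980976096672225d818584bb02b1be14441b0370790f629981594350770f429580d919c8a9600203062997f904532feb18045fe12daf3562363f59fafeb13280ce198ec9d53b06ac78afdb0b5b184bf036264782fb6689e1dabe8cc0040192a08cbeac00a1862f9100035f00465a2785009e65a26858b311e0ce06c933264be4030156160e97c57dab92825276cd49a133c0e97bd78250375ec6560e0dd7a9600500e622cc9a592a284d917ad740830607ee68d39c57505257a5717c2fa03ce5ccf1cb39052179d6d7b0b35e50505cd997899c1a9485e0660000158812d1a835c6d9095e75a008c3c959d4474f69e39655df59,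
  nat_lit 0x1901c07909e5e49c563e002ea005a107e384c7908c807931d1f341638446386f0df1bc639730062bd8d854ceb1a030030080b01401302ad298d5d18c81802a0618cdcc5631803001058cd19a86f1a4334b596a2ee6d0bbb952b255cab318b9317702549c0b17b882862c0628e644c90050081599584f62d700041c5de20840ef70f032962b6f0441298a1943804d626cd0d8129891619684808c728849080f8c4adc6503d31110803672c403a0b1878102d84008206c0a80400a21987db58c33961cc80ee1e9869900008c6dcfd11823d9f3370fe040040046196c026d0da10801021dc040036176b1022185787c000c2800b0ab507b6ac20c4007e61400184da40109712624584da00333e61077,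
  nat_lit 0x19b3b26dc0dd9a604010a56b4224d3ba8098135be84407ad141c0c376a3f1c1b896698066841599c09b3332220a466406008019f0437872a59f2b32bfb313bc780ef331b8b37218cc10a25d97818031a7354e1ca1937682115ba83c06a0d01a83908253997df9970ec1d43b1975cd9911765a3c298cb0a0015ebbd9516f6cea32c0017d0026d0da9d1657790122fd951a9e23292200139651dc2b293600321eca0d4e1193808020bc18b07de69c564e002f8001e4bca384c9af66fd92808013272c8cac0900f65431d92de8000b917a319925e45b323010036620c4190a9782c8c005e0001bc374f0d911b1e1b21010000720dcaf321bb879640026404a0a092b25a4c43333b0d661cbb8e31ca498e232000376,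
  nat_lit 0x1349006d25a46313800368e6069200da306800345068024e6a2d5a2b68b71861bc234969f1412af4ab0f001345c5a6c4e8b01762c05aea1d42a4147b07540aae4a90ec00b44c5004688d0e049bda2b439000100400c01343c4a72688d0840005a0811a12744868e91b23446d05d3ac3a8c8b51762d486e9bda0e21a0a7168058684f11c084a6838700a02408049680ed6821119fa15a233e2800200cd09e033e6000022ccf42a4e99e01800b3c010067285312594c28ed019e619a70b8288cfd9de140400a6741600ace408cec1e8650d0ce708024368650cece30600db9337350b266c44004ce4c6187471030c6b36c10046d42a9da335bcb6f66844,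
  nat_lit 0x13606bed79aee30ff8046b8606c0015ad91c01b5a06b5b6b80241382604e001ad675ac80343a00dac8003f504d4f2ac8cb0fd31c575b519e2fa986cf9c3f47ccc6bb92445e4bd18534af840435a6b20090e0026b19b00c08c120066b200dac357cd009002d586685c0135610b59004d5482d54019a97bcfd87ebab30868cf79887583fc7ebf67bc6a401b55cca13810790f19e23bafd4e28f8100df8ba17f33ef6c01354cc00d6a8d4cd4001ec9807847dc0d0190360732e1a406b5231b5901600c00b5301202801e580191120c411d0356018d4400655a88086a802da806473b5469f946a4d381a409a834eca00269a01000004018056de199b80f869b930000080180c88ea4549c0b699926983e1a5b200034c006d35cbb6709a139a5e45a58020060153f2e65b9109a56400005d1d43b47f004006019a6e3c2fb4a6922069236cbcbb8772708d29a179c1d83a07313225c6f8dc6938e00000da50050c418c358da6918d,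
  nat_lit 0x1bac5f8f8c0581b175b123955a8d51cb1e3d2ae8f317d3c374d43748bd1e1562b3086dd8038096ec10d59aac8f11793bb73d3b734eedc836dc93ab712c0016e4e223facc920acd5704070a10959c905991fdc4372d300270c0640d019088dc40069400845088115b8208023836de33084db8880040103a0771d9412835431c55f285508a8a422ab076dbb480041c0340660d1bf36d001a30000e1bf0386d8376fadac04018158290540a41436b001a2002094163756d51c012069b49a810b68010046d20690942484b0a51122585c6a8d918e73222415b68d08016e207c10b678e0036dcd9866099b280801808008014023676ca00340000083686d2d906eda5b1808003676d0039b18ddb2b62010018346e0db9b6028d99b1000cf8026c602db2b61c622301ed80c006c07b5f23b616bc0d052a756e2da852025afb5e0019e,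
  nat_lit 0x1c4a1c4548ad16904206464e340b794330a220f4330edc4ef9c590720a468949237120077a00dc7a6d8d89d08690e711bc70e48493bd61fa415f1b87dd80b014ea8589077ae485c3ee8028090d0eaddf9277cae1b72e2d34c682244208511e70bb80120000487dc3ba74024808f384004e1804edc028660ec1e88eb8300001001ed8018014c6f60891187b8e0b6a00c313a514cf55ef91a703b4002001c1383747094ff461d980200ce1130c628f698dc2380d937f008dfc38180368680c8e04008026ffb1000df81adfc310630ce1782db7e001b06fa1682e86a0ca1842f37dd78006fa1742fbf6340975bf6b9bea5b4b8a78d685e0b8df35a00c06b808d521d8630e5e12754da698bd17d37c68700df75800001009010015be8036f9ab6f6df00237c6f648000025bd05403b79030060080040126e8cea354137bd50018b89b93aa766f2015bc000d480200801802377c4c606f0dd83c00001b750e8036e804,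
  nat_lit 0x110b005c373ef346a9012060040039d00dcc0003ddf5c6048d18d24a4b2444808c0ef1dc3bdf939f739cb7dee79cde500039b11d0a0f0012016014043a446a7b8a83eb1f8341e608c737ca734234ebc2583e6622895f8210b0f82567d233de588b735c973222dcc86dcc885730cb732fa8803e93ff092109461f2f99299ed29b021eebc6731c800605009c537c83bdf41fd3f87c5389f13f67d0f9811733c7006015cd81402ae7408b98e3397732019ccb972400001ae582ae65ca819cab99022e65cadcc000067285500ee4c0ce622622e44711dcbb957260038a0080280b728e4b887a403b911080a00ae40f400dc78100019600dc339679cf419e866481f390b21a8d8950ab14ef20e81e7006e3dc7709c78077230fe1f217442e41c6f05c6804004e340200271ae329a000cf38e3441e3e27ca1605374a141323be12423448223885101c6b8be00004130d10943b71a00c0138adfa1e718e28ee001c4805c543c712cb,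
  nat_lit 0x3b876c0603a0540a00e020ee1db000ed80276c029db3b5ed03d016ed12a000013b32380776401094011e45080200200f0407a00420c081c00006efb008eb800839078125e3ca4952ad969ab6953291e3bc30860fc1d7642204808ef08204a25d0d39a7b4e5d12882003e006eb400038077d8072f042003c07cf020793e4b05f0bf41f2764ce0392276aeb5d675dd580001e0680700a016003ac0380c81201a028073ab755d5076efc213c07600540b818755d4754f21e98630b8ea80000b757d375e271ef8e18fe4b60393281f06e1d3f91d23a84085e753d275f00a023fa2048ba2e2002f25de131837a6f45e305b751d100216dd39a1d305974c580c4f183887943f152364653fb0f1002667f237ded80474dd00000180880574a37002e908800003009014430838dc7b00079e00c0700d016e8f9c259d2ba20f00b014e8482029d058c0011174864222e8dcfc800039f73dcd,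
  nat_lit 0x4bd31b68610aa1291e97d2ea5f91e9ae098dc798021e73cb795ec792009e49e405bc9791eb00cf280401602a05c05bc8f53c7014058053c73ebc878d6378d038888d81acf1800001007e9002f1c023cd81f22e060d578be8796341e232de58d67865801a03c08004787e700a00401bca82d134d8cab95eaa15599c33d1360b3ca00600402f99e10000060206b17d8770e8b242a24a47c870b015cfe47e3c9005e50060147b0f8950a24ac15284c505ea03a7a6308693c7783e400201de0054053bf2800480b1691ca3b47e3f07ec132800b41402917c2f461c01008effc6001df80319e34a1b8d1006efbc400079ca350854ca694a8223ee0894b2e05c8bb8d0004efbc23c947a7d4fe88cc2bf47de1f1e381d79a2e8603fe002ef7c001400bbc1e0c877aef03c004003bb20bbc186eee0aef060bbb64000776328b694f298650c99b43708790a21729853cb68ca776003beeec768ee7d6280511022fe4408745d4cd1e5292537f8eebbcee8763ba0e00302003c24bd10a01302984701eef00904408c11407bbaee800004ef1e0824042041dcf71dc006006019dc5cc0000776e15,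
  nat_lit 0xf7c35872913134b21602bd12cd824e52b0103a8740d61a5effe5ef06a0e61d52ca428744648dc3a4849643a8730d41a1ef7e1ee8687ba1b7b8199ee070004364e70e88f3ed04cf9405fdc7ebdc7b6137b4005ed479ec8027b3f37b23ee2b9948a11008f91d23c47e2045032915c7d8f97b3f600602c118252250c96b42a7b1f57ae3ddeb870813d87af2004c009eb188040027abf47a8009ea7cc1202604af888a9be20a401ea7c9ec81a048f86169ca8503fde9fc5e90ff7a458000011e981902c055ec3d501bf07a4f640981a03202803bd1f780801205decbd037817030f5dec3cff700f038f38aaf39ea8167aaf38fb0540c3cd0f80b030f302cf4de581000800014f506e21942c84e482604bc9824826c3ce86e0b0de7a7ed]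
theorem S0_c : blocks (facts 10 4 14 24 1023 16383 16777215 11 2047 9 511 A R 32) 32 JS0 645 = true := by decide +kernel
theorem S0 : On (Step.{u} rels LW par A) 645 1637 :=
  steps_of_blocks hpar hR S0_c (by decide +kernel)
theorem D0_c : allB (defOK 10 14 24 1023 16777215 642 A K) 4 2 = true := by decide +kernel
theorem D0 : On (fun r => defOK par.W par.WL par.E par.mW par.mE 642 A K r = true) 256 768 :=
  On.of_allB D0_c
noncomputable def JW0 : List ℕ := [nat_lit 0x9d666f7056bb73a72067271b6cfa779b26616c6a4d6c45b96e56e96c972f6f26776f66f86f1a3c748a9377070ca2ea3a741744a6071974a7786dba9f6dd74c7836b577ba8b6746f773f729a2ca38740742a5aa3e746a92a8c727a78780782a84aa372177c779a7caa16f374e786a8e7857a074b754abb7b37a274d7587a47a6a8aaa9787a9477f7ba7817597b1ac17a177d7557b7abf79eabd75a7b57ae7bb74f75e7bcab87a3aa875fac27b9acbabc766ac47a8aca7c07c27c47c6,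
  nat_lit 0x9cc6e271572da7b95ca1a6fe6fba63a3d84c3aa2533b09c871c71e6d9a733b570a710a6970ea2f3e73e29043e44d6a3b6a3a0069b28f69d6eba526ee92c6996fca5ea5c71867371aa716f59c26e46e8a596e68e8a0a6c7a576d7958a18704702a653b61c36b2a456ad6dc675716a6ca6f9d8a1c6ffa87a82a2d5983e39a059c523a396a2a106a1a1e6936fd73da899bca366eaa4a6eca3f1993ab5895c09d2736711734a819d072471f722a75a796767176bf72b58d1d36b3a476b8,
  nat_lit 0x99c30b3db55d99a52238b43496c52162482a6349ff631a1f5af44258559b54969269465ba319bd5aa2955955a9533a3769fa0269719619819a83683a24106724a8832489a89ad3c124d4e99d31933c95c75c29d117939f8745c458c9ac3bb56f9af17f1d21c51d085956585a6afa496b759785c6a96c06bd9d748d4293415c950a66e67066ca179d4669707a7e7389b326737e9a2590942660655637a0e58aa066cca4f6c359365fa516d06cb5b85434489305ba9ce6e1713732731,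
  nat_lit 0x2a93de3e09022a14d74d843540549863882c63563a63328e29229428789594c69c69e9f8a3592d4b044392a2979206986955f5a339c390e4498785b49c46e3712709a6b8e988c37f37b8e2988a0b654653651362659a50a406d236964f6cda556d595995642887e4fa485a196716836674fe663706a677013b78f33ba3953bc1bf1c21c41c11c62851cb6a86aa6a43a81cf6aea436a79c66e07146b16df9d949042a8805cd96aa1d68761f66b3895993ed5a15a43455593e199155a,
  nat_lit 0x50b51141345d5149d59104275cf5cb5166686659dca1526426626886288b9a718d8e658058299e2ff38557c57b94333541c3fb48f58b89e36f94e58e944a0764864664a59235d3659b59b049365ea0c65c64d45854245550997e21b01f2242262234b42934458769069cf54544a5bf9ca9cd53f44d2195bc95d50242b2ab4f8479a1b6869e06851b484d19b1b68488e48f23c03ad3be24e7ec24b8852509c984a39e3a03a43b41ab3c83c63a33e83e63ec3eb3ee3d93373da3dc387,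
  nat_lit 0x98a658a0d61d6574a45ab4445ac9bf5324a743953497793c9e86066049eb63963c62b60362d19d19e84584218f16a16316716e16d24023e2442462430560660687e30659a91833705749a44e29532814e54e618819219483e84117417817a17717c9a65623cd9ab58621a21321e22021d49c49b8ee9234a056b30d39c4a357017e1821841811865645633cf56156818a85b85682e1d559695228b9b799619c85d1cd1d71d993948c42c4c44c120a7cc20e87120c33e33d32e211263,
  nat_lit 0x1be8511851bd84628427f28a2888931b81ca1cc8308523a98fc3ce3d028d1a11ce8578541c99c74b844c9c05b09374914314bf47196b51c41035396645a5d05d49db5d28b06195fd5d79ee3443422ad8cb8c898f5584244f355725b95529d4ea4ec33f55f3d79954ef8b530a30530830338838a38c2758ed9713fd40396e52793651d41551e51b62562862a6269fb14082b14413313f61313b62e9f09fd3905ae44787c9b899d4a944157399854839343654a5255516185f79f3617,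
  nat_lit 0x94d4da4384c394a99262160762261b49d4b14464b292f8e58503713743763d84ae44037392892149a43748349747f9e55f65f25f845990f45445e4622287d022522c22b9c54b744b5b75b226c88d26986a26e3822ed3843818eb3791a78e737c27998932741d98254d3633613642913663688a036e36c8e054664e649a04a0994695742d4f04f432d8bf32f3302af23501320f23c23b48491b4121e79144ff5004264fd95b4696626645ffa138f18d839d3b839b3913928ef39638f,
  nat_lit 0x93e54445352a98094053e45653d54020b21221687321494850343095f4f747891741186c47a2f39e45fc5fa9e745b5df5d55e65e515b1621661681651b91ba84483484f88e27e28027d28224f2542458872560727ed06905f0771ae84b17b1b01b222922e21f2322313788fd3cc87a8901a21aa1958321ac30f3363048c52ef2a889b2ac2592a793b3df42540d47d32c3d23d68fe3d429889729c29a29e3e94d938d4e049f9499164144d44d33fe3fc40290b3f513482d145143147,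
  nat_lit 0x25a88925e25d26093851041850e9638208001e48611db46791142e46146e51751840e8689648c66206019f79f41185d15da5dc5d91ea0391ee1ec8658220b51df1e81e318b18c19083883c4e319f27295057e8ac2fe2e88a88b32653348bc8c08c39414b64524cc4cb3f23f03f89093f62bd89f2c22be26b99f4ad43c5785779458a441e4d04cf61264064264463f35b35c8dd8662c54928da42191f49446651941796951346b50142f96150501b01e7cf0220244b54db43b4de4dc,
  nat_lit 0x88f1bb27327627a97081445197d5399734063f952e5299753f140853052d12c12a13082712e13613a13c13882923422f2172382378f04a843f9004aa55095442398498d98e60f9ec60861498b31742055254f4a54a643a36b39997281243250797993d3d344e4c84c73339e96009de5ef93a5eb9ed60a5f07e105b05d0620457e006a06c0617e516b0ab15f17217130e30c3108b730156a4af43e56756c14a14814e15014d90d40740940a40101a7cd7ca01901d8c733c32b3292f9,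
  nat_lit 0x11f8021de85f1dc1fb7da1ef1e11f38ad2ec2e92f02eb26d3268bd3252bb3143608dc8df2712b18a12c32c62c83834ac43d92492654789c41f97a9872992a425f2a28990110127cb01401694791a41948b47546847340f35f4768245de5db5e25e11a01a61911a41a815415214f15815793f4b94574bd4653f30f74339354872037ea20586f2012e534f3512092d18b18882f52fa2fc8cc60e5ed60d6108cd34331c34633a99355e44f53b5558b48d93113573393328be32a30631f,
  nat_lit 0x11981d09011a11d02f03803a0367d51fa7e61f71fe1f182310e0961281230b00b40b67f87fb2dc0bd2e02e22de2ca8a32cc2c12ce2bc8a52b72d22d490c0ef41b91d4881eb7e81f61f81f435a8db31b3592d703e7e706e02103d02e02d0347d30322dd3543508d58d220206b2042061fd2f22a52f48aa2f63215ea5ec5e89e30597eb06d07405305805a05c7df7dc15a7f615e16015d32089a31d8bb8ae3ff0e74509334ba47e89642291948046a47241646d9130107d17ce02602b,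
  nat_lit 0x2cb0c72d82b52da80d0ee0ed0e10eb04602c7d60487d90a17f70a60a20a90e20e60e80e480b04c04103502904b0477e906f05507011e1120971171200c28030b70d00b904d7db03b04f0502b089d2b62b22b882581c09110d1260f80f60f580f0f32e48042e12e68a68168a234832334a8183558d08d734c0e38150e910181080c8130f40db0fe03f0407d70420310a00aa0a70ae0ad81a34e8d13138ce31531631a8b93189740fb41a50d53782111008c12581e0c88010cc0cb0ce,
  nat_lit 0x7a07807e7ef07c0087c900c00b00f08208608808508a7f509e08e0817f009c09808f7f309a0830c60c00c50bf0d57c80de8090dc7f48057fc0a57fe8170870921071040d40d20d88070d60f90fa0ec0f10fc81b09f09511410381909909410810a09d0bc7fd0b30bb]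
theorem W0_c : blocks (rows 10 4 14 24 1023 16383 16777215 12 4095 60 A 1637 364 cols 25) 25 JW0 0 = true := by decide +kernel
theorem W0 : On (Row.{u} rels LW par A 1637 364 cols) 0 375 :=
  rows_of_blocks hpar (by decide) hcols W0_c (by decide +kernel)
theorem idx : Idx.{u} rels [[0], [2], [4], [6], [8]] [[0], [2], [4], [6]] 364 :=
  idx_of_cert hpar hR (K := K) (by decide +kernel) (T := 642) (T' := 768) (by decide) D0
    (subs := [1,3,5,6]) (by decide +kernel) (T1 := 645) (by decide) (N := 1637) S0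
    (by decide) (n' := 375) (by decide) W0 (by decide +kernel) (by decide +kernel)
end T0
theorem b0 : Bound.{u} rels [[0], [2], [4], [6], [8]] 4245696 := .of_idx T0.idx b1 (by decide)
theorem bound : Bound.{u} rels (sg 5) 4245696 := b0
theorem hrel0_0 : lall (rels) (fun r => C.eqW r []) = true := by decide +kernel
theorem hrel0 : lall (rels) (fun r => C.eqW r []) = true := hrel0_0
theorem hrel : ∀ r ∈ rels, ev C.g r = 1 := CA.H22Link.rels_of hC hrel0
theorem low4 : Low (C.grp (sg 1)) 3 [7] :=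
  low_clo hC hlk 7 (by decide) [0,0] (m := 3) (CA.H22Link.sg_le _ (j := 0) (by decide)) (by decide +kernel) (by decide +kernel) (low_nil C) (by decide)
theorem low3 : Low (C.grp (sg 2)) 24 [3,7] :=
  low_clo hC hlk 3 (by decide) [2,0,2,0,0] (m := 8) (CA.H22Link.sg_le _ (j := 1) (by decide)) (by decide +kernel) (by decide +kernel) low4 (by decide)
theorem low2 : Low (C.grp (sg 3)) 48 [2,3,7] :=
  low_clo hC hlk 2 (by decide) [4] (m := 2) (CA.H22Link.sg_le _ (j := 2) (by decide)) (by decide +kernel) (by decide +kernel) low3 (by decide)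
theorem low1 : Low (C.grp (sg 4)) 11664 [1,2,3,7] :=
  low_clo hC hlk 1 (by decide) [6,2,0,2,6,0,2,0,2,6,0,2,4,6,0,2,6,2,6] (m := 243) (CA.H22Link.sg_le _ (j := 3) (by decide)) (by decide +kernel) (by decide +kernel) low2 (by decide)
theorem low0 : Low (C.grp (sg 5)) 4245696 [0,1,2,3,7] :=
  low_clo hC hlk 0 (by decide) [8,2,6,2,8,6,2,8,2,6,0,8,2,6,8,4,2,6] (m := 364) (CA.H22Link.sg_le _ (j := 4) (by decide)) (by decide +kernel) (by decide +kernel) low1 (by decide)
theorem cb : Nat.card (C.grp gens) = 4245696 ∧ IsBase (C.grp gens) [0,1,2,3,7] := CA.H22Link.card_base bound hrel low0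
theorem card : Nat.card (C.grp gens) = 4245696 := cb.1
theorem all_mem {w : Word} (hw : ∀ a ∈ w, a < 10) : C.ev w ∈ C.grp gens := CA.H22Link.sg_mem _ (k := 5) hw
def V_t0 : Net := [(nat_lit 0x4415151104141010004154515000140050450540151504145015511100144000014145045510415414401041051545110445444105040400105514540005001411415005454105140554444005100000505141154410550510041041455144455151104141010004154515000140050450540151504145015511100144000014145045510415414401041051545, nat_lit 1),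
  (nat_lit 0x113230001022032011113220330210131203131323230010311233332310332123023130212033222123210003010201300213013323231332321133023312331102212311322321312101332332010001212002013033213231120020012202012032031201311011212013313000012312303232213110333231222002122202111221132212103220031020, nat_lit 2),
  (nat_lit 0x20b0b0f0503070d070c06040e0e020b0c050605020a0c000b0a0e0e0a01090b010c0a0a020d020803050c0a070c04090d0b000d040b0a0404080c0b0f0e080c0002030c0a010b0b040705050002000d070007020d050508060e0b0e030406080d020104010e0008060e0f070a080a0b0d06070e0c08050d02040a0304050e04050108060c0505020e01050e0b0a, nat_lit 4),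
  (nat_lit 0x3f00c200c5008a00e5007e00af005f000c00a900dc001d0048005700e50009004a009a001e0012004f00a30030007600c6000c00750029005c00c000170025004300dc009d0021007e0056003a006800b700f30081005b001b001700ec002e0073001400260058002200ee007900d400ad0086009f002f00b60061007c0028008000d3009500a9009b000400dc, nat_lit 8),
  (nat_lit 0x1250000048ea00000afa00003ff70000f8840000ed31000083fc00009e7b000021990000c20b0000c7b30000d4250000850400000d2600008357000064010000ab3b0000da8900009189000028e7000095510000596a000036db0000ac400000a7ba000044500000bc360000ee560000b6990000b28a0000ca070000824000004d9e0000169a00007900, nat_lit 16),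
  (nat_lit 0x1713000000004bb1636000000000982b827e00000000d88a2dae00000000030eccec0000000067f62cf700000000c22ca811000000000c85953100000000731acedb0000000067adb64d0000000031a4266d000000006bc75b2c00000000ec3bebcd000000005ae041be00000000640b40c3000000009b2abdd400000000ba6119600000000085b6a940, nat_lit 32),
  (nat_lit 0x1e80bbf89a5d0000000000000000261d2c7944dde64100000000000000007feaf2c4cad793db0000000000000000b2309750074f9e350000000000000000f1233b80dc47f7000000000000000000eebcd7f89b6ee19d0000000000000000cb4aeb573e0a84b50000000000000000a8aec0fb05da74ce000000000000000089b46fbf45a92200, nat_lit 64),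
  (nat_lit 0x475187373ee3f5c54475e576943d9f7500000000000000000000000000000000c09fbcbd5ed4ffeade674fd9b10e4d7e000000000000000000000000000000006705c4962003d001080202c9814a900000000000000000000000000000000000cc04da3dafda155a7922562001010342, nat_lit 128),
  (nat_lit 0xa7463c16c44457305a4246d1295c2829808f8d665aeb9004551e6ac426086a0900000000000000000000000000000000000000000000000000000000000000007740c496080482514208039980601005000182a71c5c2d2025518073063e047f, nat_lit 256),
  (nat_lit 0xb6092c1e044457645a0240d10100082c40858440788b100409a80e80a000e94250428480c810205940410748085000018008b18f3c3bc4add3f627cd500f0b12, nat_lit 512),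
  (nat_lit 0x3ba93c7fedadfff7e5ff573f0f7f, nat_lit 1024),
  (nat_lit 0x2b28286f8c2dd3a645bc54310d4e, nat_lit 512),
  (nat_lit 0x800b200ec44477001a02449109500829808d0e4460a0882550ba6c44a011670a000000000000000000000000000000000000000000000000000000000000000000000000000000000000000000000000000000a1241661842de18053073e073f, nat_lit 256),
  (nat_lit 0x41499b167a61b86555b6660484158d4b00000000000000000000000000000000f0ca397e58df275c90c94df87036097600000000000000000000000000000000370000322003000100080008807010000000000000000000000000000000000000001880380c0ca44150642001000342, nat_lit 128),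
  (nat_lit 0x3f503c0ec4fd000000000000000055da4644c051f9ca0000000000000000c9438ff21234123e0000000000000000307c12c21e8898f10000000000000000ebefc09e6d74797000000000000000005a0e4091813000090000000000000000732282d409101ab50000000000000000806464090283115600000000000000003832000000000000, nat_lit 64),
  (nat_lit 0xfc900000000bbb6f6a4000000006471f12b00000000dd09ac95000000004396a9a100000000004280e50000000010cd87d9000000005bb55ca70000000007e1fc8b000000000c67ec1e00000000aa26b279000000001a04283c00000000321089460000000098b8d6c000000000086640fa00000000a8eb13580000000093414b310000000000290000, nat_lit 32),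
  (nat_lit 0xb50700001fee00009d0b00002de90000249800001f8700007d9f00000eca0000a42b00004630000003460000c06500001dbe0000e9760000d4330000245200003dda0000afc5000060820000013400000ad500004bf60000d1a80000cae000007a5f0000ff2c00008969000008ab00001d0d0000b02f0000e6420000b094000078a40000361000002200, nat_lit 16),
  (nat_lit 0x3000bc00e800ef00df004d00bd003b008b00b30066007100de0073004c009a005400390045000600470024004e001800c9003a009100b800800050008e005e00db007e006400cb00c400e500b200dd0017005a003100ff009e00920095003a0009003e00910018001000cb00df00c90067007600cf0000004900f300440027000b00c100430011009300800040, nat_lit 8),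
  (nat_lit 0x20d02000f06020b060c050d0b06030505070805080a0a03020c0601060608010e06090000020a06060d0109030e0b0f050a0f03030c02030b080106020c030b0b000a050309090e0b0a0a0408040f0c09010e09010b0d0108000d090403000e0c0d000206040003060a0f0104010c040906070800020d0e0f02000a08000604070c000b0a0b0200060e01010100, nat_lit 4),
  (nat_lit 0x301020033000311020010103102010313032033031121222321223330101121311203331021212201201211002122031012333112212203010201331013322211321132030212132031030220111232230322230001231220212200233030323011302331323010122100332033100232202130111323113333123130000122201121121103011200222302120, nat_lit 2),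
  (nat_lit 0x5511100551010415401150141111011555054001055011401104114055401514414045115141000445105410440040154444005440410550045405044440455541500041540450044104501550054510501144545040011144150411001005511100151000415401150141111011555054001055011401104114055401514414045115141000445105410440040, nat_lit 1)]
def V_t1 : Net := [(nat_lit 0x4100450404045551451455155450405401141050440114450004454504415014155400050541104100104555041010104011410101155451451545551410151054141411004511400111514110540505550441415044104004155541040404100450404045451451455155450405455145050544114410004454504415014151401150541104100104555041010, nat_lit 1),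
  (nat_lit 0x1021331121023203013333131313103000310120013220230302313232033111321203121032331132310120131013300030323131120201203303230000302322313300012011222333221022321021020020311332120322202022210302221321231113232103202121222210301122200323232122032321102101032030001102031201011323020112231, nat_lit 2),
  (nat_lit 0x2020d01010d0e080401000a03000d0f0f040c010a0903020309080a020901070d0f09010f040b01020e00050c040f06080f0702020f0f0f0401040503060f0d06020a0d0b0a0c020c0601020203080806040a060a00060d010000020a06040e05010605060c0809030e0e0b06080a0f0a000a0b06050d0602080b030e01060f070408070f0700040b0c050a0e, nat_lit 4),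
  (nat_lit 0x3c0053001f00df00bc000600f2000c000200e10021007f00bb00bd0085002500e0003b00ae00f200ff00270030008f004f00f200ea000b002200e6003200e500d1009e00ae00be00e50011006b002700e500c30047001d00bd0027005c00c500450064000000db002100ac0052009c009e00e000c8005e007e00cf00d6005f00cb001500dd00a6003700c90068, nat_lit 8),
  (nat_lit 0x86db00001c150000d4bf0000f7c00000f29c0000785d00002fc50000d7200000f0e7000015f7000047c5000053b80000470100004d2600009dac0000a652000083400000be5d00006f600000d4190000270d00009f2d00005bd800007103000003620000827a00006c2e00003bb400009a0d000012f6000032110000454c0000cabc000081070000a975, nat_lit 16),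
  (nat_lit 0xf180000000032f6a32d000000007cbe6f1900000000d4a9f5af000000004a3a49310000000085b32a6400000000d265dff100000000bbe8c668000000003b34eda5000000005ef1cb2300000000d96934b600000000f93bf55100000000cef2e3430000000036232af800000000e02f2f2300000000d15154ea0000000023a204b30000000043f42c85, nat_lit 32),
  (nat_lit 0x16145a69b1260000000000000000e69898627437400e0000000000000000e915677fcfa0e08e0000000000000000116f9e245b8fb7230000000000000000935e407904359067000000000000000002f8520f2aa44e2300000000000000003717bcd337af298a0000000000000000c5d65e90cf07683100000000000000002f09e3bfc6040100, nat_lit 64),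
  (nat_lit 0x81075d5e49ed3d9219f816282a734b6f00000000000000000000000000000000e7701c348b7e3d7f8393b68bbee97e8b000000000000000000000000000000000917fc8f2e44e12818681505ce088006000000000000000000000000000000007d9b7ec8753df8f6a5eb70c3170c1c00, nat_lit 128),
  (nat_lit 0x18f00f21500e290141c19b031465aa89a5300a4e58ace686b96bf8df027d58d00000000000000000000000000000000000000000000000000000000000000000511775d5a62f281a8de80660c8a8dc541107eb8e6d298d5b64206f2e1a0413f0, nat_lit 256),
  (nat_lit 0xc0190d75d21f6139294907011d0362a08800d2480800c1041100d1b692ec140642c80314106e88cac0801e4822e8da1b3834e89686f6b78a992756699ed94c03, nat_lit 512),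
  (nat_lit 0xb54d3ff3ddbfded7eab9fd55ff3, nat_lit 1024),
  (nat_lit 0x310d31a3952fd6d70a293d54ef3, nat_lit 512),
  (nat_lit 0x2c00e00401068e3c0c119013461880b80300b0e566c5286a569a4f189644cb50000000000000000000000000000000000000000000000000000000000000000000000000000000000000000000000000000084451ed0cd904484e29180015f0, nat_lit 256),
  (nat_lit 0x49894b5056b97c42ed693baea37e6ef900000000000000000000000000000000f2180c309b3e2d554d00d8d812f17257000000000000000000000000000000000800950b5000a00014400104c480825600000000000000000000000000000000000000101089008a058050a104400800, nat_lit 128),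
  (nat_lit 0x1c56159615a20000000000000000a51d5ce5055f48710000000000000000ccb9ea87b06a570d00000000000000003f61dd4474edb7240000000000000000c7376f13a69a39ce0000000000000000316147c51c6124c6000000000000000059675492544c6502000000000000000048ca097a0010022400000000000000008001000000000000, nat_lit 64),
  (nat_lit 0x28c700000000898cd39d0000000002573c3d00000000a099b4b40000000031c4b095000000005e034c3100000000b28851f70000000002b4297a00000000290c147100000000a3594542000000008e3f433e0000000081276a960000000002aa323500000000da26440600000000769a950900000000ddd485980000000004f1144c0000000007000000, nat_lit 32),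
  (nat_lit 0xa45f0000a98300002e4d0000e5370000ab5800008d9e000077840000411d0000687100001bd200009fb20000198e0000383d00001d1400000f9900008f980000921000009c8d00002456000007640000b4df0000da61000086670000102a00002be80000cc370000766b00005837000096d900005bf70000afd00000b10a000008e60000086800001105, nat_lit 16),
  (nat_lit 0x1c00490052002800bb007c003c00e0007a00a0005c00e30080005800b2003400e00084006200240012002e007500c100e9003e006700680047003f0083007500550025004b007400440065005100d600fc00de00cc00d9006d00ef0004003500d100d300e3004a0031002300e3003700870011005800c80053008c00e800e000ef00f000a000b6000200080080, nat_lit 8),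
  (nat_lit 0x2020c0a0f0a0c020400070b04060f0c08080a060d0a020a0f030c090c0c0c04090b070306080f040002070a0b0a010f0208080b000a0d0d0601020c070a06070f080f0d0d0508010907010b0403090a0a060903000a080b0b0301090d010a08040004090b07050408070d060e01030d08030109010f080d030e080c04070504040e0909010d0205080a0e040a00, nat_lit 4),
  (nat_lit 0x23010022023322133301130003221200202010320200121133033112132213203301200210001102322310003002131110333202031020102303212300011023000232110232031300312113221000231330230110011111333311302321322021131332010032313232323210131331333110300012010021230010333112330123012321321222303031100, nat_lit 2),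
  (nat_lit 0x10415115451155405441101511414005155110550441401045105100101014454051401554544041000011500000044410544551445554151444054450500141544415401050041144144004445551500450055515101040000554000001110415115451155405441001511514005055110550441401145105100110111454011401554544041000011500000044, nat_lit 1)]
def V_t2 : Net := [(nat_lit 0x11040051500545454455415401101005155044000040141151411145150055504401500540510104105015004101000514115141415540054404405411005411110440454510450140504410040000515551540510105411101010051401440055454014010101404151054550540100511555505044100401540155515101110055410051411140515151155545, nat_lit 1),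
  (nat_lit 0x3213103010022322030213201113312233131331130102113312323310300212012300001120130222202033010130011210100002232201030011000121032023201101201332222211201213300312232111220002302212003033233200322100101223333112132131123311202222032233001330210030131212332221000111222321202010003100020, nat_lit 2),
  (nat_lit 0xa0b0c010e01060c0c030806040a0e0a010a040b00010602060d0f070d0f0a0c0e0500010d060b040f06050203060f0c06080e030302030c0a0603070f080d0d0c0c0304090908020e0a0f0c0d050f0b050505070a0803000a07010e070205050e01050a0c0d0f010b0304080d0f0f070e020b000500050001090d020c00000e0201040a0b0d09050f050b0103, nat_lit 4),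
  (nat_lit 0x33006c006a00660021003a009300fd0018004b0008002e00aa00bc005900980000000700e40091004f004c0080001d00cd0089006b0002000b002f00fb00ec001500c200b7008b00e50036000200be00cd00d2002f0085005300ae004a00ca0070001f006a00de007000a400dd000e007800c0008700d1001e009600c400bf0092003100f2009f0090002300d3, nat_lit 8),
  (nat_lit 0x228900009e21000073320000a7ca0000c26d0000dc760000c3260000dbd0000042ac000054390000b01a0000d788000058a400007f470000a28400002ba50000219000009a5c0000a64a0000d93800002baf00006f660000c9b50000314100007f160000b7c900002f22000043430000a81a000043400000347500000b7000000696000039d80000aff8, nat_lit 16),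
  (nat_lit 0x67e000000009e0db53900000000ab6bdb5a00000000588debaf00000000ab850c810000000092e42f2600000000e0e298260000000001cd330900000000b0134b1000000000d4ae887e000000003eaec88b000000009f9a6639000000005c3e11d800000000b5010374000000006c9c0ef8000000006e4a7f9800000000694b95320000000093aac848, nat_lit 32),
  (nat_lit 0x23b66877ef030000000000000000bb882ab8f2dd8d24000000000000000014e862e3cd33929800000000000000008c961b306509a2e20000000000000000d21ff347b017de61000000000000000060ed5f099108f49c0000000000000000115708e0741bd4d90000000000000000ee8a9453deb20b3c00000000000000001406a6080a140800, nat_lit 64),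
  (nat_lit 0xe39532ea6b061a633ea032ecba7760a700000000000000000000000000000000e85a42d9a6b1372df9e305bf5fbb3dce00000000000000000000000000000000b2f7538084990991e7900a7a08055806000000000000000000000000000000009692e3a3f789b91ee7ec9135b0251028, nat_lit 128),
  (nat_lit 0x16f7cd95d05fc9b498900353754aa58fef8fd50a49858802002063a05228062c0000000000000000000000000000000000000000000000000000000000000000340222171b3beb31db9a83366828de849ead78cfeb64e6a38e6bbbe1738da5f6, nat_lit 256),
  (nat_lit 0x94532ef509c7eb90eb9d920e6010de2efa7f599c8d8157f18e23192fc04c52203a66830896501d5d13e027e11f8b6dd6ac0a10d0b0531f3bb357c7dd0f87b106, nat_lit 512),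
  (nat_lit 0x39ffeb3cff3bfbffb6ddffa7b5be, nat_lit 1024),
  (nat_lit 0x18bd8024f918d29b0449e8250428, nat_lit 512),
  (nat_lit 0x823189d4149422c8704101cb5f01b0081600005011100040b20a44012440020e000000000000000000000000000000000000000000000000000000000000000000000000000000000000000000000000000000734b388421e9cbb2950782b596, nat_lit 256),
  (nat_lit 0x5d0be6d605029d2393ca37f5b33514a8000000000000000000000000000000004c5c18fdaf55f27e5a51a483cb6da7ce0000000000000000000000000000000016e4599c8444e9908400084208050c4000000000000000000000000000000000000021a52b10b60338a69204f0201028, nat_lit 128),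
  (nat_lit 0x112431896ab300000000000000008a3b138fbad18d7f00000000000000003c6226cb8a59740d00000000000000001d3d54642929948100000000000000003689ed49d0942a6700000000000000007d6bc42ac00e16ee0000000000000000015321d44414b3430000000000000000ca34025310a24831000000000000000040ee000000000000, nat_lit 64),
  (nat_lit 0x18160000000056d9116b000000002b299661000000004170e1b2000000007b52c41100000000c38a648300000000701b3155000000009085412800000000b905462a00000000dca1597f0000000032a4fa6000000000983966bb00000000894908770000000091dbb13800000000bec46ab0000000006d72802800000000bb4240390000000088000000, nat_lit 32),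
  (nat_lit 0x5ab700003d670000e1c20000501800003c680000ad0f000075720000410f000015d5000064690000eb1c000014010000d0510000118300001a74000072790000898c000069a30000656e000060c50000380d00008a78000080470000bf4f0000e09300001e530000ddfe00007d030000245e00007caa000045500000a199000001d00000c38000000c48, nat_lit 16),
  (nat_lit 0x26002d0097005b003600b8001300e4000500ba006300220001002300ab000e0032000400fe008000da00c400b7008b003b00e4007900a2006c00b600ea006400910088007200a7005d00fc00d100e300a1008f00ea00b600f8002700bd00d800e00022003e004c00cb002800150057000c0090000700da007a009800180058000700c200100010005400900000, nat_lit 8),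
  (nat_lit 0x30e0605040d03020609020d0708070502020b080c0b090f0307070b0b0f05000801090c0a0c09030606050d0305040c0f0b0a0a0d0c000d070b0d0b06030201080c000b080906020a0c040e0d0c020d030f090b0808040c0d0201090e0d0b0600070a05000f0d010e010b08050b0a080c030a0201090c080a0b07030e0c02080300040402050c0b0e08080c0800, nat_lit 4),
  (nat_lit 0x3120203133331012021130010222133022032302312022102133100313002110102300211122301111220233003003320122001123300222020202302030223131110001221230202211220330312133010131212101312320032223223012001322020023020310333003133033202312220032120311130222320310313030001213133112221121032000121, nat_lit 2),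
  (nat_lit 0x14504505050555001110100150440150444411011514411405014010401000014555455014404150444040401450051001550500500404040105041515415004014455554141104010051005554544044401550401450445014545445555151040011500545454055405401101005155044000040141151411045150055504401500540510104105015004101000, nat_lit 1)]
def V_t3 : Net := [(nat_lit 0x5450100115400051044044404151105401014101145540445114410040141444140004045005500400441540410000415114505440445114414150104040440004111111115510511554400105044451000011041155051511015011040105001401554041505001105545055544411011454554414545505111004041100150004545405501415445540401400, nat_lit 1),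
  (nat_lit 0x3331121011330011220302033121202233012323122222002002212001203112332000301232001212021330333100010303222330213331103030132232311100331210132032020202030012131203321000133112332222210001100110213010221120201203101131232221021132121013211231302030210032013003033011031202313201133332133, nat_lit 2),
  (nat_lit 0x20e040a050d0c0b06040b07040d090702000002040b02070209020b08040f05090d0d0d0b0d070504080e060c0f0c00040c0a010d060c01040d020c08050705040f0d0508030d020d050106040e0c0801040b0802000e0804030a020308010b050d0e000b090903090e050603040c0f0901070b060902010a0806090a09090f08050a03040a0b06000a0300010a, nat_lit 4),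
  (nat_lit 0x340001006500510035004e00a000ab006c00e70051008f00b4004c000f008700ae0055006900ec003500290093004f00f90000006b00a40044004a009000bf00f800f10087002f0004009700e80034003b00ae004d001c0047009c00130015008000fb001b00ba003900f500ce0017003b00d400c300ec00df00330076005200a3004b00a0002100130087006f, nat_lit 8),
  (nat_lit 0xa71b00001e6a00009a3c0000c00d00007aad0000c0fb0000dae6000062a0000044f20000060300008a150000061b000055d5000024f100005c410000160100007f2b000018460000f0d8000082df0000931300009c0b0000eb56000016b000008d120000270900001f8b0000d78400001e8a0000bf410000492f0000cce40000d6af000050600000979c, nat_lit 16),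
  (nat_lit 0x17600000000c009e4d0000000001d1dcb620000000097f2d10f000000007a0ba8d50000000092594b3e000000004a32171800000000a2d299f600000000c3801ce00000000044bd563000000000389813cc00000000e2080e2c00000000ed2a061800000000aa84e3d200000000fd92e35c0000000068223cf1000000002631c22c00000000104eee60, nat_lit 32),
  (nat_lit 0x2ea680aa26810000000000000000e1c38e9d9ec42e2c0000000000000000306ef62221bb4ddd000000000000000099c6c2612210404a0000000000000000366111ff0d92fd7000000000000000008c2b62d1968127e60000000000000000e33a9695fe952a9a0000000000000000655c5432be38fcbd0000000000000000b539baf741d14850, nat_lit 64),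
  (nat_lit 0x31d67a3e0fbf95e806c11976001fbb4e00000000000000000000000000000000fe90bbbcd0dff32f67231fffbbf4ad9600000000000000000000000000000000b63b42c880132bb97200a44c04664214000000000000000000000000000000001b57b76eafeefc4bca46e994301b9a35, nat_lit 128),
  (nat_lit 0xee99a1dfac7cfa1690c41f68f8e600ddd763d5e2cb1100c880948a80850553000000000000000000000000000000000000000000000000000000000000000000b1d283fff3fe745a9a9d3a2ee1305058842b7cb95face637f9af3c69ef941b02, nat_lit 256),
  (nat_lit 0x36d883ffa3fff7de9ed51a6cf062305cd66b5d9568000e3dc0a00ecacf018a48d80770680c03a830d722040d028001020000080f9013a3f576a5254462548a90, nat_lit 512),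
  (nat_lit 0x3e3c5fbfe7e7ffebfd7573de9bb7, nat_lit 1024),
  (nat_lit 0x3a2440a462676d4ac47070ce9bb4, nat_lit 512),
  (nat_lit 0x400d60010c800b2040820440c0c2204e40416100b0310d80590e2894140f880800000000000000000000000000000000000000000000000000000000000000000000000000000000000000000000000000002a381fbfc7069babf92503888927, nat_lit 256),
  (nat_lit 0x1112b66611688f44496ea252710edb4a0000000000000000000000000000000068d43b35e21df06f84f114e126d9b39e0000000000000000000000000000000020394045e0002a316008840a4c0642500000000000000000000000000000000000003410108200c600c0c970111a9a35, nat_lit 128),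
  (nat_lit 0x241205161c0000000000000000019576b6a88eef74a000000000000000059cbba6c011460960000000000000000863ba9813655129800000000000000006064deae441a9db400000000000000006c303c624c2002c0000000000000000061c00c24c8626205000000000000000062a90c1d176a474700000000000000008080000000000000, nat_lit 64),
  (nat_lit 0x3b98000000002220ed5600000000c09abc68000000003ba11e8300000000222e34ef00000000780f38d5000000000cae2240000000008984b2b2000000005ad032f8000000002d65d631000000000245299e00000000b9d431c600000000197a939400000000ad464644000000008b4923ce000000009174902300000000615c02210000000006514000, nat_lit 32),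
  (nat_lit 0xff0a0000706100005683000020a400009fc800000f9900009b0f000078050000ca2b000019180000055e00005b030000153600009d00000055fb00009ca400001a2f00004483000028310000fc38000039c100000294000054ae0000919a000018be0000297900008454000078230000c07e000017880000432800003c0800001f01000020c000003860, nat_lit 16),
  (nat_lit 0x25005400ac009e00f7007200b1008b00cd00b000350036002b007900720069006f000700fc000b001c004300f500b200b00002006b00d80027009600f500dc00f700580007007c004400d40090003500b200a900ac0069001d008d00c400f1008700630063009800e4007f006a00050093009e004b00e300d700270024009400ab002d00d20047008300d00040, nat_lit 8),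
  (nat_lit 0x10a0c0e060d050800040504000201010e00010d05000302020509020a0c0b070c0b0f0f060505040006090c020801050e06040a030f00090a0e0b0f0d030900060a040d0b010c0602000308070a0a030e070d0a0208040706040c040c0a0801030e00030b0501020e040403070b03010c0709090400040c0a080902000e070a0b0b0c0400000a03080806050404, nat_lit 4),
  (nat_lit 0x3111033312312222321211132003123232102021232303311310321310221011021000200212102111100012102310331020311121312131100030202232311100333233312233203030123322230023011011213230123212112100003313211103211310231200322313300033000020121113203012301112211003312210121133012300012001010130301, nat_lit 2),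
  (nat_lit 0x10544514151011144510505404101011000104444444414414455510004141111440010441045541454440540441004140050055501054140044145141555110440451515510515154144440101044005400515150154050551155010050005450100115400051044044004151105401014101145400445114410040141444140004045005500400441540410000, nat_lit 1)]
def V_t4 : Net := [(nat_lit 0x11401154040145150040545514151045001154410401504115451555140101500411444014014411444000010040000041041541115001040450015001100444114510440051455501101054040144010511055105444145450055454501055444040414001141151000440445514101004410445551044041410140550504104444151050500151500155040515, nat_lit 1),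
  (nat_lit 0x3332322321333320000220103013103210033300321033211302113202320311303112133302201203202233112312010211212202131031130312021322132210000210200302203022310233302223020230231032231310301121130101033022113110220023011003313022133310002313312232310220112213011201320100031202010003122302301, nat_lit 2),
  (nat_lit 0xf0d050e05040a0c0b0c06040e080801090209000a02030607060a0608060f0905010d0b060a0d050d09010c0a07060d030a010f0901090703020403020a00090d0700070a020e07090500060f090709020a040000030f060d07050805020f0b0a060d060d0b030e0007020b00080005020b0b0c0f030c030503070b0308050702080f0b0f0e0e07090d0d000b, nat_lit 4),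
  (nat_lit 0x2700d300a700110067007d00d400e500490091001900d3007a004300b000960012005000840051009700d30037000a00080016007d001b0007002e008a00c000200094000200c6003c006f00eb009600cb0009008200ad00ec0080002f002b00bd007a00fd00a9003100a500a400c200de001f008100cf0023008700cd00fd004200f0003f00e400ce00b30052, nat_lit 8),
  (nat_lit 0xb0d70000aa8c0000559e000097780000a0370000b471000046280000f3b50000ad8700000396000085e900009c1100007551000019b80000a747000088850000ba6700000bf00000262d0000a1b80000d4fc00001e910000dafd00006cfd00001f180000879f00004dbb0000d42a00005bc800004fcb0000726b0000e9040000662f0000c30400009f1c, nat_lit 16),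
  (nat_lit 0x29af00000000ce5c613a000000001dcc198e00000000786f2f3700000000ac31808500000000c34b51f7000000002a111e15000000004c20f79a000000001f019c470000000096919f65000000003893ec5000000000b0af2532000000003213166a000000000b6fdb5200000000d254d0ef0000000047153fce00000000a340242d00000000e5937c80, nat_lit 32),
  (nat_lit 0x21bc1006e3e30000000000000000db306f0a62e6bb38000000000000000024bc3a90731e9a9300000000000000000e3940a9928f118600000000000000009b9fdc08bdb899ef00000000000000006414d67a658ebfed00000000000000003a226e5d943b8d490000000000000000a1feb70043796bb600000000000000003ac2aebb580c0000, nat_lit 64),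
  (nat_lit 0x408f9f53e18cb6345f35c82dbabaa40000000000000000000000000000000000915a57f9ddbdbbcf633bafd28f57ffa00000000000000000000000000000000f80ce65b09c4bd81f0cc70042438426000000000000000000000000000000000aa6634adb237f557bff959c02a686020, nat_lit 128),
  (nat_lit 0xfb83a40558655f54a62c73b53766453cc13eda0c22a9211df55904015422eae400000000000000000000000000000000000000000000000000000000000000007bc2764f3a537f15d5ba55e7ee4057784834da30fdba228d1235b2d2dbd7351c, nat_lit 256),
  (nat_lit 0x7bc23a1f1af0e717c77ed5a7aae73130c23cda106f8d209d534521659400e4e8cc3cc4a8c14d14409489805c150046c511b025d4c04089a946065c4820926e28, nat_lit 512),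
  (nat_lit 0x3dfcb47e9fe7efffdfdaebff3f1c, nat_lit 1024),
  (nat_lit 0x25b4846803e3ee9f9f5a6b3b3e18, nat_lit 512),
  (nat_lit 0x852c80a2c9b980400001042015246125138c50c402c1a836f413080170190a100000000000000000000000000000000000000000000000000000000000000000000000000000000000000000000000000000186830129e44a3f482d2c9cd1114, nat_lit 256),
  (nat_lit 0x2b5a20ed346181aae73b796063fb8af5000000000000000000000000000000000530a467ce3941b826e69dfb0f86f50000000000000000000000000000000000b20ce00141640180a0046124603a16080000000000000000000000000000000000001c00a44c0646296741008a682000, nat_lit 128),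
  (nat_lit 0x9ecb85156b0000000000000000bb0f0d73d439dad90000000000000000288f25c2b98a243400000000000000001eb5d35f0d02346c0000000000000000bddc320726b8e66a000000000000000072b6b5a1cc4905690000000000000000400deb119d46e1c100000000000000004987c260202396880000000000000000041d000000000000, nat_lit 64),
  (nat_lit 0xb16000000000c4410fc00000000dd74d320000000006a014a2f00000000239178fd000000008575c08d00000000be562b66000000007f665a14000000004528f0fa0000000037d37370000000006b2963b300000000689fa8100000000048262b900000000026514026000000000d4f23b4000000005305a1a900000000f4a225100000000020004000, nat_lit 32),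
  (nat_lit 0x545400009e280000acd100009a0a00008883000089c800001932000021b50000126d000003e100003e2600004af00000f4960000ee8e00003ff300000a6a00001a65000096c60000ca8000009e2700008ce6000003f20000769500001f9200001f7700002a4200003f480000326300006aa200004c39000019a700000e4800001ea0000008c600000020, nat_lit 16),
  (nat_lit 0x8003100a60049009800f200aa008c005e009f00d400c500f400a700fd00d4001700eb0078003f007d0052003400a5007d00a900a5005100b100560031009e00eb0063003e003600b7006100650017004900c800220001004b009e0024003a00e4002e00cc003800a50036000300120082006000f4006900a800cc0091008600cb00dc006500860006003c0080, nat_lit 8),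
  (nat_lit 0x10c090c05010b0001090a0202020c0006030b000c04020f0e0709020404030203050a0f00000a050c0a0002000e070d0b0a090a0d0d050b06010d07070e080705020001080a050401060a04070c03030b010608010f0c0f060e06030a060a0f01090a02020d01080900000d01050c0c0a040507010b080b01090b0b030c080a0202050801030f0806020800000c, nat_lit 4),
  (nat_lit 0x3032323233132130223010312221003202320310122030100300310231002301321321310021310010220203130010220031210200011103123001312213131002210332311023302000320031013233311233210033113302123010131103312220321210020010213021203331210112302101233300222131323321231102012223123023103003230220030, nat_lit 2),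
  (nat_lit 0x1041015044540041011400140044011104510411001451554044041501005100414441544141105151401541514041551100010500045045440001011154504040010411155441101050405015414104111105441014005454005141014551401114040145150040545114151045001150410401504115451555140101500411444014004411444000000040000, nat_lit 1)]
def V_t5 : Net := [(nat_lit 0x3030303030303030303030303030303030303030303030303030303030303030303030303030303030303030303030303030303030303030303030303030303030303030303030303030303030303030303030303030303030303030303030f0f0f0f0f0f0f0f0f0f0f0f0f0f0f0f0f0f0f0f0f0f0f0f0f0f0f0f0f0f0f0f0f0f0f0f0f0f0f0f0f0f0f0f0f0f0f, nat_lit 4),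
  (nat_lit 0xf000f000f000f000f000f000f000f000f000f000f000f000f000f000f000f000f000f000f000f000f000f000f000f000f000f000f000f000f000f000f000f000f000f000f000f000f000f000f000f000f000f000f000f000f000f000f000f000f000f000f000f000f000f000f000f000f000f000f000f000f000f000f000f000f000f000f000f000f000f000f, nat_lit 8),
  (nat_lit 0xc0000000c0000000c0000000c0000000c0000000c0000000c0000000c0000000c0000000c0000000c0000000c0000000c0000000c0000000c0000000c0000000c0000000c0000000c0000000c0000000c0000000c0000000c0000000fff00000fff00000fff00000fff00000fff00000fff00000fff00000fff00000fff00000fff00000fff00000fff0, nat_lit 16),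
  (nat_lit 0xfff0000000000000fff0000000000000fff0000000000000fff0000000000000fff0000000000000fff00000, nat_lit 32),
  (nat_lit 0xfff00000000000000000000000000000fff00000000000000000000000000000fff0000000000000, nat_lit 64),
  (nat_lit 0xfff0000000000000000000000000000000000000000000000000000000000000fff0000000000000000000000000000000000000000000000000000000000000fff0000000000000000000000000000000000000000000000000000000000000fff00000000000000000000000000000, nat_lit 128),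
  (nat_lit 0xfffffffffffffffffffffffffffffffffc0000000000000000000000000000000000000000000000000000000000000000000000000000000000000000000000fffffffffffffffffffffffffffffffffffffffffffffffffffffffffffff, nat_lit 256),
  (nat_lit 0xfffffffffffffffffffffffffffffffffffffffffffffffffffffffffffffffffff0000000000000000000000000000000000000000000000000000000000000, nat_lit 512),
  (nat_lit 0x3fffffffffffffffffffffffffff, nat_lit 1024),
  (nat_lit 0x3fffffffffffffffffffffffffff, nat_lit 512),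
  (nat_lit 0x3fffffffffffffffffffffffffff0000000000000000000000000000000000003fffffffffffffffffffffffffff0000000000000000000000000000000000003fffffffffffffffffffffffffff, nat_lit 128),
  (nat_lit 0xfc000000000000000000000000000000fc000000000000000000000000000000fc000000000000000000000000000000fc000000000000000000000000000000fc000000000000000000000000000000fc00000000000, nat_lit 64),
  (nat_lit 0xfc00000000000000fc00000000000000fc00000000000000fc00000000000000fc00000000000000fc00000000000000fc00000000000000fc00000000000000fc00000000000000fc00000000000000fc00000000000000fc000, nat_lit 32),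
  (nat_lit 0xf0000000f0000000f0000000f0000000f0000000f0000000f0000000f0000000f0000000f0000000f0000000f0000000f0000000f0000000f0000000f0000000f0000000f0000000f0000000f0000000f0000000f0000000f0000000f, nat_lit 16),
  (nat_lit 0xc000c000c000c000c000c000c000c000c000c000c000c000c000c000c000c000c000c000c000c000c000c000c000c000c000c000c000c000c000c000c000c000c000c000c000c000c000c000c000c000c000c000c000c000c000c000c0, nat_lit 8),
  (nat_lit 0x333333333333333333333333333333333333333333333333333333333333333333333333333333333333333333333333333333333333333333333333333333333333333333333333333333333333333333333333333333333333333333333, nat_lit 2)]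
def V : Ctx := ⟨1134, 11, [V_t0, V_t1, V_t2, V_t3, V_t4, V_t5]⟩
theorem V_ok : V.ok = true := by decide +kernel
def V_ps : List (Word × ℕ) := [([], 3), ([0,0,0], 0), ([2,2,2], 0), ([0,2,1,2,0,3], 1), ([4,4], 1), ([0,4,0,4], 1), ([2,4,2,4], 0), ([6,6], 1), ([0,6,1,6], 1), ([4,6,4,6], 2), ([0,2,0,6,2,6,3,0,6,2,6,3,6,1,3,6,3,6], 0), ([8,8], 1), ([0,3,0,8,3,0,8,3,8], 0), ([0,2,6,8,3,1,3,6,8,2], 0), ([0,2,0,4,6,2,6,3,6,3,8,2,6,2,6,3,6,3,8,6], 0)]
theorem V_e_0 : lall (ceq [10] 6 V_ps) (eqP V) = true := by decide +kernel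
theorem V_e : lall (ceq [10] 6 V_ps) (eqP V) = true := V_e_0
theorem V_cov : Cov V.g rels (V.ev [10]) 3 := cov_of V_ok V_e 3 3 0 (by decide +kernel) (by decide)
theorem V_w : ev V.g (cw gens [([1,7], [2], 4)]) = V.ev [10] := Ctx.eq_of_eqW V_ok (v := [10]) (by decide +kernel)
theorem V_st : St (C.grp gens) (Multiplicative (ZMod 3)) :=
  st_cyc bound rfl card.ge hrel V_cov _ (Ctx.eq_of_eqW hC (v := []) (by decide +kernel)) V_w
def c2_t : List (List (List ℕ)) := [[[],[1,3],[2,3,5],[3,5],[4,5],[5]],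
  [[],[3,5],[2,4],[3],[4,5],[5]],
  [[],[],[3,4,5],[3,5],[4,5],[5]],
  [[],[],[],[5],[4],[5]],
  [[],[],[],[],[],[5]],
  [[],[],[],[],[],[]]]
noncomputable def c2 : PC := ⟨6, 2, 2, 10, 46, 2, 48, 1, 255, fun e => nth (nth c2_t [] (Nat.div e 6)) [] (Nat.mod e 6),
  [(0,[1,2],[0,1,3,4]),
  (1,[4],[1,2,3,4,5]),
  (2,[4],[1,2,4]),
  (2,[3],[0,4]),
  (0,[0,2],[3,4]),
  (0,[4],[5]),
  (2,[1,2],[4]),
  (0,[3],[0,2,3]),
  (0,[5],[4,5]),
  (1,[3],[0,3,4]),
  (1,[5],[5]),
  (2,[5],[5])]⟩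
def c2_A0 : List (List ℕ × List ℕ × ℕ) := [([2],[2,0],nat_lit 0x4000000000000000000000000000004000040000000004000040000000000000000000000004010040000000),
  ([2],[1,1],nat_lit 0x4000000000000000010000000000000000000000000004000040000000000010000000000000000000000000),
  ([2],[2,2],nat_lit 0x4000000000000004000000000000000000000000000004010040000000000000000000000000000000000000),
  ([4],[1,1],nat_lit 0x4000000000000004000000000000000010000000000000000000000000004000000000000000000000000000),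
  ([3],[3,2],nat_lit 0x4000000000000000000000000000004000000000000004000000000000000000000000000000000000000000),
  ([4],[4,0],nat_lit 0x4000000000000004000000000000000000000000000000000000000000000000000000000000000000000000),
  ([1],[0,0],nat_lit 0x4000000000000000000000000000000000040000000000000000000000000000000000000000000040000000),
  ([1],[1,1],nat_lit 0x4000040000000000000000000000),
  ([3],[3,1],nat_lit 0x4000000000000000000000000000),
  ([4],[3,3],nat_lit 0x4000000000000000000000000000000000000000000000000000000000000000000000000),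
  ([3],[0,0],nat_lit 0x4000000000000000000000000000000000000000000000000000000000000000000000000004000000000000),
  ([3],[3,3],nat_lit 0x4000000000000000000000000000000000000000000000000000000000)]
theorem c2_hA0 : lall c2_A0 c2.relA = true := by decide +kernel
def c2_B0 : List (ℕ × List ℕ × List ℕ × ℕ) := [(0,[0,0],[],nat_lit 0x40000000004010000100000004010000100000000010040000401),
  (1,[1,1],[],nat_lit 0x10000000000000000000000000000000040100000004010040100400000000000000000),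
  (2,[2,3],[3,2],nat_lit 0x4000000000000004000000000000004010040000000004010040000000000010000000000000010000100400),
  (0,[4,4],[5],nat_lit 0x4000000000000000000000000000004010000000000004000000000000004000040100000000000000000000000000000100001),
  (2,[6,6],[],nat_lit 0x4000000000000000000000000000004010040000000004010000100000000000000100400000000000000000),
  (0,[7,7],[8],nat_lit 0x100000000000000000000000000000000000004000000000000004010040000000004000000100000000000000000000000000040100001),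
  (1,[9,9],[10],nat_lit 0x10000000000000000000000000004000000000000004010000000000000010000000000000000000000000000000000000000000010040000001),
  (2,[3,6],[6,3,11],nat_lit 0x4000000000000000000000000000004000000000000004000000000000000000000000000000000040000000000000040000000000010000000000),
  (2,[3,3],[11],nat_lit 0x4000000000000000000000000000000000000000000004010000000000000000040000000000000000000000000000000000000000010000000001),
  (0,[5,5],[],nat_lit 0x4000000000000000010000000000000000000000000000000000000000000000000000000000000000000000)]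
theorem c2_hB0 : lall c2_B0 c2.relB = true := by decide +kernel
theorem c2_lin : Lin c2 (2 ^ 0) :=
  ⟨by decide +kernel, c2_A0, c2_B0, _,
  [0,
  0,
  0,
  nat_lit 0x4000000000000000000000000000000000000000000000000000000000000000000100000000000000000000000000000000000,
  nat_lit 0x100000000000000000000000000000000000000000000000000000000000000000000000000000000000000000000000000000000000000,
  nat_lit 0x100000004000000000000000000000000000000000000000000000000000000000000000000000000000000000000000000000000000000],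
  [],
  [[nat_lit 0x39223e,nat_lit 0x38c4df,nat_lit 0x3b2146,nat_lit 0x23a0b6,nat_lit 0x228539,nat_lit 0x620],
  [nat_lit 0x3523c,nat_lit 0x37aae,384,nat_lit 0x28b5a,256],
  [0,nat_lit 0x228168,nat_lit 0x228b7c,nat_lit 0xa30],
  [nat_lit 0x23a2d6,296,nat_lit 0x800],
  [nat_lit 0x200220,512],
  [544]],
  c2_hA0, c2_hB0, rfl, by decide +kernel, by decide +kernel, by decide +kernel, by decide +kernel⟩
def c2_x : List Word := [[0,3,8,3,6,2,8,6,2,1,6,2,6,2,6,1,3],
  [1,2,8,3,6,2,8,2,0,6,3,0,6,2,6,0,2],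
  [0,8,6,3,8,1,3,6,2,1,6,3,6,1,3,0],
  [1,6,8,3,0,6,2,8,2,1,6,2,6,2,6,4,0,2,0],
  [4,2],
  [0,2,6,3,6,8,2,1,6,3,8,3,6,3,0,6,2,6,2],
  [1,8,3,6,2,8,1,3,0,6,2,6,4,1,3,0],
  [2,8,6,3,8,6,2,8,3,1,6,3,6,0,2,1],
  [0,8,6,2,8,6,2,0,6,3,6,1,2,0]]
theorem c2_r0 : ∀ i < 6, c2.rowOK (chkW lk [0,1,2,3,7] c2_x) (0 + i) = true := by decide +kernel
theorem c2_r : ∀ i < c2.K, c2.rowOK (chkW lk [0,1,2,3,7] c2_x) i = true := of_zero (P := fun i => c2.rowOK (chkW lk [0,1,2,3,7] c2_x) i = true) (n := 6) (c2_r0)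
theorem c2_f : lall c2.F (c2.fusOK (chkW lk [0,1,2,3,7] c2_x)) = true := by decide +kernel
theorem c2_low : c2.l ^ c2.K ≤ lowB C [(0, [0,4,6,10], [[8], [0,2,6]]),
  (1, [2], [[0]]),
  (2, [0], [])] (c2_x.take c2.K) := by decide +kernel
theorem c2_grp : Grp c2 (C.grp gens) :=
  grp_of_ctx hC hlk (cb.2) (ws := c2_x) (fun w h => all_mem ((by decide +kernel : ∀ w ∈ c2_x, ∀ a ∈ w, a < 10) w h)) card (by decide) _ c2_r c2_f (by decide +kernel) c2_low
def c3_t : List (List (List ℕ)) := [[[5],[1,3],[2,3,4,4,5,5],[3,4],[4],[5]],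
  [[],[4,4],[2,4,4,5,5],[3,5],[4],[5]],
  [[],[],[4,4],[3,5],[4],[5]],
  [[],[],[],[],[4],[5]],
  [[],[],[],[],[],[5]],
  [[],[],[],[],[],[]]]
noncomputable def c3 : PC := ⟨6, 3, 9, 15, 320, 2, 48, 15, 2047, fun e => nth (nth c3_t [] (Nat.div e 6)) [] (Nat.mod e 6),
  [(0,[2],[0,0,1,2,2,5]),
  (0,[4],[5]),
  (1,[1],[2,2,3,3,4,4,5]),
  (1,[0],[0,0,1,2,2,3,3,5,5]),
  (1,[3],[3,5]),
  (1,[2],[1,1,3,3,4,5]),
  (1,[4],[4,4]),
  (1,[5],[5,5]),
  (0,[3],[3,3,4,4,5]),
  (0,[0],[1,1,3,4]),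
  (0,[1],[0,0,4]),
  (0,[5],[4])]⟩
def c3_A0 : List (List ℕ × List ℕ × ℕ) := [([2],[1,0],nat_lit 0x10000000000000000000000c00180000000000000000000000000200000000000000e001c0040000000000000010002000000000000000),
  ([3],[2,1],nat_lit 0x28000000000000000000000400080000000000000000040000000000000000000000200000000000000000000000000000000000000000),
  ([1],[0,0,0],nat_lit 0x18001000000000000000000600040008000000000000000000000000000000000000200000000000000000000000001000600000018000),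
  ([3,3],[3,0],nat_lit 0x8000000000000000000000180000000000000000000000000000000000000000000000000000000000000000000000c00000000000),
  ([3,3],[3,1],nat_lit 0x1000000000000000000000000000000000000000000000c00000000000000000000000000000000000000000000000000030000000000000000000000000000000000),
  ([3,3],[3,2],nat_lit 0x1000000000000000000000000000000000000000000000c00000000000000000000000000000c00000000000000000000000000000000000000000000000000000000),
  ([4],[1,0],nat_lit 0x200000000000000000000000000000000000000000000000000000000000000000000000000000000000),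
  ([5],[1,0],nat_lit 0x1000000000000000000000000000000000000000000000000000000000000000000000000000000000000000),
  ([4],[0,0,0],nat_lit 0x8000000000000000000000000000000000000000000000000000000000000000000000000000000000000000000003000000000000000),
  ([1],[1,1,1],nat_lit 0x80000000000000000000000000000000000000),
  ([2],[2,2,2],nat_lit 0x2000000000000000000000000000000000000000000000000000000000000),
  ([4,4],[4,0],nat_lit 0x6000000000000000),
  ([4,4],[4,1],nat_lit 0x180000000000000000000000000000000000000),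
  ([5,5],[5,1],nat_lit 0xc00000000000000000000000000000000000000000),
  ([4,4],[4,2],nat_lit 0x6000000000000000000000000000000000000000000000000000000000000),
  ([5,5],[5,2],nat_lit 0x30000000000000000000000000000000000000000000000000000000000000000),
  ([4],[3,3,3],nat_lit 0xc0000000000000000000000000000000000000000000000000000000000000000000000000000000000),
  ([5],[3,3,3],nat_lit 0x600000000000000000000000000000000000000000000000000000000000000000000000000000000000000),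
  ([5],[4,4,4],nat_lit 0x18000000000000000000000000000000000000000000000000000000000000000000000000000000000000000000000000000000000000),
  ([0],[0,0,0],nat_lit 0x8000000000000000000)]
theorem c3_hA0 : lall c3_A0 c3.relA = true := by decide +kernel
def c3_B0 : List (ℕ × List ℕ × List ℕ × ℕ) := [(0,[0,0,0],[1,1],nat_lit 0x10006000e000000000000000000000280010000000000000000006001400280000000000000280060010002000000000006001c00380060010000000300050000000c0018007),
  (1,[2,3],[3,2,4],nat_lit 0x1000000000000000000c00000000000000000000040004000000000000000000c00200040000000000000030002000400000000000000e00200000007000000000040005000c00140008000),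
  (1,[5,3],[3,5,4,6,6,7,7],nat_lit 0x400080000001000000000000000000a00000000000000000000008003000000000000000000a00140040000000000000020005000000000000000000800000010004000000000030008000c00040028000),
  (1,[5,2],[2,5,6,6,7,7],nat_lit 0x400080000000000000000000000000800000000000000000000000004000000000000000000400100000000000000000018002000a00000000000000400080020005000000000000000000000000000000),
  (1,[5,5,5],[6,6],nat_lit 0x80030000000000000000000000c000000000000000000000080080000000000000000010000c0038000000000000000000000000040000000000e00180018000000e00000000000000000000000000),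
  (1,[4,3],[3,4,6],nat_lit 0x40000000000000000000000001000000000000000000000018000000000000000000000000140000000000000000038005000e000000000000010001c0040000000000000038008001000000000000),
  (0,[8,9],[9,8,1],nat_lit 0x8000001000000000000000000000040000000000000000000000a00000000000000000000000000000000000000000001000140028000000000000000000000200000000000),
  (0,[10,10,10],[1,1],nat_lit 0x180000000000000000000000000000000010000000000000000000000000000018008000000000000000000000000000000000000000000000000000000000000000000000000000000200000030003000000000000007),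
  (1,[4,5],[5,4,7],nat_lit 0x200000000000000000000000000000000000000000000000000000000000000000000000000200040000000000000000000000000200000000000000c00000038000000000000000000000000000000000),
  (0,[11,10],[10,11],nat_lit 0x200000000000000000000000007000000000000000),
  (1,[4,4,4],[],nat_lit 0x6000000000000000001000000000000000000000000000000000000000000000c00000000000000000000000000000000000000000000000000000000000000000000000000000000000000),
  (1,[6,6,6],[],nat_lit 0x180000000000000000000000000000000000000000000000000008000000000000000000000000000000000000000000000000000000000000000000000000000000000000000000000000000000000),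
  (1,[7,7,7],[],nat_lit 0xc00000000000000000000000000001000000000000000000000000000000000000000000000000000000000000000000000000000000000000000000000000000000000000000000000000000000000000),
  (0,[1,1,1],[],nat_lit 0x30000001000000000000000000000000001000000000000000000000000000000000000000000000000000000000000000000000000000000000000000000000000000000000),
  (0,[11,11,11],[],nat_lit 0xc00000000000000000000000000000000000000000000200000000000000000000000008000000000000000000000000000000000000000000000000000000000000000000000000000000000000000000000000000000000)]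
theorem c3_hB0 : lall c3_B0 c3.relB = true := by decide +kernel
theorem c3_lin : Lin c3 (3 ^ 1) :=
  ⟨by decide +kernel, c3_A0, c3_B0, _,
  [nat_lit 0x200000010000000000000000002000000000000000000000000000000000000000000000000000000000000000000000000000000000000000000000000000000000000000000000000000000080000000,
  nat_lit 0x200080000000000000000008000000000000000001000000000000000000000000000000000000000000000000000000000000000000000000000000000000000000000000000000000000000000000000000000040000000,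
  nat_lit 0x400040000000000000000008000000000000000002000000000000000000000000000000000000000000000000000000000000000000000000000000000000000000000000000000000000000000000000000000040000000,
  nat_lit 0xc00000000000000800040000000000000000000000000000000000000000000000000000000000000000000000000000000000000000000000000000000000000000000000000000000000000000000000000000040000000,
  nat_lit 0x40000000000000000000000000000000000000000000000000000000000000000000000000000000000000000000000000000000000000000000000000000000000000000000000000000000000000,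
  nat_lit 0x200000000000000000000000000000000000000000000000000000000000000000000000000000000000000000000000000000000000000000000000000000000000000000000000000000000000000000],
  [(nat_lit 0x5000000000000000,3,nat_lit 0x3a73a7c0c8)],
  [[nat_lit 0x37e8d53ba8d725cda0b1b257e,nat_lit 0x1edaad733c69835ae2e1141f84402,nat_lit 0x1eda96a008a1e2d4eeee822a5d629,nat_lit 0x3bed55abc39043af4d193dd8a,7,nat_lit 0x545c5a29148ff4108],
  [nat_lit 0x1edabec8c4074cd0d8775e7cfc335,nat_lit 0x391482844131c34eff67b87e6,nat_lit 0x9831457c7040951b3be3f2ab,nat_lit 0x33f506e44,nat_lit 0x447c92776776d3ff4970fad8d],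
  [nat_lit 0x3db5475b2b293b765fc2dc7540caa,nat_lit 0x4570148056a3195b4f939f9ec,nat_lit 0x1d39d3e064,nat_lit 0x447c92776776d3ff4f9219879],
  [nat_lit 0x88f92bd279aa92d50143b22f,nat_lit 0x48fb79,nat_lit 0x290d741],
  [nat_lit 0x335f6eebc82b466105d486f6e,nat_lit 0xb8bc8a4e],
  [nat_lit 0x39127a0e4b305279a621920ed]],
  c3_hA0, c3_hB0, rfl, by decide +kernel, by decide +kernel, by decide +kernel, by decide +kernel⟩
def c3_x : List Word := [[3,6,2,6,3,8,0,2,1,6,2,6,1,3,1],
  [0,2,6,2,8,3,6,3,0,6,2,6,4,2,0],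
  [2,8,2,1,6,2,8,2,6,2,6,3,6,1],
  [0,8,2,6,3,8,2,6,2,1,6,2,6,2,6,4,2,0,2],
  [3,6,3,8,6,2,8,0,2,6,3,0,6,3,6],
  [6,8,0,2,6,3,6,3,6,4,0,2,1],
  [0,3,8,3,6,2,8,1,3,6,4,0,2,1],
  [1,2,1,6,3,8,3,0,6,3,6,2,6,3]]
theorem c3_r0 : ∀ i < 6, c3.rowOK (chkW lk [0,1,2,3,7] c3_x) (0 + i) = true := by decide +kernel
theorem c3_r : ∀ i < c3.K, c3.rowOK (chkW lk [0,1,2,3,7] c3_x) i = true := of_zero (P := fun i => c3.rowOK (chkW lk [0,1,2,3,7] c3_x) i = true) (n := 6) (c3_r0)
theorem c3_f : lall c3.F (c3.fusOK (chkW lk [0,1,2,3,7] c3_x)) = true := by decide +kernel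
theorem c3_low : c3.l ^ c3.K ≤ lowB C [(0, [0,2,4,6,8,10,0,2], [[0,0,4,10], [2,2,4,8,8]]),
  (1, [0,2,0,2], [])] (c3_x.take c3.K) := by decide +kernel
theorem c3_grp : Grp c3 (C.grp gens) :=
  grp_of_ctx hC hlk (cb.2) (ws := c3_x) (fun w h => all_mem ((by decide +kernel : ∀ w ∈ c3_x, ∀ a ∈ w, a < 10) w h)) card (by decide) _ c3_r c3_f (by decide +kernel) c3_low
section
open CA.CMat CA.H28Mat CA.Chev Cfsg.Lie
def ds : List Word := [[6,2,0,6,2,6,8,3,8,6,2,8,0,3,6,3,1,6,3,6,2,0,2,0], [6,3,8,2,1,6,2,8,0,6,2,0,6,2,6,0,2,0], [8,2,0,6,3,8,6,2,8,0,2,6,2,0,6,3,6,4,0], [8,3,0,6,3,0,6,3,8,0,2,6,3,0,6,3,6,4,3,0], [2,6,2,8,6,3,8,1,6,3,1,6,2,6,4], [3,0,6,3,0,6,3,8,1,6,2,1,6,3,6,4,0,3,1], [0,6,3,0,6,3,8,1,6,2,1,6,3,6,4,2,0,2], [3,6,2,8,6,3,8,1,6,3,1,6,2,6,4,3], [0], [1], [2,8,3,0,6,3,0,6,3,8,0,2,6,3,0,6,3,6,4,0,3,0], [8,3,6,8,2,1,6,3,8,0,2,6,3,0,6,3,6,4,0], [6,2,0,2,0], [2,0,2,6,0], [0,2,1], [0,3,1], [2,1,6,2,6,2,6,3,6,0,3,0], [2,1,6,2,6,3,6,3,6,0,3,1],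 [0,6,2,6,3,6,3,6,2,1], [0,6,2,6,2,6,3,6,3,1], [2,6,0,2,0], [1,3,6,1,3], [6,3,1,6,3,1,6,3,6,1,3,1], [6,2,0,6,2,0,6,2,6,0,2,0]]
theorem slp : slpOK C ds 5 = true := by decide +kernel
def XL : List (List Word) := [[[], [10], [12]], [[], [14], [16]], [[], [18], [20]], [[], [22], [24]], [[], [26], [28]], [[], [30], [32]], [[], [34], [36]], [[], [38], [40]], [[], [42], [44]], [[], [46], [48]], [[], [50], [52]], [[], [54], [56]]]
def X (r a : ℕ) : Word := nth (nth XL [] r) [] a
theorem st0 : ∀ j < 4, (fun r => CA.H22Link.stW tabG2 (arP 3) (fun u v => eqQ lk [0,1,2,3,7] (u, v)) X r = true) (0 + j) := by decide +kernel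
theorem st4 : ∀ j < 4, (fun r => CA.H22Link.stW tabG2 (arP 3) (fun u v => eqQ lk [0,1,2,3,7] (u, v)) X r = true) (4 + j) := by decide +kernel
theorem st8 : ∀ j < 4, (fun r => CA.H22Link.stW tabG2 (arP 3) (fun u v => eqQ lk [0,1,2,3,7] (u, v)) X r = true) (8 + j) := by decide +kernel
theorem st : ∀ j < 12, (fun r => CA.H22Link.stW tabG2 (arP 3) (fun u v => eqQ lk [0,1,2,3,7] (u, v)) X r = true) j := of_zero (lt_add (P := fun r => CA.H22Link.stW tabG2 (arP 3) (fun u v => eqQ lk [0,1,2,3,7] (u, v)) X r = true) st0 (lt_add (P := fun r => CA.H22Link.stW tabG2 (arP 3) (fun u v => eqQ lk [0,1,2,3,7] (u, v)) X r = true) st4 (st8)))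
theorem iso {F : Type*} [Field F] [Fintype F] (hF : Fintype.card F = 3) : Nonempty (C.grp gens ≃* chevG2.group F) := by
  haveI : CharP F 3 := charP_of (k := 1) Nat.prime_three hF
  have h3 : (3 : F) = 0 := CharP.cast_eq_zero F 3
  exact CA.H22Link.chev_equiv tor_injective_G2 (soundF Nat.prime_three hF).1 tab_G2
    (Cfsg.Agent.S1055.result ⟨2, fun h => one_ne_zero (α := F) (by linear_combination h3 - h),
      fun h => one_ne_zero (α := F) (by linear_combination h)⟩).1 hlk cb (CA.H22Link.tab_mem hC slp (by decide)) st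
    ⟨0, by decide⟩ (by decide) (Ctx.ne_one_of_moves hC (p := 0) (by decide) (by decide +kernel))
    (Cfsg.Agent.S1059.result hF)
end
end

/-- Exceptional Schur multiplier: over the field with 3 elements the Chevalley group of type G₂ has Schur multiplier cyclic of order 3 (here the Schur multiplier is described through stem extensions, as in the definitions). -/
theorem result {F : Type*} [Field F] [Fintype F] (hF : Fintype.card F = 3) : Cfsg.HasCyclicSchurMultiplier ↥(Cfsg.Lie.chevG2.group F) 3 := by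
  obtain ⟨e⟩ := iso hF
  exact congr_left (V_st.cyc (bd_all card [2, 3] [7, 13] (by decide +kernel) (by norm_num)
    (bd2 (bd_of c2_lin c2_grp) (bd_of c3_lin c3_grp)))) e

end Cfsg.Agent.S2101
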