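import Cfsg.Statements.S0263
import Cfsg.Agent.Lib.Lin.SLnCard

set_option autoImplicit false
open Cfsg

namespace Cfsg.Agent.S0263

/-- A Sylow p-subgroup of GL_n(q), p the characteristic, has order q^(n(n-1)/2). -/
theorem result {F : Type*} [Field F] [Fintype F] {q : ℕ} (hF : Fintype.card F = q) (p : ℕ) [Fact p.Prime] [CharP F p] (n : ℕ) (P : Sylow p (Matrix.GeneralLinearGroup (Fin n) F)) : Nat.card P = q ^ (n * (n - 1) / 2) := by
  subst hF
  obtain ⟨k, -, hk⟩ := FiniteField.card F p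
  have hp : p.Prime := Fact.out
  have hq : 1 < Fintype.card F := Fintype.one_lt_card
  have h1 : ∏ i : Fin n, (Fintype.card F ^ n - Fintype.card F ^ (i : ℕ)) =
      Fintype.card F ^ (n * (n - 1) / 2) * ∏ i : Fin n, (Fintype.card F ^ (n - i) - 1) := by
    rw [← Finset.sum_range_id, ← Fin.sum_univ_eq_sum_range (fun i => i),
      ← Finset.prod_pow_eq_pow_sum, ← Finset.prod_mul_distrib]
    refine Finset.prod_congr rfl fun i _ => ?_
    rw [Nat.mul_sub, ← pow_add, mul_one, Nat.add_sub_cancel' i.2.le]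
  have h2 : ¬ p ∣ ∏ i : Fin n, (Fintype.card F ^ (n - i) - 1) := by
    rw [Prime.dvd_finsetProd_iff hp.prime]
    rintro ⟨i, -, hi⟩
    have h3 : p ∣ Fintype.card F ^ (n - i) :=
      dvd_pow (hk ▸ dvd_pow_self p k.ne_zero) (by have := i.2; omega)
    have h4 := (Nat.dvd_sub_iff_right (Nat.one_le_pow _ _ (by omega)) h3).1 hi
    exact hp.one_lt.ne' (Nat.dvd_one.1 h4)
  have h0 : ∏ i : Fin n, (Fintype.card F ^ (n - i) - 1) ≠ 0 := fun h => h2 (h ▸ dvd_zero p)
  rw [P.card_eq_multiplicity, CA.SLnCard.card_GL, Nat.card_eq_fintype_card, h1,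
    Nat.factorization_mul (by positivity) h0, Finsupp.add_apply,
    Nat.factorization_eq_zero_of_not_dvd h2, add_zero, hk, ← pow_mul, hp.factorization_pow,
    Finsupp.single_eq_same]

end Cfsg.Agent.S0263
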