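import Cfsg.Statements.S0638
import Cfsg.Agent.Lib.Odd.BG4x3

set_option autoImplicit false
open Cfsg

namespace Cfsg.Agent.S0638

open CA.BG CA.BG4 Subgroup

theorem metacyclic_top {R : Type*} [Group R] [Finite R] :
    IsMetacyclic (⊤ : Subgroup R) ↔ IsMetacyclic R := by
  rw [metacyclic_iff]
  constructor
  · rintro ⟨S, -, h1, h2, x, -, h3⟩
    haveI : S.Normal := normalizer_eq_top_iff.1 (top_le_iff.1 h1)
    refine ⟨S, ‹_›, h2, ⟨(x : R ⧸ S), fun q => ?_⟩⟩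
    obtain ⟨g, rfl⟩ := QuotientGroup.mk_surjective q
    obtain ⟨_, ⟨i, rfl⟩, s, hs, rfl⟩ := (mem_sup_norm (le_top.trans h1)).1 (h3 (mem_top g))
    exact ⟨i, by simp [(QuotientGroup.eq_one_iff s).2 hs]⟩
  · rintro ⟨S, hS, h1, q, h2⟩
    obtain ⟨x, rfl⟩ := QuotientGroup.mk_surjective q
    refine ⟨S, le_top, (normalizer_eq_top_iff.2 hS).ge, h1, x, mem_top x, fun g _ => ?_⟩
    obtain ⟨i, hi⟩ := h2 (g : R ⧸ S)
    rw [show g = x ^ i * ((x ^ i)⁻¹ * g) by group]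
    exact mul_mem_sup (zpow_mem (mem_zpowers x) i) (QuotientGroup.eq.1 hi)

/-- For odd p, in a non-cyclic metacyclic p-group the elements of order dividing p generate an elementary abelian subgroup of order p². -/
theorem result {R : Type*} [Group R] [Finite R] {p : ℕ} [Fact p.Prime] (hp : p ≠ 2) (hR : IsPGroup p R) (hm : Cfsg.IsMetacyclic R) (hnc : ¬ IsCyclic R) : Cfsg.IsElementaryAbelian p (Cfsg.omegaOne p (⊤ : Subgroup R)) ∧ Nat.card ↥(Cfsg.omegaOne p (⊤ : Subgroup R)) = p ^ 2 := by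
  have hpp : p.Prime := Fact.out
  have hG' : IsPi {p} (⊤ : Subgroup R) := isPi_of_isPGroup hpp (hR.to_subgroup ⊤)
  exact Ohm1_metacyclic_p2Elem hpp hp hG' (metacyclic_top.2 hm)
    fun h => hnc (Subgroup.topEquiv.isCyclic.1 h)

end Cfsg.Agent.S0638
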