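import Cfsg.Statements.S1238
import Cfsg.Agent.Lib.Grp.Rk3
import Cfsg.Agent.Lib.Grp.Rk4

set_option autoImplicit false
open Cfsg

namespace Cfsg.Agent.S1238

open Subgroup CA.Fus CA.SylIn

theorem aux {G : Type*} [Group G] [Finite G] (h2 : Cfsg.PRankLE 2 2 G) (h1 : ¬ Cfsg.PRankLE 2 1 G)
    (hiso : ∀ z : G, ¬ Cfsg.IsIsolatedInvolution z) (S : Sylow 2 G) {F : Type*} [Field F] [Fintype F]
    (hF : Fintype.card F = 16) (P : Sylow 2 (Cfsg.PSU 3 F 4)) :
    (∃ m : ℕ, 2 ≤ m ∧ Nonempty ((S : Subgroup G) ≃* DihedralGroup m)) ∨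
    Cfsg.IsQuasiDihedral (S : Subgroup G) ∨ Cfsg.IsWreathed (S : Subgroup G) ∨
    (∃ n : ℕ, 2 ≤ n ∧ Nonempty ((S : Subgroup G) ≃* Multiplicative (ZMod (2 ^ n) × ZMod (2 ^ n)))) ∨
    Nonempty ((S : Subgroup G) ≃* (P : Subgroup (Cfsg.PSU 3 F 4))) := by
  have hZ : (groupFusionSystem (S : Subgroup G)).center = ⊥ := by
    by_contra hne
    have hc := center_central (groupFusionSystem (S : Subgroup G))
    obtain ⟨⟨x, hx⟩, hx1⟩ := ne_bot_iff_exists_ne_one.1 hne
    obtain ⟨k, hk⟩ := S.isPGroup' ⟨x, center_le _ hx⟩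
    obtain ⟨m, hm, hm'⟩ := CA.Higman3.exists_inv_pow ⟨k, congrArg Subtype.val hk⟩
      (fun e => hx1 (Subtype.ext e))
    have hz := pow_mem hx m
    change x ^ m ≠ 1 at hm
    change x ^ m * x ^ m = 1 at hm'
    generalize x ^ m = z at hz hm hm'
    have hzo : orderOf z = 2 := orderOf_eq_prime (by rwa [pow_two]) hm
    have key : ∀ g : G, g * z * g⁻¹ ∈ (S : Subgroup G) → g * z * g⁻¹ = z := fun g hg =>
      central_fix hc (P := zpowers z) (f := cj g) (mor_group.2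
        ⟨zpowers_le_of_mem (center_le _ hz), fun y hy => by
          obtain ⟨i, rfl⟩ := mem_zpowers_iff.1 hy
          rw [cj_apply, ← conj_zpow]; exact zpow_mem hg i, g, fun _ _ => rfl⟩) (mem_zpowers z) hz
    refine hiso z ⟨hzo, fun g hg => ?_⟩
    by_contra hne
    obtain ⟨h, hh⟩ := exists_conj_le_sylow S (CA.Two.klein_isPGroup (CA.Two.isKleinFour_sup hzo
      (((MulAut.conj g).orderOf_eq z).trans hzo) hg (Ne.symm hne)))
    have e1 := key h (conj_le_iff.1 hh _ (mem_sup_left (mem_zpowers _)))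
    have e2 := key (h * g) (by
      simpa [mul_assoc] using conj_le_iff.1 hh _ (mem_sup_right (mem_zpowers _)))
    refine hne ((MulAut.conj h).injective ?_)
    simp only [MulAut.conj_apply]
    rw [e1]; exact Eq.trans (by group) e2
  have h1' : ¬ PRankLE 2 1 (S : Subgroup G) := fun h => by
    obtain ⟨V, hV⟩ := CA.Rk2.exists_klein h1
    obtain ⟨g, hg⟩ := exists_conj_le_sylow S (CA.Two.klein_isPGroup hV)
    have hV' := CA.Two.klein_conj hV g
    have := CA.Fus3.prankLE_iff.1 h _ hg ⟨CA.Two.klein_comm hV', fun _ => CA.Two.klein_sq hV'⟩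
    rw [hV'.card_four] at this; omega
  exact (CA.Rk4.main S.isPGroup' (sat_group (CA.AmbSyl.sylIn_iff.2 (isSylowIn_top S))) hZ
    (CA.Fus3.prankLE_of_injective h2 _ (subtype_injective _)) h1').imp id (Or.imp id (Or.imp id
      (Or.imp id fun ⟨_, h⟩ => CA.Rk3.equiv_sylow h hF P)))

/-- Let G be a finite group of 2-rank 2 (a Klein four-subgroup but no elementary abelian subgroup of order 8) which is fusion simple: G has no subgroup of index 2 and no isolated involution. Let S be a Sylow 2-subgroup. Then S is dihedral, quasi-dihedral, wreathed, isomorphic to Z_{2^n} × Z_{2^n} for some n ≥ 2, or isomorphic to a Sylow 2-subgroup of PSU(3) over the field with 16 elements. -/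
theorem result {G : Type*} [Group G] [Finite G] (h2 : Cfsg.PRankLE 2 2 G) (h1 : ¬ Cfsg.PRankLE 2 1 G) (hidx : ∀ H : Subgroup G, H.index ≠ 2) (hiso : ∀ z : G, ¬ Cfsg.IsIsolatedInvolution z) (S : Sylow 2 G) {F : Type*} [Field F] [Fintype F] (hF : Fintype.card F = 16) (P : Sylow 2 (Cfsg.PSU 3 F 4)) : (∃ m : ℕ, 2 ≤ m ∧ Nonempty ((S : Subgroup G) ≃* DihedralGroup m)) ∨ Cfsg.IsQuasiDihedral (S : Subgroup G) ∨ Cfsg.IsWreathed (S : Subgroup G) ∨ (∃ n : ℕ, 2 ≤ n ∧ Nonempty ((S : Subgroup G) ≃* Multiplicative (ZMod (2 ^ n) × ZMod (2 ^ n)))) ∨ Nonempty ((S : Subgroup G) ≃* (P : Subgroup (Cfsg.PSU 3 F 4))) := by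
  exact aux h2 h1 hiso S hF P

end Cfsg.Agent.S1238
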