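import Cfsg.Statements.S0516
import Cfsg.Agent.S1238
import Cfsg.Agent.Lib.Grp.Iso2
import Cfsg.Agent.S0949
import Cfsg.Agent.S0215
import Cfsg.Agent.S0205

set_option autoImplicit false
open Cfsg

namespace Cfsg.Agent.S0516

open Subgroup

/-- In a non-abelian finite simple group of 2-rank at most 2, a Sylow 2-subgroup is dihedral (of order at least 4),
quasi-dihedral, wreathed, or isomorphic to a Sylow 2-subgroup of the projective special unitary group of dimension 3
over the field with 16 elements. -/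
theorem result {G : Type*} [Group G] [Finite G] [IsSimpleGroup G]
    (hG : ¬ IsMulCommutative G) (h2 : Cfsg.PRankLE 2 2 G) (S : Sylow 2 G) {F : Type*} [Field F] [Fintype F]
    (hF : Fintype.card F = 16) (P : Sylow 2 (Cfsg.PSU 3 F 4)) :
    (∃ n : ℕ, 2 ≤ n ∧ Nonempty ((S : Subgroup G) ≃* DihedralGroup n)) ∨ Cfsg.IsQuasiDihedral (S : Subgroup G) ∨
      Cfsg.IsWreathed (S : Subgroup G) ∨ Nonempty ((S : Subgroup G) ≃* (P : Subgroup (Cfsg.PSU 3 F 4))) := by
  have hcen : center G = ⊥ := (IsSimpleGroup.eq_bot_or_eq_top_of_normal _ inferInstance).resolve_right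
    fun e => hG ⟨⟨fun a b => mem_center_iff.1 (e.ge (mem_top b)) a⟩⟩
  have hns : ¬ Group.IsSolvable G := fun h => hG ⟨⟨IsSimpleGroup.comm_iff_isSolvable.2 h⟩⟩
  have hO : ∀ N : Subgroup G, N.Normal → Odd (Nat.card N) → N = ⊥ := fun N hN ho =>
    (IsSimpleGroup.eq_bot_or_eq_top_of_normal _ hN).resolve_right fun e =>
      hns (Cfsg.Agent.S0205.result (by rwa [e, card_top] at ho))
  have hiso : ∀ z : G, ¬ IsIsolatedInvolution z := fun z hz => by
    obtain ⟨Q, hQ⟩ := (IsPGroup.of_card (G := zpowers z) (p := 2) (n := 1)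
      (by rw [Nat.card_zpowers, hz.1, pow_one])).exists_le_sylow
    have hc := CA.Iso2.commute_of_isPGroup (CA.Iso2.oddIso hz)
      (by rw [← pow_two, ← hz.1, pow_orderOf_eq_one]) Q.isPGroup' (le_normalizer (hQ (mem_zpowers z)))
    obtain ⟨N, hN, ho, h⟩ := Cfsg.Agent.S0215.result Q z hz.1 (hQ (mem_zpowers z)) fun g hg =>
      hz.2 g (mem_centralizer_singleton_iff.1 (hc hg)).symm
    rw [hO N hN ho] at h
    have : z ∈ center G := mem_center_iff.2 fun g =>
      (commutatorElement_eq_one_iff_mul_comm.1 (mem_bot.1 (h g))).symm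
    rw [hcen, mem_bot] at this
    simpa [this] using hz.1
  have h1 : ¬ PRankLE 2 1 G := fun h => by
    obtain ⟨z, hz⟩ := exists_prime_orderOf_dvd_card' (G := G) 2 (even_iff_two_dvd.1
      (Nat.not_odd_iff_even.1 fun ho => hns (Cfsg.Agent.S0205.result ho)))
    refine hiso z ⟨hz, fun g hg => ?_⟩
    by_contra hne
    have hV := CA.Two.isKleinFour_sup hz (((MulAut.conj g).orderOf_eq z).trans hz) hg (Ne.symm hne)
    have := h _ (CA.Two.klein_comm hV) fun _ => CA.Two.klein_sq hV
    rw [hV.card_four] at this; omega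
  rcases Cfsg.Agent.S1238.aux h2 h1 hiso S hF P with h | h | h | ⟨n, hn, ⟨e⟩⟩ | h
  · exact Or.inl h
  · exact Or.inr (Or.inl h)
  · exact Or.inr (Or.inr (Or.inl h))
  · obtain ⟨hN, hC, -⟩ := Cfsg.Agent.S0949.result S n hn e hO
    rcases IsSimpleGroup.eq_bot_or_eq_top_of_normal _ hN with e1 | e1
    · refine absurd ((eq_bot_iff_forall _).2 fun g _ => mem_bot.1 (e1.le (hC.le fun x hx => ?_)))
        (top_ne_bot (α := Subgroup G))
      rw [mem_bot.1 (e1.le hx), one_mul, mul_one]
    · refine (hG ⟨⟨fun a b => ?_⟩⟩).elim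
      exact hC.ge (e1.ge (mem_top b)) a (e1.ge (mem_top a))
  · exact Or.inr (Or.inr (Or.inr h))

end Cfsg.Agent.S0516
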