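import Cfsg.Statements.S1248
import Cfsg.Agent.Lib.Grp.Rk3

set_option autoImplicit false
open Cfsg

namespace Cfsg.Agent.S1248

open Subgroup CA.Rk2 CA.Two
open scoped commutatorElement

theorem aux {T : Type*} [Group T] {ρ : MulAut T} (h : U34 ρ) : Nat.card T = 64 ∧
    IsKleinFour (center T) ∧ center T = closure {x : T | orderOf x = 2} ∧
    center T = commutator T ∧ Nat.card (T ⧸ center T) = 16 ∧ ∀ x : T ⧸ center T, x ^ 2 = 1 := by
  haveI := h.finite
  refine ⟨h.card, h.om.kl, le_antisymm (fun x hx => ?_) ((closure_le _).2 fun x hx => ?_),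
    le_antisymm ?_ (commutator_le.2 fun x _ y _ => h.cc x y), ?_, fun x => ?_⟩
  · by_cases h1 : x = 1
    · rw [h1]; exact one_mem _
    · exact subset_closure (orderOf_eq_prime (by rw [pow_two, h.om.sq hx]) h1)
  · exact h.om.mem x (by rw [← pow_two, ← (show orderOf x = 2 from hx), pow_orderOf_eq_one])
  · have hH := h.cub.hig h.isPGroup h.om
    obtain ⟨F, _, _, _, hF⟩ := CA.Higman3.exists_F hH
    refine hH.Z_le_of_ne_bot hF le_top
      (CA.Higman.Inv.commutator (fun _ _ => mem_top _) (fun _ _ => mem_top _)) fun e => ?_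
    obtain ⟨a, ha⟩ := h.exists_notMem
    exact ha (mem_center_iff.2 fun g => commutatorElement_eq_one_iff_mul_comm.1
      (mem_bot.1 (e.le (commutator_mem_commutator (mem_top g) (mem_top a)))))
  · have := card_eq_card_quotient_mul_card_subgroup (center T)
    rw [h.card, h.om.card] at this
    omega
  · obtain ⟨x, rfl⟩ := QuotientGroup.mk_surjective x
    rw [← QuotientGroup.mk_pow, QuotientGroup.eq_one_iff, pow_two]
    exact h.sq x

/-- Let F be a field with 16 elements and S a Sylow 2-subgroup of PSU(3) over F (the unitary group U₃(4)). Then |S| = 64; the centre Z(S) is a Klein four-group and coincides with the subgroup generated by the involutions of S and with the derived subgroup; and every element of S ⧸ Z(S) squares to the identity, S ⧸ Z(S) having order 16. -/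
theorem result {F : Type*} [Field F] [Fintype F] (hF : Fintype.card F = 16) (S : Sylow 2 (Cfsg.PSU 3 F 4)) : Nat.card S = 64 ∧ IsKleinFour (Subgroup.center (S : Subgroup (Cfsg.PSU 3 F 4))) ∧ Subgroup.center (S : Subgroup (Cfsg.PSU 3 F 4)) = Subgroup.closure {x : (S : Subgroup (Cfsg.PSU 3 F 4)) | orderOf x = 2} ∧ Subgroup.center (S : Subgroup (Cfsg.PSU 3 F 4)) = commutator (S : Subgroup (Cfsg.PSU 3 F 4)) ∧ Nat.card ((S : Subgroup (Cfsg.PSU 3 F 4)) ⧸ Subgroup.center (S : Subgroup (Cfsg.PSU 3 F 4))) = 16 ∧ ∀ x : (S : Subgroup (Cfsg.PSU 3 F 4)) ⧸ Subgroup.center (S : Subgroup (Cfsg.PSU 3 F 4)), x ^ 2 = 1 := by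
  obtain ⟨ρ, h⟩ := CA.Rk3.u34_sylow hF S
  exact aux h

end Cfsg.Agent.S1248
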