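import Cfsg.Statements.S1296
import Cfsg.Agent.Lib.Loc.AmbChar
import Cfsg.Agent.Lib.Loc.Dich
import Cfsg.Agent.S1221
-- import your own Cfsg.Agent.* helpers here

set_option autoImplicit false
open Cfsg

namespace Cfsg.Agent.S1296

/-- Dichotomy Theorem. Let G be a finite group of even order with no normal subgroup of index 2 and with O(G) = 1. Then G has 2-rank at most 2, or G is of component type, or G is of characteristic 2 type. -/
theorem result {G : Type*} [Group G] [Finite G] (heven : Even (Nat.card G)) (hO2 : ∀ N : Subgroup G, N.Normal → N.index ≠ 2) (hO : Cfsg.oddCore G = ⊥) : Cfsg.PRankLE 2 2 G ∨ Cfsg.IsComponentType G ∨ Cfsg.IsCharacteristicTwoType G := by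
  open Subgroup Cfsg CA CA.Amb CA.AmbSyl CA.AmbCore CA.AmbRes CA.AmbChar Subgroup Cfsg CA CA.Amb CA.AmbSyl CA.AmbCore CA.AmbRes CA.AmbChar CA.AmbFs CA.AmbSpe CA.Dich in
  open scoped commutatorElement in
  (
    refine or_iff_not_imp_left.2 fun h3 => or_iff_not_imp_left.2 fun hc => ?_
    have s := con_of_not hc
    refine s.char heven fun t ht => by_contra fun n => ?_
    obtain ⟨M, h1, h2⟩ := s.main hO (eight_of_transfer hO2 h3) ht n
    exact h2 (le_bot_iff.1 ((Cfsg.Agent.S1221.result M h1).trans hO.le)))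

end Cfsg.Agent.S1296
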