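import Cfsg.Statements.S3861
import Cfsg.Agent.Lib.Grp.H24Sw

set_option autoImplicit false
open Cfsg

namespace Cfsg.Agent.S3861

open Subgroup CA CA.BG CA.H24Sw

/-- A finite group G has no non-identity element of odd order that is conjugate to its inverse if and only if the Sylow 2-subgroups of G are normal. -/
theorem result {G : Type*} [Group G] [Finite G] (P : Sylow 2 G) : (∀ x : G, x ≠ 1 → Odd (orderOf x) → ¬ IsConj x x⁻¹) ↔ (P : Subgroup G).Normal := by
  refine ⟨fun h => ?_, fun h x h1 h2 h3 => h1 ?_⟩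
  · have hO : IsPi {2} (pCore 2 G) := by rw [← core_p_top Nat.prime_two]; exact core_pi _ _
    have hodd : ¬ 2 ∣ (pCore 2 G).index := by
      intro hd
      obtain ⟨t, ht⟩ := exists_prime_orderOf_dvd_card' (G := G ⧸ pCore 2 G) 2 hd
      have htt : t * t = 1 := by have := pow_orderOf_eq_one t; rwa [ht, pow_two] at this
      have hn : t ∉ pCore 2 (G ⧸ pCore 2 G) := by
        rw [CA.Core.pCore_quotient_pCore, mem_bot]; rintro rfl; simp at ht
      obtain ⟨y, hy1, hyo, hy⟩ := CA.AmbIso.exists_inverted htt hn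
      obtain ⟨x, rfl, hx⟩ := lift_pi' (π := {2}ᶜ) _ ((piNat_compl_iff Nat.prime_two).2
        (fun h => (Nat.not_even_iff_odd.2 hyo) (even_iff_two_dvd.2 h)))
      have hxo : ¬ 2 ∣ orderOf x := (piNat_compl_iff Nat.prime_two).1 hx
      have hc : (♯(pCore 2 G)).Coprime ♯(zpowers x) := hO.coprime (isPi_zpowers.2 hx)
      obtain ⟨n, hn', rfl⟩ := lift_norm (pCore 2 G) hc (y := t) (by
        rw [MonoidHom.map_zpowers, mem_norm_iff_cj, cj_zpowers]
        exact (congrArg zpowers hy).trans zpowers_inv)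
      refine h x (by rintro rfl; exact hy1 rfl) (Nat.odd_iff.2 (by omega))
        (isConj_iff.2 ⟨n, eq_inv_of_mul_eq_one_left (mem_bot.1 ((inf_eq_bot_of_cop hc).le
          ⟨(QuotientGroup.eq_one_iff _).1 (by simp [hy]),
            mul_mem (conj_mem_of_mem_norm hn' (mem_zpowers x)) (mem_zpowers x)⟩))⟩)
    have hS : Syl 2 (pCore 2 G) ⊤ := Syl.mk'' Nat.prime_two le_top hO (by rwa [relIndex_top_right])
    rw [hS.eq_of_normal (top_le_norm _ _) (syl_top Nat.prime_two P)]
    infer_instance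
  · obtain ⟨g, hg⟩ := isConj_iff.1 h3
    have h4 : Odd (P : Subgroup G).index := Nat.odd_iff.2 (by have := P.not_dvd_index; omega)
    obtain ⟨m, hm⟩ := h4
    have h5 : g * g * x = x * (g * g) := by
      calc g * g * x = g * (g * x * g⁻¹) * g⁻¹ * (g * g) := by group
        _ = g * x⁻¹ * g⁻¹ * (g * g) := by rw [hg]
        _ = (g * x * g⁻¹)⁻¹ * (g * g) := by group
        _ = _ := by rw [hg, inv_inv]
    have h6 : g ^ (2 * m + 1) * x * (g ^ (2 * m + 1))⁻¹ = x⁻¹ := by
      rw [pow_succ', pow_mul, sq, mul_assoc g, ((show Commute (g * g) x from h5).pow_left m).eq,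
        ← hg]
      group
    have h7 := pow_index_mem (P : Subgroup G) g
    rw [hm] at h7
    have h8 : x ^ 2 ∈ (P : Subgroup G) := by
      have := mul_mem (h.conj_mem _ h7 x) (inv_mem h7)
      rwa [show x * g ^ (2 * m + 1) * x⁻¹ * (g ^ (2 * m + 1))⁻¹ =
        x * (g ^ (2 * m + 1) * x * (g ^ (2 * m + 1))⁻¹)⁻¹ by group, h6, inv_inv, ← sq] at this
    obtain ⟨k, hk⟩ := P.isPGroup' ⟨_, h8⟩
    have h9 : orderOf x ∣ 2 * 2 ^ k := orderOf_dvd_of_pow_eq_one (by
      rw [pow_mul]; exact congrArg Subtype.val hk)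
    rw [← pow_succ'] at h9
    exact orderOf_eq_one_iff.1 ((h2.coprime_two_right.pow_right _).eq_one_of_dvd h9)

end Cfsg.Agent.S3861
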