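import Cfsg.Statements.S3863
import Cfsg.Agent.Lib.Grp.L0Misc
import Cfsg.Agent.Lib.Grp.H1Basic

set_option autoImplicit false
open Cfsg

namespace Cfsg.Agent.S3863

open CA.L0Misc Subgroup CA.H6Basic CA.H1Basic

/-- Let x be an element of the finite group G that is conjugate to its inverse. Then some 2-element conjugates x to its inverse; if the conjugacy class of x has odd size then x ^ 2 = 1; and x lies in, and is conjugate to its inverse inside, every normal subgroup of odd index. -/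
theorem result {G : Type*} [Group G] [Finite G] (x : G) (hx : IsConj x x⁻¹) : (∃ t : G, (∃ j : ℕ, orderOf t = 2 ^ j) ∧ t * x * t⁻¹ = x⁻¹) ∧ (Odd (Subgroup.centralizer ({x} : Set G)).index → x ^ 2 = 1) ∧ ∀ (N : Subgroup G) [N.Normal], Odd N.index → ∃ hxN : x ∈ N, IsConj (⟨x, hxN⟩ : N) (⟨x, hxN⟩ : N)⁻¹ := by
  obtain ⟨t, ⟨j, hj⟩, ht⟩ := exists_two_inv hx
  refine ⟨⟨t, ⟨j, hj⟩, ht⟩, fun ho => ?_, fun N _ ho => ?_⟩
  · set C := centralizer ({x} : Set G)
    have h1 : t ∈ normalizer (C : Set G) := mem_normalizer_of_conj_mem fun c hc => by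
      rw [mem_centralizer_singleton_iff] at hc ⊢
      have h2 : t * x⁻¹ * t⁻¹ = x := by rw [← conj_inv, ht, inv_inv]
      have h3 : c * x⁻¹ = x⁻¹ * c := (Commute.inv_right (a := c) hc).eq
      calc _ = t * c * t⁻¹ * (t * x⁻¹ * t⁻¹) := by rw [h2]
        _ = t * (c * x⁻¹) * t⁻¹ := by group
        _ = t * x⁻¹ * t⁻¹ * (t * c * t⁻¹) := by rw [h3]; group
        _ = _ := by rw [h2]
    have h2 : (⟨t, h1⟩ : normalizer (C : Set G)) ∈ C.subgroupOf (normalizer (C : Set G)) :=
      le_normal_of_coprime_index (K := zpowers _) (by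
        rw [Nat.card_zpowers, ← orderOf_coe, hj]
        exact Nat.Coprime.pow_left _ (Nat.coprime_two_left.2
          (ho.of_dvd_nat (relIndex_dvd_index_of_le le_normalizer)))) (mem_zpowers _)
    have h3 : t * x = x * t := mem_centralizer_singleton_iff.1 h2
    rw [h3, mul_inv_cancel_right] at ht
    rw [sq, mul_eq_one_iff_eq_inv, ← ht]
  · have h1 : t ∈ N := le_normal_of_coprime_index (K := zpowers t) (by
      rw [Nat.card_zpowers, hj]; exact Nat.Coprime.pow_left _ (Nat.coprime_two_left.2 ho)) (mem_zpowers t)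
    have h2 : x ^ 2 ∈ N := by
      have : x ^ 2 = x * t * x⁻¹ * t⁻¹ := by
        calc _ = x * (t * x * t⁻¹)⁻¹ := by rw [ht, inv_inv, sq]
          _ = _ := by group
      rw [this]
      exact mul_mem (Normal.conj_mem ‹_› _ h1 x) (inv_mem h1)
    obtain ⟨k, hk⟩ := ho
    have h3 := N.pow_index_mem x
    rw [hk, pow_succ, pow_mul] at h3
    exact ⟨(mul_mem_cancel_left (pow_mem h2 k)).1 h3, isConj_iff.2 ⟨⟨t, h1⟩, Subtype.ext ht⟩⟩

end Cfsg.Agent.S3863
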