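import Cfsg.Statements.S3976
import Cfsg.Agent.Lib.Grp.L0Frob
import Cfsg.Agent.Lib.Grp.PGBasic
import Cfsg.Agent.Lib.Grp.H1Basic
import Mathlib.Combinatorics.Enumerative.DoubleCounting

set_option autoImplicit false
open Cfsg

namespace Cfsg.Agent.S3976

open Subgroup

theorem cnt_p {G : Type*} [Group G] [Finite G] {p : ℕ} (hp : p.Prime) (K : Subgroup G) (hK : p ∣ Nat.card K) :
    (Nat.card {Z : Subgroup G // Z ≤ K ∧ Nat.card Z = p} : ZMod p) = 1 := by
  classical
  haveI := Fact.mk hp
  haveI := Fintype.ofFinite G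
  haveI := Fintype.ofFinite (Subgroup G)
  have h1 := CA.L0Frob.dvd_card_pow_eq_one (G := K) hK
  set S : Finset G := Finset.univ.filter fun x => x ∈ K ∧ x ^ p = 1 with hS
  set T : Finset (Subgroup G) := Finset.univ.filter fun Z => Z ≤ K ∧ Nat.card Z = p with hT
  have e0 : Nat.card {Z : Subgroup G // Z ≤ K ∧ Nat.card Z = p} = T.card := by
    rw [Nat.card_eq_fintype_card, Fintype.card_subtype]
  have e1 : Nat.card {x : K // x ^ p = 1} = S.card := by
    rw [← Fintype.card_subtype, ← Nat.card_eq_fintype_card]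
    exact Nat.card_congr ⟨fun x => ⟨x.1.1, x.1.2, congrArg Subtype.val x.2⟩,
      fun x => ⟨⟨x.1, x.2.1⟩, Subtype.ext x.2.2⟩, fun _ => rfl, fun _ => rfl⟩
  have h1S : (1 : G) ∈ S := by simp [hS]
  have e2 : (S.erase 1).card = T.card * (p - 1) := by
    rw [Finset.card_eq_sum_card_fiberwise (f := fun x => zpowers x) (t := T)]
    · refine Finset.sum_const_nat fun Z hZ => ?_
      have hZ' := (Finset.mem_filter.1 hZ).2
      have : (S.erase 1).filter (fun x => zpowers x = Z) = (Finset.univ.filter (· ∈ Z)).erase 1 := by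
        ext x
        simp only [Finset.mem_filter, Finset.mem_erase, hS, Finset.mem_univ, true_and]
        constructor
        · rintro ⟨⟨a, -⟩, rfl⟩; exact ⟨a, mem_zpowers x⟩
        · rintro ⟨a, b⟩
          have hx : x ^ p = 1 := by
            have := pow_card_eq_one' (x := (⟨x, b⟩ : Z)); rw [hZ'.2] at this; exact congrArg Subtype.val this
          refine ⟨⟨a, hZ'.1 b, hx⟩, eq_of_le_of_card_ge (zpowers_le.2 b) ?_⟩
          rw [Nat.card_zpowers, orderOf_eq_prime hx a, hZ'.2]
      rw [this, Finset.card_erase_of_mem (by simp), ← Fintype.card_subtype, ← Nat.card_eq_fintype_card]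
      exact congrArg (· - 1) hZ'.2
    · intro x hx
      simp only [Finset.coe_erase, hS, Finset.coe_filter, Set.mem_diff, Set.mem_setOf_eq, Set.mem_singleton_iff] at hx
      simp only [hT, Finset.coe_filter, Set.mem_setOf_eq]
      exact ⟨Finset.mem_univ _, zpowers_le.2 hx.1.2.1, by rw [Nat.card_zpowers, orderOf_eq_prime hx.1.2.2 hx.2]⟩
  rw [e1, ← Finset.card_erase_add_one h1S, e2, ← ZMod.natCast_eq_zero_iff] at h1
  rw [e0]
  push_cast [Nat.cast_sub hp.one_le] at h1
  rw [ZMod.natCast_self] at h1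
  linear_combination -h1

theorem main {p : ℕ} (hp : p.Prime) (s : ℕ) : ∀ {G : Type*} [Group G] [Finite G] (m : ℕ), Nat.card G = p ^ m → s ≤ m →
    (Nat.card {H : Subgroup G // H.Normal ∧ Nat.card H = p ^ s} : ZMod p) = 1 := by
  classical
  haveI := Fact.mk hp
  induction s with
  | zero =>
    intro G _ _ m _ _
    have : Nat.card {H : Subgroup G // H.Normal ∧ Nat.card H = p ^ 0} = 1 := by
      rw [Nat.card_eq_one_iff_exists]
      exact ⟨⟨⊥, inferInstance, by simp⟩, fun H => Subtype.ext (card_eq_one.1 (by simpa using H.2.2))⟩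
    rw [this, Nat.cast_one]
  | succ s ih =>
    intro G _ _ m hG hs
    haveI := Fintype.ofFinite (Subgroup G)
    have hP : IsPGroup p G := IsPGroup.of_card hG
    haveI := hP.isNilpotent
    set A : Finset (Subgroup G) := Finset.univ.filter fun H => H.Normal ∧ Nat.card H = p ^ (s + 1) with hA
    set B : Finset (Subgroup G) := Finset.univ.filter fun Z => Z ≤ center G ∧ Nat.card Z = p with hB
    have dvd : ∀ K : Subgroup G, K ≠ ⊥ → p ∣ Nat.card K := fun K hK =>
      (hP.to_subgroup K).card_eq_or_dvd.resolve_left fun h => hK (card_eq_one.1 h)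
    have e := congrArg (Nat.cast : ℕ → ZMod p) (Finset.sum_card_bipartiteAbove_eq_sum_card_bipartiteBelow
      (s := A) (t := B) (fun H Z => Z ≤ H))
    push_cast at e
    rw [Finset.sum_congr (s₁ := A) rfl (g := fun _ => 1), Finset.sum_congr (s₁ := B) rfl (g := fun _ => 1)] at e
    · simp only [Finset.sum_const, nsmul_eq_mul, mul_one] at e
      rw [Nat.card_eq_fintype_card, Fintype.card_subtype, e, ← Fintype.card_subtype, ← Nat.card_eq_fintype_card]
      refine cnt_p hp _ (dvd _ ?_)
      have : (⊤ : Subgroup G) ≠ ⊥ := fun h => by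
        have h2 := card_eq_one.2 h
        rw [card_top, hG] at h2
        exact hp.one_lt.ne' ((pow_eq_one_iff_of_nonneg (Nat.zero_le _) (by omega)).1 h2)
      simpa using CA.PGBasic.inf_center_ne_bot this
    · intro Z hZ
      obtain ⟨hZ1, hZ2⟩ := (Finset.mem_filter.1 hZ).2
      haveI : Z.Normal := ⟨fun n hn g => by rw [mem_center_iff.1 (hZ1 hn) g, mul_inv_cancel_right]; exact hn⟩
      have hq : Nat.card (G ⧸ Z) = p ^ (m - 1) := by
        have := card_eq_card_quotient_mul_card_subgroup Z
        rw [hG, hZ2, show m = m - 1 + 1 by omega, pow_succ] at this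
        exact (Nat.eq_of_mul_eq_mul_right hp.pos this).symm
      rw [← ih (m - 1) hq (by omega), Finset.bipartiteBelow, hA, Finset.filter_filter, ← Fintype.card_subtype,
        ← Nat.card_eq_fintype_card]
      congr 1
      refine Nat.card_congr ⟨fun H => ⟨H.1.map (QuotientGroup.mk' Z), H.2.1.1.map _ (QuotientGroup.mk'_surjective Z), ?_⟩,
        fun H => ⟨H.1.comap (QuotientGroup.mk' Z), ⟨H.2.1.comap _, ?_⟩, ?_⟩, fun H => Subtype.ext ?_, fun H => Subtype.ext ?_⟩
      · have := CA.H1Basic.card_comap_mk Z (H.1.map (QuotientGroup.mk' Z))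
        rw [comap_map_eq_self (by simpa using H.2.2), H.2.1.2, hZ2] at this
        exact (Nat.eq_of_mul_eq_mul_right hp.pos ((pow_succ p s).symm.trans this)).symm
      · rw [CA.H1Basic.card_comap_mk, H.2.2, hZ2, pow_succ]
      · intro x hx; simp [(QuotientGroup.eq_one_iff x).2 hx]
      · exact comap_map_eq_self (by simpa using H.2.2)
      · exact map_comap_eq_self_of_surjective (QuotientGroup.mk'_surjective Z) _
    · intro H hH
      obtain ⟨hH1, hH2⟩ := (Finset.mem_filter.1 hH).2
      have hb : H ≠ ⊥ := fun h => by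
        rw [card_eq_one.2 h] at hH2
        exact hp.one_lt.ne' ((pow_eq_one_iff_of_nonneg (Nat.zero_le _) (by omega)).1 hH2.symm)
      rw [← cnt_p hp _ (dvd _ (CA.PGBasic.inf_center_ne_bot hb)), Finset.bipartiteAbove, hB, Finset.filter_filter,
        ← Fintype.card_subtype, ← Nat.card_eq_fintype_card]
      congr 1
      exact Nat.card_congr (Equiv.subtypeEquivRight fun Z => by rw [le_inf_iff]; tauto)

/-- Let `p` be a prime and `G` a group of order `p ^ m`. For every `s ≤ m` the number of normal subgroups of `G` of order `p ^ s` is congruent to `1` modulo `p`. -/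
theorem result {G : Type*} [Group G] [Finite G] (p m s : ℕ) (hp : p.Prime) (hG : Nat.card G = p ^ m) (hs : s ≤ m) : Nat.card {H : Subgroup G // H.Normal ∧ Nat.card H = p ^ s} ≡ 1 [MOD p] := by
  rw [← ZMod.natCast_eq_natCast_iff, main hp s m hG hs, Nat.cast_one]

end Cfsg.Agent.S3976
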