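import Cfsg.Statements.S3975
import Cfsg.Agent.S3976
import Cfsg.Agent.Lib.Odd.BGMisc

set_option autoImplicit false
open Cfsg

namespace Cfsg.Agent.S3975

open CA.BG CA.OQuo Subgroup Pointwise

/-- Let `p` be a prime and `G` a finite group whose order is divisible by `p ^ β`. Then the number of subgroups of `G` of order `p ^ β` is congruent to `1` modulo `p`. (When `p ^ β` is the full power of `p` dividing the order, these are the Sylow `p`-subgroups and this is the usual Sylow count.) -/
theorem result {G : Type*} [Group G] [Finite G] (p β : ℕ) (hp : p.Prime) (hdiv : p ^ β ∣ Nat.card G) : Nat.card {H : Subgroup G // Nat.card H = p ^ β} ≡ 1 [MOD p] := by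
  haveI := Fact.mk hp
  obtain ⟨P⟩ := (inferInstance : Nonempty (Sylow p G))
  have hP := syl_top hp P
  let X : SubMulAction (ConjAct G) (Subgroup G) :=
    { carrier := {H | Nat.card H = p ^ β}
      smul_mem' := fun c H hH => (Nat.card_congr (equivSMul c H).toEquiv).symm.trans hH }
  let Q : Subgroup (ConjAct G) := (P : Subgroup G).map ConjAct.toConjAct.toMonoidHom
  have hQ : IsPGroup p Q := P.isPGroup'.map _
  refine (hQ.card_modEq_card_fixedPoints X).trans ?_
  have hc := P.card_eq_multiplicity
  have hβ : β ≤ (Nat.card G).factorization p := (hp.pow_dvd_iff_le_factorization Nat.card_pos.ne').1 hdiv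
  refine Eq.trans (congrArg (· % p) ?_) (S3976.result p _ β hp hc hβ)
  have fx : ∀ H : X, H ∈ MulAction.fixedPoints Q X ↔ (P : Subgroup G) ≤ 𝓝(H.1) := fun H => by
    constructor
    · intro h x hx
      exact conjAct_pointwise_smul_iff.1 (congrArg Subtype.val (h ⟨_, x, hx, rfl⟩))
    · rintro h ⟨_, x, hx, rfl⟩
      exact Subtype.ext (conjAct_pointwise_smul_iff.2 (h hx))
  have le : ∀ H : MulAction.fixedPoints Q X, H.1.1 ≤ P := fun H =>
    hP.le_of_norm' (isPi_of_card_eq_pow hp H.1.2) le_top ((fx _).1 H.2)
  refine Nat.card_congr ⟨fun H => ⟨H.1.1.subgroupOf P, (normal_subgroupOf_iff_le_normalizer (le H)).2 ((fx _).1 H.2),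
    (Nat.card_congr (subgroupOfEquivOfLe (le H)).toEquiv).trans H.1.2⟩, fun H => ⟨⟨H.1.map (P : Subgroup G).subtype, ?_⟩,
    (fx _).2 ?_⟩, fun H => Subtype.ext (Subtype.ext (map_subgroupOf_eq_of_le (le H))), fun H => Subtype.ext ?_⟩
  · exact (card_map_of_injective (subtype_injective _)).trans H.2.2
  · refine (normal_subgroupOf_iff_le_normalizer (map_subtype_le _)).1 ?_
    rw [subgroupOf, comap_map_eq_self_of_injective (subtype_injective _)]
    exact H.2.1
  · exact comap_map_eq_self_of_injective (subtype_injective _) _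

end Cfsg.Agent.S3975
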