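import Cfsg.Statements.S3779
import Cfsg.Agent.Lib.Grp.KK2
import Cfsg.Agent.S0032
import Cfsg.Agent.S0033

set_option autoImplicit false
open Cfsg

namespace Cfsg.Agent.S3779

open CA.KK in
/-- Let G be a finite group with an automorphism of prime order p fixing only the identity. Then G is nilpotent; if p = 2 then G is abelian, if p = 3 then G has class at most 2, and in general the class of G is at most ξ = 1 + (p−1) + (p−1)² + ⋯ + (p−1)^(n−1) with n = 2^(p−1) − 1 (the Higman–Kreknin–Kostrikin bound). -/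
theorem result {G : Type*} [Group G] [Finite G] {p : ℕ} (hp : p.Prime) (α : MulAut G) (hα : orderOf α = p) (hfpf : ∀ g : G, α g = g → g = 1) : (p = 2 → (⊤ : Subgroup G).lowerCentralSeries 1 = ⊥) ∧ (p = 3 → (⊤ : Subgroup G).lowerCentralSeries 2 = ⊥) ∧ (⊤ : Subgroup G).lowerCentralSeries (Finset.sum (Finset.range (2 ^ (p - 1) - 1)) (fun i => (p - 1) ^ i)) = ⊥ := by
  haveI := Cfsg.Agent.S0033.result α hfpf p hp hα
  haveI := Fact.mk hp
  have h1 : (Nat.card G).Coprime p := by
    have h2 : IsPGroup p (Subgroup.zpowers α) := .of_card (n := 1) (by rw [Nat.card_zpowers, hα, pow_one])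
    have h3 := h2.card_modEq_card_fixedPoints G
    rw [show MulAction.fixedPoints (Subgroup.zpowers α) G = {1} from Set.eq_singleton_iff_unique_mem.2
      ⟨fun a => map_one a.1, fun g hg => hfpf g (hg ⟨α, Subgroup.mem_zpowers α⟩)⟩, Nat.card_unique (α := ({1} : Set G))] at h3
    rw [Nat.Coprime, h3.gcd_eq, Nat.gcd_one_left]
  have key : ∀ c, KB p c → gm G c = ⊥ := fun c hc => eq_bot_of_le_comm fun g hg => by
    have h2 := grp_bound hp α (hα ▸ pow_orderOf_eq_one α) (N := 1) (fun i g _ h3 => by
      rw [pow_one]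
      exact Cfsg.Agent.S0032.result α hfpf (gm G (i + 1))
        (fun n hn => Subgroup.characteristic_iff_le_comap.1 inferInstance α hn) g
        (by simpa using inv_mem h3)) hc g hg
    obtain ⟨m, hm⟩ := exists_pow_eq_self_of_coprime (x := g) (n := 1 * p ^ c)
      (by rw [one_mul]; exact ((h1.coprime_dvd_left (orderOf_dvd_natCard g)).pow_right c).symm)
    exact hm ▸ pow_mem h2 m
  refine ⟨?_, ?_, key _ (kb_hkk hp)⟩
  · rintro rfl; exact key _ (kb_hkk hp)
  · rintro rfl; exact key _ kb_three

end Cfsg.Agent.S3779
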