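import Cfsg.Statements.S0112
import Cfsg.Agent.Lib.Grp.H7Max

set_option autoImplicit false
open Cfsg

namespace Cfsg.Agent.S0112

open Subgroup CA.BG CA.BG4 CA.OQuo CA.H7Max

/-- A p-group with a self-centralizing subgroup of order p^2 is of maximal class. -/
theorem result {X : Type*} [Group X] [Finite X] {p : ℕ} [Fact p.Prime] (n : ℕ) (hX : Nat.card X = p ^ n) (A : Subgroup X) (hA : Nat.card A = p ^ 2) (hC : Subgroup.centralizer (A : Set X) = A) : Group.nilpotencyClass X = n - 1 := by
  have hp : p.Prime := Fact.out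
  have h1 : 2 ≤ n := (Nat.pow_dvd_pow_iff_le_right hp.one_lt).1 (hA ▸ hX ▸ A.card_subgroup_dvd_card)
  obtain ⟨n, rfl⟩ : ∃ k, n = k + 2 := ⟨n - 2, by omega⟩
  refine (class_iff hp hX).2 ?_
  rcases n with _ | n
  · intro e
    have : Nat.card (⊤ : Subgroup X) = 1 := by rw [show (⊤ : Subgroup X) = ⊥ from e, card_bot]
    rw [card_top, hX] at this
    exact (Nat.one_lt_pow (by omega) hp.one_lt).ne' this
  · exact lcs_ne_bot_of_selfcent hp (by rw [card_top, hX]) le_top hA (inf_le_right.trans hC.le)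

end Cfsg.Agent.S0112
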