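import Cfsg.Statements.S2761
import Cfsg.Agent.Lib.Loc.H6Qd

set_option autoImplicit false
open Cfsg

set_option linter.unusedVariables false
set_option linter.unusedSimpArgs false
set_option linter.style.haveILetI false

namespace Cfsg.Agent.S2761

open CA CA.H6Qd CA.H6Stab CA.H6Op CA.Amb CA.AmbSyl CA.AmbCore CA.AmbRes CA.AmbChar CA.SL2Unip Subgroup
open scoped MatrixGroups

/-- The group Qd(2), the natural semidirect product of an elementary abelian group of order 4 by SL₂(2) (realised as the affine subgroup of SL₃(2)), is isomorphic to the symmetric group of degree 4. -/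
theorem result : Nonempty (↥(Cfsg.qd 2) ≃* Equiv.Perm (Fin 4)) := by
  have h1 : Nat.card (Fin 2 → ZMod 2) = 4 := by simp
  have h2 : Function.Bijective (act (F := ZMod 2)) :=
    act_injective.bijective_of_nat_card_le (by
      rw [card_qd, Nat.card_perm, h1, Nat.card_zmod]; decide)
  exact ⟨(MulEquiv.ofBijective _ h2).trans (Equiv.permCongrHom (Finite.equivFinOfCardEq h1))⟩

end Cfsg.Agent.S2761
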