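import Cfsg.Statements.S0824
import Cfsg.Agent.Lib.Lin.FieldIso
import Cfsg.Agent.Lib.Lin.SnOrth
import Cfsg.Agent.S0288

set_option autoImplicit false
open Cfsg

namespace Cfsg.Agent.S0824

/-- O⁻_4(2) ≅ S_5: the isometry group of the form x y + z_1² + z_1 z_2 + z_2² over the field with 2 elements is isomorphic to the symmetric group on 5 letters. -/
theorem result {F : Type*} [Field F] [Fintype F] (hF : Fintype.card F = 2) : Nonempty (↥(Cfsg.isometryGroup F (Cfsg.quadFormMinus 1 F 1 1)) ≃* Equiv.Perm (Fin 5)) := by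
  obtain ⟨e⟩ := CA.FieldIso.nonempty_zmod (F := F) 2 (by rw [Nat.card_eq_fintype_card, hF])
  obtain ⟨f, hf⟩ := CA.SnOrth.exists_inj (α := Fin 5) (by simp) (by rfl)
    (CA.CForm.minusForm 1 (1 : ZMod 2) 1) 4
    ![Sum.elim (Sum.elim ![0] ![0]) ![0, 1], Sum.elim (Sum.elim ![0] ![0]) ![1, 0],
      Sum.elim (Sum.elim ![0] ![1]) ![1, 1], Sum.elim (Sum.elim ![1] ![0]) ![1, 1], 0]
    (by simp only [CA.CForm.minusForm_Q, quadFormMinus]; decide +kernel)
    (by simp only [CA.CForm.Form.orth_B_eq, CA.CForm.minusForm_Q, quadFormMinus]; decide +kernel)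
  obtain ⟨g⟩ := CA.SnPres.nonempty_equiv_of_injective f hf (by
    have := Cfsg.Agent.S0288.result (ZMod.card 2) 2 (by norm_num) 1 1 (by decide)
    rw [CA.CForm.minusForm_Q, this, Nat.card_perm, Nat.card_fin]; decide)
  exact ⟨(CA.FieldIso.isomEquiv e _ _ (by
    simpa [CA.CForm.minusForm_Q] using CA.FieldIso.quadFormMinus_map e 1 1 1)).trans g.symm⟩

end Cfsg.Agent.S0824
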