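import Cfsg.Statements.S0223
import Cfsg.Agent.Lib.Grp.H13Inv

set_option autoImplicit false
open Cfsg

namespace Cfsg.Agent.S0223

/-- Let H be a proper subgroup of even order of the finite group G. Then H is strongly embedded if and only if (i) C_G(t) ≤ H for every involution t of H and (ii) H controls fusion of its involutions: involutions of H conjugate in G are conjugate in H. -/
theorem result {G : Type*} [Group G] [Finite G] (H : Subgroup G) (hH : H ≠ ⊤) (heven : Even (Nat.card H)) : Cfsg.IsStronglyEmbedded H ↔ ((∀ t ∈ H, orderOf t = 2 → Subgroup.centralizer ({t} : Set G) ≤ H) ∧ (∀ t ∈ H, ∀ s ∈ H, orderOf t = 2 → orderOf s = 2 → IsConj t s → ∃ h ∈ H, h * t * h⁻¹ = s)) := by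
  constructor
  · rintro ⟨-, -, hodd⟩
    have key : ∀ g : G, ∀ t ∈ H, orderOf t = 2 → g * t * g⁻¹ ∈ H → g ∈ H := by
      intro g t htH ht hgt
      by_contra hg
      refine (CA.H13Inv.odd_card_iff.mp (hodd g hg)) (g * t * g⁻¹) ⟨hgt, ⟨t, htH, rfl⟩⟩ ?_
      rw [CA.H13Inv.orderOf_conj, ht]
    refine ⟨fun t htH ht g hg => key g t htH ht ?_, fun t htH s hsH ht _ hc => ?_⟩
    · have h := (Subgroup.mem_centralizer_singleton_iff.mp hg)
      rw [h, mul_assoc, mul_inv_cancel, mul_one]; exact htH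
    · obtain ⟨g, rfl⟩ := isConj_iff.mp hc
      exact ⟨g, key g t htH ht hsH, rfl⟩
  · rintro ⟨h1, h2⟩
    refine ⟨hH, heven, fun g hg => CA.H13Inv.odd_card_iff.mpr ?_⟩
    rintro s ⟨hsH, t, htH, rfl⟩ hs
    have hs' : orderOf (g * t * g⁻¹) = 2 := hs
    have ht : orderOf t = 2 := by rwa [CA.H13Inv.orderOf_conj] at hs'
    obtain ⟨h, hh, he⟩ := h2 t htH (g * t * g⁻¹) hsH ht hs' (isConj_iff.mpr ⟨g, rfl⟩)
    have hmem : h⁻¹ * g ∈ H := by
      apply h1 t htH ht
      rw [Subgroup.mem_centralizer_singleton_iff]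
      calc h⁻¹ * g * t = h⁻¹ * (g * t * g⁻¹) * g := by group
        _ = t * (h⁻¹ * g) := by rw [← he]; group
    exact hg (by simpa using H.mul_mem hh hmem)

end Cfsg.Agent.S0223
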