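import Cfsg.Statements.S1623
import Cfsg.Agent.Lib.Spor.H28J2s
import Cfsg.Agent.Lib.Spor.CGLin2
import Cfsg.Agent.Lib.Grp.H7Lge
import Cfsg.Agent.Lib.Fus.FusAb
-- import your own Cfsg.Agent.* helpers here

set_option autoImplicit false
open Quaternion
open Cfsg

namespace Cfsg.Agent.S1623

open CA.NatBits CA.OrbBfs CA.CGroup CA.CGParts CA.CGCert CA.CGConstr CA.H28CG CA.CGIso CA.H28Ico CA.H7Lge MulAction Spor
open Subgroup
open scoped Pointwise

theorem ex_of {D : Type*} [Group D] [Finite D] {G : CG D} (hi : ∀ {c d : ℕ} {x : D}, G.R c x → G.R d x → c = d)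
    {l : List ℕ} (hl : G.Ok l) {c N : ℕ} {z : D} (hz : G.R c z) (hN : 2 < N)
    (h : (!(Nat.beq c G.one) && Nat.beq (G.mul c c) G.one && orb G.mul l G.one fun t n => Nat.beq n N && t.mem c &&
      t.all fun x _ => Nat.beq (G.mul x c) (G.mul c x) && (force (G.mul x x) fun y => Nat.beq y G.one || Nat.beq y c) &&
        (Nat.beq x G.one || Nat.beq x c || anyL l fun a => !(Nat.beq (G.mul a x) (G.mul x a)))) = true) :
    Nat.card (G.gen l) = N ∧ IsExtraspecial 2 (G.gen l) := by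
  simp only [Bool.and_eq_true, beq_iff] at h
  obtain ⟨⟨h1, h2⟩, h3⟩ := h
  obtain ⟨t, n, h4, h5, h6, h7⟩ := elts_spec hi hl h3
  simp only [Bool.and_eq_true, beq_iff] at h4
  obtain ⟨⟨rfl, h8⟩, h9⟩ := h4
  have h10 : z * z = 1 := G.R_fun (G.R_mul hz hz) (h2 ▸ G.R_one)
  have k := fun g hg => h7 _ h9 g hg
  simp only [Bool.and_eq_true, beq_iff, force_eq, Bool.or_eq_true, anyL_iff, Bool.not_eq_true'] at k
  have e : ∀ {x g}, G.R x g → x = G.one ∨ x = c → g ∈ zpowers z := fun r h =>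
    (mem_two h10).2 (h.elim (fun h => .inl (G.R_fun r (h ▸ G.R_one))) fun h => .inr (G.R_fun r (h ▸ hz)))
  have hc : ∀ g ∈ G.gen l ⊓ centralizer (G.gen l : Set D), g ∈ zpowers z := fun g hg => by
    obtain ⟨x, -, r, -, h | ⟨a, ha, h⟩⟩ := k g hg.1
    · exact e r h
    · obtain ⟨b, hb, r'⟩ := hl.in_gen a ha
      rw [hi (G.R_mul r' r) (hg.2 b hb ▸ G.R_mul r r'), Nat.beq_refl] at h
      cases h
  refine ⟨h5, EX.extra (z := z) ⟨⟨(h6 _ _ hz).2 h8, fun h => ?_, h10, fun g hg => ?_, fun g hg => ?_, fun g hg _ => hc g hg⟩,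
    hc, fun h => ?_⟩⟩
  · rw [hi hz (h ▸ G.R_one), Nat.beq_refl] at h1; cases h1
  · obtain ⟨x, -, r, ⟨h, -⟩, -⟩ := k g hg
    exact mem_centralizer_singleton_iff.2 (G.R_fun (G.R_mul r hz) (h ▸ G.R_mul hz r))
  · obtain ⟨x, -, r, ⟨-, h⟩, -⟩ := k g hg
    exact e (G.R_mul r r) h
  · have := card_le_of_le (show G.gen l ≤ zpowers z from fun g hg => hc g ⟨hg, fun b hb =>
      congrArg Subtype.val (h.is_comm.comm ⟨b, hb⟩ ⟨g, hg⟩)⟩)
    rw [h5, Nat.card_zpowers] at this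
    exact absurd (this.trans (orderOf_le_of_pow_eq_one two_pos (by rw [sq, h10]))) (by omega)

def lH : List ℕ := [0x7ec4ac744059ae657ea80a7744426922c184c303857c9cca58ae0dc346aa90d9251bd43ed701e3ab54ceb75a3286c86682064e85c0900b9c224184f95887d972b04ba8378d2b791090a1cf5057a36b1a45e2cb3b9786606, 0xa41da598ef492148220c04eadb5d345148b034dfbe4409e58c416d4955119269618dd09cbc8baa83ceaebc0e2bb1c1106139209953f4615f865e519515880930c1bcd66d6bb94730b0d8d831dc9ee2adb62b4f2c1430025]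
def lQ : List ℕ := [0xc0490965698a5c16ea4d6ae4c1a33f344bd2e9da9ba129c1182f0798bd6ed5486c529c771d90149619b4a441b957208eac8a1469a9cfe5be0d330e2a63ae8032a114f882982d6c214afbf5640c0f8d52085028843cbacc6, 0xb12d0b6a51c02c537aa16af82638a715912493959e10d205b7e51ab18235301b45f15d770c286302afca1eaa795a2b9e5c66bc39a4ee9044923b0d03e6631d06a2abe6e4d81cc6961099a6c5842359cbd916480c44091ad, 0xc7450e07119d2c3c762d877583b53e1b110893a04865287cc297accf000d6cd38dd7a6af752df7cdaa34472d2307aba0dc0220ca84ef1cb16637085a76ed3f22694973058ac72624dd0922d10c1c2892aab4900484095c3, 0x9f2d0989319d2c36747a476dc8cda7017922d3834210d228e28fc0e37866eb5395b126aeb44ab6cf91caa946c15540a0dcb2c81a84e01013a56f0d03e363de0e6858ac11185a6294f0570a6a8c985c83d44cdc8490bafc3]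
def cs : List ℕ := [0x8000000800410004001014, 0x2108800000800100280000000, 0x100040000001108000201010, 0x804000011400080200004, 0x2000044000010018204000000]

theorem main {z : Equiv.Perm (Fin 100)} (hz : pG.R t2 z) : ∃ φ : ↥(KJ ⊓ stabilizer _ (toCj z)) →* alternatingGroup (Fin 5),
    Function.Surjective φ ∧ Nat.card φ.ker = 32 ∧ IsExtraspecial 2 φ.ker := by
  have s : Sg pG lH (KJ ⊓ stabilizer _ (toCj z)) 1920 :=
    sg0.step (A := pCj) pPt hz 315 [[2, 0, 0, 2, 1, 2, 1, 1, 1, 3], [1, 3, 3, 3, 0, 2, 2, 2, 0, 2]] [(0, [[1, 2, 1, 2, 1, 3, 1], [0, 2, 0, 3, 0, 2, 0, 3]]), (1, [])] (pts_ok (by decide)) rfl (by decide +kernel)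
  have hQ : pG.In lQ _ := in_of_words s.in [[0, 2, 0, 0, 2, 0], [3, 1, 1, 3, 1, 1], [3, 0, 2, 0, 3, 1], [1, 1, 3, 1, 1, 3]] (by decide +kernel)
  obtain ⟨h1, h2⟩ := ex_of R_inj hQ.ok hz (N := 32) (by norm_num) (by decide +kernel)
  obtain ⟨φ, h3, h4⟩ := perm_range pSub (n := 5) cs rfl (fun c hc => ⟨_, (by decide +kernel : ∀ c ∈ cs, c < 2 ^ 100) c hc, rfl⟩) s.1 s.2.1
    [(0x8000000800410004001014, [[0, 2], [2, 2, 1, 2]]), (0x2108800000800100280000000, [[0, 0, 3], [1, 3]]), (0x100040000001108000201010, [])] 60 (by decide +kernel)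
  have h5 : (pG.gen lQ).subgroupOf _ ≤ φ.ker := fun g hg => (h4 g).2 fun c hc y hy =>
    (hQ.ok.in_gen.inf (CAct.in_stabilizer hQ.ok hy (allL_iff.1 (by decide +kernel :
      allL cs (fun c => allL lQ fun a => Nat.beq (pSub.act a c) c) = true) c hc))).gen_le hg |>.2
  have h6 := card_le_of_le h5
  have h7 := card_ker_mul φ
  rw [card_subgroupOf hQ.gen_le, h1] at h6
  rw [s.2.2] at h7
  have h8 : Nat.card φ.ker = 32 := by nlinarith
  have h9 : φ.range = alternatingGroup (Fin 5) := Equiv.Perm.eq_alternatingGroup_of_index_eq_two (by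
    have := φ.range.index_mul_card
    rw [Nat.card_perm, Nat.card_fin, show Nat.card φ.range = 60 by rw [h8] at h7; omega] at this
    norm_num [Nat.factorial] at this
    omega)
  refine ⟨φ.codRestrict _ fun g => h9 ▸ ⟨g, rfl⟩, fun ⟨a, ha⟩ => ?_, ?_⟩
  · obtain ⟨g, rfl⟩ : a ∈ φ.range := h9 ▸ ha
    exact ⟨g, rfl⟩
  · rw [MonoidHom.ker_codRestrict]
    exact ⟨h8, eq_of_le_of_card_ge h5 (by rw [h8, card_subgroupOf hQ.gen_le, h1]) ▸
      CA.Fus.extra_equiv (subgroupOfEquivOfLe hQ.gen_le).symm h2⟩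

/-- A reflection centraliser in the Hall–Janko group is an extension of an extraspecial group of order 32 by the alternating group of degree 5. -/
theorem result (f : Equiv.Perm ↥Cfsg.Spor.icoLeech) (hf : Cfsg.Spor.IsIcoReflection f) (hfm : f ∈ Cfsg.Spor.twoJ2) : ∃ (Q : Subgroup ↥(Subgroup.centralizer {(QuotientGroup.mk ⟨f, hfm⟩ : Cfsg.Spor.J2)})) (_ : Q.Normal), Nat.card Q = 32 ∧ Cfsg.IsExtraspecial 2 Q ∧ Nonempty (↥(Subgroup.centralizer {(QuotientGroup.mk ⟨f, hfm⟩ : Cfsg.Spor.J2)}) ⧸ Q ≃* alternatingGroup (Fin 5)) := by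
  obtain ⟨j, hj, rfl⟩ := isRefl_iff'.1 hf
  obtain ⟨g, hg⟩ := ρ_conj ⟨j, hj⟩
  obtain ⟨φ, h1, h2, h3⟩ := main psi_t2
  let e0 := isoJ.trans (MulAut.conj (psi g)⁻¹)
  have h4 : e0 (QuotientGroup.mk ⟨_, hfm⟩) = psi (ρ ⟨213, by norm_num⟩) := by
    change (psi g)⁻¹ * psi (ρ ⟨j, hj⟩) * (psi g)⁻¹⁻¹ = _
    rw [← hg, map_mul, map_mul, map_inv]; group
  have h5 : (centralizer {(QuotientGroup.mk ⟨_, hfm⟩ : J2)}).map (e0 : J2 →* KJ) =
      centralizer {psi (ρ ⟨213, by norm_num⟩)} := by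
    rw [← h4]
    ext y
    obtain ⟨x, rfl⟩ := e0.surjective y
    rw [mem_centralizer_singleton_iff, ← map_mul, ← map_mul, e0.apply_eq_iff_eq, ← mem_centralizer_singleton_iff]
    exact mem_map_iff_mem (f := (e0 : J2 →* KJ)) e0.injective
  have e := ((e0.subgroupMap _).trans (MulEquiv.subgroupCongr h5)).trans (CA.CGLin2.cent_sub _).some
  have e' : (φ.comp e.toMonoidHom).ker ≃* φ.ker := (e.subgroupMap _).trans (MulEquiv.subgroupCongr (by
    rw [← MonoidHom.comap_ker]; exact map_comap_eq_self_of_surjective e.surjective _))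
  exact ⟨_, inferInstance, (Nat.card_congr e'.toEquiv).trans h2, CA.Fus.extra_equiv e'.symm h3,
    quot_of_surj _ (h1.comp e.surjective)⟩

end Cfsg.Agent.S1623
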