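import Cfsg.Statements.S2241
import Cfsg.Agent.Lib.Lie.SzGroup

set_option autoImplicit false
open Cfsg

namespace Cfsg.Agent.S2241

/-- Real 2-elements of the Suzuki group: with q = 2^(2m+1), m ≥ 1, and the group realised as the stabiliser in SL₄ of the Suzuki–Tits ovoid, a non-identity element of a Sylow 2-subgroup is conjugate to its inverse if and only if it is an involution; in particular no element of order 4 is conjugate to its inverse. -/
theorem result {F : Type*} [Field F] [Fintype F] {m : ℕ} (hm : 1 ≤ m) (hF : Fintype.card F = 2 ^ (2 * m + 1)) (P : Sylow 2 ↥(Cfsg.Sz F m)) (g : ↥(Cfsg.Sz F m)) (hg : g ∈ (P : Subgroup ↥(Cfsg.Sz F m))) (h1 : g ≠ 1) :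
    IsConj g g⁻¹ ↔ orderOf g = 2 := by
  have : CA.SzBasic.Hyp F m := ⟨hm, hF⟩
  open CA.SzBasic CA.SzGroup in
  constructor
  · intro h
    obtain ⟨k, hk⟩ := MulAction.exists_smul_eq (G F) P sylU
    have h2 : k * g * k⁻¹ ∈ U F := by
      rw [← coe_sylU, ← hk]
      exact Subgroup.smul_mem_pointwise_smul g (MulAut.conj k) _ hg
    obtain ⟨c, hc⟩ := isConj_iff.1 h
    have h3 : (k * c * k⁻¹) * (k * g * k⁻¹) * (k * c * k⁻¹)⁻¹ = (k * g * k⁻¹)⁻¹ := by
      calc _ = k * (c * g * c⁻¹) * k⁻¹ := by group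
        _ = _ := by rw [hc]; group
    have h4 : k * g * k⁻¹ ≠ 1 := fun e => h1 (by rwa [mul_inv_eq_one, mul_eq_left] at e)
    have h5 := split.fix_of_conj_mem h2 h4 (h3 ▸ inv_mem h2)
    obtain ⟨a, b, μ, e⟩ := exists_eq_T_mul_D h5
    obtain ⟨x, y, e'⟩ := h2
    have h6 : (k * g * k⁻¹) * (k * g * k⁻¹) = 1 := by
      rw [e, e', show T a b * D μ * T x y * (T a b * D μ)⁻¹ = T a b * (D μ * T x y * (D μ)⁻¹) * (T a b)⁻¹ by group,
        D_conj_T, T_inv, T_inv, T_mul, T_mul, T_inj] at h3
      rw [e', T_sq, T_eq_one]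
      by_cases hx : x = 0
      · simp [hx]
      have h7 : th F μ = 1 := mul_right_cancel₀ hx (by grind)
      have h8 : (μ : F) = 1 := eq_one_of_th_eq_one h7
      have h9 := h3.2
      rw [h7, h8] at h9
      simp only [map_add, one_mul, one_pow] at h9
      exfalso
      obtain ⟨z, rfl⟩ : ∃ z, a = z * x := ⟨a / x, by field_simp⟩
      have h10 : th F x * x ≠ 0 := fun e => hx (mul_th_eq_zero e)
      have h11 : th F z = z + 1 := mul_right_cancel₀ h10 (by rw [map_mul] at h9; grind)
      have h12 := congrArg (th F) h11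
      rw [th_th, map_add, map_one, h11] at h12
      have h13 : z * (z + 1) = 0 := by grind
      rcases mul_eq_zero.1 h13 with h | h
      · simp [h] at h11
      · have : z = 1 := by grind
        rw [this, map_one] at h11
        grind
    have : Fact (Nat.Prime 2) := ⟨Nat.prime_two⟩
    apply orderOf_eq_prime _ h1
    rw [pow_two]
    calc g * g = k⁻¹ * ((k * g * k⁻¹) * (k * g * k⁻¹)) * k := by group
      _ = 1 := by rw [h6]; group
  · intro h
    have := pow_orderOf_eq_one g
    rw [h, pow_two] at this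
    rw [CA.RankOne.inv_eq_of_sq this]

end Cfsg.Agent.S2241
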