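import Cfsg.Statements.S2283
import Cfsg.Agent.Lib.Lin.H12Ru6

set_option autoImplicit false
open Cfsg

namespace Cfsg.Agent.S2283

open CA.CForm CA.CForm.Form CA.H12Ru


/-- Let F be a field with q² elements, q ≥ 3, and SU_3(q) the special unitary group of the standard Hermitian form. Then SU_3(q) is generated by two conjugate regular unipotent elements: there are u ∈ SU_3(q) with u − 1 nilpotent and (u − 1)² ≠ 0, and g ∈ SU_3(q), such that u and g u g⁻¹ generate SU_3(q). -/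
theorem result {F : Type*} [Field F] [Fintype F] (q : ℕ) (hq : 3 ≤ q) (hF : Fintype.card F = q ^ 2) :
    ∃ u g : ↥(Cfsg.SU 3 F q), (IsNilpotent (((u : Matrix.SpecialLinearGroup (Fin 3) F) : Matrix (Fin 3) (Fin 3) F) - 1) ∧ (((u : Matrix.SpecialLinearGroup (Fin 3) F) : Matrix (Fin 3) (Fin 3) F) - 1) ^ (3 - 1) ≠ 0) ∧
      Subgroup.closure ({u, g * u * g⁻¹} : Set ↥(Cfsg.SU 3 F q)) = ⊤ := by
  have hf := hermStd_nondeg hF 3
  obtain ⟨u, h1, h2, g, hg, H⟩ := u3_all hF hq hf (by simp)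
  obtain ⟨h3, h4⟩ := mat_nil (suEquiv_symm_mulVec hF 3 ⟨u, det_eq_one h1⟩) h1 h2
  refine ⟨(suEquiv hF 3).symm ⟨u, det_eq_one h1⟩, (suEquiv hF 3).symm ⟨g, hg⟩, ⟨h3, h4⟩,
    closure_top (suEquiv hF 3) fun X hX => herm_Eich_eq hF hf (by simp) ▸ H X ?_ ?_⟩
  · simpa using hX _ (Or.inl rfl)
  · simpa using hX _ (Or.inr rfl)

end Cfsg.Agent.S2283
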