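import Cfsg.Statements.S2412
import Cfsg.Agent.Lib.Lin.Gen5
import Cfsg.Agent.S2283
import Cfsg.Agent.S0303

set_option autoImplicit false
open Cfsg

namespace Cfsg.Agent.S2412

open CA.Gen2 CA.CForm CA.CForm.Form

/-- The projective special unitary group `PSU_n(q)` with `n ≥ 3`, realised over the field with `q²` elements, `(n, q) ≠ (3, 2)`, is generated by two of its elements. -/
theorem result {F : Type*} [Field F] [Fintype F] {q : ℕ} (hq : IsPrimePow q) (hF : Fintype.card F = q ^ 2) (n : ℕ) (hn : 3 ≤ n) (h32 : n = 3 → q ≠ 2) :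
    ∃ a b : Cfsg.PSU n F q, Subgroup.closure ({a, b} : Set (Cfsg.PSU n F q)) = ⊤ := by
  obtain rfl | h4 := hn.eq_or_lt
  · obtain ⟨u, g, -, h⟩ := Cfsg.Agent.S2283.result q (by have := h32 rfl; have := hq.two_le; omega) hF
    exact TG.map ⟨_, _, h⟩ (QuotientGroup.mk' _) (QuotientGroup.mk'_surjective _)
  obtain rfl | h5 := (Nat.succ_le_of_lt h4).eq_or_lt
  · obtain ⟨p, k, hp, hk, rfl⟩ := (isPrimePow_nat_iff q).1 hq
    have := Fact.mk hp
    have := Fintype.ofFinite (GaloisField p k)
    obtain ⟨a, b, hab⟩ := exists_aniso (F := GaloisField p k)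
    obtain ⟨e⟩ := Cfsg.Agent.S0303.result (Nat.card_eq_fintype_card.symm.trans (GaloisField.card p k hk.ne')) hF a b hab
    exact (tg_minus 0 hab).map e.toMonoidHom e.surjective
  exact (g2_herm hF (hermStd_nondeg hF n) (by simp; omega)).tg
    (herm_Eich_eq hF (hermStd_nondeg hF n) (by simp; omega)) (suEquiv hF n)

end Cfsg.Agent.S2412
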