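import Cfsg.Statements.S0281
import Cfsg.Agent.Lib.Lin.QuadExt
import Cfsg.Agent.Lib.Lin.SLnCard
import Cfsg.Agent.S0278

set_option autoImplicit false
open Cfsg

namespace Cfsg.Agent.S0281

open CA.CForm CA.CForm.Form CA.QuadExt Matrix QuadraticAlgebra

theorem aux {K L : Type*} [Field K] [Field L] [StarRing L] (i : K →+* L) (hi : ∀ x, star (i x) = i x) {q : ℕ}
    (hq : ∀ z : L, z ^ q = star z) {P : Matrix (Fin 2) (Fin 2) L} (hP : P.det ≠ 0) {d : L}
    (h : Pᴴ * P = !![0, -d; d, 0]) : ∃ φ : SpecialLinearGroup (Fin 2) K →* SU 2 L q, Function.Injective φ := by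
  have h1 := mul_nonsing_inv P hP.isUnit
  have h2 := nonsing_inv_mul P hP.isUnit
  have h3 : ∀ g : SpecialLinearGroup (Fin 2) K, (g.1.map i)ᴴ * (Pᴴ * P) * g.1.map i = Pᴴ * P := fun g => by
    have := congrArg i ((det_fin_two _).symm.trans g.2)
    simp only [map_sub, map_mul, map_one] at this
    rw [h]; ext a b
    fin_cases a <;> fin_cases b <;> simp [Matrix.mul_apply, hi] <;>
      first | ring1 | linear_combination d * this | linear_combination -d * this
  refine ⟨MonoidHom.mk' (fun g => ⟨⟨P * g.1.map i * P⁻¹, by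
    rw [det_mul, det_mul, mul_right_comm, ← det_mul, h1, ← RingHom.mapMatrix_apply, ← RingHom.map_det, g.2]; simp⟩,
    (mem_SU_iff hq).2 ?_⟩) fun g g' => Subtype.ext (Subtype.ext ?_), (injective_iff_map_eq_one _).2 fun g hg => ?_⟩
  · calc _ = P⁻¹ᴴ * ((g.1.map i)ᴴ * (Pᴴ * P) * g.1.map i) * P⁻¹ := by simp [Matrix.mul_assoc]
      _ = 1 := by rw [h3, ← Matrix.mul_assoc, ← conjTranspose_mul, Matrix.mul_assoc, h1]; simp
  · change P * (g.1 * g'.1).map i * P⁻¹ = P * g.1.map i * P⁻¹ * (P * g'.1.map i * P⁻¹)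
    simp only [Matrix.map_mul, Matrix.mul_assoc, ← Matrix.mul_assoc P⁻¹ P, h2, Matrix.one_mul]
  · have : P⁻¹ * (P * g.1.map i * P⁻¹) * P = P⁻¹ * 1 * P := congrArg (fun x => P⁻¹ * x.1.1 * P) hg
    simp only [Matrix.mul_assoc, ← Matrix.mul_assoc P⁻¹ P, h2, Matrix.one_mul, Matrix.mul_one] at this
    exact Subtype.ext (Matrix.map_injective i.injective (this.trans (by simp)))

/-- SU_2(q) is isomorphic to SL_2(q). -/
theorem result {F K : Type*} [Field F] [Fintype F] [Field K] [Fintype K] {q : ℕ} (hF : Fintype.card F = q ^ 2) (hK : Fintype.card K = q) : Nonempty (Cfsg.SU 2 F q ≃* Matrix.SpecialLinearGroup (Fin 2) K) := by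
  subst hK
  obtain ⟨a, b, hab⟩ := exists_aniso (F := K)
  have := fact hab
  obtain ⟨i⟩ := nonempty_equiv (a := -b) (b := a) hF
  have h1 : (normForm a b).Nondeg := (binForm_nondeg (disc_ne_zero_of_anisotropic hab)).comap_equiv _
  obtain ⟨c, hc⟩ := h1.exists_Q_eq (finrank_eq_two _ _).ge (-1)
  have h2 := algebraMap_norm_eq_mul_star c
  rw [← normForm_Q, hc, map_neg, map_one] at h2
  obtain ⟨φ, hφ⟩ := aux (algebraMap K (QuadraticAlgebra K (-b) a)) (fun x => by ext <;> simp) pow_eq_star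
    (P := !![1, star ω; c, c * ω]) (d := ω - star ω) (by
      rw [det_fin_two_of, one_mul, mul_comm _ c, ← mul_sub]
      exact mul_ne_zero (fun h => by simp [h] at h2) omega_ne) (by
      ext1 i j
      fin_cases i <;> fin_cases j <;> simp [Matrix.mul_apply, -star_mk] <;>
        first | linear_combination -h2 | linear_combination -ω * h2 | linear_combination -star ω * h2 |
          linear_combination -ω * star ω * h2)
  refine ⟨(CA.FieldIso.suEquiv i.symm 2 _).trans (MulEquiv.ofBijective φ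
    ((Nat.bijective_iff_injective_and_card _).2 ⟨hφ, ?_⟩)).symm⟩
  refine Nat.eq_of_mul_eq_mul_left (Nat.succ_pos (Fintype.card K)) ?_
  rw [S0278.result (card_eq _ _) 2 (by omega), CA.SLnCard.card_SL2]
  simp [Finset.prod_range_succ]; ring

end Cfsg.Agent.S0281
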