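import Cfsg.Agent.Lib.Grp.SchurLow
import Cfsg.Agent.Lib.Spor.H22Link
import Cfsg.Agent.S0280
-- Template for statement S2090 (row 2090; see /opt/grader/pristine/manifest.json for weights).
-- Copy to Cfsg/Agent/S2090.lean and replace the sorry. The statement below is byte-identical to the frozen
-- statement Cfsg.CfsgFrozen.S2090 (Cfsg/Statements/S2090.lean; the theorem Cfsg.kfact_multiplier_psu_four_three);
-- the grader kernel-checks Cfsg.Agent.S2090.result against that frozen type. Keep the theorem IN THIS FILE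
-- (a `result` declared elsewhere and merely imported here is not credited); helpers may live anywhere
-- under Cfsg/Agent/.
import Cfsg.Statements.S2090
-- import your own Cfsg.Agent.* helpers here

set_option autoImplicit false
open Cfsg

set_option autoImplicit false
set_option maxRecDepth 100000

namespace Cfsg.Agent.S2090
open Cfsg CA.SchurHopf CA.SchurPc CA.SchurCG CA.SchurLow CA.CWord CA.CNet CA.CLevel CA.CSimple CA.CPoint CA.CTodd CA.CLow
universe u
noncomputable section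
def t0 : Net := [(nat_lit 0x1010100415101054050454144045040550541045444151445101144010501554514110, nat_lit 1),
  (nat_lit 0x2310133123300002231110113313213301312200122010122131320221313201030200, nat_lit 2),
  (nat_lit 0x1090e05070300030f0d060b0a0a06090d03050a0e0301010009050c020b0c0e080d00, nat_lit 4),
  (nat_lit 0x620026006c006e00a5003f00d50088000700ec00420061002d00a900b700790038, nat_lit 8),
  (nat_lit 0xee00008e2100000ec0000078c20000999d0000c6900000cdda0000d10700002438, nat_lit 16),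
  (nat_lit 0x8978c7dc000000009fda826700000000ce21480500000000f5d054c9, nat_lit 32),
  (nat_lit 0x5879801fae4f30c400000000000000007252d4040971bc92, nat_lit 64),
  (nat_lit 0xf6078681b8db08e58bd8412e16539a92, nat_lit 128),
  (nat_lit 0xfe96db, nat_lit 256),
  (nat_lit 0x529088, nat_lit 128),
  (nat_lit 0x2150c38fa09a92a70000000000000000000000000020069a, nat_lit 64),
  (nat_lit 0xabffe5fc00000000e74f82440000000006606a0a00000000009200c9, nat_lit 32),
  (nat_lit 0x9a000084230000529b0000bbee00003b370000ea9100008840000080c200008000, nat_lit 16),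
  (nat_lit 0xe0009600ee004600a9003a00b100e300a300e8004600f00078002a007300f00028, nat_lit 8),
  (nat_lit 0x109070107020109020e010a0a050e050c00050e04090508090c000709040802020300, nat_lit 4),
  (nat_lit 0x2113031023310322230103033203220120321200120010120103211221302320320300, nat_lit 2),
  (nat_lit 0x1015400015100501040140000110440540101155550451005114145405110545004400, nat_lit 1)]
def t1 : Net := [(nat_lit 0x5001001505055414454500155110555150504101000444544040155154010055550014, nat_lit 1),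
  (nat_lit 0x2021303120002011000202230123110223133030223221000033021213120210003220, nat_lit 2),
  (nat_lit 0xb0005090f0b0a0b0c070b020a0f060e0400060b0d0701010e030a0e000b08070f0c00, nat_lit 4),
  (nat_lit 0x59009100d200da006800fb0077007f003b006600d8001f0032008100b400ae00cc, nat_lit 8),
  (nat_lit 0x3f0000e7d100006edc0000b5510000eace000025540000f2bd0000cf6a00009e70, nat_lit 16),
  (nat_lit 0x72505f24000000004b8efe0a00000000583f926e00000000bc5830bc, nat_lit 32),
  (nat_lit 0xde954c56230ac7d9000000000000000082af3903d18e04d8, nat_lit 64),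
  (nat_lit 0xd4dd0be7581f12e11dc2142ea66e109b, nat_lit 128),
  (nat_lit 0xdfffff, nat_lit 256),
  (nat_lit 0x8f9d87, nat_lit 128),
  (nat_lit 0x8006088892f005fc000000000000000000000000005aa400, nat_lit 64),
  (nat_lit 0xfe2001fe00000000e95d9ab6000000001ca8b5970000000000915214, nat_lit 32),
  (nat_lit 0x8200009302000044e60000152800000c8c0000ef8a0000166d000041420000e800, nat_lit 16),
  (nat_lit 0x800f6002300d400b900ba0055007000e3004900a9009500b90024000900e00010, nat_lit 8),
  (nat_lit 0x4000a05010b0c0e0c0101080204040b00040e0e06020202040a0c000a0a0a08090500, nat_lit 4),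
  (nat_lit 0x2102100023133131132231301100032310002213313011012000100010222133222020, nat_lit 2),
  (nat_lit 0x5505544510154554051414400005001011004155555000114104550454551010101500, nat_lit 1)]
def t2 : Net := [(nat_lit 0x4441414101450154515055504141155011111105001015454015014011000011441550, nat_lit 1),
  (nat_lit 0x1021112133330133333313000312023000031222000030331032200100311111102100, nat_lit 2),
  (nat_lit 0xe020b010e0d00090905040c05070a0a00090c050603040308090b040c0e060f060208, nat_lit 4),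
  (nat_lit 0xb6000300ae00e700c400ca0025002600d0004200fd0082006d007a00ca00870086, nat_lit 8),
  (nat_lit 0xcb000084850000e2e40000829c00000c8800006ce0000074ba0000b5b20000ad30, nat_lit 16),
  (nat_lit 0xdc53619200000000dca30ab30000000084ccc0b700000000848cfc27, nat_lit 32),
  (nat_lit 0xb66ed68b81b20f3000000000000000045eba6ea7c550eb1, nat_lit 64),
  (nat_lit 0xa1ce034f3f6811ed8d1079faca24d278, nat_lit 128),
  (nat_lit 0xfcbfbf, nat_lit 256),
  (nat_lit 0x43c2a, nat_lit 128),
  (nat_lit 0x281c688504440b900000000000000000000000000058803c, nat_lit 64),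
  (nat_lit 0x371f65fd00000000786c290200000000a3d6a28a0000000000a41685, nat_lit 32),
  (nat_lit 0x1e0000a9940000496c0000a5ae0000109e0000e1500000576c00008a0a00000100, nat_lit 16),
  (nat_lit 0x3a001100000013004a00ac002b0026009600e000f5002600a300f20080004700ce, nat_lit 8),
  (nat_lit 0x80a09020f0f070b0b070404060f080f010e0e0f060a0c030e0d0b0a0e0c050f060000, nat_lit 4),
  (nat_lit 0x123002032321310123313301332002100000022001030333033202000110010102000, nat_lit 2),
  (nat_lit 0x4401414101450154515055504141155011111105001015454015014011000001441550, nat_lit 1)]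
def t3 : Net := [(nat_lit 0x5010051154514514141401114554044400001144545404540545151105415100511050, nat_lit 1),
  (nat_lit 0x1313010321111001203322012332020220112123230110122033021100130303310020, nat_lit 2),
  (nat_lit 0xb03060c090a070b070c09090608090a080f0a08080e04040501030b040f0a03080600, nat_lit 4),
  (nat_lit 0x8a0051000d00e6008200cc009800d7001800bb00f8004100d10097005400f0001f, nat_lit 8),
  (nat_lit 0x450000c1ac0000cd60000066f7000036560000f7ee00002f050000916c00006661, nat_lit 16),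
  (nat_lit 0xc985e7b200000000eebc8e3900000000673ad13700000000c8cf5360, nat_lit 32),
  (nat_lit 0x72c349e5cf47f761000000000000000047e72ac49933f73d, nat_lit 64),
  (nat_lit 0x422521672fd23a9bf659b7b2156ae7d6, nat_lit 128),
  (nat_lit 0x4fff5b, nat_lit 256),
  (nat_lit 0x4ff242, nat_lit 128),
  (nat_lit 0x203486851a57ee4000000000000000000000000000072911, nat_lit 64),
  (nat_lit 0xc085f60100000000d18d1c0400000000f5a2531400000000004b8550, nat_lit 32),
  (nat_lit 0x40000c14400006a0800007b020000723a0000021f000083a0000041940000a600, nat_lit 16),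
  (nat_lit 0x970040001800db001300db0085008a004d00a600ed0014008d0002006000e50000, nat_lit 8),
  (nat_lit 0xb03060c090a050b0d08030b0408010a00070a0c0a0e000405090103040f0c0b000200, nat_lit 4),
  (nat_lit 0x1013010321111001203322012332020220112123230110122033021100130303310020, nat_lit 2),
  (nat_lit 0x5010051154514514141401114554044400001144545404540545151105415100511050, nat_lit 1)]
def C : Ctx := ⟨280, 9, [t0, t1, t2, t3]⟩
theorem hC : C.ok = true := by decide +kernel
noncomputable def lk : ℕ → ℕ → ℕ := look C 64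
theorem hlk : Good C lk := good_look hC (by decide +kernel)
abbrev gens : List Word := sg 4
def rels : List Word := [[0,0,0], [2,2,2,2], [0,2,0,2,0,2,0,3], [4,4], [0,4,1,4], [2,4,2,4,2,4,2,4], [2,2,4,2,2,4,2,2,4], [0,2,0,4,2,1,4,3,0,4,3,0,4,3,4,1,2,4], [6,6], [4,6,4,6,4,6], [0,2,2,6,4,2,2,6,4], [0,2,6,2,4,2,6,3,4,2,6,2,1,4,3], [0,2,4,2,0,3,6,2,6,3,1,2,6,3,6,4,2,4]]
namespace T3
noncomputable def A_0 : List (ℕ) := [nat_lit 0x2020120100a00]
noncomputable def A : List (List (ℕ)) := [A_0]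
noncomputable def K_0 : List (ℕ) := [nat_lit 0x4060000]
noncomputable def K : List (List (ℕ)) := [K_0]
noncomputable def R_0 : List (Rule) := [Rule.mk (nat_lit 1) (nat_lit 19) (Steps.bwd (nat_lit 1) (Steps.bwd (nat_lit 1) Steps.nil)) (nat_lit 0) (nat_lit 0)]
noncomputable def R : List (List (Rule)) := [R_0]
def LW : List Word := [[], [0], [1]]
def par : Par := ⟨9, 2, 11, 20, 511, 2047, 1048575⟩
theorem hpar : par.ok := by decide
theorem hR0_0 : lall (R) (fun l => lall l (ruleOK rels LW par)) = true := by decide +kernel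
theorem hR0 : lall (R) (fun l => lall l (ruleOK rels LW par)) = true := hR0_0
theorem hR : RulesOK rels LW par R := rulesOK_of rfl hR0
def cols : List (ℕ × ℕ) := [(512, 2)]
theorem hcols : lall cols (colOK rels LW par) = true := by decide +kernel
noncomputable def JS0 : List ℕ := [nat_lit 0x401]
theorem S0_c : blocks (facts 9 2 11 20 511 2047 1048575 9 511 1 1 A R 32) 32 JS0 257 = true := by decide +kernel
theorem S0 : On (Step.{u} rels LW par A) 257 289 :=
  steps_of_blocks hpar hR S0_c (by decide +kernel)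
theorem D0_c : allB (defOK 9 11 20 511 1048575 258 A K) 1 2 = true := by decide +kernel
theorem D0 : On (fun r => defOK par.W par.WL par.E par.mW par.mE 258 A K r = true) 256 384 :=
  On.of_allB D0_c
noncomputable def JW0 : List ℕ := [nat_lit 0x3e10042]
theorem W0_c : blocks (rows 9 2 11 20 511 2047 1048575 10 1023 10 A 289 3 cols 128) 128 JW0 0 = true := by decide +kernel
theorem W0 : On (Row.{u} rels LW par A 289 3 cols) 0 128 :=
  rows_of_blocks hpar (by decide) hcols W0_c (by decide +kernel)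
theorem idx : Idx.{u} rels [[0]] [] 3 :=
  idx_of_cert hpar hR (K := K) (by decide +kernel) (T := 258) (T' := 384) (by decide) D0
    (subs := []) (by decide +kernel) (T1 := 257) (by decide) (N := 289) S0
    (by decide) (n' := 128) (by decide) W0 (by decide +kernel) (by decide +kernel)
end T3
theorem b3 : Bound.{u} rels [[0]] 3 := .of_idx T3.idx (.nil _) (by decide)
namespace T2
noncomputable def A_0 : List (ℕ) := [nat_lit 0xe20e06b0703183c1e41e0820c052068250280901406809044030148140a0220501003c0581182c0a4220220700902006014004000e60c07b0683082c1a8120a80704c0182c82010c06112100810281c8180c40404203019008160080500001600]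
noncomputable def A : List (List (ℕ)) := [A_0]
noncomputable def K_0 : List (ℕ) := [nat_lit 0x2110787c421b0e85432170983416050481c060000]
noncomputable def K : List (List (ℕ)) := [K_0]
noncomputable def R_0 : List (Rule) := [Rule.mk (nat_lit 4) (nat_lit 31) (Steps.bwd (nat_lit 4) (Steps.bwd (nat_lit 4) (Steps.fwd (nat_lit 1536) Steps.nil))) (nat_lit 3) (nat_lit 0),
  Rule.mk (nat_lit 1) (nat_lit 22) (Steps.bwd (nat_lit 1) (Steps.bwd (nat_lit 1) Steps.nil)) (nat_lit 0) (nat_lit 0),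
  Rule.mk (nat_lit 3) (nat_lit 67) (Steps.bwd (nat_lit 1) (Steps.bwd (nat_lit 3) (Steps.bwd (nat_lit 1) (Steps.bwd (nat_lit 3) (Steps.bwd (nat_lit 1) (Steps.fwd (nat_lit 1536) (Steps.bwd (nat_lit 1) Steps.nil))))))) (nat_lit 4) (nat_lit 2),
  Rule.mk (nat_lit 4) (nat_lit 67) (Steps.bwd (nat_lit 1) (Steps.bwd (nat_lit 3) (Steps.bwd (nat_lit 1) (Steps.bwd (nat_lit 3) (Steps.bwd (nat_lit 1) (Steps.fwd (nat_lit 2048) (Steps.bwd (nat_lit 1) Steps.nil))))))) (nat_lit 4) (nat_lit 0),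
  Rule.mk (nat_lit 0) (nat_lit 76) (Steps.bwd (nat_lit 1) (Steps.fwd (nat_lit 2048) (Steps.bwd (nat_lit 1) (Steps.bwd (nat_lit 3) (Steps.bwd (nat_lit 1) (Steps.bwd (nat_lit 3) (Steps.bwd (nat_lit 1) (Steps.bwd (nat_lit 4) Steps.nil)))))))) (nat_lit 4) (nat_lit 0),
  Rule.mk (nat_lit 0) (nat_lit 40) (Steps.bwd (nat_lit 1) (Steps.fwd (nat_lit 0) (Steps.fwd (nat_lit 512) (Steps.fwd (nat_lit 0) Steps.nil)))) (nat_lit 26) (nat_lit 0),
  Rule.mk (nat_lit 1) (nat_lit 22) (Steps.bwd (nat_lit 0) (Steps.fwd (nat_lit 512) Steps.nil)) (nat_lit 26) (nat_lit 0),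
  Rule.mk (nat_lit 4) (nat_lit 67) (Steps.bwd (nat_lit 1) (Steps.fwd (nat_lit 2048) (Steps.bwd (nat_lit 1) (Steps.fwd (nat_lit 2048) (Steps.bwd (nat_lit 1) (Steps.bwd (nat_lit 3) (Steps.bwd (nat_lit 1) Steps.nil))))))) (nat_lit 4) (nat_lit 0),
  Rule.mk (nat_lit 4) (nat_lit 31) (Steps.bwd (nat_lit 4) (Steps.fwd (nat_lit 1536) (Steps.bwd (nat_lit 4) Steps.nil))) (nat_lit 3) (nat_lit 0),
  Rule.mk (nat_lit 2) (nat_lit 67) (Steps.bwd (nat_lit 4) (Steps.fwd (nat_lit 512) (Steps.fwd (nat_lit 2048) (Steps.fwd (nat_lit 512) (Steps.bwd (nat_lit 4) (Steps.fwd (nat_lit 512) (Steps.bwd (nat_lit 4) Steps.nil))))))) (nat_lit 5) (nat_lit 6),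
  Rule.mk (nat_lit 2) (nat_lit 22) (Steps.bwd (nat_lit 2) (Steps.bwd (nat_lit 2) Steps.nil)) (nat_lit 1) (nat_lit 0),
  Rule.mk (nat_lit 1) (nat_lit 67) (Steps.bwd (nat_lit 3) (Steps.fwd (nat_lit 1024) (Steps.fwd (nat_lit 2048) (Steps.bwd (nat_lit 1) (Steps.fwd (nat_lit 2048) (Steps.fwd (nat_lit 1024) (Steps.fwd (nat_lit 1536) Steps.nil))))))) (nat_lit 4) (nat_lit 1),
  Rule.mk (nat_lit 3) (nat_lit 67) (Steps.bwd (nat_lit 1) (Steps.bwd (nat_lit 3) (Steps.fwd (nat_lit 1024) (Steps.bwd (nat_lit 4) (Steps.bwd (nat_lit 1) (Steps.fwd (nat_lit 2048) (Steps.bwd (nat_lit 1) Steps.nil))))))) (nat_lit 4) (nat_lit 4),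
  Rule.mk (nat_lit 3) (nat_lit 31) (Steps.bwd (nat_lit 3) (Steps.bwd (nat_lit 3) (Steps.bwd (nat_lit 3) Steps.nil))) (nat_lit 2) (nat_lit 0),
  Rule.mk (nat_lit 1) (nat_lit 67) (Steps.bwd (nat_lit 3) (Steps.bwd (nat_lit 1) (Steps.fwd (nat_lit 1536) (Steps.bwd (nat_lit 1) (Steps.fwd (nat_lit 2048) (Steps.fwd (nat_lit 1024) (Steps.bwd (nat_lit 3) Steps.nil))))))) (nat_lit 4) (nat_lit 5)]
noncomputable def R : List (List (Rule)) := [R_0]
def LW : List Word := [[], [0], [1], [2], [3], [0], [1]]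
def par : Par := ⟨9, 3, 12, 21, 511, 4095, 2097151⟩
theorem hpar : par.ok := by decide
theorem hR0_0 : lall (R) (fun l => lall l (ruleOK rels LW par)) = true := by decide +kernel
theorem hR0 : lall (R) (fun l => lall l (ruleOK rels LW par)) = true := hR0_0
theorem hR : RulesOK rels LW par R := rulesOK_of rfl hR0
def cols : List (ℕ × ℕ) := [(512, 2), (1536, 4)]
theorem hcols : lall cols (colOK rels LW par) = true := by decide +kernel
noncomputable def JS0 : List ℕ := [nat_lit 0xb0603e0d0a84fc26000970040c1b0a8082400d0884c2a1c0180423815089000236010c06c061b0484680c0508080024109080100e08000602b0040038002200083014280e0680408050828082a050b04c1a0c4010540815090301660d0610381a40f071044200f1]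
theorem S0_c : blocks (facts 9 3 12 21 511 4095 2097151 9 511 4 15 A R 32) 32 JS0 273 = true := by decide +kernel
theorem S0 : On (Step.{u} rels LW par A) 273 305 :=
  steps_of_blocks hpar hR S0_c (by decide +kernel)
theorem D0_c : allB (defOK 9 12 21 511 2097151 273 A K) 1 2 = true := by decide +kernel
theorem D0 : On (fun r => defOK par.W par.WL par.E par.mW par.mE 273 A K r = true) 256 384 :=
  On.of_allB D0_c
noncomputable def JW0 : List ℕ := [nat_lit 0x78200701a11049108220d84612c25134270b44e0d43a0ac5617c2e0a43c1405a184580fc5c18840]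
theorem W0_c : blocks (rows 9 3 12 21 511 4095 2097151 10 1023 20 A 305 16 cols 64) 64 JW0 0 = true := by decide +kernel
theorem W0 : On (Row.{u} rels LW par A 305 16 cols) 0 64 :=
  rows_of_blocks hpar (by decide) hcols W0_c (by decide +kernel)
theorem idx : Idx.{u} rels [[0], [2]] [[0]] 16 :=
  idx_of_cert hpar hR (K := K) (by decide +kernel) (T := 273) (T' := 384) (by decide) D0
    (subs := [1]) (by decide +kernel) (T1 := 273) (by decide) (N := 305) S0
    (by decide) (n' := 64) (by decide) W0 (by decide +kernel) (by decide +kernel)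
end T2
theorem b2 : Bound.{u} rels [[0], [2]] 48 := .of_idx T2.idx b3 (by decide)
namespace T1
noncomputable def A_0 : List (ℕ) := [nat_lit 0x390340e80a0108140ca06012018024010018000020067aa21b8a9e609a0590683632b9dd04c963920d0664c73a3759289062a2ed0484b729399864c462232dcc8e3781b8ddc2ed768b39de6e2671a1da46bb69a2b59a88675abc5d88d47923a5e28de65aba9d24ea650a11c64e45f8a0580ae4721b650264b611a75d48df422b31986865692b97627d7112e9be2af5a8ad13a4604499491064f4e1af1686a03018d0ea68d46994d7c4915519b97a291689abd5e2e070a359c08da5d236d00a6d6d928d6e8774da2e56c2a452219d4687d3e8af13e8614f21917868a572230e063e369a954a66850a18d266a859a1d13065c6f12b1b229a6b2ab1ae6ab561369b48a74d2179504a954aae57287b680a2d16851492175228573c2974ba8316a0a552a2a72d18c14e8b23520e5286b04b096daa4a653125cd245b4ba96cb66336c0a6570a7a4ca9c96047a39210cf48455889cdba4ab5929cd56a793989e4f264525a89c98a282ba8b51ea543210d94446532991c6c6622a22391c855482954aa4613090d54046331a0f86a862310958b0631171958ac62d169860d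0a382788a9144874391449c829428998cc2501c2070a422b4612190c4532698a4cea371b9870a082b29a8ac5681628a8a8546163e2918f685f23a88ceea432511f8fea493f2920eca42222888de43e3891d082a213a2900dca3c1f28788023f1e0878862422108887a83f1f8884d623b1d89b0d885c1d08e47221d2f90d0bca321a2868b84312ca8bc62a191808bc902241990688a44623108c646492498bc5e2197c0bd5ee4147b2bd5ea2111398545061716106036a0e0c2830524160e283c2ca0b1218804062311984c4461f0f9884426121320783c8100e98404a81a0d20343260d0a2844228070a883c2e40c0720241880407882c166047a0bcde62060488202640a0928201020308101c1aa0405280c0ea020288100820203200c0680101180402a00,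
  nat_lit 0x5d1385708e15d2b81648e03e22e894880521a0100480531b6d6eadb4d936d6c4b7520add6ca9b51926cbe89b3b22d946aa432a28c8e67d3829f53ea9f4f8a7cc889f30a2793c29e572af0e02ae5099c0da26d1d99b542aa54c1295262a56b9285662a159aa4d302932c9a4dae2b36baa61526986cab79b44de6b0b652e6d64d0b59586d7379ab134ada682268d68a8682aa1244a854a1b1242a95c922da04b94ca34124a8b2c2248f08912221e0f04782e897528ad4538b50e26952d2a54d445a4a09686665a352a9d2846a1e21a96269458a259606966aaa58d22964b9354f86a634aa98786692da0c0728695c1a5d60ad85c0b61322b82f2264e44b03d11c8808722421e9baab13c8ac5644dd5592c8de8ab3ca120868732019cc9644b261130886572b915d4428f32923d44a642a1191146a21b2994a82360d98d8588544709890aa8e2b0a39402903192405a42d2aa0b06a455502985188a01aa98c368353329885c22e172960b02580c18b8a0a561da1a0d046845293c9c24f2892289ca871509390a84e26a214a02853318dc706661c08e118a52268948a648c26aa185624d33899c6e23725199c5485020a14c686512389f0f647c3da9148e47b3f99dc882773b11dc48a4a3f9128fc47f3b19f8884761ea9bcdc46f1fa9c4824713a1104dc6741f11b8422401e88f0442431d21087a6420f08f47463f2ca1ac72a6b3609ac3aa3b1d29b03a23a19a97cbc45f1a117860a5c2c9170624590c88c0922481910cc46445179918648460d10c82241f10087c3e0f50a10944c2251283d9ec4260a08984c0f77a9080222201003e0482497babe0222f87b13dc284f613889c2e6270a98a0502280ba8b03642c0c106c2aa290e10a42c41c0998904ca200918884aa1f0ea098328250a2044148140588541c4170610380a80e042030168080308180c0f40303cc1280f02983c0c2f409a8240620909104c1441202a8401a410,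
  nat_lit 0x6e233db86cf67933db84dc642b05822c1411b05902c8421b21868c65f9b198e2c6419319d66e874a3a18eae87393a1808c7621b1d92a8364939dbc8e756a32504ac5731315ca2c547a31586282621209c46e56aa39586ae565230dccac476a399e08ed772bc1de4f0690bc1b26ee6c23b99c2ee77abb5aa6ef6913bda4ace4e9b391e6d2699a419aad379134de22d3758b35d84cd5aa335e46eb760bade4aec6fa3b1e24f26ea3c5806cb420b2d944cb652ba5984e95fa3297eae361138d802bf408b01c88d8610b9184a81439b09d46d45a9b31982ea261a1176aad3812b5782bb6fab89c24e2700b7d3aab53a8ad53849d44aa2512289279a24a4688440a2138ab43012714469c3a92d15c6b43aa981166602099d5a228d48aa355448d552af96e6be3fa2f97a4be6892a9666aa68aaf56c8bd3f1af52a6d138a2bdc2aaf]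
noncomputable def A : List (List (ℕ)) := [A_0]
noncomputable def K_0 : List (ℕ) := [nat_lit 0x12f974b6590f87777b9e7f279bcbdeeff4bb5f2f7fa3d7d5ec7377bbce669f09f6dce8b4d8bd26972197f0f8b7f9dfbf8fc1d0edf67ddf4f8fcfdbe9f574febd6ebf0b81b0e76ef3d8adc6db97c6d4e0f0b88df6bf9fa3c17073fa0ca63f59b5da5eb5772d96c795c7dbe8713a8c6e472d92d566f3575be5db8761ce5a393c8b3d82cbd1f87b3a9baa95476757ab61b0199aa543894bc0e1e9baea752b5b40a164f1d6aaf592f37bb8dbee7c59ecf3313ac6656736ebedb2e977add8ab35cb4d9abf7ebfd4e6336aacce694fa35169948a1d268947a0cfe7d63aede2e13b9acca7137985b6d729ad5624d2a95c76352390c823d228fc7237259446631278a4922b178642e2d0988c4e11128841e1b0a8340e0b04814060000]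
noncomputable def K : List (List (ℕ)) := [K_0]
noncomputable def R_0 : List (Rule) := [Rule.mk (nat_lit 2) (nat_lit 38) (Steps.bwd (nat_lit 5) (Steps.bwd (nat_lit 1) (Steps.fwd (nat_lit 2560) Steps.nil))) (nat_lit 8) (nat_lit 3),
  Rule.mk (nat_lit 4) (nat_lit 38) (Steps.bwd (nat_lit 4) (Steps.bwd (nat_lit 4) (Steps.fwd (nat_lit 1536) Steps.nil))) (nat_lit 3) (nat_lit 0),
  Rule.mk (nat_lit 5) (nat_lit 88) (Steps.bwd (nat_lit 4) (Steps.bwd (nat_lit 4) (Steps.bwd (nat_lit 5) (Steps.fwd (nat_lit 1536) (Steps.fwd (nat_lit 1536) (Steps.fwd (nat_lit 2560) (Steps.fwd (nat_lit 1536) (Steps.bwd (nat_lit 4) Steps.nil)))))))) (nat_lit 13) (nat_lit 1),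
  Rule.mk (nat_lit 1) (nat_lit 28) (Steps.bwd (nat_lit 1) (Steps.bwd (nat_lit 1) Steps.nil)) (nat_lit 0) (nat_lit 0),
  Rule.mk (nat_lit 4) (nat_lit 78) (Steps.bwd (nat_lit 5) (Steps.bwd (nat_lit 4) (Steps.bwd (nat_lit 5) (Steps.fwd (nat_lit 1536) (Steps.fwd (nat_lit 2560) (Steps.fwd (nat_lit 1536) (Steps.fwd (nat_lit 2560) Steps.nil))))))) (nat_lit 11) (nat_lit 0),
  Rule.mk (nat_lit 2) (nat_lit 28) (Steps.bwd (nat_lit 2) (Steps.bwd (nat_lit 2) Steps.nil)) (nat_lit 1) (nat_lit 0),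
  Rule.mk (nat_lit 5) (nat_lit 38) (Steps.bwd (nat_lit 2) (Steps.bwd (nat_lit 5) (Steps.bwd (nat_lit 1) Steps.nil))) (nat_lit 8) (nat_lit 2),
  Rule.mk (nat_lit 5) (nat_lit 38) (Steps.bwd (nat_lit 1) (Steps.fwd (nat_lit 2560) (Steps.bwd (nat_lit 2) Steps.nil))) (nat_lit 8) (nat_lit 0),
  Rule.mk (nat_lit 3) (nat_lit 78) (Steps.bwd (nat_lit 1) (Steps.bwd (nat_lit 3) (Steps.bwd (nat_lit 1) (Steps.bwd (nat_lit 3) (Steps.fwd (nat_lit 1024) (Steps.fwd (nat_lit 1536) (Steps.bwd (nat_lit 1) Steps.nil))))))) (nat_lit 4) (nat_lit 2),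
  Rule.mk (nat_lit 4) (nat_lit 78) (Steps.bwd (nat_lit 1) (Steps.bwd (nat_lit 3) (Steps.bwd (nat_lit 1) (Steps.bwd (nat_lit 3) (Steps.fwd (nat_lit 1024) (Steps.fwd (nat_lit 2048) (Steps.bwd (nat_lit 1) Steps.nil))))))) (nat_lit 4) (nat_lit 0),
  Rule.mk (nat_lit 0) (nat_lit 88) (Steps.bwd (nat_lit 1) (Steps.fwd (nat_lit 2048) (Steps.bwd (nat_lit 1) (Steps.bwd (nat_lit 3) (Steps.bwd (nat_lit 1) (Steps.bwd (nat_lit 3) (Steps.bwd (nat_lit 1) (Steps.bwd (nat_lit 4) Steps.nil)))))))) (nat_lit 4) (nat_lit 0),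
  Rule.mk (nat_lit 0) (nat_lit 48) (Steps.bwd (nat_lit 1) (Steps.fwd (nat_lit 0) (Steps.fwd (nat_lit 512) (Steps.fwd (nat_lit 0) Steps.nil)))) (nat_lit 26) (nat_lit 0),
  Rule.mk (nat_lit 1) (nat_lit 28) (Steps.bwd (nat_lit 0) (Steps.fwd (nat_lit 512) Steps.nil)) (nat_lit 26) (nat_lit 0),
  Rule.mk (nat_lit 4) (nat_lit 78) (Steps.bwd (nat_lit 1) (Steps.fwd (nat_lit 2048) (Steps.bwd (nat_lit 1) (Steps.fwd (nat_lit 2048) (Steps.bwd (nat_lit 1) (Steps.bwd (nat_lit 3) (Steps.bwd (nat_lit 1) Steps.nil))))))) (nat_lit 4) (nat_lit 0),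
  Rule.mk (nat_lit 4) (nat_lit 38) (Steps.bwd (nat_lit 4) (Steps.fwd (nat_lit 1536) (Steps.bwd (nat_lit 4) Steps.nil))) (nat_lit 3) (nat_lit 0),
  Rule.mk (nat_lit 2) (nat_lit 78) (Steps.bwd (nat_lit 4) (Steps.fwd (nat_lit 512) (Steps.fwd (nat_lit 2048) (Steps.fwd (nat_lit 512) (Steps.bwd (nat_lit 4) (Steps.fwd (nat_lit 512) (Steps.bwd (nat_lit 4) Steps.nil))))))) (nat_lit 5) (nat_lit 6),
  Rule.mk (nat_lit 4) (nat_lit 78) (Steps.bwd (nat_lit 5) (Steps.bwd (nat_lit 4) (Steps.bwd (nat_lit 5) (Steps.bwd (nat_lit 4) (Steps.fwd (nat_lit 2560) (Steps.bwd (nat_lit 4) (Steps.fwd (nat_lit 2560) Steps.nil))))))) (nat_lit 11) (nat_lit 0),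
  Rule.mk (nat_lit 4) (nat_lit 38) (Steps.bwd (nat_lit 4) (Steps.bwd (nat_lit 4) (Steps.bwd (nat_lit 4) Steps.nil))) (nat_lit 3) (nat_lit 0),
  Rule.mk (nat_lit 5) (nat_lit 88) (Steps.bwd (nat_lit 3) (Steps.bwd (nat_lit 3) (Steps.bwd (nat_lit 5) (Steps.fwd (nat_lit 2048) (Steps.bwd (nat_lit 3) (Steps.fwd (nat_lit 2560) (Steps.fwd (nat_lit 2048) (Steps.fwd (nat_lit 2048) Steps.nil)))))))) (nat_lit 12) (nat_lit 0),
  Rule.mk (nat_lit 3) (nat_lit 38) (Steps.bwd (nat_lit 3) (Steps.bwd (nat_lit 3) (Steps.bwd (nat_lit 3) Steps.nil))) (nat_lit 2) (nat_lit 0),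
  Rule.mk (nat_lit 5) (nat_lit 88) (Steps.bwd (nat_lit 3) (Steps.bwd (nat_lit 3) (Steps.bwd (nat_lit 5) (Steps.fwd (nat_lit 2048) (Steps.fwd (nat_lit 2048) (Steps.bwd (nat_lit 5) (Steps.fwd (nat_lit 2048) (Steps.fwd (nat_lit 2048) Steps.nil)))))))) (nat_lit 12) (nat_lit 0),
  Rule.mk (nat_lit 2) (nat_lit 38) (Steps.bwd (nat_lit 5) (Steps.fwd (nat_lit 1024) (Steps.fwd (nat_lit 2560) Steps.nil))) (nat_lit 8) (nat_lit 3),
  Rule.mk (nat_lit 5) (nat_lit 38) (Steps.bwd (nat_lit 2) (Steps.bwd (nat_lit 5) (Steps.fwd (nat_lit 1024) Steps.nil))) (nat_lit 8) (nat_lit 2),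
  Rule.mk (nat_lit 1) (nat_lit 78) (Steps.bwd (nat_lit 3) (Steps.fwd (nat_lit 1024) (Steps.fwd (nat_lit 2048) (Steps.bwd (nat_lit 1) (Steps.fwd (nat_lit 2048) (Steps.fwd (nat_lit 1024) (Steps.fwd (nat_lit 1536) Steps.nil))))))) (nat_lit 4) (nat_lit 1),
  Rule.mk (nat_lit 3) (nat_lit 78) (Steps.bwd (nat_lit 1) (Steps.bwd (nat_lit 3) (Steps.fwd (nat_lit 1024) (Steps.bwd (nat_lit 4) (Steps.bwd (nat_lit 1) (Steps.fwd (nat_lit 2048) (Steps.bwd (nat_lit 1) Steps.nil))))))) (nat_lit 4) (nat_lit 4),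
  Rule.mk (nat_lit 1) (nat_lit 78) (Steps.bwd (nat_lit 3) (Steps.bwd (nat_lit 1) (Steps.fwd (nat_lit 1536) (Steps.bwd (nat_lit 1) (Steps.fwd (nat_lit 2048) (Steps.fwd (nat_lit 1024) (Steps.bwd (nat_lit 3) Steps.nil))))))) (nat_lit 4) (nat_lit 5),
  Rule.mk (nat_lit 1) (nat_lit 78) (Steps.bwd (nat_lit 3) (Steps.bwd (nat_lit 1) (Steps.bwd (nat_lit 3) (Steps.fwd (nat_lit 1024) (Steps.bwd (nat_lit 4) (Steps.fwd (nat_lit 1024) (Steps.bwd (nat_lit 3) Steps.nil))))))) (nat_lit 4) (nat_lit 3),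
  Rule.mk (nat_lit 0) (nat_lit 88) (Steps.fwd (nat_lit 512) (Steps.bwd (nat_lit 4) (Steps.bwd (nat_lit 2) (Steps.fwd (nat_lit 1536) (Steps.fwd (nat_lit 512) (Steps.fwd (nat_lit 1536) (Steps.fwd (nat_lit 512) (Steps.bwd (nat_lit 3) Steps.nil)))))))) (nat_lit 5) (nat_lit 1),
  Rule.mk (nat_lit 2) (nat_lit 28) (Steps.bwd (nat_lit 0) (Steps.bwd (nat_lit 1) Steps.nil)) (nat_lit 26) (nat_lit 0),
  Rule.mk (nat_lit 0) (nat_lit 38) (Steps.bwd (nat_lit 5) (Steps.fwd (nat_lit 0) (Steps.fwd (nat_lit 2560) Steps.nil))) (nat_lit 26) (nat_lit 0),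
  Rule.mk (nat_lit 1) (nat_lit 28) (Steps.bwd (nat_lit 0) (Steps.bwd (nat_lit 2) Steps.nil)) (nat_lit 26) (nat_lit 0),
  Rule.mk (nat_lit 2) (nat_lit 28) (Steps.bwd (nat_lit 0) (Steps.fwd (nat_lit 1024) Steps.nil)) (nat_lit 26) (nat_lit 0),
  Rule.mk (nat_lit 0) (nat_lit 88) (Steps.fwd (nat_lit 1024) (Steps.fwd (nat_lit 2048) (Steps.fwd (nat_lit 1024) (Steps.bwd (nat_lit 3) (Steps.bwd (nat_lit 1) (Steps.bwd (nat_lit 3) (Steps.bwd (nat_lit 1) (Steps.bwd (nat_lit 4) Steps.nil)))))))) (nat_lit 4) (nat_lit 0),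
  Rule.mk (nat_lit 0) (nat_lit 38) (Steps.fwd (nat_lit 2560) (Steps.fwd (nat_lit 0) (Steps.bwd (nat_lit 5) Steps.nil))) (nat_lit 26) (nat_lit 0),
  Rule.mk (nat_lit 2) (nat_lit 78) (Steps.bwd (nat_lit 3) (Steps.fwd (nat_lit 512) (Steps.fwd (nat_lit 1536) (Steps.bwd (nat_lit 2) (Steps.bwd (nat_lit 4) (Steps.bwd (nat_lit 2) (Steps.bwd (nat_lit 4) Steps.nil))))))) (nat_lit 5) (nat_lit 0),
  Rule.mk (nat_lit 4) (nat_lit 78) (Steps.bwd (nat_lit 2) (Steps.bwd (nat_lit 3) (Steps.bwd (nat_lit 2) (Steps.bwd (nat_lit 4) (Steps.bwd (nat_lit 2) (Steps.bwd (nat_lit 4) (Steps.bwd (nat_lit 2) Steps.nil))))))) (nat_lit 5) (nat_lit 7),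
  Rule.mk (nat_lit 3) (nat_lit 78) (Steps.bwd (nat_lit 2) (Steps.fwd (nat_lit 1536) (Steps.fwd (nat_lit 512) (Steps.bwd (nat_lit 4) (Steps.bwd (nat_lit 2) (Steps.fwd (nat_lit 1536) (Steps.fwd (nat_lit 512) Steps.nil))))))) (nat_lit 5) (nat_lit 1),
  Rule.mk (nat_lit 5) (nat_lit 178) (Steps.bwd (nat_lit 4) (Steps.fwd (nat_lit 2560) (Steps.fwd (nat_lit 512) (Steps.bwd (nat_lit 3) (Steps.bwd (nat_lit 5) (Steps.bwd (nat_lit 1) (Steps.bwd (nat_lit 3) (Steps.fwd (nat_lit 1024) (Steps.bwd (nat_lit 5) (Steps.bwd (nat_lit 3) (Steps.fwd (nat_lit 512) (Steps.fwd (nat_lit 2560) (Steps.fwd (nat_lit 1536) (Steps.bwd (nat_lit 1) (Steps.bwd (nat_lit 5) (Steps.fwd (nat_lit 1536) (Steps.bwd (nat_lit 1) Steps.nil))))))))))))))))) (nat_lit 14) (nat_lit 13),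
  Rule.mk (nat_lit 5) (nat_lit 38) (Steps.bwd (nat_lit 1) (Steps.fwd (nat_lit 2560) (Steps.fwd (nat_lit 512) Steps.nil))) (nat_lit 8) (nat_lit 0),
  Rule.mk (nat_lit 4) (nat_lit 178) (Steps.bwd (nat_lit 1) (Steps.fwd (nat_lit 2560) (Steps.bwd (nat_lit 3) (Steps.fwd (nat_lit 2560) (Steps.fwd (nat_lit 512) (Steps.bwd (nat_lit 3) (Steps.bwd (nat_lit 5) (Steps.fwd (nat_lit 512) (Steps.bwd (nat_lit 3) (Steps.fwd (nat_lit 2560) (Steps.fwd (nat_lit 1024) (Steps.fwd (nat_lit 1536) (Steps.fwd (nat_lit 2560) (Steps.bwd (nat_lit 2) (Steps.fwd (nat_lit 1536) (Steps.fwd (nat_lit 512) (Steps.fwd (nat_lit 2560) Steps.nil))))))))))))))))) (nat_lit 15) (nat_lit 2),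
  Rule.mk (nat_lit 3) (nat_lit 78) (Steps.bwd (nat_lit 1) (Steps.fwd (nat_lit 1536) (Steps.fwd (nat_lit 1024) (Steps.fwd (nat_lit 2048) (Steps.bwd (nat_lit 1) (Steps.fwd (nat_lit 2048) (Steps.bwd (nat_lit 1) Steps.nil))))))) (nat_lit 4) (nat_lit 6),
  Rule.mk (nat_lit 1) (nat_lit 78) (Steps.bwd (nat_lit 4) (Steps.bwd (nat_lit 1) (Steps.bwd (nat_lit 3) (Steps.fwd (nat_lit 1024) (Steps.fwd (nat_lit 2048) (Steps.fwd (nat_lit 1024) (Steps.fwd (nat_lit 2048) Steps.nil))))))) (nat_lit 4) (nat_lit 7),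
  Rule.mk (nat_lit 3) (nat_lit 78) (Steps.bwd (nat_lit 1) (Steps.fwd (nat_lit 1536) (Steps.fwd (nat_lit 1024) (Steps.fwd (nat_lit 2048) (Steps.fwd (nat_lit 1024) (Steps.fwd (nat_lit 2048) (Steps.bwd (nat_lit 1) Steps.nil))))))) (nat_lit 4) (nat_lit 6),
  Rule.mk (nat_lit 4) (nat_lit 78) (Steps.bwd (nat_lit 1) (Steps.bwd (nat_lit 3) (Steps.fwd (nat_lit 1024) (Steps.fwd (nat_lit 2048) (Steps.bwd (nat_lit 1) (Steps.fwd (nat_lit 2048) (Steps.bwd (nat_lit 1) Steps.nil))))))) (nat_lit 4) (nat_lit 0),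
  Rule.mk (nat_lit 3) (nat_lit 178) (Steps.bwd (nat_lit 5) (Steps.fwd (nat_lit 512) (Steps.bwd (nat_lit 3) (Steps.bwd (nat_lit 5) (Steps.bwd (nat_lit 1) (Steps.bwd (nat_lit 4) (Steps.bwd (nat_lit 5) (Steps.fwd (nat_lit 512) (Steps.fwd (nat_lit 1536) (Steps.fwd (nat_lit 512) (Steps.fwd (nat_lit 2560) (Steps.fwd (nat_lit 1536) (Steps.bwd (nat_lit 1) (Steps.bwd (nat_lit 5) (Steps.fwd (nat_lit 2048) (Steps.fwd (nat_lit 2560) (Steps.bwd (nat_lit 2) Steps.nil))))))))))))))))) (nat_lit 15) (nat_lit 8),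
  Rule.mk (nat_lit 3) (nat_lit 178) (Steps.bwd (nat_lit 5) (Steps.bwd (nat_lit 1) (Steps.bwd (nat_lit 3) (Steps.bwd (nat_lit 1) (Steps.fwd (nat_lit 2560) (Steps.fwd (nat_lit 2048) (Steps.fwd (nat_lit 512) (Steps.fwd (nat_lit 2560) (Steps.bwd (nat_lit 4) (Steps.bwd (nat_lit 1) (Steps.fwd (nat_lit 2560) (Steps.bwd (nat_lit 4) (Steps.bwd (nat_lit 1) (Steps.bwd (nat_lit 5) (Steps.fwd (nat_lit 1536) (Steps.fwd (nat_lit 2560) (Steps.bwd (nat_lit 2) Steps.nil))))))))))))))))) (nat_lit 14) (nat_lit 17),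
  Rule.mk (nat_lit 1) (nat_lit 38) (Steps.bwd (nat_lit 5) (Steps.fwd (nat_lit 512) (Steps.fwd (nat_lit 2560) Steps.nil))) (nat_lit 8) (nat_lit 1),
  Rule.mk (nat_lit 3) (nat_lit 178) (Steps.bwd (nat_lit 5) (Steps.fwd (nat_lit 512) (Steps.bwd (nat_lit 3) (Steps.fwd (nat_lit 2560) (Steps.fwd (nat_lit 512) (Steps.fwd (nat_lit 2048) (Steps.bwd (nat_lit 5) (Steps.bwd (nat_lit 1) (Steps.bwd (nat_lit 4) (Steps.fwd (nat_lit 2560) (Steps.fwd (nat_lit 512) (Steps.bwd (nat_lit 4) (Steps.fwd (nat_lit 512) (Steps.bwd (nat_lit 5) (Steps.fwd (nat_lit 1536) (Steps.bwd (nat_lit 1) (Steps.fwd (nat_lit 2560) Steps.nil))))))))))))))))) (nat_lit 15) (nat_lit 5),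
  Rule.mk (nat_lit 2) (nat_lit 178) (Steps.bwd (nat_lit 4) (Steps.bwd (nat_lit 2) (Steps.bwd (nat_lit 5) (Steps.bwd (nat_lit 4) (Steps.fwd (nat_lit 1024) (Steps.bwd (nat_lit 5) (Steps.bwd (nat_lit 3) (Steps.bwd (nat_lit 5) (Steps.fwd (nat_lit 512) (Steps.bwd (nat_lit 3) (Steps.fwd (nat_lit 2560) (Steps.bwd (nat_lit 2) (Steps.fwd (nat_lit 2048) (Steps.fwd (nat_lit 2560) (Steps.fwd (nat_lit 1024) (Steps.fwd (nat_lit 1536) (Steps.fwd (nat_lit 2560) Steps.nil))))))))))))))))) (nat_lit 15) (nat_lit 16),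
  Rule.mk (nat_lit 5) (nat_lit 38) (Steps.fwd (nat_lit 1024) (Steps.fwd (nat_lit 2560) (Steps.bwd (nat_lit 2) Steps.nil))) (nat_lit 8) (nat_lit 0),
  Rule.mk (nat_lit 1) (nat_lit 38) (Steps.bwd (nat_lit 5) (Steps.bwd (nat_lit 2) (Steps.fwd (nat_lit 2560) Steps.nil))) (nat_lit 8) (nat_lit 1),
  Rule.mk (nat_lit 3) (nat_lit 78) (Steps.bwd (nat_lit 5) (Steps.bwd (nat_lit 3) (Steps.bwd (nat_lit 5) (Steps.bwd (nat_lit 3) (Steps.fwd (nat_lit 2560) (Steps.fwd (nat_lit 2048) (Steps.fwd (nat_lit 2560) Steps.nil))))))) (nat_lit 10) (nat_lit 1),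
  Rule.mk (nat_lit 4) (nat_lit 78) (Steps.bwd (nat_lit 5) (Steps.bwd (nat_lit 4) (Steps.bwd (nat_lit 5) (Steps.bwd (nat_lit 4) (Steps.fwd (nat_lit 2560) (Steps.fwd (nat_lit 1536) (Steps.fwd (nat_lit 2560) Steps.nil))))))) (nat_lit 11) (nat_lit 0),
  Rule.mk (nat_lit 3) (nat_lit 78) (Steps.bwd (nat_lit 5) (Steps.bwd (nat_lit 3) (Steps.bwd (nat_lit 5) (Steps.fwd (nat_lit 2048) (Steps.fwd (nat_lit 2560) (Steps.bwd (nat_lit 3) (Steps.bwd (nat_lit 5) Steps.nil))))))) (nat_lit 10) (nat_lit 1),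
  Rule.mk (nat_lit 1) (nat_lit 178) (Steps.bwd (nat_lit 3) (Steps.fwd (nat_lit 1024) (Steps.bwd (nat_lit 5) (Steps.bwd (nat_lit 3) (Steps.fwd (nat_lit 512) (Steps.bwd (nat_lit 5) (Steps.fwd (nat_lit 1536) (Steps.bwd (nat_lit 1) (Steps.bwd (nat_lit 5) (Steps.bwd (nat_lit 4) (Steps.fwd (nat_lit 1024) (Steps.bwd (nat_lit 5) (Steps.fwd (nat_lit 1536) (Steps.fwd (nat_lit 2560) (Steps.bwd (nat_lit 2) (Steps.bwd (nat_lit 3) (Steps.bwd (nat_lit 5) Steps.nil))))))))))))))))) (nat_lit 14) (nat_lit 1),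
  Rule.mk (nat_lit 1) (nat_lit 78) (Steps.bwd (nat_lit 3) (Steps.fwd (nat_lit 1024) (Steps.fwd (nat_lit 1536) (Steps.bwd (nat_lit 1) (Steps.bwd (nat_lit 3) (Steps.fwd (nat_lit 1024) (Steps.fwd (nat_lit 2048) Steps.nil))))))) (nat_lit 4) (nat_lit 5),
  Rule.mk (nat_lit 1) (nat_lit 78) (Steps.bwd (nat_lit 4) (Steps.fwd (nat_lit 1024) (Steps.fwd (nat_lit 2048) (Steps.bwd (nat_lit 1) (Steps.bwd (nat_lit 3) (Steps.fwd (nat_lit 1024) (Steps.fwd (nat_lit 2048) Steps.nil))))))) (nat_lit 4) (nat_lit 7),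
  Rule.mk (nat_lit 3) (nat_lit 78) (Steps.bwd (nat_lit 1) (Steps.bwd (nat_lit 4) (Steps.bwd (nat_lit 1) (Steps.bwd (nat_lit 3) (Steps.fwd (nat_lit 1024) (Steps.fwd (nat_lit 2048) (Steps.bwd (nat_lit 1) Steps.nil))))))) (nat_lit 4) (nat_lit 6),
  Rule.mk (nat_lit 3) (nat_lit 38) (Steps.bwd (nat_lit 3) (Steps.fwd (nat_lit 2048) (Steps.bwd (nat_lit 3) Steps.nil))) (nat_lit 2) (nat_lit 0),
  Rule.mk (nat_lit 1) (nat_lit 78) (Steps.bwd (nat_lit 4) (Steps.fwd (nat_lit 1024) (Steps.fwd (nat_lit 2048) (Steps.bwd (nat_lit 1) (Steps.bwd (nat_lit 3) (Steps.bwd (nat_lit 1) (Steps.fwd (nat_lit 2048) Steps.nil))))))) (nat_lit 4) (nat_lit 7),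
  Rule.mk (nat_lit 4) (nat_lit 78) (Steps.bwd (nat_lit 5) (Steps.bwd (nat_lit 4) (Steps.bwd (nat_lit 5) (Steps.fwd (nat_lit 1536) (Steps.bwd (nat_lit 5) (Steps.fwd (nat_lit 1536) (Steps.bwd (nat_lit 5) Steps.nil))))))) (nat_lit 11) (nat_lit 0),
  Rule.mk (nat_lit 5) (nat_lit 88) (Steps.bwd (nat_lit 3) (Steps.bwd (nat_lit 3) (Steps.bwd (nat_lit 5) (Steps.fwd (nat_lit 2048) (Steps.fwd (nat_lit 2048) (Steps.fwd (nat_lit 2560) (Steps.fwd (nat_lit 2048) (Steps.fwd (nat_lit 2048) Steps.nil)))))))) (nat_lit 12) (nat_lit 0),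
  Rule.mk (nat_lit 5) (nat_lit 78) (Steps.bwd (nat_lit 3) (Steps.bwd (nat_lit 5) (Steps.bwd (nat_lit 3) (Steps.bwd (nat_lit 5) (Steps.fwd (nat_lit 2048) (Steps.fwd (nat_lit 2560) (Steps.bwd (nat_lit 3) Steps.nil))))))) (nat_lit 10) (nat_lit 0),
  Rule.mk (nat_lit 1) (nat_lit 178) (Steps.bwd (nat_lit 5) (Steps.bwd (nat_lit 3) (Steps.bwd (nat_lit 2) (Steps.bwd (nat_lit 5) (Steps.fwd (nat_lit 1536) (Steps.bwd (nat_lit 1) (Steps.fwd (nat_lit 2560) (Steps.fwd (nat_lit 1536) (Steps.fwd (nat_lit 1024) (Steps.bwd (nat_lit 5) (Steps.fwd (nat_lit 1536) (Steps.bwd (nat_lit 5) (Steps.fwd (nat_lit 512) (Steps.fwd (nat_lit 2048) (Steps.fwd (nat_lit 2560) (Steps.fwd (nat_lit 1024) (Steps.bwd (nat_lit 3) Steps.nil))))))))))))))))) (nat_lit 14) (nat_lit 3)]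
noncomputable def R_1 : List (Rule) := [Rule.mk (nat_lit 4) (nat_lit 88) (Steps.bwd (nat_lit 4) (Steps.fwd (nat_lit 2560) (Steps.fwd (nat_lit 1536) (Steps.bwd (nat_lit 4) (Steps.bwd (nat_lit 5) (Steps.fwd (nat_lit 1536) (Steps.bwd (nat_lit 4) (Steps.fwd (nat_lit 2560) Steps.nil)))))))) (nat_lit 13) (nat_lit 2),
  Rule.mk (nat_lit 5) (nat_lit 78) (Steps.bwd (nat_lit 4) (Steps.bwd (nat_lit 5) (Steps.bwd (nat_lit 4) (Steps.fwd (nat_lit 2560) (Steps.bwd (nat_lit 4) (Steps.fwd (nat_lit 2560) (Steps.bwd (nat_lit 4) Steps.nil))))))) (nat_lit 11) (nat_lit 1),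
  Rule.mk (nat_lit 4) (nat_lit 78) (Steps.bwd (nat_lit 2) (Steps.bwd (nat_lit 4) (Steps.bwd (nat_lit 2) (Steps.bwd (nat_lit 3) (Steps.bwd (nat_lit 2) (Steps.bwd (nat_lit 4) (Steps.bwd (nat_lit 2) Steps.nil))))))) (nat_lit 5) (nat_lit 5),
  Rule.mk (nat_lit 4) (nat_lit 78) (Steps.bwd (nat_lit 2) (Steps.bwd (nat_lit 3) (Steps.fwd (nat_lit 512) (Steps.fwd (nat_lit 1536) (Steps.bwd (nat_lit 2) (Steps.bwd (nat_lit 4) (Steps.bwd (nat_lit 2) Steps.nil))))))) (nat_lit 5) (nat_lit 7),
  Rule.mk (nat_lit 2) (nat_lit 78) (Steps.bwd (nat_lit 3) (Steps.bwd (nat_lit 2) (Steps.bwd (nat_lit 4) (Steps.bwd (nat_lit 2) (Steps.bwd (nat_lit 4) (Steps.bwd (nat_lit 2) (Steps.fwd (nat_lit 1536) Steps.nil))))))) (nat_lit 5) (nat_lit 0),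
  Rule.mk (nat_lit 2) (nat_lit 38) (Steps.bwd (nat_lit 5) (Steps.fwd (nat_lit 1024) (Steps.bwd (nat_lit 5) Steps.nil))) (nat_lit 8) (nat_lit 3),
  Rule.mk (nat_lit 1) (nat_lit 78) (Steps.bwd (nat_lit 4) (Steps.fwd (nat_lit 1024) (Steps.fwd (nat_lit 2048) (Steps.fwd (nat_lit 1024) (Steps.bwd (nat_lit 3) (Steps.bwd (nat_lit 1) (Steps.bwd (nat_lit 3) Steps.nil))))))) (nat_lit 4) (nat_lit 7),
  Rule.mk (nat_lit 5) (nat_lit 88) (Steps.bwd (nat_lit 4) (Steps.bwd (nat_lit 4) (Steps.fwd (nat_lit 2560) (Steps.fwd (nat_lit 1536) (Steps.fwd (nat_lit 1536) (Steps.bwd (nat_lit 5) (Steps.fwd (nat_lit 1536) (Steps.bwd (nat_lit 4) Steps.nil)))))))) (nat_lit 13) (nat_lit 1),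
  Rule.mk (nat_lit 1) (nat_lit 38) (Steps.fwd (nat_lit 2560) (Steps.fwd (nat_lit 512) (Steps.bwd (nat_lit 5) Steps.nil))) (nat_lit 8) (nat_lit 1),
  Rule.mk (nat_lit 3) (nat_lit 38) (Steps.bwd (nat_lit 3) (Steps.fwd (nat_lit 2048) (Steps.fwd (nat_lit 2048) Steps.nil))) (nat_lit 2) (nat_lit 0),
  Rule.mk (nat_lit 1) (nat_lit 78) (Steps.bwd (nat_lit 3) (Steps.bwd (nat_lit 1) (Steps.fwd (nat_lit 1536) (Steps.bwd (nat_lit 1) (Steps.bwd (nat_lit 3) (Steps.bwd (nat_lit 1) (Steps.fwd (nat_lit 2048) Steps.nil))))))) (nat_lit 4) (nat_lit 5),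
  Rule.mk (nat_lit 3) (nat_lit 178) (Steps.bwd (nat_lit 2) (Steps.fwd (nat_lit 2560) (Steps.fwd (nat_lit 1536) (Steps.fwd (nat_lit 1024) (Steps.bwd (nat_lit 5) (Steps.bwd (nat_lit 4) (Steps.bwd (nat_lit 1) (Steps.fwd (nat_lit 2560) (Steps.bwd (nat_lit 4) (Steps.bwd (nat_lit 5) (Steps.fwd (nat_lit 512) (Steps.fwd (nat_lit 2048) (Steps.fwd (nat_lit 2560) (Steps.fwd (nat_lit 1024) (Steps.fwd (nat_lit 2048) (Steps.bwd (nat_lit 1) (Steps.fwd (nat_lit 2560) Steps.nil))))))))))))))))) (nat_lit 14) (nat_lit 5),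
  Rule.mk (nat_lit 2) (nat_lit 28) (Steps.bwd (nat_lit 2) (Steps.fwd (nat_lit 512) Steps.nil)) (nat_lit 1) (nat_lit 0),
  Rule.mk (nat_lit 2) (nat_lit 38) (Steps.bwd (nat_lit 5) (Steps.bwd (nat_lit 1) (Steps.bwd (nat_lit 5) Steps.nil))) (nat_lit 8) (nat_lit 3),
  Rule.mk (nat_lit 3) (nat_lit 78) (Steps.bwd (nat_lit 5) (Steps.bwd (nat_lit 3) (Steps.bwd (nat_lit 5) (Steps.fwd (nat_lit 2048) (Steps.fwd (nat_lit 2560) (Steps.bwd (nat_lit 3) (Steps.fwd (nat_lit 2560) Steps.nil))))))) (nat_lit 10) (nat_lit 1),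
  Rule.mk (nat_lit 3) (nat_lit 78) (Steps.bwd (nat_lit 1) (Steps.bwd (nat_lit 3) (Steps.fwd (nat_lit 1024) (Steps.fwd (nat_lit 1536) (Steps.bwd (nat_lit 1) (Steps.bwd (nat_lit 3) (Steps.bwd (nat_lit 1) Steps.nil))))))) (nat_lit 4) (nat_lit 4),
  Rule.mk (nat_lit 4) (nat_lit 78) (Steps.bwd (nat_lit 1) (Steps.bwd (nat_lit 3) (Steps.fwd (nat_lit 1024) (Steps.bwd (nat_lit 3) (Steps.fwd (nat_lit 1024) (Steps.bwd (nat_lit 3) (Steps.bwd (nat_lit 1) Steps.nil))))))) (nat_lit 4) (nat_lit 0),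
  Rule.mk (nat_lit 4) (nat_lit 78) (Steps.bwd (nat_lit 1) (Steps.bwd (nat_lit 3) (Steps.bwd (nat_lit 1) (Steps.bwd (nat_lit 3) (Steps.bwd (nat_lit 1) (Steps.bwd (nat_lit 3) (Steps.bwd (nat_lit 1) Steps.nil))))))) (nat_lit 4) (nat_lit 0),
  Rule.mk (nat_lit 4) (nat_lit 78) (Steps.bwd (nat_lit 5) (Steps.bwd (nat_lit 4) (Steps.fwd (nat_lit 2560) (Steps.fwd (nat_lit 1536) (Steps.bwd (nat_lit 5) (Steps.fwd (nat_lit 1536) (Steps.bwd (nat_lit 5) Steps.nil))))))) (nat_lit 11) (nat_lit 0),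
  Rule.mk (nat_lit 2) (nat_lit 78) (Steps.bwd (nat_lit 4) (Steps.fwd (nat_lit 512) (Steps.bwd (nat_lit 3) (Steps.fwd (nat_lit 512) (Steps.fwd (nat_lit 1536) (Steps.fwd (nat_lit 512) (Steps.bwd (nat_lit 4) Steps.nil))))))) (nat_lit 5) (nat_lit 6),
  Rule.mk (nat_lit 4) (nat_lit 78) (Steps.bwd (nat_lit 5) (Steps.bwd (nat_lit 4) (Steps.fwd (nat_lit 2560) (Steps.fwd (nat_lit 1536) (Steps.bwd (nat_lit 5) (Steps.fwd (nat_lit 1536) (Steps.fwd (nat_lit 2560) Steps.nil))))))) (nat_lit 11) (nat_lit 0),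
  Rule.mk (nat_lit 5) (nat_lit 38) (Steps.bwd (nat_lit 1) (Steps.bwd (nat_lit 5) (Steps.bwd (nat_lit 2) Steps.nil))) (nat_lit 8) (nat_lit 0),
  Rule.mk (nat_lit 3) (nat_lit 78) (Steps.bwd (nat_lit 5) (Steps.bwd (nat_lit 3) (Steps.bwd (nat_lit 5) (Steps.fwd (nat_lit 2048) (Steps.bwd (nat_lit 5) (Steps.fwd (nat_lit 2048) (Steps.fwd (nat_lit 2560) Steps.nil))))))) (nat_lit 10) (nat_lit 1),
  Rule.mk (nat_lit 4) (nat_lit 78) (Steps.bwd (nat_lit 2) (Steps.bwd (nat_lit 3) (Steps.bwd (nat_lit 2) (Steps.bwd (nat_lit 4) (Steps.bwd (nat_lit 2) (Steps.fwd (nat_lit 1536) (Steps.fwd (nat_lit 512) Steps.nil))))))) (nat_lit 5) (nat_lit 7),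
  Rule.mk (nat_lit 4) (nat_lit 78) (Steps.fwd (nat_lit 512) (Steps.bwd (nat_lit 3) (Steps.bwd (nat_lit 2) (Steps.fwd (nat_lit 1536) (Steps.fwd (nat_lit 512) (Steps.bwd (nat_lit 4) (Steps.bwd (nat_lit 2) Steps.nil))))))) (nat_lit 5) (nat_lit 7),
  Rule.mk (nat_lit 3) (nat_lit 78) (Steps.bwd (nat_lit 2) (Steps.bwd (nat_lit 4) (Steps.fwd (nat_lit 512) (Steps.bwd (nat_lit 4) (Steps.fwd (nat_lit 512) (Steps.bwd (nat_lit 4) (Steps.fwd (nat_lit 512) Steps.nil))))))) (nat_lit 5) (nat_lit 1),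
  Rule.mk (nat_lit 3) (nat_lit 178) (Steps.bwd (nat_lit 2) (Steps.bwd (nat_lit 5) (Steps.bwd (nat_lit 4) (Steps.bwd (nat_lit 1) (Steps.fwd (nat_lit 2560) (Steps.bwd (nat_lit 4) (Steps.bwd (nat_lit 1) (Steps.fwd (nat_lit 2560) (Steps.bwd (nat_lit 4) (Steps.bwd (nat_lit 5) (Steps.fwd (nat_lit 512) (Steps.fwd (nat_lit 2048) (Steps.bwd (nat_lit 5) (Steps.bwd (nat_lit 1) (Steps.bwd (nat_lit 3) (Steps.fwd (nat_lit 1024) (Steps.fwd (nat_lit 2560) Steps.nil))))))))))))))))) (nat_lit 14) (nat_lit 5),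
  Rule.mk (nat_lit 1) (nat_lit 28) (Steps.bwd (nat_lit 1) (Steps.fwd (nat_lit 1024) Steps.nil)) (nat_lit 0) (nat_lit 0),
  Rule.mk (nat_lit 3) (nat_lit 78) (Steps.bwd (nat_lit 1) (Steps.bwd (nat_lit 4) (Steps.bwd (nat_lit 1) (Steps.bwd (nat_lit 3) (Steps.fwd (nat_lit 1024) (Steps.fwd (nat_lit 2048) (Steps.fwd (nat_lit 1024) Steps.nil))))))) (nat_lit 4) (nat_lit 6),
  Rule.mk (nat_lit 4) (nat_lit 78) (Steps.bwd (nat_lit 1) (Steps.bwd (nat_lit 3) (Steps.fwd (nat_lit 1024) (Steps.bwd (nat_lit 3) (Steps.bwd (nat_lit 1) (Steps.fwd (nat_lit 2048) (Steps.bwd (nat_lit 1) Steps.nil))))))) (nat_lit 4) (nat_lit 0),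
  Rule.mk (nat_lit 3) (nat_lit 38) (Steps.bwd (nat_lit 3) (Steps.bwd (nat_lit 3) (Steps.fwd (nat_lit 2048) Steps.nil))) (nat_lit 2) (nat_lit 0),
  Rule.mk (nat_lit 2) (nat_lit 78) (Steps.bwd (nat_lit 4) (Steps.fwd (nat_lit 512) (Steps.bwd (nat_lit 3) (Steps.fwd (nat_lit 512) (Steps.bwd (nat_lit 4) (Steps.bwd (nat_lit 2) (Steps.fwd (nat_lit 1536) Steps.nil))))))) (nat_lit 5) (nat_lit 6),
  Rule.mk (nat_lit 5) (nat_lit 78) (Steps.bwd (nat_lit 4) (Steps.bwd (nat_lit 5) (Steps.fwd (nat_lit 1536) (Steps.fwd (nat_lit 2560) (Steps.fwd (nat_lit 1536) (Steps.bwd (nat_lit 5) (Steps.bwd (nat_lit 4) Steps.nil))))))) (nat_lit 11) (nat_lit 1),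
  Rule.mk (nat_lit 1) (nat_lit 78) (Steps.bwd (nat_lit 3) (Steps.bwd (nat_lit 1) (Steps.fwd (nat_lit 1536) (Steps.bwd (nat_lit 1) (Steps.fwd (nat_lit 2048) (Steps.bwd (nat_lit 1) (Steps.bwd (nat_lit 3) Steps.nil))))))) (nat_lit 4) (nat_lit 5),
  Rule.mk (nat_lit 2) (nat_lit 78) (Steps.bwd (nat_lit 3) (Steps.fwd (nat_lit 512) (Steps.bwd (nat_lit 4) (Steps.fwd (nat_lit 512) (Steps.bwd (nat_lit 4) (Steps.fwd (nat_lit 512) (Steps.bwd (nat_lit 4) Steps.nil))))))) (nat_lit 5) (nat_lit 0),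
  Rule.mk (nat_lit 3) (nat_lit 78) (Steps.bwd (nat_lit 1) (Steps.bwd (nat_lit 4) (Steps.fwd (nat_lit 1024) (Steps.fwd (nat_lit 2048) (Steps.fwd (nat_lit 1024) (Steps.bwd (nat_lit 3) (Steps.fwd (nat_lit 1024) Steps.nil))))))) (nat_lit 4) (nat_lit 6),
  Rule.mk (nat_lit 1) (nat_lit 78) (Steps.bwd (nat_lit 4) (Steps.fwd (nat_lit 1024) (Steps.fwd (nat_lit 2048) (Steps.bwd (nat_lit 1) (Steps.fwd (nat_lit 2048) (Steps.fwd (nat_lit 1024) (Steps.fwd (nat_lit 2048) Steps.nil))))))) (nat_lit 4) (nat_lit 7),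
  Rule.mk (nat_lit 4) (nat_lit 78) (Steps.bwd (nat_lit 5) (Steps.bwd (nat_lit 4) (Steps.bwd (nat_lit 5) (Steps.bwd (nat_lit 4) (Steps.bwd (nat_lit 5) (Steps.fwd (nat_lit 1536) (Steps.fwd (nat_lit 2560) Steps.nil))))))) (nat_lit 11) (nat_lit 0),
  Rule.mk (nat_lit 5) (nat_lit 78) (Steps.bwd (nat_lit 4) (Steps.bwd (nat_lit 5) (Steps.bwd (nat_lit 4) (Steps.bwd (nat_lit 5) (Steps.fwd (nat_lit 1536) (Steps.bwd (nat_lit 5) (Steps.bwd (nat_lit 4) Steps.nil))))))) (nat_lit 11) (nat_lit 1),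
  Rule.mk (nat_lit 4) (nat_lit 178) (Steps.bwd (nat_lit 1) (Steps.fwd (nat_lit 2560) (Steps.bwd (nat_lit 4) (Steps.fwd (nat_lit 2560) (Steps.bwd (nat_lit 2) (Steps.fwd (nat_lit 2048) (Steps.bwd (nat_lit 5) (Steps.bwd (nat_lit 1) (Steps.fwd (nat_lit 2048) (Steps.fwd (nat_lit 1024) (Steps.fwd (nat_lit 2560) (Steps.bwd (nat_lit 3) (Steps.bwd (nat_lit 2) (Steps.bwd (nat_lit 5) (Steps.fwd (nat_lit 1536) (Steps.fwd (nat_lit 1024) (Steps.fwd (nat_lit 2560) Steps.nil))))))))))))))))) (nat_lit 14) (nat_lit 11),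
  Rule.mk (nat_lit 2) (nat_lit 78) (Steps.bwd (nat_lit 4) (Steps.bwd (nat_lit 2) (Steps.bwd (nat_lit 3) (Steps.bwd (nat_lit 2) (Steps.fwd (nat_lit 1536) (Steps.fwd (nat_lit 512) (Steps.bwd (nat_lit 4) Steps.nil))))))) (nat_lit 5) (nat_lit 6),
  Rule.mk (nat_lit 2) (nat_lit 28) (Steps.fwd (nat_lit 512) (Steps.bwd (nat_lit 2) Steps.nil)) (nat_lit 1) (nat_lit 0),
  Rule.mk (nat_lit 4) (nat_lit 78) (Steps.bwd (nat_lit 1) (Steps.fwd (nat_lit 2048) (Steps.fwd (nat_lit 1024) (Steps.fwd (nat_lit 2048) (Steps.bwd (nat_lit 1) (Steps.fwd (nat_lit 2048) (Steps.bwd (nat_lit 1) Steps.nil))))))) (nat_lit 4) (nat_lit 0),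
  Rule.mk (nat_lit 4) (nat_lit 78) (Steps.bwd (nat_lit 2) (Steps.bwd (nat_lit 4) (Steps.fwd (nat_lit 512) (Steps.bwd (nat_lit 4) (Steps.bwd (nat_lit 2) (Steps.fwd (nat_lit 2048) (Steps.fwd (nat_lit 512) Steps.nil))))))) (nat_lit 5) (nat_lit 3),
  Rule.mk (nat_lit 5) (nat_lit 78) (Steps.bwd (nat_lit 4) (Steps.fwd (nat_lit 2560) (Steps.bwd (nat_lit 4) (Steps.bwd (nat_lit 5) (Steps.bwd (nat_lit 4) (Steps.fwd (nat_lit 2560) (Steps.bwd (nat_lit 4) Steps.nil))))))) (nat_lit 11) (nat_lit 1),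
  Rule.mk (nat_lit 3) (nat_lit 78) (Steps.bwd (nat_lit 2) (Steps.bwd (nat_lit 4) (Steps.fwd (nat_lit 512) (Steps.fwd (nat_lit 1536) (Steps.bwd (nat_lit 2) (Steps.fwd (nat_lit 1536) (Steps.bwd (nat_lit 2) Steps.nil))))))) (nat_lit 5) (nat_lit 1),
  Rule.mk (nat_lit 3) (nat_lit 88) (Steps.bwd (nat_lit 5) (Steps.bwd (nat_lit 3) (Steps.bwd (nat_lit 3) (Steps.bwd (nat_lit 5) (Steps.bwd (nat_lit 3) (Steps.fwd (nat_lit 2048) (Steps.fwd (nat_lit 2560) (Steps.bwd (nat_lit 3) Steps.nil)))))))) (nat_lit 12) (nat_lit 2),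
  Rule.mk (nat_lit 5) (nat_lit 38) (Steps.bwd (nat_lit 2) (Steps.fwd (nat_lit 2560) (Steps.bwd (nat_lit 1) Steps.nil))) (nat_lit 8) (nat_lit 2),
  Rule.mk (nat_lit 5) (nat_lit 78) (Steps.bwd (nat_lit 3) (Steps.fwd (nat_lit 2560) (Steps.fwd (nat_lit 2048) (Steps.fwd (nat_lit 2560) (Steps.bwd (nat_lit 3) (Steps.bwd (nat_lit 5) (Steps.bwd (nat_lit 3) Steps.nil))))))) (nat_lit 10) (nat_lit 0),
  Rule.mk (nat_lit 1) (nat_lit 78) (Steps.bwd (nat_lit 4) (Steps.fwd (nat_lit 1024) (Steps.bwd (nat_lit 3) (Steps.bwd (nat_lit 1) (Steps.fwd (nat_lit 2048) (Steps.fwd (nat_lit 1024) (Steps.bwd (nat_lit 3) Steps.nil))))))) (nat_lit 4) (nat_lit 7),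
  Rule.mk (nat_lit 1) (nat_lit 78) (Steps.bwd (nat_lit 3) (Steps.fwd (nat_lit 1024) (Steps.bwd (nat_lit 4) (Steps.bwd (nat_lit 1) (Steps.fwd (nat_lit 2048) (Steps.bwd (nat_lit 1) (Steps.bwd (nat_lit 3) Steps.nil))))))) (nat_lit 4) (nat_lit 5),
  Rule.mk (nat_lit 5) (nat_lit 78) (Steps.bwd (nat_lit 3) (Steps.fwd (nat_lit 2560) (Steps.fwd (nat_lit 2048) (Steps.bwd (nat_lit 5) (Steps.fwd (nat_lit 2048) (Steps.fwd (nat_lit 2560) (Steps.fwd (nat_lit 2048) Steps.nil))))))) (nat_lit 10) (nat_lit 0),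
  Rule.mk (nat_lit 1) (nat_lit 78) (Steps.bwd (nat_lit 4) (Steps.fwd (nat_lit 1024) (Steps.fwd (nat_lit 2048) (Steps.fwd (nat_lit 1024) (Steps.fwd (nat_lit 2048) (Steps.fwd (nat_lit 1024) (Steps.fwd (nat_lit 2048) Steps.nil))))))) (nat_lit 4) (nat_lit 7),
  Rule.mk (nat_lit 2) (nat_lit 178) (Steps.bwd (nat_lit 4) (Steps.bwd (nat_lit 2) (Steps.bwd (nat_lit 5) (Steps.bwd (nat_lit 4) (Steps.fwd (nat_lit 1024) (Steps.bwd (nat_lit 5) (Steps.fwd (nat_lit 2048) (Steps.bwd (nat_lit 5) (Steps.bwd (nat_lit 2) (Steps.fwd (nat_lit 2048) (Steps.fwd (nat_lit 2560) (Steps.bwd (nat_lit 2) (Steps.fwd (nat_lit 2048) (Steps.fwd (nat_lit 2560) (Steps.fwd (nat_lit 1024) (Steps.fwd (nat_lit 1536) (Steps.fwd (nat_lit 2560) Steps.nil))))))))))))))))) (nat_lit 15) (nat_lit 16),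
  Rule.mk (nat_lit 1) (nat_lit 78) (Steps.bwd (nat_lit 3) (Steps.fwd (nat_lit 1024) (Steps.fwd (nat_lit 2048) (Steps.bwd (nat_lit 1) (Steps.bwd (nat_lit 4) (Steps.fwd (nat_lit 1024) (Steps.bwd (nat_lit 3) Steps.nil))))))) (nat_lit 4) (nat_lit 3),
  Rule.mk (nat_lit 2) (nat_lit 78) (Steps.bwd (nat_lit 3) (Steps.bwd (nat_lit 2) (Steps.fwd (nat_lit 1536) (Steps.fwd (nat_lit 512) (Steps.fwd (nat_lit 1536) (Steps.bwd (nat_lit 2) (Steps.fwd (nat_lit 1536) Steps.nil))))))) (nat_lit 5) (nat_lit 0),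
  Rule.mk (nat_lit 5) (nat_lit 78) (Steps.bwd (nat_lit 3) (Steps.bwd (nat_lit 5) (Steps.bwd (nat_lit 3) (Steps.bwd (nat_lit 5) (Steps.fwd (nat_lit 2048) (Steps.bwd (nat_lit 5) (Steps.fwd (nat_lit 2048) Steps.nil))))))) (nat_lit 10) (nat_lit 0),
  Rule.mk (nat_lit 1) (nat_lit 78) (Steps.bwd (nat_lit 3) (Steps.fwd (nat_lit 1024) (Steps.fwd (nat_lit 1536) (Steps.fwd (nat_lit 1024) (Steps.fwd (nat_lit 2048) (Steps.bwd (nat_lit 1) (Steps.bwd (nat_lit 3) Steps.nil))))))) (nat_lit 4) (nat_lit 5),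
  Rule.mk (nat_lit 1) (nat_lit 78) (Steps.bwd (nat_lit 4) (Steps.fwd (nat_lit 1024) (Steps.fwd (nat_lit 2048) (Steps.fwd (nat_lit 1024) (Steps.fwd (nat_lit 2048) (Steps.bwd (nat_lit 1) (Steps.bwd (nat_lit 3) Steps.nil))))))) (nat_lit 4) (nat_lit 7),
  Rule.mk (nat_lit 5) (nat_lit 178) (Steps.bwd (nat_lit 3) (Steps.bwd (nat_lit 2) (Steps.fwd (nat_lit 2560) (Steps.bwd (nat_lit 4) (Steps.fwd (nat_lit 1024) (Steps.bwd (nat_lit 5) (Steps.fwd (nat_lit 1536) (Steps.bwd (nat_lit 1) (Steps.fwd (nat_lit 2560) (Steps.fwd (nat_lit 1536) (Steps.fwd (nat_lit 2560) (Steps.bwd (nat_lit 2) (Steps.bwd (nat_lit 3) (Steps.fwd (nat_lit 2560) (Steps.bwd (nat_lit 1) (Steps.bwd (nat_lit 3) (Steps.bwd (nat_lit 1) Steps.nil))))))))))))))))) (nat_lit 14) (nat_lit 4),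
  Rule.mk (nat_lit 1) (nat_lit 78) (Steps.bwd (nat_lit 4) (Steps.fwd (nat_lit 1024) (Steps.fwd (nat_lit 2048) (Steps.fwd (nat_lit 1024) (Steps.bwd (nat_lit 3) (Steps.fwd (nat_lit 1024) (Steps.fwd (nat_lit 2048) Steps.nil))))))) (nat_lit 4) (nat_lit 7),
  Rule.mk (nat_lit 4) (nat_lit 78) (Steps.fwd (nat_lit 512) (Steps.bwd (nat_lit 4) (Steps.bwd (nat_lit 2) (Steps.bwd (nat_lit 3) (Steps.fwd (nat_lit 512) (Steps.bwd (nat_lit 4) (Steps.bwd (nat_lit 2) Steps.nil))))))) (nat_lit 5) (nat_lit 5),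
  Rule.mk (nat_lit 5) (nat_lit 178) (Steps.bwd (nat_lit 4) (Steps.fwd (nat_lit 2560) (Steps.bwd (nat_lit 2) (Steps.fwd (nat_lit 2048) (Steps.bwd (nat_lit 5) (Steps.fwd (nat_lit 1024) (Steps.bwd (nat_lit 3) (Steps.fwd (nat_lit 1024) (Steps.bwd (nat_lit 5) (Steps.bwd (nat_lit 3) (Steps.bwd (nat_lit 2) (Steps.fwd (nat_lit 2560) (Steps.fwd (nat_lit 1536) (Steps.fwd (nat_lit 1024) (Steps.bwd (nat_lit 5) (Steps.bwd (nat_lit 4) (Steps.bwd (nat_lit 1) Steps.nil))))))))))))))))) (nat_lit 14) (nat_lit 13),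
  Rule.mk (nat_lit 3) (nat_lit 78) (Steps.bwd (nat_lit 1) (Steps.bwd (nat_lit 3) (Steps.fwd (nat_lit 1024) (Steps.fwd (nat_lit 1536) (Steps.fwd (nat_lit 1024) (Steps.fwd (nat_lit 2048) (Steps.fwd (nat_lit 1024) Steps.nil))))))) (nat_lit 4) (nat_lit 4)]
noncomputable def R_2 : List (Rule) := [Rule.mk (nat_lit 4) (nat_lit 38) (Steps.bwd (nat_lit 4) (Steps.fwd (nat_lit 1536) (Steps.fwd (nat_lit 1536) Steps.nil))) (nat_lit 3) (nat_lit 0),
  Rule.mk (nat_lit 5) (nat_lit 78) (Steps.bwd (nat_lit 4) (Steps.bwd (nat_lit 5) (Steps.fwd (nat_lit 1536) (Steps.bwd (nat_lit 5) (Steps.fwd (nat_lit 1536) (Steps.bwd (nat_lit 5) (Steps.bwd (nat_lit 4) Steps.nil))))))) (nat_lit 11) (nat_lit 1),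
  Rule.mk (nat_lit 4) (nat_lit 178) (Steps.bwd (nat_lit 1) (Steps.fwd (nat_lit 2560) (Steps.bwd (nat_lit 4) (Steps.bwd (nat_lit 1) (Steps.fwd (nat_lit 2560) (Steps.bwd (nat_lit 4) (Steps.bwd (nat_lit 5) (Steps.fwd (nat_lit 512) (Steps.bwd (nat_lit 3) (Steps.fwd (nat_lit 2560) (Steps.bwd (nat_lit 1) (Steps.fwd (nat_lit 2048) (Steps.bwd (nat_lit 1) (Steps.fwd (nat_lit 2560) (Steps.bwd (nat_lit 3) (Steps.fwd (nat_lit 512) (Steps.fwd (nat_lit 2560) Steps.nil))))))))))))))))) (nat_lit 14) (nat_lit 8),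
  Rule.mk (nat_lit 2) (nat_lit 78) (Steps.bwd (nat_lit 4) (Steps.bwd (nat_lit 2) (Steps.bwd (nat_lit 4) (Steps.bwd (nat_lit 2) (Steps.bwd (nat_lit 3) (Steps.bwd (nat_lit 2) (Steps.bwd (nat_lit 4) Steps.nil))))))) (nat_lit 5) (nat_lit 4),
  Rule.mk (nat_lit 5) (nat_lit 78) (Steps.bwd (nat_lit 4) (Steps.fwd (nat_lit 2560) (Steps.bwd (nat_lit 4) (Steps.fwd (nat_lit 2560) (Steps.bwd (nat_lit 4) (Steps.fwd (nat_lit 2560) (Steps.bwd (nat_lit 4) Steps.nil))))))) (nat_lit 11) (nat_lit 1),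
  Rule.mk (nat_lit 1) (nat_lit 78) (Steps.bwd (nat_lit 4) (Steps.fwd (nat_lit 1024) (Steps.bwd (nat_lit 3) (Steps.fwd (nat_lit 1024) (Steps.bwd (nat_lit 3) (Steps.bwd (nat_lit 1) (Steps.fwd (nat_lit 2048) Steps.nil))))))) (nat_lit 4) (nat_lit 7),
  Rule.mk (nat_lit 2) (nat_lit 78) (Steps.bwd (nat_lit 4) (Steps.fwd (nat_lit 512) (Steps.bwd (nat_lit 3) (Steps.bwd (nat_lit 2) (Steps.fwd (nat_lit 1536) (Steps.bwd (nat_lit 2) (Steps.bwd (nat_lit 4) Steps.nil))))))) (nat_lit 5) (nat_lit 6),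
  Rule.mk (nat_lit 3) (nat_lit 178) (Steps.bwd (nat_lit 2) (Steps.bwd (nat_lit 5) (Steps.bwd (nat_lit 4) (Steps.bwd (nat_lit 1) (Steps.bwd (nat_lit 5) (Steps.fwd (nat_lit 1536) (Steps.bwd (nat_lit 1) (Steps.bwd (nat_lit 5) (Steps.fwd (nat_lit 1536) (Steps.bwd (nat_lit 5) (Steps.fwd (nat_lit 512) (Steps.bwd (nat_lit 3) (Steps.bwd (nat_lit 5) (Steps.bwd (nat_lit 1) (Steps.fwd (nat_lit 2048) (Steps.fwd (nat_lit 1024) (Steps.bwd (nat_lit 5) Steps.nil))))))))))))))))) (nat_lit 14) (nat_lit 5),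
  Rule.mk (nat_lit 3) (nat_lit 78) (Steps.bwd (nat_lit 5) (Steps.bwd (nat_lit 3) (Steps.fwd (nat_lit 2560) (Steps.bwd (nat_lit 3) (Steps.bwd (nat_lit 5) (Steps.fwd (nat_lit 2048) (Steps.bwd (nat_lit 5) Steps.nil))))))) (nat_lit 10) (nat_lit 1),
  Rule.mk (nat_lit 4) (nat_lit 78) (Steps.bwd (nat_lit 5) (Steps.fwd (nat_lit 1536) (Steps.fwd (nat_lit 2560) (Steps.bwd (nat_lit 4) (Steps.bwd (nat_lit 5) (Steps.fwd (nat_lit 1536) (Steps.bwd (nat_lit 5) Steps.nil))))))) (nat_lit 11) (nat_lit 0),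
  Rule.mk (nat_lit 2) (nat_lit 78) (Steps.bwd (nat_lit 4) (Steps.fwd (nat_lit 512) (Steps.fwd (nat_lit 2048) (Steps.bwd (nat_lit 2) (Steps.bwd (nat_lit 4) (Steps.bwd (nat_lit 2) (Steps.bwd (nat_lit 4) Steps.nil))))))) (nat_lit 5) (nat_lit 6),
  Rule.mk (nat_lit 4) (nat_lit 78) (Steps.bwd (nat_lit 1) (Steps.fwd (nat_lit 2048) (Steps.fwd (nat_lit 1024) (Steps.fwd (nat_lit 2048) (Steps.fwd (nat_lit 1024) (Steps.bwd (nat_lit 3) (Steps.fwd (nat_lit 1024) Steps.nil))))))) (nat_lit 4) (nat_lit 0),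
  Rule.mk (nat_lit 3) (nat_lit 78) (Steps.bwd (nat_lit 1) (Steps.fwd (nat_lit 2048) (Steps.fwd (nat_lit 1024) (Steps.fwd (nat_lit 2048) (Steps.bwd (nat_lit 1) (Steps.fwd (nat_lit 1536) (Steps.fwd (nat_lit 1024) Steps.nil))))))) (nat_lit 4) (nat_lit 2),
  Rule.mk (nat_lit 4) (nat_lit 78) (Steps.bwd (nat_lit 1) (Steps.fwd (nat_lit 2048) (Steps.fwd (nat_lit 1024) (Steps.fwd (nat_lit 2048) (Steps.bwd (nat_lit 1) (Steps.fwd (nat_lit 2048) (Steps.fwd (nat_lit 1024) Steps.nil))))))) (nat_lit 4) (nat_lit 0),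
  Rule.mk (nat_lit 5) (nat_lit 178) (Steps.bwd (nat_lit 1) (Steps.fwd (nat_lit 2048) (Steps.fwd (nat_lit 1024) (Steps.bwd (nat_lit 5) (Steps.fwd (nat_lit 2048) (Steps.bwd (nat_lit 2) (Steps.fwd (nat_lit 2560) (Steps.bwd (nat_lit 4) (Steps.bwd (nat_lit 1) (Steps.bwd (nat_lit 5) (Steps.fwd (nat_lit 1536) (Steps.fwd (nat_lit 1024) (Steps.bwd (nat_lit 5) (Steps.bwd (nat_lit 4) (Steps.bwd (nat_lit 5) (Steps.fwd (nat_lit 512) (Steps.bwd (nat_lit 3) Steps.nil))))))))))))))))) (nat_lit 14) (nat_lit 0),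
  Rule.mk (nat_lit 2) (nat_lit 78) (Steps.bwd (nat_lit 3) (Steps.bwd (nat_lit 2) (Steps.bwd (nat_lit 4) (Steps.bwd (nat_lit 2) (Steps.bwd (nat_lit 4) (Steps.fwd (nat_lit 512) (Steps.fwd (nat_lit 1536) Steps.nil))))))) (nat_lit 5) (nat_lit 0),
  Rule.mk (nat_lit 4) (nat_lit 78) (Steps.bwd (nat_lit 2) (Steps.fwd (nat_lit 2048) (Steps.bwd (nat_lit 2) (Steps.bwd (nat_lit 4) (Steps.fwd (nat_lit 512) (Steps.fwd (nat_lit 1536) (Steps.bwd (nat_lit 2) Steps.nil))))))) (nat_lit 5) (nat_lit 7),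
  Rule.mk (nat_lit 3) (nat_lit 78) (Steps.bwd (nat_lit 2) (Steps.bwd (nat_lit 4) (Steps.bwd (nat_lit 2) (Steps.fwd (nat_lit 1536) (Steps.bwd (nat_lit 2) (Steps.bwd (nat_lit 4) (Steps.bwd (nat_lit 2) Steps.nil))))))) (nat_lit 5) (nat_lit 1),
  Rule.mk (nat_lit 5) (nat_lit 178) (Steps.bwd (nat_lit 2) (Steps.fwd (nat_lit 2048) (Steps.bwd (nat_lit 5) (Steps.bwd (nat_lit 1) (Steps.fwd (nat_lit 2048) (Steps.bwd (nat_lit 1) (Steps.bwd (nat_lit 5) (Steps.fwd (nat_lit 2048) (Steps.bwd (nat_lit 2) (Steps.fwd (nat_lit 2560) (Steps.bwd (nat_lit 4) (Steps.fwd (nat_lit 1024) (Steps.bwd (nat_lit 5) (Steps.fwd (nat_lit 1536) (Steps.bwd (nat_lit 1) (Steps.fwd (nat_lit 2560) (Steps.fwd (nat_lit 1536) Steps.nil))))))))))))))))) (nat_lit 14) (nat_lit 15),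
  Rule.mk (nat_lit 5) (nat_lit 78) (Steps.bwd (nat_lit 3) (Steps.bwd (nat_lit 5) (Steps.fwd (nat_lit 2048) (Steps.bwd (nat_lit 5) (Steps.bwd (nat_lit 3) (Steps.fwd (nat_lit 2560) (Steps.fwd (nat_lit 2048) Steps.nil))))))) (nat_lit 10) (nat_lit 0),
  Rule.mk (nat_lit 1) (nat_lit 178) (Steps.bwd (nat_lit 3) (Steps.fwd (nat_lit 1024) (Steps.fwd (nat_lit 2560) (Steps.bwd (nat_lit 3) (Steps.bwd (nat_lit 2) (Steps.bwd (nat_lit 5) (Steps.bwd (nat_lit 4) (Steps.bwd (nat_lit 1) (Steps.fwd (nat_lit 2560) (Steps.bwd (nat_lit 4) (Steps.bwd (nat_lit 1) (Steps.bwd (nat_lit 5) (Steps.fwd (nat_lit 1536) (Steps.bwd (nat_lit 5) (Steps.bwd (nat_lit 2) (Steps.bwd (nat_lit 3) (Steps.fwd (nat_lit 2560) Steps.nil))))))))))))))))) (nat_lit 14) (nat_lit 1),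
  Rule.mk (nat_lit 5) (nat_lit 78) (Steps.bwd (nat_lit 3) (Steps.bwd (nat_lit 5) (Steps.fwd (nat_lit 2048) (Steps.bwd (nat_lit 5) (Steps.bwd (nat_lit 3) (Steps.fwd (nat_lit 2560) (Steps.bwd (nat_lit 3) Steps.nil))))))) (nat_lit 10) (nat_lit 0),
  Rule.mk (nat_lit 2) (nat_lit 78) (Steps.bwd (nat_lit 3) (Steps.bwd (nat_lit 2) (Steps.bwd (nat_lit 4) (Steps.bwd (nat_lit 2) (Steps.fwd (nat_lit 1536) (Steps.bwd (nat_lit 2) (Steps.fwd (nat_lit 1536) Steps.nil))))))) (nat_lit 5) (nat_lit 0),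
  Rule.mk (nat_lit 2) (nat_lit 78) (Steps.bwd (nat_lit 3) (Steps.fwd (nat_lit 512) (Steps.fwd (nat_lit 1536) (Steps.bwd (nat_lit 2) (Steps.bwd (nat_lit 4) (Steps.bwd (nat_lit 2) (Steps.fwd (nat_lit 1536) Steps.nil))))))) (nat_lit 5) (nat_lit 0),
  Rule.mk (nat_lit 5) (nat_lit 38) (Steps.fwd (nat_lit 1024) (Steps.bwd (nat_lit 5) (Steps.bwd (nat_lit 2) Steps.nil))) (nat_lit 8) (nat_lit 0),
  Rule.mk (nat_lit 1) (nat_lit 78) (Steps.bwd (nat_lit 3) (Steps.bwd (nat_lit 1) (Steps.bwd (nat_lit 3) (Steps.fwd (nat_lit 1024) (Steps.fwd (nat_lit 2048) (Steps.bwd (nat_lit 1) (Steps.fwd (nat_lit 1536) Steps.nil))))))) (nat_lit 4) (nat_lit 1),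
  Rule.mk (nat_lit 3) (nat_lit 88) (Steps.bwd (nat_lit 3) (Steps.fwd (nat_lit 2560) (Steps.bwd (nat_lit 3) (Steps.bwd (nat_lit 3) (Steps.bwd (nat_lit 5) (Steps.bwd (nat_lit 3) (Steps.fwd (nat_lit 2048) (Steps.bwd (nat_lit 5) Steps.nil)))))))) (nat_lit 12) (nat_lit 1),
  Rule.mk (nat_lit 1) (nat_lit 78) (Steps.bwd (nat_lit 3) (Steps.bwd (nat_lit 1) (Steps.bwd (nat_lit 4) (Steps.fwd (nat_lit 1024) (Steps.fwd (nat_lit 2048) (Steps.bwd (nat_lit 1) (Steps.bwd (nat_lit 3) Steps.nil))))))) (nat_lit 4) (nat_lit 5),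
  Rule.mk (nat_lit 5) (nat_lit 78) (Steps.bwd (nat_lit 3) (Steps.fwd (nat_lit 2560) (Steps.fwd (nat_lit 2048) (Steps.bwd (nat_lit 5) (Steps.bwd (nat_lit 3) (Steps.bwd (nat_lit 5) (Steps.bwd (nat_lit 3) Steps.nil))))))) (nat_lit 10) (nat_lit 0),
  Rule.mk (nat_lit 3) (nat_lit 78) (Steps.bwd (nat_lit 5) (Steps.bwd (nat_lit 3) (Steps.fwd (nat_lit 2560) (Steps.bwd (nat_lit 3) (Steps.fwd (nat_lit 2560) (Steps.bwd (nat_lit 3) (Steps.fwd (nat_lit 2560) Steps.nil))))))) (nat_lit 10) (nat_lit 1),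
  Rule.mk (nat_lit 1) (nat_lit 178) (Steps.bwd (nat_lit 4) (Steps.bwd (nat_lit 5) (Steps.bwd (nat_lit 2) (Steps.bwd (nat_lit 4) (Steps.bwd (nat_lit 2) (Steps.bwd (nat_lit 5) (Steps.bwd (nat_lit 4) (Steps.bwd (nat_lit 1) (Steps.bwd (nat_lit 5) (Steps.bwd (nat_lit 3) (Steps.bwd (nat_lit 5) (Steps.fwd (nat_lit 512) (Steps.bwd (nat_lit 3) (Steps.fwd (nat_lit 2560) (Steps.bwd (nat_lit 2) (Steps.bwd (nat_lit 3) (Steps.bwd (nat_lit 5) Steps.nil))))))))))))))))) (nat_lit 15) (nat_lit 13),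
  Rule.mk (nat_lit 3) (nat_lit 78) (Steps.bwd (nat_lit 1) (Steps.bwd (nat_lit 4) (Steps.bwd (nat_lit 1) (Steps.fwd (nat_lit 2048) (Steps.fwd (nat_lit 1024) (Steps.bwd (nat_lit 3) (Steps.bwd (nat_lit 1) Steps.nil))))))) (nat_lit 4) (nat_lit 6),
  Rule.mk (nat_lit 3) (nat_lit 78) (Steps.bwd (nat_lit 1) (Steps.fwd (nat_lit 1536) (Steps.fwd (nat_lit 1024) (Steps.bwd (nat_lit 3) (Steps.bwd (nat_lit 1) (Steps.bwd (nat_lit 3) (Steps.bwd (nat_lit 1) Steps.nil))))))) (nat_lit 4) (nat_lit 6),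
  Rule.mk (nat_lit 3) (nat_lit 88) (Steps.bwd (nat_lit 3) (Steps.bwd (nat_lit 5) (Steps.bwd (nat_lit 3) (Steps.bwd (nat_lit 3) (Steps.fwd (nat_lit 2560) (Steps.bwd (nat_lit 3) (Steps.fwd (nat_lit 2048) (Steps.bwd (nat_lit 5) Steps.nil)))))))) (nat_lit 12) (nat_lit 1),
  Rule.mk (nat_lit 5) (nat_lit 78) (Steps.bwd (nat_lit 3) (Steps.bwd (nat_lit 5) (Steps.bwd (nat_lit 3) (Steps.bwd (nat_lit 5) (Steps.fwd (nat_lit 2048) (Steps.bwd (nat_lit 5) (Steps.bwd (nat_lit 3) Steps.nil))))))) (nat_lit 10) (nat_lit 0),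
  Rule.mk (nat_lit 1) (nat_lit 78) (Steps.bwd (nat_lit 3) (Steps.bwd (nat_lit 1) (Steps.bwd (nat_lit 4) (Steps.fwd (nat_lit 1024) (Steps.bwd (nat_lit 3) (Steps.fwd (nat_lit 1024) (Steps.bwd (nat_lit 3) Steps.nil))))))) (nat_lit 4) (nat_lit 5),
  Rule.mk (nat_lit 4) (nat_lit 78) (Steps.bwd (nat_lit 1) (Steps.fwd (nat_lit 2048) (Steps.fwd (nat_lit 1024) (Steps.bwd (nat_lit 3) (Steps.fwd (nat_lit 1024) (Steps.bwd (nat_lit 3) (Steps.bwd (nat_lit 1) Steps.nil))))))) (nat_lit 4) (nat_lit 0),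
  Rule.mk (nat_lit 1) (nat_lit 38) (Steps.bwd (nat_lit 5) (Steps.fwd (nat_lit 512) (Steps.bwd (nat_lit 5) Steps.nil))) (nat_lit 8) (nat_lit 1),
  Rule.mk (nat_lit 4) (nat_lit 178) (Steps.bwd (nat_lit 1) (Steps.bwd (nat_lit 5) (Steps.fwd (nat_lit 1536) (Steps.fwd (nat_lit 2560) (Steps.bwd (nat_lit 2) (Steps.bwd (nat_lit 3) (Steps.bwd (nat_lit 5) (Steps.fwd (nat_lit 1024) (Steps.bwd (nat_lit 3) (Steps.fwd (nat_lit 1024) (Steps.bwd (nat_lit 5) (Steps.fwd (nat_lit 2048) (Steps.bwd (nat_lit 2) (Steps.fwd (nat_lit 2560) (Steps.fwd (nat_lit 1536) (Steps.fwd (nat_lit 1024) (Steps.fwd (nat_lit 2560) Steps.nil))))))))))))))))) (nat_lit 14) (nat_lit 11),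
  Rule.mk (nat_lit 5) (nat_lit 178) (Steps.bwd (nat_lit 2) (Steps.bwd (nat_lit 3) (Steps.fwd (nat_lit 2560) (Steps.bwd (nat_lit 1) (Steps.bwd (nat_lit 3) (Steps.bwd (nat_lit 1) (Steps.fwd (nat_lit 2560) (Steps.bwd (nat_lit 3) (Steps.fwd (nat_lit 512) (Steps.fwd (nat_lit 2560) (Steps.fwd (nat_lit 1536) (Steps.fwd (nat_lit 1024) (Steps.fwd (nat_lit 2560) (Steps.fwd (nat_lit 1536) (Steps.fwd (nat_lit 1024) (Steps.fwd (nat_lit 2560) (Steps.bwd (nat_lit 4) Steps.nil))))))))))))))))) (nat_lit 14) (nat_lit 15),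
  Rule.mk (nat_lit 3) (nat_lit 78) (Steps.bwd (nat_lit 5) (Steps.bwd (nat_lit 3) (Steps.fwd (nat_lit 2560) (Steps.bwd (nat_lit 3) (Steps.bwd (nat_lit 5) (Steps.fwd (nat_lit 2048) (Steps.fwd (nat_lit 2560) Steps.nil))))))) (nat_lit 10) (nat_lit 1),
  Rule.mk (nat_lit 4) (nat_lit 88) (Steps.bwd (nat_lit 4) (Steps.fwd (nat_lit 2560) (Steps.fwd (nat_lit 1536) (Steps.bwd (nat_lit 4) (Steps.fwd (nat_lit 2560) (Steps.fwd (nat_lit 1536) (Steps.fwd (nat_lit 1536) (Steps.fwd (nat_lit 2560) Steps.nil)))))))) (nat_lit 13) (nat_lit 2),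
  Rule.mk (nat_lit 2) (nat_lit 78) (Steps.bwd (nat_lit 4) (Steps.bwd (nat_lit 2) (Steps.bwd (nat_lit 3) (Steps.fwd (nat_lit 512) (Steps.bwd (nat_lit 4) (Steps.bwd (nat_lit 2) (Steps.bwd (nat_lit 4) Steps.nil))))))) (nat_lit 5) (nat_lit 6),
  Rule.mk (nat_lit 5) (nat_lit 178) (Steps.bwd (nat_lit 4) (Steps.bwd (nat_lit 1) (Steps.fwd (nat_lit 2560) (Steps.fwd (nat_lit 1536) (Steps.fwd (nat_lit 1024) (Steps.fwd (nat_lit 2560) (Steps.bwd (nat_lit 4) (Steps.bwd (nat_lit 5) (Steps.bwd (nat_lit 2) (Steps.bwd (nat_lit 3) (Steps.fwd (nat_lit 2560) (Steps.fwd (nat_lit 1024) (Steps.bwd (nat_lit 3) (Steps.bwd (nat_lit 1) (Steps.bwd (nat_lit 5) (Steps.fwd (nat_lit 2048) (Steps.bwd (nat_lit 2) Steps.nil))))))))))))))))) (nat_lit 14) (nat_lit 7),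
  Rule.mk (nat_lit 1) (nat_lit 38) (Steps.bwd (nat_lit 5) (Steps.bwd (nat_lit 2) (Steps.bwd (nat_lit 5) Steps.nil))) (nat_lit 8) (nat_lit 1),
  Rule.mk (nat_lit 3) (nat_lit 78) (Steps.bwd (nat_lit 5) (Steps.fwd (nat_lit 2048) (Steps.bwd (nat_lit 5) (Steps.bwd (nat_lit 3) (Steps.bwd (nat_lit 5) (Steps.fwd (nat_lit 2048) (Steps.fwd (nat_lit 2560) Steps.nil))))))) (nat_lit 10) (nat_lit 1),
  Rule.mk (nat_lit 2) (nat_lit 78) (Steps.bwd (nat_lit 4) (Steps.bwd (nat_lit 2) (Steps.fwd (nat_lit 2048) (Steps.bwd (nat_lit 2) (Steps.bwd (nat_lit 4) (Steps.fwd (nat_lit 512) (Steps.bwd (nat_lit 4) Steps.nil))))))) (nat_lit 5) (nat_lit 6),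
  Rule.mk (nat_lit 1) (nat_lit 178) (Steps.bwd (nat_lit 4) (Steps.fwd (nat_lit 2560) (Steps.fwd (nat_lit 512) (Steps.bwd (nat_lit 4) (Steps.bwd (nat_lit 2) (Steps.bwd (nat_lit 5) (Steps.fwd (nat_lit 1536) (Steps.bwd (nat_lit 1) (Steps.fwd (nat_lit 2560) (Steps.fwd (nat_lit 2048) (Steps.fwd (nat_lit 2560) (Steps.bwd (nat_lit 2) (Steps.fwd (nat_lit 2048) (Steps.bwd (nat_lit 5) (Steps.bwd (nat_lit 2) (Steps.fwd (nat_lit 2048) (Steps.fwd (nat_lit 2560) Steps.nil))))))))))))))))) (nat_lit 15) (nat_lit 13),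
  Rule.mk (nat_lit 1) (nat_lit 78) (Steps.bwd (nat_lit 4) (Steps.fwd (nat_lit 1024) (Steps.bwd (nat_lit 3) (Steps.fwd (nat_lit 1024) (Steps.bwd (nat_lit 3) (Steps.fwd (nat_lit 1024) (Steps.fwd (nat_lit 2048) Steps.nil))))))) (nat_lit 4) (nat_lit 7),
  Rule.mk (nat_lit 2) (nat_lit 78) (Steps.bwd (nat_lit 4) (Steps.bwd (nat_lit 2) (Steps.bwd (nat_lit 3) (Steps.fwd (nat_lit 512) (Steps.bwd (nat_lit 4) (Steps.fwd (nat_lit 512) (Steps.fwd (nat_lit 1536) Steps.nil))))))) (nat_lit 5) (nat_lit 6),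
  Rule.mk (nat_lit 5) (nat_lit 178) (Steps.bwd (nat_lit 4) (Steps.fwd (nat_lit 1024) (Steps.bwd (nat_lit 5) (Steps.fwd (nat_lit 1536) (Steps.bwd (nat_lit 1) (Steps.bwd (nat_lit 5) (Steps.fwd (nat_lit 1536) (Steps.fwd (nat_lit 2560) (Steps.bwd (nat_lit 2) (Steps.fwd (nat_lit 2048) (Steps.fwd (nat_lit 2560) (Steps.bwd (nat_lit 1) (Steps.fwd (nat_lit 2048) (Steps.fwd (nat_lit 1024) (Steps.bwd (nat_lit 5) (Steps.fwd (nat_lit 2048) (Steps.bwd (nat_lit 2) Steps.nil))))))))))))))))) (nat_lit 14) (nat_lit 7),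
  Rule.mk (nat_lit 3) (nat_lit 78) (Steps.bwd (nat_lit 5) (Steps.fwd (nat_lit 2048) (Steps.fwd (nat_lit 2560) (Steps.fwd (nat_lit 2048) (Steps.bwd (nat_lit 5) (Steps.fwd (nat_lit 2048) (Steps.bwd (nat_lit 5) Steps.nil))))))) (nat_lit 10) (nat_lit 1),
  Rule.mk (nat_lit 3) (nat_lit 88) (Steps.bwd (nat_lit 3) (Steps.bwd (nat_lit 5) (Steps.fwd (nat_lit 2048) (Steps.bwd (nat_lit 3) (Steps.bwd (nat_lit 5) (Steps.fwd (nat_lit 2048) (Steps.fwd (nat_lit 2048) (Steps.fwd (nat_lit 2560) Steps.nil)))))))) (nat_lit 12) (nat_lit 1),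
  Rule.mk (nat_lit 5) (nat_lit 78) (Steps.bwd (nat_lit 3) (Steps.fwd (nat_lit 2560) (Steps.fwd (nat_lit 2048) (Steps.bwd (nat_lit 5) (Steps.fwd (nat_lit 2048) (Steps.fwd (nat_lit 2560) (Steps.bwd (nat_lit 3) Steps.nil))))))) (nat_lit 10) (nat_lit 0),
  Rule.mk (nat_lit 3) (nat_lit 88) (Steps.bwd (nat_lit 3) (Steps.fwd (nat_lit 2560) (Steps.fwd (nat_lit 2048) (Steps.bwd (nat_lit 3) (Steps.fwd (nat_lit 2560) (Steps.bwd (nat_lit 3) (Steps.bwd (nat_lit 3) (Steps.fwd (nat_lit 2560) Steps.nil)))))))) (nat_lit 12) (nat_lit 1),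
  Rule.mk (nat_lit 4) (nat_lit 178) (Steps.bwd (nat_lit 1) (Steps.fwd (nat_lit 2560) (Steps.fwd (nat_lit 1536) (Steps.bwd (nat_lit 5) (Steps.fwd (nat_lit 512) (Steps.fwd (nat_lit 2048) (Steps.bwd (nat_lit 5) (Steps.bwd (nat_lit 1) (Steps.bwd (nat_lit 3) (Steps.bwd (nat_lit 1) (Steps.fwd (nat_lit 2560) (Steps.fwd (nat_lit 2048) (Steps.bwd (nat_lit 2) (Steps.bwd (nat_lit 5) (Steps.bwd (nat_lit 4) (Steps.fwd (nat_lit 1024) (Steps.bwd (nat_lit 5) Steps.nil))))))))))))))))) (nat_lit 14) (nat_lit 11),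
  Rule.mk (nat_lit 3) (nat_lit 178) (Steps.bwd (nat_lit 1) (Steps.fwd (nat_lit 2560) (Steps.bwd (nat_lit 3) (Steps.bwd (nat_lit 2) (Steps.bwd (nat_lit 5) (Steps.bwd (nat_lit 4) (Steps.fwd (nat_lit 1024) (Steps.fwd (nat_lit 2560) (Steps.fwd (nat_lit 1536) (Steps.fwd (nat_lit 1024) (Steps.fwd (nat_lit 2560) (Steps.fwd (nat_lit 1536) (Steps.fwd (nat_lit 2560) (Steps.bwd (nat_lit 2) (Steps.bwd (nat_lit 3) (Steps.fwd (nat_lit 2560) (Steps.bwd (nat_lit 1) Steps.nil))))))))))))))))) (nat_lit 14) (nat_lit 2),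
  Rule.mk (nat_lit 1) (nat_lit 78) (Steps.bwd (nat_lit 3) (Steps.fwd (nat_lit 1024) (Steps.fwd (nat_lit 1536) (Steps.fwd (nat_lit 1024) (Steps.bwd (nat_lit 3) (Steps.bwd (nat_lit 1) (Steps.bwd (nat_lit 3) Steps.nil))))))) (nat_lit 4) (nat_lit 5),
  Rule.mk (nat_lit 2) (nat_lit 78) (Steps.bwd (nat_lit 3) (Steps.bwd (nat_lit 2) (Steps.bwd (nat_lit 4) (Steps.fwd (nat_lit 512) (Steps.bwd (nat_lit 4) (Steps.bwd (nat_lit 2) (Steps.fwd (nat_lit 1536) Steps.nil))))))) (nat_lit 5) (nat_lit 0),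
  Rule.mk (nat_lit 5) (nat_lit 178) (Steps.bwd (nat_lit 3) (Steps.fwd (nat_lit 2560) (Steps.fwd (nat_lit 512) (Steps.bwd (nat_lit 3) (Steps.bwd (nat_lit 5) (Steps.fwd (nat_lit 512) (Steps.bwd (nat_lit 3) (Steps.fwd (nat_lit 2560) (Steps.bwd (nat_lit 1) (Steps.fwd (nat_lit 1536) (Steps.fwd (nat_lit 2560) (Steps.fwd (nat_lit 512) (Steps.fwd (nat_lit 1536) (Steps.fwd (nat_lit 512) (Steps.bwd (nat_lit 5) (Steps.fwd (nat_lit 1536) (Steps.bwd (nat_lit 1) Steps.nil))))))))))))))))) (nat_lit 15) (nat_lit 4),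
  Rule.mk (nat_lit 4) (nat_lit 78) (Steps.fwd (nat_lit 2560) (Steps.fwd (nat_lit 1536) (Steps.bwd (nat_lit 5) (Steps.fwd (nat_lit 1536) (Steps.bwd (nat_lit 5) (Steps.bwd (nat_lit 4) (Steps.bwd (nat_lit 5) Steps.nil))))))) (nat_lit 11) (nat_lit 0),
  Rule.mk (nat_lit 4) (nat_lit 78) (Steps.bwd (nat_lit 2) (Steps.bwd (nat_lit 4) (Steps.fwd (nat_lit 512) (Steps.fwd (nat_lit 1536) (Steps.bwd (nat_lit 2) (Steps.bwd (nat_lit 3) (Steps.fwd (nat_lit 512) Steps.nil))))))) (nat_lit 5) (nat_lit 3),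
  Rule.mk (nat_lit 4) (nat_lit 78) (Steps.bwd (nat_lit 2) (Steps.fwd (nat_lit 2048) (Steps.fwd (nat_lit 512) (Steps.fwd (nat_lit 1536) (Steps.fwd (nat_lit 512) (Steps.fwd (nat_lit 1536) (Steps.bwd (nat_lit 2) Steps.nil))))))) (nat_lit 5) (nat_lit 7),
  Rule.mk (nat_lit 3) (nat_lit 78) (Steps.bwd (nat_lit 2) (Steps.bwd (nat_lit 4) (Steps.bwd (nat_lit 2) (Steps.bwd (nat_lit 4) (Steps.fwd (nat_lit 512) (Steps.bwd (nat_lit 4) (Steps.bwd (nat_lit 2) Steps.nil))))))) (nat_lit 5) (nat_lit 1)]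
noncomputable def R_3 : List (Rule) := [Rule.mk (nat_lit 2) (nat_lit 78) (Steps.bwd (nat_lit 4) (Steps.bwd (nat_lit 2) (Steps.fwd (nat_lit 1536) (Steps.fwd (nat_lit 512) (Steps.bwd (nat_lit 4) (Steps.bwd (nat_lit 2) (Steps.fwd (nat_lit 2048) Steps.nil))))))) (nat_lit 5) (nat_lit 2),
  Rule.mk (nat_lit 1) (nat_lit 178) (Steps.bwd (nat_lit 4) (Steps.bwd (nat_lit 5) (Steps.fwd (nat_lit 512) (Steps.fwd (nat_lit 1536) (Steps.bwd (nat_lit 2) (Steps.fwd (nat_lit 2560) (Steps.fwd (nat_lit 1536) (Steps.fwd (nat_lit 1024) (Steps.fwd (nat_lit 2560) (Steps.fwd (nat_lit 2048) (Steps.bwd (nat_lit 5) (Steps.fwd (nat_lit 512) (Steps.bwd (nat_lit 3) (Steps.fwd (nat_lit 2560) (Steps.bwd (nat_lit 2) (Steps.bwd (nat_lit 3) (Steps.fwd (nat_lit 2560) Steps.nil))))))))))))))))) (nat_lit 15) (nat_lit 13),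
  Rule.mk (nat_lit 1) (nat_lit 78) (Steps.bwd (nat_lit 4) (Steps.bwd (nat_lit 1) (Steps.fwd (nat_lit 2048) (Steps.fwd (nat_lit 1024) (Steps.fwd (nat_lit 2048) (Steps.fwd (nat_lit 1024) (Steps.bwd (nat_lit 3) Steps.nil))))))) (nat_lit 4) (nat_lit 7),
  Rule.mk (nat_lit 2) (nat_lit 78) (Steps.bwd (nat_lit 4) (Steps.fwd (nat_lit 512) (Steps.bwd (nat_lit 3) (Steps.bwd (nat_lit 2) (Steps.fwd (nat_lit 1536) (Steps.fwd (nat_lit 512) (Steps.bwd (nat_lit 4) Steps.nil))))))) (nat_lit 5) (nat_lit 6),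
  Rule.mk (nat_lit 5) (nat_lit 178) (Steps.bwd (nat_lit 4) (Steps.bwd (nat_lit 5) (Steps.bwd (nat_lit 2) (Steps.bwd (nat_lit 3) (Steps.fwd (nat_lit 2560) (Steps.fwd (nat_lit 1024) (Steps.bwd (nat_lit 3) (Steps.fwd (nat_lit 1024) (Steps.fwd (nat_lit 2560) (Steps.bwd (nat_lit 3) (Steps.fwd (nat_lit 512) (Steps.bwd (nat_lit 5) (Steps.fwd (nat_lit 1536) (Steps.fwd (nat_lit 1024) (Steps.fwd (nat_lit 2560) (Steps.bwd (nat_lit 4) (Steps.bwd (nat_lit 1) Steps.nil))))))))))))))))) (nat_lit 14) (nat_lit 13),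
  Rule.mk (nat_lit 2) (nat_lit 78) (Steps.bwd (nat_lit 4) (Steps.bwd (nat_lit 2) (Steps.fwd (nat_lit 2048) (Steps.bwd (nat_lit 2) (Steps.fwd (nat_lit 1536) (Steps.bwd (nat_lit 2) (Steps.bwd (nat_lit 4) Steps.nil))))))) (nat_lit 5) (nat_lit 6),
  Rule.mk (nat_lit 5) (nat_lit 78) (Steps.bwd (nat_lit 3) (Steps.bwd (nat_lit 5) (Steps.bwd (nat_lit 3) (Steps.bwd (nat_lit 5) (Steps.fwd (nat_lit 2048) (Steps.fwd (nat_lit 2560) (Steps.fwd (nat_lit 2048) Steps.nil))))))) (nat_lit 10) (nat_lit 0),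
  Rule.mk (nat_lit 3) (nat_lit 178) (Steps.bwd (nat_lit 2) (Steps.fwd (nat_lit 2560) (Steps.bwd (nat_lit 4) (Steps.fwd (nat_lit 1024) (Steps.fwd (nat_lit 2560) (Steps.bwd (nat_lit 4) (Steps.bwd (nat_lit 1) (Steps.fwd (nat_lit 2560) (Steps.bwd (nat_lit 4) (Steps.fwd (nat_lit 2560) (Steps.bwd (nat_lit 2) (Steps.fwd (nat_lit 2048) (Steps.bwd (nat_lit 5) (Steps.bwd (nat_lit 1) (Steps.fwd (nat_lit 2048) (Steps.fwd (nat_lit 1024) (Steps.bwd (nat_lit 5) Steps.nil))))))))))))))))) (nat_lit 14) (nat_lit 5),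
  Rule.mk (nat_lit 4) (nat_lit 178) (Steps.bwd (nat_lit 2) (Steps.fwd (nat_lit 2560) (Steps.bwd (nat_lit 4) (Steps.fwd (nat_lit 1024) (Steps.fwd (nat_lit 2560) (Steps.fwd (nat_lit 2048) (Steps.bwd (nat_lit 5) (Steps.bwd (nat_lit 2) (Steps.bwd (nat_lit 3) (Steps.fwd (nat_lit 2560) (Steps.bwd (nat_lit 2) (Steps.fwd (nat_lit 2048) (Steps.bwd (nat_lit 5) (Steps.fwd (nat_lit 1024) (Steps.bwd (nat_lit 4) (Steps.fwd (nat_lit 2560) (Steps.fwd (nat_lit 512) Steps.nil))))))))))))))))) (nat_lit 15) (nat_lit 17),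
  Rule.mk (nat_lit 4) (nat_lit 78) (Steps.bwd (nat_lit 2) (Steps.fwd (nat_lit 2048) (Steps.bwd (nat_lit 2) (Steps.bwd (nat_lit 4) (Steps.bwd (nat_lit 2) (Steps.fwd (nat_lit 1536) (Steps.bwd (nat_lit 2) Steps.nil))))))) (nat_lit 5) (nat_lit 7),
  Rule.mk (nat_lit 3) (nat_lit 78) (Steps.bwd (nat_lit 2) (Steps.bwd (nat_lit 4) (Steps.fwd (nat_lit 512) (Steps.fwd (nat_lit 1536) (Steps.fwd (nat_lit 512) (Steps.bwd (nat_lit 4) (Steps.fwd (nat_lit 512) Steps.nil))))))) (nat_lit 5) (nat_lit 1),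
  Rule.mk (nat_lit 3) (nat_lit 78) (Steps.bwd (nat_lit 5) (Steps.fwd (nat_lit 2048) (Steps.fwd (nat_lit 2560) (Steps.bwd (nat_lit 3) (Steps.bwd (nat_lit 5) (Steps.bwd (nat_lit 3) (Steps.fwd (nat_lit 2560) Steps.nil))))))) (nat_lit 10) (nat_lit 1),
  Rule.mk (nat_lit 1) (nat_lit 78) (Steps.bwd (nat_lit 3) (Steps.bwd (nat_lit 1) (Steps.bwd (nat_lit 4) (Steps.bwd (nat_lit 1) (Steps.fwd (nat_lit 2048) (Steps.bwd (nat_lit 1) (Steps.bwd (nat_lit 3) Steps.nil))))))) (nat_lit 4) (nat_lit 5),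
  Rule.mk (nat_lit 5) (nat_lit 78) (Steps.bwd (nat_lit 3) (Steps.fwd (nat_lit 2560) (Steps.bwd (nat_lit 3) (Steps.bwd (nat_lit 5) (Steps.bwd (nat_lit 3) (Steps.fwd (nat_lit 2560) (Steps.bwd (nat_lit 3) Steps.nil))))))) (nat_lit 10) (nat_lit 0),
  Rule.mk (nat_lit 4) (nat_lit 78) (Steps.bwd (nat_lit 5) (Steps.fwd (nat_lit 1536) (Steps.fwd (nat_lit 2560) (Steps.bwd (nat_lit 4) (Steps.bwd (nat_lit 5) (Steps.bwd (nat_lit 4) (Steps.fwd (nat_lit 2560) Steps.nil))))))) (nat_lit 11) (nat_lit 0)]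
noncomputable def R : List (List (Rule)) := [R_0, R_1, R_2, R_3]
def LW : List Word := [[], [0], [1], [2], [3], [4], [0], [1], [2], [3]]
def par : Par := ⟨9, 4, 13, 22, 511, 8191, 4194303⟩
theorem hpar : par.ok := by decide
theorem hR0_0 : lall (R) (fun l => lall l (ruleOK rels LW par)) = true := by decide +kernel
theorem hR0 : lall (R) (fun l => lall l (ruleOK rels LW par)) = true := hR0_0
theorem hR : RulesOK rels LW par R := rulesOK_of rfl hR0
def cols : List (ℕ × ℕ) := [(512, 2), (1536, 4), (2560, 5)]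
theorem hcols : lall cols (colOK rels LW par) = true := by decide +kernel
noncomputable def JS0 : List ℕ := [nat_lit 0xf73d8f5143e8fb05809410123d8f5153e0f73d850fb3f10d41409428f73d84cf93e0f7023ecfa3e40800050fc124290e0541642cfb3e844ff3ec10003ec18014110b00d0b028fb10018053e808003f0fa0f3e8040381000108404380400034003ec003e8300d410f83dc0102c0d3e82c034140d419033dcf60a0250503105408f63d424f73d810013e4f7083e4f604000f6063e8f73d804033e8f707000f6063e0fa3d804f73f0fd010fd3ecf6053e0f704000fa3ec02008fb3e4f8033e4f83dc08f9004f901,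
  nat_lit 0xd030641103064191e0dd200311440c940046c0408d294510224468030892806c0c4088d0700474070007c1b00904220300120004001f068fe3f406055220700a2102001203f8001f04c0201078fb00474030003505000f73e1100a512008700e46c290a10f3dcf61b004f93dc20f93d810003d8190c3dcf6010010e4411d06d0d3dc68f7000f61403c1444d0d040f600064f542d0d4681103cf518428f73d45c003d018f5034f416028f73d41c003d018f5420f401,
  nat_lit 0x105064181d414040041d3610026104124500f475261084008d33481052e41910414040b42d06070110506429074141c0041019050090401001064cc4e1494e53c571585753d4d515444c401410b50541d0401429050400d0504419050402035074370592a414b0004b54012c470c9042b4b13f128464a905410a8050c81a0d0134a10429435164b84750145131461344e51945124454ac02410a107005032740d0204004004089c0049c41115415084a12542121414f93a4a807011022640d020442d0540c5c00408190302502160090540c1c00408190342d020142903040450304,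
  nat_lit 0x34574771c5534550e3d4340a43404014750d080090c044350c060011a4301c0e438040150f15d0c3c0011242c3c084585644c0a0050b0a42d0a040010b444ec004285243805445093a424514340444852424e4014410908009080442508060010d4201d0d1350a0050a131083842000420bd070000c44d344b0284942208d4a191605554112d08370284b17c5c4fd07418d90b42507024594455c564f90841cd526521595453d425083442d2d424cc004ad081600109098c9084f1515595b18d5d190655755c55c5e511224810731428344e4440b0480841e4711b060470b0464f010420c10c03d072f4291441805234210607,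
  nat_lit 0x4a5e4655d86046117504607446005181d918015187e628885b92a4613d1703917160040245ccc03011164e45c024585c024553418065295a56b20d85620916258b5f5681c802001154c005665ec895b539454fd160112003d20479154b0311c451280645514120012502d24184a86d1a15f1a80444d211b0280d1ac08011124701113448cc0500911464695c0000101468469140001067024060255b444410f064400143c5c17078300c4324410f43001581c87f5913743d09571c4785691c0440043d051a0110f27008605556a5c1721992e09c264b043531441050f00100015556a5d1645110e3f4343f0d0364ed41434610f4390d144751f5546d1b1524390d3e,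
  nat_lit 0x10190747e61d8148d892b031223b0056c1996b075334898523044135b46d5d922600200a4840800005215f04c171e1801e52648579294ad7d1e97a019205d0052347c2121479711f47819565e98b20d9626883254981a56b199745d8024811e5b4791f4745d646387b25c700011d5a470005b18f2a9921bd656b638a9641744751b58479221255219d1c46d5c034791c560011b044700246ccd685c95211d504751b550011b060056c5fc6f6085646d500801d1a02015204683c014711a08475190400119064691b46404461454b1114a0011953464011317b19d77591484d208965e0614651851,
  nat_lit 0x2440c4b928074d1355041b6292e7201931011490ac984b9c40c6552d4a0052f4b5c1304b018014b0102851d4b5454f4b4014b1bc024b52b33000334acec7a1f981049384b12b6e00002004874e8164adb40709d2b126245214c52628024adb0044ad2a17005294d0012d025302308120dac030012833001296a0001f0713605c6549da53b0801204c1506d3a0853d1e17500c044ad290012768000465584917d6a49d9d544a927020002b49c3d71680aa2b1884a12766498004980526208771e57e6112665010024989d26494116e1ac6707c1e49d25640000349020045c99c224a51f92463,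
  nat_lit 0xa5100d0541852d3e894f4154f404495a04b2edbe6207a1e5891f19221d9823d410213d88008074f01c034ec18042745d1785d25d3b874f48b2359f26c974ea1802684a62b8285493a8500d761807b550294e611995453812679a935de3784e6764d263c832093f0253b4e8004e20c00179751b87e63d38825cc004e2048d655ae224764ed3880018054dc9c00004575bd70651b62c9b02b141028094f977199377f4d9755e05d5c9744d9953600135125c97016d6e5ad35001f9345a85831c59151347d000010200902ca86b1cc771df375bf3257e1c17c4d1f00001d3a248801e5347b4dd714d1280067c155040b009347a19d344cd7d341796f180715d533794d8a1014004c8664c9e0042819d67064195317701534689a4320ab715c674cdb339b42f85759c554c5d932228781c4595a530754c58f0e1510540f4c1d0030453e0693e03d2f73,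
  nat_lit 0x5400053c50ab255510040321ca053e6d4e281b07c1be6b54e9a0000400a654f75dbe2d8285854d9820d63530514e0195130da16814c975888f52d2801711f13e9f67554b965ccad5297cab52d4a5f0200a6e8b37a8f5380fb81a03405e979dae291ad52a557263da0249b06c54994528bc66999224a15211549700bd301ba2bd520501554d6b1096f12d7112148930541a2cc731d16f51e48b00154811848119469151d454d51d48028691a8b2516415c2d5445f0096e1344f6e8b00d55f0cc370e43a5a56b110425123c0f52ca710843105438e2a8a5298411084050a3445001423b6ccb02b06418c0450a3000009410800c9e580380c42d5062c540ad4081005a5319c056c2e501b5675653f12130034fe049f758e1390b50613f8a,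
  nat_lit 0x1660415a0f0009968c7a03d5d56aac96209a42380a5846156aa95f0248d68c770355aa958c0e564bc005655816004025695d1758b1885b160597e5fb674791d00a562a00b55d34005615b16c5c638791d8787edf55ad660480957d57a70055955dc0035593400558100200556a600002710c93b086682940170cc83ad8961155a4000b570d0d7f9aa5568cb4709c92fd580040a55688010000a060d51ad90a102417350255695400281540008e69d0484200721c72f9700dd6c5a958011539f69903421c52ed5454e78010f954070f9534d5b953040042354c1c205481960548100101d5208025515c0195106004a35a8355acae546740028db37cdbf6dd509c,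
  nat_lit 0x145d96b8100c010dc5766049129bd768d17b23090d354d1d85af096d088255fd822f96ac10d4572b8295f56d5ab00a5208810216e00d69bf5a4015a05d790b4bb0b41d5a568be000085b4305fd765a19c005a5680f0000429c9d2780701af4045acda360350d033614e33957e0a1730602007967bc5a42d13ca60857559aec082e0bc7902307565ba1e1a61f0f78049f279bc1e5a66a18f1397e59c02596e4a2708a97e5f7141901a069821042809a2640200564b859163040040258c2096255b52241f5d42658edd645e1926358b5e56290005c9738bb34cd158ad97106d611471dcc735ce0016207d61b500162364d12e1cc736d00358c8322dae808fe805048210a7a8e01545607960b30100100d750b97157ec963660707c5910715eb157d621a870674ff80e258da394de19491e4358d557ac0045c43c3acda7755daf0556c57204015747d21c9b0115cae0000256eb40157464198672288821c956c0947f5002047e6895bac,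
  nat_lit 0x17c22cef3c1061697bcf5edc037ce13e9a95eaa57916579015e4895e40403674471419b11179ce0001500c0502c405e33580661775f00192061810297a5dde8455e97614054142e0b63257a5d84438604190709302975cc00c045d0cc0601d7346098286699f375775cf2c32652036d59501d72ca5c8035c45c035c018330c579018055d4c97893f54639384e03697300570c9038055cc3e1edb13da05810e67c5f037cd95c8005bf21717a8da502357856fc70043b6c210309da5bf19810996e125ec195b83c030202860433274a228d1a87996118451258c0dd6ec5025755ddf26a8385b710036319e681a562d6cc3]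
theorem S0_c : blocks (facts 9 4 13 22 511 8191 4194303 10 1023 8 255 A R 32) 32 JS0 505 = true := by decide +kernel
theorem S0 : On (Step.{u} rels LW par A) 505 889 :=
  steps_of_blocks hpar hR S0_c (by decide +kernel)
theorem D0_c : allB (defOK 9 13 22 511 4194303 504 A K) 2 2 = true := by decide +kernel
theorem D0 : On (fun r => defOK par.W par.WL par.E par.mW par.mE 504 A K r = true) 256 512 :=
  On.of_allB D0_c
noncomputable def JW0 : List ℕ := [nat_lit 0x15d43494efd9582b27e8ab9562c3972a6163cbf5248fd604868912b941c545891a22d4b48d8b0a5629e58d2c94646097719135ac98ed2a61c2bd9467cd5bc7c982a26412cb9252960e2b956b27a65cab884afd5dc9c5a131566a915d32c26dcdd96cbb6624c7516bc25e4e1950b92644a299ab4e71cc25e729267ad5954b6e684e559ebbd742e35d53716ccd89cebdd7aafa9dab7178ad75f138a694e89c93be6f4e65fb3aa79cf05ff3c980302,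
  nat_lit 0x21eb6c43e869b021c8828b9049ff8770a90236240c82e13a0c442845113f7624715fab4a3868f87fc4d89d239514503629fa24c0046f1114248d468fca45c552e291e251bf4b51492f4668b68b527c5c35e95926a628c5185cb2554931ad3045e312961352018dc9b52ea6e4ce67e3a41e85a8621b21444c754ec1d63e304cf5c7d6d09d538bda9131e943a819070593da777909f2404909087e4fe1f67f1068f3ab43b72861e43f85d10115c20,
  nat_lit 0x8e11a6ad1147ea3046b11d19bde7ce6b5f71bd7e0f04b79738968e11d45322a8f4688d419b175292517d8701f43e07ca6ad260f18b2474960ad4906ee2bc5f6e092dbf13025c9b239c704cc56d3418579a5fccc99a7af07dcd20386e8a1121f542d0a0ea11939a73891bfd3e1044f29f4804770f612581a340690c94e044e3cc7b3529cde03c32e89d9d147f7b0675e817d30460240a654f27e0b69fa7f2718e49fe831052041e9816fea029d1,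
  nat_lit 0xc23cb78c660cb3d5264e609b116712e188bb8b22273ce93ff266e749d1ed6cd03c8f38f240c19c892616ed31af8c71942ec8738521255dd8ba67c25a5ee14428c4d5ec9a032a640c71922f85e9e217731461c9e14027c5adde95f1b2efdb94090d8789fd84139477a039e01b0da86b21b3df0c4b53bb770815c94231783005f3041843110532c84a881a94333be83d09351150d001930a04a0ed8d84213cc21a237f20040e278e148314522243,
  nat_lit 0x748ee1ca574ac96760a038088660d0ca037b330e8d405208f67a2184408d09a22c19b1706a0540e01a0560c188b0d0400881d31907c1399084509607d8f89f1402540a01802cd1c178981262444b0dc1bcdbc740ec1c64a1b238c156cb8570f96fa3d5da3b72caf7c7b9a620ee0c8610f1d642c5b0791703186735c27ae84a13ed1f66dcd918d36868de73e31e4dd1ad12972a4a8550396aaea0aa3ad7deea8dc8dd1cc36dda9612c4571cf3b3,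
  nat_lit 0x1fd9c871668cec418540a6160308620ae1542d05e0c01459307e66e1dd9a87a0f8cf1a78a61180a59f82a04cc3d8631505a13d9183d0941198eb46136270493246862c1953591e6de4598f86f6dd8588811685201bba5366215f5b0701a04c83104702559d794b292d20a61a20ba690a2952272ea4a7150322125e99761445e0373310e419c35065]
theorem W0_c : blocks (rows 9 4 13 22 511 8191 4194303 11 2047 33 A 889 243 cols 42) 42 JW0 0 = true := by decide +kernel
theorem W0 : On (Row.{u} rels LW par A 889 243 cols) 0 252 :=
  rows_of_blocks hpar (by decide) hcols W0_c (by decide +kernel)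
theorem idx : Idx.{u} rels [[0], [2], [4]] [[0], [2]] 243 :=
  idx_of_cert hpar hR (K := K) (by decide +kernel) (T := 504) (T' := 512) (by decide) D0
    (subs := [1,3]) (by decide +kernel) (T1 := 505) (by decide) (N := 889) S0
    (by decide) (n' := 252) (by decide) W0 (by decide +kernel) (by decide +kernel)
end T1
theorem b1 : Bound.{u} rels [[0], [2], [4]] 11664 := .of_idx T1.idx b2 (by decide)
namespace T0
noncomputable def A_0 : List (ℕ) := [nat_lit 0x2f550940d0fc298ce93a588a3f58a8414cda2dd869270c6c3f10ee3c90bf2fd4633098644448d343cceb4248f73b50f73dd0f03e0ca42d10611894282f988c4208f53d58c9380cb31b182d2518413210d53f8ca91794272cc8b63490991c94673694752a4cde27508334586b1f503933c4eb3acc8d2c8c6016c4272c50601804281850b522906d2d985c2d505c1708271f98851b54861b90cd1bd42e1a442d3308c91ad42d2198d03404d334d08d23449e1cc8314384ca31c87439888530d47a33986a31546635447521508f3508ca1d887736c4781e0c6a1a8ccd33589344c4f03c04ee3b98953110d83608d9418cb82e0c992644931414201d1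4312544dd374498364cef3bcc98260c9324c4de37987a1e90384a947c4a54771dd09e2784ea3a90a42904534084dc3704ab2950fa3e84ac2a04a729c4544a181720c83a49d5260e94170e452649841749581649092248d4344894160d44341ed0340d0416304ce430186339088138c88037d07c2048ba1f18702e98ca39cc893a18e238907f3850872b845821c8b02bd4582010b02c185923d83f1fd83e0dd84522103b0e14592088840ec4842114441d509609d05d0a100f2b505615982417485a0b90120b505a16989716502616184409980e2b10552ad0652448411e484232906832509b26d84a248c4110884710484812101c11d09725c84f19582a13d02108500c080c0c19102923043d18d04611881f25849019d02b1990902418430f501810181913982248542c13501f22484c0f0c1813102f07d80b14cc220c8c490c4c15150c2308844948081a12444307180a0bc81847d51c0694430a58551a045547881515443310cc570cd4150614080ad8100d901705d008058c0847451c47040815d8250b181108d80d0558070c144b1c044512d0711c483f0fc84409540e0f8c1911501b11102a0a884a12942407541e07900b05141304cc0704980603d80509080e04100a03900546c51a468c0503180306c80b06540902d40302840902440302180204480703540501d40201840501440200cc04010c02008c01464518460401005800,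
  nat_lit 0x3004c0390cc02e88e437c8e32008df2bd0df0dc87c1f087f1fc8373888e23848e12050372c10812e8c7c2bccba39c4e7230ce73a0c8c3a04e8224ce821d0e22b98711fd0e121d4ae23c4ae2bc88723c8582c08af0dd08023d4b02218882214880ed088220488209838208c820fd4820ec8821c543b210c8415907503d0271750282590ad1588260ac8561758921754560d885d16902e04902d16883609945a09882b13905916104e0990581950ac1550ab12089111c87926d0ca1a10c926c85726c46524949b25c49213c892108c92068c4208482106904125d04807104715d49719445713d4650d984f08104f08082019046411906413448c0f444d0a506318c46311981b1258962594461008461384962410670ad06624044e07c84010149002080f04840f03c11c0608290bc4290a411f0f104010103d0bd8680b14681a012108c82c05442c0b011e07d44e0bd9210bd04d0f088913083c0bd41247081202041204811d07d04c08cc53054c32124c3108940c07080c06840c030120088c5448142210c42207092006881c07144947542f47c82f06091f02581a03d4294794680cc46808c91e05482308d4550b0c330ccc430618330d942b05903602051d0b10571c50301c0c3004d8300c083012cc701c14700f847007584b12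c44b110871064c3f09503f0f90250a84251288250f943e11443e1154450a904506d04404142a07504a078c4a07881e07481d02d01d09101404d02404c813050814029011018c1101500d024c0d04411b03411a05181e01cc1404082403881001901002500e46900902911b018d1b02941b06481b02c81900c40a01941103481101c80d008406004c03011804004801004118004119010404005404004519001400000c000004001494a328185045911745d50c430cc6434d133184ed26984822d0d735d8733c55074518e141d1154558e73ed4a52ecca328d8f33d88bd4014e24489093fd4e72a84fd4058b53e54a4238cbc2f18e33b04f44105103958a13cd09f27d0513d111042ccbf17d8272e44b4358c7332d9104410e94290de2890791454212854f7,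
  nat_lit 0x408d052dc8ce2dc46c2dcce0178cb73c989c2d489c13149c22849c29d8fc3c94fc3090f23058bf2fc8bf3084c23014c24458d2368d1140911138d51134091143c8f842590f34cd0f3b91093118ed2514ed3e18f72d14f829ccf81710b42f90622018624210be4218cc3815083449083d48d12c94f53808b21f48e01b04ce33d46c2504ad250cdd320c943204d919d8c83f94c83604c82b18fe3bc4fe4188fe2e185e2ccc5e2c445e1f885e2cd85b3914b31b94d22188d21bc4d24190d21c98d5351072330c721cc4720c48723e88da4198da2b04da2a58891514a92744a929d49d13189d2b909d1f54d133d87d2c887d0d507d1ad0cf438ccf2c98eb3394eb16ccb22c545b2c4c5b17045b18186d3998b11f84b11844601b98610a0461228c690f148a2d448a36d0ce3150b636ccb62054b62254b51f945c0d4c7e0e507e1b846d0b886d0b846e1e106e1bd8d321846f31d06f30cc6f3314691a84691d8ccc1ac8cc34106b32486b23d0860e8c8639190e4390d037d4d01914c12014d32358a40f548d3a848d31d8d827907331d47339950e35050e3990c719c8c730d0e62e08e62b58910d58350818200e58842bd8831a882d2058d43c189805981605812505d83b0ec1280a182e21d83a1dd47b0e107b36c87b1e047b0d18341f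14341ec1291e8c340d547f0d012a0594371fc1241f01230dc1220e90850e885920c45916412705c8380e44380e01263104c31988c32958ea1e88cd1e84c5314cce2658c53348c53554ac19c4741984c4374cd51d58312148b83514851d90d436d9021d984236d4760c88764a44db3854e83a8ca70c84771e05293759133718780c947832546a3114cd3715133b85132ad4f04094ee2550c41d0cd83bd4d84184ef3655063294b8121499378499244c501e50501408501e58321d18d9254c741094952604951e54dd24ccd93e98ef11d4981054932454de4a907a4a512a4a992a2798530e112911d87713549e2314ea2944a42ac5022a10dc294cdc14c4a52a0cfa1504a80e548349c8830e892705c4390d55244889230584352ad87b3044c138ccc1300ce3,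
  nat_lit 0x148c520858521488523d4ca02808a02ed0a02814a045851640191645d11645151643591745c91743190c43050c44cd0c43550d318d0d43450d3198662694c640c4c62688ad2684943c509a22cc9a0f188b2a148b27488b2a448b35c87535c4d53c4cd73e94d73d98f14284f13948f14505143ed11441cd144405072e59074109074545153ecd1545551542d8fb2984fb3e48fb37d8bb1814bb1888bb2f04bb28c4a33d50a32f0cf63450f64494f62848f64491002a8d004009003599123fd1123dc9123fd8ff2a90ff3fc8ff2a98544054aa3f04aa3c85014044e93e5101410d013b10f93b18f92988f92f848e3b148e0f588e344c8e27c88e2f08621854bc4110ec42c4ec4118b439550439450a20d0e52b8ce53cc4f32894f32850f32f889f13589f3d149f42c8f42998f42990f42f950b308d0b17c8b317c4b627105f2e4c5f2e945f1b0cb93594b932c4b93e08d643c4d61dccd632c8b41b50cb1a4ccb43d4cb4295102f590a3f910a1458a22884a22450a2284c511448512f48a11890bd420cbd40c8ed30d9032b550342510314d4a63a44f23f54e93f44fc3b4cfd3c10fd3819052dd50533c9053ac505]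
noncomputable def A : List (List (ℕ)) := [A_0]
noncomputable def K_0 : List (ℕ) := [nat_lit 0x855e47edf786d9a849ee7be187a60a831f687db46a1b37c20f7659f7f181609c18358861d805fde8619a56a99c6e5df6a5b1882066f5bb719e1771c7769bf6d9ca81561581e570a236f9b2701f4629897d5eb7fe108698381daf7e5d2745ed789d87597a5f17e5b9655921477999661fd66d9e866028022882da0775f857e226b9a7565506ade66995e58d4d5e61171553885d351d765f5c86f172659746157b5e1cf76d84631a4589b8685ba5c5ac711e049126731cd739e7725b772d3753d4e56154549ec751d5821e35b1d075d695a1674ad6d4d54050e29805ad55d4a521454951d4f55b569514811f4d15d5714b48d21531465cd9464d755dd306358b4cd42505274ed6b5a92a4c51e4e16f5c166489164a53f559555111b4713c4413943d324bd2e4a11a465184291545d14425114390d4310b42107419044150340000,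
  nat_lit 0x1a368997655926459063d8e5253e4e9364b52c44d124090189a278721e6d6167ce047c9c389225826037c5ea875b07ea0e7f99d84e17]
noncomputable def K : List (List (ℕ)) := [K_0]
noncomputable def R_0 : List (Rule) := [Rule.mk (nat_lit 1) (nat_lit 31) (Steps.bwd (nat_lit 1) (Steps.bwd (nat_lit 1) Steps.nil)) (nat_lit 0) (nat_lit 0),
  Rule.mk (nat_lit 5) (nat_lit 97) (Steps.bwd (nat_lit 3) (Steps.bwd (nat_lit 3) (Steps.bwd (nat_lit 6) (Steps.fwd (nat_lit 5120) (Steps.bwd (nat_lit 1) (Steps.bwd (nat_lit 3) (Steps.bwd (nat_lit 3) (Steps.fwd (nat_lit 6144) Steps.nil)))))))) (nat_lit 20) (nat_lit 5),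
  Rule.mk (nat_lit 1) (nat_lit 97) (Steps.bwd (nat_lit 3) (Steps.bwd (nat_lit 3) (Steps.bwd (nat_lit 6) (Steps.fwd (nat_lit 5120) (Steps.bwd (nat_lit 3) (Steps.bwd (nat_lit 3) (Steps.fwd (nat_lit 6144) (Steps.bwd (nat_lit 5) Steps.nil)))))))) (nat_lit 20) (nat_lit 1),
  Rule.mk (nat_lit 0) (nat_lit 53) (Steps.fwd (nat_lit 1024) (Steps.bwd (nat_lit 5) (Steps.bwd (nat_lit 1) (Steps.fwd (nat_lit 5120) Steps.nil)))) (nat_lit 8) (nat_lit 2),
  Rule.mk (nat_lit 0) (nat_lit 42) (Steps.bwd (nat_lit 1) (Steps.bwd (nat_lit 0) (Steps.fwd (nat_lit 1024) Steps.nil))) (nat_lit 26) (nat_lit 0),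
  Rule.mk (nat_lit 2) (nat_lit 31) (Steps.bwd (nat_lit 0) (Steps.bwd (nat_lit 1) Steps.nil)) (nat_lit 26) (nat_lit 0),
  Rule.mk (nat_lit 6) (nat_lit 64) (Steps.fwd (nat_lit 5120) (Steps.bwd (nat_lit 6) (Steps.fwd (nat_lit 5120) (Steps.fwd (nat_lit 6144) (Steps.bwd (nat_lit 5) Steps.nil))))) (nat_lit 18) (nat_lit 0),
  Rule.mk (nat_lit 3) (nat_lit 42) (Steps.bwd (nat_lit 3) (Steps.bwd (nat_lit 3) (Steps.bwd (nat_lit 3) Steps.nil))) (nat_lit 2) (nat_lit 0),
  Rule.mk (nat_lit 2) (nat_lit 42) (Steps.bwd (nat_lit 5) (Steps.bwd (nat_lit 1) (Steps.fwd (nat_lit 5120) Steps.nil))) (nat_lit 8) (nat_lit 3),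
  Rule.mk (nat_lit 2) (nat_lit 31) (Steps.bwd (nat_lit 2) (Steps.bwd (nat_lit 2) Steps.nil)) (nat_lit 1) (nat_lit 0),
  Rule.mk (nat_lit 5) (nat_lit 42) (Steps.bwd (nat_lit 2) (Steps.bwd (nat_lit 5) (Steps.bwd (nat_lit 1) Steps.nil))) (nat_lit 8) (nat_lit 2),
  Rule.mk (nat_lit 3) (nat_lit 86) (Steps.bwd (nat_lit 1) (Steps.bwd (nat_lit 3) (Steps.bwd (nat_lit 1) (Steps.fwd (nat_lit 3072) (Steps.bwd (nat_lit 1) (Steps.bwd (nat_lit 3) (Steps.bwd (nat_lit 1) Steps.nil))))))) (nat_lit 4) (nat_lit 4),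
  Rule.mk (nat_lit 4) (nat_lit 86) (Steps.bwd (nat_lit 1) (Steps.bwd (nat_lit 3) (Steps.bwd (nat_lit 1) (Steps.bwd (nat_lit 3) (Steps.fwd (nat_lit 2048) (Steps.bwd (nat_lit 3) (Steps.bwd (nat_lit 1) Steps.nil))))))) (nat_lit 4) (nat_lit 0),
  Rule.mk (nat_lit 4) (nat_lit 86) (Steps.bwd (nat_lit 1) (Steps.bwd (nat_lit 3) (Steps.bwd (nat_lit 1) (Steps.bwd (nat_lit 3) (Steps.bwd (nat_lit 1) (Steps.bwd (nat_lit 3) (Steps.bwd (nat_lit 1) Steps.nil))))))) (nat_lit 4) (nat_lit 0),
  Rule.mk (nat_lit 4) (nat_lit 42) (Steps.bwd (nat_lit 4) (Steps.fwd (nat_lit 3072) (Steps.bwd (nat_lit 4) Steps.nil))) (nat_lit 3) (nat_lit 0),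
  Rule.mk (nat_lit 4) (nat_lit 42) (Steps.bwd (nat_lit 4) (Steps.bwd (nat_lit 4) (Steps.fwd (nat_lit 3072) Steps.nil))) (nat_lit 3) (nat_lit 0),
  Rule.mk (nat_lit 2) (nat_lit 86) (Steps.bwd (nat_lit 4) (Steps.fwd (nat_lit 1024) (Steps.bwd (nat_lit 3) (Steps.fwd (nat_lit 1024) (Steps.fwd (nat_lit 3072) (Steps.fwd (nat_lit 1024) (Steps.bwd (nat_lit 4) Steps.nil))))))) (nat_lit 5) (nat_lit 6),
  Rule.mk (nat_lit 3) (nat_lit 86) (Steps.bwd (nat_lit 5) (Steps.bwd (nat_lit 3) (Steps.bwd (nat_lit 5) (Steps.bwd (nat_lit 3) (Steps.bwd (nat_lit 5) (Steps.bwd (nat_lit 3) (Steps.fwd (nat_lit 5120) Steps.nil))))))) (nat_lit 10) (nat_lit 1),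
  Rule.mk (nat_lit 6) (nat_lit 163) (Steps.bwd (nat_lit 4) (Steps.bwd (nat_lit 5) (Steps.fwd (nat_lit 3072) (Steps.bwd (nat_lit 6) (Steps.fwd (nat_lit 3072) (Steps.fwd (nat_lit 1024) (Steps.bwd (nat_lit 3) (Steps.fwd (nat_lit 5120) (Steps.bwd (nat_lit 1) (Steps.fwd (nat_lit 3072) (Steps.fwd (nat_lit 6144) (Steps.fwd (nat_lit 3072) (Steps.fwd (nat_lit 5120) (Steps.bwd (nat_lit 3) Steps.nil)))))))))))))) (nat_lit 23) (nat_lit 9),
  Rule.mk (nat_lit 0) (nat_lit 174) (Steps.bwd (nat_lit 4) (Steps.bwd (nat_lit 1) (Steps.bwd (nat_lit 3) (Steps.fwd (nat_lit 6144) (Steps.bwd (nat_lit 3) (Steps.fwd (nat_lit 5120) (Steps.bwd (nat_lit 3) (Steps.bwd (nat_lit 6) (Steps.bwd (nat_lit 4) (Steps.bwd (nat_lit 5) (Steps.bwd (nat_lit 3) (Steps.fwd (nat_lit 6144) (Steps.bwd (nat_lit 3) (Steps.fwd (nat_lit 1024) (Steps.fwd (nat_lit 5120) Steps.nil))))))))))))))) (nat_lit 22) (nat_lit 14),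
  Rule.mk (nat_lit 0) (nat_lit 42) (Steps.bwd (nat_lit 1) (Steps.fwd (nat_lit 0) (Steps.bwd (nat_lit 2) Steps.nil))) (nat_lit 26) (nat_lit 0),
  Rule.mk (nat_lit 3) (nat_lit 31) (Steps.bwd (nat_lit 0) (Steps.bwd (nat_lit 4) Steps.nil)) (nat_lit 26) (nat_lit 0),
  Rule.mk (nat_lit 4) (nat_lit 31) (Steps.bwd (nat_lit 0) (Steps.bwd (nat_lit 3) Steps.nil)) (nat_lit 26) (nat_lit 0),
  Rule.mk (nat_lit 3) (nat_lit 31) (Steps.bwd (nat_lit 0) (Steps.fwd (nat_lit 3072) Steps.nil)) (nat_lit 26) (nat_lit 0),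
  Rule.mk (nat_lit 4) (nat_lit 31) (Steps.bwd (nat_lit 0) (Steps.fwd (nat_lit 4096) Steps.nil)) (nat_lit 26) (nat_lit 0),
  Rule.mk (nat_lit 2) (nat_lit 86) (Steps.fwd (nat_lit 3072) (Steps.bwd (nat_lit 2) (Steps.fwd (nat_lit 3072) (Steps.fwd (nat_lit 1024) (Steps.bwd (nat_lit 4) (Steps.bwd (nat_lit 2) (Steps.bwd (nat_lit 3) Steps.nil))))))) (nat_lit 5) (nat_lit 2),
  Rule.mk (nat_lit 2) (nat_lit 86) (Steps.bwd (nat_lit 3) (Steps.bwd (nat_lit 2) (Steps.fwd (nat_lit 3072) (Steps.fwd (nat_lit 1024) (Steps.bwd (nat_lit 4) (Steps.bwd (nat_lit 2) (Steps.fwd (nat_lit 3072) Steps.nil))))))) (nat_lit 5) (nat_lit 0),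
  Rule.mk (nat_lit 4) (nat_lit 86) (Steps.bwd (nat_lit 2) (Steps.fwd (nat_lit 4096) (Steps.fwd (nat_lit 1024) (Steps.bwd (nat_lit 4) (Steps.bwd (nat_lit 2) (Steps.fwd (nat_lit 3072) (Steps.bwd (nat_lit 2) Steps.nil))))))) (nat_lit 5) (nat_lit 7),
  Rule.mk (nat_lit 4) (nat_lit 42) (Steps.fwd (nat_lit 3072) (Steps.fwd (nat_lit 3072) (Steps.bwd (nat_lit 4) Steps.nil))) (nat_lit 3) (nat_lit 0),
  Rule.mk (nat_lit 4) (nat_lit 86) (Steps.bwd (nat_lit 5) (Steps.bwd (nat_lit 4) (Steps.bwd (nat_lit 5) (Steps.fwd (nat_lit 3072) (Steps.bwd (nat_lit 5) (Steps.fwd (nat_lit 3072) (Steps.fwd (nat_lit 5120) Steps.nil))))))) (nat_lit 11) (nat_lit 0),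
  Rule.mk (nat_lit 2) (nat_lit 97) (Steps.bwd (nat_lit 5) (Steps.fwd (nat_lit 6144) (Steps.fwd (nat_lit 3072) (Steps.fwd (nat_lit 3072) (Steps.fwd (nat_lit 5120) (Steps.bwd (nat_lit 6) (Steps.bwd (nat_lit 4) (Steps.bwd (nat_lit 4) Steps.nil)))))))) (nat_lit 21) (nat_lit 0),
  Rule.mk (nat_lit 2) (nat_lit 42) (Steps.fwd (nat_lit 5120) (Steps.fwd (nat_lit 2048) (Steps.bwd (nat_lit 5) Steps.nil))) (nat_lit 8) (nat_lit 3),
  Rule.mk (nat_lit 3) (nat_lit 97) (Steps.bwd (nat_lit 5) (Steps.fwd (nat_lit 4096) (Steps.bwd (nat_lit 3) (Steps.bwd (nat_lit 5) (Steps.bwd (nat_lit 3) (Steps.bwd (nat_lit 3) (Steps.fwd (nat_lit 5120) (Steps.fwd (nat_lit 4096) Steps.nil)))))))) (nat_lit 12) (nat_lit 2),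
  Rule.mk (nat_lit 4) (nat_lit 97) (Steps.bwd (nat_lit 5) (Steps.bwd (nat_lit 4) (Steps.fwd (nat_lit 3072) (Steps.bwd (nat_lit 5) (Steps.fwd (nat_lit 3072) (Steps.fwd (nat_lit 3072) (Steps.fwd (nat_lit 5120) (Steps.bwd (nat_lit 4) Steps.nil)))))))) (nat_lit 13) (nat_lit 0),
  Rule.mk (nat_lit 5) (nat_lit 42) (Steps.bwd (nat_lit 2) (Steps.bwd (nat_lit 5) (Steps.fwd (nat_lit 2048) Steps.nil))) (nat_lit 8) (nat_lit 2),
  Rule.mk (nat_lit 4) (nat_lit 97) (Steps.bwd (nat_lit 4) (Steps.fwd (nat_lit 5120) (Steps.bwd (nat_lit 4) (Steps.bwd (nat_lit 4) (Steps.fwd (nat_lit 5120) (Steps.bwd (nat_lit 4) (Steps.bwd (nat_lit 4) (Steps.bwd (nat_lit 5) Steps.nil)))))))) (nat_lit 13) (nat_lit 2),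
  Rule.mk (nat_lit 4) (nat_lit 42) (Steps.bwd (nat_lit 4) (Steps.bwd (nat_lit 4) (Steps.bwd (nat_lit 4) Steps.nil))) (nat_lit 3) (nat_lit 0),
  Rule.mk (nat_lit 5) (nat_lit 86) (Steps.bwd (nat_lit 4) (Steps.fwd (nat_lit 5120) (Steps.bwd (nat_lit 4) (Steps.fwd (nat_lit 5120) (Steps.bwd (nat_lit 4) (Steps.bwd (nat_lit 5) (Steps.bwd (nat_lit 4) Steps.nil))))))) (nat_lit 11) (nat_lit 1),
  Rule.mk (nat_lit 1) (nat_lit 86) (Steps.bwd (nat_lit 3) (Steps.fwd (nat_lit 2048) (Steps.bwd (nat_lit 4) (Steps.fwd (nat_lit 2048) (Steps.fwd (nat_lit 4096) (Steps.fwd (nat_lit 2048) (Steps.fwd (nat_lit 4096) Steps.nil))))))) (nat_lit 4) (nat_lit 5),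
  Rule.mk (nat_lit 5) (nat_lit 196) (Steps.bwd (nat_lit 3) (Steps.bwd (nat_lit 2) (Steps.fwd (nat_lit 5120) (Steps.bwd (nat_lit 4) (Steps.fwd (nat_lit 2048) (Steps.bwd (nat_lit 5) (Steps.bwd (nat_lit 4) (Steps.fwd (nat_lit 2048) (Steps.bwd (nat_lit 5) (Steps.fwd (nat_lit 3072) (Steps.fwd (nat_lit 5120) (Steps.bwd (nat_lit 2) (Steps.bwd (nat_lit 3) (Steps.fwd (nat_lit 5120) (Steps.fwd (nat_lit 2048) (Steps.fwd (nat_lit 4096) (Steps.bwd (nat_lit 1) Steps.nil))))))))))))))))) (nat_lit 14) (nat_lit 4),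
  Rule.mk (nat_lit 2) (nat_lit 42) (Steps.bwd (nat_lit 5) (Steps.fwd (nat_lit 2048) (Steps.fwd (nat_lit 5120) Steps.nil))) (nat_lit 8) (nat_lit 3),
  Rule.mk (nat_lit 1) (nat_lit 42) (Steps.bwd (nat_lit 5) (Steps.bwd (nat_lit 2) (Steps.bwd (nat_lit 5) Steps.nil))) (nat_lit 8) (nat_lit 1),
  Rule.mk (nat_lit 4) (nat_lit 86) (Steps.bwd (nat_lit 5) (Steps.bwd (nat_lit 4) (Steps.fwd (nat_lit 5120) (Steps.fwd (nat_lit 3072) (Steps.fwd (nat_lit 5120) (Steps.fwd (nat_lit 3072) (Steps.fwd (nat_lit 5120) Steps.nil))))))) (nat_lit 11) (nat_lit 0),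
  Rule.mk (nat_lit 4) (nat_lit 86) (Steps.bwd (nat_lit 2) (Steps.fwd (nat_lit 4096) (Steps.bwd (nat_lit 2) (Steps.bwd (nat_lit 4) (Steps.bwd (nat_lit 2) (Steps.bwd (nat_lit 4) (Steps.bwd (nat_lit 2) Steps.nil))))))) (nat_lit 5) (nat_lit 7),
  Rule.mk (nat_lit 3) (nat_lit 86) (Steps.bwd (nat_lit 2) (Steps.bwd (nat_lit 4) (Steps.bwd (nat_lit 2) (Steps.fwd (nat_lit 3072) (Steps.bwd (nat_lit 2) (Steps.bwd (nat_lit 4) (Steps.bwd (nat_lit 2) Steps.nil))))))) (nat_lit 5) (nat_lit 1),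
  Rule.mk (nat_lit 1) (nat_lit 86) (Steps.bwd (nat_lit 4) (Steps.fwd (nat_lit 2048) (Steps.fwd (nat_lit 4096) (Steps.fwd (nat_lit 2048) (Steps.bwd (nat_lit 3) (Steps.fwd (nat_lit 2048) (Steps.fwd (nat_lit 4096) Steps.nil))))))) (nat_lit 4) (nat_lit 7),
  Rule.mk (nat_lit 6) (nat_lit 163) (Steps.bwd (nat_lit 4) (Steps.bwd (nat_lit 2) (Steps.fwd (nat_lit 4096) (Steps.bwd (nat_lit 5) (Steps.fwd (nat_lit 2048) (Steps.bwd (nat_lit 4) (Steps.bwd (nat_lit 6) (Steps.bwd (nat_lit 4) (Steps.bwd (nat_lit 5) (Steps.bwd (nat_lit 3) (Steps.fwd (nat_lit 6144) (Steps.fwd (nat_lit 3072) (Steps.fwd (nat_lit 5120) (Steps.bwd (nat_lit 4) Steps.nil)))))))))))))) (nat_lit 23) (nat_lit 13),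
  Rule.mk (nat_lit 5) (nat_lit 42) (Steps.bwd (nat_lit 1) (Steps.fwd (nat_lit 5120) (Steps.fwd (nat_lit 1024) Steps.nil))) (nat_lit 8) (nat_lit 0),
  Rule.mk (nat_lit 3) (nat_lit 86) (Steps.bwd (nat_lit 1) (Steps.bwd (nat_lit 4) (Steps.fwd (nat_lit 2048) (Steps.bwd (nat_lit 3) (Steps.fwd (nat_lit 2048) (Steps.fwd (nat_lit 4096) (Steps.bwd (nat_lit 1) Steps.nil))))))) (nat_lit 4) (nat_lit 6),
  Rule.mk (nat_lit 6) (nat_lit 64) (Steps.bwd (nat_lit 5) (Steps.fwd (nat_lit 6144) (Steps.bwd (nat_lit 5) (Steps.fwd (nat_lit 6144) (Steps.bwd (nat_lit 5) Steps.nil))))) (nat_lit 18) (nat_lit 0),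
  Rule.mk (nat_lit 3) (nat_lit 97) (Steps.fwd (nat_lit 6144) (Steps.fwd (nat_lit 5120) (Steps.fwd (nat_lit 4096) (Steps.fwd (nat_lit 4096) (Steps.bwd (nat_lit 6) (Steps.bwd (nat_lit 5) (Steps.bwd (nat_lit 1) (Steps.bwd (nat_lit 3) Steps.nil)))))))) (nat_lit 20) (nat_lit 3),
  Rule.mk (nat_lit 4) (nat_lit 97) (Steps.bwd (nat_lit 5) (Steps.fwd (nat_lit 6144) (Steps.bwd (nat_lit 4) (Steps.fwd (nat_lit 3072) (Steps.bwd (nat_lit 2) (Steps.fwd (nat_lit 5120) (Steps.bwd (nat_lit 6) (Steps.bwd (nat_lit 4) Steps.nil)))))))) (nat_lit 21) (nat_lit 4),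
  Rule.mk (nat_lit 4) (nat_lit 196) (Steps.bwd (nat_lit 6) (Steps.fwd (nat_lit 4096) (Steps.fwd (nat_lit 1024) (Steps.bwd (nat_lit 4) (Steps.fwd (nat_lit 5120) (Steps.bwd (nat_lit 4) (Steps.bwd (nat_lit 2) (Steps.bwd (nat_lit 5) (Steps.fwd (nat_lit 3072) (Steps.fwd (nat_lit 5120) (Steps.bwd (nat_lit 6) (Steps.bwd (nat_lit 3) (Steps.fwd (nat_lit 6144) (Steps.fwd (nat_lit 3072) (Steps.bwd (nat_lit 1) (Steps.bwd (nat_lit 3) (Steps.fwd (nat_lit 6144) Steps.nil))))))))))))))))) (nat_lit 25) (nat_lit 11),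
  Rule.mk (nat_lit 5) (nat_lit 97) (Steps.bwd (nat_lit 6) (Steps.bwd (nat_lit 4) (Steps.bwd (nat_lit 4) (Steps.bwd (nat_lit 2) (Steps.bwd (nat_lit 5) (Steps.fwd (nat_lit 6144) (Steps.fwd (nat_lit 3072) (Steps.bwd (nat_lit 4) Steps.nil)))))))) (nat_lit 21) (nat_lit 5),
  Rule.mk (nat_lit 6) (nat_lit 64) (Steps.bwd (nat_lit 5) (Steps.bwd (nat_lit 6) (Steps.bwd (nat_lit 5) (Steps.fwd (nat_lit 6144) (Steps.fwd (nat_lit 5120) Steps.nil))))) (nat_lit 18) (nat_lit 0),
  Rule.mk (nat_lit 3) (nat_lit 97) (Steps.bwd (nat_lit 3) (Steps.bwd (nat_lit 6) (Steps.bwd (nat_lit 5) (Steps.fwd (nat_lit 2048) (Steps.fwd (nat_lit 4096) (Steps.bwd (nat_lit 3) (Steps.fwd (nat_lit 6144) (Steps.fwd (nat_lit 5120) Steps.nil)))))))) (nat_lit 20) (nat_lit 6),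
  Rule.mk (nat_lit 3) (nat_lit 42) (Steps.bwd (nat_lit 3) (Steps.bwd (nat_lit 3) (Steps.fwd (nat_lit 4096) Steps.nil))) (nat_lit 2) (nat_lit 0),
  Rule.mk (nat_lit 5) (nat_lit 97) (Steps.bwd (nat_lit 1) (Steps.bwd (nat_lit 3) (Steps.bwd (nat_lit 3) (Steps.bwd (nat_lit 6) (Steps.bwd (nat_lit 5) (Steps.fwd (nat_lit 4096) (Steps.bwd (nat_lit 3) (Steps.fwd (nat_lit 6144) Steps.nil)))))))) (nat_lit 20) (nat_lit 0),
  Rule.mk (nat_lit 2) (nat_lit 42) (Steps.bwd (nat_lit 5) (Steps.bwd (nat_lit 1) (Steps.bwd (nat_lit 5) Steps.nil))) (nat_lit 8) (nat_lit 3),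
  Rule.mk (nat_lit 5) (nat_lit 42) (Steps.bwd (nat_lit 1) (Steps.fwd (nat_lit 5120) (Steps.bwd (nat_lit 2) Steps.nil))) (nat_lit 8) (nat_lit 0),
  Rule.mk (nat_lit 5) (nat_lit 64) (Steps.bwd (nat_lit 6) (Steps.fwd (nat_lit 5120) (Steps.bwd (nat_lit 6) (Steps.bwd (nat_lit 5) (Steps.fwd (nat_lit 6144) Steps.nil))))) (nat_lit 18) (nat_lit 1),
  Rule.mk (nat_lit 6) (nat_lit 97) (Steps.bwd (nat_lit 5) (Steps.bwd (nat_lit 3) (Steps.fwd (nat_lit 4096) (Steps.bwd (nat_lit 6) (Steps.fwd (nat_lit 5120) (Steps.bwd (nat_lit 1) (Steps.fwd (nat_lit 4096) (Steps.fwd (nat_lit 4096) Steps.nil)))))))) (nat_lit 20) (nat_lit 4),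
  Rule.mk (nat_lit 5) (nat_lit 97) (Steps.bwd (nat_lit 1) (Steps.bwd (nat_lit 3) (Steps.fwd (nat_lit 4096) (Steps.bwd (nat_lit 6) (Steps.fwd (nat_lit 5120) (Steps.bwd (nat_lit 3) (Steps.fwd (nat_lit 4096) (Steps.fwd (nat_lit 6144) Steps.nil)))))))) (nat_lit 20) (nat_lit 0),
  Rule.mk (nat_lit 3) (nat_lit 97) (Steps.bwd (nat_lit 3) (Steps.bwd (nat_lit 6) (Steps.bwd (nat_lit 5) (Steps.fwd (nat_lit 4096) (Steps.fwd (nat_lit 4096) (Steps.bwd (nat_lit 6) (Steps.bwd (nat_lit 5) (Steps.bwd (nat_lit 1) Steps.nil)))))))) (nat_lit 20) (nat_lit 2)]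
noncomputable def R_1 : List (Rule) := [Rule.mk (nat_lit 0) (nat_lit 108) (Steps.bwd (nat_lit 5) (Steps.bwd (nat_lit 3) (Steps.bwd (nat_lit 3) (Steps.bwd (nat_lit 6) (Steps.bwd (nat_lit 5) (Steps.bwd (nat_lit 1) (Steps.bwd (nat_lit 3) (Steps.bwd (nat_lit 3) (Steps.fwd (nat_lit 6144) Steps.nil))))))))) (nat_lit 20) (nat_lit 4),
  Rule.mk (nat_lit 1) (nat_lit 31) (Steps.bwd (nat_lit 0) (Steps.bwd (nat_lit 2) Steps.nil)) (nat_lit 26) (nat_lit 0),
  Rule.mk (nat_lit 2) (nat_lit 31) (Steps.bwd (nat_lit 0) (Steps.fwd (nat_lit 2048) Steps.nil)) (nat_lit 26) (nat_lit 0),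
  Rule.mk (nat_lit 5) (nat_lit 31) (Steps.bwd (nat_lit 0) (Steps.bwd (nat_lit 5) Steps.nil)) (nat_lit 26) (nat_lit 0),
  Rule.mk (nat_lit 3) (nat_lit 97) (Steps.bwd (nat_lit 3) (Steps.bwd (nat_lit 6) (Steps.bwd (nat_lit 5) (Steps.bwd (nat_lit 1) (Steps.bwd (nat_lit 3) (Steps.fwd (nat_lit 4096) (Steps.fwd (nat_lit 6144) (Steps.bwd (nat_lit 5) Steps.nil)))))))) (nat_lit 20) (nat_lit 6),
  Rule.mk (nat_lit 4) (nat_lit 97) (Steps.bwd (nat_lit 4) (Steps.bwd (nat_lit 2) (Steps.bwd (nat_lit 5) (Steps.bwd (nat_lit 6) (Steps.fwd (nat_lit 3072) (Steps.fwd (nat_lit 3072) (Steps.fwd (nat_lit 5120) (Steps.fwd (nat_lit 6144) Steps.nil)))))))) (nat_lit 21) (nat_lit 7),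
  Rule.mk (nat_lit 0) (nat_lit 108) (Steps.bwd (nat_lit 5) (Steps.fwd (nat_lit 4096) (Steps.fwd (nat_lit 4096) (Steps.bwd (nat_lit 6) (Steps.bwd (nat_lit 5) (Steps.bwd (nat_lit 1) (Steps.fwd (nat_lit 4096) (Steps.fwd (nat_lit 4096) (Steps.fwd (nat_lit 6144) Steps.nil))))))))) (nat_lit 20) (nat_lit 4),
  Rule.mk (nat_lit 1) (nat_lit 31) (Steps.bwd (nat_lit 0) (Steps.fwd (nat_lit 1024) Steps.nil)) (nat_lit 26) (nat_lit 0),
  Rule.mk (nat_lit 2) (nat_lit 196) (Steps.bwd (nat_lit 3) (Steps.bwd (nat_lit 6) (Steps.fwd (nat_lit 3072) (Steps.bwd (nat_lit 6) (Steps.fwd (nat_lit 5120) (Steps.bwd (nat_lit 3) (Steps.fwd (nat_lit 5120) (Steps.bwd (nat_lit 1) (Steps.fwd (nat_lit 4096) (Steps.fwd (nat_lit 5120) (Steps.fwd (nat_lit 4096) (Steps.bwd (nat_lit 1) (Steps.fwd (nat_lit 3072) (Steps.fwd (nat_lit 6144) (Steps.fwd (nat_lit 4096) (Steps.fwd (nat_lit 6144) (Steps.bwd (nat_lit 4) Steps.nil))))))))))))))))) (nat_lit 24) (nat_lit 11),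
  Rule.mk (nat_lit 6) (nat_lit 64) (Steps.bwd (nat_lit 5) (Steps.bwd (nat_lit 6) (Steps.fwd (nat_lit 5120) (Steps.fwd (nat_lit 6144) (Steps.fwd (nat_lit 5120) Steps.nil))))) (nat_lit 18) (nat_lit 0),
  Rule.mk (nat_lit 5) (nat_lit 64) (Steps.bwd (nat_lit 6) (Steps.bwd (nat_lit 5) (Steps.bwd (nat_lit 6) (Steps.fwd (nat_lit 5120) (Steps.fwd (nat_lit 6144) Steps.nil))))) (nat_lit 18) (nat_lit 1),
  Rule.mk (nat_lit 0) (nat_lit 108) (Steps.fwd (nat_lit 2048) (Steps.bwd (nat_lit 3) (Steps.bwd (nat_lit 3) (Steps.fwd (nat_lit 6144) (Steps.fwd (nat_lit 5120) (Steps.fwd (nat_lit 4096) (Steps.fwd (nat_lit 4096) (Steps.bwd (nat_lit 6) (Steps.bwd (nat_lit 5) Steps.nil))))))))) (nat_lit 20) (nat_lit 0),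
  Rule.mk (nat_lit 0) (nat_lit 42) (Steps.bwd (nat_lit 5) (Steps.bwd (nat_lit 0) (Steps.bwd (nat_lit 5) Steps.nil))) (nat_lit 26) (nat_lit 0),
  Rule.mk (nat_lit 6) (nat_lit 31) (Steps.bwd (nat_lit 0) (Steps.fwd (nat_lit 6144) Steps.nil)) (nat_lit 26) (nat_lit 0),
  Rule.mk (nat_lit 4) (nat_lit 97) (Steps.bwd (nat_lit 4) (Steps.bwd (nat_lit 5) (Steps.bwd (nat_lit 6) (Steps.fwd (nat_lit 3072) (Steps.fwd (nat_lit 3072) (Steps.fwd (nat_lit 1024) (Steps.fwd (nat_lit 5120) (Steps.fwd (nat_lit 6144) Steps.nil)))))))) (nat_lit 21) (nat_lit 3),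
  Rule.mk (nat_lit 0) (nat_lit 108) (Steps.fwd (nat_lit 2048) (Steps.fwd (nat_lit 4096) (Steps.fwd (nat_lit 4096) (Steps.bwd (nat_lit 6) (Steps.bwd (nat_lit 5) (Steps.bwd (nat_lit 3) (Steps.fwd (nat_lit 4096) (Steps.fwd (nat_lit 6144) (Steps.bwd (nat_lit 5) Steps.nil))))))))) (nat_lit 20) (nat_lit 0),
  Rule.mk (nat_lit 0) (nat_lit 42) (Steps.fwd (nat_lit 5120) (Steps.fwd (nat_lit 0) (Steps.fwd (nat_lit 5120) Steps.nil))) (nat_lit 26) (nat_lit 0),
  Rule.mk (nat_lit 5) (nat_lit 64) (Steps.bwd (nat_lit 6) (Steps.fwd (nat_lit 5120) (Steps.fwd (nat_lit 6144) (Steps.fwd (nat_lit 5120) (Steps.fwd (nat_lit 6144) Steps.nil))))) (nat_lit 18) (nat_lit 1),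
  Rule.mk (nat_lit 2) (nat_lit 97) (Steps.bwd (nat_lit 5) (Steps.bwd (nat_lit 6) (Steps.fwd (nat_lit 3072) (Steps.fwd (nat_lit 3072) (Steps.bwd (nat_lit 5) (Steps.fwd (nat_lit 6144) (Steps.bwd (nat_lit 4) (Steps.bwd (nat_lit 4) Steps.nil)))))))) (nat_lit 21) (nat_lit 0),
  Rule.mk (nat_lit 1) (nat_lit 42) (Steps.fwd (nat_lit 5120) (Steps.bwd (nat_lit 2) (Steps.bwd (nat_lit 5) Steps.nil))) (nat_lit 8) (nat_lit 1),
  Rule.mk (nat_lit 4) (nat_lit 97) (Steps.bwd (nat_lit 4) (Steps.fwd (nat_lit 5120) (Steps.bwd (nat_lit 4) (Steps.bwd (nat_lit 4) (Steps.bwd (nat_lit 5) (Steps.fwd (nat_lit 3072) (Steps.bwd (nat_lit 4) (Steps.bwd (nat_lit 5) Steps.nil)))))))) (nat_lit 13) (nat_lit 2),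
  Rule.mk (nat_lit 6) (nat_lit 97) (Steps.bwd (nat_lit 5) (Steps.fwd (nat_lit 2048) (Steps.fwd (nat_lit 4096) (Steps.bwd (nat_lit 3) (Steps.bwd (nat_lit 6) (Steps.bwd (nat_lit 5) (Steps.bwd (nat_lit 3) (Steps.bwd (nat_lit 3) Steps.nil)))))))) (nat_lit 20) (nat_lit 8),
  Rule.mk (nat_lit 6) (nat_lit 97) (Steps.bwd (nat_lit 4) (Steps.bwd (nat_lit 4) (Steps.fwd (nat_lit 5120) (Steps.fwd (nat_lit 6144) (Steps.bwd (nat_lit 4) (Steps.bwd (nat_lit 4) (Steps.fwd (nat_lit 1024) (Steps.bwd (nat_lit 5) Steps.nil)))))))) (nat_lit 21) (nat_lit 2),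
  Rule.mk (nat_lit 1) (nat_lit 86) (Steps.bwd (nat_lit 4) (Steps.fwd (nat_lit 2048) (Steps.fwd (nat_lit 4096) (Steps.fwd (nat_lit 2048) (Steps.fwd (nat_lit 4096) (Steps.fwd (nat_lit 2048) (Steps.fwd (nat_lit 4096) Steps.nil))))))) (nat_lit 4) (nat_lit 7),
  Rule.mk (nat_lit 4) (nat_lit 86) (Steps.fwd (nat_lit 1024) (Steps.bwd (nat_lit 4) (Steps.bwd (nat_lit 2) (Steps.bwd (nat_lit 4) (Steps.bwd (nat_lit 2) (Steps.bwd (nat_lit 3) (Steps.bwd (nat_lit 2) Steps.nil))))))) (nat_lit 5) (nat_lit 3),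
  Rule.mk (nat_lit 1) (nat_lit 86) (Steps.fwd (nat_lit 4096) (Steps.bwd (nat_lit 1) (Steps.bwd (nat_lit 4) (Steps.bwd (nat_lit 1) (Steps.fwd (nat_lit 4096) (Steps.fwd (nat_lit 2048) (Steps.fwd (nat_lit 4096) Steps.nil))))))) (nat_lit 4) (nat_lit 5),
  Rule.mk (nat_lit 1) (nat_lit 86) (Steps.bwd (nat_lit 4) (Steps.fwd (nat_lit 2048) (Steps.fwd (nat_lit 4096) (Steps.bwd (nat_lit 1) (Steps.fwd (nat_lit 4096) (Steps.bwd (nat_lit 1) (Steps.fwd (nat_lit 4096) Steps.nil))))))) (nat_lit 4) (nat_lit 7),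
  Rule.mk (nat_lit 2) (nat_lit 196) (Steps.bwd (nat_lit 3) (Steps.bwd (nat_lit 6) (Steps.fwd (nat_lit 3072) (Steps.bwd (nat_lit 6) (Steps.fwd (nat_lit 5120) (Steps.bwd (nat_lit 3) (Steps.fwd (nat_lit 5120) (Steps.bwd (nat_lit 1) (Steps.bwd (nat_lit 3) (Steps.fwd (nat_lit 5120) (Steps.bwd (nat_lit 3) (Steps.bwd (nat_lit 1) (Steps.fwd (nat_lit 3072) (Steps.fwd (nat_lit 6144) (Steps.bwd (nat_lit 3) (Steps.fwd (nat_lit 6144) (Steps.fwd (nat_lit 3072) Steps.nil))))))))))))))))) (nat_lit 24) (nat_lit 11),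
  Rule.mk (nat_lit 6) (nat_lit 97) (Steps.bwd (nat_lit 4) (Steps.bwd (nat_lit 4) (Steps.fwd (nat_lit 1024) (Steps.bwd (nat_lit 5) (Steps.fwd (nat_lit 6144) (Steps.bwd (nat_lit 4) (Steps.bwd (nat_lit 4) (Steps.fwd (nat_lit 5120) Steps.nil)))))))) (nat_lit 21) (nat_lit 6),
  Rule.mk (nat_lit 5) (nat_lit 64) (Steps.bwd (nat_lit 6) (Steps.fwd (nat_lit 5120) (Steps.fwd (nat_lit 6144) (Steps.fwd (nat_lit 5120) (Steps.bwd (nat_lit 6) Steps.nil))))) (nat_lit 18) (nat_lit 1),
  Rule.mk (nat_lit 1) (nat_lit 97) (Steps.fwd (nat_lit 4096) (Steps.bwd (nat_lit 3) (Steps.fwd (nat_lit 6144) (Steps.bwd (nat_lit 5) (Steps.fwd (nat_lit 4096) (Steps.fwd (nat_lit 4096) (Steps.bwd (nat_lit 6) (Steps.bwd (nat_lit 5) Steps.nil)))))))) (nat_lit 20) (nat_lit 1),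
  Rule.mk (nat_lit 4) (nat_lit 97) (Steps.bwd (nat_lit 4) (Steps.fwd (nat_lit 5120) (Steps.fwd (nat_lit 3072) (Steps.fwd (nat_lit 3072) (Steps.bwd (nat_lit 5) (Steps.fwd (nat_lit 3072) (Steps.fwd (nat_lit 3072) (Steps.fwd (nat_lit 5120) Steps.nil)))))))) (nat_lit 13) (nat_lit 2),
  Rule.mk (nat_lit 4) (nat_lit 86) (Steps.bwd (nat_lit 2) (Steps.bwd (nat_lit 4) (Steps.bwd (nat_lit 2) (Steps.fwd (nat_lit 3072) (Steps.bwd (nat_lit 2) (Steps.bwd (nat_lit 3) (Steps.fwd (nat_lit 1024) Steps.nil))))))) (nat_lit 5) (nat_lit 3),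
  Rule.mk (nat_lit 2) (nat_lit 86) (Steps.bwd (nat_lit 4) (Steps.fwd (nat_lit 1024) (Steps.bwd (nat_lit 4) (Steps.bwd (nat_lit 2) (Steps.fwd (nat_lit 4096) (Steps.bwd (nat_lit 2) (Steps.bwd (nat_lit 4) Steps.nil))))))) (nat_lit 5) (nat_lit 4),
  Rule.mk (nat_lit 3) (nat_lit 86) (Steps.bwd (nat_lit 2) (Steps.bwd (nat_lit 4) (Steps.bwd (nat_lit 2) (Steps.bwd (nat_lit 4) (Steps.bwd (nat_lit 2) (Steps.bwd (nat_lit 4) (Steps.fwd (nat_lit 1024) Steps.nil))))))) (nat_lit 5) (nat_lit 1),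
  Rule.mk (nat_lit 3) (nat_lit 42) (Steps.bwd (nat_lit 3) (Steps.fwd (nat_lit 4096) (Steps.bwd (nat_lit 3) Steps.nil))) (nat_lit 2) (nat_lit 0),
  Rule.mk (nat_lit 2) (nat_lit 86) (Steps.bwd (nat_lit 3) (Steps.bwd (nat_lit 2) (Steps.bwd (nat_lit 4) (Steps.bwd (nat_lit 2) (Steps.fwd (nat_lit 3072) (Steps.bwd (nat_lit 2) (Steps.bwd (nat_lit 4) Steps.nil))))))) (nat_lit 5) (nat_lit 0),
  Rule.mk (nat_lit 1) (nat_lit 97) (Steps.bwd (nat_lit 3) (Steps.fwd (nat_lit 4096) (Steps.fwd (nat_lit 6144) (Steps.fwd (nat_lit 5120) (Steps.bwd (nat_lit 3) (Steps.fwd (nat_lit 4096) (Steps.fwd (nat_lit 6144) (Steps.bwd (nat_lit 5) Steps.nil)))))))) (nat_lit 20) (nat_lit 1),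
  Rule.mk (nat_lit 5) (nat_lit 97) (Steps.bwd (nat_lit 6) (Steps.fwd (nat_lit 3072) (Steps.bwd (nat_lit 4) (Steps.bwd (nat_lit 2) (Steps.bwd (nat_lit 5) (Steps.bwd (nat_lit 6) (Steps.bwd (nat_lit 4) (Steps.fwd (nat_lit 3072) Steps.nil)))))))) (nat_lit 21) (nat_lit 5),
  Rule.mk (nat_lit 4) (nat_lit 97) (Steps.bwd (nat_lit 4) (Steps.fwd (nat_lit 5120) (Steps.fwd (nat_lit 3072) (Steps.fwd (nat_lit 3072) (Steps.bwd (nat_lit 5) (Steps.fwd (nat_lit 3072) (Steps.fwd (nat_lit 3072) (Steps.bwd (nat_lit 5) Steps.nil)))))))) (nat_lit 13) (nat_lit 2),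
  Rule.mk (nat_lit 4) (nat_lit 97) (Steps.bwd (nat_lit 4) (Steps.fwd (nat_lit 5120) (Steps.bwd (nat_lit 4) (Steps.bwd (nat_lit 4) (Steps.fwd (nat_lit 5120) (Steps.fwd (nat_lit 3072) (Steps.fwd (nat_lit 3072) (Steps.bwd (nat_lit 5) Steps.nil)))))))) (nat_lit 13) (nat_lit 2),
  Rule.mk (nat_lit 4) (nat_lit 196) (Steps.bwd (nat_lit 6) (Steps.fwd (nat_lit 4096) (Steps.bwd (nat_lit 2) (Steps.bwd (nat_lit 4) (Steps.bwd (nat_lit 5) (Steps.bwd (nat_lit 4) (Steps.bwd (nat_lit 2) (Steps.bwd (nat_lit 5) (Steps.bwd (nat_lit 4) (Steps.fwd (nat_lit 5120) (Steps.fwd (nat_lit 6144) (Steps.fwd (nat_lit 4096) (Steps.bwd (nat_lit 6) (Steps.fwd (nat_lit 3072) (Steps.bwd (nat_lit 1) (Steps.fwd (nat_lit 4096) (Steps.fwd (nat_lit 6144) Steps.nil))))))))))))))))) (nat_lit 25) (nat_lit 11),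
  Rule.mk (nat_lit 4) (nat_lit 97) (Steps.fwd (nat_lit 1024) (Steps.fwd (nat_lit 5120) (Steps.bwd (nat_lit 6) (Steps.fwd (nat_lit 3072) (Steps.bwd (nat_lit 4) (Steps.bwd (nat_lit 5) (Steps.fwd (nat_lit 6144) (Steps.bwd (nat_lit 4) Steps.nil)))))))) (nat_lit 21) (nat_lit 8),
  Rule.mk (nat_lit 2) (nat_lit 97) (Steps.fwd (nat_lit 5120) (Steps.bwd (nat_lit 6) (Steps.bwd (nat_lit 4) (Steps.bwd (nat_lit 4) (Steps.fwd (nat_lit 5120) (Steps.fwd (nat_lit 6144) (Steps.bwd (nat_lit 4) (Steps.bwd (nat_lit 4) Steps.nil)))))))) (nat_lit 21) (nat_lit 0),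
  Rule.mk (nat_lit 2) (nat_lit 42) (Steps.bwd (nat_lit 5) (Steps.fwd (nat_lit 2048) (Steps.bwd (nat_lit 5) Steps.nil))) (nat_lit 8) (nat_lit 3),
  Rule.mk (nat_lit 5) (nat_lit 97) (Steps.bwd (nat_lit 6) (Steps.bwd (nat_lit 4) (Steps.fwd (nat_lit 3072) (Steps.bwd (nat_lit 5) (Steps.fwd (nat_lit 6144) (Steps.fwd (nat_lit 3072) (Steps.bwd (nat_lit 4) (Steps.bwd (nat_lit 2) Steps.nil)))))))) (nat_lit 21) (nat_lit 1),
  Rule.mk (nat_lit 2) (nat_lit 97) (Steps.fwd (nat_lit 5120) (Steps.bwd (nat_lit 6) (Steps.fwd (nat_lit 3072) (Steps.fwd (nat_lit 3072) (Steps.bwd (nat_lit 5) (Steps.fwd (nat_lit 6144) (Steps.bwd (nat_lit 4) (Steps.bwd (nat_lit 4) Steps.nil)))))))) (nat_lit 21) (nat_lit 0),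
  Rule.mk (nat_lit 4) (nat_lit 97) (Steps.bwd (nat_lit 4) (Steps.bwd (nat_lit 2) (Steps.bwd (nat_lit 5) (Steps.bwd (nat_lit 6) (Steps.bwd (nat_lit 4) (Steps.bwd (nat_lit 4) (Steps.bwd (nat_lit 5) (Steps.bwd (nat_lit 6) Steps.nil)))))))) (nat_lit 21) (nat_lit 7),
  Rule.mk (nat_lit 4) (nat_lit 97) (Steps.bwd (nat_lit 4) (Steps.bwd (nat_lit 5) (Steps.bwd (nat_lit 4) (Steps.bwd (nat_lit 4) (Steps.fwd (nat_lit 5120) (Steps.bwd (nat_lit 4) (Steps.bwd (nat_lit 4) (Steps.fwd (nat_lit 5120) Steps.nil)))))))) (nat_lit 13) (nat_lit 2),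
  Rule.mk (nat_lit 3) (nat_lit 86) (Steps.bwd (nat_lit 5) (Steps.fwd (nat_lit 4096) (Steps.fwd (nat_lit 5120) (Steps.fwd (nat_lit 4096) (Steps.bwd (nat_lit 5) (Steps.fwd (nat_lit 4096) (Steps.fwd (nat_lit 5120) Steps.nil))))))) (nat_lit 10) (nat_lit 1),
  Rule.mk (nat_lit 5) (nat_lit 42) (Steps.bwd (nat_lit 1) (Steps.bwd (nat_lit 5) (Steps.bwd (nat_lit 2) Steps.nil))) (nat_lit 8) (nat_lit 0),
  Rule.mk (nat_lit 2) (nat_lit 31) (Steps.bwd (nat_lit 2) (Steps.fwd (nat_lit 1024) Steps.nil)) (nat_lit 1) (nat_lit 0),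
  Rule.mk (nat_lit 3) (nat_lit 196) (Steps.bwd (nat_lit 2) (Steps.bwd (nat_lit 5) (Steps.bwd (nat_lit 4) (Steps.bwd (nat_lit 1) (Steps.bwd (nat_lit 5) (Steps.bwd (nat_lit 4) (Steps.bwd (nat_lit 1) (Steps.fwd (nat_lit 5120) (Steps.fwd (nat_lit 3072) (Steps.fwd (nat_lit 5120) (Steps.bwd (nat_lit 2) (Steps.fwd (nat_lit 4096) (Steps.fwd (nat_lit 5120) (Steps.fwd (nat_lit 2048) (Steps.fwd (nat_lit 4096) (Steps.fwd (nat_lit 2048) (Steps.bwd (nat_lit 5) Steps.nil))))))))))))))))) (nat_lit 14) (nat_lit 5),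
  Rule.mk (nat_lit 6) (nat_lit 97) (Steps.bwd (nat_lit 5) (Steps.fwd (nat_lit 4096) (Steps.fwd (nat_lit 4096) (Steps.bwd (nat_lit 6) (Steps.fwd (nat_lit 5120) (Steps.fwd (nat_lit 2048) (Steps.bwd (nat_lit 3) (Steps.bwd (nat_lit 3) Steps.nil)))))))) (nat_lit 20) (nat_lit 4),
  Rule.mk (nat_lit 1) (nat_lit 86) (Steps.bwd (nat_lit 4) (Steps.bwd (nat_lit 1) (Steps.bwd (nat_lit 3) (Steps.fwd (nat_lit 2048) (Steps.bwd (nat_lit 3) (Steps.fwd (nat_lit 2048) (Steps.fwd (nat_lit 4096) Steps.nil))))))) (nat_lit 4) (nat_lit 7),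
  Rule.mk (nat_lit 4) (nat_lit 86) (Steps.fwd (nat_lit 1024) (Steps.bwd (nat_lit 4) (Steps.bwd (nat_lit 2) (Steps.bwd (nat_lit 3) (Steps.bwd (nat_lit 2) (Steps.fwd (nat_lit 3072) (Steps.fwd (nat_lit 1024) Steps.nil))))))) (nat_lit 5) (nat_lit 5),
  Rule.mk (nat_lit 5) (nat_lit 86) (Steps.bwd (nat_lit 4) (Steps.fwd (nat_lit 5120) (Steps.bwd (nat_lit 4) (Steps.bwd (nat_lit 5) (Steps.bwd (nat_lit 4) (Steps.bwd (nat_lit 5) (Steps.bwd (nat_lit 4) Steps.nil))))))) (nat_lit 11) (nat_lit 1),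
  Rule.mk (nat_lit 6) (nat_lit 163) (Steps.bwd (nat_lit 4) (Steps.fwd (nat_lit 5120) (Steps.fwd (nat_lit 4096) (Steps.fwd (nat_lit 6144) (Steps.fwd (nat_lit 4096) (Steps.bwd (nat_lit 2) (Steps.bwd (nat_lit 5) (Steps.bwd (nat_lit 4) (Steps.fwd (nat_lit 2048) (Steps.fwd (nat_lit 4096) (Steps.bwd (nat_lit 6) (Steps.fwd (nat_lit 4096) (Steps.bwd (nat_lit 5) (Steps.fwd (nat_lit 4096) Steps.nil)))))))))))))) (nat_lit 22) (nat_lit 7),
  Rule.mk (nat_lit 4) (nat_lit 97) (Steps.bwd (nat_lit 4) (Steps.fwd (nat_lit 5120) (Steps.bwd (nat_lit 6) (Steps.fwd (nat_lit 3072) (Steps.fwd (nat_lit 3072) (Steps.fwd (nat_lit 1024) (Steps.fwd (nat_lit 5120) (Steps.fwd (nat_lit 6144) Steps.nil)))))))) (nat_lit 21) (nat_lit 3),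
  Rule.mk (nat_lit 2) (nat_lit 97) (Steps.bwd (nat_lit 5) (Steps.bwd (nat_lit 6) (Steps.bwd (nat_lit 4) (Steps.bwd (nat_lit 4) (Steps.fwd (nat_lit 5120) (Steps.fwd (nat_lit 6144) (Steps.bwd (nat_lit 4) (Steps.bwd (nat_lit 4) Steps.nil)))))))) (nat_lit 21) (nat_lit 0),
  Rule.mk (nat_lit 2) (nat_lit 42) (Steps.fwd (nat_lit 5120) (Steps.fwd (nat_lit 2048) (Steps.fwd (nat_lit 5120) Steps.nil))) (nat_lit 8) (nat_lit 3),
  Rule.mk (nat_lit 1) (nat_lit 31) (Steps.bwd (nat_lit 1) (Steps.fwd (nat_lit 2048) Steps.nil)) (nat_lit 0) (nat_lit 0),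
  Rule.mk (nat_lit 4) (nat_lit 97) (Steps.bwd (nat_lit 4) (Steps.bwd (nat_lit 2) (Steps.fwd (nat_lit 5120) (Steps.bwd (nat_lit 6) (Steps.fwd (nat_lit 3072) (Steps.fwd (nat_lit 3072) (Steps.fwd (nat_lit 5120) (Steps.fwd (nat_lit 6144) Steps.nil)))))))) (nat_lit 21) (nat_lit 7),
  Rule.mk (nat_lit 6) (nat_lit 97) (Steps.bwd (nat_lit 4) (Steps.fwd (nat_lit 3072) (Steps.fwd (nat_lit 1024) (Steps.fwd (nat_lit 5120) (Steps.fwd (nat_lit 6144) (Steps.bwd (nat_lit 4) (Steps.bwd (nat_lit 4) (Steps.bwd (nat_lit 5) Steps.nil)))))))) (nat_lit 21) (nat_lit 6)]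
noncomputable def R_2 : List (Rule) := [Rule.mk (nat_lit 3) (nat_lit 196) (Steps.bwd (nat_lit 6) (Steps.bwd (nat_lit 4) (Steps.bwd (nat_lit 6) (Steps.fwd (nat_lit 5120) (Steps.bwd (nat_lit 3) (Steps.bwd (nat_lit 5) (Steps.bwd (nat_lit 1) (Steps.bwd (nat_lit 3) (Steps.fwd (nat_lit 5120) (Steps.bwd (nat_lit 3) (Steps.bwd (nat_lit 1) (Steps.bwd (nat_lit 4) (Steps.fwd (nat_lit 6144) (Steps.bwd (nat_lit 3) (Steps.fwd (nat_lit 6144) (Steps.fwd (nat_lit 3072) (Steps.bwd (nat_lit 2) Steps.nil))))))))))))))))) (nat_lit 24) (nat_lit 12),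
  Rule.mk (nat_lit 1) (nat_lit 86) (Steps.fwd (nat_lit 3072) (Steps.fwd (nat_lit 2048) (Steps.bwd (nat_lit 3) (Steps.fwd (nat_lit 2048) (Steps.fwd (nat_lit 4096) (Steps.fwd (nat_lit 2048) (Steps.bwd (nat_lit 3) Steps.nil))))))) (nat_lit 4) (nat_lit 7),
  Rule.mk (nat_lit 3) (nat_lit 86) (Steps.bwd (nat_lit 1) (Steps.bwd (nat_lit 4) (Steps.fwd (nat_lit 2048) (Steps.fwd (nat_lit 4096) (Steps.fwd (nat_lit 2048) (Steps.bwd (nat_lit 3) (Steps.bwd (nat_lit 1) Steps.nil))))))) (nat_lit 4) (nat_lit 6),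
  Rule.mk (nat_lit 1) (nat_lit 86) (Steps.bwd (nat_lit 3) (Steps.fwd (nat_lit 2048) (Steps.bwd (nat_lit 4) (Steps.fwd (nat_lit 2048) (Steps.fwd (nat_lit 4096) (Steps.bwd (nat_lit 1) (Steps.bwd (nat_lit 3) Steps.nil))))))) (nat_lit 4) (nat_lit 5),
  Rule.mk (nat_lit 3) (nat_lit 163) (Steps.bwd (nat_lit 6) (Steps.fwd (nat_lit 4096) (Steps.bwd (nat_lit 2) (Steps.bwd (nat_lit 5) (Steps.bwd (nat_lit 4) (Steps.fwd (nat_lit 2048) (Steps.fwd (nat_lit 4096) (Steps.fwd (nat_lit 6144) (Steps.bwd (nat_lit 3) (Steps.bwd (nat_lit 5) (Steps.fwd (nat_lit 4096) (Steps.fwd (nat_lit 6144) (Steps.bwd (nat_lit 4) (Steps.fwd (nat_lit 5120) Steps.nil)))))))))))))) (nat_lit 22) (nat_lit 10),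
  Rule.mk (nat_lit 3) (nat_lit 97) (Steps.bwd (nat_lit 6) (Steps.fwd (nat_lit 5120) (Steps.bwd (nat_lit 1) (Steps.fwd (nat_lit 4096) (Steps.fwd (nat_lit 4096) (Steps.fwd (nat_lit 6144) (Steps.fwd (nat_lit 5120) (Steps.bwd (nat_lit 3) Steps.nil)))))))) (nat_lit 20) (nat_lit 7),
  Rule.mk (nat_lit 4) (nat_lit 196) (Steps.bwd (nat_lit 2) (Steps.bwd (nat_lit 3) (Steps.bwd (nat_lit 6) (Steps.fwd (nat_lit 3072) (Steps.fwd (nat_lit 6144) (Steps.bwd (nat_lit 5) (Steps.bwd (nat_lit 3) (Steps.bwd (nat_lit 5) (Steps.fwd (nat_lit 2048) (Steps.fwd (nat_lit 4096) (Steps.bwd (nat_lit 5) (Steps.fwd (nat_lit 4096) (Steps.bwd (nat_lit 1) (Steps.bwd (nat_lit 4) (Steps.fwd (nat_lit 6144) (Steps.fwd (nat_lit 4096) (Steps.fwd (nat_lit 6144) Steps.nil))))))))))))))))) (nat_lit 24) (nat_lit 10),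
  Rule.mk (nat_lit 2) (nat_lit 86) (Steps.bwd (nat_lit 4) (Steps.bwd (nat_lit 2) (Steps.bwd (nat_lit 4) (Steps.bwd (nat_lit 2) (Steps.fwd (nat_lit 3072) (Steps.bwd (nat_lit 2) (Steps.fwd (nat_lit 4096) Steps.nil))))))) (nat_lit 5) (nat_lit 2),
  Rule.mk (nat_lit 2) (nat_lit 86) (Steps.fwd (nat_lit 4096) (Steps.bwd (nat_lit 2) (Steps.bwd (nat_lit 4) (Steps.bwd (nat_lit 2) (Steps.fwd (nat_lit 3072) (Steps.bwd (nat_lit 2) (Steps.bwd (nat_lit 4) Steps.nil))))))) (nat_lit 5) (nat_lit 0),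
  Rule.mk (nat_lit 2) (nat_lit 86) (Steps.fwd (nat_lit 4096) (Steps.bwd (nat_lit 2) (Steps.fwd (nat_lit 3072) (Steps.bwd (nat_lit 2) (Steps.bwd (nat_lit 4) (Steps.bwd (nat_lit 2) (Steps.bwd (nat_lit 4) Steps.nil))))))) (nat_lit 5) (nat_lit 0),
  Rule.mk (nat_lit 2) (nat_lit 86) (Steps.bwd (nat_lit 4) (Steps.bwd (nat_lit 2) (Steps.bwd (nat_lit 4) (Steps.bwd (nat_lit 2) (Steps.bwd (nat_lit 4) (Steps.bwd (nat_lit 2) (Steps.bwd (nat_lit 3) Steps.nil))))))) (nat_lit 5) (nat_lit 2),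
  Rule.mk (nat_lit 4) (nat_lit 42) (Steps.bwd (nat_lit 4) (Steps.fwd (nat_lit 3072) (Steps.fwd (nat_lit 3072) Steps.nil))) (nat_lit 3) (nat_lit 0),
  Rule.mk (nat_lit 2) (nat_lit 86) (Steps.bwd (nat_lit 4) (Steps.bwd (nat_lit 2) (Steps.fwd (nat_lit 4096) (Steps.bwd (nat_lit 2) (Steps.bwd (nat_lit 4) (Steps.bwd (nat_lit 2) (Steps.bwd (nat_lit 4) Steps.nil))))))) (nat_lit 5) (nat_lit 6),
  Rule.mk (nat_lit 3) (nat_lit 196) (Steps.bwd (nat_lit 6) (Steps.bwd (nat_lit 4) (Steps.bwd (nat_lit 6) (Steps.fwd (nat_lit 5120) (Steps.fwd (nat_lit 4096) (Steps.bwd (nat_lit 5) (Steps.bwd (nat_lit 1) (Steps.fwd (nat_lit 4096) (Steps.fwd (nat_lit 5120) (Steps.bwd (nat_lit 3) (Steps.fwd (nat_lit 2048) (Steps.bwd (nat_lit 4) (Steps.bwd (nat_lit 6) (Steps.bwd (nat_lit 3) (Steps.fwd (nat_lit 6144) (Steps.fwd (nat_lit 3072) (Steps.bwd (nat_lit 2) Steps.nil))))))))))))))))) (nat_lit 24) (nat_lit 12),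
  Rule.mk (nat_lit 3) (nat_lit 86) (Steps.fwd (nat_lit 2048) (Steps.bwd (nat_lit 4) (Steps.fwd (nat_lit 2048) (Steps.fwd (nat_lit 4096) (Steps.fwd (nat_lit 2048) (Steps.bwd (nat_lit 3) (Steps.bwd (nat_lit 1) Steps.nil))))))) (nat_lit 4) (nat_lit 6),
  Rule.mk (nat_lit 1) (nat_lit 86) (Steps.bwd (nat_lit 3) (Steps.fwd (nat_lit 2048) (Steps.fwd (nat_lit 3072) (Steps.fwd (nat_lit 2048) (Steps.fwd (nat_lit 4096) (Steps.fwd (nat_lit 2048) (Steps.bwd (nat_lit 3) Steps.nil))))))) (nat_lit 4) (nat_lit 5),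
  Rule.mk (nat_lit 6) (nat_lit 196) (Steps.bwd (nat_lit 4) (Steps.bwd (nat_lit 1) (Steps.bwd (nat_lit 3) (Steps.bwd (nat_lit 6) (Steps.fwd (nat_lit 3072) (Steps.fwd (nat_lit 6144) (Steps.bwd (nat_lit 3) (Steps.fwd (nat_lit 1024) (Steps.bwd (nat_lit 4) (Steps.bwd (nat_lit 5) (Steps.bwd (nat_lit 4) (Steps.bwd (nat_lit 2) (Steps.fwd (nat_lit 5120) (Steps.bwd (nat_lit 4) (Steps.bwd (nat_lit 5) (Steps.fwd (nat_lit 6144) (Steps.fwd (nat_lit 4096) Steps.nil))))))))))))))))) (nat_lit 25) (nat_lit 6),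
  Rule.mk (nat_lit 3) (nat_lit 86) (Steps.bwd (nat_lit 1) (Steps.bwd (nat_lit 4) (Steps.bwd (nat_lit 1) (Steps.bwd (nat_lit 3) (Steps.bwd (nat_lit 1) (Steps.bwd (nat_lit 3) (Steps.bwd (nat_lit 1) Steps.nil))))))) (nat_lit 4) (nat_lit 6),
  Rule.mk (nat_lit 1) (nat_lit 86) (Steps.bwd (nat_lit 4) (Steps.bwd (nat_lit 1) (Steps.fwd (nat_lit 4096) (Steps.bwd (nat_lit 1) (Steps.fwd (nat_lit 4096) (Steps.fwd (nat_lit 2048) (Steps.bwd (nat_lit 3) Steps.nil))))))) (nat_lit 4) (nat_lit 7),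
  Rule.mk (nat_lit 3) (nat_lit 86) (Steps.bwd (nat_lit 1) (Steps.bwd (nat_lit 4) (Steps.bwd (nat_lit 1) (Steps.fwd (nat_lit 4096) (Steps.fwd (nat_lit 2048) (Steps.bwd (nat_lit 3) (Steps.bwd (nat_lit 1) Steps.nil))))))) (nat_lit 4) (nat_lit 6),
  Rule.mk (nat_lit 4) (nat_lit 86) (Steps.bwd (nat_lit 1) (Steps.fwd (nat_lit 4096) (Steps.bwd (nat_lit 1) (Steps.bwd (nat_lit 3) (Steps.bwd (nat_lit 1) (Steps.bwd (nat_lit 3) (Steps.bwd (nat_lit 1) Steps.nil))))))) (nat_lit 4) (nat_lit 0),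
  Rule.mk (nat_lit 5) (nat_lit 163) (Steps.bwd (nat_lit 4) (Steps.bwd (nat_lit 1) (Steps.bwd (nat_lit 3) (Steps.fwd (nat_lit 6144) (Steps.fwd (nat_lit 4096) (Steps.fwd (nat_lit 5120) (Steps.bwd (nat_lit 3) (Steps.bwd (nat_lit 6) (Steps.bwd (nat_lit 4) (Steps.fwd (nat_lit 5120) (Steps.bwd (nat_lit 3) (Steps.fwd (nat_lit 6144) (Steps.fwd (nat_lit 4096) (Steps.fwd (nat_lit 1024) Steps.nil)))))))))))))) (nat_lit 22) (nat_lit 14),
  Rule.mk (nat_lit 6) (nat_lit 163) (Steps.bwd (nat_lit 4) (Steps.fwd (nat_lit 5120) (Steps.bwd (nat_lit 4) (Steps.bwd (nat_lit 6) (Steps.bwd (nat_lit 4) (Steps.bwd (nat_lit 2) (Steps.fwd (nat_lit 4096) (Steps.bwd (nat_lit 5) (Steps.bwd (nat_lit 1) (Steps.bwd (nat_lit 4) (Steps.fwd (nat_lit 6144) (Steps.bwd (nat_lit 4) (Steps.bwd (nat_lit 5) (Steps.fwd (nat_lit 4096) Steps.nil)))))))))))))) (nat_lit 23) (nat_lit 9),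
  Rule.mk (nat_lit 4) (nat_lit 86) (Steps.bwd (nat_lit 5) (Steps.bwd (nat_lit 4) (Steps.fwd (nat_lit 5120) (Steps.bwd (nat_lit 4) (Steps.bwd (nat_lit 5) (Steps.bwd (nat_lit 4) (Steps.fwd (nat_lit 5120) Steps.nil))))))) (nat_lit 11) (nat_lit 0),
  Rule.mk (nat_lit 6) (nat_lit 163) (Steps.fwd (nat_lit 3072) (Steps.bwd (nat_lit 2) (Steps.bwd (nat_lit 3) (Steps.bwd (nat_lit 5) (Steps.bwd (nat_lit 1) (Steps.bwd (nat_lit 4) (Steps.bwd (nat_lit 6) (Steps.bwd (nat_lit 4) (Steps.bwd (nat_lit 5) (Steps.bwd (nat_lit 3) (Steps.bwd (nat_lit 6) (Steps.bwd (nat_lit 4) (Steps.bwd (nat_lit 5) (Steps.bwd (nat_lit 4) Steps.nil)))))))))))))) (nat_lit 23) (nat_lit 13),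
  Rule.mk (nat_lit 4) (nat_lit 97) (Steps.bwd (nat_lit 5) (Steps.fwd (nat_lit 3072) (Steps.fwd (nat_lit 3072) (Steps.bwd (nat_lit 5) (Steps.bwd (nat_lit 4) (Steps.bwd (nat_lit 4) (Steps.fwd (nat_lit 5120) (Steps.bwd (nat_lit 4) Steps.nil)))))))) (nat_lit 13) (nat_lit 0),
  Rule.mk (nat_lit 5) (nat_lit 97) (Steps.bwd (nat_lit 6) (Steps.bwd (nat_lit 4) (Steps.bwd (nat_lit 4) (Steps.bwd (nat_lit 5) (Steps.fwd (nat_lit 6144) (Steps.bwd (nat_lit 4) (Steps.bwd (nat_lit 4) (Steps.bwd (nat_lit 2) Steps.nil)))))))) (nat_lit 21) (nat_lit 1),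
  Rule.mk (nat_lit 5) (nat_lit 86) (Steps.bwd (nat_lit 3) (Steps.fwd (nat_lit 5120) (Steps.fwd (nat_lit 4096) (Steps.bwd (nat_lit 5) (Steps.bwd (nat_lit 3) (Steps.bwd (nat_lit 5) (Steps.fwd (nat_lit 4096) Steps.nil))))))) (nat_lit 10) (nat_lit 0),
  Rule.mk (nat_lit 6) (nat_lit 163) (Steps.bwd (nat_lit 3) (Steps.fwd (nat_lit 5120) (Steps.fwd (nat_lit 4096) (Steps.bwd (nat_lit 6) (Steps.bwd (nat_lit 4) (Steps.fwd (nat_lit 5120) (Steps.bwd (nat_lit 3) (Steps.fwd (nat_lit 6144) (Steps.bwd (nat_lit 3) (Steps.fwd (nat_lit 1024) (Steps.fwd (nat_lit 5120) (Steps.fwd (nat_lit 3072) (Steps.bwd (nat_lit 1) (Steps.bwd (nat_lit 3) Steps.nil)))))))))))))) (nat_lit 22) (nat_lit 3),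
  Rule.mk (nat_lit 3) (nat_lit 86) (Steps.bwd (nat_lit 5) (Steps.bwd (nat_lit 3) (Steps.fwd (nat_lit 5120) (Steps.bwd (nat_lit 3) (Steps.fwd (nat_lit 5120) (Steps.bwd (nat_lit 3) (Steps.bwd (nat_lit 5) Steps.nil))))))) (nat_lit 10) (nat_lit 1),
  Rule.mk (nat_lit 6) (nat_lit 163) (Steps.fwd (nat_lit 3072) (Steps.fwd (nat_lit 5120) (Steps.fwd (nat_lit 4096) (Steps.fwd (nat_lit 6144) (Steps.bwd (nat_lit 3) (Steps.bwd (nat_lit 2) (Steps.fwd (nat_lit 5120) (Steps.bwd (nat_lit 4) (Steps.fwd (nat_lit 2048) (Steps.fwd (nat_lit 4096) (Steps.bwd (nat_lit 6) (Steps.bwd (nat_lit 3) (Steps.bwd (nat_lit 5) (Steps.bwd (nat_lit 3) Steps.nil)))))))))))))) (nat_lit 22) (nat_lit 7),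
  Rule.mk (nat_lit 6) (nat_lit 97) (Steps.fwd (nat_lit 3072) (Steps.fwd (nat_lit 3072) (Steps.fwd (nat_lit 5120) (Steps.bwd (nat_lit 6) (Steps.fwd (nat_lit 3072) (Steps.fwd (nat_lit 3072) (Steps.fwd (nat_lit 1024) (Steps.fwd (nat_lit 5120) Steps.nil)))))))) (nat_lit 21) (nat_lit 2),
  Rule.mk (nat_lit 4) (nat_lit 163) (Steps.bwd (nat_lit 5) (Steps.bwd (nat_lit 3) (Steps.bwd (nat_lit 6) (Steps.bwd (nat_lit 3) (Steps.fwd (nat_lit 1024) (Steps.fwd (nat_lit 5120) (Steps.fwd (nat_lit 3072) (Steps.bwd (nat_lit 1) (Steps.bwd (nat_lit 3) (Steps.fwd (nat_lit 6144) (Steps.bwd (nat_lit 3) (Steps.bwd (nat_lit 5) (Steps.bwd (nat_lit 3) (Steps.fwd (nat_lit 6144) Steps.nil)))))))))))))) (nat_lit 22) (nat_lit 8),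
  Rule.mk (nat_lit 3) (nat_lit 196) (Steps.bwd (nat_lit 2) (Steps.bwd (nat_lit 5) (Steps.bwd (nat_lit 4) (Steps.fwd (nat_lit 2048) (Steps.fwd (nat_lit 5120) (Steps.fwd (nat_lit 3072) (Steps.bwd (nat_lit 1) (Steps.bwd (nat_lit 5) (Steps.fwd (nat_lit 3072) (Steps.fwd (nat_lit 5120) (Steps.bwd (nat_lit 2) (Steps.fwd (nat_lit 4096) (Steps.bwd (nat_lit 5) (Steps.bwd (nat_lit 1) (Steps.bwd (nat_lit 3) (Steps.bwd (nat_lit 1) (Steps.fwd (nat_lit 5120) Steps.nil))))))))))))))))) (nat_lit 14) (nat_lit 5),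
  Rule.mk (nat_lit 5) (nat_lit 86) (Steps.bwd (nat_lit 3) (Steps.fwd (nat_lit 5120) (Steps.fwd (nat_lit 4096) (Steps.fwd (nat_lit 5120) (Steps.fwd (nat_lit 4096) (Steps.bwd (nat_lit 5) (Steps.fwd (nat_lit 4096) Steps.nil))))))) (nat_lit 10) (nat_lit 0),
  Rule.mk (nat_lit 5) (nat_lit 86) (Steps.bwd (nat_lit 3) (Steps.fwd (nat_lit 5120) (Steps.fwd (nat_lit 4096) (Steps.fwd (nat_lit 5120) (Steps.bwd (nat_lit 3) (Steps.bwd (nat_lit 5) (Steps.bwd (nat_lit 3) Steps.nil))))))) (nat_lit 10) (nat_lit 0),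
  Rule.mk (nat_lit 1) (nat_lit 196) (Steps.bwd (nat_lit 3) (Steps.bwd (nat_lit 1) (Steps.fwd (nat_lit 5120) (Steps.bwd (nat_lit 3) (Steps.fwd (nat_lit 1024) (Steps.fwd (nat_lit 5120) (Steps.fwd (nat_lit 3072) (Steps.bwd (nat_lit 1) (Steps.bwd (nat_lit 5) (Steps.fwd (nat_lit 3072) (Steps.fwd (nat_lit 2048) (Steps.fwd (nat_lit 5120) (Steps.fwd (nat_lit 3072) (Steps.bwd (nat_lit 5) (Steps.fwd (nat_lit 1024) (Steps.bwd (nat_lit 3) (Steps.bwd (nat_lit 5) Steps.nil))))))))))))))))) (nat_lit 14) (nat_lit 1),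
  Rule.mk (nat_lit 3) (nat_lit 196) (Steps.bwd (nat_lit 2) (Steps.fwd (nat_lit 3072) (Steps.fwd (nat_lit 5120) (Steps.fwd (nat_lit 3072) (Steps.fwd (nat_lit 1024) (Steps.fwd (nat_lit 5120) (Steps.fwd (nat_lit 3072) (Steps.fwd (nat_lit 5120) (Steps.fwd (nat_lit 6144) (Steps.bwd (nat_lit 3) (Steps.fwd (nat_lit 6144) (Steps.fwd (nat_lit 3072) (Steps.bwd (nat_lit 1) (Steps.bwd (nat_lit 3) (Steps.bwd (nat_lit 6) (Steps.fwd (nat_lit 3072) (Steps.fwd (nat_lit 6144) Steps.nil))))))))))))))))) (nat_lit 25) (nat_lit 13),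
  Rule.mk (nat_lit 5) (nat_lit 97) (Steps.bwd (nat_lit 6) (Steps.bwd (nat_lit 4) (Steps.bwd (nat_lit 4) (Steps.fwd (nat_lit 5120) (Steps.fwd (nat_lit 6144) (Steps.fwd (nat_lit 3072) (Steps.bwd (nat_lit 4) (Steps.fwd (nat_lit 1024) Steps.nil)))))))) (nat_lit 21) (nat_lit 1),
  Rule.mk (nat_lit 5) (nat_lit 97) (Steps.bwd (nat_lit 6) (Steps.fwd (nat_lit 3072) (Steps.fwd (nat_lit 3072) (Steps.fwd (nat_lit 1024) (Steps.fwd (nat_lit 5120) (Steps.fwd (nat_lit 6144) (Steps.fwd (nat_lit 3072) (Steps.bwd (nat_lit 4) Steps.nil)))))))) (nat_lit 21) (nat_lit 5),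
  Rule.mk (nat_lit 5) (nat_lit 86) (Steps.bwd (nat_lit 3) (Steps.fwd (nat_lit 5120) (Steps.fwd (nat_lit 4096) (Steps.fwd (nat_lit 5120) (Steps.bwd (nat_lit 3) (Steps.bwd (nat_lit 5) (Steps.fwd (nat_lit 4096) Steps.nil))))))) (nat_lit 10) (nat_lit 0),
  Rule.mk (nat_lit 6) (nat_lit 163) (Steps.bwd (nat_lit 3) (Steps.fwd (nat_lit 5120) (Steps.fwd (nat_lit 4096) (Steps.fwd (nat_lit 6144) (Steps.bwd (nat_lit 4) (Steps.bwd (nat_lit 5) (Steps.fwd (nat_lit 4096) (Steps.fwd (nat_lit 6144) (Steps.fwd (nat_lit 4096) (Steps.bwd (nat_lit 2) (Steps.fwd (nat_lit 5120) (Steps.fwd (nat_lit 3072) (Steps.bwd (nat_lit 1) (Steps.bwd (nat_lit 3) Steps.nil)))))))))))))) (nat_lit 22) (nat_lit 3),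
  Rule.mk (nat_lit 1) (nat_lit 97) (Steps.fwd (nat_lit 4096) (Steps.fwd (nat_lit 4096) (Steps.fwd (nat_lit 6144) (Steps.fwd (nat_lit 5120) (Steps.bwd (nat_lit 3) (Steps.fwd (nat_lit 4096) (Steps.bwd (nat_lit 6) (Steps.bwd (nat_lit 5) Steps.nil)))))))) (nat_lit 20) (nat_lit 1),
  Rule.mk (nat_lit 1) (nat_lit 42) (Steps.fwd (nat_lit 5120) (Steps.fwd (nat_lit 1024) (Steps.fwd (nat_lit 5120) Steps.nil))) (nat_lit 8) (nat_lit 1),
  Rule.mk (nat_lit 3) (nat_lit 86) (Steps.bwd (nat_lit 1) (Steps.bwd (nat_lit 3) (Steps.fwd (nat_lit 2048) (Steps.bwd (nat_lit 3) (Steps.bwd (nat_lit 1) (Steps.bwd (nat_lit 4) (Steps.bwd (nat_lit 1) Steps.nil))))))) (nat_lit 4) (nat_lit 2),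
  Rule.mk (nat_lit 5) (nat_lit 196) (Steps.bwd (nat_lit 1) (Steps.bwd (nat_lit 3) (Steps.bwd (nat_lit 5) (Steps.bwd (nat_lit 3) (Steps.bwd (nat_lit 1) (Steps.fwd (nat_lit 3072) (Steps.fwd (nat_lit 6144) (Steps.fwd (nat_lit 4096) (Steps.bwd (nat_lit 6) (Steps.bwd (nat_lit 4) (Steps.bwd (nat_lit 2) (Steps.fwd (nat_lit 4096) (Steps.bwd (nat_lit 6) (Steps.bwd (nat_lit 4) (Steps.fwd (nat_lit 6144) (Steps.fwd (nat_lit 5120) (Steps.fwd (nat_lit 4096) Steps.nil))))))))))))))))) (nat_lit 24) (nat_lit 0),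
  Rule.mk (nat_lit 5) (nat_lit 42) (Steps.bwd (nat_lit 2) (Steps.fwd (nat_lit 5120) (Steps.bwd (nat_lit 1) Steps.nil))) (nat_lit 8) (nat_lit 2),
  Rule.mk (nat_lit 6) (nat_lit 97) (Steps.fwd (nat_lit 3072) (Steps.bwd (nat_lit 4) (Steps.bwd (nat_lit 5) (Steps.fwd (nat_lit 6144) (Steps.fwd (nat_lit 3072) (Steps.fwd (nat_lit 3072) (Steps.fwd (nat_lit 1024) (Steps.bwd (nat_lit 5) Steps.nil)))))))) (nat_lit 21) (nat_lit 2),
  Rule.mk (nat_lit 4) (nat_lit 86) (Steps.bwd (nat_lit 2) (Steps.fwd (nat_lit 4096) (Steps.bwd (nat_lit 2) (Steps.fwd (nat_lit 3072) (Steps.fwd (nat_lit 1024) (Steps.fwd (nat_lit 3072) (Steps.bwd (nat_lit 2) Steps.nil))))))) (nat_lit 5) (nat_lit 7),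
  Rule.mk (nat_lit 5) (nat_lit 163) (Steps.bwd (nat_lit 4) (Steps.bwd (nat_lit 6) (Steps.fwd (nat_lit 3072) (Steps.bwd (nat_lit 2) (Steps.fwd (nat_lit 4096) (Steps.fwd (nat_lit 5120) (Steps.bwd (nat_lit 1) (Steps.bwd (nat_lit 4) (Steps.fwd (nat_lit 6144) (Steps.fwd (nat_lit 3072) (Steps.fwd (nat_lit 5120) (Steps.bwd (nat_lit 3) (Steps.fwd (nat_lit 6144) (Steps.bwd (nat_lit 4) Steps.nil)))))))))))))) (nat_lit 23) (nat_lit 11),
  Rule.mk (nat_lit 6) (nat_lit 196) (Steps.fwd (nat_lit 3072) (Steps.bwd (nat_lit 1) (Steps.bwd (nat_lit 3) (Steps.bwd (nat_lit 6) (Steps.bwd (nat_lit 4) (Steps.fwd (nat_lit 6144) (Steps.fwd (nat_lit 4096) (Steps.bwd (nat_lit 2) (Steps.fwd (nat_lit 3072) (Steps.fwd (nat_lit 5120) (Steps.fwd (nat_lit 3072) (Steps.fwd (nat_lit 1024) (Steps.fwd (nat_lit 5120) (Steps.bwd (nat_lit 4) (Steps.bwd (nat_lit 5) (Steps.bwd (nat_lit 6) (Steps.fwd (nat_lit 4096) Steps.nil))))))))))))))))) (nat_lit 25) (nat_lit 6),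
  Rule.mk (nat_lit 3) (nat_lit 196) (Steps.bwd (nat_lit 1) (Steps.bwd (nat_lit 4) (Steps.fwd (nat_lit 6144) (Steps.bwd (nat_lit 3) (Steps.fwd (nat_lit 6144) (Steps.bwd (nat_lit 4) (Steps.fwd (nat_lit 1024) (Steps.fwd (nat_lit 4096) (Steps.bwd (nat_lit 6) (Steps.bwd (nat_lit 4) (Steps.fwd (nat_lit 6144) (Steps.fwd (nat_lit 5120) (Steps.fwd (nat_lit 4096) (Steps.fwd (nat_lit 5120) (Steps.fwd (nat_lit 2048) (Steps.fwd (nat_lit 4096) (Steps.bwd (nat_lit 5) Steps.nil))))))))))))))))) (nat_lit 24) (nat_lit 4),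
  Rule.mk (nat_lit 1) (nat_lit 86) (Steps.fwd (nat_lit 4096) (Steps.bwd (nat_lit 1) (Steps.bwd (nat_lit 3) (Steps.bwd (nat_lit 1) (Steps.bwd (nat_lit 4) (Steps.bwd (nat_lit 1) (Steps.fwd (nat_lit 4096) Steps.nil))))))) (nat_lit 4) (nat_lit 3),
  Rule.mk (nat_lit 1) (nat_lit 86) (Steps.fwd (nat_lit 3072) (Steps.bwd (nat_lit 1) (Steps.bwd (nat_lit 3) (Steps.bwd (nat_lit 1) (Steps.fwd (nat_lit 4096) (Steps.fwd (nat_lit 2048) (Steps.fwd (nat_lit 4096) Steps.nil))))))) (nat_lit 4) (nat_lit 7),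
  Rule.mk (nat_lit 5) (nat_lit 86) (Steps.fwd (nat_lit 4096) (Steps.fwd (nat_lit 5120) (Steps.fwd (nat_lit 4096) (Steps.fwd (nat_lit 5120) (Steps.fwd (nat_lit 4096) (Steps.bwd (nat_lit 5) (Steps.bwd (nat_lit 3) Steps.nil))))))) (nat_lit 10) (nat_lit 0),
  Rule.mk (nat_lit 6) (nat_lit 97) (Steps.bwd (nat_lit 5) (Steps.bwd (nat_lit 1) (Steps.fwd (nat_lit 4096) (Steps.bwd (nat_lit 3) (Steps.bwd (nat_lit 6) (Steps.bwd (nat_lit 5) (Steps.bwd (nat_lit 3) (Steps.bwd (nat_lit 3) Steps.nil)))))))) (nat_lit 20) (nat_lit 8),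
  Rule.mk (nat_lit 3) (nat_lit 163) (Steps.bwd (nat_lit 6) (Steps.bwd (nat_lit 3) (Steps.bwd (nat_lit 2) (Steps.bwd (nat_lit 5) (Steps.bwd (nat_lit 4) (Steps.bwd (nat_lit 1) (Steps.fwd (nat_lit 4096) (Steps.bwd (nat_lit 6) (Steps.fwd (nat_lit 4096) (Steps.fwd (nat_lit 5120) (Steps.fwd (nat_lit 4096) (Steps.fwd (nat_lit 6144) (Steps.bwd (nat_lit 4) (Steps.fwd (nat_lit 5120) Steps.nil)))))))))))))) (nat_lit 22) (nat_lit 10),
  Rule.mk (nat_lit 1) (nat_lit 196) (Steps.bwd (nat_lit 3) (Steps.bwd (nat_lit 6) (Steps.fwd (nat_lit 3072) (Steps.fwd (nat_lit 6144) (Steps.fwd (nat_lit 4096) (Steps.fwd (nat_lit 1024) (Steps.fwd (nat_lit 3072) (Steps.bwd (nat_lit 5) (Steps.fwd (nat_lit 3072) (Steps.bwd (nat_lit 2) (Steps.fwd (nat_lit 5120) (Steps.fwd (nat_lit 3072) (Steps.bwd (nat_lit 5) (Steps.bwd (nat_lit 6) (Steps.fwd (nat_lit 4096) (Steps.fwd (nat_lit 6144) (Steps.bwd (nat_lit 4) Steps.nil))))))))))))))))) (nat_lit 25) (nat_lit 8),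
  Rule.mk (nat_lit 2) (nat_lit 196) (Steps.fwd (nat_lit 3072) (Steps.fwd (nat_lit 5120) (Steps.bwd (nat_lit 4) (Steps.bwd (nat_lit 2) (Steps.bwd (nat_lit 5) (Steps.bwd (nat_lit 4) (Steps.bwd (nat_lit 5) (Steps.bwd (nat_lit 6) (Steps.bwd (nat_lit 3) (Steps.bwd (nat_lit 6) (Steps.fwd (nat_lit 3072) (Steps.bwd (nat_lit 1) (Steps.fwd (nat_lit 4096) (Steps.fwd (nat_lit 6144) (Steps.fwd (nat_lit 3072) (Steps.bwd (nat_lit 6) (Steps.fwd (nat_lit 4096) Steps.nil))))))))))))))))) (nat_lit 25) (nat_lit 14),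
  Rule.mk (nat_lit 6) (nat_lit 196) (Steps.bwd (nat_lit 4) (Steps.bwd (nat_lit 1) (Steps.bwd (nat_lit 3) (Steps.fwd (nat_lit 6144) (Steps.bwd (nat_lit 4) (Steps.fwd (nat_lit 6144) (Steps.fwd (nat_lit 4096) (Steps.bwd (nat_lit 2) (Steps.bwd (nat_lit 4) (Steps.fwd (nat_lit 5120) (Steps.bwd (nat_lit 4) (Steps.bwd (nat_lit 2) (Steps.fwd (nat_lit 5120) (Steps.bwd (nat_lit 4) (Steps.fwd (nat_lit 5120) (Steps.fwd (nat_lit 6144) (Steps.fwd (nat_lit 4096) Steps.nil))))))))))))))))) (nat_lit 25) (nat_lit 6),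
  Rule.mk (nat_lit 1) (nat_lit 42) (Steps.bwd (nat_lit 5) (Steps.bwd (nat_lit 2) (Steps.fwd (nat_lit 5120) Steps.nil))) (nat_lit 8) (nat_lit 1),
  Rule.mk (nat_lit 0) (nat_lit 174) (Steps.bwd (nat_lit 1) (Steps.fwd (nat_lit 4096) (Steps.bwd (nat_lit 6) (Steps.fwd (nat_lit 4096) (Steps.fwd (nat_lit 5120) (Steps.fwd (nat_lit 4096) (Steps.bwd (nat_lit 6) (Steps.fwd (nat_lit 3072) (Steps.fwd (nat_lit 5120) (Steps.bwd (nat_lit 3) (Steps.fwd (nat_lit 6144) (Steps.fwd (nat_lit 4096) (Steps.bwd (nat_lit 2) (Steps.bwd (nat_lit 5) (Steps.bwd (nat_lit 4) Steps.nil))))))))))))))) (nat_lit 22) (nat_lit 0),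
  Rule.mk (nat_lit 0) (nat_lit 42) (Steps.bwd (nat_lit 5) (Steps.fwd (nat_lit 0) (Steps.bwd (nat_lit 5) Steps.nil))) (nat_lit 26) (nat_lit 0),
  Rule.mk (nat_lit 4) (nat_lit 196) (Steps.fwd (nat_lit 5120) (Steps.bwd (nat_lit 2) (Steps.fwd (nat_lit 4096) (Steps.fwd (nat_lit 5120) (Steps.fwd (nat_lit 2048) (Steps.fwd (nat_lit 4096) (Steps.fwd (nat_lit 2048) (Steps.fwd (nat_lit 5120) (Steps.fwd (nat_lit 4096) (Steps.bwd (nat_lit 2) (Steps.bwd (nat_lit 5) (Steps.bwd (nat_lit 4) (Steps.bwd (nat_lit 1) (Steps.bwd (nat_lit 5) (Steps.bwd (nat_lit 4) (Steps.fwd (nat_lit 2048) (Steps.fwd (nat_lit 5120) Steps.nil))))))))))))))))) (nat_lit 14) (nat_lit 14)]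
noncomputable def R_3 : List (Rule) := [Rule.mk (nat_lit 0) (nat_lit 108) (Steps.bwd (nat_lit 5) (Steps.bwd (nat_lit 4) (Steps.bwd (nat_lit 4) (Steps.fwd (nat_lit 5120) (Steps.bwd (nat_lit 4) (Steps.bwd (nat_lit 4) (Steps.bwd (nat_lit 5) (Steps.bwd (nat_lit 4) (Steps.bwd (nat_lit 4) Steps.nil))))))))) (nat_lit 13) (nat_lit 0),
  Rule.mk (nat_lit 0) (nat_lit 42) (Steps.fwd (nat_lit 2048) (Steps.fwd (nat_lit 0) (Steps.bwd (nat_lit 2) Steps.nil))) (nat_lit 26) (nat_lit 0),
  Rule.mk (nat_lit 0) (nat_lit 42) (Steps.bwd (nat_lit 2) (Steps.fwd (nat_lit 0) (Steps.fwd (nat_lit 2048) Steps.nil))) (nat_lit 26) (nat_lit 0),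
  Rule.mk (nat_lit 5) (nat_lit 31) (Steps.bwd (nat_lit 0) (Steps.fwd (nat_lit 5120) Steps.nil)) (nat_lit 26) (nat_lit 0),
  Rule.mk (nat_lit 0) (nat_lit 42) (Steps.bwd (nat_lit 4) (Steps.fwd (nat_lit 0) (Steps.fwd (nat_lit 4096) Steps.nil))) (nat_lit 26) (nat_lit 0),
  Rule.mk (nat_lit 6) (nat_lit 42) (Steps.bwd (nat_lit 0) (Steps.fwd (nat_lit 6144) (Steps.fwd (nat_lit 0) Steps.nil))) (nat_lit 26) (nat_lit 0),
  Rule.mk (nat_lit 6) (nat_lit 97) (Steps.bwd (nat_lit 4) (Steps.bwd (nat_lit 4) (Steps.bwd (nat_lit 5) (Steps.bwd (nat_lit 6) (Steps.bwd (nat_lit 4) (Steps.bwd (nat_lit 4) (Steps.fwd (nat_lit 1024) (Steps.fwd (nat_lit 5120) Steps.nil)))))))) (nat_lit 21) (nat_lit 2),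
  Rule.mk (nat_lit 6) (nat_lit 196) (Steps.fwd (nat_lit 4096) (Steps.bwd (nat_lit 2) (Steps.bwd (nat_lit 4) (Steps.fwd (nat_lit 5120) (Steps.bwd (nat_lit 4) (Steps.bwd (nat_lit 2) (Steps.fwd (nat_lit 5120) (Steps.bwd (nat_lit 4) (Steps.fwd (nat_lit 5120) (Steps.bwd (nat_lit 6) (Steps.fwd (nat_lit 4096) (Steps.fwd (nat_lit 6144) (Steps.bwd (nat_lit 4) (Steps.fwd (nat_lit 2048) (Steps.bwd (nat_lit 3) (Steps.fwd (nat_lit 6144) (Steps.bwd (nat_lit 4) Steps.nil))))))))))))))))) (nat_lit 25) (nat_lit 12),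
  Rule.mk (nat_lit 0) (nat_lit 207) (Steps.bwd (nat_lit 6) (Steps.bwd (nat_lit 4) (Steps.bwd (nat_lit 2) (Steps.fwd (nat_lit 4096) (Steps.bwd (nat_lit 6) (Steps.bwd (nat_lit 4) (Steps.bwd (nat_lit 6) (Steps.bwd (nat_lit 5) (Steps.fwd (nat_lit 4096) (Steps.bwd (nat_lit 5) (Steps.fwd (nat_lit 2048) (Steps.bwd (nat_lit 3) (Steps.bwd (nat_lit 5) (Steps.bwd (nat_lit 3) (Steps.fwd (nat_lit 2048) (Steps.bwd (nat_lit 4) (Steps.fwd (nat_lit 6144) (Steps.fwd (nat_lit 4096) Steps.nil)))))))))))))))))) (nat_lit 24) (nat_lit 8),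
  Rule.mk (nat_lit 6) (nat_lit 31) (Steps.bwd (nat_lit 0) (Steps.bwd (nat_lit 6) Steps.nil)) (nat_lit 26) (nat_lit 0),
  Rule.mk (nat_lit 0) (nat_lit 108) (Steps.bwd (nat_lit 6) (Steps.bwd (nat_lit 5) (Steps.fwd (nat_lit 2048) (Steps.fwd (nat_lit 4096) (Steps.fwd (nat_lit 4096) (Steps.bwd (nat_lit 6) (Steps.bwd (nat_lit 5) (Steps.fwd (nat_lit 4096) (Steps.fwd (nat_lit 4096) Steps.nil))))))))) (nat_lit 20) (nat_lit 7),
  Rule.mk (nat_lit 6) (nat_lit 64) (Steps.fwd (nat_lit 5120) (Steps.bwd (nat_lit 6) (Steps.bwd (nat_lit 5) (Steps.fwd (nat_lit 6144) (Steps.bwd (nat_lit 5) Steps.nil))))) (nat_lit 18) (nat_lit 0),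
  Rule.mk (nat_lit 6) (nat_lit 163) (Steps.fwd (nat_lit 4096) (Steps.bwd (nat_lit 2) (Steps.bwd (nat_lit 5) (Steps.bwd (nat_lit 4) (Steps.bwd (nat_lit 1) (Steps.bwd (nat_lit 3) (Steps.bwd (nat_lit 6) (Steps.bwd (nat_lit 3) (Steps.bwd (nat_lit 5) (Steps.bwd (nat_lit 3) (Steps.fwd (nat_lit 6144) (Steps.fwd (nat_lit 3072) (Steps.bwd (nat_lit 5) (Steps.fwd (nat_lit 4096) Steps.nil)))))))))))))) (nat_lit 22) (nat_lit 11),
  Rule.mk (nat_lit 2) (nat_lit 86) (Steps.bwd (nat_lit 4) (Steps.bwd (nat_lit 2) (Steps.bwd (nat_lit 4) (Steps.bwd (nat_lit 2) (Steps.bwd (nat_lit 4) (Steps.fwd (nat_lit 1024) (Steps.bwd (nat_lit 3) Steps.nil))))))) (nat_lit 5) (nat_lit 2),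
  Rule.mk (nat_lit 6) (nat_lit 97) (Steps.fwd (nat_lit 5120) (Steps.bwd (nat_lit 1) (Steps.fwd (nat_lit 4096) (Steps.bwd (nat_lit 3) (Steps.fwd (nat_lit 6144) (Steps.fwd (nat_lit 5120) (Steps.fwd (nat_lit 4096) (Steps.fwd (nat_lit 4096) Steps.nil)))))))) (nat_lit 20) (nat_lit 8),
  Rule.mk (nat_lit 6) (nat_lit 64) (Steps.bwd (nat_lit 5) (Steps.fwd (nat_lit 6144) (Steps.fwd (nat_lit 5120) (Steps.bwd (nat_lit 6) (Steps.fwd (nat_lit 5120) Steps.nil))))) (nat_lit 18) (nat_lit 0),
  Rule.mk (nat_lit 6) (nat_lit 163) (Steps.bwd (nat_lit 3) (Steps.fwd (nat_lit 1024) (Steps.bwd (nat_lit 5) (Steps.fwd (nat_lit 3072) (Steps.bwd (nat_lit 1) (Steps.fwd (nat_lit 4096) (Steps.fwd (nat_lit 6144) (Steps.bwd (nat_lit 3) (Steps.bwd (nat_lit 5) (Steps.fwd (nat_lit 4096) (Steps.fwd (nat_lit 6144) (Steps.bwd (nat_lit 4) (Steps.fwd (nat_lit 5120) (Steps.fwd (nat_lit 4096) Steps.nil)))))))))))))) (nat_lit 22) (nat_lit 11),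
  Rule.mk (nat_lit 6) (nat_lit 163) (Steps.bwd (nat_lit 3) (Steps.bwd (nat_lit 5) (Steps.bwd (nat_lit 3) (Steps.bwd (nat_lit 6) (Steps.fwd (nat_lit 3072) (Steps.bwd (nat_lit 5) (Steps.bwd (nat_lit 3) (Steps.fwd (nat_lit 6144) (Steps.fwd (nat_lit 4096) (Steps.bwd (nat_lit 2) (Steps.bwd (nat_lit 5) (Steps.bwd (nat_lit 4) (Steps.fwd (nat_lit 2048) (Steps.fwd (nat_lit 4096) Steps.nil)))))))))))))) (nat_lit 22) (nat_lit 3),
  Rule.mk (nat_lit 4) (nat_lit 86) (Steps.bwd (nat_lit 2) (Steps.bwd (nat_lit 3) (Steps.bwd (nat_lit 2) (Steps.fwd (nat_lit 3072) (Steps.fwd (nat_lit 1024) (Steps.fwd (nat_lit 3072) (Steps.bwd (nat_lit 2) Steps.nil))))))) (nat_lit 5) (nat_lit 7),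
  Rule.mk (nat_lit 5) (nat_lit 42) (Steps.bwd (nat_lit 2) (Steps.fwd (nat_lit 5120) (Steps.fwd (nat_lit 2048) Steps.nil))) (nat_lit 8) (nat_lit 2),
  Rule.mk (nat_lit 4) (nat_lit 86) (Steps.bwd (nat_lit 2) (Steps.bwd (nat_lit 3) (Steps.bwd (nat_lit 2) (Steps.fwd (nat_lit 3072) (Steps.fwd (nat_lit 1024) (Steps.fwd (nat_lit 3072) (Steps.fwd (nat_lit 1024) Steps.nil))))))) (nat_lit 5) (nat_lit 7),
  Rule.mk (nat_lit 6) (nat_lit 97) (Steps.fwd (nat_lit 3072) (Steps.fwd (nat_lit 3072) (Steps.fwd (nat_lit 1024) (Steps.fwd (nat_lit 5120) (Steps.bwd (nat_lit 6) (Steps.bwd (nat_lit 4) (Steps.bwd (nat_lit 4) (Steps.fwd (nat_lit 5120) Steps.nil)))))))) (nat_lit 21) (nat_lit 6),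
  Rule.mk (nat_lit 6) (nat_lit 196) (Steps.fwd (nat_lit 4096) (Steps.fwd (nat_lit 6144) (Steps.bwd (nat_lit 4) (Steps.bwd (nat_lit 1) (Steps.fwd (nat_lit 4096) (Steps.bwd (nat_lit 6) (Steps.bwd (nat_lit 4) (Steps.fwd (nat_lit 6144) (Steps.fwd (nat_lit 4096) (Steps.bwd (nat_lit 2) (Steps.fwd (nat_lit 3072) (Steps.bwd (nat_lit 5) (Steps.bwd (nat_lit 4) (Steps.fwd (nat_lit 1024) (Steps.fwd (nat_lit 5120) (Steps.bwd (nat_lit 4) (Steps.bwd (nat_lit 5) Steps.nil))))))))))))))))) (nat_lit 25) (nat_lit 4),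
  Rule.mk (nat_lit 5) (nat_lit 86) (Steps.bwd (nat_lit 4) (Steps.fwd (nat_lit 5120) (Steps.bwd (nat_lit 4) (Steps.bwd (nat_lit 5) (Steps.fwd (nat_lit 3072) (Steps.bwd (nat_lit 5) (Steps.bwd (nat_lit 4) Steps.nil))))))) (nat_lit 11) (nat_lit 1),
  Rule.mk (nat_lit 5) (nat_lit 196) (Steps.fwd (nat_lit 1024) (Steps.fwd (nat_lit 3072) (Steps.bwd (nat_lit 2) (Steps.bwd (nat_lit 5) (Steps.bwd (nat_lit 4) (Steps.bwd (nat_lit 1) (Steps.fwd (nat_lit 5120) (Steps.fwd (nat_lit 4096) (Steps.bwd (nat_lit 5) (Steps.fwd (nat_lit 1024) (Steps.fwd (nat_lit 4096) (Steps.fwd (nat_lit 5120) (Steps.bwd (nat_lit 2) (Steps.fwd (nat_lit 4096) (Steps.fwd (nat_lit 5120) (Steps.fwd (nat_lit 2048) (Steps.bwd (nat_lit 4) Steps.nil))))))))))))))))) (nat_lit 15) (nat_lit 15),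
  Rule.mk (nat_lit 4) (nat_lit 196) (Steps.bwd (nat_lit 1) (Steps.fwd (nat_lit 5120) (Steps.fwd (nat_lit 4096) (Steps.fwd (nat_lit 5120) (Steps.fwd (nat_lit 1024) (Steps.fwd (nat_lit 4096) (Steps.fwd (nat_lit 5120) (Steps.fwd (nat_lit 1024) (Steps.bwd (nat_lit 3) (Steps.fwd (nat_lit 5120) (Steps.fwd (nat_lit 2048) (Steps.bwd (nat_lit 4) (Steps.bwd (nat_lit 5) (Steps.fwd (nat_lit 1024) (Steps.fwd (nat_lit 3072) (Steps.bwd (nat_lit 2) (Steps.bwd (nat_lit 5) Steps.nil))))))))))))))))) (nat_lit 15) (nat_lit 2),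
  Rule.mk (nat_lit 6) (nat_lit 163) (Steps.bwd (nat_lit 4) (Steps.fwd (nat_lit 5120) (Steps.bwd (nat_lit 4) (Steps.bwd (nat_lit 6) (Steps.fwd (nat_lit 3072) (Steps.fwd (nat_lit 1024) (Steps.bwd (nat_lit 3) (Steps.fwd (nat_lit 5120) (Steps.bwd (nat_lit 1) (Steps.bwd (nat_lit 4) (Steps.fwd (nat_lit 6144) (Steps.bwd (nat_lit 4) (Steps.bwd (nat_lit 5) (Steps.bwd (nat_lit 3) Steps.nil)))))))))))))) (nat_lit 23) (nat_lit 9),
  Rule.mk (nat_lit 3) (nat_lit 97) (Steps.bwd (nat_lit 6) (Steps.fwd (nat_lit 5120) (Steps.fwd (nat_lit 2048) (Steps.fwd (nat_lit 4096) (Steps.fwd (nat_lit 4096) (Steps.bwd (nat_lit 6) (Steps.bwd (nat_lit 5) (Steps.fwd (nat_lit 4096) Steps.nil)))))))) (nat_lit 20) (nat_lit 7),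
  Rule.mk (nat_lit 4) (nat_lit 196) (Steps.bwd (nat_lit 6) (Steps.fwd (nat_lit 5120) (Steps.fwd (nat_lit 4096) (Steps.bwd (nat_lit 5) (Steps.fwd (nat_lit 2048) (Steps.fwd (nat_lit 4096) (Steps.fwd (nat_lit 5120) (Steps.fwd (nat_lit 4096) (Steps.fwd (nat_lit 2048) (Steps.fwd (nat_lit 3072) (Steps.bwd (nat_lit 6) (Steps.bwd (nat_lit 3) (Steps.bwd (nat_lit 6) (Steps.bwd (nat_lit 4) (Steps.bwd (nat_lit 2) (Steps.bwd (nat_lit 3) (Steps.fwd (nat_lit 6144) Steps.nil))))))))))))))))) (nat_lit 24) (nat_lit 14),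
  Rule.mk (nat_lit 4) (nat_lit 86) (Steps.bwd (nat_lit 5) (Steps.bwd (nat_lit 4) (Steps.fwd (nat_lit 5120) (Steps.bwd (nat_lit 4) (Steps.fwd (nat_lit 5120) (Steps.bwd (nat_lit 4) (Steps.bwd (nat_lit 5) Steps.nil))))))) (nat_lit 11) (nat_lit 0),
  Rule.mk (nat_lit 3) (nat_lit 86) (Steps.bwd (nat_lit 2) (Steps.bwd (nat_lit 4) (Steps.bwd (nat_lit 2) (Steps.fwd (nat_lit 3072) (Steps.fwd (nat_lit 1024) (Steps.fwd (nat_lit 3072) (Steps.bwd (nat_lit 2) Steps.nil))))))) (nat_lit 5) (nat_lit 1),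
  Rule.mk (nat_lit 3) (nat_lit 86) (Steps.bwd (nat_lit 5) (Steps.fwd (nat_lit 4096) (Steps.fwd (nat_lit 5120) (Steps.fwd (nat_lit 4096) (Steps.fwd (nat_lit 5120) (Steps.fwd (nat_lit 4096) (Steps.fwd (nat_lit 5120) Steps.nil))))))) (nat_lit 10) (nat_lit 1),
  Rule.mk (nat_lit 1) (nat_lit 196) (Steps.bwd (nat_lit 5) (Steps.fwd (nat_lit 4096) (Steps.bwd (nat_lit 2) (Steps.bwd (nat_lit 5) (Steps.bwd (nat_lit 4) (Steps.bwd (nat_lit 1) (Steps.bwd (nat_lit 5) (Steps.fwd (nat_lit 3072) (Steps.bwd (nat_lit 1) (Steps.fwd (nat_lit 5120) (Steps.fwd (nat_lit 3072) (Steps.fwd (nat_lit 5120) (Steps.bwd (nat_lit 2) (Steps.fwd (nat_lit 4096) (Steps.bwd (nat_lit 5) (Steps.fwd (nat_lit 2048) (Steps.bwd (nat_lit 3) Steps.nil))))))))))))))))) (nat_lit 14) (nat_lit 3),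
  Rule.mk (nat_lit 6) (nat_lit 163) (Steps.bwd (nat_lit 4) (Steps.fwd (nat_lit 5120) (Steps.fwd (nat_lit 4096) (Steps.bwd (nat_lit 6) (Steps.fwd (nat_lit 3072) (Steps.fwd (nat_lit 5120) (Steps.bwd (nat_lit 4) (Steps.fwd (nat_lit 6144) (Steps.fwd (nat_lit 3072) (Steps.fwd (nat_lit 1024) (Steps.bwd (nat_lit 3) (Steps.fwd (nat_lit 5120) (Steps.fwd (nat_lit 2048) (Steps.bwd (nat_lit 4) Steps.nil)))))))))))))) (nat_lit 23) (nat_lit 5),
  Rule.mk (nat_lit 1) (nat_lit 86) (Steps.bwd (nat_lit 4) (Steps.fwd (nat_lit 2048) (Steps.bwd (nat_lit 3) (Steps.bwd (nat_lit 1) (Steps.bwd (nat_lit 3) (Steps.bwd (nat_lit 1) (Steps.fwd (nat_lit 4096) Steps.nil))))))) (nat_lit 4) (nat_lit 7),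
  Rule.mk (nat_lit 1) (nat_lit 196) (Steps.bwd (nat_lit 5) (Steps.fwd (nat_lit 3072) (Steps.bwd (nat_lit 5) (Steps.bwd (nat_lit 2) (Steps.fwd (nat_lit 4096) (Steps.fwd (nat_lit 5120) (Steps.fwd (nat_lit 2048) (Steps.fwd (nat_lit 4096) (Steps.fwd (nat_lit 2048) (Steps.bwd (nat_lit 5) (Steps.fwd (nat_lit 4096) (Steps.fwd (nat_lit 1024) (Steps.fwd (nat_lit 5120) (Steps.fwd (nat_lit 3072) (Steps.fwd (nat_lit 2048) (Steps.bwd (nat_lit 5) (Steps.bwd (nat_lit 4) Steps.nil))))))))))))))))) (nat_lit 14) (nat_lit 12),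
  Rule.mk (nat_lit 4) (nat_lit 196) (Steps.bwd (nat_lit 6) (Steps.fwd (nat_lit 5120) (Steps.fwd (nat_lit 4096) (Steps.fwd (nat_lit 5120) (Steps.bwd (nat_lit 1) (Steps.bwd (nat_lit 3) (Steps.fwd (nat_lit 5120) (Steps.fwd (nat_lit 4096) (Steps.bwd (nat_lit 1) (Steps.bwd (nat_lit 4) (Steps.bwd (nat_lit 6) (Steps.fwd (nat_lit 4096) (Steps.fwd (nat_lit 6144) (Steps.fwd (nat_lit 3072) (Steps.bwd (nat_lit 2) (Steps.bwd (nat_lit 3) (Steps.fwd (nat_lit 6144) Steps.nil))))))))))))))))) (nat_lit 24) (nat_lit 14),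
  Rule.mk (nat_lit 3) (nat_lit 196) (Steps.bwd (nat_lit 6) (Steps.bwd (nat_lit 4) (Steps.bwd (nat_lit 6) (Steps.bwd (nat_lit 5) (Steps.bwd (nat_lit 3) (Steps.fwd (nat_lit 5120) (Steps.fwd (nat_lit 2048) (Steps.fwd (nat_lit 4096) (Steps.fwd (nat_lit 5120) (Steps.fwd (nat_lit 4096) (Steps.fwd (nat_lit 2048) (Steps.bwd (nat_lit 4) (Steps.fwd (nat_lit 6144) (Steps.fwd (nat_lit 4096) (Steps.bwd (nat_lit 6) (Steps.bwd (nat_lit 4) (Steps.fwd (nat_lit 1024) Steps.nil))))))))))))))))) (nat_lit 24) (nat_lit 12),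
  Rule.mk (nat_lit 5) (nat_lit 196) (Steps.bwd (nat_lit 2) (Steps.fwd (nat_lit 4096) (Steps.bwd (nat_lit 5) (Steps.fwd (nat_lit 2048) (Steps.fwd (nat_lit 4096) (Steps.bwd (nat_lit 1) (Steps.bwd (nat_lit 5) (Steps.fwd (nat_lit 4096) (Steps.fwd (nat_lit 1024) (Steps.bwd (nat_lit 5) (Steps.bwd (nat_lit 4) (Steps.bwd (nat_lit 1) (Steps.bwd (nat_lit 5) (Steps.fwd (nat_lit 3072) (Steps.fwd (nat_lit 2048) (Steps.fwd (nat_lit 5120) (Steps.bwd (nat_lit 4) Steps.nil))))))))))))))))) (nat_lit 14) (nat_lit 15),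
  Rule.mk (nat_lit 5) (nat_lit 86) (Steps.bwd (nat_lit 4) (Steps.fwd (nat_lit 5120) (Steps.fwd (nat_lit 3072) (Steps.bwd (nat_lit 5) (Steps.bwd (nat_lit 4) (Steps.bwd (nat_lit 5) (Steps.fwd (nat_lit 3072) Steps.nil))))))) (nat_lit 11) (nat_lit 1),
  Rule.mk (nat_lit 5) (nat_lit 64) (Steps.bwd (nat_lit 6) (Steps.fwd (nat_lit 5120) (Steps.bwd (nat_lit 6) (Steps.fwd (nat_lit 5120) (Steps.fwd (nat_lit 6144) Steps.nil))))) (nat_lit 18) (nat_lit 1),
  Rule.mk (nat_lit 3) (nat_lit 163) (Steps.bwd (nat_lit 6) (Steps.fwd (nat_lit 4096) (Steps.fwd (nat_lit 5120) (Steps.bwd (nat_lit 3) (Steps.bwd (nat_lit 6) (Steps.bwd (nat_lit 4) (Steps.fwd (nat_lit 5120) (Steps.bwd (nat_lit 3) (Steps.bwd (nat_lit 6) (Steps.fwd (nat_lit 4096) (Steps.bwd (nat_lit 2) (Steps.fwd (nat_lit 5120) (Steps.bwd (nat_lit 4) (Steps.fwd (nat_lit 2048) Steps.nil)))))))))))))) (nat_lit 22) (nat_lit 2),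
  Rule.mk (nat_lit 4) (nat_lit 196) (Steps.bwd (nat_lit 6) (Steps.fwd (nat_lit 5120) (Steps.fwd (nat_lit 4096) (Steps.bwd (nat_lit 5) (Steps.bwd (nat_lit 1) (Steps.fwd (nat_lit 4096) (Steps.fwd (nat_lit 5120) (Steps.fwd (nat_lit 4096) (Steps.bwd (nat_lit 1) (Steps.fwd (nat_lit 3072) (Steps.bwd (nat_lit 6) (Steps.fwd (nat_lit 4096) (Steps.bwd (nat_lit 6) (Steps.bwd (nat_lit 4) (Steps.bwd (nat_lit 2) (Steps.bwd (nat_lit 3) (Steps.bwd (nat_lit 6) Steps.nil))))))))))))))))) (nat_lit 24) (nat_lit 14),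
  Rule.mk (nat_lit 4) (nat_lit 42) (Steps.fwd (nat_lit 3072) (Steps.bwd (nat_lit 4) (Steps.fwd (nat_lit 3072) Steps.nil))) (nat_lit 3) (nat_lit 0),
  Rule.mk (nat_lit 5) (nat_lit 86) (Steps.bwd (nat_lit 4) (Steps.bwd (nat_lit 5) (Steps.fwd (nat_lit 3072) (Steps.bwd (nat_lit 5) (Steps.bwd (nat_lit 4) (Steps.fwd (nat_lit 5120) (Steps.fwd (nat_lit 3072) Steps.nil))))))) (nat_lit 11) (nat_lit 1),
  Rule.mk (nat_lit 3) (nat_lit 196) (Steps.fwd (nat_lit 5120) (Steps.bwd (nat_lit 2) (Steps.fwd (nat_lit 4096) (Steps.fwd (nat_lit 5120) (Steps.fwd (nat_lit 1024) (Steps.bwd (nat_lit 3) (Steps.bwd (nat_lit 5) (Steps.bwd (nat_lit 1) (Steps.bwd (nat_lit 4) (Steps.fwd (nat_lit 5120) (Steps.bwd (nat_lit 2) (Steps.bwd (nat_lit 4) (Steps.bwd (nat_lit 2) (Steps.bwd (nat_lit 5) (Steps.fwd (nat_lit 3072) (Steps.fwd (nat_lit 2048) (Steps.bwd (nat_lit 5) Steps.nil))))))))))))))))) (nat_lit 15) (nat_lit 5),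
  Rule.mk (nat_lit 1) (nat_lit 86) (Steps.bwd (nat_lit 4) (Steps.bwd (nat_lit 1) (Steps.bwd (nat_lit 3) (Steps.bwd (nat_lit 1) (Steps.fwd (nat_lit 4096) (Steps.bwd (nat_lit 1) (Steps.fwd (nat_lit 4096) Steps.nil))))))) (nat_lit 4) (nat_lit 7),
  Rule.mk (nat_lit 6) (nat_lit 163) (Steps.bwd (nat_lit 4) (Steps.fwd (nat_lit 5120) (Steps.bwd (nat_lit 3) (Steps.bwd (nat_lit 6) (Steps.fwd (nat_lit 4096) (Steps.bwd (nat_lit 2) (Steps.fwd (nat_lit 5120) (Steps.bwd (nat_lit 4) (Steps.bwd (nat_lit 1) (Steps.fwd (nat_lit 4096) (Steps.bwd (nat_lit 6) (Steps.fwd (nat_lit 4096) (Steps.bwd (nat_lit 5) (Steps.fwd (nat_lit 4096) Steps.nil)))))))))))))) (nat_lit 22) (nat_lit 7),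
  Rule.mk (nat_lit 1) (nat_lit 86) (Steps.bwd (nat_lit 4) (Steps.bwd (nat_lit 1) (Steps.fwd (nat_lit 4096) (Steps.fwd (nat_lit 2048) (Steps.fwd (nat_lit 4096) (Steps.bwd (nat_lit 1) (Steps.bwd (nat_lit 3) Steps.nil))))))) (nat_lit 4) (nat_lit 7),
  Rule.mk (nat_lit 6) (nat_lit 196) (Steps.bwd (nat_lit 4) (Steps.bwd (nat_lit 1) (Steps.fwd (nat_lit 4096) (Steps.bwd (nat_lit 6) (Steps.fwd (nat_lit 3072) (Steps.fwd (nat_lit 6144) (Steps.bwd (nat_lit 3) (Steps.bwd (nat_lit 2) (Steps.bwd (nat_lit 4) (Steps.fwd (nat_lit 5120) (Steps.fwd (nat_lit 3072) (Steps.bwd (nat_lit 2) (Steps.bwd (nat_lit 5) (Steps.fwd (nat_lit 3072) (Steps.bwd (nat_lit 5) (Steps.fwd (nat_lit 6144) (Steps.fwd (nat_lit 4096) Steps.nil))))))))))))))))) (nat_lit 25) (nat_lit 6),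
  Rule.mk (nat_lit 6) (nat_lit 196) (Steps.bwd (nat_lit 5) (Steps.fwd (nat_lit 4096) (Steps.bwd (nat_lit 5) (Steps.fwd (nat_lit 2048) (Steps.fwd (nat_lit 4096) (Steps.bwd (nat_lit 5) (Steps.bwd (nat_lit 3) (Steps.bwd (nat_lit 1) (Steps.bwd (nat_lit 4) (Steps.bwd (nat_lit 6) (Steps.bwd (nat_lit 3) (Steps.fwd (nat_lit 6144) (Steps.bwd (nat_lit 4) (Steps.bwd (nat_lit 2) (Steps.fwd (nat_lit 4096) (Steps.bwd (nat_lit 6) (Steps.bwd (nat_lit 4) Steps.nil))))))))))))))))) (nat_lit 24) (nat_lit 15),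
  Rule.mk (nat_lit 3) (nat_lit 86) (Steps.bwd (nat_lit 1) (Steps.bwd (nat_lit 4) (Steps.fwd (nat_lit 2048) (Steps.fwd (nat_lit 4096) (Steps.bwd (nat_lit 1) (Steps.bwd (nat_lit 3) (Steps.bwd (nat_lit 1) Steps.nil))))))) (nat_lit 4) (nat_lit 6),
  Rule.mk (nat_lit 5) (nat_lit 97) (Steps.bwd (nat_lit 1) (Steps.fwd (nat_lit 4096) (Steps.fwd (nat_lit 4096) (Steps.bwd (nat_lit 6) (Steps.fwd (nat_lit 5120) (Steps.fwd (nat_lit 4096) (Steps.fwd (nat_lit 4096) (Steps.bwd (nat_lit 6) Steps.nil)))))))) (nat_lit 20) (nat_lit 0),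
  Rule.mk (nat_lit 5) (nat_lit 86) (Steps.bwd (nat_lit 3) (Steps.fwd (nat_lit 5120) (Steps.fwd (nat_lit 4096) (Steps.bwd (nat_lit 5) (Steps.fwd (nat_lit 4096) (Steps.fwd (nat_lit 5120) (Steps.bwd (nat_lit 3) Steps.nil))))))) (nat_lit 10) (nat_lit 0),
  Rule.mk (nat_lit 6) (nat_lit 163) (Steps.bwd (nat_lit 3) (Steps.fwd (nat_lit 5120) (Steps.fwd (nat_lit 4096) (Steps.bwd (nat_lit 6) (Steps.fwd (nat_lit 3072) (Steps.fwd (nat_lit 5120) (Steps.bwd (nat_lit 3) (Steps.fwd (nat_lit 6144) (Steps.fwd (nat_lit 4096) (Steps.bwd (nat_lit 2) (Steps.bwd (nat_lit 5) (Steps.bwd (nat_lit 4) (Steps.bwd (nat_lit 1) (Steps.bwd (nat_lit 3) Steps.nil)))))))))))))) (nat_lit 22) (nat_lit 3),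
  Rule.mk (nat_lit 3) (nat_lit 86) (Steps.bwd (nat_lit 1) (Steps.bwd (nat_lit 3) (Steps.bwd (nat_lit 1) (Steps.fwd (nat_lit 4096) (Steps.fwd (nat_lit 2048) (Steps.bwd (nat_lit 4) (Steps.bwd (nat_lit 1) Steps.nil))))))) (nat_lit 4) (nat_lit 2),
  Rule.mk (nat_lit 4) (nat_lit 86) (Steps.bwd (nat_lit 1) (Steps.bwd (nat_lit 3) (Steps.bwd (nat_lit 1) (Steps.fwd (nat_lit 4096) (Steps.fwd (nat_lit 2048) (Steps.bwd (nat_lit 3) (Steps.fwd (nat_lit 2048) Steps.nil))))))) (nat_lit 4) (nat_lit 0),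
  Rule.mk (nat_lit 2) (nat_lit 86) (Steps.bwd (nat_lit 4) (Steps.fwd (nat_lit 1024) (Steps.fwd (nat_lit 4096) (Steps.bwd (nat_lit 2) (Steps.bwd (nat_lit 4) (Steps.fwd (nat_lit 1024) (Steps.fwd (nat_lit 3072) Steps.nil))))))) (nat_lit 5) (nat_lit 6),
  Rule.mk (nat_lit 6) (nat_lit 163) (Steps.bwd (nat_lit 4) (Steps.fwd (nat_lit 1024) (Steps.fwd (nat_lit 4096) (Steps.bwd (nat_lit 5) (Steps.fwd (nat_lit 2048) (Steps.bwd (nat_lit 4) (Steps.bwd (nat_lit 6) (Steps.bwd (nat_lit 4) (Steps.fwd (nat_lit 5120) (Steps.fwd (nat_lit 4096) (Steps.fwd (nat_lit 6144) (Steps.bwd (nat_lit 4) (Steps.fwd (nat_lit 5120) (Steps.bwd (nat_lit 4) Steps.nil)))))))))))))) (nat_lit 23) (nat_lit 13),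
  Rule.mk (nat_lit 5) (nat_lit 97) (Steps.bwd (nat_lit 6) (Steps.bwd (nat_lit 4) (Steps.fwd (nat_lit 3072) (Steps.fwd (nat_lit 1024) (Steps.bwd (nat_lit 5) (Steps.fwd (nat_lit 6144) (Steps.fwd (nat_lit 3072) (Steps.bwd (nat_lit 4) Steps.nil)))))))) (nat_lit 21) (nat_lit 5),
  Rule.mk (nat_lit 4) (nat_lit 97) (Steps.bwd (nat_lit 4) (Steps.fwd (nat_lit 5120) (Steps.bwd (nat_lit 4) (Steps.fwd (nat_lit 3072) (Steps.bwd (nat_lit 5) (Steps.bwd (nat_lit 4) (Steps.bwd (nat_lit 4) (Steps.bwd (nat_lit 5) Steps.nil)))))))) (nat_lit 13) (nat_lit 2),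
  Rule.mk (nat_lit 6) (nat_lit 163) (Steps.bwd (nat_lit 4) (Steps.bwd (nat_lit 2) (Steps.bwd (nat_lit 3) (Steps.fwd (nat_lit 5120) (Steps.fwd (nat_lit 2048) (Steps.bwd (nat_lit 4) (Steps.bwd (nat_lit 6) (Steps.bwd (nat_lit 4) (Steps.bwd (nat_lit 5) (Steps.fwd (nat_lit 4096) (Steps.fwd (nat_lit 6144) (Steps.bwd (nat_lit 4) (Steps.fwd (nat_lit 5120) (Steps.bwd (nat_lit 4) Steps.nil)))))))))))))) (nat_lit 23) (nat_lit 13),
  Rule.mk (nat_lit 5) (nat_lit 196) (Steps.bwd (nat_lit 4) (Steps.bwd (nat_lit 1) (Steps.fwd (nat_lit 5120) (Steps.bwd (nat_lit 4) (Steps.fwd (nat_lit 2048) (Steps.bwd (nat_lit 5) (Steps.bwd (nat_lit 4) (Steps.bwd (nat_lit 5) (Steps.bwd (nat_lit 2) (Steps.bwd (nat_lit 3) (Steps.fwd (nat_lit 5120) (Steps.fwd (nat_lit 2048) (Steps.fwd (nat_lit 4096) (Steps.bwd (nat_lit 1) (Steps.fwd (nat_lit 5120) (Steps.bwd (nat_lit 3) (Steps.fwd (nat_lit 1024) Steps.nil))))))))))))))))) (nat_lit 14) (nat_lit 7),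
  Rule.mk (nat_lit 1) (nat_lit 86) (Steps.bwd (nat_lit 3) (Steps.bwd (nat_lit 1) (Steps.fwd (nat_lit 3072) (Steps.fwd (nat_lit 2048) (Steps.fwd (nat_lit 4096) (Steps.fwd (nat_lit 2048) (Steps.fwd (nat_lit 4096) Steps.nil))))))) (nat_lit 4) (nat_lit 5)]
noncomputable def R_4 : List (Rule) := [Rule.mk (nat_lit 5) (nat_lit 86) (Steps.bwd (nat_lit 3) (Steps.fwd (nat_lit 5120) (Steps.bwd (nat_lit 3) (Steps.bwd (nat_lit 5) (Steps.bwd (nat_lit 3) (Steps.fwd (nat_lit 5120) (Steps.bwd (nat_lit 3) Steps.nil))))))) (nat_lit 10) (nat_lit 0),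
  Rule.mk (nat_lit 6) (nat_lit 97) (Steps.fwd (nat_lit 3072) (Steps.fwd (nat_lit 3072) (Steps.fwd (nat_lit 1024) (Steps.bwd (nat_lit 5) (Steps.bwd (nat_lit 6) (Steps.fwd (nat_lit 3072) (Steps.fwd (nat_lit 3072) (Steps.bwd (nat_lit 5) Steps.nil)))))))) (nat_lit 21) (nat_lit 6),
  Rule.mk (nat_lit 1) (nat_lit 42) (Steps.bwd (nat_lit 5) (Steps.fwd (nat_lit 1024) (Steps.bwd (nat_lit 5) Steps.nil))) (nat_lit 8) (nat_lit 1),
  Rule.mk (nat_lit 6) (nat_lit 64) (Steps.bwd (nat_lit 5) (Steps.bwd (nat_lit 6) (Steps.fwd (nat_lit 5120) (Steps.bwd (nat_lit 6) (Steps.bwd (nat_lit 5) Steps.nil))))) (nat_lit 18) (nat_lit 0),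
  Rule.mk (nat_lit 2) (nat_lit 97) (Steps.bwd (nat_lit 5) (Steps.bwd (nat_lit 6) (Steps.fwd (nat_lit 3072) (Steps.fwd (nat_lit 3072) (Steps.bwd (nat_lit 5) (Steps.fwd (nat_lit 6144) (Steps.fwd (nat_lit 3072) (Steps.bwd (nat_lit 4) Steps.nil)))))))) (nat_lit 21) (nat_lit 0),
  Rule.mk (nat_lit 3) (nat_lit 86) (Steps.bwd (nat_lit 5) (Steps.fwd (nat_lit 4096) (Steps.fwd (nat_lit 5120) (Steps.fwd (nat_lit 4096) (Steps.bwd (nat_lit 5) (Steps.bwd (nat_lit 3) (Steps.fwd (nat_lit 5120) Steps.nil))))))) (nat_lit 10) (nat_lit 1),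
  Rule.mk (nat_lit 4) (nat_lit 86) (Steps.bwd (nat_lit 5) (Steps.bwd (nat_lit 4) (Steps.fwd (nat_lit 5120) (Steps.bwd (nat_lit 4) (Steps.fwd (nat_lit 5120) (Steps.bwd (nat_lit 4) (Steps.fwd (nat_lit 5120) Steps.nil))))))) (nat_lit 11) (nat_lit 0),
  Rule.mk (nat_lit 6) (nat_lit 196) (Steps.bwd (nat_lit 5) (Steps.fwd (nat_lit 4096) (Steps.fwd (nat_lit 5120) (Steps.fwd (nat_lit 2048) (Steps.fwd (nat_lit 4096) (Steps.bwd (nat_lit 5) (Steps.bwd (nat_lit 3) (Steps.bwd (nat_lit 1) (Steps.fwd (nat_lit 3072) (Steps.bwd (nat_lit 6) (Steps.bwd (nat_lit 3) (Steps.bwd (nat_lit 6) (Steps.bwd (nat_lit 4) (Steps.bwd (nat_lit 2) (Steps.fwd (nat_lit 4096) (Steps.bwd (nat_lit 6) (Steps.bwd (nat_lit 4) Steps.nil))))))))))))))))) (nat_lit 24) (nat_lit 15),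
  Rule.mk (nat_lit 1) (nat_lit 86) (Steps.bwd (nat_lit 4) (Steps.bwd (nat_lit 1) (Steps.bwd (nat_lit 3) (Steps.fwd (nat_lit 2048) (Steps.fwd (nat_lit 4096) (Steps.bwd (nat_lit 1) (Steps.bwd (nat_lit 3) Steps.nil))))))) (nat_lit 4) (nat_lit 7),
  Rule.mk (nat_lit 2) (nat_lit 86) (Steps.bwd (nat_lit 4) (Steps.fwd (nat_lit 1024) (Steps.fwd (nat_lit 3072) (Steps.fwd (nat_lit 1024) (Steps.fwd (nat_lit 4096) (Steps.fwd (nat_lit 1024) (Steps.bwd (nat_lit 4) Steps.nil))))))) (nat_lit 5) (nat_lit 4),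
  Rule.mk (nat_lit 6) (nat_lit 64) (Steps.fwd (nat_lit 5120) (Steps.fwd (nat_lit 6144) (Steps.bwd (nat_lit 5) (Steps.fwd (nat_lit 6144) (Steps.bwd (nat_lit 5) Steps.nil))))) (nat_lit 18) (nat_lit 0),
  Rule.mk (nat_lit 1) (nat_lit 42) (Steps.bwd (nat_lit 5) (Steps.fwd (nat_lit 1024) (Steps.fwd (nat_lit 5120) Steps.nil))) (nat_lit 8) (nat_lit 1),
  Rule.mk (nat_lit 3) (nat_lit 86) (Steps.bwd (nat_lit 5) (Steps.fwd (nat_lit 4096) (Steps.bwd (nat_lit 5) (Steps.fwd (nat_lit 4096) (Steps.bwd (nat_lit 5) (Steps.bwd (nat_lit 3) (Steps.bwd (nat_lit 5) Steps.nil))))))) (nat_lit 10) (nat_lit 1),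
  Rule.mk (nat_lit 6) (nat_lit 97) (Steps.bwd (nat_lit 5) (Steps.fwd (nat_lit 2048) (Steps.fwd (nat_lit 4096) (Steps.fwd (nat_lit 4096) (Steps.fwd (nat_lit 6144) (Steps.bwd (nat_lit 5) (Steps.fwd (nat_lit 4096) (Steps.bwd (nat_lit 3) Steps.nil)))))))) (nat_lit 20) (nat_lit 8),
  Rule.mk (nat_lit 2) (nat_lit 86) (Steps.bwd (nat_lit 3) (Steps.fwd (nat_lit 1024) (Steps.bwd (nat_lit 4) (Steps.bwd (nat_lit 2) (Steps.bwd (nat_lit 4) (Steps.bwd (nat_lit 2) (Steps.fwd (nat_lit 3072) Steps.nil))))))) (nat_lit 5) (nat_lit 0),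
  Rule.mk (nat_lit 1) (nat_lit 97) (Steps.bwd (nat_lit 3) (Steps.bwd (nat_lit 3) (Steps.bwd (nat_lit 6) (Steps.fwd (nat_lit 5120) (Steps.bwd (nat_lit 3) (Steps.fwd (nat_lit 4096) (Steps.bwd (nat_lit 6) (Steps.fwd (nat_lit 5120) Steps.nil)))))))) (nat_lit 20) (nat_lit 1),
  Rule.mk (nat_lit 6) (nat_lit 163) (Steps.bwd (nat_lit 3) (Steps.fwd (nat_lit 1024) (Steps.fwd (nat_lit 5120) (Steps.fwd (nat_lit 3072) (Steps.bwd (nat_lit 1) (Steps.fwd (nat_lit 4096) (Steps.fwd (nat_lit 6144) (Steps.fwd (nat_lit 4096) (Steps.bwd (nat_lit 5) (Steps.fwd (nat_lit 4096) (Steps.bwd (nat_lit 6) (Steps.fwd (nat_lit 3072) (Steps.bwd (nat_lit 5) (Steps.fwd (nat_lit 4096) Steps.nil)))))))))))))) (nat_lit 22) (nat_lit 11),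
  Rule.mk (nat_lit 5) (nat_lit 86) (Steps.bwd (nat_lit 4) (Steps.bwd (nat_lit 5) (Steps.bwd (nat_lit 4) (Steps.fwd (nat_lit 5120) (Steps.fwd (nat_lit 3072) (Steps.bwd (nat_lit 5) (Steps.fwd (nat_lit 3072) Steps.nil))))))) (nat_lit 11) (nat_lit 1),
  Rule.mk (nat_lit 3) (nat_lit 163) (Steps.bwd (nat_lit 6) (Steps.fwd (nat_lit 4096) (Steps.bwd (nat_lit 5) (Steps.bwd (nat_lit 3) (Steps.bwd (nat_lit 6) (Steps.bwd (nat_lit 4) (Steps.bwd (nat_lit 5) (Steps.bwd (nat_lit 3) (Steps.bwd (nat_lit 6) (Steps.fwd (nat_lit 4096) (Steps.bwd (nat_lit 2) (Steps.fwd (nat_lit 5120) (Steps.bwd (nat_lit 4) (Steps.bwd (nat_lit 1) Steps.nil)))))))))))))) (nat_lit 22) (nat_lit 2),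
  Rule.mk (nat_lit 1) (nat_lit 86) (Steps.bwd (nat_lit 4) (Steps.fwd (nat_lit 2048) (Steps.fwd (nat_lit 4096) (Steps.bwd (nat_lit 1) (Steps.bwd (nat_lit 3) (Steps.bwd (nat_lit 1) (Steps.bwd (nat_lit 3) Steps.nil))))))) (nat_lit 4) (nat_lit 7),
  Rule.mk (nat_lit 2) (nat_lit 86) (Steps.bwd (nat_lit 3) (Steps.bwd (nat_lit 2) (Steps.fwd (nat_lit 3072) (Steps.bwd (nat_lit 2) (Steps.bwd (nat_lit 4) (Steps.fwd (nat_lit 1024) (Steps.bwd (nat_lit 4) Steps.nil))))))) (nat_lit 5) (nat_lit 0),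
  Rule.mk (nat_lit 5) (nat_lit 64) (Steps.bwd (nat_lit 6) (Steps.bwd (nat_lit 5) (Steps.fwd (nat_lit 6144) (Steps.bwd (nat_lit 5) (Steps.fwd (nat_lit 6144) Steps.nil))))) (nat_lit 18) (nat_lit 1),
  Rule.mk (nat_lit 6) (nat_lit 97) (Steps.fwd (nat_lit 3072) (Steps.bwd (nat_lit 4) (Steps.bwd (nat_lit 2) (Steps.bwd (nat_lit 5) (Steps.bwd (nat_lit 6) (Steps.fwd (nat_lit 3072) (Steps.fwd (nat_lit 3072) (Steps.bwd (nat_lit 5) Steps.nil)))))))) (nat_lit 21) (nat_lit 6),
  Rule.mk (nat_lit 4) (nat_lit 163) (Steps.bwd (nat_lit 6) (Steps.fwd (nat_lit 3072) (Steps.fwd (nat_lit 1024) (Steps.bwd (nat_lit 3) (Steps.bwd (nat_lit 5) (Steps.bwd (nat_lit 1) (Steps.fwd (nat_lit 3072) (Steps.fwd (nat_lit 6144) (Steps.fwd (nat_lit 3072) (Steps.fwd (nat_lit 5120) (Steps.bwd (nat_lit 3) (Steps.fwd (nat_lit 6144) (Steps.fwd (nat_lit 3072) (Steps.bwd (nat_lit 5) Steps.nil)))))))))))))) (nat_lit 23) (nat_lit 12),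
  Rule.mk (nat_lit 6) (nat_lit 64) (Steps.bwd (nat_lit 5) (Steps.bwd (nat_lit 6) (Steps.fwd (nat_lit 5120) (Steps.bwd (nat_lit 6) (Steps.fwd (nat_lit 5120) Steps.nil))))) (nat_lit 18) (nat_lit 0),
  Rule.mk (nat_lit 4) (nat_lit 97) (Steps.bwd (nat_lit 5) (Steps.bwd (nat_lit 4) (Steps.bwd (nat_lit 4) (Steps.fwd (nat_lit 5120) (Steps.fwd (nat_lit 3072) (Steps.fwd (nat_lit 3072) (Steps.bwd (nat_lit 5) (Steps.bwd (nat_lit 4) Steps.nil)))))))) (nat_lit 13) (nat_lit 0),
  Rule.mk (nat_lit 5) (nat_lit 97) (Steps.bwd (nat_lit 3) (Steps.fwd (nat_lit 4096) (Steps.fwd (nat_lit 5120) (Steps.bwd (nat_lit 3) (Steps.bwd (nat_lit 3) (Steps.bwd (nat_lit 5) (Steps.fwd (nat_lit 4096) (Steps.fwd (nat_lit 4096) Steps.nil)))))))) (nat_lit 12) (nat_lit 0),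
  Rule.mk (nat_lit 6) (nat_lit 163) (Steps.bwd (nat_lit 4) (Steps.fwd (nat_lit 5120) (Steps.fwd (nat_lit 4096) (Steps.fwd (nat_lit 6144) (Steps.fwd (nat_lit 4096) (Steps.fwd (nat_lit 1024) (Steps.bwd (nat_lit 5) (Steps.fwd (nat_lit 3072) (Steps.fwd (nat_lit 2048) (Steps.fwd (nat_lit 4096) (Steps.bwd (nat_lit 6) (Steps.fwd (nat_lit 4096) (Steps.fwd (nat_lit 5120) (Steps.bwd (nat_lit 3) Steps.nil)))))))))))))) (nat_lit 22) (nat_lit 7),
  Rule.mk (nat_lit 5) (nat_lit 97) (Steps.bwd (nat_lit 4) (Steps.bwd (nat_lit 4) (Steps.fwd (nat_lit 5120) (Steps.bwd (nat_lit 4) (Steps.bwd (nat_lit 4) (Steps.fwd (nat_lit 5120) (Steps.fwd (nat_lit 3072) (Steps.fwd (nat_lit 3072) Steps.nil)))))))) (nat_lit 13) (nat_lit 1),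
  Rule.mk (nat_lit 6) (nat_lit 97) (Steps.bwd (nat_lit 4) (Steps.bwd (nat_lit 4) (Steps.fwd (nat_lit 1024) (Steps.fwd (nat_lit 5120) (Steps.bwd (nat_lit 6) (Steps.bwd (nat_lit 4) (Steps.bwd (nat_lit 4) (Steps.fwd (nat_lit 5120) Steps.nil)))))))) (nat_lit 21) (nat_lit 6),
  Rule.mk (nat_lit 4) (nat_lit 163) (Steps.bwd (nat_lit 2) (Steps.fwd (nat_lit 4096) (Steps.fwd (nat_lit 5120) (Steps.bwd (nat_lit 1) (Steps.bwd (nat_lit 4) (Steps.bwd (nat_lit 6) (Steps.bwd (nat_lit 4) (Steps.bwd (nat_lit 5) (Steps.bwd (nat_lit 3) (Steps.fwd (nat_lit 6144) (Steps.fwd (nat_lit 3072) (Steps.fwd (nat_lit 5120) (Steps.fwd (nat_lit 3072) (Steps.fwd (nat_lit 6144) Steps.nil)))))))))))))) (nat_lit 23) (nat_lit 14),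
  Rule.mk (nat_lit 6) (nat_lit 196) (Steps.bwd (nat_lit 3) (Steps.fwd (nat_lit 1024) (Steps.fwd (nat_lit 3072) (Steps.fwd (nat_lit 5120) (Steps.bwd (nat_lit 4) (Steps.bwd (nat_lit 2) (Steps.bwd (nat_lit 5) (Steps.fwd (nat_lit 3072) (Steps.fwd (nat_lit 5120) (Steps.bwd (nat_lit 6) (Steps.fwd (nat_lit 4096) (Steps.fwd (nat_lit 6144) (Steps.bwd (nat_lit 4) (Steps.bwd (nat_lit 1) (Steps.fwd (nat_lit 4096) (Steps.fwd (nat_lit 6144) (Steps.bwd (nat_lit 4) Steps.nil))))))))))))))))) (nat_lit 25) (nat_lit 12),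
  Rule.mk (nat_lit 2) (nat_lit 163) (Steps.fwd (nat_lit 5120) (Steps.bwd (nat_lit 4) (Steps.bwd (nat_lit 1) (Steps.fwd (nat_lit 4096) (Steps.fwd (nat_lit 6144) (Steps.fwd (nat_lit 4096) (Steps.bwd (nat_lit 5) (Steps.bwd (nat_lit 3) (Steps.fwd (nat_lit 6144) (Steps.fwd (nat_lit 3072) (Steps.fwd (nat_lit 5120) (Steps.bwd (nat_lit 3) (Steps.bwd (nat_lit 6) (Steps.bwd (nat_lit 3) Steps.nil)))))))))))))) (nat_lit 22) (nat_lit 13),
  Rule.mk (nat_lit 4) (nat_lit 86) (Steps.bwd (nat_lit 2) (Steps.bwd (nat_lit 3) (Steps.bwd (nat_lit 2) (Steps.fwd (nat_lit 3072) (Steps.fwd (nat_lit 1024) (Steps.bwd (nat_lit 4) (Steps.fwd (nat_lit 1024) Steps.nil))))))) (nat_lit 5) (nat_lit 7),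
  Rule.mk (nat_lit 3) (nat_lit 86) (Steps.bwd (nat_lit 2) (Steps.bwd (nat_lit 4) (Steps.fwd (nat_lit 1024) (Steps.bwd (nat_lit 4) (Steps.fwd (nat_lit 1024) (Steps.bwd (nat_lit 4) (Steps.bwd (nat_lit 2) Steps.nil))))))) (nat_lit 5) (nat_lit 1),
  Rule.mk (nat_lit 6) (nat_lit 163) (Steps.fwd (nat_lit 4096) (Steps.bwd (nat_lit 2) (Steps.bwd (nat_lit 5) (Steps.bwd (nat_lit 4) (Steps.bwd (nat_lit 1) (Steps.fwd (nat_lit 4096) (Steps.bwd (nat_lit 6) (Steps.fwd (nat_lit 4096) (Steps.fwd (nat_lit 5120) (Steps.fwd (nat_lit 4096) (Steps.fwd (nat_lit 6144) (Steps.bwd (nat_lit 4) (Steps.fwd (nat_lit 5120) (Steps.bwd (nat_lit 3) Steps.nil)))))))))))))) (nat_lit 22) (nat_lit 11),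
  Rule.mk (nat_lit 5) (nat_lit 196) (Steps.bwd (nat_lit 6) (Steps.fwd (nat_lit 4096) (Steps.bwd (nat_lit 6) (Steps.bwd (nat_lit 4) (Steps.fwd (nat_lit 2048) (Steps.fwd (nat_lit 4096) (Steps.fwd (nat_lit 6144) (Steps.fwd (nat_lit 3072) (Steps.fwd (nat_lit 6144) (Steps.fwd (nat_lit 4096) (Steps.bwd (nat_lit 2) (Steps.bwd (nat_lit 4) (Steps.bwd (nat_lit 5) (Steps.bwd (nat_lit 4) (Steps.bwd (nat_lit 2) (Steps.fwd (nat_lit 5120) (Steps.fwd (nat_lit 3072) Steps.nil))))))))))))))))) (nat_lit 25) (nat_lit 3),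
  Rule.mk (nat_lit 1) (nat_lit 42) (Steps.fwd (nat_lit 5120) (Steps.fwd (nat_lit 1024) (Steps.bwd (nat_lit 5) Steps.nil))) (nat_lit 8) (nat_lit 1),
  Rule.mk (nat_lit 6) (nat_lit 64) (Steps.bwd (nat_lit 5) (Steps.fwd (nat_lit 6144) (Steps.bwd (nat_lit 5) (Steps.bwd (nat_lit 6) (Steps.bwd (nat_lit 5) Steps.nil))))) (nat_lit 18) (nat_lit 0),
  Rule.mk (nat_lit 4) (nat_lit 97) (Steps.bwd (nat_lit 4) (Steps.bwd (nat_lit 5) (Steps.bwd (nat_lit 4) (Steps.bwd (nat_lit 4) (Steps.bwd (nat_lit 5) (Steps.fwd (nat_lit 3072) (Steps.fwd (nat_lit 3072) (Steps.bwd (nat_lit 5) Steps.nil)))))))) (nat_lit 13) (nat_lit 2),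
  Rule.mk (nat_lit 5) (nat_lit 86) (Steps.bwd (nat_lit 4) (Steps.fwd (nat_lit 5120) (Steps.bwd (nat_lit 4) (Steps.fwd (nat_lit 5120) (Steps.fwd (nat_lit 3072) (Steps.bwd (nat_lit 5) (Steps.bwd (nat_lit 4) Steps.nil))))))) (nat_lit 11) (nat_lit 1),
  Rule.mk (nat_lit 6) (nat_lit 196) (Steps.bwd (nat_lit 4) (Steps.bwd (nat_lit 6) (Steps.bwd (nat_lit 3) (Steps.fwd (nat_lit 1024) (Steps.bwd (nat_lit 4) (Steps.fwd (nat_lit 5120) (Steps.bwd (nat_lit 4) (Steps.bwd (nat_lit 2) (Steps.bwd (nat_lit 5) (Steps.bwd (nat_lit 4) (Steps.bwd (nat_lit 5) (Steps.bwd (nat_lit 6) (Steps.fwd (nat_lit 4096) (Steps.bwd (nat_lit 6) (Steps.bwd (nat_lit 4) (Steps.bwd (nat_lit 1) (Steps.bwd (nat_lit 3) Steps.nil))))))))))))))))) (nat_lit 25) (nat_lit 10),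
  Rule.mk (nat_lit 1) (nat_lit 86) (Steps.bwd (nat_lit 3) (Steps.bwd (nat_lit 1) (Steps.fwd (nat_lit 3072) (Steps.fwd (nat_lit 2048) (Steps.fwd (nat_lit 4096) (Steps.bwd (nat_lit 1) (Steps.fwd (nat_lit 4096) Steps.nil))))))) (nat_lit 4) (nat_lit 5),
  Rule.mk (nat_lit 5) (nat_lit 86) (Steps.bwd (nat_lit 3) (Steps.fwd (nat_lit 5120) (Steps.fwd (nat_lit 4096) (Steps.bwd (nat_lit 5) (Steps.fwd (nat_lit 4096) (Steps.fwd (nat_lit 5120) (Steps.fwd (nat_lit 4096) Steps.nil))))))) (nat_lit 10) (nat_lit 0),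
  Rule.mk (nat_lit 2) (nat_lit 196) (Steps.bwd (nat_lit 3) (Steps.fwd (nat_lit 5120) (Steps.bwd (nat_lit 1) (Steps.bwd (nat_lit 3) (Steps.bwd (nat_lit 1) (Steps.fwd (nat_lit 5120) (Steps.fwd (nat_lit 4096) (Steps.bwd (nat_lit 2) (Steps.bwd (nat_lit 5) (Steps.fwd (nat_lit 3072) (Steps.bwd (nat_lit 1) (Steps.bwd (nat_lit 5) (Steps.bwd (nat_lit 4) (Steps.fwd (nat_lit 2048) (Steps.bwd (nat_lit 5) (Steps.fwd (nat_lit 3072) (Steps.bwd (nat_lit 5) Steps.nil))))))))))))))))) (nat_lit 14) (nat_lit 16),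
  Rule.mk (nat_lit 6) (nat_lit 196) (Steps.bwd (nat_lit 3) (Steps.bwd (nat_lit 6) (Steps.bwd (nat_lit 4) (Steps.bwd (nat_lit 2) (Steps.fwd (nat_lit 4096) (Steps.fwd (nat_lit 6144) (Steps.bwd (nat_lit 4) (Steps.bwd (nat_lit 6) (Steps.bwd (nat_lit 5) (Steps.fwd (nat_lit 4096) (Steps.bwd (nat_lit 5) (Steps.bwd (nat_lit 1) (Steps.fwd (nat_lit 4096) (Steps.fwd (nat_lit 5120) (Steps.fwd (nat_lit 4096) (Steps.bwd (nat_lit 1) (Steps.bwd (nat_lit 4) Steps.nil))))))))))))))))) (nat_lit 24) (nat_lit 7),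
  Rule.mk (nat_lit 3) (nat_lit 97) (Steps.bwd (nat_lit 6) (Steps.fwd (nat_lit 5120) (Steps.fwd (nat_lit 2048) (Steps.fwd (nat_lit 4096) (Steps.fwd (nat_lit 4096) (Steps.fwd (nat_lit 6144) (Steps.bwd (nat_lit 5) (Steps.bwd (nat_lit 3) Steps.nil)))))))) (nat_lit 20) (nat_lit 7),
  Rule.mk (nat_lit 1) (nat_lit 86) (Steps.fwd (nat_lit 3072) (Steps.fwd (nat_lit 2048) (Steps.fwd (nat_lit 4096) (Steps.bwd (nat_lit 1) (Steps.fwd (nat_lit 4096) (Steps.bwd (nat_lit 1) (Steps.bwd (nat_lit 3) Steps.nil))))))) (nat_lit 4) (nat_lit 7),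
  Rule.mk (nat_lit 2) (nat_lit 86) (Steps.fwd (nat_lit 3072) (Steps.fwd (nat_lit 1024) (Steps.bwd (nat_lit 4) (Steps.fwd (nat_lit 1024) (Steps.bwd (nat_lit 4) (Steps.bwd (nat_lit 2) (Steps.bwd (nat_lit 3) Steps.nil))))))) (nat_lit 5) (nat_lit 2),
  Rule.mk (nat_lit 1) (nat_lit 86) (Steps.bwd (nat_lit 3) (Steps.fwd (nat_lit 2048) (Steps.fwd (nat_lit 3072) (Steps.bwd (nat_lit 1) (Steps.bwd (nat_lit 3) (Steps.fwd (nat_lit 2048) (Steps.bwd (nat_lit 3) Steps.nil))))))) (nat_lit 4) (nat_lit 5),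
  Rule.mk (nat_lit 2) (nat_lit 86) (Steps.bwd (nat_lit 3) (Steps.fwd (nat_lit 1024) (Steps.bwd (nat_lit 4) (Steps.fwd (nat_lit 1024) (Steps.bwd (nat_lit 4) (Steps.bwd (nat_lit 2) (Steps.bwd (nat_lit 4) Steps.nil))))))) (nat_lit 5) (nat_lit 0),
  Rule.mk (nat_lit 5) (nat_lit 86) (Steps.bwd (nat_lit 3) (Steps.bwd (nat_lit 5) (Steps.fwd (nat_lit 4096) (Steps.fwd (nat_lit 5120) (Steps.fwd (nat_lit 4096) (Steps.fwd (nat_lit 5120) (Steps.bwd (nat_lit 3) Steps.nil))))))) (nat_lit 10) (nat_lit 0),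
  Rule.mk (nat_lit 6) (nat_lit 163) (Steps.bwd (nat_lit 3) (Steps.fwd (nat_lit 1024) (Steps.fwd (nat_lit 5120) (Steps.fwd (nat_lit 3072) (Steps.bwd (nat_lit 1) (Steps.bwd (nat_lit 3) (Steps.fwd (nat_lit 6144) (Steps.fwd (nat_lit 4096) (Steps.bwd (nat_lit 5) (Steps.fwd (nat_lit 4096) (Steps.bwd (nat_lit 6) (Steps.fwd (nat_lit 3072) (Steps.fwd (nat_lit 5120) (Steps.bwd (nat_lit 3) Steps.nil)))))))))))))) (nat_lit 22) (nat_lit 11),
  Rule.mk (nat_lit 4) (nat_lit 163) (Steps.bwd (nat_lit 6) (Steps.bwd (nat_lit 4) (Steps.fwd (nat_lit 1024) (Steps.bwd (nat_lit 3) (Steps.fwd (nat_lit 5120) (Steps.bwd (nat_lit 1) (Steps.fwd (nat_lit 3072) (Steps.fwd (nat_lit 6144) (Steps.bwd (nat_lit 4) (Steps.bwd (nat_lit 5) (Steps.fwd (nat_lit 4096) (Steps.bwd (nat_lit 6) (Steps.bwd (nat_lit 4) (Steps.bwd (nat_lit 5) Steps.nil)))))))))))))) (nat_lit 23) (nat_lit 12),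
  Rule.mk (nat_lit 3) (nat_lit 196) (Steps.bwd (nat_lit 6) (Steps.bwd (nat_lit 4) (Steps.fwd (nat_lit 1024) (Steps.bwd (nat_lit 3) (Steps.fwd (nat_lit 6144) (Steps.fwd (nat_lit 3072) (Steps.bwd (nat_lit 6) (Steps.fwd (nat_lit 5120) (Steps.bwd (nat_lit 3) (Steps.bwd (nat_lit 5) (Steps.bwd (nat_lit 1) (Steps.bwd (nat_lit 3) (Steps.fwd (nat_lit 5120) (Steps.bwd (nat_lit 3) (Steps.bwd (nat_lit 1) (Steps.bwd (nat_lit 4) (Steps.bwd (nat_lit 6) Steps.nil))))))))))))))))) (nat_lit 24) (nat_lit 8),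
  Rule.mk (nat_lit 1) (nat_lit 196) (Steps.bwd (nat_lit 4) (Steps.bwd (nat_lit 6) (Steps.bwd (nat_lit 3) (Steps.bwd (nat_lit 6) (Steps.fwd (nat_lit 3072) (Steps.fwd (nat_lit 1024) (Steps.fwd (nat_lit 4096) (Steps.fwd (nat_lit 6144) (Steps.fwd (nat_lit 3072) (Steps.fwd (nat_lit 6144) (Steps.fwd (nat_lit 5120) (Steps.bwd (nat_lit 3) (Steps.bwd (nat_lit 5) (Steps.bwd (nat_lit 1) (Steps.bwd (nat_lit 3) (Steps.bwd (nat_lit 5) (Steps.bwd (nat_lit 3) Steps.nil))))))))))))))))) (nat_lit 24) (nat_lit 5),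
  Rule.mk (nat_lit 5) (nat_lit 196) (Steps.bwd (nat_lit 6) (Steps.bwd (nat_lit 3) (Steps.fwd (nat_lit 6144) (Steps.fwd (nat_lit 3072) (Steps.fwd (nat_lit 2048) (Steps.fwd (nat_lit 4096) (Steps.bwd (nat_lit 6) (Steps.fwd (nat_lit 3072) (Steps.fwd (nat_lit 6144) (Steps.fwd (nat_lit 4096) (Steps.bwd (nat_lit 2) (Steps.fwd (nat_lit 3072) (Steps.bwd (nat_lit 5) (Steps.fwd (nat_lit 3072) (Steps.fwd (nat_lit 1024) (Steps.bwd (nat_lit 5) (Steps.bwd (nat_lit 4) Steps.nil))))))))))))))))) (nat_lit 25) (nat_lit 3),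
  Rule.mk (nat_lit 5) (nat_lit 86) (Steps.bwd (nat_lit 3) (Steps.fwd (nat_lit 5120) (Steps.fwd (nat_lit 4096) (Steps.fwd (nat_lit 5120) (Steps.fwd (nat_lit 4096) (Steps.fwd (nat_lit 5120) (Steps.bwd (nat_lit 3) Steps.nil))))))) (nat_lit 10) (nat_lit 0),
  Rule.mk (nat_lit 5) (nat_lit 86) (Steps.bwd (nat_lit 4) (Steps.fwd (nat_lit 5120) (Steps.bwd (nat_lit 4) (Steps.bwd (nat_lit 5) (Steps.bwd (nat_lit 4) (Steps.fwd (nat_lit 5120) (Steps.bwd (nat_lit 4) Steps.nil))))))) (nat_lit 11) (nat_lit 1),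
  Rule.mk (nat_lit 6) (nat_lit 97) (Steps.bwd (nat_lit 4) (Steps.bwd (nat_lit 4) (Steps.fwd (nat_lit 1024) (Steps.fwd (nat_lit 5120) (Steps.bwd (nat_lit 6) (Steps.bwd (nat_lit 4) (Steps.fwd (nat_lit 3072) (Steps.fwd (nat_lit 5120) Steps.nil)))))))) (nat_lit 21) (nat_lit 6),
  Rule.mk (nat_lit 2) (nat_lit 42) (Steps.fwd (nat_lit 5120) (Steps.bwd (nat_lit 1) (Steps.bwd (nat_lit 5) Steps.nil))) (nat_lit 8) (nat_lit 3),
  Rule.mk (nat_lit 3) (nat_lit 86) (Steps.bwd (nat_lit 5) (Steps.fwd (nat_lit 4096) (Steps.fwd (nat_lit 5120) (Steps.bwd (nat_lit 3) (Steps.fwd (nat_lit 5120) (Steps.bwd (nat_lit 3) (Steps.bwd (nat_lit 5) Steps.nil))))))) (nat_lit 10) (nat_lit 1),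
  Rule.mk (nat_lit 3) (nat_lit 86) (Steps.bwd (nat_lit 5) (Steps.fwd (nat_lit 4096) (Steps.bwd (nat_lit 5) (Steps.fwd (nat_lit 4096) (Steps.bwd (nat_lit 5) (Steps.fwd (nat_lit 4096) (Steps.fwd (nat_lit 5120) Steps.nil))))))) (nat_lit 10) (nat_lit 1),
  Rule.mk (nat_lit 6) (nat_lit 97) (Steps.bwd (nat_lit 4) (Steps.bwd (nat_lit 4) (Steps.bwd (nat_lit 2) (Steps.bwd (nat_lit 5) (Steps.fwd (nat_lit 6144) (Steps.bwd (nat_lit 4) (Steps.bwd (nat_lit 4) (Steps.fwd (nat_lit 5120) Steps.nil)))))))) (nat_lit 21) (nat_lit 6)]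
noncomputable def R_5 : List (Rule) := [Rule.mk (nat_lit 6) (nat_lit 97) (Steps.bwd (nat_lit 4) (Steps.fwd (nat_lit 3072) (Steps.fwd (nat_lit 1024) (Steps.fwd (nat_lit 5120) (Steps.bwd (nat_lit 6) (Steps.bwd (nat_lit 4) (Steps.bwd (nat_lit 4) (Steps.fwd (nat_lit 5120) Steps.nil)))))))) (nat_lit 21) (nat_lit 6),
  Rule.mk (nat_lit 5) (nat_lit 86) (Steps.bwd (nat_lit 4) (Steps.fwd (nat_lit 5120) (Steps.fwd (nat_lit 3072) (Steps.fwd (nat_lit 5120) (Steps.fwd (nat_lit 3072) (Steps.fwd (nat_lit 5120) (Steps.bwd (nat_lit 4) Steps.nil))))))) (nat_lit 11) (nat_lit 1),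
  Rule.mk (nat_lit 5) (nat_lit 64) (Steps.bwd (nat_lit 6) (Steps.fwd (nat_lit 5120) (Steps.fwd (nat_lit 6144) (Steps.bwd (nat_lit 5) (Steps.bwd (nat_lit 6) Steps.nil))))) (nat_lit 18) (nat_lit 1),
  Rule.mk (nat_lit 3) (nat_lit 97) (Steps.bwd (nat_lit 6) (Steps.fwd (nat_lit 5120) (Steps.fwd (nat_lit 4096) (Steps.bwd (nat_lit 3) (Steps.bwd (nat_lit 6) (Steps.bwd (nat_lit 5) (Steps.bwd (nat_lit 1) (Steps.bwd (nat_lit 3) Steps.nil)))))))) (nat_lit 20) (nat_lit 3),
  Rule.mk (nat_lit 4) (nat_lit 163) (Steps.bwd (nat_lit 6) (Steps.bwd (nat_lit 4) (Steps.fwd (nat_lit 5120) (Steps.fwd (nat_lit 4096) (Steps.bwd (nat_lit 6) (Steps.fwd (nat_lit 3072) (Steps.bwd (nat_lit 5) (Steps.fwd (nat_lit 3072) (Steps.bwd (nat_lit 6) (Steps.fwd (nat_lit 3072) (Steps.fwd (nat_lit 1024) (Steps.fwd (nat_lit 4096) (Steps.fwd (nat_lit 5120) (Steps.bwd (nat_lit 1) Steps.nil)))))))))))))) (nat_lit 23) (nat_lit 4),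
  Rule.mk (nat_lit 2) (nat_lit 86) (Steps.fwd (nat_lit 4096) (Steps.bwd (nat_lit 2) (Steps.bwd (nat_lit 4) (Steps.bwd (nat_lit 2) (Steps.bwd (nat_lit 4) (Steps.bwd (nat_lit 2) (Steps.bwd (nat_lit 4) Steps.nil))))))) (nat_lit 5) (nat_lit 0),
  Rule.mk (nat_lit 3) (nat_lit 42) (Steps.bwd (nat_lit 3) (Steps.fwd (nat_lit 4096) (Steps.fwd (nat_lit 4096) Steps.nil))) (nat_lit 2) (nat_lit 0),
  Rule.mk (nat_lit 1) (nat_lit 86) (Steps.bwd (nat_lit 3) (Steps.bwd (nat_lit 1) (Steps.fwd (nat_lit 3072) (Steps.fwd (nat_lit 2048) (Steps.fwd (nat_lit 4096) (Steps.bwd (nat_lit 1) (Steps.bwd (nat_lit 3) Steps.nil))))))) (nat_lit 4) (nat_lit 5),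
  Rule.mk (nat_lit 2) (nat_lit 86) (Steps.bwd (nat_lit 3) (Steps.bwd (nat_lit 2) (Steps.fwd (nat_lit 3072) (Steps.fwd (nat_lit 1024) (Steps.fwd (nat_lit 3072) (Steps.fwd (nat_lit 1024) (Steps.fwd (nat_lit 3072) Steps.nil))))))) (nat_lit 5) (nat_lit 0),
  Rule.mk (nat_lit 3) (nat_lit 86) (Steps.bwd (nat_lit 1) (Steps.bwd (nat_lit 4) (Steps.bwd (nat_lit 1) (Steps.fwd (nat_lit 4096) (Steps.bwd (nat_lit 1) (Steps.bwd (nat_lit 3) (Steps.bwd (nat_lit 1) Steps.nil))))))) (nat_lit 4) (nat_lit 6),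
  Rule.mk (nat_lit 4) (nat_lit 163) (Steps.bwd (nat_lit 6) (Steps.bwd (nat_lit 4) (Steps.bwd (nat_lit 2) (Steps.fwd (nat_lit 4096) (Steps.fwd (nat_lit 5120) (Steps.fwd (nat_lit 2048) (Steps.bwd (nat_lit 4) (Steps.bwd (nat_lit 6) (Steps.fwd (nat_lit 3072) (Steps.fwd (nat_lit 5120) (Steps.fwd (nat_lit 4096) (Steps.fwd (nat_lit 6144) (Steps.bwd (nat_lit 4) (Steps.bwd (nat_lit 5) Steps.nil)))))))))))))) (nat_lit 23) (nat_lit 12),
  Rule.mk (nat_lit 1) (nat_lit 86) (Steps.fwd (nat_lit 4096) (Steps.fwd (nat_lit 2048) (Steps.fwd (nat_lit 4096) (Steps.bwd (nat_lit 1) (Steps.fwd (nat_lit 4096) (Steps.bwd (nat_lit 1) (Steps.bwd (nat_lit 4) Steps.nil))))))) (nat_lit 4) (nat_lit 1),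
  Rule.mk (nat_lit 5) (nat_lit 86) (Steps.bwd (nat_lit 3) (Steps.bwd (nat_lit 5) (Steps.fwd (nat_lit 4096) (Steps.fwd (nat_lit 5120) (Steps.fwd (nat_lit 4096) (Steps.fwd (nat_lit 5120) (Steps.fwd (nat_lit 4096) Steps.nil))))))) (nat_lit 10) (nat_lit 0),
  Rule.mk (nat_lit 6) (nat_lit 97) (Steps.bwd (nat_lit 4) (Steps.bwd (nat_lit 4) (Steps.fwd (nat_lit 5120) (Steps.bwd (nat_lit 6) (Steps.bwd (nat_lit 4) (Steps.fwd (nat_lit 3072) (Steps.fwd (nat_lit 1024) (Steps.bwd (nat_lit 5) Steps.nil)))))))) (nat_lit 21) (nat_lit 2),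
  Rule.mk (nat_lit 2) (nat_lit 196) (Steps.bwd (nat_lit 4) (Steps.fwd (nat_lit 5120) (Steps.bwd (nat_lit 4) (Steps.fwd (nat_lit 1024) (Steps.fwd (nat_lit 5120) (Steps.fwd (nat_lit 3072) (Steps.bwd (nat_lit 5) (Steps.bwd (nat_lit 6) (Steps.fwd (nat_lit 4096) (Steps.bwd (nat_lit 6) (Steps.bwd (nat_lit 4) (Steps.fwd (nat_lit 2048) (Steps.fwd (nat_lit 4096) (Steps.fwd (nat_lit 6144) (Steps.bwd (nat_lit 4) (Steps.fwd (nat_lit 6144) (Steps.bwd (nat_lit 3) Steps.nil))))))))))))))))) (nat_lit 25) (nat_lit 14),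
  Rule.mk (nat_lit 5) (nat_lit 86) (Steps.bwd (nat_lit 4) (Steps.bwd (nat_lit 5) (Steps.bwd (nat_lit 4) (Steps.fwd (nat_lit 5120) (Steps.fwd (nat_lit 3072) (Steps.bwd (nat_lit 5) (Steps.bwd (nat_lit 4) Steps.nil))))))) (nat_lit 11) (nat_lit 1),
  Rule.mk (nat_lit 6) (nat_lit 97) (Steps.bwd (nat_lit 4) (Steps.fwd (nat_lit 3072) (Steps.bwd (nat_lit 5) (Steps.fwd (nat_lit 6144) (Steps.fwd (nat_lit 3072) (Steps.fwd (nat_lit 3072) (Steps.fwd (nat_lit 1024) (Steps.fwd (nat_lit 5120) Steps.nil)))))))) (nat_lit 21) (nat_lit 2),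
  Rule.mk (nat_lit 2) (nat_lit 196) (Steps.bwd (nat_lit 4) (Steps.bwd (nat_lit 2) (Steps.bwd (nat_lit 5) (Steps.bwd (nat_lit 4) (Steps.fwd (nat_lit 2048) (Steps.bwd (nat_lit 5) (Steps.bwd (nat_lit 3) (Steps.fwd (nat_lit 5120) (Steps.fwd (nat_lit 1024) (Steps.fwd (nat_lit 4096) (Steps.fwd (nat_lit 5120) (Steps.bwd (nat_lit 2) (Steps.fwd (nat_lit 4096) (Steps.fwd (nat_lit 5120) (Steps.fwd (nat_lit 2048) (Steps.fwd (nat_lit 3072) (Steps.fwd (nat_lit 5120) Steps.nil))))))))))))))))) (nat_lit 15) (nat_lit 16),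
  Rule.mk (nat_lit 5) (nat_lit 86) (Steps.bwd (nat_lit 4) (Steps.fwd (nat_lit 5120) (Steps.bwd (nat_lit 4) (Steps.fwd (nat_lit 5120) (Steps.bwd (nat_lit 4) (Steps.fwd (nat_lit 5120) (Steps.bwd (nat_lit 4) Steps.nil))))))) (nat_lit 11) (nat_lit 1),
  Rule.mk (nat_lit 1) (nat_lit 163) (Steps.bwd (nat_lit 4) (Steps.fwd (nat_lit 6144) (Steps.bwd (nat_lit 4) (Steps.bwd (nat_lit 5) (Steps.fwd (nat_lit 4096) (Steps.bwd (nat_lit 6) (Steps.bwd (nat_lit 4) (Steps.fwd (nat_lit 5120) (Steps.bwd (nat_lit 4) (Steps.fwd (nat_lit 6144) (Steps.bwd (nat_lit 4) (Steps.bwd (nat_lit 2) (Steps.fwd (nat_lit 4096) (Steps.bwd (nat_lit 5) Steps.nil)))))))))))))) (nat_lit 23) (nat_lit 3),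
  Rule.mk (nat_lit 3) (nat_lit 97) (Steps.bwd (nat_lit 6) (Steps.bwd (nat_lit 5) (Steps.fwd (nat_lit 2048) (Steps.fwd (nat_lit 4096) (Steps.fwd (nat_lit 4096) (Steps.fwd (nat_lit 6144) (Steps.bwd (nat_lit 5) (Steps.fwd (nat_lit 4096) Steps.nil)))))))) (nat_lit 20) (nat_lit 7),
  Rule.mk (nat_lit 4) (nat_lit 163) (Steps.bwd (nat_lit 6) (Steps.bwd (nat_lit 4) (Steps.fwd (nat_lit 1024) (Steps.fwd (nat_lit 4096) (Steps.bwd (nat_lit 5) (Steps.fwd (nat_lit 2048) (Steps.bwd (nat_lit 4) (Steps.fwd (nat_lit 6144) (Steps.bwd (nat_lit 4) (Steps.bwd (nat_lit 5) (Steps.bwd (nat_lit 3) (Steps.bwd (nat_lit 6) (Steps.bwd (nat_lit 4) (Steps.bwd (nat_lit 5) Steps.nil)))))))))))))) (nat_lit 23) (nat_lit 12),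
  Rule.mk (nat_lit 1) (nat_lit 86) (Steps.fwd (nat_lit 4096) (Steps.fwd (nat_lit 2048) (Steps.bwd (nat_lit 3) (Steps.fwd (nat_lit 2048) (Steps.fwd (nat_lit 4096) (Steps.fwd (nat_lit 2048) (Steps.bwd (nat_lit 4) Steps.nil))))))) (nat_lit 4) (nat_lit 1),
  Rule.mk (nat_lit 6) (nat_lit 64) (Steps.bwd (nat_lit 5) (Steps.bwd (nat_lit 6) (Steps.fwd (nat_lit 5120) (Steps.fwd (nat_lit 6144) (Steps.bwd (nat_lit 5) Steps.nil))))) (nat_lit 18) (nat_lit 0),
  Rule.mk (nat_lit 4) (nat_lit 163) (Steps.bwd (nat_lit 1) (Steps.fwd (nat_lit 4096) (Steps.bwd (nat_lit 6) (Steps.fwd (nat_lit 4096) (Steps.fwd (nat_lit 5120) (Steps.bwd (nat_lit 3) (Steps.fwd (nat_lit 6144) (Steps.bwd (nat_lit 4) (Steps.fwd (nat_lit 5120) (Steps.fwd (nat_lit 4096) (Steps.fwd (nat_lit 6144) (Steps.fwd (nat_lit 4096) (Steps.fwd (nat_lit 1024) (Steps.bwd (nat_lit 5) Steps.nil)))))))))))))) (nat_lit 22) (nat_lit 0),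
  Rule.mk (nat_lit 5) (nat_lit 64) (Steps.bwd (nat_lit 6) (Steps.bwd (nat_lit 5) (Steps.bwd (nat_lit 6) (Steps.fwd (nat_lit 5120) (Steps.bwd (nat_lit 6) Steps.nil))))) (nat_lit 18) (nat_lit 1),
  Rule.mk (nat_lit 2) (nat_lit 86) (Steps.bwd (nat_lit 3) (Steps.bwd (nat_lit 2) (Steps.bwd (nat_lit 4) (Steps.bwd (nat_lit 2) (Steps.bwd (nat_lit 4) (Steps.fwd (nat_lit 1024) (Steps.bwd (nat_lit 4) Steps.nil))))))) (nat_lit 5) (nat_lit 0),
  Rule.mk (nat_lit 3) (nat_lit 97) (Steps.bwd (nat_lit 3) (Steps.fwd (nat_lit 5120) (Steps.fwd (nat_lit 4096) (Steps.fwd (nat_lit 4096) (Steps.fwd (nat_lit 5120) (Steps.fwd (nat_lit 4096) (Steps.fwd (nat_lit 4096) (Steps.bwd (nat_lit 5) Steps.nil)))))))) (nat_lit 12) (nat_lit 1),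
  Rule.mk (nat_lit 6) (nat_lit 163) (Steps.bwd (nat_lit 3) (Steps.bwd (nat_lit 2) (Steps.bwd (nat_lit 5) (Steps.bwd (nat_lit 4) (Steps.fwd (nat_lit 2048) (Steps.fwd (nat_lit 4096) (Steps.bwd (nat_lit 6) (Steps.fwd (nat_lit 4096) (Steps.fwd (nat_lit 5120) (Steps.fwd (nat_lit 4096) (Steps.fwd (nat_lit 6144) (Steps.bwd (nat_lit 4) (Steps.fwd (nat_lit 5120) (Steps.fwd (nat_lit 4096) Steps.nil)))))))))))))) (nat_lit 22) (nat_lit 11),
  Rule.mk (nat_lit 5) (nat_lit 163) (Steps.bwd (nat_lit 3) (Steps.bwd (nat_lit 6) (Steps.bwd (nat_lit 3) (Steps.fwd (nat_lit 1024) (Steps.fwd (nat_lit 5120) (Steps.bwd (nat_lit 4) (Steps.fwd (nat_lit 2048) (Steps.fwd (nat_lit 4096) (Steps.bwd (nat_lit 6) (Steps.bwd (nat_lit 3) (Steps.fwd (nat_lit 5120) (Steps.fwd (nat_lit 4096) (Steps.fwd (nat_lit 6144) (Steps.bwd (nat_lit 4) Steps.nil)))))))))))))) (nat_lit 22) (nat_lit 9),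
  Rule.mk (nat_lit 1) (nat_lit 163) (Steps.bwd (nat_lit 3) (Steps.bwd (nat_lit 6) (Steps.bwd (nat_lit 3) (Steps.fwd (nat_lit 5120) (Steps.fwd (nat_lit 4096) (Steps.bwd (nat_lit 6) (Steps.bwd (nat_lit 4) (Steps.fwd (nat_lit 5120) (Steps.bwd (nat_lit 3) (Steps.fwd (nat_lit 6144) (Steps.fwd (nat_lit 4096) (Steps.bwd (nat_lit 2) (Steps.bwd (nat_lit 5) (Steps.bwd (nat_lit 4) Steps.nil)))))))))))))) (nat_lit 22) (nat_lit 1),
  Rule.mk (nat_lit 4) (nat_lit 86) (Steps.bwd (nat_lit 5) (Steps.fwd (nat_lit 3072) (Steps.fwd (nat_lit 5120) (Steps.bwd (nat_lit 4) (Steps.bwd (nat_lit 5) (Steps.fwd (nat_lit 3072) (Steps.fwd (nat_lit 5120) Steps.nil))))))) (nat_lit 11) (nat_lit 0),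
  Rule.mk (nat_lit 3) (nat_lit 97) (Steps.bwd (nat_lit 6) (Steps.fwd (nat_lit 5120) (Steps.fwd (nat_lit 2048) (Steps.bwd (nat_lit 3) (Steps.fwd (nat_lit 4096) (Steps.bwd (nat_lit 6) (Steps.fwd (nat_lit 5120) (Steps.fwd (nat_lit 4096) Steps.nil)))))))) (nat_lit 20) (nat_lit 7),
  Rule.mk (nat_lit 4) (nat_lit 196) (Steps.bwd (nat_lit 6) (Steps.fwd (nat_lit 5120) (Steps.bwd (nat_lit 3) (Steps.fwd (nat_lit 5120) (Steps.fwd (nat_lit 2048) (Steps.fwd (nat_lit 4096) (Steps.fwd (nat_lit 5120) (Steps.bwd (nat_lit 3) (Steps.bwd (nat_lit 1) (Steps.bwd (nat_lit 4) (Steps.bwd (nat_lit 6) (Steps.fwd (nat_lit 4096) (Steps.fwd (nat_lit 6144) (Steps.fwd (nat_lit 3072) (Steps.bwd (nat_lit 2) (Steps.fwd (nat_lit 4096) (Steps.bwd (nat_lit 6) Steps.nil))))))))))))))))) (nat_lit 24) (nat_lit 14),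
  Rule.mk (nat_lit 1) (nat_lit 196) (Steps.fwd (nat_lit 3072) (Steps.bwd (nat_lit 6) (Steps.fwd (nat_lit 4096) (Steps.bwd (nat_lit 6) (Steps.bwd (nat_lit 4) (Steps.fwd (nat_lit 1024) (Steps.bwd (nat_lit 3) (Steps.bwd (nat_lit 6) (Steps.bwd (nat_lit 4) (Steps.fwd (nat_lit 6144) (Steps.fwd (nat_lit 5120) (Steps.fwd (nat_lit 4096) (Steps.fwd (nat_lit 5120) (Steps.bwd (nat_lit 1) (Steps.bwd (nat_lit 3) (Steps.bwd (nat_lit 5) (Steps.bwd (nat_lit 3) Steps.nil))))))))))))))))) (nat_lit 24) (nat_lit 5),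
  Rule.mk (nat_lit 5) (nat_lit 42) (Steps.bwd (nat_lit 1) (Steps.bwd (nat_lit 5) (Steps.fwd (nat_lit 1024) Steps.nil))) (nat_lit 8) (nat_lit 0),
  Rule.mk (nat_lit 6) (nat_lit 64) (Steps.bwd (nat_lit 5) (Steps.bwd (nat_lit 6) (Steps.bwd (nat_lit 5) (Steps.fwd (nat_lit 6144) (Steps.bwd (nat_lit 5) Steps.nil))))) (nat_lit 18) (nat_lit 0),
  Rule.mk (nat_lit 4) (nat_lit 86) (Steps.bwd (nat_lit 5) (Steps.fwd (nat_lit 3072) (Steps.bwd (nat_lit 5) (Steps.bwd (nat_lit 4) (Steps.fwd (nat_lit 5120) (Steps.bwd (nat_lit 4) (Steps.bwd (nat_lit 5) Steps.nil))))))) (nat_lit 11) (nat_lit 0),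
  Rule.mk (nat_lit 6) (nat_lit 196) (Steps.bwd (nat_lit 5) (Steps.bwd (nat_lit 3) (Steps.bwd (nat_lit 5) (Steps.bwd (nat_lit 1) (Steps.bwd (nat_lit 3) (Steps.fwd (nat_lit 5120) (Steps.bwd (nat_lit 3) (Steps.fwd (nat_lit 2048) (Steps.fwd (nat_lit 3072) (Steps.bwd (nat_lit 6) (Steps.fwd (nat_lit 4096) (Steps.bwd (nat_lit 6) (Steps.fwd (nat_lit 3072) (Steps.fwd (nat_lit 1024) (Steps.bwd (nat_lit 3) (Steps.fwd (nat_lit 6144) (Steps.bwd (nat_lit 4) Steps.nil))))))))))))))))) (nat_lit 24) (nat_lit 15),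
  Rule.mk (nat_lit 4) (nat_lit 86) (Steps.bwd (nat_lit 2) (Steps.fwd (nat_lit 4096) (Steps.fwd (nat_lit 1024) (Steps.bwd (nat_lit 4) (Steps.fwd (nat_lit 1024) (Steps.bwd (nat_lit 4) (Steps.bwd (nat_lit 2) Steps.nil))))))) (nat_lit 5) (nat_lit 7),
  Rule.mk (nat_lit 6) (nat_lit 196) (Steps.fwd (nat_lit 4096) (Steps.fwd (nat_lit 6144) (Steps.bwd (nat_lit 4) (Steps.bwd (nat_lit 2) (Steps.fwd (nat_lit 4096) (Steps.bwd (nat_lit 6) (Steps.bwd (nat_lit 4) (Steps.bwd (nat_lit 6) (Steps.fwd (nat_lit 5120) (Steps.bwd (nat_lit 3) (Steps.fwd (nat_lit 5120) (Steps.fwd (nat_lit 2048) (Steps.fwd (nat_lit 4096) (Steps.bwd (nat_lit 5) (Steps.bwd (nat_lit 3) (Steps.fwd (nat_lit 2048) (Steps.fwd (nat_lit 3072) Steps.nil))))))))))))))))) (nat_lit 24) (nat_lit 7),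
  Rule.mk (nat_lit 3) (nat_lit 86) (Steps.bwd (nat_lit 5) (Steps.fwd (nat_lit 4096) (Steps.bwd (nat_lit 5) (Steps.bwd (nat_lit 3) (Steps.bwd (nat_lit 5) (Steps.bwd (nat_lit 3) (Steps.bwd (nat_lit 5) Steps.nil))))))) (nat_lit 10) (nat_lit 1),
  Rule.mk (nat_lit 4) (nat_lit 97) (Steps.bwd (nat_lit 5) (Steps.bwd (nat_lit 4) (Steps.bwd (nat_lit 4) (Steps.bwd (nat_lit 5) (Steps.fwd (nat_lit 3072) (Steps.fwd (nat_lit 3072) (Steps.fwd (nat_lit 5120) (Steps.bwd (nat_lit 4) Steps.nil)))))))) (nat_lit 13) (nat_lit 0),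
  Rule.mk (nat_lit 4) (nat_lit 97) (Steps.bwd (nat_lit 2) (Steps.bwd (nat_lit 5) (Steps.bwd (nat_lit 6) (Steps.fwd (nat_lit 3072) (Steps.bwd (nat_lit 4) (Steps.fwd (nat_lit 5120) (Steps.bwd (nat_lit 6) (Steps.fwd (nat_lit 3072) Steps.nil)))))))) (nat_lit 21) (nat_lit 8),
  Rule.mk (nat_lit 3) (nat_lit 196) (Steps.bwd (nat_lit 2) (Steps.fwd (nat_lit 3072) (Steps.fwd (nat_lit 5120) (Steps.fwd (nat_lit 3072) (Steps.bwd (nat_lit 2) (Steps.bwd (nat_lit 5) (Steps.fwd (nat_lit 3072) (Steps.bwd (nat_lit 5) (Steps.bwd (nat_lit 6) (Steps.fwd (nat_lit 4096) (Steps.fwd (nat_lit 6144) (Steps.bwd (nat_lit 4) (Steps.fwd (nat_lit 2048) (Steps.bwd (nat_lit 3) (Steps.fwd (nat_lit 6144) (Steps.fwd (nat_lit 3072) (Steps.fwd (nat_lit 6144) Steps.nil))))))))))))))))) (nat_lit 25) (nat_lit 13),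
  Rule.mk (nat_lit 4) (nat_lit 163) (Steps.bwd (nat_lit 6) (Steps.bwd (nat_lit 4) (Steps.bwd (nat_lit 2) (Steps.bwd (nat_lit 3) (Steps.fwd (nat_lit 5120) (Steps.bwd (nat_lit 1) (Steps.fwd (nat_lit 3072) (Steps.bwd (nat_lit 6) (Steps.fwd (nat_lit 3072) (Steps.bwd (nat_lit 5) (Steps.fwd (nat_lit 4096) (Steps.fwd (nat_lit 6144) (Steps.fwd (nat_lit 3072) (Steps.bwd (nat_lit 5) Steps.nil)))))))))))))) (nat_lit 23) (nat_lit 12),
  Rule.mk (nat_lit 1) (nat_lit 86) (Steps.bwd (nat_lit 3) (Steps.bwd (nat_lit 1) (Steps.fwd (nat_lit 4096) (Steps.fwd (nat_lit 2048) (Steps.bwd (nat_lit 4) (Steps.bwd (nat_lit 1) (Steps.bwd (nat_lit 3) Steps.nil))))))) (nat_lit 4) (nat_lit 3),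
  Rule.mk (nat_lit 2) (nat_lit 86) (Steps.bwd (nat_lit 3) (Steps.fwd (nat_lit 1024) (Steps.fwd (nat_lit 3072) (Steps.fwd (nat_lit 1024) (Steps.fwd (nat_lit 3072) (Steps.fwd (nat_lit 1024) (Steps.bwd (nat_lit 4) Steps.nil))))))) (nat_lit 5) (nat_lit 0),
  Rule.mk (nat_lit 5) (nat_lit 97) (Steps.bwd (nat_lit 3) (Steps.fwd (nat_lit 4096) (Steps.fwd (nat_lit 5120) (Steps.bwd (nat_lit 3) (Steps.fwd (nat_lit 4096) (Steps.bwd (nat_lit 5) (Steps.bwd (nat_lit 3) (Steps.bwd (nat_lit 3) Steps.nil)))))))) (nat_lit 12) (nat_lit 0),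
  Rule.mk (nat_lit 6) (nat_lit 196) (Steps.bwd (nat_lit 3) (Steps.bwd (nat_lit 6) (Steps.bwd (nat_lit 4) (Steps.bwd (nat_lit 2) (Steps.bwd (nat_lit 3) (Steps.bwd (nat_lit 6) (Steps.fwd (nat_lit 3072) (Steps.bwd (nat_lit 6) (Steps.fwd (nat_lit 5120) (Steps.fwd (nat_lit 4096) (Steps.bwd (nat_lit 5) (Steps.bwd (nat_lit 1) (Steps.bwd (nat_lit 3) (Steps.bwd (nat_lit 5) (Steps.fwd (nat_lit 4096) (Steps.fwd (nat_lit 2048) (Steps.bwd (nat_lit 4) Steps.nil))))))))))))))))) (nat_lit 24) (nat_lit 7),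
  Rule.mk (nat_lit 5) (nat_lit 64) (Steps.bwd (nat_lit 6) (Steps.fwd (nat_lit 5120) (Steps.fwd (nat_lit 6144) (Steps.bwd (nat_lit 5) (Steps.fwd (nat_lit 6144) Steps.nil))))) (nat_lit 18) (nat_lit 1),
  Rule.mk (nat_lit 3) (nat_lit 163) (Steps.bwd (nat_lit 6) (Steps.bwd (nat_lit 3) (Steps.bwd (nat_lit 2) (Steps.bwd (nat_lit 5) (Steps.bwd (nat_lit 4) (Steps.bwd (nat_lit 1) (Steps.fwd (nat_lit 4096) (Steps.fwd (nat_lit 6144) (Steps.fwd (nat_lit 4096) (Steps.fwd (nat_lit 5120) (Steps.fwd (nat_lit 4096) (Steps.fwd (nat_lit 6144) (Steps.fwd (nat_lit 3072) (Steps.fwd (nat_lit 5120) Steps.nil)))))))))))))) (nat_lit 22) (nat_lit 10),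
  Rule.mk (nat_lit 2) (nat_lit 86) (Steps.bwd (nat_lit 4) (Steps.fwd (nat_lit 1024) (Steps.fwd (nat_lit 3072) (Steps.fwd (nat_lit 1024) (Steps.bwd (nat_lit 3) (Steps.fwd (nat_lit 1024) (Steps.fwd (nat_lit 3072) Steps.nil))))))) (nat_lit 5) (nat_lit 4),
  Rule.mk (nat_lit 6) (nat_lit 97) (Steps.bwd (nat_lit 4) (Steps.fwd (nat_lit 3072) (Steps.fwd (nat_lit 1024) (Steps.fwd (nat_lit 5120) (Steps.fwd (nat_lit 6144) (Steps.bwd (nat_lit 4) (Steps.fwd (nat_lit 3072) (Steps.bwd (nat_lit 5) Steps.nil)))))))) (nat_lit 21) (nat_lit 6),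
  Rule.mk (nat_lit 1) (nat_lit 163) (Steps.bwd (nat_lit 4) (Steps.bwd (nat_lit 6) (Steps.fwd (nat_lit 3072) (Steps.bwd (nat_lit 5) (Steps.bwd (nat_lit 3) (Steps.bwd (nat_lit 6) (Steps.bwd (nat_lit 4) (Steps.fwd (nat_lit 5120) (Steps.bwd (nat_lit 4) (Steps.bwd (nat_lit 6) (Steps.bwd (nat_lit 4) (Steps.fwd (nat_lit 1024) (Steps.fwd (nat_lit 4096) (Steps.bwd (nat_lit 5) Steps.nil)))))))))))))) (nat_lit 23) (nat_lit 3),
  Rule.mk (nat_lit 3) (nat_lit 97) (Steps.bwd (nat_lit 6) (Steps.bwd (nat_lit 5) (Steps.bwd (nat_lit 1) (Steps.bwd (nat_lit 3) (Steps.bwd (nat_lit 3) (Steps.fwd (nat_lit 6144) (Steps.fwd (nat_lit 5120) (Steps.fwd (nat_lit 4096) Steps.nil)))))))) (nat_lit 20) (nat_lit 7),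
  Rule.mk (nat_lit 4) (nat_lit 163) (Steps.bwd (nat_lit 6) (Steps.bwd (nat_lit 4) (Steps.bwd (nat_lit 2) (Steps.fwd (nat_lit 4096) (Steps.bwd (nat_lit 5) (Steps.fwd (nat_lit 2048) (Steps.fwd (nat_lit 3072) (Steps.fwd (nat_lit 6144) (Steps.bwd (nat_lit 4) (Steps.fwd (nat_lit 5120) (Steps.fwd (nat_lit 4096) (Steps.fwd (nat_lit 6144) (Steps.fwd (nat_lit 3072) (Steps.fwd (nat_lit 5120) Steps.nil)))))))))))))) (nat_lit 23) (nat_lit 12),
  Rule.mk (nat_lit 6) (nat_lit 64) (Steps.bwd (nat_lit 5) (Steps.fwd (nat_lit 6144) (Steps.fwd (nat_lit 5120) (Steps.bwd (nat_lit 6) (Steps.bwd (nat_lit 5) Steps.nil))))) (nat_lit 18) (nat_lit 0),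
  Rule.mk (nat_lit 3) (nat_lit 163) (Steps.bwd (nat_lit 6) (Steps.fwd (nat_lit 4096) (Steps.fwd (nat_lit 1024) (Steps.fwd (nat_lit 5120) (Steps.bwd (nat_lit 4) (Steps.fwd (nat_lit 2048) (Steps.fwd (nat_lit 4096) (Steps.bwd (nat_lit 6) (Steps.fwd (nat_lit 4096) (Steps.fwd (nat_lit 5120) (Steps.fwd (nat_lit 4096) (Steps.fwd (nat_lit 6144) (Steps.fwd (nat_lit 3072) (Steps.fwd (nat_lit 5120) Steps.nil)))))))))))))) (nat_lit 22) (nat_lit 10),
  Rule.mk (nat_lit 1) (nat_lit 86) (Steps.fwd (nat_lit 3072) (Steps.bwd (nat_lit 1) (Steps.bwd (nat_lit 3) (Steps.bwd (nat_lit 1) (Steps.fwd (nat_lit 4096) (Steps.bwd (nat_lit 1) (Steps.bwd (nat_lit 3) Steps.nil))))))) (nat_lit 4) (nat_lit 7),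
  Rule.mk (nat_lit 2) (nat_lit 86) (Steps.bwd (nat_lit 4) (Steps.fwd (nat_lit 1024) (Steps.bwd (nat_lit 4) (Steps.fwd (nat_lit 1024) (Steps.bwd (nat_lit 4) (Steps.bwd (nat_lit 2) (Steps.bwd (nat_lit 3) Steps.nil))))))) (nat_lit 5) (nat_lit 2),
  Rule.mk (nat_lit 1) (nat_lit 86) (Steps.bwd (nat_lit 4) (Steps.bwd (nat_lit 1) (Steps.fwd (nat_lit 4096) (Steps.bwd (nat_lit 1) (Steps.bwd (nat_lit 3) (Steps.bwd (nat_lit 1) (Steps.bwd (nat_lit 3) Steps.nil))))))) (nat_lit 4) (nat_lit 7),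
  Rule.mk (nat_lit 2) (nat_lit 86) (Steps.bwd (nat_lit 4) (Steps.bwd (nat_lit 2) (Steps.fwd (nat_lit 4096) (Steps.bwd (nat_lit 2) (Steps.bwd (nat_lit 4) (Steps.fwd (nat_lit 1024) (Steps.bwd (nat_lit 4) Steps.nil))))))) (nat_lit 5) (nat_lit 6),
  Rule.mk (nat_lit 5) (nat_lit 97) (Steps.bwd (nat_lit 4) (Steps.fwd (nat_lit 3072) (Steps.bwd (nat_lit 5) (Steps.bwd (nat_lit 4) (Steps.fwd (nat_lit 3072) (Steps.bwd (nat_lit 5) (Steps.bwd (nat_lit 4) (Steps.fwd (nat_lit 3072) Steps.nil)))))))) (nat_lit 13) (nat_lit 1)]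
noncomputable def R_6 : List (Rule) := [Rule.mk (nat_lit 6) (nat_lit 97) (Steps.bwd (nat_lit 4) (Steps.fwd (nat_lit 3072) (Steps.fwd (nat_lit 1024) (Steps.bwd (nat_lit 5) (Steps.fwd (nat_lit 6144) (Steps.fwd (nat_lit 3072) (Steps.fwd (nat_lit 3072) (Steps.fwd (nat_lit 5120) Steps.nil)))))))) (nat_lit 21) (nat_lit 6),
  Rule.mk (nat_lit 3) (nat_lit 97) (Steps.bwd (nat_lit 6) (Steps.bwd (nat_lit 5) (Steps.bwd (nat_lit 1) (Steps.bwd (nat_lit 3) (Steps.bwd (nat_lit 3) (Steps.fwd (nat_lit 6144) (Steps.bwd (nat_lit 5) (Steps.fwd (nat_lit 4096) Steps.nil)))))))) (nat_lit 20) (nat_lit 7),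
  Rule.mk (nat_lit 4) (nat_lit 163) (Steps.bwd (nat_lit 6) (Steps.bwd (nat_lit 4) (Steps.bwd (nat_lit 2) (Steps.fwd (nat_lit 4096) (Steps.fwd (nat_lit 5120) (Steps.fwd (nat_lit 2048) (Steps.fwd (nat_lit 3072) (Steps.fwd (nat_lit 6144) (Steps.fwd (nat_lit 3072) (Steps.fwd (nat_lit 5120) (Steps.fwd (nat_lit 4096) (Steps.fwd (nat_lit 6144) (Steps.fwd (nat_lit 3072) (Steps.fwd (nat_lit 5120) Steps.nil)))))))))))))) (nat_lit 23) (nat_lit 12),
  Rule.mk (nat_lit 1) (nat_lit 86) (Steps.bwd (nat_lit 3) (Steps.bwd (nat_lit 1) (Steps.bwd (nat_lit 3) (Steps.bwd (nat_lit 1) (Steps.fwd (nat_lit 4096) (Steps.bwd (nat_lit 1) (Steps.bwd (nat_lit 4) Steps.nil))))))) (nat_lit 4) (nat_lit 1),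
  Rule.mk (nat_lit 2) (nat_lit 86) (Steps.fwd (nat_lit 4096) (Steps.fwd (nat_lit 1024) (Steps.bwd (nat_lit 4) (Steps.fwd (nat_lit 1024) (Steps.bwd (nat_lit 4) (Steps.bwd (nat_lit 2) (Steps.bwd (nat_lit 4) Steps.nil))))))) (nat_lit 5) (nat_lit 0),
  Rule.mk (nat_lit 6) (nat_lit 64) (Steps.fwd (nat_lit 5120) (Steps.fwd (nat_lit 6144) (Steps.fwd (nat_lit 5120) (Steps.fwd (nat_lit 6144) (Steps.bwd (nat_lit 5) Steps.nil))))) (nat_lit 18) (nat_lit 0),
  Rule.mk (nat_lit 1) (nat_lit 86) (Steps.bwd (nat_lit 3) (Steps.bwd (nat_lit 1) (Steps.fwd (nat_lit 4096) (Steps.fwd (nat_lit 2048) (Steps.fwd (nat_lit 4096) (Steps.bwd (nat_lit 1) (Steps.fwd (nat_lit 3072) Steps.nil))))))) (nat_lit 4) (nat_lit 1),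
  Rule.mk (nat_lit 3) (nat_lit 97) (Steps.bwd (nat_lit 3) (Steps.fwd (nat_lit 5120) (Steps.fwd (nat_lit 4096) (Steps.bwd (nat_lit 3) (Steps.bwd (nat_lit 5) (Steps.fwd (nat_lit 4096) (Steps.bwd (nat_lit 3) (Steps.bwd (nat_lit 5) Steps.nil)))))))) (nat_lit 12) (nat_lit 1),
  Rule.mk (nat_lit 5) (nat_lit 163) (Steps.bwd (nat_lit 3) (Steps.fwd (nat_lit 6144) (Steps.bwd (nat_lit 3) (Steps.fwd (nat_lit 1024) (Steps.fwd (nat_lit 5120) (Steps.fwd (nat_lit 3072) (Steps.bwd (nat_lit 1) (Steps.bwd (nat_lit 3) (Steps.bwd (nat_lit 6) (Steps.fwd (nat_lit 4096) (Steps.fwd (nat_lit 5120) (Steps.bwd (nat_lit 3) (Steps.bwd (nat_lit 6) (Steps.fwd (nat_lit 3072) Steps.nil)))))))))))))) (nat_lit 22) (nat_lit 9),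
  Rule.mk (nat_lit 1) (nat_lit 86) (Steps.bwd (nat_lit 3) (Steps.bwd (nat_lit 1) (Steps.bwd (nat_lit 4) (Steps.fwd (nat_lit 2048) (Steps.fwd (nat_lit 4096) (Steps.bwd (nat_lit 1) (Steps.bwd (nat_lit 3) Steps.nil))))))) (nat_lit 4) (nat_lit 5),
  Rule.mk (nat_lit 6) (nat_lit 163) (Steps.bwd (nat_lit 3) (Steps.fwd (nat_lit 1024) (Steps.fwd (nat_lit 5120) (Steps.bwd (nat_lit 4) (Steps.fwd (nat_lit 2048) (Steps.fwd (nat_lit 4096) (Steps.bwd (nat_lit 6) (Steps.bwd (nat_lit 3) (Steps.bwd (nat_lit 5) (Steps.bwd (nat_lit 3) (Steps.bwd (nat_lit 6) (Steps.bwd (nat_lit 4) (Steps.bwd (nat_lit 5) (Steps.bwd (nat_lit 3) Steps.nil)))))))))))))) (nat_lit 22) (nat_lit 11),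
  Rule.mk (nat_lit 6) (nat_lit 196) (Steps.bwd (nat_lit 5) (Steps.bwd (nat_lit 3) (Steps.fwd (nat_lit 5120) (Steps.bwd (nat_lit 1) (Steps.bwd (nat_lit 3) (Steps.fwd (nat_lit 5120) (Steps.fwd (nat_lit 4096) (Steps.bwd (nat_lit 1) (Steps.bwd (nat_lit 4) (Steps.bwd (nat_lit 6) (Steps.bwd (nat_lit 3) (Steps.bwd (nat_lit 6) (Steps.bwd (nat_lit 4) (Steps.fwd (nat_lit 1024) (Steps.bwd (nat_lit 3) (Steps.bwd (nat_lit 6) (Steps.fwd (nat_lit 3072) Steps.nil))))))))))))))))) (nat_lit 24) (nat_lit 15),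
  Rule.mk (nat_lit 5) (nat_lit 86) (Steps.bwd (nat_lit 4) (Steps.bwd (nat_lit 5) (Steps.fwd (nat_lit 3072) (Steps.fwd (nat_lit 5120) (Steps.fwd (nat_lit 3072) (Steps.fwd (nat_lit 5120) (Steps.bwd (nat_lit 4) Steps.nil))))))) (nat_lit 11) (nat_lit 1),
  Rule.mk (nat_lit 4) (nat_lit 97) (Steps.bwd (nat_lit 4) (Steps.bwd (nat_lit 5) (Steps.fwd (nat_lit 3072) (Steps.fwd (nat_lit 3072) (Steps.fwd (nat_lit 5120) (Steps.fwd (nat_lit 3072) (Steps.fwd (nat_lit 3072) (Steps.fwd (nat_lit 5120) Steps.nil)))))))) (nat_lit 13) (nat_lit 2),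
  Rule.mk (nat_lit 6) (nat_lit 97) (Steps.bwd (nat_lit 4) (Steps.bwd (nat_lit 4) (Steps.fwd (nat_lit 5120) (Steps.bwd (nat_lit 6) (Steps.bwd (nat_lit 4) (Steps.bwd (nat_lit 4) (Steps.bwd (nat_lit 2) (Steps.fwd (nat_lit 5120) Steps.nil)))))))) (nat_lit 21) (nat_lit 2),
  Rule.mk (nat_lit 1) (nat_lit 163) (Steps.bwd (nat_lit 4) (Steps.fwd (nat_lit 6144) (Steps.fwd (nat_lit 3072) (Steps.fwd (nat_lit 5120) (Steps.fwd (nat_lit 4096) (Steps.fwd (nat_lit 6144) (Steps.fwd (nat_lit 3072) (Steps.fwd (nat_lit 5120) (Steps.bwd (nat_lit 4) (Steps.fwd (nat_lit 6144) (Steps.fwd (nat_lit 3072) (Steps.bwd (nat_lit 2) (Steps.bwd (nat_lit 3) (Steps.bwd (nat_lit 5) Steps.nil)))))))))))))) (nat_lit 23) (nat_lit 3),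
  Rule.mk (nat_lit 5) (nat_lit 64) (Steps.bwd (nat_lit 6) (Steps.bwd (nat_lit 5) (Steps.fwd (nat_lit 6144) (Steps.fwd (nat_lit 5120) (Steps.fwd (nat_lit 6144) Steps.nil))))) (nat_lit 18) (nat_lit 1),
  Rule.mk (nat_lit 4) (nat_lit 97) (Steps.fwd (nat_lit 5120) (Steps.bwd (nat_lit 6) (Steps.fwd (nat_lit 3072) (Steps.bwd (nat_lit 4) (Steps.fwd (nat_lit 1024) (Steps.bwd (nat_lit 5) (Steps.fwd (nat_lit 6144) (Steps.fwd (nat_lit 3072) Steps.nil)))))))) (nat_lit 21) (nat_lit 4),
  Rule.mk (nat_lit 2) (nat_lit 97) (Steps.fwd (nat_lit 5120) (Steps.bwd (nat_lit 6) (Steps.fwd (nat_lit 3072) (Steps.bwd (nat_lit 4) (Steps.bwd (nat_lit 5) (Steps.fwd (nat_lit 6144) (Steps.fwd (nat_lit 3072) (Steps.bwd (nat_lit 4) Steps.nil)))))))) (nat_lit 21) (nat_lit 0),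
  Rule.mk (nat_lit 3) (nat_lit 163) (Steps.bwd (nat_lit 6) (Steps.fwd (nat_lit 4096) (Steps.bwd (nat_lit 2) (Steps.bwd (nat_lit 5) (Steps.bwd (nat_lit 4) (Steps.bwd (nat_lit 1) (Steps.bwd (nat_lit 3) (Steps.bwd (nat_lit 6) (Steps.bwd (nat_lit 3) (Steps.bwd (nat_lit 5) (Steps.fwd (nat_lit 4096) (Steps.fwd (nat_lit 6144) (Steps.fwd (nat_lit 3072) (Steps.bwd (nat_lit 5) Steps.nil)))))))))))))) (nat_lit 22) (nat_lit 10),
  Rule.mk (nat_lit 3) (nat_lit 86) (Steps.bwd (nat_lit 5) (Steps.fwd (nat_lit 4096) (Steps.fwd (nat_lit 5120) (Steps.bwd (nat_lit 3) (Steps.bwd (nat_lit 5) (Steps.bwd (nat_lit 3) (Steps.fwd (nat_lit 5120) Steps.nil))))))) (nat_lit 10) (nat_lit 1)]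
noncomputable def R : List (List (Rule)) := [R_0, R_1, R_2, R_3, R_4, R_5, R_6]
def LW : List Word := [[], [0], [1], [2], [3], [4], [6], [0], [1], [2], [3], [4], [5]]
def par : Par := ⟨10, 4, 14, 24, 1023, 16383, 16777215⟩
theorem hpar : par.ok := by decide
theorem hR0_0 : lall (R) (fun l => lall l (ruleOK rels LW par)) = true := by decide +kernel
theorem hR0 : lall (R) (fun l => lall l (ruleOK rels LW par)) = true := hR0_0
theorem hR : RulesOK rels LW par R := rulesOK_of rfl hR0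
def cols : List (ℕ × ℕ) := [(1024, 2), (3072, 4), (5120, 5), (6144, 6)]
theorem hcols : lall cols (colOK rels LW par) = true := by decide +kernel
noncomputable def JS0 : List ℕ := [nat_lit 0x72820009f00302a01c3403001864060020c136004170100042c03c001330a93c27e5040914026e4a80000127a50409140272018280009e1412880640d0180320680c9440204d89484c9d93f02a5009d92a252120004b0140049a93c0244f00412c088030044ac200009692b0792b0020249d00f2724c81c0100480b2744dc9592a068072700349c1362544a4180089692b058002540a2564b4950249612b0080225e4b416000960289692f2580925c4b4024c09792e04004264018990040393000006006000978140080000200808000970030060089712b2540325a008010030024b4951290112b25401,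
  nat_lit 0x27a4f09d8409f13d0093f03e0d0b316907c5a41d9652c257c0f02d2920400613e1a94300c5300b015028018a08d0010062800000c81829a000665301094a0084fc644f80213e0480327e500028292884f8624f40593d180092780102254cae02e2b854ca301c02452c9f80327a4f05e4ec9e00104a0280013b1713c2760a04850c0600b2804fc9d8b401009018034a68072742c0044eca68142a65209d0ac030192722a27a5109c0a40013929252c12827056554a88230205401100e03a0789c0a09c14801001c0401e26e270000080b01f01806c9b8989b80026c250325000a01d014500001361201126e4d84600ca294e29e52c0780426c2226e5100f14f2944e402135109350004d4400009a80b26c4dc0600b2681f2825281081b2824d099878001350141d0004d0a18022800349b870999420024fc020162661b,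
  nat_lit 0x11004442ba0040c07800120b80472e613cbd14400050c0711ca197930460cbe1552985088c518031430414400050c10024a403907413cbe15c28645008008880140090ca18002116f0985f4bd1772ae500000012080128c0201f96b2ec5589f9000080327e3c2804f8020009f028a113e0000927c0bc180422a0040a313d1f80e28e4f8160009e828a294b27a0906c588b783e298030a113d1f15e2d85300213d1e8010064f4784f89e0040013c0513e2780007651c1403029c5149e0012763a00a4ec000e49d9462aa080ac14c2864e8704ecb116528a4e86e0009f1612c85881095727636,
  nat_lit 0xaf80f000004000100385a01c5900e8222b256000164ab958042070080032ae58002560ad0052ee14cc48522b9650425d01c96101c00400158008152aa0b00855014008aa004aa8002a82506a0d8ba1702ac028011542a801000040a8560088090140c018953000532a8640141662a4522e40040c04800108130022c4510460048608400108119820a0144c514e00253410940a914c00010298620c5992326630b294b278060024e2980008807c0114b26820002432b80008452000802292000a394e01407898530c117f0185189600cbb8572ca51894524031461280028c0a0085201e02a04e0a41796a2f06142a0420a85880e01e28c49,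
  nat_lit 0x10bc6d2c86a0cf8152c23d2c2000bf8452e65c80b85c360000025804a000b09a50d4698be02704a6b2c06c8df87c338170cd9a410c6dc461ab3541d8db0702be6a2c2000b00942983d302100b716d022580d259cb0028b2960051610005804a0a82805130e018028022c068002008050ec00002016542be014231ae1066883515e338073221782e9ad08a010af1980500b2cc0e0b015f2ba65000008ae1901b963000588b015f2b8632c257c0095c0000d8b11881a96200e5881a15c2b6612b8000ad8941d0302e86082318100056cc00000095b0580000260cc218108a10c2497c00045302174ad1782216201a590bc02f2b6568ba56cad1590815a33c1ecd788410a2104188410a20c4208335e1eccf15a2e15a02607c01162024568b656c01159128002b201,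
  nat_lit 0xba6943e87b382280590b717a798ef9dc394244b996b2d4812d6004b50940096a0005c447886102201005c0471c71125bc0316b2d27f0025acb48f0009683f0012d00a004000b41f4b40002d822c461c42f859cf85ac4508938220cb48002ce7b2d00180216c2ce522d401c3b879124728501d114c2403f1bb00e5a8f4000031ba3701d8031693c96b00c5a8010042d0000f059c018012d2014b51673b8000005a0b517502804cb39d8001b83786f4df08c11e704e11d33aa71cdc87f3785a4b39d4db9682cc232cc594e81e0b316539965370208e109b102594e45a001165129660005944a010b300005a6081485e2ca71056160bc01c2d402000165380000100a3040b4c219802e05800001378002c66ccb88121b8000c6684e21c7116200b11b801162051630005884a100c3844076010028012c424,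
  nat_lit 0x4588d138758d3171491722e2010045d4b982c00172051732ea5c8125d0b9804009772ea0b2ec5e4ba824bc1760099e3542b4608ca1962e4fc8b93f87f8679fe3ee750bb976488002f46180e8100085dd2000001176040000025dc058062f200d1e000bb00a00a03000800410000165e44c09b15a30cee0a3140284541e8182150d5974471772e80a0005d01405c0197a0085e8011744680800e5cd1800400028029720085e8bc00201c8b2ec0000581000a5c4012280500f0085c001178014892ea0380196f0025dcbaa2000178020252f0628c60b23ca29c5d0b115e7544f9d6120234b70002da870005d4c51d213472c4696d43174052628ee1e71501e41c1940720ec1802e2da85000108d384e0ac184b6a10000022d808000004d31a8364684cd20c001a534e6c4d305e00082,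
  nat_lit 0x6985022010bf07b3ac29c569f70ec1b83800a01660d4a030079cc0d81a00017a521c81262fc3a0720005e9467300697a1e1812f201018600bf97c00e000009793a2288541f20e27343a979002a200227cf90b53f636c782221ee3d9102143a05e1425dc3a177148042f25f0028002ee7884ea80000010d02ac710e01c23a8758da1561a8038044f8000ce7a0591ee3c05d53c6f8009751e1752e8010b6008ba0f0bb1752e808020044ee0ab3ce2b0f90d21c8344f00660005d13a704331e73c418c001744e1b70005d078154311bf00a5dc021752e89b00000cba094011a209c13ccd82604a5d1345ccc90b23245cc945d0b98000700e41d0b73d42ac411e214a20447264cf84b106730009732e498372178549e9190369028c318430ce79cb0005c92e19400172181be38a28c5087b3606381019509271ce71732e4960065c8025ccb90040188e12027cec8492e4950002183c8a30b26a4b8a5042878144160231722e293,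
  nat_lit 0x6345421a46c43c7a9e41062a4fe98d002650c62e4cd99a03e09c1401b006631700540118b1d802052088cd89712a2096e7e03a870314004ce0255b1f83ec754c480033605d6a0980f820330250491ed44c7783e8a03a80006009d3a86216874c4e0c93d206ccb026032650001883963990ca1040e2fd66000c40191000000422104a0e42e394748ea44441c719c930cb20067fd0220d1021fcc32c40080003e634081280018630e620c482410e21560004ce184578033067400660c026f02985142c36473a1d438750399f117668c0002909a1395c668cc800168320fd1a25680300065d580080a012022078c9994046ab03004c00800008070500a4f98b21662001119504629c4f8750025f9542bd010c513e1d00017d521d40ec1e4098050005f5520100881001001cc598c2faa832c004be8c0be97c008200005f06064810023024008be8002f8a7018000be23005184020084111ed4083945b1f43f21e0381cf02403cbe298000012f60b,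
  nat_lit 0x3b4001943f91d1d60061fcf507301c7659674800328448871122384608d2124b49611d260940fe8003f23251c9d16489212c2b1050b14564711e8d140c0f41180f3a68dc4d8996407e3d027cff1ec1086a80731ce18052204f0081904c00c0c0a4011200204a008c637a00c8874c0104762845002160ae00988734011b9269cd004440c6004e530c300000a8c20c81943b19c000711140ec394c138600cd999700c0a01b1f50626a8538a61362644a99c028c009c0048613000108ef80237ebf3820040c6fc00120d699100280d020e243c32c1682b3482804fa2137ebe038008c82f4c880231e3b3660c41099c0340001a9ab39014ce99d410a811059b035ebc3521c038870070050ca98e00200812096130234f681832cbb0660d4199a7064094cf89c3ee3206604107a054ca18d000ba,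
  nat_lit 0x70e01f82624849a9586522a380df0026fc140144720c1822f50f1bf6f0520306f8528349394c4d6504a125e200120220433942850508c0066f9ba0b4210171222884500237adc3f40086b0db4c89789011f24647d001fe002001b6024071d43aa1a0659072109042481d3ee7e0138a00046f1b421c009bb1e0d34603c05c02a3da9487b8f51e41b8de1bb0007e84007f6c89d048949272340026e9b0000738df1ba2dd0188e3f422d0412844e2e4f29e4060781ae348359b9181dd37001002000ed8680c01702d04e6b1db08078d1d9094746ddaa6e0e71b66a00409e6d8e66f4da9f8011c8392164e304936ad305c6d0e8094690ab41a0780e9b4160303660a40a281059fe03e9113426f28a4fd3121e38c131a4050fd1183f4050943005f20d0dc7940807f3dc8407e9024703bd0e344330003e8824ff3403a9e901c034081cb0381959e6d8058090348f851204670790228fd3126927e9a93123f3c4784039b3056cd0761a4030580a0cc,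
  nat_lit 0x4021da02447489260514545452602260b0e93dc2f1ec4b84288902b3a2f600274ce899001830032770202391a4745ea00c080a32763611b9d07a1d639e7e39e0001682e2029609b1374b29485b86944c8a06181e3aef305809c3b9fc11091c748e64887680c8641d234c679cf39cf201827c9b8d419c738e6bc4009cd009d40da7bc120120220685fa2416c8805a80839af0462408699d5000008e63bc0011116618c550b614e0f90983c0d2464861091bc754093b92c26c4de8280c1d0396ed39873516a3119e024e5160008000a0ec0a07b02b8430682c10d0ad1dc94c850d208a24402803392eb06c0d51284308472c0183c43486457001392721d40ac2b1ca00271dd22b02e0af074004001c77400111a804089c90040143085d3ec21075a4b1f6484609c773a0941424d1923e4ee4d896a6f4e29c85d8ba176874ed1c77302417a8845c8b80602486825e1a8180ee9dc0ac14c291c6728020bc158048073928a8648ca1e2110ea1f0080800071c6721c70067147689c8426440e0cc221c5719d93b471118004e71e421694d2e2652664d937a451f0044e5388048384340a815850008008019d80b612076122186304e1b84098120f63fc812233849839a7a50c2251842fce0b80011c33823c,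
  nat_lit 0x13c1381e03d416898f69e78821a10c1c91a1ed02879a1e8640400504e7d4fc1f93cd0e0068f8232742a43c8f2c340f1f03c90c05c7d8f18a4000400960800e42d1e02a3c4d4062235409484d0268f13601d8db01e030f209a3c30a0661c107a1014684cf0425082113be8c000144658c847e8f8698073c28650c0a34ca998860f90ed080f61991528e2a29bcef41c1801d03c4908e9193bb06082114ee0a9078733b63b43e2b0418844f04d43a9db8288e12c8343a1da8206f3f6766060013b930142290850c846b0226c4c930a0911e270ec404ec21f0ba1c50308d3af004384d0981321f896045a050e01c4390750a013d1f85e3aeff25648875a4c528578b929b49007cf282d43a759fc329198c90a806c0e0a83aafd004068f106e070010019d57e0023ce38d4c16f2b6a45248e91cc50d400a93aafb3ae7686d0e04fe2a0ea3e80b8183a610046088f9a0c3d0750e9be41986a3e482cf39d33a4f8,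
  nat_lit 0x2640d47e1a888cfb9d0008580b68a4450871148a439844426118fe0069080146a2e45094556eb4d5616d2c68f1130700dc0ed071f69022141c7d4728cc6223a54aaf966acc32e9e53c0120027d8fac7c58a180a62b8592303ec7d63c0444f09b23ca00599f53e91d0020b9030731d239c71061268a3d5591e1647d2387d5070494c03cc682433e91b14c908f999107a0c3e62500200cfb8163f8425381f38d05d09a8483b1f28c8013ea05c1a8340660c50205f1963bc780ef3e5180007d0098121648844d0518b8030047c5a8000f80280002904e200580b50c8a33df1600009c1409d24a4a0e40ecfa1ee8a8003f60aa0608c111f84167b4a4004028a5116a1080a658a0003da230c800d0f89d1068b47a0f51ec5cd5329d530464f5c4c0080514a2a3de0404688f15c890449ea401ea02ea38aea6910a7a62427c42a7e1f63d9081e878a672b65145b0500a20f41da0609c2440b8163d111,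
  nat_lit 0x4962b13f9081b495d0a20d9e1362c6ae10aa1402a832760890920b1298132e50c6b80400282e7400000812818021aa3d8038040140bd1589525c2543803f0168343320a9c8000400cc1b8d84b83682581702c8912b8e71c438d2920e9c01e1aa3912e0d71ac2f1120460ee82c0400100a99c7aa099b8d227cb2cac20e41a02505806002011330f44113600c001040480820f91aa4c4b69605e0b90928226a0190f2912624a9112079a0520f04fd64a9b08e81a668340a81d4cc3cc2220599011020810720081b067154964580b1988010688982ca2800681260000192130403106a1d43b0710e01b500cbc0280800a01101245190a54a314731a234c692d51e84900cb82f90c17840c8789a1e8b29632bd2d239519a1f43c08d004b55916b2548b8248223ff2c446185148ac154080ff4ac5d2554a83854da8c254a35400a158a621530ad1a6908ff4a8000041e8020038c43fb290063cc7907128aa84ff1fd940703fc009349fd939fc28e7f01200078800930ef006010358750f227d50aa2576b10c8acc332518a09fb9280041e45d4099f5a8681409174628240f82305b240649486e24e0de89cfd48d278dd4a6028010043f322,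
  nat_lit 0x68dcbe9823aa72d831c93aeb30b6acd220a15140134434f0424748e11b45e08d13220a722c44a87c201211e2b93645f519a1fa683346287a8e00416a521069402f05d9980005c948482581b6226980b0ce2e03a8c20e8ac55882712daba570ad10e52c0084e0e49204685c48086e5ea7c7c05847e868a4090130594961f91a21aa500107a864e600d0c1f9182805b6b7ccca5a4314906a9584a0930be1810bd213d8a042d4700021ca6aaf55692c1d518428564729b07e0f71d83b5390ad02c04d0b215a28790f620030a350060050a51017a1900200109d0c0084808a0c8090104274242e0bd0f8200c21811c213a0a3146e8491884d5e96314499c778ee42540422ac4ac9972ba541088b8758ec42010422888702ad2bcae9084fd0795741e29420879078a51113927ca800180441f070620440580e1ba099074f80083804f3d,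
  nat_lit 0x200c8e5561392b88dacc8d4ad2350480046c2c048892b28020828d2c8105198041f0000080101e048af1632a42ad39a744640051ba3b03406c0d248b180200200d23a484e2279370a015a398ad94f21056055a31b100a0080157bafd36a2a91858401a310109542fa544616000400c610c145ed006ea89170ec308630d09906716759a7a4cb19117a4f917a2eaf80500e9440222d000bc8d12ea1784f09ea2e45b5e5e2c2d870d32bc575638d361c679672510048b2ba229308a614816d278024575c45e0240582b0580011556c0009949c3b12e1d42504d4535a00400d1aa93528b0cb7aee5ea0bc0700d01c8a6b202d141f80022946c14829d600001d44e30000a786e0f05081a40f55c94a581042185c8bd04e0a52123300600401a26ab07f0fa0f11d84b4828c912d540022f2dc5ed7ab1c3b8c4965169340ba401a25aa01d22c8b40c226006892a6075122230800544a0f11cadc310638c50e65046a4d99ab5b08b40ea23a911a51a3c82584945a06d11544010235d26a16b22b44350,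
  nat_lit 0x160361280324cbd05200892e180cc02a4a148000120f92c82501400298930ac9301aa28c530ad0f29d0732ec5d4ba124de5248054945dcbc179254922f01353113d5081d83c1354dc1bc951532ec925245dc21a5e1d05382d80500491eec07c0ea6600800400246ba8000060e12981f00800260918a992a19e2754011618a0ec1e069634b7d22dd12224b02692d225cc1b27429a441225602a9514870349653121024b11762e2914050140ce99933ad32b8931258204a090d215c9418b1164a1541882006906e21e80d24900090000a40b82480321ed378010008fede0003f00248012937000ab87e4fe2c41e03e4ca2ad3f8b403a9180da4b47d6e48c55431a4d0540b015a4c4a20f5320ab0b01683d04847d6d03005c6b28f0da1b12b23db623e4aa8f04610d1d82801a3d5a05988b1695a48eed60200681b03c5a4b323ab52392b48e452925459ca3a8664c61300f81a8349205381a11c800004002d200c0123a094a6833a38b425c46e0a000008e630d38e41d6d9a438e240470bf1582b859aca46f67,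
  nat_lit 0x262064988122c5590e40de1c4510f91f84e4ad969650591316500026f4e01603b1624c2007269b9378570e81d4b0a60001924beb688aada4bf9100407c110424e6ac82602f0340400600900697f209b8c799a60c99c008004bd8f4bc97c038064c00152f25dc701b4d05d4a80044ba9731a978a50af15c6b8ed3402bca00372802c62bc058084ba9731896c00a5b0480129a5c54287b1362b85833135cc483a8074b78b0005344c28e51e9712d6292d0014b2084b25145509851a2644dae42e20400713728a9671200803a5b01e5c0b69494b1884ae5244a28a518b192be1c002582a24bd5e618010944ac300d6954fc004068432426b8e91a3c28000169cd682cf59828f08958072575ec634212680c61913a31f3e4c6929e0d298072aeb2cab2c629694b04350698594dc16c040054a5812ccb5d2b8104aa94c02251c00be5e66a8cf19a002942fea30522c713ea2c00a4fbf00100a0ec8c9a6394bfafa00001a6b590b1d62128be24e00c93d771851742e5943326423b9540f149b7b29e4fc778f1498e9,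
  nat_lit 0x132273062ad45a0354c9955161dc2da734c758]
theorem S0_c : blocks (facts 10 4 14 24 1023 16383 16777215 11 2047 9 511 A R 32) 32 JS0 556 = true := by decide +kernel
theorem S0 : On (Step.{u} rels LW par A) 556 1196 :=
  steps_of_blocks hpar hR S0_c (by decide +kernel)
theorem D0_c : allB (defOK 10 14 24 1023 16777215 554 A K) 3 2 = true := by decide +kernel
theorem D0 : On (fun r => defOK par.W par.WL par.E par.mW par.mE 554 A K r = true) 256 640 :=
  On.of_allB D0_c
noncomputable def JW0 : List ℕ := [nat_lit 0x6d14374494174ce7207234b54957214b14b76e14633ed4534064e04ad73946a6e73e94616c273b7164e347d6f56cc4212856306fb2b12802a14816427096f26d64754cf7254d04c148b7244bd4bf7294403bf4447044e84c47456f64af72f4d372b46d3ad41c68c7147314d57067474c84eb7374506ae4546d073d4b94e56e04e14c34e646b73a4d973e7436f46fc41b7087497264ed7284e94d74ee72a7464c774a4f24fc74e4fa73673c4f074074274875074c7594fd7524f5758500502504,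
  nat_lit 0x6663a349a7136684a449f4a60dd25b6c16b207121b42743d2843a639b3a528a6312a92ab27734522d34a39e66f28f2b266b2a03933673f547f6f93bb27229d1fb35029429629a63e47c6f34786ee3102ed44c2dd2ce60044e1e148a70b48848d42b44143b6e32885c068323158a5c66855c270542d4854326f747e4133b56a84ae4ab71d6e946c40342228958067b5ae5485926795aa68d3c33cb3c570271549d4a067e71e4bb72d7074776d84316c44516d245c03f5566ad3e72745fe3f73f9,
  nat_lit 0x54911211010b1c45931c61c83b73b93af6815b42281975b91cc20620820a6873c23bd3c166466e6892ac68b6603c965c7033ef6f03f067f3b83ab3b36e84763cf6ea0c41eb45862832c14744a61c03e50703c04112f5571341375085ff30a30f3f43f36ab3e16c54363c74140fd3336c94001f11696cf43f49470a70f49669a71f4b24a34094626d46da5143076a33d13313216a53d340740a3fd6b766a4a871970c68a67471b4996be6e647a6de2d83173e469f58c32369c6a16c341942940d,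
  nat_lit 0x66929c38736b5bb22922a1cb1f61f55a31ab65129737436935228c64129260e5d86112bd31131b30d6952ea2ec2355e633028d6172e42d92da2d55e52cf59a6775de3136013142c851826254c5d11d95991dc1de3843a748771165049048e4922375c123c2382151d15bf23220c5bd12322e58b1ae56815e5a05c71fd2455da2ee5e827b56623e21824042a42c3d74701b95986bb26b0625dc6bd2b96a93f23cd3da5702556b13fa64656e6b540419a58113b0a32140e55b121620d0a15a8212,
  nat_lit 0xfc0fe5430e132d3322615ce1f01ee59f07516416810f16a69b3dc3d53d951506506e0692c33065fa30827e3206086046863ee3eb6a740840b3b140e5f23162fb31858d18f1b406a5ec32260a5fc3b63dd3e23de2703251336936bf4184116b866739524b38f0dc0da0de0d825925a5a625c58233537c3fe07007251707656021a5b321c1e82276546cb39639866d39c28b38938365f5c95bc24c1d35ba2d25e12d12766753a86722783440f162d39f3a23a067127d22537164f19b257663363,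
  nat_lit 0x17256f5461755831071990fb12b55b13c1395390e45360e309e0a00470a465311337635f08f1161141181c53045f826f56715516215d5b522422210c5322265b71670ea19357f54a1cd1ce5885952011a72041f920e2075ad21066539437339127966136538d3853881f338a27114367d1b01bf2c668f6243532f76916200c50c60c10c81e91ea5901ec56207333b34216d1ef2e26261031461050d72bb52262333e25853457c3365275065240a612e0f755513053e5590f90b1509048042045,
  nat_lit 0x9f25364d36160f32459c60c2e931a1b26022eb2f333c61e2d72db21f2911e459b5641e631230331c1b625e2fe2fc5f751907e07c0790b911711e11c1d82c72cc07a27c2d31db5e32362565cd5ca17a1d05971d45a11f40ad1a35c82522471831f71af1fe1575db2032c01ac5ed2f05ea2c519e23f2425c554f1261241216523056975d25862ef6992491b81ba58f1bc25f26323b5d506306450e0662c25dd2212be18d2f15f52ca1415d926d2b657117817117617325435635464717935c35a,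
  nat_lit 0xbe52f0bb0c31be1bb12d1c056314b14e53016c16e56b14c09852308909a31f07f3401e30d45350cf09d19119219411b19055857b0bd0810ae0aa5295871a60a91a51020ff54553a5260f65410f416516f56d14808051b06d08227f2f61515ee31e2ff6063005f32f818b5f018c18e5795120d50db0d30e82002025745a42ba33461b61856114a55e0cc6572e038037e52052e37a37820f2652695d753f0ed0f208524f1cf64464953818135864b65652a65936d51c2e165b36f1531a11601a9,
  nat_lit 0x5250d04f05504c05050b04a52109609409251d05108a0862e82f25102f40b80af0b352d17b18017c57354e12855153c18612718818524e26425126605305c05e06005650c05a05809910610810112a1295530ee18755a14557719f1a019d58508e51a51f08c1e53021d71c315215415a1580eb0ec0e709114014255d13f2d62f917f3385330c70d00ca04d52b0b40b7]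
theorem W0_c : blocks (rows 10 4 14 24 1023 16383 16777215 12 4095 48 A 1196 280 cols 32) 32 JW0 0 = true := by decide +kernel
theorem W0 : On (Row.{u} rels LW par A 1196 280 cols) 0 288 :=
  rows_of_blocks hpar (by decide) hcols W0_c (by decide +kernel)
theorem idx : Idx.{u} rels [[0], [2], [4], [6]] [[0], [2], [4]] 280 :=
  idx_of_cert hpar hR (K := K) (by decide +kernel) (T := 554) (T' := 640) (by decide) D0
    (subs := [1,3,5]) (by decide +kernel) (T1 := 556) (by decide) (N := 1196) S0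
    (by decide) (n' := 288) (by decide) W0 (by decide +kernel) (by decide +kernel)
end T0
theorem b0 : Bound.{u} rels [[0], [2], [4], [6]] 3265920 := .of_idx T0.idx b1 (by decide)
theorem bound : Bound.{u} rels (sg 4) 3265920 := b0
theorem hrel0_0 : lall (rels) (fun r => C.eqW r []) = true := by decide +kernel
theorem hrel0 : lall (rels) (fun r => C.eqW r []) = true := hrel0_0
theorem hrel : ∀ r ∈ rels, ev C.g r = 1 := CA.H22Link.rels_of hC hrel0
theorem low3 : Low (C.grp (sg 1)) 3 [3] :=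
  low_clo hC hlk 3 (by decide) [0,0] (m := 3) (CA.H22Link.sg_le _ (j := 0) (by decide)) (by decide +kernel) (by decide +kernel) (low_nil C) (by decide)
theorem low2 : Low (C.grp (sg 2)) 48 [2,3] :=
  low_clo hC hlk 2 (by decide) [2,0,2,0,2,0,2] (m := 16) (CA.H22Link.sg_le _ (j := 1) (by decide)) (by decide +kernel) (by decide +kernel) low3 (by decide)
theorem low1 : Low (C.grp (sg 3)) 11664 [1,2,3] :=
  low_clo hC hlk 1 (by decide) [4,2,0,2,4,2,0,2,4,2,0,2,4,0,2,0,4,2,0] (m := 243) (CA.H22Link.sg_le _ (j := 2) (by decide)) (by decide +kernel) (by decide +kernel) low2 (by decide)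
theorem low0 : Low (C.grp (sg 4)) 3265920 [0,1,2,3] :=
  low_clo hC hlk 0 (by decide) [6,2,4,0,2,6,2,4,0,6,2,4,2,4,0] (m := 280) (CA.H22Link.sg_le _ (j := 3) (by decide)) (by decide +kernel) (by decide +kernel) low1 (by decide)
theorem cb : Nat.card (C.grp gens) = 3265920 ∧ IsBase (C.grp gens) [0,1,2,3] := CA.H22Link.card_base bound hrel low0
theorem card : Nat.card (C.grp gens) = 3265920 := cb.1
theorem all_mem {w : Word} (hw : ∀ a ∈ w, a < 8) : C.ev w ∈ C.grp gens := CA.H22Link.sg_mem _ (k := 4) hw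
def V_t0 : Net := [(nat_lit 0x5114014451055000501140004101005555111444040104451505154415040105154000400550110541051415551154145455044045001141041150440505104414144000000051140144510550005011400041010055551114440401044515051544150401051540004005501105410514155511541454550440450011410411504405051044141440000000511401445105500050114000410100555511144404010445150515441504010515400040055011054105141555115414545504404500114104115044050510441414400000005114014451055000501140004101005555111444040104451505154415040105154000400550110541051415551154145455044045001141041150440505104414144000000, nat_lit 1),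
  (nat_lit 0x3302023322012213323210113031212002321201301303023022230010131202220210001001331123100010032012213300323121032030210223330001001111320220010033022233220122133232101130312120023212013013030230222300101312022202100010313311231000100320122133003231210320302102233300010011113202200100330212332201221332321011303121200232120130130302302223001013120222021000100133112310001003201221330032312103203021022333000100111132022001003302023322012213323210113031212002321201301303023022230010131202220210001001331123100010032012213300323121032030210223330001001111320220010, nat_lit 2),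
  (nat_lit 0x6010c0a0209080a0b0d09090304060e0c0609090f0e0c0703050903000204060b0a0202080d0e060d0102050e0207070a04060704030905070309060409030101080209040506000d0b0208080a0a0d0000020c06060d0f09090606050e0a0d000a01020d0e0b0a020b01040e0f0c00020c07020f0e0a040e060d0b080c060b080e0d010a0900000a000d0c0e0804020a080002020d01080b0c0606040e00010707050f020c000a080a0d0f020b030a0005070e05080a0c0f0a0706020c06060d0b090c060b09070c010b0909080a000d0c0e00050b0b000103020401080a050707040709080706050702050802090b050e03020a0a000d0e060c080b040f0306060b04070e0d0a000c0e0200060d090200010803080504, nat_lit 4),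
  (nat_lit 0x6900bd00bb0062001e00c2009d009d003f008800840055000d00a400dc006700dc0009005d006200a800aa001300b9001c004d00bf00e90027003900f100ea001000a30047006a00b000b40075009b0054009100930021008d000300d30085002200c9007a00da00830052007600b6002c008a003c001a004f0038007f00ac003d006800fa0095003d0050007800bd00bb00f2001f0052000d009c00bf008000850054001900b4005500ef004c0090004d006200310032008a00b0009500c000b6007800ab0030007c00eb0099002a004600f20038003c0064009a00c5009800120028009d0002005a009000ab00d900730052008b0053006600270034009200b5000b00cb00b100f6002100b50064007b009c003500d0, nat_lit 8),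
  (nat_lit 0x267000006ab700003ac40000e54000006c9e0000905800005bdc0000628300006b950000e7aa0000d08a0000ed440000c1a50000dd2d00009ca80000851b00005bc200003030000015900000100b0000a0bc00003a70000022a6000083d20000491d0000d212000005c800006f1e0000bb4b0000dd1b0000849f000024c500007984000023c200003f990000b8ec0000f0be0000bd5000006a540000f21600008fc80000415000007116000070110000ed320000de0e00006649000042a1000056b500000fad000019020000c14b000031b00000999c000017020000baac0000bdf00000a02300009c4f0000458000005c17000093540000e0870000b0d30000d28e000016920000aec80000fb150000204b0000b000, nat_lit 16),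
  (nat_lit 0x561cb36300000000df7060e9000000007be14ea500000000e7a040a30000000054c4a6fc00000000f319f3a9000000007e91e913000000003a3020f50000000005e4b1c900000000082f753a0000000019ccb31c000000004b8d41ae00000000de70c89500000000e633312400000000c4bd974400000000666009f1000000007540963100000000e806583100000000f21c9bf6000000007022b5b20000000011838aa7000000008b3a126100000000323e4723000000007d0d496000000000448c394300000000aa0db8760000000045b0ee580000000037118cc00000000030943707000000002d47776a00000000d077250400000000b2e704a400000000862022db000000008b450a7f00000000a6470400, nat_lit 32),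
  (nat_lit 0x5dd0263a5039261f000000000000000016028d8c381047100000000000000000e4c6c9caa03e66370000000000000000da530c145576c2830000000000000000af89d5d2897babc90000000000000000897f12f3a4e288120000000000000000a0b23c277d6370df00000000000000008652e9d796c83616000000000000000082514e0c232eaf130000000000000000a3aec305fd4f61680000000000000000a5055d09a9fc77910000000000000000a4cd77d8f4ec5b980000000000000000559e8d1103113e910000000000000000ed9df40367583b3200000000000000000ace069c1a10e20000000000000000005f31280f97c1923500000000000000007f6dd95c41104708, nat_lit 64),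
  (nat_lit 0x712c12093a2470c5000000000000000000000000000000008f57ea6faa8c62af425ef08494fb35bc00000000000000000000000000000000562a72241617f38f88048d00ae0cd3b0000000000000000000000000000000009ed2c40c6d5208f183bb00e1d8407dae00000000000000000000000000000000670f5d2038753106fd4cf9c1684c46ab00000000000000000000000000000000d73a8a4be0acc2314af959f59062885e000000000000000000000000000000006c7488e22cfb376a24704043c0198da5000000000000000000000000000000008085e66bf68208419650241c0b2084a800000000000000000000000000000000234145e337f097943042108400084708, nat_lit 128),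
  (nat_lit 0x918fa8448c9258afd95eb80022e91b2bb66d5e328a5a12d98a00840583202b020000000000000000000000000000000000000000000000000000000000000000c4835817d425cb94033d7b01d855a62d68f6838b5d30b2f10e40c6584d0ae131000000000000000000000000000000000000000000000000000000000000000080341508c0058a117b392a6002f91aaf8546358361e10120406a21198061038400000000000000000000000000000000000000000000000000000000000000001216a4002201121082b3c3a4b98ae09fd04942ead20200911062002002080420, nat_lit 256),
  (nat_lit 0x17b08b0763631408005b830d95200991b5346a9184280e1130200c54402cdf6f513f423b21049f75b6d20ccf7a59109bc57157e8fc81eedf26262dfab4220480000000000000000000000000000000000000000000000000000000000000000000000000000000000000000000000000000000000000000000000000000000000504030022302103c8a4b402018f00840941fe00008c0400002218008502204c4068108b48152314b3951d11ae9e05f7526e2166b19b5d36018013241420042, nat_lit 512),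
  (nat_lit 0x110d015224490a002730705a4002a150424c0880084430400004480426019281261404a080ca110a203184884bd0888000720302e010504020c023a9802800016244b0e00420408188c108a1107808401d42a1000220c007020100000045245e11a00186114327596810c9f7ec8195ff77073667db2afe2262a2bcc2604561, nat_lit 1024),
  (nat_lit 0x10a4daecb4cfe9befff7877afbfbaffb326aa3bc82624643, nat_lit 2048),
  (nat_lit 0x2412802044090ad2d1866288d08e39122a82ac80224201, nat_lit 1024),
  (nat_lit 0x730081322008400081e078f14042a9004b0808800260b041020440042640b48317a401221189025364014c61c0090a9c955671c15004097200c2a7aac24320000000000000000000000000000000000000000000000000000000000000000000000000000000000000000000000000000000000000000000000000000000000000000000000000000000000000000000000000000000000000000000000000000000000000000000005284804ac824898602402aa9a1922068011000420042, nat_lit 512),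
  (nat_lit 0x160dc905a4863be6d92ef8003ec38bb1f2dc4312025216588002848d8204a2020000000000000000000000000000000000000000000000000000000000000000c6035c317025e31580004240c0352a3c02b49a034401a285560265484d222131000000000000000000000000000000000000000000000000000000000000000001340500e08200007330035400f380c1b8d22ce1c9811001002a201a082223040000000000000000000000000000000000000000000000000000000000000000000000000000000000a0c0ecb0c200b21021002ad30080d11022002002000600, nat_lit 256),
  (nat_lit 0x304aeb2092a52531000000000000000000000000000000009ed2e3c28a8c602f0b18f08496f96dbe00000000000000000000000000000000720819261207f18e88248d008f08133a000000000000000000000000000000005cd0840fe802ba61c3ba22b190473d2e0000000000000000000000000000000048475c25587d39165c04f780484acaab00000000000000000000000000000000d1b213494109024005d14086145b8a5e00000000000000000000000000000000204485e2c83b75000070a04241090b350000000000000000000000000000000012680668130000519212200803404408000000000000000000000000000000002cd18100218106010000000000000000,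 nat_lit 128),
  (nat_lit 0x996278a1e8563e8d00000000000000000c248d8ca8126c850000000000000000cc7f08e03962b293000000000000000048792a805136418a00000000000000008e7d79cbe4c88998000000000000000000450b5120200e1600000000000000004368ae02e16836490000000000000000ed5f2147160ea6780000000000000000211b573d3366074000000000000000004aacb120c49a32e10000000000000000ac051c2a29f9f59100000000000000001c1de28dcf7381d800000000000000005190ad0123119c810000000000000000ae924a3a675afc57000000000000000005c6049c086282800000000000000000f982526d1c01136e00000000000000003020708400804408, nat_lit 64),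
  (nat_lit 0x56c6428c000000004e14616f0000000000b360a7000000007a0a0ad90000000054c6af7c000000004abce6c500000000f3dd9bd2000000001c442a390000000004729349000000008ccbed5b000000003135023a000000005c983f8a000000000480c614000000002760238400000000d5b400300000000085e092fa00000000d4da18fe00000000c80e511100000000f182ba0300000000b01258b1000000007dab13e100000000803400c1000000003a5c9669000000000c361a72000000007b14f95800000000ecde666a000000006512cc0800000000011403e000000000728208a500000000e4920340000000009274258c000000008464077a0000000022f032f100000000401a81680000000000000000, nat_lit 32),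
  (nat_lit 0x273a0000c20800000044000093c4000067af0000c46e00005eb00000638d0000aab40000afdc000043d200009c1a0000f3b500007872000014a70000899700003d190000301000005cf000000c7b0000aaa9000078e200008ab000009e3800000a0900004c11000005c900008a3e0000a7240000adfb00003fab000006d60000e6100000859800000a910000b8ae0000581c00009e5400000859000061270000c26a000054b000007490000030a000002c400000555e0000960a00007d39000073fe0000162200009b9e0000a000000031900000de6c000091630000bda90000e763000084b100008c3c00008c84000041950000135c00000436000030a5000022f70000bc23000005560000e5950000830100000000, nat_lit 16),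
  (nat_lit 0x6900da00bb002a009c004200ce002200b7001e00d6006c00470075007500600024000900510045004800aa00b70089005c00de004a003900b80027001f0084001700a10086006a004c003c002d009b005e00cb00b700a8001b00550062004900790077006e0030000300d7005000ce002c00a2009d0040005500c5003a002400a80090008c001200380008007800cb00bb00a300050052004f00220027009e00c2006d00d700fc007100f900a500900059005d00c9003b00af00890044005b004a00a0002000ae0097008900160028001e007200c5003c002d0082004600cb00260038009a005000e300480078007b006f00b0008b0057004100ce00350032008d0041004800cc00b20025003100980011009200310000, nat_lit 8),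
  (nat_lit 0x6030b0a010d04070b0e01090107050e040e0901080e08000f0f090208020006020203020c0c0a070f0703010f060605080c060c0c020d0006040806090809070708020d040106020b03080c050f0a0f0100000f0c060d0e090101060800060f090a010b090f0a02030b05050a0e0f060a08060e0f05010d0f0d0d0304080f0d080e0009000f06000a0c0d080e0a030309040c0702070108090e0c060c060101000700000606010b000a090f0a0b020a040c0b0e0e0f0a080e0f070508050e0c040b0c000705080e0009010f07000a0c0d080e020203000c0406020708080807040f04070808010601010607080a01020107030a0b0a040c020607060a000e06070c090507050c0b0c010705000f080100060e0802040500, nat_lit 4),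
  (nat_lit 0x1100231102233213303010302122120020022213001201011232230200130003320010201211331313302001032030031130020001221200221310200133200301230212100011002311022332133030101021221200200222130012010112322302001300033200102012113313133020010320200311300200012212002213102001332003012302121000110023110223321330301010212212002002221300120101123223020013000332001020121133131330200103202003113002000122120022131020013320030123021210001100231102231213303010102122120020022213001201011232230200130003320010201211331313202001032020031130020001221200221310200133200301230212100, nat_lit 2),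
  (nat_lit 0x5114445451455054411000411004505455014454540140050404004414440004114400400111100500051414514114055100445015110001041550505554100104044014000051144454514550544110004110045054550144545401400504040044144400041144004001111005000514145141140551004450151100010415505055541001040440140000511444545145505441100041100450545501445454014005040400441444000411440040011110050005141451411405510044501511000104155050555410010404401400005114445451455054411000411004505455014454540140050404004414440004114400400111100500051414514114055100445015110001041550505554100104044014000, nat_lit 1)]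
def V_t1 : Net := [(nat_lit 0x4151104150101541004540054500105155111400515054011511114115414004114140054041405010014150000014400510505510105510110001040055511014144401104045514140541011015401111440010441551014401050144401005000440115540141441504410055105011540114505005044545100041145410054100401004011551014140014010410510151104455501140404454511000151545044111110104541411111414415041101011040515004054011051054451000551515004054000551511410010110445115100104104401044451451500044055111414551144445011040041544114111044511540000110445100404451050010544511041454154401441145411054444111104, nat_lit 1),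
  (nat_lit 0x13333322210020321013331332330301201311123213203030011200220033300100122003021331300332223132231002222113022312323300210032003211032332321000002113020112120332133113331200212100000320102333011313003203010222313221212312331021000023002332322123021120303311212333131133122101103231223330130321222332313121231023200303112031330020132232020001323201122220202032331321010130002111002223231100031130130133122220230321303032010032121112312223121023103133322203220000201123202111303013313031330210102132022011200112001000333230222211020210323103232000323212121123213232, nat_lit 2),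
  (nat_lit 0x60f0f060b020103020c0b0e090e0c0703040d01080f0a0405010a05080006050707000d0d0e00080f0204090d020c080c0907030104080b0c080a0e090a0f060004030407080205040f0202030a0e0702040109030c0600040406010d0807040102080b0e05020103090b0f07040a0205080b0402000b060209020406060406000a000b0508080b000d0a0901080f02060a030b0e070508060e0607090c0a030c040e0b000b0a000b000f07070f06060d04050305080800000c0e080c00050d020d08040f0d0d0a0d080701020c01080408030b0e0b0d090707060f0407090f08040d0a0102000c0f070a02090e0e0b0105050d020d0f0708050001070f0e08060004060d01000c070107070a03030b0e0b020d0104030d, nat_lit 4),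
  (nat_lit 0xef000500be00b900a100cc001a007300a900c200ae00d9007700b10071006100b6001100a6003c002400e600ee009e004100e900db000c0041009a0004009000ab0093006e00f1007f00c7007500a900af001000b1000e00ee00a100ec0011001f00ab008300e5007d008a000100c400cb001a004500b700fd002500e100500048007b003000730006003c006200d2009300b7006b002900240099005c00fe0004004a00ff00f3003b0050005400830071002200100014002d0096006e003e003a005b004700e2009e005900be007800300062008f00730024001f007b00570042006f00a7002a006b00b900e100bf006a00d4005f0032008700370049007800e1004800d50082001800f7006a00d7002100c30047007c, nat_lit 8),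
  (nat_lit 0x802c000097060000d74a0000794600008e700000758400007eb60000e57500005678000002160000fa900000710c000055140000b1f0000052ae0000806f00007e860000b4c000002380000099000000c0b60000f12e0000883a0000bb740000f42b000010820000b3600000104e0000e0d6000062c000002b3500004e6900006dd90000dde5000020b70000ea960000dce60000aa990000a8c70000ed060000a4ad00005bf50000ce220000ecb700008dea0000a0ff0000578c000074e70000bc2c000009b50000236300009aba0000c9ee00000abf0000e9000000f3ec0000f0320000f7a8000095630000f45300008b740000efd900008c310000b81e0000cf300000c41b0000103000000e9100002d6400003f0c, nat_lit 16),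
  (nat_lit 0xf32000f2000000001a04dfa9000000005e2e9efb00000000193b06f600000000c63faacf00000000204998e400000000c6a821cc000000004b51fc6600000000580521ad00000000254bf45900000000a818781700000000cd3b805b00000000866ef873000000000ceccd8a00000000ace263b6000000009278dc4c0000000060aa90f300000000dd6903df000000007b6811a400000000ec8b45200000000053eb46f600000000deca2a7c000000009318e2e7000000008e31c62000000000140cdae40000000035293cfb00000000c26312ec00000000a88d7b6000000000f68d2c1600000000d391fbd00000000027f098cc0000000051a858a500000000a2e58d2100000000e2fc92bf00000000f5f7ca0d, nat_lit 32),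
  (nat_lit 0x4a459231d8c38a470000000000000000ec0aea8a66e5ea8500000000000000008187f576860d60d40000000000000000dcc8c63f29475bb2000000000000000042016a2cdc8c9d16000000000000000095f787e87e80f914000000000000000092a751b8270f4a830000000000000000697f7bae8ac3287e0000000000000000af5009d7f9f16ac2000000000000000008db747967f328d3000000000000000068f264935062f7aa00000000000000002e2230526b5e67a30000000000000000f011d0246b163122000000000000000013f31fa3883494f600000000000000002c59d0d49c14252c0000000000000000f24e35f9747a14be0000000000000000eed7bd376692238c, nat_lit 64),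
  (nat_lit 0xbe9a61f508d1082a00000000000000000000000000000000ce8ffde5c35ed27913482e2e78f140c8000000000000000000000000000000005e848dff120b660fbc675fd73ff0477b000000000000000000000000000000004fe57e42b6829b22a151e07d1497c2a6000000000000000000000000000000005d608147cc4c5a1d5277da30320efd7a000000000000000000000000000000002939192d00db71dd11f1bfcdb4e5c51200000000000000000000000000000000158225a72dea84f36cf4d5c19800db71000000000000000000000000000000008656968e9e48352f57dd38fd25cb63460000000000000000000000000000000083e23ff877e91dbf9d20988482162289, nat_lit 128),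
  (nat_lit 0x7037fbf6e955c48c64193cc2c365986391eddddaae27babf47bd755b6a02460d00000000000000000000000000000000000000000000000000000000000000008fe07507a56a284390b4a5c55c1a021e9333387051aca0979a10a220cb00c9bc0000000000000000000000000000000000000000000000000000000000000000201d8001a1310b2a0060c6fca5a00aa06976f6dc14a97cb6128149196c9708020000000000000000000000000000000000000000000000000000000000000000043014a888220843cb08cd503cb551a1830809088c0458947260f884288e2a05, nat_lit 256),
  (nat_lit 0xbee08b852663143134240c001bd5386e120c9c10928e3a88c19a808040924c1740204c192004a34261bc40c35ff2977221ed5f51a864bb72116d2ff9628c598e00000000000000000000000000000000000000000000000000000000000000000000000000000000000000000000000000000000000000000000000000000000060d001088104c8a082004400080ab014040990e80c621d06213d018059500400800582d00222022180f86fdc04a868231947114c9729b5426c050804882890d, nat_lit 512),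
  (nat_lit 0xca48021cc8485208006f11ee4886aaae00011a6704fac651840261149c11441100604819291403d8911b4a008203ce00b02004859000a20613482a81664603260ce48981d2b30971ac00ec10b238d193530ca588802c0808370180a045c400064d0814425660b241e45326af3ee4e182b8cfdcfaca7d1ae28119753ee884da98, nat_lit 1024),
  (nat_lit 0xedcf27ddb77ff3f33bcffffeefffdbff37f96d3ee88cf919, nat_lit 2048),
  (nat_lit 0x2cc721513310d0501b08abaaa78a03122531253e600c7018, nat_lit 1024),
  (nat_lit 0xc2848a910220525980260c0212b678250200888e84524208900380004094001700601c1a29440100694e211231d6164209cc539078f43b449161199ae40c791e000000000000000000000000000000000000000000000000000000000000000000000000000000000000000000000000000000000000000000000000000000000000000000000000000000000000000000000000000000000000000000000000000000000000000001830094013b40b220867010e077c35126c86800a0848901, nat_lit 512),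
  (nat_lit 0x342404942071c608340e37e2996441410224d6be2e8c1eaec1a5515d360e10160000000000000000000000000000000000000000000000000000000000000000c4204b13810060413dfee05e2c8ac9181103098ac338800222000200aa00e4940000000000000000000000000000000000000000000000000000000000000000022d000980322ba00046423c8303a8a060d7c052044c4105114949188093004500000000000000000000000000000000000000000000000000000000000000000000000000000000c1800410b404e080230a088c040c11151200600008882000, nat_lit 256),
  (nat_lit 0x2a3038a3ea519a0000000000000000000000000000000000a051ec7cb8410cc41350e6b62f5d9f0000000000000000000000000000000007cc0c32b024b0c0d3c7758d3b7715573000000000000000000000000000000001de77612f44b71200192a4ed90d1ea1600000000000000000000000000000000d64035b6ce6c7007882d96c04b0aa1aa000000000000000000000000000000002753ce0808ae25bda6c9bf588da54a120000000000000000000000000000000012c500b1c57b4512086912498008cd45000000000000000000000000000000003402143a44f431100a00803848e2010500000000000000000000000000000000200a1000220001880000000000000000,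 nat_lit 128),
  (nat_lit 0xbdf351a73511fb120000000000000000e52aed2caa3548bc000000000000000008f74adab73f29f10000000000000000a4b882380c80fe730000000000000000c85a6060bc1025110000000000000000abf06df0a936a06d0000000000000000315551f582997c3e00000000000000006dd453d8b9b074940000000000000000b1098e5691ef14d20000000000000000fd3e71b3128785ad0000000000000000eee021c2c02cf9aa0000000000000000d14dce115ea897bd0000000000000000c11dd63c3953227400000000000000008bbc6638ae122b49000000000000000004a918e444a061100000000000000000de8c2a5b1621e48400000000000000000f18410082122180, nat_lit 64),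
  (nat_lit 0x48898d40000000031a5ad98000000008f480984000000008c559e310000000086552dcb00000000af94b29100000000205cf6e000000000dc00a07a0000000025b6cdd4000000007ea6badc0000000001e86c2800000000fc8f031400000000c3f239f000000000141c95c90000000010122428000000004168f160000000002a7cdcce00000000d7613f0d00000000035e653e0000000039b011be000000008495a604000000001851934000000000202508e9000000005242098a00000000a2edfd7b00000000b044dbf6000000004541839c000000002744a78a000000008f8ab03900000000da4c0c0a00000000d75684ad0000000042f2d736000000000146b59600000000215105230000000000000000, nat_lit 32),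
  (nat_lit 0x2f26000073a70000b556000021bb000039b200000ba20000c8fa00005f650000721f0000396a000054a8000030530000d36a0000eab700009dfb0000ba420000c4630000d8e1000057be0000dcd20000e9e400004d6d00007b490000302900004e9a0000e8630000f9700000069700004ffd000056fa00005cb800001ebc0000a31d000036f400009afa00005a240000e96300004a07000016d1000048ef0000921000008f8200000ab80000283e0000c1ab0000927400004d2100004419000089910000ff6600009d4c0000a2700000cf86000032e00000d97a0000b22a00009afb000096690000497e000068b5000044590000358c00005b410000448200008e800000e7a60000934e0000c45a0000bf8400000000, nat_lit 16),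
  (nat_lit 0xed00dd004400fb00140019007200c0004000c900ed001c00a3009800e900d200010045007a002c0073009d0044008a00a000f300d10098001c001300d30013002a00980072007d000a00ef00c00053009e009300aa006800cc0032005f0084006f006b002f00a2003b002500c1004100c3002600e30002005800e100f600c600b900850022002b0023004d00c600ec0075005e00fc008a0052005d00b000c2005d0023005400eb0071009a00a1008500b3005200e400fd00ab00d6003d00d7003e0083000b00400032008400b5001b006c00b700c600d50024004100db005300be005f00a700260011006e0032007200690026000b008a00f300ca007d002c002a005100ea001700b1006b0028008a0037000500010000, nat_lit 8),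
  (nat_lit 0x20f0c040900030a0a040a0c0106020e09070f0904010c00010a0d080d010605090909020c0904060b0e040d0b08000a060809030f030e0409080103020601030f050f0a0f0e080e04050d0b030902090d00060b0d070005030b0b020806040b0c0f03050a0601010a0504060307060b090f030c080e0901070c060205060d000202040e0a080404040004010f030e0c0f060b0e0d05060208010d0d0b010f00040408010f0a0805090d0f05010c010504000d040103070b0d0f0c0e0301080f0606050e0501010509050e03000507050b0a040e070b0405080a0b0b020e000d0a05080401080e0801040e0909060c000c040c0f04090609020b05090e0d080b000f070a0c03040d010f0b060f080b0c090b080004020000, nat_lit 4),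
  (nat_lit 0x23031111210322002021333021221120021302020211310200001233223223311120101331322302332210113032030222220031321002320013133011211031131121231322031000100322222333220131032331000013330210003211001122221203203302330013211133230100303310321312100122120333012020301002002321302000100231002002210323010023231103312202222331210210210210012100212312300032313332132323032231132131030203112320030313020302300313223121303023011022233231333002031020300100211313131323313312102322301221310031023220002201221023330303312231310201013022013123333202100131332031021230013223300000, nat_lit 2),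
  (nat_lit 0x50154114411504105110400404404115401015401551500504400541011154011414104410410405040545554000001004411150510514140141150500150540511054014400540411404511040115444004405040550441151514005105454011544015044144441044441140450404455440051040500515004110150405150541401145441004454440104145115041000454111400104450044404001545055414054440015005154405541010455041040100054410440510100404405450001004540515000015144454501411500051011150011105101014450454144040140000411550441540000110015440105114005151411405150511541045141404050050110040050500150100050105501050010000, nat_lit 1)]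
def V_t2 : Net := [(nat_lit 0x55014405005051114040005105441501100050555044540415550541151001054500054501400514501111040400050115050140405150514455041555150015100104450010054404101554110101015055010001405454514154455440105514401140415415140541015445541001550004045501044501504001501100540455445510051400004501105501440100505111404401510544154550005040504454141551040515110555405050410140051440111100140005011504015040515050445504555515001514010445011005440414155411010105505501000104145451545445545010511504114145041044504501544554000155001404550104440140400150104054051554551005100000450010, nat_lit 1),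
  (nat_lit 0x21121022210211000210302130232220220011133320322020001110313302100121311332020331000200220122132023332100021123330123230222110222003213233012132132211021330033333323312121200133110223212113023031103301001213010303120120112233321322222122113101323202013231011121101220112010301210121020131232321031232330321101012322311130011322112113123001331210121112102102112012101132323112203233011033102023003322222210133300321222321221130323233321330223322333200303132133312210100000103300321120230001123232100023200203232331300311132332211011132130000000130000201033021012, nat_lit 2),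
  (nat_lit 0xf060807040d0607060804040e0c0500010f0a040b03030b08090d0f0802000e020b0902040d090d080006010c080e030c01010b0a0f0c0408030f0a0108090204000005060e08070b090f000907070005080b01020002000c09080a060e0104030307090c0608070706050f07000702020d000c03040d0a0c0909010503030f01000603020b080b0e05020c01050f08060e0c01070c050c09030a060d020a0c04040409040303060e030f080300060b070b0b0f090701000d0d09000f060e0f040b08010d05060b0803090102090700060c0c020508090c08060a0d06070004020e0409000003040204090e050508040a0e000a0d0d0402080a030f07000d0406070c010d0d010b000006020300010e0701080a010c0404, nat_lit 4),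
  (nat_lit 0xdf00b400e9000000b9004e00ef008c0048004a003f00630040001f0012004e003a006d009b0084007e0060007a001d00e40022003f0010001e0057004b00e3004600ec00d000bc00d900510087000d00160065004600f10004005a007a0031004700ec006200de00f400260050001000670033007d0090007300b20076007a00f600e8006500970028007100b300580085000a0062008700d100ad0078004a007c006000c600c9003e00ac006100c000f5007c005e004e00c00052006e00230093006600d3000c00aa006000ed0052003200790040004400cd00b200ff00110020000f0002002e008b00da006300d9006e00a3000800760085007800da0008002c00350070001300160030003000ef000500b6001f0010, nat_lit 8),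
  (nat_lit 0x8866000028c00000b5da000043e100000687000019c70000bba300005af0000003330000796700000ddb0000f78e0000f2740000555600009b810000af3b0000d97a000030c00000c138000071030000ab7f00002ff40000920c0000ece3000090050000b3d1000079090000b40c0000cf5500005e2900002c7b00009151000078ed00006f6600004e7000005f430000e150000052850000d71400003cd10000d73d0000e3bb00002e4d00001cd30000c3aa000060a90000723b0000839c0000bc5700009d2200004354000071f50000852d0000657b00003b94000020af00003a730000643700005fd00000a95f0000871c0000a0e600000c7100003375000072c70000351c0000f34a0000c88900005d36000067a0, nat_lit 16),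
  (nat_lit 0xb1efc012000000003cdba05300000000d84781bb00000000fe7a852a000000005d5cd7d30000000071a2493200000000bdf36827000000008cf9d13b000000001744aaaa00000000ea1a939300000000027bf10700000000e2f5e86700000000448fc64f00000000aa7ff3e0000000001994cba1000000007dc5e62200000000dfe98d2c000000007d42607900000000763d704b0000000071225d4000000000d024521600000000fcea2c5b000000005aa31f77000000000c525d2400000000696abe290000000087c2479a00000000566cdd7d000000008e496c6a0000000058031e3b00000000f3315e7000000000902e4acf00000000f49bb909000000000f34f57b0000000030096fdf000000001b7e8320, nat_lit 32),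
  (nat_lit 0xaf7c82d38bfbbfb60000000000000000cd281457bde84a430000000000000000af8e43a207b2cfbd00000000000000003429841341ec6d6a0000000000000000f3ad6b76cf7ff7580000000000000000cfdf7ee68e82b12b0000000000000000e23005e67b063a62000000000000000007bc865f34f2a743000000000000000099502f57962cfbfb0000000000000000b59bf180ea79a1e200000000000000002b441f09547fbab500000000000000001aa39e91b332024d000000000000000000026307c8048b1000000000000000001def7db65b34cfb70000000000000000cc489ba614e75912000000000000000073bec5ffbdda94ff0000000000000000671d7cdf98043120, nat_lit 64),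
  (nat_lit 0x8f532e1bd75f35ad00000000000000000000000000000000a8895f83f30031b2c7b79b5d13870bce0000000000000000000000000000000088289a6050d4e49f318b861779e6622200000000000000000000000000000000319a5000270bb6601d06350610422a820000000000000000000000000000000088aec5c43d0e6ecaa28d11a405142e530000000000000000000000000000000061774fa769181885e26681136402884100000000000000000000000000000000102c42228f5c76dcf64b8d0c0102151000000000000000000000000000000000828738d62159758509604281240175020000000000000000000000000000000058183312478aa8ab0210000008442800, nat_lit 128),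
  (nat_lit 0x28240800c51651b341b3ac13dce226042015a0722887af03c5c168459a62a0200000000000000000000000000000000000000000000000000000000000000009a6068140d0c5fcc2a9010c0d2022a6111247e804cac0bbb21dc01604023408600000000000000000000000000000000000000000000000000000000000000002d56465f8a3c061dd56cd02a2118a04c4930c825650430a48a0f84411884060200000000000000000000000000000000000000000000000000000000000000008201049e10001228552459c5a42e1642321c020221c44920a020240800001800, nat_lit 256),
  (nat_lit 0x8b284404625466f2f6e923a781ca0203624c0b0221000e0709aa051018015f1458481110020100101242bcf2bd5a21426a037200038b5be0458030003109d8220000000000000000000000000000000000000000000000000000000000000000000000000000000000000000000000000000000000000000000000000000000002014a0288821a88564d4828410006924308100420000018a842044108800c0a0a45055b02040e1c02011c444a0aaa08003c4043a78008acc302288000030600, nat_lit 512),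
  (nat_lit 0x9a000041c045ec9168200ba00600082080c1b092020081b00220541c0224204d8420b584205801223001000911062004800182400883120046c2025100910a002082c002002112aa6712004408a20a0121800820009849121aa208408805d18083816421409063c0946b4fa0e6a0143e301420c430370e12cf3b0600d21f800, nat_lit 1024),
  (nat_lit 0x1d43b8b8cc8e0a41dbbf624fc6c379ade972b8e81d63dd00, nat_lit 2048),
  (nat_lit 0x114388b8000608008a39220f048338056870b0601522d400, nat_lit 1024),
  (nat_lit 0x9280c043c040ba280c020b600aa202202040b0300200c0a018805004002181c407a00120000000413438cb29d5c210223095203038239c060d430041108f82000000000000000000000000000000000000000000000000000000000000000000000000000000000000000000000000000000000000000000000000000000000000000000000000000000000000000000000000000000000000000000000000000000000000000000501180048080200003c0043c24060acc102088008031d00, nat_lit 512),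
  (nat_lit 0x21043401c50741b252b1a912dc66220230b5227238978600d483010202352000000000000000000000000000000000000000000000000000000000000000000827228145c0c49e42cb000c0c24402a019343b0744a1292b055000c04c21400400000000000000000000000000000000000000000000000000000000000000000000475982040414114d10384140a00841345006414020348c4824441000040200000000000000000000000000000000000000000000000000000000000000000000000000000000004018008406024112080002008069008060000808401100, nat_lit 256),
  (nat_lit 0x8d1200088c0b140100000000000000000000000000000000e98b43c272813982c7a7320d1d0143c800000000000000000000000000000000802218605254a09f048ba64668a6032000000000000000000000000000000000314a1400060392001d22353410462a000000000000000000000000000000000090200cc61d0d675f068d11a40d140ec30000000000000000000000000000000061745e0161fc2829e542101760c8ec440000000000000000000000000000000002154206ae445618b00b204401821d00000000000000000000000000000000009201109400c14830012021c02060310800000000000000000000000000000000402822024041280c0000000000000000,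 nat_lit 128),
  (nat_lit 0xf361fed796e7f0a5000000000000000045201855b16540100000000000000000830b29e12329022400000000000000000558e4077ce802420000000000000000af300e20730683380000000000000000689f6617832b80020000000000000000580041151e881eda000000000000000015acb288366266060000000000000000c4142f471d0d4f3c000000000000000086c0c0e24180000e000000000000000029500f2f14a6da9900000000000000000a5fec26a58826c400000000000000000000670b80840f180000000000000000309b1c6d055d3b5f0000000000000000e02946050445080800000000000000001a3174014382a08500000000000000000010000000053020, nat_lit 64),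
  (nat_lit 0x88d195030000000078d7b81300000000ccda011f00000000a00420440000000050449ac10000000040d3441700000000a8f37196000000001a3d582700000000380cce6a00000000cc0ed706000000003967a10600000000d5a628470000000031f9a228000000008a7061880000000018c243b6000000007bc1ac32000000008084d520000000007d460079000000005a267d1b0000000026205d0b00000000709691b5000000001ef8622b000000000b13468700000000026a6f21000000001f1a5d120000000023ba2280000000005e6dc96700000000d2447029000000001573136a000000001f171a3900000000910623cc00000000d5d6a430000000003000b5470000000046242bdb0000000000000000, nat_lit 32),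
  (nat_lit 0x1876000066820000f99e000027b100001b27000048160000e734000078160000064200001d4100007dc30000a3070000dac7000031bf0000704d00004b8c00002c2d000034820000ac51000031530000f93f00002bc800008e150000cc280000b358000011a400002d060000d93600008e2200000f330000785900002c7b000004fb0000376700004039000063630000e9510000528300009a760000e5ff000040f800003d6300006dc800004e51000084400000236900006428000097740000e50000008aa8000068fb0000635400008d2d0000100700002eed0000410500007a170000144d000078e3000085040000894b0000a0b30000490400007261000057d600002a0000003066000085b80000100000000000, nat_lit 16),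
  (nat_lit 0x8a00b500fe000200f8001a00fa00d7001c004b000d00160071004c0064001c006c006d009a00cc007e0027007a001d00c6002b002f005d004f000d000300a2001f00b100c800f10084000d009b006100160038006200dc00790045004e0011006600b80042008200f0001a005000040042003700580084006700b30052001f008300f3004d00960064006900c2007800a500570032008000f500bd007200230011007200d800c4003e00f1006000c000b100590052001900c700500069004b0082001c00f400790099004200c50050002200080014005500fd001700bf0030001100370023004300aa00d300600095006b00220009001300e1002800c2004e000000450044000b00040060003100d0004f00a000410000, nat_lit 8),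
  (nat_lit 0xb030d0300090606060c00050f080500050a0b000b02030e0c08080b0d02010b020f010205080d0d090107040d0d0e020c05000a0f0e0d0409060e0b000b090305010600020a08070b0c0e0009030205070d0b01060103050d0c0b0a040e0004020107090c0708060503000a02010307060c050d0206080b0c0d08040402070b01040302030a0d0e0a04060800000a08070f0c01060c010808070b060c070b090404040d040706070e030b080300020a020b0a0e0d030001080809000c070b0b040b08040d01010e090109030408050206080c0200080d0d0d030e0c04060401020b05080100000107010c0e04070c000e0e040e090900030d0a070a06040905070509010809010a000300020205020f0605080905080000, nat_lit 4),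
  (nat_lit 0x21121123310210000200101030232321221011132330223121101110312312001130200333120330100210331012022023222100131133320123230222100322013213223010123033310021220133332213203121200133110222202013023031102301001213010203120121112223321233020122113000323203013220110120001220003000310211100021020233220121233311031100102222211130010232102002133100330300120110102102103012101032321103212233011022102033102323222210123300321222321021130323233331230232220233201203133132312311100000103300321120230001102323100022201203232311101301132332201011133121010000130000201033021010, nat_lit 2),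
  (nat_lit 0x55014405005051104040015104441501100050555044540415550541151001054500054501400514501110000400050015050140405150514455041555150015100104450010054404101554110001015055000001405454514154455440105514401140415415140541015445541001540004045500044501504001501140540555545510051400004501105501440100505110404400510444154550005040504454141551040515110555405050410140051440111004140005001504015040515050445504555515001514010445011005440414155411000105505500000104145451545445545010511504114145041044504501544554000154001404550004440140400150100054041544551005100000450010, nat_lit 1)]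
def V_t3 : Net := [(nat_lit 0x1414054055541404144550144144041040154051414111004444511155110404010110101044515440501415051054411110405045044515515444451110010011540404411010101541105055511550100040511044054044444544145005404141501041400500101414154151144540145050051044555505505050454401111044515151010040010010101454505144111054105045101441055104114011544105151114510501544000401010144450154410555405505041140000540501411151551445110411011055040041101410054114004545554010011141555154545554455544555014454140001540050010141015401110050055501001104145150110515441440441104455515401004001001, nat_lit 1),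
  (nat_lit 0x32033332330011322113030310302030320311221223301300213131312300313021003003203112300233201120200222202303133303132132230212122323212031120320301213200020100200103311202101122300322313220232001113313103003230210030313012322011130033101130101333321232320001313130212213330323311211003313101210022002101303203022331133121121132201310131233220310112213131303302021003332231122100202232123033133102031211233101333302322332020031310033011001121032201130303230130121023200130101222010301211222132113120311213131200102013233021332103133233110203322232131313123020120100, nat_lit 2),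
  (nat_lit 0x6010c0f0b020b050d0d080e0701080601000c0b0307050d03010b040302020d0b080d0d02010006010806070f0a0c0d06090c05000601010f070f0304070a0e0a060b07050f070c090c0105080c0a0f07020501080503060c0a06050d0d02090f04020908010b02050a070408010a040403010b0e030e020d0704050a09090e0c0b0b030400050105010b0e090102030e0804080b050d0d04010b0d020d0f09050b040a0901090209060d0903040d0b060b040502000e0a0f0c0607000c07000a0d0402010b00090501000e080d0d02090f0e010308070b0c0500080e080402090d070a0f02020b0c00000704050b06040d030401090400010d030600070901080c030b0404030e0c04000c0b0f060a0403060f0f0f0104, nat_lit 4),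
  (nat_lit 0xb1002500ee00e60097007c00c2001e00d100d100f80080009b0034003300b100fc00b1004600da00490008005c00dc008700e2003600c6001200f400c300890094005e005300c900d2009b00d90081009f00b700eb006d00b300b60042002600f3008600e000b400a10027009f00e7008c001f00c0009c00be001d002c00e20083001f00c8008b00540036003300430040009c00ab00af00d1009c008d00d200ef0024002c00fb0010001000fe00a500b400f900440099005400c1000d00710005004400cb00c400bf0023006e0041008b002000a100ca00b20050008d009000ef008200f400ea0062000b008b000900b500d90001003f00b6000600c7000f0021006a0084007200b100370041007c00cf00fe00760030, nat_lit 8),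
  (nat_lit 0xc7e80000f81e0000e4fe000091110000e3020000484a0000788b00001af40000d8b70000794e00003d28000093ce000046fa0000409a0000ce1a00006e440000156f000022100000cd0e00009926000065380000e2a00000e5d3000025c30000e14f00000052000020e6000055fc0000a1e0000027350000c7a8000048f30000ab9b0000f64b0000262d0000c0a300003a88000008200000ca6f000075a70000bdbb000006b700003a530000192100006a43000082a300009b9a000029fc000055f10000348f00008a2a0000d83500003088000094c200006d1f000046b60000bd770000fd4a00003a600000fe990000d33600004df00000a48e00003ed60000d2ce000099fd0000fe660000eed10000b4690000cf80, nat_lit 16),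
  (nat_lit 0xe53fb880000000062bbf4b80000000049c0be1900000000725d9d3d000000009334d1cc000000001ddc0c6d00000000c6467fdf00000000a8c9c4d400000000c54cd63400000000f81e189e0000000021754af8000000005890be180000000057189b9600000000c8bdc1810000000066f8b6d3000000009105604d00000000af36b09f00000000d5e862900000000029eb731300000000b3b0584a00000000da14e0e300000000255e57550000000052e6a25f000000000bea44cd00000000eb103119000000003dc169d600000000a0861aaf000000007990c1d300000000bec4fb6e00000000dba5f47200000000c942630800000000b5fc6ea10000000073fa0d5200000000bc98057500000000b17f4800, nat_lit 32),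
  (nat_lit 0xc0011860dffb84af0000000000000000bd0090ba975772df000000000000000052152bf3fbac43140000000000000000911020cd00048427000000000000000088a2277f10ff0fb70000000000000000e3f70c0db0333d170000000000000000ff5b07e025502a3c000000000000000039fec00fb73edf8800000000000000001346a419ad5f64650000000000000000590ba76a41763dd5000000000000000087652638e394616500000000000000002e34f59ab7bcab0a00000000000000008d475aab41b941be00000000000000009207f6046481a9eb0000000000000000647f11ea086ae2180000000000000000dd93b00576cc9fe700000000000000004b2c31bd812b4000, nat_lit 64),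
  (nat_lit 0x1cd984c471d0ddfd00000000000000000000000000000000c1e89a8bfdad130289d471888ef26a4f000000000000000000000000000000002e4e84e9431c93d0927b5824055d442a000000000000000000000000000000005c04a30b5cc0a2d02931db41c16b06b700000000000000000000000000000000c05c6079110a2465c4933aaf125a0f140000000000000000000000000000000042e182120f0761f601ba38f5155f424b00000000000000000000000000000000c36ed063610fc55071c7a6bb3049c4340000000000000000000000000000000025ee4454f3813822453a0288002e20920000000000000000000000000000000040f962c4ce01bef44080048081084000, nat_lit 128),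
  (nat_lit 0x40823ae21b1d820016f7912eb0610df7f3a24cb0af4a3930ba25498d8fda07df00000000000000000000000000000000000000000000000000000000000000001cc402084403247624a055a0c1796191008481229194d22508880eaf17bab5080000000000000000000000000000000000000000000000000000000000000000a6260a3a4208253ca91b3c521876889606e42cc15d23102340248082001980510000000000000000000000000000000000000000000000000000000000000000a400080120008010048044002a95d69640068310710120c24022920205a21002, nat_lit 256),
  (nat_lit 0x106e21e9430c0144049240ac04034f02160460304b354a8a220000388180ad1c24444a0141c88053a5f61422e405c8c6f7a0ae6660da49938826caa8be5386cd00000000000000000000000000000000000000000000000000000000000000000000000000000000000000000000000000000000000000000000000000000000805601ab00180421848004151e5080804246005130a4900040123002010060482421480921800208189ae8026a2b1886c1a6008000034c004000840d8b018040, nat_lit 512),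
  (nat_lit 0x640008e00082549e81a0e00c4103000000282023206282001501ae901894890024120901690182a020400050012896072044e004901423408202009411008150804181009205200002460000000a3246288000008508c20a02100001002144a849090840800010c5b37522a41b85dc74a4ad862449ab9481169ce1baf87a0c, nat_lit 1024),
  (nat_lit 0xfbebef2e3e6d55d6e4a62fd6fd4bebc3c134866dbfd2ba4e, nat_lit 2048),
  (nat_lit 0xc8684c20126541d684020c92fd4ae24281340268b452aa4c, nat_lit 1024),
  (nat_lit 0x440009201081440c82c0c0000009200400a02003214a000211008c000010002844020041490012acda5920e425e958f38429e4f5da4ad2c12496a81ed932850000000000000000000000000000000000000000000000000000000000000000000000000000000000000000000000000000000000000000000000000000000000000000000000000000000000000000000000000000000000000000000000000000000000000000398a600002290480c0060280c80248010020840d8b008040, nat_lit 512),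
  (nat_lit 0x6a29e103bd03119d97f10e902145dc96a40990fd5a29302224dd2817482bd5000000000000000000000000000000000000000000000000000000000000000008e8000140c384660da84d80407963064402a1c298144145401014a4050238480000000000000000000000000000000000000000000000000000000000000000a403002b6108071901122c06123a1994c7e60c01bda510010026a0a80919600000000000000000000000000000000000000000000000000000000000000000000000000000000000a18204043405549420a60350f10000804020020005801002, nat_lit 256),
  (nat_lit 0x610040631c01f1820000000000000000000000000000000080c81b83ddea010201c4708a8cfa6e0f000000000000000000000000000000002a4ca5e9232c93d0927a9c0c255d6022000000000000000000000000000000001c00830b5c41221321314368c141338300000000000000000000000000000000c0ce6af8010a80614d11268a921b47960000000000000000000000000000000043230e600b9720c3230a90558c4e870f0000000000000000000000000000000001422263b01f0c1060009096394021900000000000000000000000000000000024a8c350410120c001000202006040800000000000000000000000000000000040a42084a80180030000000000000000,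 nat_lit 128),
  (nat_lit 0x59fe6c1f388aa91200000000000000000f04912a0014b35b000000000000000078ef15239e11def20000000000000000b102d40441083c0b00000000000000009200c9a56f4df6db0000000000000000083cb805c4a3b4b40000000000000000370eb7001503017a0000000000000000e0142a4c93990d8b0000000000000000c664ae882c5f882e0000000000000000ac90b8e3a4020e11000000000000000084c50a88e69060610000000000000000c288a83488a284520000000000000000d1434a2b00a954760000000000000000a1c28d357f10cea200000000000000006428208a042ea0120000000000000000007518430e8a3a9a000000000000000000820c0231210000, nat_lit 64),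
  (nat_lit 0xeeda539b000000006674521a0000000070d6fd3d000000006d613270000000008132c00c000000007103930b00000000a828069200000000402a0fcd00000000490c7c2c00000000341f4bee0000000068d169cb00000000eb6585f00000000010b4082300000000e8bf713100000000f3cc6cbc000000000b2fa80200000000409f4c01000000005468069000000000d678337d00000000938645ef00000000af629418000000008400431400000000d0e9032500000000a0c0f5b900000000c179440800000000ee10072400000000c0066a1f000000004c12082a0000000051a4b182000000002630db76000000002d02020800000000cd4012180000000044b0af10000000000002058e0000000000000000, nat_lit 32),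
  (nat_lit 0xe7b8000032480000c1fc0000f4410000b9ca0000251400007f97000021850000409200006ded0000d407000019a4000043b600006a32000065120000606d0000e8c700002a100000147a0000971a00003d2f0000ad300000642600008ba60000c8480000910d0000a1730000ff49000020460000f78200005b1b00003a15000092e20000d3030000ef0100003429000026210000c4c000000f0d00000fc200006c890000f4d000006e240000151500006cc200009ec3000018bb00008d4e0000ac16000025c5000045310000cf0a0000208800007f860000016a000094300000aa810000f0ed000028670000e1b30000a70800002c220000d0320000742b000090980000ca8800007a110000b9b60000b80a00000000, nat_lit 16),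
  (nat_lit 0xe000e8008e006600da003e00a70074007900eb00ef006700ce0087006000d4009200b100ce006e005b00b300a600d8005b0037007e00f8003300b8002d0028003d001f005800950011008b003c006b00ae00ce00cd00ec003d005e001400530099005200d100d800210014009c00c50073006d00f3009e0052007400ab001d00c200760092009a0010002400e3005a0054004700fb00ab009800eb00c50035001d005100e30011004000d6003900a10032000d006700f8002600870031004d00420064008d00f300f800310025003800800041001100ba002100a500bc005900db006f001900e5000000e20014006400c000700001005d006a005a005c00140060002e00680026002800980095008500c2009b00060000, nat_lit 8),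
  (nat_lit 0x6010e0e090b010402080c0e070104030a08090c06090f0b06060c03000a00080607090902010a06010407020b08000308090608090202060605010e0e08010e06060108010b02000b0707030d0f0300080101020f0a05020f0400080f0a0c040506000b0a030d04010b070f0b090f060f0600000f020e0d090c060206040b070e0c0007000801080b05070a0d080f0d0600050e08000a0104010b050a060f060201050f0d05060c0e030d0c02080c0a060f060309070c00090e060302090c060c0f0200070d0a0f0b0302000a0d09000d0b0f030309050108070b0c0d090d0208060b020b0b050305000c0d0f02060306080f0c000d02090d04050b0c010a080008060901030f0b0e0c0001030a030508040702000e0900, nat_lit 4),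
  (nat_lit 0x3300003210022220032203230300100022022032031123133320130231013101323200130122210032103333330130212001120321013222010013031033221223321310100021130300013200030203220320111002022321333101223123221113110130013132000320001222210010031022311312331003123330130300233213202033233201301000020330030332321011032120032230112203323100101201330131230310021112231003013022130232200122030023201233332132312311222031302030332303022030002020021201301311132222312302103102123231210111030200230100103122202310323301233333203102210122321110023223222111230102032021311323030121100, nat_lit 2),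
  (nat_lit 0x445401045541104400045444504041040140110100511004445145015110440004000004140114540501541050554451110405045010514115444451104100010550400410000411101001045514150050044511044454445044404145001404540501045400500000445110141144540405045051444555505505110440405111044555055010040010000004511004144141000554515145441055105500140104105151051104501540401010000454010044410540005455045140000540504011011551445111000011154040441000441010104405545014005011541555114505414441544555414414040001140050000044111000110050001500501144145150110501440040041104451505001004001000, nat_lit 1)]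
def V_t4 : Net := [(nat_lit 0xffff0000ffff0000ffff0000ffff0000ffff0000ffff0000ffff0000ffff0000ffff0000ffff0000ffff0000ffff0000ffff0000ffff0000ffff0000ffff0000ffff0000ffff0000ffff0000ffff0000ffff0000ffff0000ffff0000ffff0000ffff0000ffff0000ffff0000ffff0000ffff0000ffff0000ffff0000ffff0000ffff0000ffff0000ffff0000ffff0000ffff0000ffff0000ffff0000ffff0000ffff0000ffff0000ffff0000ffff0000ffff0000ffff0000ffff0000ffff0000ffff0000ffff0000ffff0000ffff0000ffff0000ffff0000ffff0000ffff0000ffff0000ffff0000ffff0000ffff0000ffff0000ffff0000ffff0000ffff0000ffff0000ffff0000ffff0000ffff0000ffff0000ffff, nat_lit 16),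
  (nat_lit 0xffff000000000000ffff000000000000ffff000000000000ffff000000000000ffff000000000000ffff000000000000ffff000000000000ffff000000000000ffff000000000000ffff000000000000ffff000000000000ffff000000000000ffff000000000000ffff000000000000ffff000000000000ffff000000000000ffff000000000000ffff000000000000ffff000000000000ffff000000000000ffff000000000000ffff000000000000ffff000000000000ffff000000000000ffff000000000000ffff000000000000ffff000000000000ffff000000000000ffff000000000000ffff000000000000ffff000000000000ffff000000000000ffff000000000000ffff000000000000ffff, nat_lit 32),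
  (nat_lit 0xffff0000000000000000000000000000ffff0000000000000000000000000000ffff0000000000000000000000000000ffff, nat_lit 64),
  (nat_lit 0xffffffffffff0000000000000000000000000000000000000000000000000000ffffffffffff0000000000000000000000000000000000000000000000000000ffffffffffff0000000000000000000000000000000000000000000000000000ffffffffffff0000000000000000000000000000000000000000000000000000ffffffffffff0000000000000000000000000000000000000000000000000000ffffffffffff0000000000000000000000000000000000000000000000000000ffffffffffff000000000000000000000000000000000000ffffffffffffffffffffffffffff000000000000000000000000000000000000ffffffffffffffffffffffffffff0000, nat_lit 128),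
  (nat_lit 0xffffffffffffffffffffffffffffffffffff, nat_lit 256),
  (nat_lit 0xffffffffffffffffffffffffffffffffffffffffffffffffffffffffffffffffffffffffffffffff00000000000000000000000000000000000000000000000000000000000000000000000000000000000000000000000000000000000000000000000000000000000000000000000000000000000000000000000000000000ffffffffffffffffffffffffffffffffffffffffffffffffffffffffffffffffffffffffffffffffffffffffffff000000000000000000000000000000000000, nat_lit 512),
  (nat_lit 0xffffffffffffffffffffffffffffffffffffffffffffffffffffffffffffffffffffffffffffffffffffffffffff00000000000000000000000000000000000000000000000000000000000000000000000000000000000000000000000000000000000000000000000000000000000000000000000000000000000000000000, nat_lit 1024),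
  (nat_lit 0xffffffffffffffffffffffffffffffffffffffffffffffff, nat_lit 2048),
  (nat_lit 0xffffffffffffffffffffffffffffffffffffffffffffffff, nat_lit 1024),
  (nat_lit 0xffffffffffffffffffffffffffffffffffff0000000000000000000000000000000000000000000000000000000000000000000000000000000000000000000000000000000000000000000000000000000000000000000000000000000000000000000000000000000000000000000000000000000000000000000000000000ffffffffffffffffffffffffffffffffffff, nat_lit 512),
  (nat_lit 0xffffffffffff00000000000000000000000000000000000000000000000000000000000000000000000000000000000000000000000000000000000000000000ffffffffffff00000000000000000000000000000000000000000000000000000000000000000000000000000000000000000000000000000000000000000000ffffffffffff000000000000000000000000000000000000, nat_lit 256),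
  (nat_lit 0xffffffffffff00000000000000000000ffffffffffff00000000000000000000ffffffffffff00000000000000000000ffffffffffff00000000000000000000ffffffffffff00000000000000000000ffffffffffff00000000000000000000ffffffffffff00000000000000000000ffffffffffff00000000000000000000ffffffffffff00000000000000000000ffffffffffff00000000000000000000ffffffffffff00000000000000000000ffffffffffff00000000000000000000ffffffffffff0000, nat_lit 64)]
def V : Ctx := ⟨2240, 12, [V_t0, V_t1, V_t2, V_t3, V_t4]⟩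
theorem V_ok : V.ok = true := by decide +kernel
def V_ps : List (Word × ℕ) := [([], 4), ([0,0,0], 0), ([2,2,2,2], 2), ([0,2,0,2,0,2,0,3], 1), ([4,4], 0), ([0,4,1,4], 0), ([2,4,2,4,2,4,2,4], 2), ([2,2,4,2,2,4,2,2,4], 3), ([0,2,0,4,2,1,4,3,0,4,3,0,4,3,4,1,2,4], 0), ([6,6], 0), ([4,6,4,6,4,6], 0), ([0,2,2,6,4,2,2,6,4], 2), ([0,2,6,2,4,2,6,3,4,2,6,2,1,4,3], 0), ([0,2,4,2,0,3,6,2,6,3,1,2,6,3,6,4,2,4], 1)]
theorem V_e_0 : lall (ceq [8] 5 V_ps) (eqP V) = true := by decide +kernel
theorem V_e : lall (ceq [8] 5 V_ps) (eqP V) = true := V_e_0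
theorem V_cov : Cov V.g rels (V.ev [8]) 4 := cov_of V_ok V_e 4 2 0 (by decide +kernel) (by decide)
theorem V_w : ev V.g (cw gens [([7,3,6], [5,3], 5)]) = V.ev [8] := Ctx.eq_of_eqW V_ok (v := [8]) (by decide +kernel)
theorem V_st : St (C.grp gens) (Multiplicative (ZMod 4)) :=
  st_cyc bound rfl card.ge hrel V_cov _ (Ctx.eq_of_eqW hC (v := []) (by decide +kernel)) V_w
def U_t0 : Net := [(nat_lit 0x15511154044154400540410510405551554445001505510015010415410155455111140054114400540410550405551, nat_lit 1),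
  (nat_lit 0x1113110303333213223223121021232023203022132101232123223323002303010033111103211231120130110223, nat_lit 2),
  (nat_lit 0xb0d0f070502040b000d060b0c0e0008020a06080500070b0609030d080d04050005060603080f04050509050701, nat_lit 4),
  (nat_lit 0x1004d004600380018006000c600a8007c008c0022009e00710070006900ab000c0077000300e9005f007a00f900f0, nat_lit 8),
  (nat_lit 0x30b0000654e0000d07f00002629000060220000e8430000548c00000da00000dce000000c0e00000e8b00007300, nat_lit 16),
  (nat_lit 0x1e7847600000000238e30750000000043ff6cde000000001ec1501800000000af7dff7300000000c67b1800, nat_lit 32),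
  (nat_lit 0xbdc482ae80100100000000000000004171040748009030000000000000000038bd711a40100800, nat_lit 64),
  (nat_lit 0xc00201120cc91410040040440800010, nat_lit 128),
  (nat_lit 0xd02219c24d54d480688b6044962810, nat_lit 256),
  (nat_lit 0x2018824d408480488b6044962810, nat_lit 128),
  (nat_lit 0xf8200840d008040000000000000000000884448280c00000000000000000000000000000000000, nat_lit 64),
  (nat_lit 0x3cfa0400000000ee121815000000002851b018000000000e8670300000000040acd0080000000044000000, nat_lit 32),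
  (nat_lit 0x340000e4290000649e0000606000001a61000046280000c0470000202800008a390000c0420000020e00001800, nat_lit 16),
  (nat_lit 0xf7005a00b500b5003000e00009007400870068007e001b005400cb0088002600da002a003c008e0062006c0000, nat_lit 8),
  (nat_lit 0x60e0f0d0c090b04020a0a070a090900070f000b0300040005020a03030f09070a0c0005060f0200010508000a0300, nat_lit 4),
  (nat_lit 0x201321113102112221120000120300232123000310002212301031123020201013002113133020031000001031001, nat_lit 2),
  (nat_lit 0x4554115110005110410150401110000115540545400004410405410044400004155015150000110410150401110, nat_lit 1)]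
def U_t1 : Net := [(nat_lit 0x11114005044504500415411015455510444500141054114010550440551554411101405105004500455410011455510, nat_lit 1),
  (nat_lit 0x1232131020000333032313310023203122103310233300013200200312312002112310101020101123220111100121, nat_lit 2),
  (nat_lit 0x80d02020c0e0c080b0508020b0c0b0a0604030c090f090a050703010d090f0e060d08030a0505080c030c050a090e, nat_lit 4),
  (nat_lit 0x200bc001b00c1004300ee0054007100da003200d100f000af00b3000f0077003900ed004c00c2004300fc000c00d2, nat_lit 8),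
  (nat_lit 0x2d4000039440000655b000091f200003b1b0000eab70000f5d10000b80f000019550000e6210000fcf30000af80, nat_lit 16),
  (nat_lit 0xff31d500000000fbd05aac000000005ac3bd8000000000b27d063500000000373fdfec00000000af7b0000, nat_lit 32),
  (nat_lit 0xfb045a3f186009000000000000000054c2b94604340281000000000000000008d4dfae04000000, nat_lit 64),
  (nat_lit 0x972816288bcd44250000000604080001, nat_lit 128),
  (nat_lit 0x200562c89f2fe8400d0004704080001, nat_lit 256),
  (nat_lit 0x628815078840000004600080001, nat_lit 128),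
  (nat_lit 0xd01449015800810000000000000000050010440808040000000000000000000000000000000000, nat_lit 64),
  (nat_lit 0x5ae619000000003f1060880000000080b539e30000000008340681000000000c9006a90000000004000000, nat_lit 32),
  (nat_lit 0x3c0000020450000bbc4000038640000f4ff000078d200007ebf000014bc0000c2d90000ba010000c24300000000, nat_lit 16),
  (nat_lit 0x300d8009400a000d400440059005400dc003000d900ad00a30060009c000300e2003c005e008e007300f200080000, nat_lit 8),
  (nat_lit 0xf0f050f050a05030e030d000506060c0e090e01080d0603090800010f0400040d01080b030301080e040600000100, nat_lit 4),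
  (nat_lit 0x22020321233133310223330320330130320233222132223211100002133010323110030230200333121101000302, nat_lit 2),
  (nat_lit 0x11554500104044000441410110415400414510104101100011010404410550010454500504045400410510100415400, nat_lit 1)]
def U_t2 : Net := [(nat_lit 0x15445454144544105144040510551555154505055555555410015545000010014111504400010410011511145000000, nat_lit 1),
  (nat_lit 0x2201232332011323221012011212322130200303222011231001332310132102133312103000111203102203032201, nat_lit 2),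
  (nat_lit 0x9000b0b010d040202000f0108030407010f090c0904070f07040502030a0a0308040808000f0c0903040c000f0202, nat_lit 4),
  (nat_lit 0x2500ae005d004200c70010001b00e400250035008d000800cd00a0001100d6008f00fd0050009800e400a10018, nat_lit 8),
  (nat_lit 0x3930000741700007dd2000079b100003675000014830000f43f0000b6440000d5de00009480000006360000a740, nat_lit 16),
  (nat_lit 0x1d40b6a000000008d4f885900000000aa76f9360000000018bd3a020000000004d0e99b000000004ab78000, nat_lit 32),
  (nat_lit 0x3500762090500440000000000000000840651081005028a000000000000000000086b2a00000000, nat_lit 64),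
  (nat_lit 0x612884d2964882a6a040108000050008, nat_lit 128),
  (nat_lit 0x12d90945e47703e2040004400050008, nat_lit 256),
  (nat_lit 0x10d8084024020162040000000050008, nat_lit 128),
  (nat_lit 0x1400040080500040000000000000000800410400005228800000000000000002000000000000000, nat_lit 64),
  (nat_lit 0x27522780000000009050048000000008446b146000000001000224200000000940069ae0000000000000000, nat_lit 32),
  (nat_lit 0xb50000751700002c520000091100008215000014230000303f00001000000070d8000010800000023600000000, nat_lit 16),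
  (nat_lit 0x2000700800048004000c70010001100c40063001000cc002a00cd00a0000000f600af00dd005000a800e600810000, nat_lit 8),
  (nat_lit 0xd000b0b0304050202000e0108020407010f0f0e0b00070904050102070a0c0708040808000f0e0901060c020d0000, nat_lit 4),
  (nat_lit 0x2200212132110323221012011212320130300303223101231010232300132102122302003000011203102003010200, nat_lit 2),
  (nat_lit 0x11445454144544105144040510551555054505055555555410015545000010010111504400010410011511145000000, nat_lit 1)]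
def U_t3 : Net := [(nat_lit 0x4401401404100045501505154450514110514444005414440550100511414515454155111005400054050401105040, nat_lit 1),
  (nat_lit 0x1203123001222201022200210311200220211312323023213313331012122220111031100100022210203120232000, nat_lit 2),
  (nat_lit 0x30f0d0501070f090808070c000d090601060900040502000b0209060a0c080a0706080a020500080c0202040b0004, nat_lit 4),
  (nat_lit 0xb003600e700840031003a00be0020008e00540014005c003000060016002100d2004300f800b4006c00270030, nat_lit 8),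
  (nat_lit 0x3cd0000fb2a00006fd6000049c30000c8fe00002f080000ecef0000eb74000018b00000423c0000d4f90000df80, nat_lit 16),
  (nat_lit 0x20ebdcf00000000f71f856a00000000cfbd989700000000349dce1c00000000c1fa830f00000000307f1000, nat_lit 32),
  (nat_lit 0xa0e2f87401414800000000000000004f2031c00014c42800000000000000004000c30500000000, nat_lit 64),
  (nat_lit 0x2232a6488004560d8f2021212002c428, nat_lit 128),
  (nat_lit 0x237a3018813ab700c0029791002c428, nat_lit 256),
  (nat_lit 0x210a301800222000c0020200002c428, nat_lit 128),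
  (nat_lit 0x208379100141680000000000000000070000412004c42800000000000000000000000000000000, nat_lit 64),
  (nat_lit 0x2848969000000006403056000000000cf3210840000000020144408000000004020831c0000000010000000, nat_lit 32),
  (nat_lit 0xd0000fbba00007f66000001020000889e00000f080000eced00008a14000000800000420c0000f05900001000, nat_lit 16),
  (nat_lit 0x2b001600e700940021000a00880020008e00740034007c001000060000002100d2004300d80094004c00070000, nat_lit 8),
  (nat_lit 0x30f0d0501070f0900000704000d090601060900040d02000b0201060204000a0706080a020500080c0202040b0000, nat_lit 4),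
  (nat_lit 0x1203123001222201020200210311200220211312321023213311331012122220111031100100022210203120232000, nat_lit 2),
  (nat_lit 0x4401401404100045501505154450514110514444005414440550100511414515454155111005400054050401105040, nat_lit 1)]
def U_t4 : Net := [(nat_lit 0xc0c0c0c0c0c0c0c0c0c0c0c0c0c0c0c0c0c0c0c0c0c0c0c0c0c0c0c0c0c0c0f0f0f0f0f0f0f0f0f0f0f0f0f0f0f0f, nat_lit 4),
  (nat_lit 0xf000f000f000f000f000f000f000f0, nat_lit 8),
  (nat_lit 0xf0000000f0000000f0000000f000, nat_lit 16),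
  (nat_lit 0xf000000000000000f0000000, nat_lit 32),
  (nat_lit 0xf000000000000000, nat_lit 64),
  (nat_lit 0xf0000000000000000000000000000000, nat_lit 128),
  (nat_lit 0x3ffffffffffffffffffffffffffffff, nat_lit 256),
  (nat_lit 0x3ffffffffffffffffffffffffffffff, nat_lit 128),
  (nat_lit 0xc0000000000000000000000000000000c00000000000000, nat_lit 64),
  (nat_lit 0xc000000000000000c000000000000000c000000000000000c000000, nat_lit 32),
  (nat_lit 0xc0000000c0000000c0000000c0000000c0000000c0000000c0000000c00, nat_lit 16),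
  (nat_lit 0xc000c000c000c000c000c000c000c000c000c000c000c000c000c000c000c, nat_lit 8),
  (nat_lit 0x333333333333333333333333333333333333333333333333333333333333333, nat_lit 2)]
def U : Ctx := ⟨378, 9, [U_t0, U_t1, U_t2, U_t3, U_t4]⟩
theorem U_ok : U.ok = true := by decide +kernel
def U_ps : List (Word × ℕ) := [([], 3), ([0,0,0], 0), ([2,2,2,2], 0), ([0,2,0,2,0,2,0,3], 1), ([4,4], 0), ([0,4,1,4], 0), ([2,4,2,4,2,4,2,4], 0), ([2,2,4,2,2,4,2,2,4], 0), ([0,2,0,4,2,1,4,3,0,4,3,0,4,3,4,1,2,4], 0), ([6,6], 0), ([4,6,4,6,4,6], 0), ([0,2,2,6,4,2,2,6,4], 0), ([0,2,6,2,4,2,6,3,4,2,6,2,1,4,3], 0), ([0,2,4,2,0,3,6,2,6,3,1,2,6,3,6,4,2,4], 0)]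
theorem U_e_0 : lall (ceq [8] 5 U_ps) (eqP U) = true := by decide +kernel
theorem U_e : lall (ceq [8] 5 U_ps) (eqP U) = true := U_e_0
theorem U_cov : Cov U.g rels (U.ev [8]) 3 := cov_of U_ok U_e 3 3 0 (by decide +kernel) (by decide)
def W_t0 : Net := [(nat_lit 0x15511140054154400540410550405551554445001505510015010415410155455511140054154400540410550405551, nat_lit 1),
  (nat_lit 0x303320323111030330003303123212203003220130013322022233332322322212300223311220333120001010023, nat_lit 2),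
  (nat_lit 0x30b0c09010d040201080f0a0605030d05060b010f020704040206010c0106080b0b08090d080d0209090409010503, nat_lit 4),
  (nat_lit 0x1009e0095002a00620008001900d800a700b500990045009a006e005c003a001800c600450060008d004b00af0010, nat_lit 8),
  (nat_lit 0x29a000070900000a26c000062c80000762c0000e44400000e56000008a9000034c2000054580000a31400004442, nat_lit 16),
  (nat_lit 0x17667ed0000000008c15a0000000000c5beeb71000000008b30500700000000efedf91d0000000096394802, nat_lit 32),
  (nat_lit 0x112e6a5801018000000000000000000f7082001085000020000000000000000417e732514002c00, nat_lit 64),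
  (nat_lit 0x400004500049004212084200082c24, nat_lit 128),
  (nat_lit 0x85000454107c04fa418078100c41a6, nat_lit 256),
  (nat_lit 0x4000050105c00aa418078100c4124, nat_lit 128),
  (nat_lit 0x240004414102404000000000000000000120030001018040000000000000000c800000000000000, nat_lit 64),
  (nat_lit 0x382da00000000009c00180600000000e30258270000000008405c0600000000c13a04000000000004000000, nat_lit 32),
  (nat_lit 0x30d00007a95000064b40000734a000081ec0000300e0000e624000014010000b19000000c520000520000004c00, nat_lit 16),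
  (nat_lit 0x2008f006b00a6002c0008009100e200e5001c0049006400400004007800aa0034007100fa002500010068002900c0, nat_lit 8),
  (nat_lit 0x8040c0805090e0406060c0f0a040d01080608070402070a00050d0c0c02080e04050e0a04000404000509090102, nat_lit 4),
  (nat_lit 0x3000131230210323223022113101320022003020302103210132330122132003213031222310213221100110032001, nat_lit 2),
  (nat_lit 0x4555015150000110410150401110000115540545400004410405410044400004555015150000110410150401110, nat_lit 1)]
def W_t1 : Net := [(nat_lit 0x1101405110010540055010010015450555054044001144511514501455444150001414100004401541440501445510, nat_lit 1),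
  (nat_lit 0x3320010030012310220203312022101113223320011113032313301213311131331031022111111323302012321303, nat_lit 2),
  (nat_lit 0xa060f0f010905090b000e000e0c050e04030506040407080a00030e01010009010a06010c020d0a0409070300060d, nat_lit 4),
  (nat_lit 0xaa00a500a1001000bf00e90033002f0078004800530083008d00c1000b004700c20035003c00ee00930034000b, nat_lit 8),
  (nat_lit 0x2ec0000f0980000a6790000a29800001dad000008540000d83d0000ac8800002a750000c9c300007c4b00006d02, nat_lit 16),
  (nat_lit 0x1e79d0c00000000ee1a28e600000000fad23b9700000000549a83ed00000000c1feaf1f00000000165b5200, nat_lit 32),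
  (nat_lit 0x126451d561080e00000000000000000d80cfb1a14820289000000000000000072eded9e0000c000, nat_lit 64),
  (nat_lit 0xdd54f66c32c206f3e6cd488bd42a240, nat_lit 128),
  (nat_lit 0x25bbcfd6fda59a70f78ec19bca27240, nat_lit 256),
  (nat_lit 0x421c44071041a60e18e0199c022040, nat_lit 128),
  (nat_lit 0x309c800151802040000000000000000120bc7890802e08100000000000000000800000000000000, nat_lit 64),
  (nat_lit 0x32020530000000067b8d2a10000000044853749000000001c80d048000000003a0108030000000008000000, nat_lit 32),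
  (nat_lit 0x111000098a50000dc820000da03000034d6000036c800005510000003b400004fd7000042c40000c89000008000, nat_lit 16),
  (nat_lit 0x7100d1002b00570023007c00cd000c00e9002c004400d1000000670010008400b4006b00f20005001a00340040, nat_lit 8),
  (nat_lit 0xa020002010b060b0207060b0102080e0703000e0f090c00010f070a000c0c070600000108080c0f01070e0d070303, nat_lit 4),
  (nat_lit 0x2111000301001221301111130220100013132223222113210200323111122332110012230033112222032133120120, nat_lit 2),
  (nat_lit 0x11405004545041410411501501055144040410550404551050454505010410455414444504445500011150004505400, nat_lit 1)]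
def W_t2 : Net := [(nat_lit 0x5554045445114540014511150000400540154415115554554015554100411014511544150540410001141141000000, nat_lit 1),
  (nat_lit 0x2102320110130013100233322301133212001000111032321032330022210321311002103100121200102101032201, nat_lit 2),
  (nat_lit 0x80703070e070e020c0a0d03080e09000305030e02010703080408000d020e0d0f0200090d01000000070608070002, nat_lit 4),
  (nat_lit 0x1003300ad000c0059007d00c100f400100098000e00f700f700fe00b40087006500f7008300230023002700030018, nat_lit 8),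
  (nat_lit 0x1e90000182900009a74000053ad0000fe75000074300000382f0000b6b40000ed190000a0640000053f00000540, nat_lit 16),
  (nat_lit 0x26cfc9a000000008d9ad130000000006810fed800000000a447157400000000c0fc508e000000004a1e2000, nat_lit 32),
  (nat_lit 0xca88204ca011100000000000000009004ea5000242104000000000000000000a042aa00000000, nat_lit 64),
  (nat_lit 0x40d69544c865808081084a19ad40aa00, nat_lit 128),
  (nat_lit 0xc795106003f9292008d22c0d612800, nat_lit 256),
  (nat_lit 0xc7840040019000000842080d402800, nat_lit 128),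
  (nat_lit 0xcc600044281010000000000000000801008100024200000000000000000002000000000000000, nat_lit 64),
  (nat_lit 0x48ec9a00000000298e10110000000058446ad400000000a440410400000000c0a042880000000000000000, nat_lit 32),
  (nat_lit 0x6a0000582900008a34000011210000f811000034100000203b000092740000e05c000020300000023c00000000, nat_lit 16),
  (nat_lit 0xb0006400480079007800e000a0001400c9004000e200e400fb00a40080006400d400c200200000002400010000, nat_lit 8),
  (nat_lit 0x807030f06020a02040809030c0a0d000701030e0205030308040d00080602090d0200090901000000070608070000, nat_lit 4),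
  (nat_lit 0x2322120110130033100233322301132232001000110102321003210032210321310002103000021200102101032200, nat_lit 2),
  (nat_lit 0x1554045445114540014511150000400440154415115554554015554100411010511544150540410001141141000000, nat_lit 1)]
def W_t3 : Net := [(nat_lit 0x15101045411450045504145155140450511104550505154511014415050544105451440105015150151051400105040, nat_lit 1),
  (nat_lit 0x3021303333120203032000202212031020031000122111100111000112102212300211023101232030000120222000, nat_lit 2),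
  (nat_lit 0xd0a01050b0c0b0b07080e07060609050b0d04060c0e0c0f0b06060b0309000f050908040c02010c0702040f0004, nat_lit 4),
  (nat_lit 0x100330047002e0024007a008a00ea00a700c5002700e800a30064000e001f0079001000c900e10012002c00070030, nat_lit 8),
  (nat_lit 0x3cf00005aa10000eb6b0000233c00002cb30000468200005ecd0000747900004089000020380000e27c0000cb80, nat_lit 16),
  (nat_lit 0x23abd7a00000000fce131a9000000006fdf937e00000000ab86b45100000000db86f5ea000000001c6d0000, nat_lit 32),
  (nat_lit 0x33ac6424c201161000000000000000040504b2c0000a0410000000000000000c082402b20000000, nat_lit 64),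
  (nat_lit 0x20a268411057d7454421d10820109041, nat_lit 128),
  (nat_lit 0x7964130efe3324521884128029441, nat_lit 256),
  (nat_lit 0x68040104363004421800100009041, nat_lit 128),
  (nat_lit 0x1220641282011610000000000000000040009090000204100000000000000000000000000000000, nat_lit 64),
  (nat_lit 0x21e105200000000642181210000000044d3336c000000002000304100000000e082142a0000000008000000, nat_lit 32),
  (nat_lit 0x16e00007a810000eb6a00002008000008330000668200007ac100001411000020c0000000380000c46800000000, nat_lit 16),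
  (nat_lit 0x100130047000e0024007a008a008000a700c5002700ec00c70060000a00180039005000c900a10016002800030000, nat_lit 8),
  (nat_lit 0xd0a01050b0c0b0306080205040409050b0d0406040a0c0f0a02060b0301000f050900040c0201040702040f0000, nat_lit 4),
  (nat_lit 0x3021303333120203032000202212031020031000122111100111000112102212300211023101232030000120222000, nat_lit 2),
  (nat_lit 0x15101045411450045504145155140450511104550505154511014415050544105451440105015150151051400105040, nat_lit 1)]
def W_t4 : Net := [(nat_lit 0xc0c0c0c0c0c0c0c0c0c0c0c0c0c0c0c0c0c0c0c0c0c0c0c0c0c0c0c0c0c0c0f0f0f0f0f0f0f0f0f0f0f0f0f0f0f0f, nat_lit 4),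
  (nat_lit 0xf000f000f000f000f000f000f000f0, nat_lit 8),
  (nat_lit 0xf0000000f0000000f0000000f000, nat_lit 16),
  (nat_lit 0xf000000000000000f0000000, nat_lit 32),
  (nat_lit 0xf000000000000000, nat_lit 64),
  (nat_lit 0xf0000000000000000000000000000000, nat_lit 128),
  (nat_lit 0x3ffffffffffffffffffffffffffffff, nat_lit 256),
  (nat_lit 0x3ffffffffffffffffffffffffffffff, nat_lit 128),
  (nat_lit 0xc0000000000000000000000000000000c00000000000000, nat_lit 64),
  (nat_lit 0xc000000000000000c000000000000000c000000000000000c000000, nat_lit 32),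
  (nat_lit 0xc0000000c0000000c0000000c0000000c0000000c0000000c0000000c00, nat_lit 16),
  (nat_lit 0xc000c000c000c000c000c000c000c000c000c000c000c000c000c000c000c, nat_lit 8),
  (nat_lit 0x333333333333333333333333333333333333333333333333333333333333333, nat_lit 2)]
def W : Ctx := ⟨378, 9, [W_t0, W_t1, W_t2, W_t3, W_t4]⟩
theorem W_ok : W.ok = true := by decide +kernel
def W_ps : List (Word × ℕ) := [([], 3), ([0,0,0], 0), ([2,2,2,2], 2), ([0,2,0,2,0,2,0,3], 0), ([4,4], 0), ([0,4,1,4], 0), ([2,4,2,4,2,4,2,4], 0), ([2,2,4,2,2,4,2,2,4], 0), ([0,2,0,4,2,1,4,3,0,4,3,0,4,3,4,1,2,4], 0), ([6,6], 0), ([4,6,4,6,4,6], 0), ([0,2,2,6,4,2,2,6,4], 1), ([0,2,6,2,4,2,6,3,4,2,6,2,1,4,3], 1), ([0,2,4,2,0,3,6,2,6,3,1,2,6,3,6,4,2,4], 0)]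
theorem W_e_0 : lall (ceq [8] 5 W_ps) (eqP W) = true := by decide +kernel
theorem W_e : lall (ceq [8] 5 W_ps) (eqP W) = true := W_e_0
theorem W_cov : Cov W.g rels (W.ev [8]) 3 := cov_of W_ok W_e 3 3 0 (by decide +kernel) (by decide)
theorem U_l : ev U.g (cw gens [([4,7], [2], 5)]) = U.ev [8] := Ctx.eq_of_eqW U_ok (v := [8]) (by decide +kernel)
theorem W_l : ev W.g (cw gens [([4,7], [2], 5)]) = 1 := Ctx.eq_of_eqW W_ok (v := []) (by decide +kernel)
theorem U_m : ev U.g (cw gens [([7,3], [0,3,5], 4)]) = 1 := Ctx.eq_of_eqW U_ok (v := []) (by decide +kernel)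
theorem W_m : ev W.g (cw gens [([7,3], [0,3,5], 4)]) = W.ev [8] := Ctx.eq_of_eqW W_ok (v := [8]) (by decide +kernel)
theorem UW_st : St (C.grp gens) (Multiplicative (ZMod 3 × ZMod 3)) :=
  st_two bound rfl card.ge hrel U_cov W_cov _ _ (Ctx.eq_of_eqW hC (v := []) (by decide +kernel)) U_l W_l (Ctx.eq_of_eqW hC (v := []) (by decide +kernel)) U_m W_m
def c2_t : List (List (List ℕ)) := [[[6],[1,3],[2,4],[3],[4],[5,6],[6]],
  [[],[5,6],[2],[3,6],[4,5,6],[5],[6]],
  [[],[],[5],[3,5],[4,6],[5],[6]],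
  [[],[],[],[],[4,6],[5],[6]],
  [[],[],[],[],[],[5],[6]],
  [[],[],[],[],[],[],[6]],
  [[],[],[],[],[],[],[]]]
noncomputable def c2 : PC := ⟨7, 2, 8, 13, 22, 2, 65, 7, 511, fun e => nth (nth c2_t [] (Nat.div e 7)) [] (Nat.mod e 7),
  [(0,[4],[2,3]),
  (0,[1],[2,5,6]),
  (0,[5],[6]),
  (0,[6],[5,6]),
  (0,[2],[1,2]),
  (1,[2],[0,2]),
  (1,[5],[4,5]),
  (2,[5],[3]),
  (2,[0],[0,4,6]),
  (2,[6],[6]),
  (1,[0],[3,4,5]),
  (1,[6],[6]),
  (1,[4],[5]),
  (2,[4],[0,3,5]),
  (1,[3],[0,3,5]),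
  (2,[3],[3,5,6])]⟩
def c2_A0 : List (List ℕ × List ℕ × ℕ) := [([2],[1,0],nat_lit 0x70000000000000000000000e000000000000000000000000020000000000000000003801c00e000000000000000000000000020000000000000000003800000000000000000000000000000000000),
  ([3],[2,0],nat_lit 0x1000000000000000000000020000000000000000000000000e00000000000000000000000002000000000000000000000000000000000000000000000000000000000000000020000000000000000),
  ([1],[1,0],nat_lit 0x38018000007000000000000000000000000000000000000000000001c0000000000004002000000000000c000),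
  ([2],[2,0],nat_lit 0x1c00c007000000000000000000000000000000000000000000001c0000000000000000000000000000000000000000020000000018000000),
  ([3],[1,1],nat_lit 0x1000000000000000000000000000000000000000000000000000000000000000000008004000000000000000000000000000000000000000002000000000800000000000000000000000000000000),
  ([4],[4,1],nat_lit 0x70000000000000000000000e0070000000000000000001c00e00000000000000000000000000000000000000000000000000000000000000000000003000000000000000000000000000000000000),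
  ([1],[0,0],nat_lit 0x10000000001000000000000000000000000000000000002000000000000000000000000000000008000004000),
  ([2],[0,0],nat_lit 0x800000100000000000000000000000000000000000000100000000000000000000000000000000000000000000000000010000008000000),
  ([2],[1,1],nat_lit 0x100080000000000000000000000000000000400000000000000000000000000000),
  ([4],[2,2],nat_lit 0x1000000000000000000000000000000000000000000000000200000000000000000000000000000000000000000100000080000000000000000000000000000000000000000000000000000000000),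
  ([5],[5,0],nat_lit 0x70000000000000000000000e00000000000000000000000000000000000000000000000000000000000000000000000000000000000000000000000000000000000000000000c0000000000000000),
  ([3],[3,1],nat_lit 0x7000000000000000000000000000000000000000000000000000000000000000000038000000000000000000000000000000000000000000000000000001800000000000000000000000000000000),
  ([3],[3,2],nat_lit 0x7000000000000000000000000000000000000000000001c0000000000000000000000000000c0000000000000000000000000000000000000000000000000000000),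
  ([4],[4,2],nat_lit 0x7000000000000000000000000000000000000000000001c00000000000000000000000000000000000000000000000000180000000000000000000000000000000000000000000000000000000000),
  ([1],[1,1],nat_lit 0x2001000000000000000000000000000000000000000),
  ([2],[2,1],nat_lit 0x1000000000c00000000000000000000000000000),
  ([3],[0,0],nat_lit 0x8000000000000000000000000000000000000000000000000000000000000000000000000000010000000000),
  ([4],[0,0],nat_lit 0x400000000000000000000000000000000000000000000000000000000000000000000000000000000000000000000000020000000000000),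
  ([6],[2,2],nat_lit 0xe0000000000000000000000000000000000000000000000000000000000000000000200000000000000000000000000000000000000000000000000000000000000000),
  ([4],[3,3],nat_lit 0x1000000000000000000000000000000000000000000000000000000000000000000008000004000000000000000000000000000000000000000000000000000000000000000000000000000000000),
  ([3],[3,0],nat_lit 0x30000000000),
  ([4],[4,0],nat_lit 0x60000000000000),
  ([5],[5,1],nat_lit 0x6000000000000000000000000000000000000000),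
  ([6],[6,1],nat_lit 0xc000000000000000000000000000000000000000000),
  ([6],[6,2],nat_lit 0x600000000000000000000000000000000000000000000000000000000000000000),
  ([0],[0,0],nat_lit 0x40000000000000000000),
  ([2],[2,2],nat_lit 0x80000000000000000000000000000000000000000000000000000000000000),
  ([5],[3,3],nat_lit 0x8000000000000000000000000000000000000000000000000000000000000000000000000000000000000),
  ([6],[3,3],nat_lit 0x10000000000000000000000000000000000000000000000000000000000000000000000000000000000000000),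
  ([5],[4,4],nat_lit 0x400000000000000000000000000000000000000000000000000000000000000000000000000000000000000000000000000000000000),
  ([6],[4,4],nat_lit 0x800000000000000000000000000000000000000000000000000000000000000000000000000000000000000000000000000000000000000),
  ([6],[5,5],nat_lit 0x40000000000000000000000000000000000000000000000000000000000000000000000000000000000000000000000000000000000000000000000000000000000000)]
theorem c2_hA0 : lall c2_A0 c2.relA = true := by decide +kernel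
def c2_B0 : List (ℕ × List ℕ × List ℕ × ℕ) := [(0,[0,1],[1,0,2,3],nat_lit 0x1000800000000100000000000000000000000000000000000000000000000000000000000000000000801c0000000000000000001000800000e0000000000000000000800000000000000000000000000000000000),
  (0,[0,4],[4,0,3],nat_lit 0x100000000000000000000000000000000000000000000000000000000000000000000000000000000000000000000000000000007000000400e0000000000000000000001c00e00000000000000000000000000000),
  (1,[5,5],[6],nat_lit 0x80180000000000000000007000000000000000000000000000000000000000000001c00e000000000000000000000000000000000000000006000001c000000000000000000000000000000000000000000000000001c000007),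
  (0,[1,1],[2,3],nat_lit 0x10008018000000000000000000000000000000070000000000000000000000000000000000000000000000000000000000000000700380000000070000000000000000000000000100000000000000000000000000),
  (2,[7,8],[8,7,9],nat_lit 0x400000000000000000000000000000001000000000000000000000000000000000000000000000000000000000000000000008000002000000000000000000000000000000000000000000000000000000000000000020000038000000000),
  (1,[10,10],[11],nat_lit 0x10030000000000000000000000000000000000000000000000000000000000c0070000000000000000001c00e0070000000000000000001c00e007000000000000000000000000000000000000000000000000000000000000000000000000000001),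
  (0,[4,4],[2],nat_lit 0xc0000008000000000000000000000000000000000070000000000000000000000000000000000000000000000000000000000000000600300000000000000000000000000000000e00700000000000000000000000000),
  (1,[12,5],[5,12,11],nat_lit 0x10000000000000000000000000000000000000000000000000000000000000000000000000000000000000000000000000000000000000000000000000000000007003800400000000000000000000000000000000000000000e0000000000000000),
  (2,[13,13],[],nat_lit 0x180000000000000000000000000000000000000000000070000000000000000000000e007000000000000000000000000010000000000000003801c0000070000000000000000000000000000000000000000000000000000000000000e0000038000000007),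
  (1,[14,14],[],nat_lit 0x300000000000000000000000000000000000000000000000070000000000000000000000e007000000000000000000000000000000000000000003801c0000000000000000000000000000000000000000000000000000000000000000000e0000038000000007),
  (2,[8,8],[9],nat_lit 0x400c00000000000000000000000000007000000000000000000000000000000000000000000001c000007000000000000000000000000000000000000000000000000000000000000000000000000000000000001c0000070000000000000),
  (2,[7,13],[13,7],nat_lit 0x200000000000000000000004000000000000000000000000000000000000000000000000000000000000000000000000038000000000),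
  (1,[12,10],[10,12],nat_lit 0xe0000000000000000000001c000000000000000000000000000000000000000000000000000000000000000000000010000000000000),
  (2,[15,15],[],nat_lit 0x600000000000000000000000000000000000000000000000000070000000000000000000000e007000000000000000000000000000000000000000003801c000000000000000000000000000000000000000000000000000000000000000000000000000000000000),
  (0,[0,0],[],nat_lit 0xc00000000000000000000000000007000000000000000000000000010000000000000000001c0000070000000000000000000000e0070000000000000000000000000000000000000000000000000000),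
  (0,[3,3],[],nat_lit 0x600000000000000000000000000000000000e0070000000000000000000000000000000000000000000000000000000000000000000000000000000000000000000000000000000000000000000000000000000000),
  (1,[6,6],[],nat_lit 0x300000000000000000000000000000000000000000000000000000000000000000000000e00700000000000000000000000000000000000000000000000000000000000000000000000000000000000000000000000000000000),
  (0,[2,2],[],nat_lit 0x30000000007000000000000000000000000010000000000000000000000000000000000000000000000000000000000000000000000000000000000000000000000000000000000000000000000000000000000),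
  (2,[7,7],[],nat_lit 0x600000000000000000000000000000000000000000000000000010000000000000000000000000000000000000000000000000007000000000000000000000000000000000000000000000000000000000000000000000000000000),
  (2,[9,9],[],nat_lit 0x1800000000000000000000000000000000000000000000000000000000000000000000000000000000000000000000000000000000000000000000000000000000000000000000000000000000000000000000000000000000000000000000),
  (1,[12,12],[],nat_lit 0xc000000000000000000000000000000000000000000000000000000000000000000070000000000000000000000000100000000000000000000000000000000000000000000000000000000000000000000000000000000000000000000000000000000),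
  (1,[11,11],[],nat_lit 0x6000000000000000000000000000000000000000000000000000000000000000000000000000000000000000000000000000000000000000000000000000000000000000000000000000000000000000000000000000000000000000000000000000)]
theorem c2_hB0 : lall c2_B0 c2.relB = true := by decide +kernel
theorem c2_lin : Lin c2 (2 ^ 2) :=
  ⟨by decide +kernel, c2_A0, c2_B0, _,
  [nat_lit 0x4006000000000000000000000000000000000000000000000000000000000000000000000000000000000000000000000000000000000000000000000000000000000000000000000000000000000000000000000000000000000000000000000000006000,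
  nat_lit 0x20000000000000000000000000000000000000000000000000000000000000000000000000000000000000000000000000000000000000000000000000000000000000000000000000000000000000000000000000000,
  nat_lit 0x800c000000000000000000000000000000000000000002000000000000000000000000000000000000000000000000000000000000000000000000000000000000000000000000000000000000000000000000000000000000000000000000000000000000000,
  nat_lit 0x2000,
  nat_lit 0x4000000,
  nat_lit 0x400000000000000020000000000001000000000000000000000000000000000000000000000000000000000000000000000000000000000000000000000000000000000000000000000000000000000000000000000000000000000000000000800c000,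
  nat_lit 0x4003000800800000000000040040000000008001000000800c000000000000000000000000000000000000000000000000000000000000000000000000000000000000000000000000000000000000000000000000000000000000100000000000000000008008000],
  [(nat_lit 0x200000000000000000000000000000,4,nat_lit 0x1c0000c00000000000)],
  [[nat_lit 0x28400ab8f4450b0d80001000000049cfac0df762d,0,0,nat_lit 0x10000000000001801c00181c92865f6490,nat_lit 0x2800000000000008000000815b782d52db0,nat_lit 0x10400a9af7c50b0d800000018001ad7c0c034bf09,nat_lit 0x1c0000000000000000000],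
  [nat_lit 0x28a00a93f7c70b15000000014001562bf9f98de74,7,nat_lit 0x10400a99f7c50b0d80000401c003d7b5e421adcbf,nat_lit 0x28a00abcf7c50b1180000c0100024873f0039e8c6,nat_lit 0x7000000000006,nat_lit 0x1e00000000002],
  [nat_lit 0x38e00a0417c9041400000c0100031e80b408efb93,nat_lit 0x38e000040000000400001c0100011e882401cf293,nat_lit 0x10400a92f7c50b0d800000018001f20d4812f4e2b,nat_lit 0x240000000000001001000057df77c94c9b4,nat_lit 0x24000000000000100100003a69ac48fc896],
  [nat_lit 0x300000000000008014001f35b782b52db6,nat_lit 0x10400a8af7c50b0d8000080180023a90442ea5a7b,nat_lit 0x7207000038006,nat_lit 0x60000000000001000800080b6d048a4920],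
  [nat_lit 0x1c00000000000018010002d7020c541e402,nat_lit 0x30000000000000080000009f5c782d5adb2,nat_lit 0x1400000000000018010000c9c5086416400],
  [nat_lit 0x10400000000000180000080000027339d800bad24,nat_lit 0x400000000000018010000e527a00520404],
  [nat_lit 0x43449413619000018010000e5b5084892932]],
  c2_hA0, c2_hB0, rfl, by decide +kernel, by decide +kernel, by decide +kernel, by decide +kernel⟩
def c2_x : List Word := [[2,1,2,6,4,2,6,0,2,4,2,1,2,4,0,2,1,2,1],
  [0,4,2,6,2,6,0,4,2,4,0,3,0],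
  [0,6,3,6,2,6,2,4,2,1,3,4,0,2,1,3,1],
  [0,6,3,6,2,6,2,4,2,0,2,1,2,4,0,2,1],
  [1,4,3,6,1,2,0,2,4,3,1,4,2,4,2,0,3],
  [2,0,4,3,6,2,2,4,2,0,2,4,2,0,2,1,3,0],
  [3,6,2,0,3,4,0,2,1,3,1],
  [0,6,3,1,6,3,6,1,2,0,3,4,2,1,4,3,4,2,0,2,1],
  [1,4,3,0,6,2,6,0,3,1,4,2,4,0,2,1,2,0],
  [0,2,1,2,6,4,2,6,1,3,4,2,0,4,3,4,2,2,0]]
theorem c2_r0 : ∀ i < 7, c2.rowOK (chkW lk [0,1,2,3] c2_x) (0 + i) = true := by decide +kernel
theorem c2_r : ∀ i < c2.K, c2.rowOK (chkW lk [0,1,2,3] c2_x) i = true := of_zero (P := fun i => c2.rowOK (chkW lk [0,1,2,3] c2_x) i = true) (n := 7) (c2_r0)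
theorem c2_f : lall c2.F (c2.fusOK (chkW lk [0,1,2,3] c2_x)) = true := by decide +kernel
theorem c2_low : c2.l ^ c2.K ≤ lowB C [(0, [0,2,4,6,12,8,0], [[4,6,10]]),
  (1, [0], [])] (c2_x.take c2.K) := by decide +kernel
theorem c2_grp : Grp c2 (C.grp gens) :=
  grp_of_ctx hC hlk (cb.2) (ws := c2_x) (fun w h => all_mem ((by decide +kernel : ∀ w ∈ c2_x, ∀ a ∈ w, a < 8) w h)) card (by decide) _ c2_r c2_f (by decide +kernel) c2_low
def c3_t : List (List (List ℕ)) := [[[5,5],[1,3],[2,4],[3,5],[4,5],[5]],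
  [[],[5],[2,4,5,5],[3],[4,5,5],[5]],
  [[],[],[],[3,5],[4,5],[5]],
  [[],[],[],[],[4],[5]],
  [[],[],[],[],[],[5]],
  [[],[],[],[],[],[]]]
noncomputable def c3 : PC := ⟨6, 3, 27, 16, 66, 2, 45, 31, 2047, fun e => nth (nth c3_t [] (Nat.div e 6)) [] (Nat.mod e 6),
  [(0,[0,1,1],[2,2,3,3]),
  (0,[2],[2,2,4,5]),
  (0,[5],[5]),
  (1,[4],[3,3,4,5]),
  (1,[1],[1,1,2,5,5]),
  (1,[5],[5,5]),
  (1,[3],[3,3,4,4]),
  (1,[0],[0,1]),
  (0,[4],[2,2,5])]⟩
def c3_A0 : List (List ℕ × List ℕ × ℕ) := [([2],[1,0],nat_lit 0x1a001900000000000000000000000000010000000000000000001a0000000000000000000200010000000000000000),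
  ([4],[1,0],nat_lit 0x1a0000000000000000000000000000000000000000001a00000000000000000000000200000000000000000000),
  ([1,1],[1,0],nat_lit 0x180000001a000000000000000000000000000000000000000000000018000000000000000100000000000000180000),
  ([2,2],[2,0],nat_lit 0x1a000000000000000000000019001a0000000000000000000000000000000000000000001a00180000000000000000000000000000000000000000000000000000001800000000),
  ([4],[2,0],nat_lit 0x1900000000000000000000000000000000000000000000001a00000000000000000000000000000000000000000000000100000000000000000000),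
  ([4,4],[4,1],nat_lit 0x1900000000000000000000001800000000000000000000000000000000000000000000000000000000000000000000000000180000000000000000000000000000000000000000),
  ([3,3],[3,0],nat_lit 0x1a00000000000000000000000000000000000000000000001800000000000000000000000000000000000000000000000000000000000000000000000000000018000000000000),
  ([4,4],[4,0],nat_lit 0x1a00000000000000000000001800000000000000000000000000000000000000000000000000000000000000000000000000000000000000000000000000180000000000000000),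
  ([5],[2,0],nat_lit 0x1a00000000000000000000000000000000000000000000000000000000000000000000000000000000000000000000000000000000000000000000),
  ([3],[2,2,2],nat_lit 0x100000000000000000000000000000000000000000000000000000000000000000000000300000003000000000000000000000000000000000000000000000000000000000000),
  ([4],[2,2,2],nat_lit 0x100000000000000000000000000000000000000000000000000000000000000000000000300030000000000000000000000000000000000000000000000000000000000000000),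
  ([3],[1,1,1],nat_lit 0x100000000000000000000000000000000000000000000000000000003000000000000000000000000000000000000),
  ([0],[0,0,0],nat_lit 0x200000000000000000000),
  ([5,5],[5,0],nat_lit 0x1800000000000000000000),
  ([3,3],[3,1],nat_lit 0x18000000000000000000000000000000000000),
  ([5],[2,2,2],nat_lit 0x300000000000000000000000000000000000000000000000000000000000000000000),
  ([4],[3,3,3],nat_lit 0x30000000000000000000000000000000000000000000000000000000000000000000000000000000000000000),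
  ([5],[3,3,3],nat_lit 0x300000000000000000000000000000000000000000000000000000000000000000000000000000000000000000000),
  ([5],[4,4,4],nat_lit 0x300000000000000000000000000000000000000000000000000000000000000000000000000000000000000000000000000000000000000000000),
  ([1],[1,1,1],nat_lit 0x100000000000000000000000000000000000000000000)]
theorem c3_hA0 : lall c3_A0 c3.relA = true := by decide +kernel
def c3_B0 : List (ℕ × List ℕ × List ℕ × ℕ) := [(0,[0,0,0],[],nat_lit 0x1800000000000000000000000000000000000000000000000000020000001a000000000000001600000015001900000000000700000005000000020000000100000002000000030001),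
  (0,[1,0],[0,1,2],nat_lit 0x100000000000400000000000000000000000600010000000000000000000200190000000000000000001a00190004000000000000000100030000000200000000000000000000000100000000),
  (1,[3,4],[4,3,5,5],nat_lit 0x200000000000000000000001a000000000000000000000000000000000000000000000003000000000000000000000019001a0019000000000000001a001a0017000000000000000000000000000000000000),
  (1,[6,7],[7,6,5],nat_lit 0x100000000000000000000001900000000000000000000001700000000000000000000001a00000000000000000000000000000000000000000000001a0019001900000000000000000019001a000000000000),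
  (1,[7,7,7],[5,5],nat_lit 0x18000000020000000000000000000000000000000000000000000000000000000000000000000000150000001a0000000000000000000000000000000000000017000000190000001a000000000000001a000000180000),
  (1,[3,7],[7,3,5],nat_lit 0x100000000000000000000001a00000000000000000000001900000000000000000000001a00000000000000000000000000000000000000000000001a001a0019000000000000001a00000019000000000000),
  (0,[8,1],[1,8,2],nat_lit 0x100000000000100000000000000000000001a00000000000000000000000000000000000000000000000100030000000000000000000000000000000000000000000000000000000000000000),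
  (1,[6,6,6],[],nat_lit 0x1800000000000000000000000000000000000000000000000000000019000000000000000000000015001a000000000000000000000000000000000000000000000000000000000000000000000000000000000000),
  (0,[8,8,8],[],nat_lit 0x1800000000000000000000000000000000001a00000000000000000000000000010000000000000000000000000000000000000000001500000000001900000000000000000000000000000000000000000000000000000000),
  (1,[5,5,5],[],nat_lit 0x1800000000000000000000001a00000000000000000000000000000000000000000000000000000000000000000000000000000000000000000000000000000000000000000000000000000000000000000000),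
  (0,[2,2,2],[],nat_lit 0x1800000000000000000000000000000000000000000000000000000000000000000000000000000000000000000000000000000000000000000000000000000000000000000000000000000000)]
theorem c3_hB0 : lall c3_B0 c3.relB = true := by decide +kernel
theorem c3_lin : Lin c3 (3 ^ 2) :=
  ⟨by decide +kernel, c3_A0, c3_B0, _,
  [nat_lit 0x100070002000500000000000000000008000000000000000000000000000000000000000000000000000000000000000000000000000000000000000000000000000000000000000600000000000000000000000000000000,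
  nat_lit 0x10000000000000000000000000000000000000000000000000000000000000000000000000000000000000000000000000000000000000000000000000000000000000000000000000000000000000000000000000000,
  nat_lit 0x500000000000300000000000000000000000000000000000000000000000000000000000000000000000000000000000000000000000000000000000000000000000000000000000500000000000000000000000000000000,
  nat_lit 0x10000,
  nat_lit 0x1900000000000000000000000000000000000000000000000000000000000000000000000000000000000000000000000000000000000000000000000000000000000100000000000000000000000000000000,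
  nat_lit 0x100000000000000000000000000000000000000000000000000000000000000000000000000000000000000000000000000000000000000000000000000000000000000000000000000000000000000000000],
  [(nat_lit 0xe000d000000000000,3,nat_lit 0x11cc680707cd755891),
  (nat_lit 0x1000000000000000000000000000000000000,3,nat_lit 0x3b50ef64e275379b9a)],
  [[nat_lit 0xafae467b8d3bab4cd4a369ac6c315731941e,0,nat_lit 0x1cab4d5c4b69ac9487f6d2dddabc4bd6e6c,nat_lit 0x2a717843d6f750c90c75b5e7ef44154b8,nat_lit 0x2a717843d6f750c90c75b5e7ef44154b6,nat_lit 0x4d1c6a698ccb951715],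
  [nat_lit 0x14ea7bd6339289ea2b7ab94228dfb403da,0,702,nat_lit 0x7dc1b69ebbdaa6134ebdc6a76f16a3e20,nat_lit 0x1779b3346db6fb2ac16c79fbb5e],
  [nat_lit 0x57da6f75245376e162e91d766c5be806784b7,nat_lit 0x5415ee43b25c5dbbd38e42b80a6d3d041,nat_lit 0x1cacfb4f4363418f7625f5d941bf1d4878,nat_lit 0x4d1c7cb2f90172726f],
  [nat_lit 0x4dc5231ddef4bd1d5e,nat_lit 0xe7246e5ca0be58af314ff64b8,nat_lit 0x5b640c572b9bf316f],
  [nat_lit 0x22b2a18e08adc20198a46cb06ab73d70564,nat_lit 0xbb41c3ca78b9],
  [nat_lit 0x17777ded17604a334088d60ad813ea2b08]],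
  c3_hA0, c3_hB0, rfl, by decide +kernel, by decide +kernel, by decide +kernel, by decide +kernel⟩
def c3_x : List Word := [[0,4,3,1,6,3,6,1,4,2,0,4,3,4,0,3],
  [1,2,0,2,6,2,6,1,3,4,2,1,4,3,4,3,1],
  [0,3,4,6,2,6,2,0,3,1,4,2,4,2,1],
  [1,4,2,4,3,6,3,6,3,0,4,2,0,4,2,4,2,2],
  [1,3,6,4,2,1,4,2,4,2,1,3],
  [0,4,6,4,3,6,2,1,2,4,0,3,1],
  [1,4,3,6,0,3,0,4,3,0,4,2,4,0,2,1,2],
  [6,2,4,2,6,2,0,4,3,1,4,2,4,3]]
theorem c3_r0 : ∀ i < 6, c3.rowOK (chkW lk [0,1,2,3] c3_x) (0 + i) = true := by decide +kernel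
theorem c3_r : ∀ i < c3.K, c3.rowOK (chkW lk [0,1,2,3] c3_x) i = true := of_zero (P := fun i => c3.rowOK (chkW lk [0,1,2,3] c3_x) i = true) (n := 6) (c3_r0)
theorem c3_f : lall c3.F (c3.fusOK (chkW lk [0,1,2,3] c3_x)) = true := by decide +kernel
theorem c3_low : c3.l ^ c3.K ≤ lowB C [(0, [0,2,4,6,8,10,2,4,6,10], [[0,0,4,6,6]]),
  (1, [0,0], [])] (c3_x.take c3.K) := by decide +kernel
theorem c3_grp : Grp c3 (C.grp gens) :=
  grp_of_ctx hC hlk (cb.2) (ws := c3_x) (fun w h => all_mem ((by decide +kernel : ∀ w ∈ c3_x, ∀ a ∈ w, a < 8) w h)) card (by decide) _ c3_r c3_f (by decide +kernel) c3_low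
section
open CA.CMat CA.CLink CA.CLink2 CA.CLink3 CA.H28Mat Matrix
def ml : List ((Mat × Mat) × Mat × ℕ × Mat × ℕ) := [(([[7,8,4,2],[7,4,6,8],[5,6,4,4],[1,7,5,7]], [[4,4,8,1],[5,7,3,4],[7,3,7,8],[2,5,7,4]]), [[7,8,4,2],[7,4,6,8],[5,6,4,4],[1,7,5,7]], 3, [[1,0,0,0],[0,1,0,0],[0,0,1,0],[0,0,0,1]], 1),
  (([[8,5,2,5],[7,4,8,1],[4,3,0,2],[6,5,3,0]], [[5,4,7,3],[8,7,6,8],[2,5,0,6],[8,1,2,0]]), [[5,2,5,5],[4,1,8,7],[8,2,5,4],[2,6,3,3]], 5, [[4,4,2,4],[8,4,8,6],[8,2,4,8],[6,4,8,8]], 7),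
  (([[1,0,5,6],[0,1,2,5],[8,2,2,0],[3,8,0,2]], [[1,0,5,6],[0,1,2,5],[8,2,2,0],[3,8,0,2]]), [[2,1,1,3],[2,2,6,2],[3,6,3,2],[3,3,1,6]], 9, [[5,7,2,4],[6,1,0,7],[6,5,5,4],[0,7,3,3]], 5),
  (([[3,3,3,1],[3,0,1,5],[3,2,6,6],[2,4,6,0]], [[6,6,6,2],[6,0,2,7],[6,1,3,3],[1,8,3,0]]), [[1,3,6,6],[2,0,8,1],[7,4,7,1],[0,1,7,3]], 5, [[5,2,0,3],[4,7,3,5],[8,4,6,4],[2,8,8,5]], 5)]
theorem hdet : lall ml (CA.H22Link.detOK (arQ 3 0 2) 4) = true := by decide +kernel
def L : CA.H22Link.Lk := ⟨lmap Prod.fst ml, [[nat_lit 0xffefffffff7fdfff7fffbbfffdfc9dff7ebb77bffb7fffffdef7ffffbfffffef7ffffe, nat_lit 0, nat_lit 0, nat_lit 0],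
 [nat_lit 0x9252d261489f2a5f9688dcf1e2b7b28093e2aac516c9ae8b6faf821e558ede5444ce52, nat_lit 0xa988f2c2005d481a363f8959a190091c1428221453149e08c441b2e0849acc62752d00, nat_lit 0xa806b77616e1b7606ebbb31d8f4809046a94605e9199e1b8ec49e8e160f08a8294188, nat_lit 0x400100008400048048000006000000612800110a000241400000410120600101020020],
 [nat_lit 0x14412f2494360c60ca380c9849f16b52cafdcb162a618de398e9787f22816ce7e55a11, nat_lit 0xd454c19f078275043c8c8a2adbf0750bbeb5a18a6e683d420943e0a52c8002607582a, nat_lit 0x71451e1c085b8f044e3f420ad14411b037a00b91acd228c6dcfddb71929f4d762d4eaa, nat_lit 0x12004001001008200031050000800d00002000110850080202008005208008100044],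
 [nat_lit 0xa02a824b9bbc6535aa1b7d26dd3cc3558300318ba8621e75ed2215561613a7c5a84d00, nat_lit 0xe48f0a8513361c115d095743807f67f700f09283c488400f2f90cc514625b9cc28f580, nat_lit 0x24665125cabe09306557097b8b37717c0cb070aad1cad611c1665e5e3194c4cfa3aea9, nat_lit 0x100000102401024800a08000008000006005005400112180000100a088480020140040]],
  [68,32,130,60], 2, [[4,0,5,4],[2,0,2,2],[6,8,2,8],[2,8,8,6]], [6,6,6,1], [2,4,6,2,4,0,2,6,4,2,0,6,2,4,6], [[2,6,4,3,6,2,6,0,7,3,7,2,5,7,3], [2,6,4,3,6,2,6,2,7,3,7,2,5,7,3], [2,6,4,3,6,2,6,4,7,3,7,2,5,7,3]]⟩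
theorem hL : L.ok (arQ 3 0 2) 4 C 4 [0,1,2,3] = true := by decide +kernel
theorem hact : allR 4 (actI (arQ 3 0 2) 4 C L.SL (full C.n) (nz (arQ 3 0 2)) (lets L.ms) (sg 4)) = true := by decide +kernel
theorem iso {F : Type*} [Field F] [Fintype F] (hF : Fintype.card F = 9) :
    Nonempty (C.grp gens ≃* PSU 4 F 3) := by
  obtain ⟨el, hA, -⟩ := sound9 hF
  haveI : CharP F 3 := charP_of (k := 2) Nat.prime_three hF
  haveI : ExpChar F 3 := ExpChar.prime Nat.prime_three
  refine CA.H22Link.iso_quot (ρSU 4 F 3) (Equiv.refl _) hA Fact.out hC hL hact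
    (CA.H22Link.in_SU hA (p := 3) (j := 1) rfl hdet (by decide +kernel)) (by decide) cb ?_
  have h := Cfsg.Agent.S0280.result (q := 3) hF 4 (by decide)
  simp only [Finset.prod_range_succ, Finset.prod_range_zero] at h
  norm_num [Nat.even_iff] at h
  show Nat.card (PSU 4 F 3) = _
  omega
end
end

/-- Exceptional Schur multiplier: PSU₄(3), realised over the field with 9 elements, has Schur multiplier isomorphic to the product of cyclic groups of orders 4, 3 and 3 (order 36, not cyclic; here the Schur multiplier is described through stem extensions, as in the definitions). -/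
theorem result {F : Type*} [Field F] [Fintype F] (hF : Fintype.card F = 9) : Cfsg.HasSchurMultiplier (Cfsg.PSU 4 F 3) (Multiplicative (ZMod 4 × ZMod 3 × ZMod 3)) := by
  obtain ⟨e⟩ := iso hF
  exact congr_left (V_st.cyc3 UW_st (n := 36) (bd_all card [2, 3] [5, 7] (by decide +kernel) (by norm_num)
    (bd2 (bd_of c2_lin c2_grp) (bd_of c3_lin c3_grp)))) e

end Cfsg.Agent.S2090
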