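import Cfsg.Statements.S2278
import Cfsg.Agent.Lib.Lin.SLReg

set_option autoImplicit false
open Cfsg

namespace Cfsg.Agent.S2278

open Matrix CA.SLTv CA.SLReg Subgroup

variable {F : Type*} [Field F]

theorem cube : (Polynomial.X - 1 : Polynomial F) ^ 3 = Polynomial.X ^ 3 - Polynomial.C 3 *
    Polynomial.X ^ 2 + Polynomial.C 3 * Polynomial.X - 1 := by simp only [map_ofNat]; ring

theorem Cm3 : Cm 3 F = !![0, 0, 1; 1, 0, -3; 0, 1, 3] := by
  ext i j
  fin_cases i <;> fin_cases j <;>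
    simp [Cm, ofCols, e, lastCol, cc, cube, Polynomial.coeff_one, Polynomial.coeff_X]

theorem e0 : e 3 F 0 = ![1, 0, 0] := by ext i; fin_cases i <;> simp [e]
theorem e1 : e 3 F 1 = ![0, 1, 0] := by ext i; fin_cases i <;> simp [e]
theorem e2 : e 3 F 2 = ![0, 0, 1] := by ext i; fin_cases i <;> simp [e]

theorem core [Finite F] {H : Subgroup (SpecialLinearGroup (Fin 3) F)} (hC : Cs 3 F ∈ H)
    {s : SpecialLinearGroup (Fin 3) F} (hs : s ∈ H) {a r b g l : F} (ha : a ^ 3 = 1 ∨ a ^ 3 = -1)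
    (es : s.1 = !![a, r, b; 0, a ^ 4, g; 0, 0, a]) (hl : El H 0 2 l) (l0 : l ≠ 0)
    (hS : ∀ S : Subring F, l ^ 3 ∈ S → r * a ^ 5 * l ∈ S → S = ⊤) : H = ⊤ := by
  have a6 : a ^ 6 = 1 := by rcases ha with h | h <;> rw [show 6 = 3 * 2 by rfl, pow_mul, h] <;> simp
  have r1 : ∀ {c}, El H 1 0 c ↔ El H 0 2 c := fun {c} => by
    simpa [cc_zero, show (-1 : F) ^ 3 = -1 by ring] using el10_iff hC (k := 2) rfl (by omega) (c := c)
  have r2 : ∀ {c c'}, El H 0 2 c → El H 0 2 c' → El H 1 2 (c * c') := fun h h' =>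
    (r1.2 h).mul h' (by omega) (by omega) (by omega) (by omega)
  have r3 : ∀ {c}, El H 1 2 c → El H 0 2 (r * a ^ 5 * c) := fun {c} h => by
    have h1 := Tv.conj (ψ := a ^ 5 • e 3 F 2) h hs fun x => by
      simp [es, e2, dotProduct, mulVec, Fin.sum_univ_three, ← mul_assoc, ← pow_succ, a6]
    have h2 : El H 1 2 (-(a ^ 3 * c)) := by
      rcases ha with e | e <;> rw [e]
      · simpa using h.neg (by omega)
      · simpa using h
    rw [← tv_smul] at h1
    have h3 := h1.add_left h2 (by simp [e_dot_e_ne])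
    rw [El]
    convert h3 using 1
    ext i
    fin_cases i <;> simp [es, e0, e1]
    · ring
    · linear_combination (-a ^ 3 * c) * a6
  let S : Subring F :=
    { carrier := {x | ∀ c, El H 0 2 c → El H 0 2 (x * c)}
      one_mem' := fun c h => by rwa [one_mul]
      zero_mem' := fun c _ => by simpa [El] using tv_zero _
      add_mem' := fun ha hb c h => by rw [add_mul]; exact (ha c h).add (hb c h) (by omega)
      neg_mem' := fun ha c h => by rw [neg_mul]; exact (ha c h).neg (by omega)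
      mul_mem' := fun ha hb c h => by rw [mul_assoc]; exact ha _ (hb c h) }
  have hT : S = ⊤ := by
    refine hS S (fun c h => ?_) fun c h => ?_
    · have := r1.1 ((r2 hl hl).mul (el_succ0 hC (j := 1) (by omega) le_rfl (r1.2 hl) (r1.2 h))
        (by omega) (by omega) (by omega) (by omega))
      convert this using 1; ring
    · rw [mul_assoc]; exact r3 (r2 hl h)
  have hall : ∀ c, El H 0 2 c := fun c => by
    have : c * l⁻¹ ∈ S := hT ▸ Subring.mem_top _
    simpa [l0] using this l hl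
  obtain ⟨x, -, hx⟩ := exists_gen F
  have h1 := all_one hC (k := 2) rfl (by omega) (hall 1)
  exact h1.eq_top le_rfl (h1.of_el le_rfl (by omega) (by omega) (by omega) (hall x)) hx

theorem exists_s {a : F} (a6 : a ^ 6 = 1) (r : F) : ∃ g s : SpecialLinearGroup (Fin 3) F,
    g * Cs 3 F * g⁻¹ = Cs 3 F * s ∧
    s.1 = !![a, r, a ^ 2 * (r * (3 - r) - 3) + 3 * a; 0, a ^ 4, 3 - r - 3 * a; 0, 0, a] := by
  let M : SpecialLinearGroup (Fin 3) F := ⟨!![1, 0, 0; 0, a ^ 5, -a * r; 0, 0, a], by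
    simp [det_fin_three, ← pow_succ, a6]⟩
  let s : SpecialLinearGroup (Fin 3) F :=
    ⟨!![a, r, a ^ 2 * (r * (3 - r) - 3) + 3 * a; 0, a ^ 4, 3 - r - 3 * a; 0, 0, a], by
      simp [det_fin_three]; linear_combination a6⟩
  have : M * (Cs 3 F * s) = Cs 3 F * M := Subtype.ext (by
    change M.1 * (Cm 3 F * s.1) = Cm 3 F * M.1
    ext i j
    fin_cases i <;> fin_cases j <;> simp [M, s, Cm3, Matrix.mul_apply, Fin.sum_univ_three] <;> grind)
  exact ⟨M⁻¹, s, by rw [inv_inv, mul_assoc, ← this]; group, rfl⟩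

theorem inv_mem_sub [Finite F] (S : Subring F) {x : F} (h : x ∈ S) : x⁻¹ ∈ S := by
  by_cases h0 : x = 0
  · simp [h0]
  have := Fintype.ofFinite F
  have h1 : 1 < Fintype.card F := Fintype.one_lt_card
  have : x⁻¹ = x ^ (Fintype.card F - 2) := inv_eq_of_mul_eq_one_right (by
    rw [← pow_succ', show Fintype.card F - 2 + 1 = Fintype.card F - 1 by omega,
      FiniteField.pow_card_sub_one_eq_one x h0])
  rw [this]; exact S.pow_mem h _

theorem mem_of_mul [Finite F] (S : Subring F) {x y : F} (hx : x ∈ S) (h0 : x ≠ 0) (h : x * y ∈ S) :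
    y ∈ S := by simpa [h0] using S.mul_mem (inv_mem_sub S hx) h

/-- Let F be a finite field. Then SL_3(F) is generated by two conjugate regular unipotent elements: there are u with u − 1 nilpotent and (u − 1)² ≠ 0, and g, such that u and g u g⁻¹ generate SL_3(F). -/
theorem result {F : Type*} [Field F] [Fintype F] :
    ∃ u g : Matrix.SpecialLinearGroup (Fin 3) F, IsNilpotent ((u : Matrix (Fin 3) (Fin 3) F) - 1) ∧ ((u : Matrix (Fin 3) (Fin 3) F) - 1) ^ (3 - 1) ≠ 0 ∧
      Subgroup.closure ({u, g * u * g⁻¹} : Set (Matrix.SpecialLinearGroup (Fin 3) F)) = ⊤ := by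
  suffices h : ∃ g, closure {Cs 3 F, g * Cs 3 F * g⁻¹} = ⊤ by
    obtain ⟨g, hg⟩ := h
    exact ⟨Cs 3 F, g, ⟨3, Cm_nilp⟩, Cm_reg (n := 3) (by omega), hg⟩
  obtain ⟨x, hx, hS⟩ := exists_gen F
  have key : ∀ a r l : F, (a ^ 3 = 1 ∨ a ^ 3 = -1) → l ≠ 0 →
      (!![a, r, a ^ 2 * (r * (3 - r) - 3) + 3 * a; 0, a ^ 4, 3 - r - 3 * a; 0, 0, a] ^ 2 =
        a ^ 2 • !![1, 0, l; 0, 1, 0; 0, 0, 1]) → (a ^ 2 = 1 ∨ (2 : F) = 0) →
      (∀ S : Subring F, l ^ 3 ∈ S → r * a ^ 5 * l ∈ S → S = ⊤) →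
      ∃ g, closure {Cs 3 F, g * Cs 3 F * g⁻¹} = ⊤ := fun a r l ha l0 h1 h2 h3 => by
    have a6 : a ^ 6 = 1 := by rcases ha with h | h <;> rw [show 6 = 3 * 2 by rfl, pow_mul, h] <;> simp
    obtain ⟨g, s, hg, es⟩ := exists_s a6 r
    have hC : Cs 3 F ∈ closure {Cs 3 F, g * Cs 3 F * g⁻¹} := subset_closure (by simp)
    have hs : s ∈ closure {Cs 3 F, g * Cs 3 F * g⁻¹} :=
      (mul_mem_cancel_left hC).1 (hg ▸ subset_closure (by simp))
    refine ⟨g, core hC hs ha es ?_ l0 h3⟩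
    have e2' : (s ^ 2).1 = a ^ 2 • !![1, 0, l; 0, 1, 0; 0, 0, 1] := by
      rw [Matrix.SpecialLinearGroup.coe_pow, es, h1]
    obtain ⟨t, ht, et⟩ : ∃ t ∈ closure {Cs 3 F, g * Cs 3 F * g⁻¹}, t.1 = !![1, 0, l; 0, 1, 0; 0, 0, 1] := by
      rcases h2 with h | h
      · exact ⟨s ^ 2, pow_mem hs 2, by rw [e2', h, one_smul]⟩
      · refine ⟨(s ^ 2) ^ 3, pow_mem (pow_mem hs 2) 3, ?_⟩
        rw [Matrix.SpecialLinearGroup.coe_pow, e2', smul_pow, ← pow_mul, a6, one_smul]
        ext i j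
        fin_cases i <;> fin_cases j <;> simp [pow_succ, Matrix.mul_apply, Fin.sum_univ_three]
        linear_combination l * h
    refine ⟨t, ht, fun y => ?_⟩
    ext i
    fin_cases i <;> simp [et, e0, e2, dotProduct, mulVec, Fin.sum_univ_three, mul_comm]
  by_cases h2 : (2 : F) = 0
  · by_cases hr : (x : F) ^ 2 = x + 1
    · have x3 : (x : F) ^ 3 = 1 := by linear_combination (x + 1) * hr + (x : F) * h2
      refine key x 1 (x ^ 2) (.inl x3) (by simp) ?_ (.inr h2) fun S _ h => hS S ?_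
      · ext i j
        fin_cases i <;> fin_cases j <;> simp [pow_succ, Matrix.mul_apply, Fin.sum_univ_three] <;> grind
      · convert h using 1
        linear_combination (-(x : F) ^ 4 - x) * x3
    refine key 1 x (x ^ 2) (.inl (by simp)) (by simp) ?_ (.inr h2) fun S _ h => hS S ?_
    · ext i j
      fin_cases i <;> fin_cases j <;> simp [pow_succ, Matrix.mul_apply, Fin.sum_univ_three] <;> grind
    replace h : (x : F) ^ 3 ∈ S := by convert h using 1; ring
    by_contra hn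
    have h3 : ∀ y : F, y ≠ 0 → ∃ s ∈ S, y = s ∨ y = x * s ∨ y = x ^ 2 * s := fun y y0 => by
      obtain ⟨m, hm⟩ := (Submonoid.mem_powers_iff _ _).1 (mem_powers_iff_mem_zpowers.2 (hx (Units.mk0 y y0)))
      have : y = (x : F) ^ (m % 3) * ((x : F) ^ 3) ^ (m / 3) := by
        rw [← pow_mul, ← pow_add, Nat.mod_add_div]; simpa using congrArg Units.val hm.symm
      refine ⟨_, S.pow_mem h (m / 3), ?_⟩
      rcases (show m % 3 = 0 ∨ m % 3 = 1 ∨ m % 3 = 2 by omega) with e | e | e <;> rw [e] at this <;>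
        simp [this]
    obtain ⟨s, hs, e | e | e⟩ := h3 (x + 1) fun e => hn (by
      rw [eq_neg_of_add_eq_zero_left e]; exact S.neg_mem S.one_mem)
    · exact hn (by rw [eq_sub_of_add_eq e]; exact S.sub_mem hs S.one_mem)
    · have e' : (s - 1) * x = 1 := by linear_combination -e
      exact hn (mem_of_mul S (S.sub_mem hs S.one_mem) (left_ne_zero_of_mul_eq_one e')
        (by rw [e']; exact S.one_mem))
    · have e' : ((x : F) ^ 3 * s ^ 3 - 1) * x = 1 - s := by grind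
      by_cases h4 : (x : F) ^ 3 * s ^ 3 - 1 = 0
      · rw [h4, zero_mul] at e'
        exact hr (by rw [e, (sub_eq_zero.1 e'.symm).symm, mul_one])
      · exact hn (mem_of_mul S (S.sub_mem (S.mul_mem h (S.pow_mem hs 3)) S.one_mem) h4
          (e' ▸ S.sub_mem S.one_mem hs))
  obtain ⟨r, l0, hr⟩ : ∃ r : F, r ^ 2 + 12 ≠ 0 ∧ ∀ S : Subring F, r ∈ S → S = ⊤ := by
    by_cases h : (x : F) ^ 2 + 12 = 0
    · by_cases h' : ((x : F) + 1) ^ 2 + 12 = 0
      · refine ⟨x - 1, fun h'' => h2 (by linear_combination h' + h'' - 2 * h), fun S h => hS S ?_⟩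
        simpa using S.add_mem h S.one_mem
      · exact ⟨x + 1, h', fun S h => hS S (by simpa using S.sub_mem h S.one_mem)⟩
    · exact ⟨x, h, hS⟩
  refine key (-1) r (r ^ 2 + 12) (.inr (by ring)) l0 ?_ (.inl (by ring)) fun S h3 h4 => hr S ?_
  · ext i j
    fin_cases i <;> fin_cases j <;> simp [pow_succ, Matrix.mul_apply, Fin.sum_univ_three] <;> ring
  replace h4 : (r ^ 2 + 12) * r ∈ S := by convert S.neg_mem h4 using 1; ring
  by_cases h5 : (3 : F) = 0
  · have : CharP F 3 := (CharP.charP_iff_prime_eq_zero Nat.prime_three).2 h5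
    obtain ⟨k, -, hk⟩ := FiniteField.card F 3
    have e : r = ((r ^ 2 + 12) * r) ^ 3 ^ ((k : ℕ) - 1) := by
      rw [show (r ^ 2 + 12) * r = r ^ 3 by linear_combination 4 * r * h5, ← pow_mul, ← pow_succ',
        Nat.sub_add_cancel (show 1 ≤ (k : ℕ) from k.2), ← hk, FiniteField.pow_card]
    rw [e]; exact S.pow_mem h4 _
  have h12 : (12 : F) ≠ 0 := fun h => mul_ne_zero (mul_ne_zero h2 h2) h5 (by linear_combination h)
  have h6 : (r ^ 2 + 12) ^ 2 ∈ S := mem_of_mul S (by exact_mod_cast natCast_mem S 12) h12 (by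
    convert S.sub_mem h3 (S.pow_mem h4 2) using 1; ring)
  exact mem_of_mul S (mem_of_mul S h6 (pow_ne_zero 2 l0) (by rwa [← pow_succ])) l0 h4

end Cfsg.Agent.S2278
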