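import Cfsg.Statements.S2279
import Cfsg.Agent.Lib.Lin.SLReg2

set_option autoImplicit false
open Cfsg

namespace Cfsg.Agent.S2279

open Matrix CA.SLTv CA.SLReg Subgroup

/-- Let F be a finite field with q elements and n ≥ 4. Then SL_n(F) is generated by two regular unipotent elements (elements u with u − 1 nilpotent and (u − 1)^(n−1) ≠ 0); if q is prime, the two can be taken conjugate in SL_n(F). -/
theorem result {F : Type*} [Field F] [Fintype F] (n : ℕ) (hn : 4 ≤ n) :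
    (∃ u v : Matrix.SpecialLinearGroup (Fin n) F, (IsNilpotent ((u : Matrix (Fin n) (Fin n) F) - 1) ∧ ((u : Matrix (Fin n) (Fin n) F) - 1) ^ (n - 1) ≠ 0) ∧ (IsNilpotent ((v : Matrix (Fin n) (Fin n) F) - 1) ∧ ((v : Matrix (Fin n) (Fin n) F) - 1) ^ (n - 1) ≠ 0) ∧
      Subgroup.closure ({u, v} : Set (Matrix.SpecialLinearGroup (Fin n) F)) = ⊤) ∧
    ((Fintype.card F).Prime → ∃ u g : Matrix.SpecialLinearGroup (Fin n) F, (IsNilpotent ((u : Matrix (Fin n) (Fin n) F) - 1) ∧ ((u : Matrix (Fin n) (Fin n) F) - 1) ^ (n - 1) ≠ 0) ∧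
      Subgroup.closure ({u, g * u * g⁻¹} : Set (Matrix.SpecialLinearGroup (Fin n) F)) = ⊤) := by
  have hp : (Fintype.card F).Prime → ∀ S : Subring F, (1 : F) ∈ S → S = ⊤ := fun hp S _ => by
    have := Fact.mk (Nat.card_eq_fintype_card (α := F) ▸ hp)
    rcases S.toAddSubgroup.eq_bot_or_eq_top_of_prime_card with h | h
    · have h1 : (1 : F) ∈ S.toAddSubgroup := S.one_mem
      exact absurd (AddSubgroup.mem_bot.1 (h ▸ h1)) one_ne_zero
    · exact eq_top_iff.2 fun x _ => (h ▸ AddSubgroup.mem_top x : x ∈ S.toAddSubgroup)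
  have hu : IsNilpotent ((Cs n F).1 - 1) ∧ ((Cs n F).1 - 1) ^ (n - 1) ≠ 0 :=
    ⟨⟨n, Cm_nilp⟩, Cm_reg (by omega)⟩
  obtain ⟨g, hg⟩ := fam (F := F) hn
  have h2 := hg (closure {Cs n F, g * Cs n F * g⁻¹}) (subset_closure (by simp)) (subset_closure (by simp))
  refine ⟨?_, fun h => ⟨_, g, hu, h2.eq_top (by omega) h2 (hp h)⟩⟩
  by_cases h : (Fintype.card F).Prime
  · obtain ⟨v, h1, h3, h4⟩ := exists_conj (M := (g⁻¹).1) (by rw [(g⁻¹).2]; exact one_ne_zero)
    have : g⁻¹ * v = Cs n F * g⁻¹ := Subtype.ext h1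
    obtain rfl : v = g * Cs n F * g⁻¹ := by rw [mul_assoc, ← this]; group
    exact ⟨_, _, hu, ⟨h3, h4 (by omega)⟩, h2.eq_top (by omega) h2 (hp h)⟩
  obtain ⟨a, ha, hS⟩ := exists_gen F
  have a2 : (a : F) * a ≠ 1 := fun e => by
    have h1 : orderOf a ∣ 2 := orderOf_dvd_of_pow_eq_one (by ext; simpa [sq] using e)
    rw [orderOf_eq_card_of_forall_mem_zpowers ha, Nat.card_units, Nat.card_eq_fintype_card] at h1
    have h3 := Nat.le_of_dvd two_pos h1
    have h4 : 1 < Fintype.card F := Fintype.one_lt_card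
    rcases (show Fintype.card F = 2 ∨ Fintype.card F = 3 by omega) with e | e <;>
      exact h (by rw [e]; norm_num)
  obtain ⟨M, hM, h3⟩ := famII a.ne_zero a2 hn
  obtain ⟨v, h4, h5, h6⟩ := exists_conj hM
  obtain ⟨h7, h8⟩ := h3 v h4 (closure {Cs n F, v}) (subset_closure (by simp)) (subset_closure (by simp))
  exact ⟨_, v, hu, ⟨h5, h6 (by omega)⟩, h7.eq_top (by omega) h8 hS⟩

end Cfsg.Agent.S2279
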