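import Cfsg.Statements.S2834
import Cfsg.Agent.Lib.Loc.AmbChar
import Cfsg.Agent.Lib.Loc.AmbM
-- import your own Cfsg.Agent.* helpers here

set_option autoImplicit false
open Cfsg

namespace Cfsg.Agent.S2834

section Aux
open Subgroup Cfsg CA.Amb CA.AmbSyl CA.AmbCore CA.AmbRes CA.AmbChar CA.AmbWC CA.AmbSpe CA.AmbRed CA.AmbFs CA.AmbM
open scoped commutatorElement

theorem aux {H : Type*} [Group H] [Finite H] {p : ℕ} [Fact p.Prime] {T M A : Subgroup H}
    (hT : SylIn p T ⊤) (hn : ncl T ⊤ = ⊤) (hM : UMax T M ⊤) (hAT : A ≤ T) (hA : ¬ A ≤ pCore p H) :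
    ∃ L g, UMax (A ⊔ pCoreOf p L) (L ⊓ cj g M) L ∧
      ∀ x ∈ L, x ∉ cj g M → (A ⊔ cj x A) ⊔ pCoreOf p L = L := by
  have hsp : ∀ X, weakClosure A (weakClosure A X) = weakClosure A X := fun X =>
    le_antisymm (weakClosure_le _ _) (weakClosure_le_iff.2 fun g hg =>
      cj_le_weakClosure (cj_le_weakClosure hg))
  obtain ⟨Y₀, ⟨y1, y2, y3, y4⟩, hmax⟩ := Set.exists_max_image
    {Y : Subgroup H | IsPGroup p Y ∧ Y ≤ M ∧ weakClosure A Y = Y ∧ ¬ 𝐍 Y ≤ M} (fun Y => Nat.card Y)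
    (Set.toFinite _)
    ⟨⊥, IsPGroup.of_bot, bot_le, le_bot_iff.1 (weakClosure_le _ _), by
      rw [CA.Amb.normalizer_bot]; exact hM.not_le⟩
  have hcjw : ∀ g X, cj g (weakClosure A X) = weakClosure A (cj g X) := by
    have : ∀ g X, cj g (weakClosure A X) ≤ weakClosure A (cj g X) := fun g X =>
      cj_le_iff.2 (weakClosure_le_iff.2 fun a ha => by
        rw [le_cj_iff, inv_inv, cj_cj]
        exact cj_le_weakClosure (by rw [← cj_cj]; exact cj_mono g ha))
    intro g X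
    refine le_antisymm (this g X) (le_cj_iff.2 ((this _ _).trans (by rw [cj_inv_cj])))
  have hTM := hT.mono hM.le le_top
  obtain ⟨m, hm, hYT⟩ := hTM.exists_conj_le y1 y2
  set Y := cj m Y₀ with hYd
  have hY3 : weakClosure A Y = Y := by rw [hYd, ← hcjw, y3]
  have hY4 : ¬ 𝐍 Y ≤ M := by rwa [hYd, ← cj_normalizer, cj_le_iff, cj_eq_self_of_mem (inv_mem hm)]
  have hbig : ∀ (g : H) (X : Subgroup H), IsPGroup p X → X ≤ cj g M → weakClosure A X = X →
      Nat.card Y < Nat.card X → 𝐍 X ≤ cj g M := by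
    intro g X x1 x2 x3 x4
    by_contra hne
    have := hmax (cj g⁻¹ X) ⟨isPGroup_cj x1 _, le_cj_iff.1 x2, by rw [← hcjw, x3], by
      rwa [← cj_normalizer, ← le_cj_iff]⟩
    simp only [card_cj, hYd] at this x4
    omega
  have huniq : ∀ (g : H) (X : Subgroup H), IsPGroup p X → X ≤ M → X ≤ cj g M →
      Nat.card Y < Nat.card (weakClosure A X) → g ∈ M := by
    intro g X x1 x2 x3 x4
    obtain ⟨S, hS, x5⟩ := exists_sylIn_ge x1 (le_inf x2 x3)
    have x6 : Nat.card Y < Nat.card (weakClosure A S) :=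
      x4.trans_le (card_le_of_le (weakClosure_mono A x5))
    have x7 := hS.pg.to_le (weakClosure_le A S)
    have x8 : 𝐍 S ≤ M ⊓ cj g M := (normalizer_le_weakClosure A S).trans (le_inf
      ((hbig 1 _ x7 ((weakClosure_le A S).trans (hS.le.trans (by rw [cj_one]; exact inf_le_left)))
        (hsp S) x6).trans (cj_one M).le)
      (hbig g _ x7 ((weakClosure_le A S).trans (hS.le.trans inf_le_right)) (hsp S) x6))
    have x9 : SylIn p S ⊤ := sylIn_of_normalizer (hS.mono (le_inf le_top le_normalizer)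
      (inf_le_right.trans x8))
    obtain ⟨a, ha, e⟩ := (x9.mono (hS.le.trans inf_le_left) le_top).exists_conj hTM
    have x10 : T ≤ cj (a * g) M := by
      rw [← e, ← cj_cj]; exact cj_mono a (hS.le.trans inf_le_right)
    have x11 := hM.max' x10 le_top fun e => hM.lt.ne (cj_eq_top.1 (top_le_iff.1 e))
    have x12 := hM.inf_normalizer_le hn hM.le le_rfl ⟨mem_top _, mem_normalizer_of_cj_le x11⟩
    simpa using mul_mem (inv_mem ha) x12
  have hB : ∃ h, cj h A ≤ T ⊓ 𝐍 Y ∧ ¬ cj h A ≤ Y := by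
    by_contra hne
    push Not at hne
    have h1 : weakClosure A (T ⊓ 𝐍 Y) = Y := le_antisymm (weakClosure_le_iff.2 hne)
      (hY3.ge.trans (weakClosure_mono A (le_inf hYT le_normalizer)))
    have h2 : T ⊓ 𝐍 Y = T := eq_of_inf_normalizer_le hT.pg inf_le_left (inf_le_inf_left _
      ((normalizer_le_weakClosure A _).trans (by rw [h1])))
    have h3 := hM.eq_of_not_le (h2.ge.trans inf_le_right) le_top hY4
    rw [h2] at h1
    refine hA (le_trans ?_ (CA.AmbCore.le_pCore (normal_iff_top_le.2 h3.ge) (hT.pg.to_le hYT)))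
    have h4 : cj 1 A ≤ weakClosure A T := cj_le_weakClosure ((cj_one A).le.trans hAT)
    exact (cj_one A).ge.trans (h4.trans h1.le)
  obtain ⟨h, hB1, hB2⟩ := hB
  set B := cj h A with hBd
  have hBY : ∀ X, B ⊔ Y ≤ X → Nat.card Y < Nat.card (weakClosure A X) := fun X hX =>
    card_lt_of_lt (lt_of_le_not_ge (hY3.ge.trans (weakClosure_mono A (le_sup_right.trans hX)))
      fun e => hB2 ((cj_le_weakClosure (le_sup_left.trans hX)).trans e))
  have hBT : B ⊔ Y ≤ T := sup_le (hB1.trans inf_le_left) hYT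
  obtain ⟨L, ⟨l1, l2, l3⟩, hmin⟩ := WellFounded.has_min (wellFounded_lt (α := Subgroup H))
    {L | B ⊔ Y ≤ L ∧ L ≤ 𝐍 Y ∧ ¬ L ≤ M} ⟨𝐍 Y, sup_le (hB1.trans inf_le_right) le_normalizer, le_rfl, hY4⟩
  have hU : UMax (B ⊔ Y) (L ⊓ M) L := ⟨le_inf l1 (hBT.trans hM.le), inf_lt_left.2 l3, fun X x1 x2 =>
    le_inf x2.le (by by_contra hne; exact hmin X ⟨x1, x2.le.trans l2, hne⟩ x2)⟩
  have hYO : Y ≤ pCoreOf p L := le_pCoreOf (le_sup_right.trans l1) (hT.pg.to_le hYT) l2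
  have hBL : B ≤ L := le_sup_left.trans l1
  have hO : pCoreOf p L ≤ M := by
    by_contra hne
    have h1 := hU.eq_of_not_le (sup_le_sup_left hYO B) (sup_le hBL (pCoreOf_le _ _))
      fun e => hne (le_sup_right.trans (e.trans inf_le_right))
    have h2 : IsPGroup p L := h1 ▸ isPGroup_sup_of_norm (hT.pg.to_le (hB1.trans inf_le_left))
      (isPGroup_pCoreOf p L) (hBL.trans (norm_pCoreOf p L))
    obtain ⟨x, x1, x2, x3⟩ := exists_mem_normalizer_not_mem h2 hU.lt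
    have h3 := hbig 1 _ (h2.to_le ((weakClosure_le A (L ⊓ M)).trans inf_le_left))
      ((weakClosure_le A _).trans (by rw [cj_one]; exact inf_le_right)) (hsp _) (hBY _ hU.le)
    rw [cj_one] at h3
    exact x3 ⟨x1, h3 (normalizer_le_weakClosure A _ x2)⟩
  have hU' : UMax (B ⊔ pCoreOf p L) (L ⊓ M) L := hU.mono (sup_le_sup_left hYO B)
    (sup_le (le_sup_left.trans hU.le) (le_inf (pCoreOf_le _ _) hO))
  have hgen : ∀ x ∈ L, x ∉ M → (B ⊔ cj x B) ⊔ pCoreOf p L = L := by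
    intro x hx hxM
    refine hU'.eq_of_not_le (sup_le_sup_right le_sup_left _)
      (sup_le (sup_le hBL (cj_le_of_mem hBL hx)) (pCoreOf_le _ _)) fun e => hxM ?_
    have h1 := huniq x⁻¹ (B ⊔ Y) (hT.pg.to_le hBT) (hBT.trans hM.le) (by
      rw [← cj_le_iff, cj_sup, cj_eq_self (l2 hx)]
      exact sup_le (le_sup_right.trans (le_sup_left.trans (e.trans inf_le_right))) (hYT.trans hM.le))
      (hBY _ le_rfl)
    simpa using inv_mem h1
  refine ⟨cj h⁻¹ L, h⁻¹, ?_, fun x hx hxM => ?_⟩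
  · have := hU'.conj h⁻¹
    rwa [cj_sup, cj_inf, cj_pCoreOf, hBd, cj_inv_cj] at this
  · have := congrArg (cj h⁻¹) (hgen (h * x * h⁻¹) (mem_cj_inv.1 hx) fun e => hxM (mem_cj_inv.2 e))
    rwa [cj_sup, cj_sup, cj_pCoreOf, hBd, cj_inv_cj, cj_cj, cj_cj,
      show h⁻¹ * (h * x * h⁻¹) * h = x by group] at this

end Aux

/-- The L-Lemma: let H be a finite group with Sylow p-subgroup T such that H is T-minimal (generated by the conjugates of T, T in exactly one maximal subgroup M), and let A ≤ T with A not contained in O_p(H). Then there is a subgroup L of H containing A·O_p(H) such that (a) A·O_p(L) lies in exactly one maximal subgroup L₀ of L, and L₀ = L ∩ gMg⁻¹ for some g ∈ H; (b) L = ⟨A, xAx⁻¹⟩·O_p(L) for every x ∈ L outside L₀. -/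
theorem result {H : Type*} [Group H] [Finite H] {p : ℕ} [Fact p.Prime] (T : Sylow p H) (hmin : Cfsg.IsMinimalOver (T : Subgroup H)) (M : Subgroup H) (hM : IsCoatom M ∧ (T : Subgroup H) ≤ M) (A : Subgroup H) (hAT : A ≤ (T : Subgroup H)) (hA : ¬ A ≤ Cfsg.pCore p H) : ∃ L : Subgroup H, A ⊔ Cfsg.pCore p H ≤ L ∧ ∃ L₀ : Subgroup H, A ⊔ (Cfsg.pCoreOf p L) ≤ L₀ ∧ L₀ < L ∧ (∀ X : Subgroup H, A ⊔ (Cfsg.pCoreOf p L) ≤ X → X < L → X ≤ L₀) ∧ (∃ g : H, L₀ = L ⊓ ((M : Subgroup H).map (MulAut.conj (g : H)).toMonoidHom)) ∧ ∀ x ∈ L, x ∉ L₀ → (A ⊔ ((A : Subgroup H).map (MulAut.conj (x : H)).toMonoidHom)) ⊔ (Cfsg.pCoreOf p L) = L := by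
  open Subgroup Cfsg CA.Amb CA.AmbSyl CA.AmbCore CA.AmbRes CA.AmbChar CA.AmbWC CA.AmbSpe CA.AmbRed CA.AmbFs CA.AmbM in
  open scoped commutatorElement in
  (
    have hT := sylIn_top T
    obtain ⟨L, g, h1, h2⟩ := aux (A := A ⊔ pCore p H) hT (isMinimalOver_iff.1 hmin).1
      (umax_of_coatom hmin.2 hM.1 hM.2) (sup_le hAT (CA.AmbCore.pCore_le_sylow T))
      fun e => hA (le_sup_left.trans e)
    have h3 : A ⊔ pCore p H ≤ L := le_sup_left.trans (h1.le.trans inf_le_left)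
    have h4 : pCore p H ≤ pCoreOf p L :=
      le_pCoreOf (le_sup_right.trans h3) (CA.AmbCore.isPGroup_pCore p H) norm_of_normal
    rw [sup_assoc, sup_eq_right.2 h4] at h1
    refine ⟨L, h3, L ⊓ cj g M, h1.le, h1.lt, h1.2.2, ⟨g, rfl⟩, fun x hx hx' => ?_⟩
    refine le_antisymm (sup_le (sup_le (le_sup_left.trans h3) (cj_le_of_mem (le_sup_left.trans h3) hx))
      (pCoreOf_le _ _)) ((h2 x hx fun e => hx' ⟨hx, e⟩).ge.trans ?_)
    rw [cj_sup, cj_eq_self_of_normal x (pCore p H)]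
    exact sup_le (sup_le (sup_le (le_sup_of_le_left le_sup_left) (le_sup_of_le_right h4))
      (sup_le (le_sup_of_le_left le_sup_right) (le_sup_of_le_right h4))) le_sup_right)

end Cfsg.Agent.S2834
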