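import Cfsg.Agent.Lib.Grp.SchurLow
import Cfsg.Agent.Lib.Spor.H22Link
import Cfsg.Agent.Lib.Spor.H28J2
-- Template for statement S2040 (row 2040; see /opt/grader/pristine/manifest.json for weights).
-- Copy to Cfsg/Agent/S2040.lean and replace the sorry. The statement below is byte-identical to the frozen
-- statement Cfsg.CfsgFrozen.S2040 (Cfsg/Statements/S2040.lean; the theorem Cfsg.kfact_multiplier_j2);
-- the grader kernel-checks Cfsg.Agent.S2040.result against that frozen type. Keep the theorem IN THIS FILE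
-- (a `result` declared elsewhere and merely imported here is not credited); helpers may live anywhere
-- under Cfsg/Agent/.
import Cfsg.Statements.S2040
-- import your own Cfsg.Agent.* helpers here

set_option autoImplicit false
open Cfsg

set_option autoImplicit false
set_option maxRecDepth 100000

namespace Cfsg.Agent.S2040
open Cfsg CA.SchurHopf CA.SchurPc CA.SchurCG CA.SchurLow CA.CWord CA.CNet CA.CLevel CA.CSimple CA.CPoint CA.CTodd CA.CLow
universe u
noncomputable section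
def t0 : Net := [(nat_lit 0x5155010111115104150500040, nat_lit 1),
  (nat_lit 0x1300022320220010322000, nat_lit 2),
  (nat_lit 0x609040c020e0a0d04030603, nat_lit 4),
  (nat_lit 0xee001300f300b3009a008a, nat_lit 8),
  (nat_lit 0x76ad000094b60000a0c0, nat_lit 16),
  (nat_lit 0xf0000000000f81e69, nat_lit 32),
  (nat_lit 0xb7a0d8be3, nat_lit 64),
  (nat_lit 0x80d8160, nat_lit 32),
  (nat_lit 0x40870000108600000009, nat_lit 16),
  (nat_lit 0x50029001b007b000b000a, nat_lit 8),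
  (nat_lit 0x402040c0b020a050c010403, nat_lit 4),
  (nat_lit 0x3212112023110200233000020, nat_lit 2),
  (nat_lit 0x4455110010545004115510010, nat_lit 1)]
def t1 : Net := [(nat_lit 0x514454155141110501545404, nat_lit 1),
  (nat_lit 0x2033112221023020301031100, nat_lit 2),
  (nat_lit 0xc0d01030f0502090b06010a, nat_lit 4),
  (nat_lit 0x3a00c700dd00cb00570040, nat_lit 8),
  (nat_lit 0xdc69000090340000684e, nat_lit 16),
  (nat_lit 0x100000000ca3df0e4, nat_lit 32),
  (nat_lit 0xa413dbe76, nat_lit 64),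
  (nat_lit 0x40000000001052420, nat_lit 32),
  (nat_lit 0x5116000007cc00000008, nat_lit 16),
  (nat_lit 0x67008700c8004a00ec0000, nat_lit 8),
  (nat_lit 0x2090b0f0e0f060e0205050a, nat_lit 4),
  (nat_lit 0x3012022301020020121003110, nat_lit 2),
  (nat_lit 0x510451101545540541515000, nat_lit 1)]
def t2 : Net := [(nat_lit 0x104045540501045155440000, nat_lit 1),
  (nat_lit 0x3021223323203213120300310, nat_lit 2),
  (nat_lit 0x805090e060e020c05040400, nat_lit 4),
  (nat_lit 0x3c004a000000d8007e0052, nat_lit 8),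
  (nat_lit 0x8fd0000f85b000051d0, nat_lit 16),
  (nat_lit 0xb0000000096e5e73c, nat_lit 32),
  (nat_lit 0x6d6d502, nat_lit 64),
  (nat_lit 0x20000000006c4c500, nat_lit 32),
  (nat_lit 0xdd0000a00900000000, nat_lit 16),
  (nat_lit 0x2c00180050008800220002, nat_lit 8),
  (nat_lit 0x805090e060e020c05040400, nat_lit 4),
  (nat_lit 0x3021203323203213120300310, nat_lit 2),
  (nat_lit 0x104045540501045155440000, nat_lit 1)]
def t3 : Net := [(nat_lit 0x414444005501414505044000, nat_lit 1),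
  (nat_lit 0x3222330310103331030100300, nat_lit 2),
  (nat_lit 0x205080e0d010a0b04040303, nat_lit 4),
  (nat_lit 0x2b009e001a0051000c0098, nat_lit 8),
  (nat_lit 0x1ba90000aa4500000002, nat_lit 16),
  (nat_lit 0x700000000660c07a6, nat_lit 32),
  (nat_lit 0x85fd607a1, nat_lit 64),
  (nat_lit 0x10000000042160780, nat_lit 32),
  (nat_lit 0x19a00000200600000000, nat_lit 16),
  (nat_lit 0x6b009e001a0041000c0000, nat_lit 8),
  (nat_lit 0x405080e09010a0900000101, nat_lit 4),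
  (nat_lit 0x3222220310003331030000300, nat_lit 2),
  (nat_lit 0x414444004501414505044000, nat_lit 1)]
def C : Ctx := ⟨100, 7, [t0, t1, t2, t3, CA.J2Perm100.t0, CA.J2Perm100.t1]⟩
theorem hC : C.ok = true := by decide +kernel
noncomputable def lk : ℕ → ℕ → ℕ := look C 64
theorem hlk : Good C lk := good_look hC (by decide +kernel)
abbrev gens : List Word := sg 4
def rels : List Word := [[0,0,0], [2,2,2,2], [0,2,0,2,0,2,0,2], [0,2,1,2,1,3,0,3], [4,4], [0,4,1,4], [2,4,2,4,2,4], [0,2,0,2,4,3,1,3,4,2,0,2,4], [6,6], [0,6,1,6], [2,2,6,2,2,6,2,2,6], [0,3,4,2,1,6,2,6,3,6], [0,2,2,6,4,2,0,2,2,6,4,2]]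
namespace T3
noncomputable def A_0 : List (ℕ) := [nat_lit 0x2020120100a00]
noncomputable def A : List (List (ℕ)) := [A_0]
noncomputable def K_0 : List (ℕ) := [nat_lit 0x4060000]
noncomputable def K : List (List (ℕ)) := [K_0]
noncomputable def R_0 : List (Rule) := [Rule.mk (nat_lit 1) (nat_lit 19) (Steps.bwd (nat_lit 1) (Steps.bwd (nat_lit 1) Steps.nil)) (nat_lit 0) (nat_lit 0)]
noncomputable def R : List (List (Rule)) := [R_0]
def LW : List Word := [[], [0], [1]]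
def par : Par := ⟨9, 2, 11, 20, 511, 2047, 1048575⟩
theorem hpar : par.ok := by decide
theorem hR0_0 : lall (R) (fun l => lall l (ruleOK rels LW par)) = true := by decide +kernel
theorem hR0 : lall (R) (fun l => lall l (ruleOK rels LW par)) = true := hR0_0
theorem hR : RulesOK rels LW par R := rulesOK_of rfl hR0
def cols : List (ℕ × ℕ) := [(512, 2)]
theorem hcols : lall cols (colOK rels LW par) = true := by decide +kernel
noncomputable def JS0 : List ℕ := [nat_lit 0x401]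
theorem S0_c : blocks (facts 9 2 11 20 511 2047 1048575 9 511 1 1 A R 32) 32 JS0 257 = true := by decide +kernel
theorem S0 : On (Step.{u} rels LW par A) 257 289 :=
  steps_of_blocks hpar hR S0_c (by decide +kernel)
theorem D0_c : allB (defOK 9 11 20 511 1048575 258 A K) 1 2 = true := by decide +kernel
theorem D0 : On (fun r => defOK par.W par.WL par.E par.mW par.mE 258 A K r = true) 256 384 :=
  On.of_allB D0_c
noncomputable def JW0 : List ℕ := [nat_lit 0x3e10042]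
theorem W0_c : blocks (rows 9 2 11 20 511 2047 1048575 10 1023 10 A 289 3 cols 128) 128 JW0 0 = true := by decide +kernel
theorem W0 : On (Row.{u} rels LW par A 289 3 cols) 0 128 :=
  rows_of_blocks hpar (by decide) hcols W0_c (by decide +kernel)
theorem idx : Idx.{u} rels [[0]] [] 3 :=
  idx_of_cert hpar hR (K := K) (by decide +kernel) (T := 258) (T' := 384) (by decide) D0
    (subs := []) (by decide +kernel) (T1 := 257) (by decide) (N := 289) S0
    (by decide) (n' := 128) (by decide) W0 (by decide +kernel) (by decide +kernel)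
end T3
theorem b3 : Bound.{u} rels [[0]] 3 := .of_idx T3.idx (.nil _) (by decide)
namespace T2
noncomputable def A_0 : List (ℕ) := [nat_lit 0xb90b85985c3e43e1e61f0930f06d07830c2c1b2180740d83d03c348341481a0940e85487433028154190540a82c858384381081c03c0802882826426088130490a01a03810424076110290680881c02408018050010005d8303ec3a1e4180c40606e03c1f00c1a80d0e90c8658342b016162100e40884082c170080a60409c048508381c412098030910884482010c060d20c0610281c8180c40404203019008160080500001600]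
noncomputable def A : List (List (ℕ)) := [A_0]
noncomputable def K_0 : List (ℕ) := [nat_lit 0x8ec722f138d4622d1b8f4522b0e87c2e15128cc36110788c42190983416050481c060000]
noncomputable def K : List (List (ℕ)) := [K_0]
noncomputable def R_0 : List (Rule) := [Rule.mk (nat_lit 4) (nat_lit 32) (Steps.bwd (nat_lit 4) (Steps.bwd (nat_lit 4) (Steps.fwd (nat_lit 1536) Steps.nil))) (nat_lit 3) (nat_lit 0),
  Rule.mk (nat_lit 1) (nat_lit 23) (Steps.bwd (nat_lit 1) (Steps.bwd (nat_lit 1) Steps.nil)) (nat_lit 0) (nat_lit 0),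
  Rule.mk (nat_lit 3) (nat_lit 68) (Steps.bwd (nat_lit 1) (Steps.bwd (nat_lit 3) (Steps.bwd (nat_lit 1) (Steps.bwd (nat_lit 3) (Steps.bwd (nat_lit 1) (Steps.fwd (nat_lit 2048) (Steps.bwd (nat_lit 1) Steps.nil))))))) (nat_lit 4) (nat_lit 0),
  Rule.mk (nat_lit 4) (nat_lit 68) (Steps.bwd (nat_lit 1) (Steps.bwd (nat_lit 4) (Steps.bwd (nat_lit 1) (Steps.bwd (nat_lit 3) (Steps.fwd (nat_lit 512) (Steps.fwd (nat_lit 2048) (Steps.fwd (nat_lit 512) Steps.nil))))))) (nat_lit 6) (nat_lit 6),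
  Rule.mk (nat_lit 1) (nat_lit 68) (Steps.bwd (nat_lit 4) (Steps.fwd (nat_lit 512) (Steps.fwd (nat_lit 2048) (Steps.fwd (nat_lit 512) (Steps.bwd (nat_lit 3) (Steps.bwd (nat_lit 1) (Steps.bwd (nat_lit 4) Steps.nil))))))) (nat_lit 7) (nat_lit 6),
  Rule.mk (nat_lit 1) (nat_lit 68) (Steps.bwd (nat_lit 3) (Steps.fwd (nat_lit 512) (Steps.bwd (nat_lit 3) (Steps.fwd (nat_lit 512) (Steps.fwd (nat_lit 1536) (Steps.bwd (nat_lit 1) (Steps.fwd (nat_lit 1536) Steps.nil))))))) (nat_lit 6) (nat_lit 1),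
  Rule.mk (nat_lit 4) (nat_lit 68) (Steps.bwd (nat_lit 1) (Steps.bwd (nat_lit 4) (Steps.bwd (nat_lit 1) (Steps.fwd (nat_lit 2048) (Steps.fwd (nat_lit 512) (Steps.fwd (nat_lit 2048) (Steps.fwd (nat_lit 512) Steps.nil))))))) (nat_lit 6) (nat_lit 6),
  Rule.mk (nat_lit 4) (nat_lit 32) (Steps.bwd (nat_lit 4) (Steps.fwd (nat_lit 1536) (Steps.bwd (nat_lit 4) Steps.nil))) (nat_lit 3) (nat_lit 0),
  Rule.mk (nat_lit 1) (nat_lit 68) (Steps.bwd (nat_lit 4) (Steps.bwd (nat_lit 1) (Steps.bwd (nat_lit 3) (Steps.fwd (nat_lit 512) (Steps.fwd (nat_lit 2048) (Steps.fwd (nat_lit 512) (Steps.bwd (nat_lit 4) Steps.nil))))))) (nat_lit 6) (nat_lit 7),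
  Rule.mk (nat_lit 2) (nat_lit 68) (Steps.bwd (nat_lit 3) (Steps.fwd (nat_lit 512) (Steps.bwd (nat_lit 4) (Steps.bwd (nat_lit 1) (Steps.bwd (nat_lit 4) (Steps.bwd (nat_lit 1) (Steps.fwd (nat_lit 2048) Steps.nil))))))) (nat_lit 6) (nat_lit 3),
  Rule.mk (nat_lit 4) (nat_lit 68) (Steps.fwd (nat_lit 512) (Steps.bwd (nat_lit 4) (Steps.fwd (nat_lit 512) (Steps.fwd (nat_lit 1536) (Steps.fwd (nat_lit 512) (Steps.bwd (nat_lit 4) (Steps.bwd (nat_lit 2) Steps.nil))))))) (nat_lit 5) (nat_lit 1),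
  Rule.mk (nat_lit 1) (nat_lit 23) (Steps.bwd (nat_lit 1) (Steps.fwd (nat_lit 1024) Steps.nil)) (nat_lit 0) (nat_lit 0),
  Rule.mk (nat_lit 4) (nat_lit 68) (Steps.bwd (nat_lit 1) (Steps.bwd (nat_lit 4) (Steps.bwd (nat_lit 1) (Steps.fwd (nat_lit 2048) (Steps.fwd (nat_lit 512) (Steps.bwd (nat_lit 3) (Steps.fwd (nat_lit 512) Steps.nil))))))) (nat_lit 6) (nat_lit 6),
  Rule.mk (nat_lit 2) (nat_lit 68) (Steps.bwd (nat_lit 4) (Steps.fwd (nat_lit 512) (Steps.bwd (nat_lit 4) (Steps.fwd (nat_lit 512) (Steps.bwd (nat_lit 4) (Steps.fwd (nat_lit 512) (Steps.bwd (nat_lit 4) Steps.nil))))))) (nat_lit 5) (nat_lit 0),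
  Rule.mk (nat_lit 2) (nat_lit 68) (Steps.bwd (nat_lit 4) (Steps.bwd (nat_lit 1) (Steps.bwd (nat_lit 4) (Steps.bwd (nat_lit 1) (Steps.fwd (nat_lit 2048) (Steps.fwd (nat_lit 512) (Steps.fwd (nat_lit 2048) Steps.nil))))))) (nat_lit 6) (nat_lit 5),
  Rule.mk (nat_lit 4) (nat_lit 32) (Steps.bwd (nat_lit 4) (Steps.bwd (nat_lit 4) (Steps.bwd (nat_lit 4) Steps.nil))) (nat_lit 3) (nat_lit 0),
  Rule.mk (nat_lit 1) (nat_lit 68) (Steps.bwd (nat_lit 4) (Steps.bwd (nat_lit 1) (Steps.fwd (nat_lit 2048) (Steps.fwd (nat_lit 512) (Steps.fwd (nat_lit 2048) (Steps.fwd (nat_lit 512) (Steps.bwd (nat_lit 4) Steps.nil))))))) (nat_lit 6) (nat_lit 7),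
  Rule.mk (nat_lit 3) (nat_lit 68) (Steps.bwd (nat_lit 1) (Steps.fwd (nat_lit 2048) (Steps.bwd (nat_lit 1) (Steps.fwd (nat_lit 2048) (Steps.fwd (nat_lit 1024) (Steps.fwd (nat_lit 2048) (Steps.bwd (nat_lit 1) Steps.nil))))))) (nat_lit 4) (nat_lit 0),
  Rule.mk (nat_lit 2) (nat_lit 23) (Steps.bwd (nat_lit 2) (Steps.fwd (nat_lit 512) Steps.nil)) (nat_lit 1) (nat_lit 0),
  Rule.mk (nat_lit 3) (nat_lit 68) (Steps.bwd (nat_lit 2) (Steps.bwd (nat_lit 4) (Steps.bwd (nat_lit 1) (Steps.bwd (nat_lit 4) (Steps.bwd (nat_lit 1) (Steps.bwd (nat_lit 3) (Steps.fwd (nat_lit 512) Steps.nil))))))) (nat_lit 6) (nat_lit 4),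
  Rule.mk (nat_lit 3) (nat_lit 32) (Steps.bwd (nat_lit 3) (Steps.fwd (nat_lit 2048) (Steps.bwd (nat_lit 3) Steps.nil))) (nat_lit 2) (nat_lit 0),
  Rule.mk (nat_lit 1) (nat_lit 68) (Steps.bwd (nat_lit 3) (Steps.bwd (nat_lit 1) (Steps.bwd (nat_lit 3) (Steps.bwd (nat_lit 1) (Steps.fwd (nat_lit 2048) (Steps.fwd (nat_lit 1024) (Steps.bwd (nat_lit 3) Steps.nil))))))) (nat_lit 4) (nat_lit 1),
  Rule.mk (nat_lit 1) (nat_lit 68) (Steps.bwd (nat_lit 3) (Steps.bwd (nat_lit 1) (Steps.fwd (nat_lit 2048) (Steps.bwd (nat_lit 1) (Steps.fwd (nat_lit 2048) (Steps.bwd (nat_lit 1) (Steps.bwd (nat_lit 3) Steps.nil))))))) (nat_lit 4) (nat_lit 1)]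
noncomputable def R : List (List (Rule)) := [R_0]
def LW : List Word := [[], [0], [1], [2], [3], [0], [1]]
def par : Par := ⟨9, 3, 12, 21, 511, 4095, 2097151⟩
theorem hpar : par.ok := by decide
theorem hR0_0 : lall (R) (fun l => lall l (ruleOK rels LW par)) = true := by decide +kernel
theorem hR0 : lall (R) (fun l => lall l (ruleOK rels LW par)) = true := hR0_0
theorem hR : RulesOK rels LW par R := rulesOK_of rfl hR0
def cols : List (ℕ × ℕ) := [(512, 2), (1536, 4)]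
theorem hcols : lall cols (colOK rels LW par) = true := by decide +kernel
noncomputable def JS0 : List ℕ := [nat_lit 0x405a1d0f0dc417020883f5000804234130943f6000203d51785830381987c3d4008766000f0083e3206892400150ac6817180722100e87201c180d02c3418071e00130385e3208871c020e86d027070b018240086da010d30000103080582404ac341d020345a0c0ca83c1d0c8436191000341b1408c441948000e184090081d0f098321838641029050a4101930003c04110083619287836180864302100900c25110643040d0644011101046200d06461b0d08381b10743820f8783a1]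
theorem S0_c : blocks (facts 9 3 12 21 511 4095 2097151 9 511 5 31 A R 32) 32 JS0 287 = true := by decide +kernel
theorem S0 : On (Step.{u} rels LW par A) 287 319 :=
  steps_of_blocks hpar hR S0_c (by decide +kernel)
theorem D0_c : allB (defOK 9 12 21 511 2097151 287 A K) 1 2 = true := by decide +kernel
theorem D0 : On (fun r => defOK par.W par.WL par.E par.mW par.mE 287 A K r = true) 256 384 :=
  On.of_allB D0_c
noncomputable def JW0 : List ℕ := [nat_lit 0x1804020471101a1642412c0b13c15074501240e00800030221541f05c301842c064340d86809c561341304462148381086e1745a0842a19c640bc6a0a43a0cc721ec701783c1b0761f4740fc781f840]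
theorem W0_c : blocks (rows 9 3 12 21 511 4095 2097151 10 1023 20 A 319 32 cols 64) 64 JW0 0 = true := by decide +kernel
theorem W0 : On (Row.{u} rels LW par A 319 32 cols) 0 64 :=
  rows_of_blocks hpar (by decide) hcols W0_c (by decide +kernel)
theorem idx : Idx.{u} rels [[0], [2]] [[0]] 32 :=
  idx_of_cert hpar hR (K := K) (by decide +kernel) (T := 287) (T' := 384) (by decide) D0
    (subs := [1]) (by decide +kernel) (T1 := 287) (by decide) (N := 319) S0
    (by decide) (n' := 64) (by decide) W0 (by decide +kernel) (by decide +kernel)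
end T2
theorem b2 : Bound.{u} rels [[0], [2]] 96 := .of_idx T2.idx b3 (by decide)
namespace T1
noncomputable def A_0 : List (ℕ) := [nat_lit 0x784371a08dc6aa371620dc6843c1ea8f076a3413a0d06a43b1e88ec7a83b1d20f47c6361f20d86ca361808d872a3e1d08f8582331408b03aa2c16a8e05ea3a0fa8b86422e1588c060a301198c056a2b1498ac4821b15106c18a1b11a05c20a2313888c548270b889c4842a14a0906442919a0c8666321410cc2e8281ca0e45a4391798b44262f18a8c4622311318c4326120998643241905882c3060b0618604a4180f90942c61f10a07838a20071880402200e10701a81c0608682441a029830286260e88984421d082088224110aa8442a21504a0541421603a04028a140488501061309a84c12a090728843c4210790781e60f03083810a050108140e40801901c0660600980c02401001800002001ba0f0788381a20d47682e1e90d46a82a1b08ac7c2381618e07023a1d18b85c2291818a05661b0d98904621713a85854a1a12284852a1819289466a261428882ea0a1c90bc5e42d169878626250ca82c166050c107c4a6140f9838406160e20683481d061048246081308883a80d112044228070aa0282c210080828148040a084c262090498104240f0f28341ea060708341a2060288101040303a8100820203180806a0201180402a00]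
noncomputable def A : List (List (ℕ)) := [A_0]
noncomputable def K_0 : List (ℕ) := [nat_lit 0x4da733c9d4ce4b349ecde713b944a64531924ca4735984b2552796c5e3d2b97456191c8ec2e2d1b97c6a431f9344a270f874622911854261119904421b0682c0e0f04814060000]
noncomputable def K : List (List (ℕ)) := [K_0]
noncomputable def R_0 : List (Rule) := [Rule.mk (nat_lit 2) (nat_lit 34) (Steps.bwd (nat_lit 5) (Steps.bwd (nat_lit 1) (Steps.fwd (nat_lit 2560) Steps.nil))) (nat_lit 10) (nat_lit 3),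
  Rule.mk (nat_lit 3) (nat_lit 52) (Steps.bwd (nat_lit 5) (Steps.bwd (nat_lit 3) (Steps.bwd (nat_lit 5) (Steps.bwd (nat_lit 3) (Steps.fwd (nat_lit 2560) Steps.nil))))) (nat_lit 12) (nat_lit 1),
  Rule.mk (nat_lit 3) (nat_lit 34) (Steps.bwd (nat_lit 3) (Steps.bwd (nat_lit 3) (Steps.bwd (nat_lit 3) Steps.nil))) (nat_lit 2) (nat_lit 0),
  Rule.mk (nat_lit 2) (nat_lit 25) (Steps.bwd (nat_lit 2) (Steps.bwd (nat_lit 2) Steps.nil)) (nat_lit 1) (nat_lit 0),
  Rule.mk (nat_lit 1) (nat_lit 25) (Steps.bwd (nat_lit 1) (Steps.bwd (nat_lit 1) Steps.nil)) (nat_lit 0) (nat_lit 0),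
  Rule.mk (nat_lit 5) (nat_lit 34) (Steps.bwd (nat_lit 1) (Steps.fwd (nat_lit 2560) (Steps.bwd (nat_lit 2) Steps.nil))) (nat_lit 10) (nat_lit 0),
  Rule.mk (nat_lit 3) (nat_lit 52) (Steps.bwd (nat_lit 5) (Steps.bwd (nat_lit 3) (Steps.fwd (nat_lit 2560) (Steps.bwd (nat_lit 3) (Steps.fwd (nat_lit 2560) Steps.nil))))) (nat_lit 12) (nat_lit 1),
  Rule.mk (nat_lit 5) (nat_lit 34) (Steps.bwd (nat_lit 2) (Steps.bwd (nat_lit 5) (Steps.bwd (nat_lit 1) Steps.nil))) (nat_lit 10) (nat_lit 2),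
  Rule.mk (nat_lit 5) (nat_lit 115) (Steps.bwd (nat_lit 3) (Steps.bwd (nat_lit 1) (Steps.bwd (nat_lit 3) (Steps.bwd (nat_lit 5) (Steps.bwd (nat_lit 1) (Steps.bwd (nat_lit 3) (Steps.bwd (nat_lit 1) (Steps.bwd (nat_lit 3) (Steps.fwd (nat_lit 2560) (Steps.fwd (nat_lit 1536) (Steps.fwd (nat_lit 512) (Steps.fwd (nat_lit 1536) Steps.nil)))))))))))) (nat_lit 14) (nat_lit 9),
  Rule.mk (nat_lit 5) (nat_lit 34) (Steps.bwd (nat_lit 1) (Steps.fwd (nat_lit 2560) (Steps.fwd (nat_lit 512) Steps.nil))) (nat_lit 10) (nat_lit 0),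
  Rule.mk (nat_lit 3) (nat_lit 70) (Steps.bwd (nat_lit 1) (Steps.bwd (nat_lit 3) (Steps.bwd (nat_lit 1) (Steps.bwd (nat_lit 3) (Steps.fwd (nat_lit 1024) (Steps.bwd (nat_lit 3) (Steps.fwd (nat_lit 1024) Steps.nil))))))) (nat_lit 4) (nat_lit 0),
  Rule.mk (nat_lit 4) (nat_lit 70) (Steps.bwd (nat_lit 1) (Steps.bwd (nat_lit 4) (Steps.bwd (nat_lit 1) (Steps.bwd (nat_lit 3) (Steps.bwd (nat_lit 2) (Steps.bwd (nat_lit 3) (Steps.bwd (nat_lit 2) Steps.nil))))))) (nat_lit 6) (nat_lit 6),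
  Rule.mk (nat_lit 4) (nat_lit 34) (Steps.bwd (nat_lit 4) (Steps.bwd (nat_lit 4) (Steps.fwd (nat_lit 1536) Steps.nil))) (nat_lit 3) (nat_lit 0),
  Rule.mk (nat_lit 1) (nat_lit 70) (Steps.bwd (nat_lit 4) (Steps.fwd (nat_lit 512) (Steps.fwd (nat_lit 2048) (Steps.bwd (nat_lit 2) (Steps.bwd (nat_lit 3) (Steps.bwd (nat_lit 1) (Steps.bwd (nat_lit 4) Steps.nil))))))) (nat_lit 7) (nat_lit 6),
  Rule.mk (nat_lit 5) (nat_lit 52) (Steps.bwd (nat_lit 4) (Steps.bwd (nat_lit 5) (Steps.fwd (nat_lit 1536) (Steps.fwd (nat_lit 2560) (Steps.bwd (nat_lit 4) Steps.nil))))) (nat_lit 13) (nat_lit 1),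
  Rule.mk (nat_lit 2) (nat_lit 70) (Steps.bwd (nat_lit 4) (Steps.fwd (nat_lit 1024) (Steps.fwd (nat_lit 1536) (Steps.fwd (nat_lit 1024) (Steps.bwd (nat_lit 3) (Steps.bwd (nat_lit 2) (Steps.fwd (nat_lit 2048) Steps.nil))))))) (nat_lit 6) (nat_lit 5),
  Rule.mk (nat_lit 4) (nat_lit 34) (Steps.bwd (nat_lit 4) (Steps.bwd (nat_lit 4) (Steps.bwd (nat_lit 4) Steps.nil))) (nat_lit 3) (nat_lit 0),
  Rule.mk (nat_lit 1) (nat_lit 70) (Steps.bwd (nat_lit 4) (Steps.bwd (nat_lit 1) (Steps.bwd (nat_lit 3) (Steps.fwd (nat_lit 512) (Steps.fwd (nat_lit 2048) (Steps.fwd (nat_lit 512) (Steps.bwd (nat_lit 4) Steps.nil))))))) (nat_lit 6) (nat_lit 7),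
  Rule.mk (nat_lit 3) (nat_lit 70) (Steps.bwd (nat_lit 1) (Steps.fwd (nat_lit 2048) (Steps.bwd (nat_lit 1) (Steps.fwd (nat_lit 2048) (Steps.bwd (nat_lit 1) (Steps.fwd (nat_lit 2048) (Steps.bwd (nat_lit 1) Steps.nil))))))) (nat_lit 4) (nat_lit 0),
  Rule.mk (nat_lit 3) (nat_lit 70) (Steps.bwd (nat_lit 2) (Steps.bwd (nat_lit 3) (Steps.bwd (nat_lit 2) (Steps.fwd (nat_lit 1536) (Steps.fwd (nat_lit 1024) (Steps.fwd (nat_lit 1536) (Steps.bwd (nat_lit 1) Steps.nil))))))) (nat_lit 6) (nat_lit 2),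
  Rule.mk (nat_lit 2) (nat_lit 70) (Steps.bwd (nat_lit 4) (Steps.fwd (nat_lit 512) (Steps.bwd (nat_lit 4) (Steps.bwd (nat_lit 2) (Steps.bwd (nat_lit 4) (Steps.bwd (nat_lit 2) (Steps.fwd (nat_lit 1536) Steps.nil))))))) (nat_lit 5) (nat_lit 0),
  Rule.mk (nat_lit 1) (nat_lit 70) (Steps.bwd (nat_lit 4) (Steps.bwd (nat_lit 1) (Steps.fwd (nat_lit 1536) (Steps.fwd (nat_lit 512) (Steps.bwd (nat_lit 3) (Steps.fwd (nat_lit 512) (Steps.bwd (nat_lit 3) Steps.nil))))))) (nat_lit 7) (nat_lit 4),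
  Rule.mk (nat_lit 2) (nat_lit 70) (Steps.bwd (nat_lit 4) (Steps.fwd (nat_lit 512) (Steps.fwd (nat_lit 1536) (Steps.fwd (nat_lit 512) (Steps.fwd (nat_lit 1536) (Steps.fwd (nat_lit 512) (Steps.bwd (nat_lit 4) Steps.nil))))))) (nat_lit 5) (nat_lit 0),
  Rule.mk (nat_lit 1) (nat_lit 70) (Steps.bwd (nat_lit 3) (Steps.fwd (nat_lit 512) (Steps.fwd (nat_lit 2048) (Steps.fwd (nat_lit 512) (Steps.bwd (nat_lit 4) (Steps.bwd (nat_lit 1) (Steps.fwd (nat_lit 1536) Steps.nil))))))) (nat_lit 6) (nat_lit 1),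
  Rule.mk (nat_lit 3) (nat_lit 70) (Steps.fwd (nat_lit 512) (Steps.bwd (nat_lit 3) (Steps.bwd (nat_lit 1) (Steps.bwd (nat_lit 4) (Steps.bwd (nat_lit 1) (Steps.bwd (nat_lit 4) (Steps.fwd (nat_lit 512) Steps.nil))))))) (nat_lit 7) (nat_lit 1),
  Rule.mk (nat_lit 5) (nat_lit 115) (Steps.bwd (nat_lit 3) (Steps.bwd (nat_lit 1) (Steps.fwd (nat_lit 2048) (Steps.bwd (nat_lit 5) (Steps.bwd (nat_lit 1) (Steps.bwd (nat_lit 3) (Steps.fwd (nat_lit 1024) (Steps.bwd (nat_lit 3) (Steps.bwd (nat_lit 5) (Steps.fwd (nat_lit 1536) (Steps.fwd (nat_lit 512) (Steps.bwd (nat_lit 4) Steps.nil)))))))))))) (nat_lit 14) (nat_lit 9),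
  Rule.mk (nat_lit 4) (nat_lit 52) (Steps.bwd (nat_lit 5) (Steps.bwd (nat_lit 4) (Steps.bwd (nat_lit 5) (Steps.fwd (nat_lit 1536) (Steps.bwd (nat_lit 5) Steps.nil))))) (nat_lit 13) (nat_lit 0),
  Rule.mk (nat_lit 2) (nat_lit 70) (Steps.bwd (nat_lit 3) (Steps.fwd (nat_lit 512) (Steps.bwd (nat_lit 4) (Steps.bwd (nat_lit 1) (Steps.bwd (nat_lit 4) (Steps.bwd (nat_lit 1) (Steps.bwd (nat_lit 3) Steps.nil))))))) (nat_lit 6) (nat_lit 3),
  Rule.mk (nat_lit 3) (nat_lit 70) (Steps.bwd (nat_lit 2) (Steps.fwd (nat_lit 1536) (Steps.bwd (nat_lit 1) (Steps.bwd (nat_lit 4) (Steps.bwd (nat_lit 1) (Steps.fwd (nat_lit 2048) (Steps.fwd (nat_lit 512) Steps.nil))))))) (nat_lit 6) (nat_lit 4),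
  Rule.mk (nat_lit 1) (nat_lit 70) (Steps.bwd (nat_lit 3) (Steps.bwd (nat_lit 1) (Steps.fwd (nat_lit 2048) (Steps.bwd (nat_lit 1) (Steps.bwd (nat_lit 3) (Steps.fwd (nat_lit 1024) (Steps.bwd (nat_lit 3) Steps.nil))))))) (nat_lit 4) (nat_lit 1),
  Rule.mk (nat_lit 1) (nat_lit 70) (Steps.bwd (nat_lit 3) (Steps.fwd (nat_lit 1024) (Steps.bwd (nat_lit 3) (Steps.bwd (nat_lit 1) (Steps.fwd (nat_lit 2048) (Steps.bwd (nat_lit 1) (Steps.bwd (nat_lit 3) Steps.nil))))))) (nat_lit 4) (nat_lit 1),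
  Rule.mk (nat_lit 5) (nat_lit 115) (Steps.bwd (nat_lit 3) (Steps.fwd (nat_lit 1024) (Steps.bwd (nat_lit 3) (Steps.bwd (nat_lit 5) (Steps.fwd (nat_lit 1024) (Steps.fwd (nat_lit 2048) (Steps.fwd (nat_lit 1024) (Steps.fwd (nat_lit 2048) (Steps.fwd (nat_lit 2560) (Steps.fwd (nat_lit 1536) (Steps.bwd (nat_lit 2) (Steps.fwd (nat_lit 1536) Steps.nil)))))))))))) (nat_lit 14) (nat_lit 9),
  Rule.mk (nat_lit 3) (nat_lit 70) (Steps.bwd (nat_lit 2) (Steps.bwd (nat_lit 3) (Steps.bwd (nat_lit 2) (Steps.bwd (nat_lit 4) (Steps.fwd (nat_lit 1024) (Steps.fwd (nat_lit 1536) (Steps.fwd (nat_lit 1024) Steps.nil))))))) (nat_lit 6) (nat_lit 2),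
  Rule.mk (nat_lit 3) (nat_lit 34) (Steps.bwd (nat_lit 3) (Steps.fwd (nat_lit 2048) (Steps.bwd (nat_lit 3) Steps.nil))) (nat_lit 2) (nat_lit 0),
  Rule.mk (nat_lit 4) (nat_lit 70) (Steps.bwd (nat_lit 2) (Steps.fwd (nat_lit 1536) (Steps.bwd (nat_lit 2) (Steps.fwd (nat_lit 1536) (Steps.bwd (nat_lit 2) (Steps.fwd (nat_lit 1536) (Steps.bwd (nat_lit 2) Steps.nil))))))) (nat_lit 5) (nat_lit 1),
  Rule.mk (nat_lit 4) (nat_lit 52) (Steps.bwd (nat_lit 5) (Steps.bwd (nat_lit 4) (Steps.fwd (nat_lit 2560) (Steps.bwd (nat_lit 4) (Steps.fwd (nat_lit 2560) Steps.nil))))) (nat_lit 13) (nat_lit 0),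
  Rule.mk (nat_lit 4) (nat_lit 52) (Steps.bwd (nat_lit 5) (Steps.fwd (nat_lit 1536) (Steps.fwd (nat_lit 2560) (Steps.fwd (nat_lit 1536) (Steps.fwd (nat_lit 2560) Steps.nil))))) (nat_lit 13) (nat_lit 0),
  Rule.mk (nat_lit 2) (nat_lit 34) (Steps.bwd (nat_lit 5) (Steps.fwd (nat_lit 1024) (Steps.fwd (nat_lit 2560) Steps.nil))) (nat_lit 10) (nat_lit 3),
  Rule.mk (nat_lit 4) (nat_lit 52) (Steps.bwd (nat_lit 5) (Steps.fwd (nat_lit 1536) (Steps.bwd (nat_lit 5) (Steps.fwd (nat_lit 1536) (Steps.fwd (nat_lit 2560) Steps.nil))))) (nat_lit 13) (nat_lit 0),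
  Rule.mk (nat_lit 1) (nat_lit 34) (Steps.bwd (nat_lit 5) (Steps.fwd (nat_lit 512) (Steps.fwd (nat_lit 2560) Steps.nil))) (nat_lit 10) (nat_lit 1),
  Rule.mk (nat_lit 4) (nat_lit 52) (Steps.bwd (nat_lit 5) (Steps.fwd (nat_lit 1536) (Steps.fwd (nat_lit 2560) (Steps.bwd (nat_lit 4) (Steps.fwd (nat_lit 2560) Steps.nil))))) (nat_lit 13) (nat_lit 0),
  Rule.mk (nat_lit 5) (nat_lit 34) (Steps.bwd (nat_lit 1) (Steps.bwd (nat_lit 5) (Steps.fwd (nat_lit 512) Steps.nil))) (nat_lit 10) (nat_lit 0),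
  Rule.mk (nat_lit 4) (nat_lit 52) (Steps.bwd (nat_lit 5) (Steps.bwd (nat_lit 4) (Steps.fwd (nat_lit 2560) (Steps.bwd (nat_lit 4) (Steps.bwd (nat_lit 5) Steps.nil))))) (nat_lit 13) (nat_lit 0),
  Rule.mk (nat_lit 5) (nat_lit 52) (Steps.bwd (nat_lit 3) (Steps.bwd (nat_lit 5) (Steps.bwd (nat_lit 3) (Steps.bwd (nat_lit 5) (Steps.bwd (nat_lit 3) Steps.nil))))) (nat_lit 12) (nat_lit 0),
  Rule.mk (nat_lit 2) (nat_lit 70) (Steps.bwd (nat_lit 3) (Steps.bwd (nat_lit 2) (Steps.bwd (nat_lit 4) (Steps.bwd (nat_lit 1) (Steps.bwd (nat_lit 4) (Steps.bwd (nat_lit 1) (Steps.fwd (nat_lit 2048) Steps.nil))))))) (nat_lit 6) (nat_lit 3),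
  Rule.mk (nat_lit 1) (nat_lit 115) (Steps.bwd (nat_lit 3) (Steps.bwd (nat_lit 5) (Steps.fwd (nat_lit 1024) (Steps.bwd (nat_lit 3) (Steps.fwd (nat_lit 1024) (Steps.bwd (nat_lit 3) (Steps.fwd (nat_lit 2560) (Steps.fwd (nat_lit 1536) (Steps.bwd (nat_lit 2) (Steps.fwd (nat_lit 1536) (Steps.bwd (nat_lit 5) (Steps.bwd (nat_lit 3) Steps.nil)))))))))))) (nat_lit 14) (nat_lit 11),
  Rule.mk (nat_lit 3) (nat_lit 34) (Steps.bwd (nat_lit 3) (Steps.bwd (nat_lit 3) (Steps.fwd (nat_lit 2048) Steps.nil))) (nat_lit 2) (nat_lit 0),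
  Rule.mk (nat_lit 5) (nat_lit 52) (Steps.bwd (nat_lit 3) (Steps.fwd (nat_lit 2560) (Steps.bwd (nat_lit 3) (Steps.fwd (nat_lit 2560) (Steps.bwd (nat_lit 3) Steps.nil))))) (nat_lit 12) (nat_lit 0),
  Rule.mk (nat_lit 3) (nat_lit 34) (Steps.bwd (nat_lit 3) (Steps.fwd (nat_lit 2048) (Steps.fwd (nat_lit 2048) Steps.nil))) (nat_lit 2) (nat_lit 0),
  Rule.mk (nat_lit 5) (nat_lit 52) (Steps.bwd (nat_lit 3) (Steps.bwd (nat_lit 5) (Steps.fwd (nat_lit 2048) (Steps.bwd (nat_lit 5) (Steps.bwd (nat_lit 3) Steps.nil))))) (nat_lit 12) (nat_lit 0),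
  Rule.mk (nat_lit 1) (nat_lit 70) (Steps.bwd (nat_lit 3) (Steps.bwd (nat_lit 2) (Steps.bwd (nat_lit 3) (Steps.bwd (nat_lit 2) (Steps.bwd (nat_lit 4) (Steps.bwd (nat_lit 1) (Steps.fwd (nat_lit 1536) Steps.nil))))))) (nat_lit 6) (nat_lit 1),
  Rule.mk (nat_lit 1) (nat_lit 25) (Steps.bwd (nat_lit 1) (Steps.fwd (nat_lit 1024) Steps.nil)) (nat_lit 0) (nat_lit 0),
  Rule.mk (nat_lit 5) (nat_lit 34) (Steps.bwd (nat_lit 1) (Steps.bwd (nat_lit 5) (Steps.bwd (nat_lit 2) Steps.nil))) (nat_lit 10) (nat_lit 0),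
  Rule.mk (nat_lit 5) (nat_lit 52) (Steps.bwd (nat_lit 3) (Steps.fwd (nat_lit 2560) (Steps.bwd (nat_lit 3) (Steps.bwd (nat_lit 5) (Steps.bwd (nat_lit 3) Steps.nil))))) (nat_lit 12) (nat_lit 0),
  Rule.mk (nat_lit 5) (nat_lit 52) (Steps.bwd (nat_lit 3) (Steps.fwd (nat_lit 2560) (Steps.bwd (nat_lit 3) (Steps.bwd (nat_lit 5) (Steps.fwd (nat_lit 2048) Steps.nil))))) (nat_lit 12) (nat_lit 0),
  Rule.mk (nat_lit 1) (nat_lit 70) (Steps.bwd (nat_lit 3) (Steps.bwd (nat_lit 1) (Steps.bwd (nat_lit 3) (Steps.bwd (nat_lit 1) (Steps.bwd (nat_lit 3) (Steps.bwd (nat_lit 1) (Steps.bwd (nat_lit 3) Steps.nil))))))) (nat_lit 4) (nat_lit 1),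
  Rule.mk (nat_lit 1) (nat_lit 25) (Steps.fwd (nat_lit 1024) (Steps.bwd (nat_lit 1) Steps.nil)) (nat_lit 0) (nat_lit 0),
  Rule.mk (nat_lit 4) (nat_lit 70) (Steps.bwd (nat_lit 1) (Steps.fwd (nat_lit 1536) (Steps.fwd (nat_lit 1024) (Steps.fwd (nat_lit 2048) (Steps.fwd (nat_lit 512) (Steps.bwd (nat_lit 3) (Steps.fwd (nat_lit 512) Steps.nil))))))) (nat_lit 6) (nat_lit 6),
  Rule.mk (nat_lit 3) (nat_lit 70) (Steps.bwd (nat_lit 1) (Steps.fwd (nat_lit 1536) (Steps.fwd (nat_lit 1024) (Steps.fwd (nat_lit 1536) (Steps.fwd (nat_lit 512) (Steps.bwd (nat_lit 3) (Steps.fwd (nat_lit 512) Steps.nil))))))) (nat_lit 7) (nat_lit 3),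
  Rule.mk (nat_lit 4) (nat_lit 70) (Steps.bwd (nat_lit 2) (Steps.bwd (nat_lit 4) (Steps.bwd (nat_lit 2) (Steps.fwd (nat_lit 1536) (Steps.fwd (nat_lit 512) (Steps.fwd (nat_lit 1536) (Steps.fwd (nat_lit 512) Steps.nil))))))) (nat_lit 5) (nat_lit 1),
  Rule.mk (nat_lit 4) (nat_lit 34) (Steps.bwd (nat_lit 4) (Steps.fwd (nat_lit 1536) (Steps.bwd (nat_lit 4) Steps.nil))) (nat_lit 3) (nat_lit 0),
  Rule.mk (nat_lit 2) (nat_lit 70) (Steps.bwd (nat_lit 4) (Steps.bwd (nat_lit 1) (Steps.bwd (nat_lit 4) (Steps.bwd (nat_lit 1) (Steps.bwd (nat_lit 3) (Steps.bwd (nat_lit 2) (Steps.fwd (nat_lit 2048) Steps.nil))))))) (nat_lit 6) (nat_lit 5),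
  Rule.mk (nat_lit 5) (nat_lit 115) (Steps.bwd (nat_lit 4) (Steps.bwd (nat_lit 2) (Steps.bwd (nat_lit 4) (Steps.fwd (nat_lit 2560) (Steps.bwd (nat_lit 3) (Steps.bwd (nat_lit 1) (Steps.fwd (nat_lit 2048) (Steps.bwd (nat_lit 5) (Steps.bwd (nat_lit 1) (Steps.bwd (nat_lit 3) (Steps.bwd (nat_lit 1) (Steps.fwd (nat_lit 2048) Steps.nil)))))))))))) (nat_lit 14) (nat_lit 5),
  Rule.mk (nat_lit 5) (nat_lit 52) (Steps.bwd (nat_lit 4) (Steps.fwd (nat_lit 2560) (Steps.fwd (nat_lit 1536) (Steps.bwd (nat_lit 5) (Steps.bwd (nat_lit 4) Steps.nil))))) (nat_lit 13) (nat_lit 1)]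
noncomputable def R_1 : List (Rule) := [Rule.mk (nat_lit 2) (nat_lit 70) (Steps.bwd (nat_lit 4) (Steps.fwd (nat_lit 512) (Steps.bwd (nat_lit 4) (Steps.fwd (nat_lit 512) (Steps.fwd (nat_lit 1536) (Steps.fwd (nat_lit 512) (Steps.bwd (nat_lit 4) Steps.nil))))))) (nat_lit 5) (nat_lit 0),
  Rule.mk (nat_lit 5) (nat_lit 52) (Steps.bwd (nat_lit 4) (Steps.fwd (nat_lit 2560) (Steps.bwd (nat_lit 4) (Steps.bwd (nat_lit 5) (Steps.bwd (nat_lit 4) Steps.nil))))) (nat_lit 13) (nat_lit 1),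
  Rule.mk (nat_lit 1) (nat_lit 70) (Steps.bwd (nat_lit 4) (Steps.fwd (nat_lit 1024) (Steps.fwd (nat_lit 2048) (Steps.fwd (nat_lit 512) (Steps.fwd (nat_lit 2048) (Steps.fwd (nat_lit 512) (Steps.bwd (nat_lit 4) Steps.nil))))))) (nat_lit 6) (nat_lit 7),
  Rule.mk (nat_lit 2) (nat_lit 70) (Steps.bwd (nat_lit 4) (Steps.fwd (nat_lit 1024) (Steps.bwd (nat_lit 4) (Steps.fwd (nat_lit 1024) (Steps.fwd (nat_lit 2048) (Steps.fwd (nat_lit 512) (Steps.fwd (nat_lit 2048) Steps.nil))))))) (nat_lit 6) (nat_lit 5)]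
noncomputable def R : List (List (Rule)) := [R_0, R_1]
def LW : List Word := [[], [0], [1], [2], [3], [4], [0], [1], [2], [3]]
def par : Par := ⟨9, 4, 13, 22, 511, 8191, 4194303⟩
theorem hpar : par.ok := by decide
theorem hR0_0 : lall (R) (fun l => lall l (ruleOK rels LW par)) = true := by decide +kernel
theorem hR0 : lall (R) (fun l => lall l (ruleOK rels LW par)) = true := hR0_0
theorem hR : RulesOK rels LW par R := rulesOK_of rfl hR0
def cols : List (ℕ × ℕ) := [(512, 2), (1536, 4), (2560, 5)]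
theorem hcols : lall cols (colOK rels LW par) = true := by decide +kernel
noncomputable def JS0 : List ℕ := [nat_lit 0x158b61901804865c8e432111009549e0d0100c84588617238148c0320950a96434192a1088250140602918900221130010428008c47299509e41240521104890424140a850244120010411c9e401e00228141e02211007114843f1a401f850683c204f261007e308002200a200fc291c180d26124803f163e000f850f88e4a258301a0c0692c94471f09019007c20003d083e200f408f40a45220f438f87a1402401f06200f428007a10803e1e81001007c0c8001200fc7c087e011f81,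
  nat_lit 0x5a793716159b0ae4f5401270527980325f27292a0a09aa09c1d26a627040ae0c26a7270449a989c09039509a949a1b1295c981c9a5d2601269803c5e26240013c522a330089a8c9a4c080006935118c4e2606094984b424c04944460b1202c482328824988000142b990a008259f09138940c001d29830e870484a2487240009004004902058b061241e000308e0c124c0703ca802239d0011820002451080442a46384701118185c02000215cd80cb25e2f88042602e970204f229a2b9281009271100064860d2602c980d2198,
  nat_lit 0x28843e2302808c30cc40303808c108ce602f8d010782c0a04194bf040a101483cbd00be111182c1a83481f0205f00979f870c05d225f0e9a02a1e32975f0040e032f84cc85c24003116de814005d3204cb85b785d2f0143a1b08171d970ba040d8681e5b745a069685024b2143a042c862d160280030e4b60504968b2582bb83aa00d0002b3733000ac18323e36000acd8d25e2b3507955a158080d0704022556600038b8bc5464050814d8800b21c0194d8024a6525e520086836631898c361a34158a4b808050080c080628ad120e4ce54282c,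
  nat_lit 0xc66b05198c8033144]
theorem S0_c : blocks (facts 9 4 13 22 511 8191 4194303 9 511 7 127 A R 32) 32 JS0 319 = true := by decide +kernel
theorem S0 : On (Step.{u} rels LW par A) 319 447 :=
  steps_of_blocks hpar hR S0_c (by decide +kernel)
theorem D0_c : allB (defOK 9 13 22 511 4194303 318 A K) 1 2 = true := by decide +kernel
theorem D0 : On (fun r => defOK par.W par.WL par.E par.mW par.mE 318 A K r = true) 256 384 :=
  On.of_allB D0_c
noncomputable def JW0 : List ℕ := [nat_lit 0x4ac8d46931470954944d2212e328cc4b13a2cd294808b2088121130555503a0b959cba2f0be1b4b62d5694e0eb19d53338bb524c11f91e1e92652cc44f4a82ad2a2c1414cc9748924518da35559358de508e0390e258128298c73515734c833455a5acee3b4e9510f05a0c35b07f3214d4f0ae2b13257d5c398d9588f3539735d4dd3dd6a3e96e3c93e3d174591705ecfc3e57a5e1765fd7c3fd7e40102,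
  nat_lit 0x5e16460124534344841c3f12d0b1406a1551617c994d46845112109051005a1585c10d0f13c4a424474bc911892d2488f280a4288721d0701ac9e4dc6c4606e1a49c26c66114641d8784412721c7d]
theorem W0_c : blocks (rows 9 4 13 22 511 8191 4194303 10 1023 30 A 447 63 cols 42) 42 JW0 0 = true := by decide +kernel
theorem W0 : On (Row.{u} rels LW par A 447 63 cols) 0 84 :=
  rows_of_blocks hpar (by decide) hcols W0_c (by decide +kernel)
theorem idx : Idx.{u} rels [[0], [2], [4]] [[0], [2]] 63 :=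
  idx_of_cert hpar hR (K := K) (by decide +kernel) (T := 318) (T' := 384) (by decide) D0
    (subs := [1,3]) (by decide +kernel) (T1 := 319) (by decide) (N := 447) S0
    (by decide) (n' := 84) (by decide) W0 (by decide +kernel) (by decide +kernel)
end T1
theorem b1 : Bound.{u} rels [[0], [2], [4]] 6048 := .of_idx T1.idx b2 (by decide)
namespace T0
noncomputable def A_0 : List (ℕ) := [nat_lit 0x299964b48380db0e0a885016b140a62502f9140688542d115090a48302980a685a311168c4a532f894cc086230913c9cc6121317cacc602b21188885623115888c432c110c8e2432218a04ea441b91106e6370da8dc504372c211c9c85814311c8c8282431189e6480830a49264f1a28d092a4919a8cc668330c30cc924331a11247643b1f28ec3c83b1230f87c23e1018f84cc0f1288987a42611a8987a62611b0f44ac1f1920941ea250fa8f41661f07907c4684207888c4860f081890484240d88404e4100d909c626270e986c3861d0518703841c1890c426c1309884c26a1303204c5a81417a8b46022d16290854c2a1ab0d434c1a2728c06a84e1609385e22c0aa0bc28a140f085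01a4141510d43442a08b0442ac1504302024a1204a8242ca160c205824066048194328180b0190300670718301860d06a8343ca1e05a07816a200e90801841d05b02c0620b0530281281a0ca19c24a66321194308640b0848124120b301812216032854224150410440ea1819106032432042064042060bb05c0e2170218381cc0e0210100ec0701201c06c0300900400a00001800002001cb0eca24593189546cc572f214882a222b8980a424f22b09c7464d26896caa65025116cba4402011704442e1718844223f1fa16c9682b15a04498c5b2da170b883c1e2964b26381c08a4a0a542a1188b4a5f29b0c0c486130a17cbe860300920aca35219894884281bb160b024723a0d450a102328a8906291499249ec2c1990d092c321a30647681f1f19084c6121290f47a82c0f908c4662007981448a310820144e6300d982838c3118a05cd0c0409a0b45a2422108c0606172708bc5881217a054288061a9068546110f10341a6041010303aa0a06280c1620a05080c3480933a058cc46432a824c8a160930142c80804b0082a40808a8143041919285c32a0e0428080c2050288082e20e07081c08a0103a00c0680101180402c00,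
  nat_lit 0xe28e4728391c90e4a285128b1445ca51209144c666331b18cc6a632f098c34a361b20d88c2362b10d8bcc5e2a8978bca5e20a17882c412ba104b244129215caea5724095c5ec52202948c225226a9148a845148914704451d28e83ac3a2698e87e23a1090e856c4d250934aac552aa954686552ea128ba64a25b12852a4a2ea93cb4c5d2e117444840111900a8c4006b08878422023010080681098b87822e0a30b818c2110a88440c3f1fa8fc7883f15912c9824b23a92c5484b2610ac86a2b2629606464c21a13070a5b313170c2a5c0f30f0b2c59]
noncomputable def A : List (List (ℕ)) := [A_0]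
noncomputable def K_0 : List (ℕ) := [nat_lit 0x1288ac522712b2d228f45a358eb550a8d2a9d40b0d12b94ba4d82cd4c9d48ebb52aa56e713c9fcf6bf42a1c96c559aacd6654f9b57acf4da0d923f379cc2e532490d5e4d22a9c7a773e964d2672e98562ad1b98c76352a95c5a150c834421d2093c461b2d97c1639198c45e1f0981c220f04814060000]
noncomputable def K : List (List (ℕ)) := [K_0]
noncomputable def R_0 : List (Rule) := [Rule.mk (nat_lit 2) (nat_lit 38) (Steps.bwd (nat_lit 6) (Steps.bwd (nat_lit 1) (Steps.fwd (nat_lit 3072) Steps.nil))) (nat_lit 18) (nat_lit 3),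
  Rule.mk (nat_lit 6) (nat_lit 98) (Steps.bwd (nat_lit 4) (Steps.bwd (nat_lit 6) (Steps.bwd (nat_lit 1) (Steps.fwd (nat_lit 1536) (Steps.fwd (nat_lit 2560) (Steps.bwd (nat_lit 3) (Steps.fwd (nat_lit 512) (Steps.fwd (nat_lit 3072) (Steps.fwd (nat_lit 2048) Steps.nil))))))))) (nat_lit 22) (nat_lit 8),
  Rule.mk (nat_lit 4) (nat_lit 38) (Steps.bwd (nat_lit 4) (Steps.bwd (nat_lit 4) (Steps.fwd (nat_lit 1536) Steps.nil))) (nat_lit 3) (nat_lit 0),
  Rule.mk (nat_lit 6) (nat_lit 88) (Steps.bwd (nat_lit 4) (Steps.bwd (nat_lit 4) (Steps.bwd (nat_lit 6) (Steps.fwd (nat_lit 1536) (Steps.fwd (nat_lit 1536) (Steps.fwd (nat_lit 3072) (Steps.fwd (nat_lit 1536) (Steps.bwd (nat_lit 4) Steps.nil)))))))) (nat_lit 21) (nat_lit 1),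
  Rule.mk (nat_lit 2) (nat_lit 38) (Steps.bwd (nat_lit 5) (Steps.fwd (nat_lit 1024) (Steps.fwd (nat_lit 2560) Steps.nil))) (nat_lit 10) (nat_lit 3),
  Rule.mk (nat_lit 6) (nat_lit 38) (Steps.bwd (nat_lit 1) (Steps.fwd (nat_lit 3072) (Steps.fwd (nat_lit 512) Steps.nil))) (nat_lit 18) (nat_lit 0),
  Rule.mk (nat_lit 3) (nat_lit 118) (Steps.bwd (nat_lit 1) (Steps.fwd (nat_lit 2048) (Steps.bwd (nat_lit 3) (Steps.bwd (nat_lit 6) (Steps.fwd (nat_lit 2560) (Steps.bwd (nat_lit 3) (Steps.bwd (nat_lit 1) (Steps.bwd (nat_lit 3) (Steps.bwd (nat_lit 3) (Steps.fwd (nat_lit 3072) (Steps.fwd (nat_lit 2560) Steps.nil))))))))))) (nat_lit 24) (nat_lit 0),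
  Rule.mk (nat_lit 1) (nat_lit 28) (Steps.bwd (nat_lit 1) (Steps.bwd (nat_lit 1) Steps.nil)) (nat_lit 0) (nat_lit 0),
  Rule.mk (nat_lit 4) (nat_lit 58) (Steps.bwd (nat_lit 5) (Steps.fwd (nat_lit 1536) (Steps.bwd (nat_lit 5) (Steps.fwd (nat_lit 1536) (Steps.fwd (nat_lit 2560) Steps.nil))))) (nat_lit 13) (nat_lit 0),
  Rule.mk (nat_lit 2) (nat_lit 38) (Steps.bwd (nat_lit 5) (Steps.bwd (nat_lit 1) (Steps.fwd (nat_lit 2560) Steps.nil))) (nat_lit 10) (nat_lit 3),
  Rule.mk (nat_lit 2) (nat_lit 28) (Steps.bwd (nat_lit 2) (Steps.bwd (nat_lit 2) Steps.nil)) (nat_lit 1) (nat_lit 0),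
  Rule.mk (nat_lit 5) (nat_lit 38) (Steps.bwd (nat_lit 2) (Steps.bwd (nat_lit 5) (Steps.bwd (nat_lit 1) Steps.nil))) (nat_lit 10) (nat_lit 2),
  Rule.mk (nat_lit 1) (nat_lit 98) (Steps.bwd (nat_lit 4) (Steps.bwd (nat_lit 5) (Steps.bwd (nat_lit 3) (Steps.bwd (nat_lit 2) (Steps.bwd (nat_lit 6) (Steps.bwd (nat_lit 3) (Steps.fwd (nat_lit 3072) (Steps.fwd (nat_lit 1536) (Steps.fwd (nat_lit 3072) Steps.nil))))))))) (nat_lit 22) (nat_lit 1),
  Rule.mk (nat_lit 6) (nat_lit 38) (Steps.fwd (nat_lit 512) (Steps.fwd (nat_lit 3072) (Steps.bwd (nat_lit 1) Steps.nil))) (nat_lit 18) (nat_lit 2),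
  Rule.mk (nat_lit 1) (nat_lit 38) (Steps.bwd (nat_lit 6) (Steps.fwd (nat_lit 512) (Steps.fwd (nat_lit 3072) Steps.nil))) (nat_lit 18) (nat_lit 1),
  Rule.mk (nat_lit 4) (nat_lit 58) (Steps.bwd (nat_lit 5) (Steps.bwd (nat_lit 4) (Steps.bwd (nat_lit 5) (Steps.bwd (nat_lit 4) (Steps.bwd (nat_lit 5) Steps.nil))))) (nat_lit 13) (nat_lit 0),
  Rule.mk (nat_lit 4) (nat_lit 38) (Steps.bwd (nat_lit 4) (Steps.bwd (nat_lit 4) (Steps.bwd (nat_lit 4) Steps.nil))) (nat_lit 3) (nat_lit 0),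
  Rule.mk (nat_lit 4) (nat_lit 88) (Steps.bwd (nat_lit 4) (Steps.bwd (nat_lit 6) (Steps.bwd (nat_lit 4) (Steps.bwd (nat_lit 4) (Steps.fwd (nat_lit 3072) (Steps.bwd (nat_lit 4) (Steps.fwd (nat_lit 1536) (Steps.fwd (nat_lit 3072) Steps.nil)))))))) (nat_lit 21) (nat_lit 2),
  Rule.mk (nat_lit 4) (nat_lit 78) (Steps.bwd (nat_lit 2) (Steps.bwd (nat_lit 3) (Steps.bwd (nat_lit 2) (Steps.bwd (nat_lit 3) (Steps.bwd (nat_lit 1) (Steps.bwd (nat_lit 4) (Steps.bwd (nat_lit 1) Steps.nil))))))) (nat_lit 7) (nat_lit 7),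
  Rule.mk (nat_lit 5) (nat_lit 98) (Steps.fwd (nat_lit 2048) (Steps.fwd (nat_lit 512) (Steps.fwd (nat_lit 3072) (Steps.fwd (nat_lit 2048) (Steps.fwd (nat_lit 3072) (Steps.bwd (nat_lit 4) (Steps.fwd (nat_lit 3072) (Steps.bwd (nat_lit 1) (Steps.bwd (nat_lit 4) Steps.nil))))))))) (nat_lit 22) (nat_lit 3),
  Rule.mk (nat_lit 5) (nat_lit 38) (Steps.fwd (nat_lit 1024) (Steps.fwd (nat_lit 2560) (Steps.bwd (nat_lit 2) Steps.nil))) (nat_lit 10) (nat_lit 0),
  Rule.mk (nat_lit 3) (nat_lit 58) (Steps.fwd (nat_lit 2560) (Steps.bwd (nat_lit 3) (Steps.bwd (nat_lit 5) (Steps.fwd (nat_lit 2048) (Steps.fwd (nat_lit 2560) Steps.nil))))) (nat_lit 12) (nat_lit 1),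
  Rule.mk (nat_lit 3) (nat_lit 38) (Steps.bwd (nat_lit 3) (Steps.bwd (nat_lit 3) (Steps.bwd (nat_lit 3) Steps.nil))) (nat_lit 2) (nat_lit 0),
  Rule.mk (nat_lit 0) (nat_lit 68) (Steps.fwd (nat_lit 2048) (Steps.bwd (nat_lit 5) (Steps.bwd (nat_lit 3) (Steps.bwd (nat_lit 5) (Steps.fwd (nat_lit 2048) (Steps.bwd (nat_lit 5) Steps.nil)))))) (nat_lit 12) (nat_lit 0),
  Rule.mk (nat_lit 0) (nat_lit 38) (Steps.fwd (nat_lit 2048) (Steps.bwd (nat_lit 0) (Steps.bwd (nat_lit 4) Steps.nil))) (nat_lit 26) (nat_lit 0),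
  Rule.mk (nat_lit 4) (nat_lit 28) (Steps.bwd (nat_lit 0) (Steps.fwd (nat_lit 2048) Steps.nil)) (nat_lit 26) (nat_lit 0),
  Rule.mk (nat_lit 0) (nat_lit 38) (Steps.fwd (nat_lit 1024) (Steps.fwd (nat_lit 0) (Steps.fwd (nat_lit 512) Steps.nil))) (nat_lit 26) (nat_lit 0),
  Rule.mk (nat_lit 0) (nat_lit 38) (Steps.bwd (nat_lit 2) (Steps.fwd (nat_lit 0) (Steps.bwd (nat_lit 1) Steps.nil))) (nat_lit 26) (nat_lit 0),
  Rule.mk (nat_lit 5) (nat_lit 28) (Steps.bwd (nat_lit 0) (Steps.bwd (nat_lit 5) Steps.nil)) (nat_lit 26) (nat_lit 0),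
  Rule.mk (nat_lit 5) (nat_lit 28) (Steps.bwd (nat_lit 0) (Steps.fwd (nat_lit 2560) Steps.nil)) (nat_lit 26) (nat_lit 0),
  Rule.mk (nat_lit 6) (nat_lit 118) (Steps.bwd (nat_lit 4) (Steps.bwd (nat_lit 4) (Steps.bwd (nat_lit 2) (Steps.bwd (nat_lit 4) (Steps.fwd (nat_lit 2560) (Steps.fwd (nat_lit 3072) (Steps.bwd (nat_lit 4) (Steps.bwd (nat_lit 4) (Steps.bwd (nat_lit 2) (Steps.fwd (nat_lit 1536) (Steps.fwd (nat_lit 2560) Steps.nil))))))))))) (nat_lit 25) (nat_lit 3),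
  Rule.mk (nat_lit 6) (nat_lit 38) (Steps.bwd (nat_lit 2) (Steps.fwd (nat_lit 3072) (Steps.fwd (nat_lit 1024) Steps.nil))) (nat_lit 18) (nat_lit 2),
  Rule.mk (nat_lit 6) (nat_lit 38) (Steps.fwd (nat_lit 1024) (Steps.fwd (nat_lit 3072) (Steps.bwd (nat_lit 2) Steps.nil))) (nat_lit 18) (nat_lit 0),
  Rule.mk (nat_lit 2) (nat_lit 78) (Steps.bwd (nat_lit 3) (Steps.fwd (nat_lit 1024) (Steps.bwd (nat_lit 4) (Steps.fwd (nat_lit 1024) (Steps.bwd (nat_lit 4) (Steps.fwd (nat_lit 512) (Steps.fwd (nat_lit 2048) Steps.nil))))))) (nat_lit 7) (nat_lit 2),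
  Rule.mk (nat_lit 2) (nat_lit 78) (Steps.bwd (nat_lit 4) (Steps.fwd (nat_lit 512) (Steps.bwd (nat_lit 4) (Steps.fwd (nat_lit 512) (Steps.fwd (nat_lit 1536) (Steps.bwd (nat_lit 2) (Steps.fwd (nat_lit 1536) Steps.nil))))))) (nat_lit 5) (nat_lit 0),
  Rule.mk (nat_lit 1) (nat_lit 78) (Steps.bwd (nat_lit 4) (Steps.fwd (nat_lit 512) (Steps.bwd (nat_lit 3) (Steps.bwd (nat_lit 2) (Steps.fwd (nat_lit 2048) (Steps.bwd (nat_lit 1) (Steps.bwd (nat_lit 4) Steps.nil))))))) (nat_lit 7) (nat_lit 6),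
  Rule.mk (nat_lit 5) (nat_lit 128) (Steps.bwd (nat_lit 4) (Steps.fwd (nat_lit 512) (Steps.bwd (nat_lit 4) (Steps.bwd (nat_lit 5) (Steps.fwd (nat_lit 2048) (Steps.fwd (nat_lit 1024) (Steps.fwd (nat_lit 2048) (Steps.bwd (nat_lit 5) (Steps.bwd (nat_lit 1) (Steps.fwd (nat_lit 2048) (Steps.bwd (nat_lit 1) (Steps.fwd (nat_lit 2048) Steps.nil)))))))))))) (nat_lit 14) (nat_lit 5),
  Rule.mk (nat_lit 4) (nat_lit 118) (Steps.bwd (nat_lit 4) (Steps.bwd (nat_lit 2) (Steps.bwd (nat_lit 4) (Steps.bwd (nat_lit 5) (Steps.fwd (nat_lit 3072) (Steps.fwd (nat_lit 1536) (Steps.fwd (nat_lit 1536) (Steps.bwd (nat_lit 2) (Steps.bwd (nat_lit 4) (Steps.bwd (nat_lit 5) (Steps.fwd (nat_lit 3072) Steps.nil))))))))))) (nat_lit 25) (nat_lit 4),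
  Rule.mk (nat_lit 1) (nat_lit 78) (Steps.bwd (nat_lit 4) (Steps.fwd (nat_lit 1024) (Steps.fwd (nat_lit 2048) (Steps.bwd (nat_lit 2) (Steps.bwd (nat_lit 3) (Steps.bwd (nat_lit 2) (Steps.bwd (nat_lit 4) Steps.nil))))))) (nat_lit 6) (nat_lit 7),
  Rule.mk (nat_lit 4) (nat_lit 78) (Steps.bwd (nat_lit 1) (Steps.fwd (nat_lit 2048) (Steps.bwd (nat_lit 2) (Steps.fwd (nat_lit 2048) (Steps.fwd (nat_lit 512) (Steps.bwd (nat_lit 4) (Steps.fwd (nat_lit 1024) Steps.nil))))))) (nat_lit 6) (nat_lit 0),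
  Rule.mk (nat_lit 5) (nat_lit 128) (Steps.bwd (nat_lit 3) (Steps.bwd (nat_lit 1) (Steps.bwd (nat_lit 3) (Steps.bwd (nat_lit 5) (Steps.bwd (nat_lit 4) (Steps.bwd (nat_lit 2) (Steps.fwd (nat_lit 1536) (Steps.fwd (nat_lit 512) (Steps.fwd (nat_lit 2560) (Steps.fwd (nat_lit 1536) (Steps.bwd (nat_lit 2) (Steps.bwd (nat_lit 4) Steps.nil)))))))))))) (nat_lit 15) (nat_lit 5),
  Rule.mk (nat_lit 6) (nat_lit 98) (Steps.fwd (nat_lit 1024) (Steps.bwd (nat_lit 4) (Steps.bwd (nat_lit 5) (Steps.bwd (nat_lit 3) (Steps.fwd (nat_lit 512) (Steps.fwd (nat_lit 3072) (Steps.fwd (nat_lit 2048) (Steps.fwd (nat_lit 3072) (Steps.bwd (nat_lit 4) Steps.nil))))))))) (nat_lit 22) (nat_lit 0),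
  Rule.mk (nat_lit 5) (nat_lit 38) (Steps.bwd (nat_lit 1) (Steps.fwd (nat_lit 2560) (Steps.fwd (nat_lit 512) Steps.nil))) (nat_lit 10) (nat_lit 0),
  Rule.mk (nat_lit 4) (nat_lit 58) (Steps.fwd (nat_lit 2560) (Steps.bwd (nat_lit 4) (Steps.bwd (nat_lit 5) (Steps.bwd (nat_lit 4) (Steps.bwd (nat_lit 5) Steps.nil))))) (nat_lit 13) (nat_lit 0),
  Rule.mk (nat_lit 5) (nat_lit 58) (Steps.bwd (nat_lit 4) (Steps.fwd (nat_lit 2560) (Steps.bwd (nat_lit 4) (Steps.fwd (nat_lit 2560) (Steps.bwd (nat_lit 4) Steps.nil))))) (nat_lit 13) (nat_lit 1),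
  Rule.mk (nat_lit 1) (nat_lit 78) (Steps.bwd (nat_lit 4) (Steps.fwd (nat_lit 512) (Steps.bwd (nat_lit 3) (Steps.fwd (nat_lit 512) (Steps.fwd (nat_lit 2048) (Steps.bwd (nat_lit 1) (Steps.bwd (nat_lit 4) Steps.nil))))))) (nat_lit 7) (nat_lit 6),
  Rule.mk (nat_lit 6) (nat_lit 98) (Steps.bwd (nat_lit 1) (Steps.bwd (nat_lit 4) (Steps.fwd (nat_lit 2560) (Steps.fwd (nat_lit 2048) (Steps.bwd (nat_lit 2) (Steps.fwd (nat_lit 3072) (Steps.fwd (nat_lit 2048) (Steps.bwd (nat_lit 6) (Steps.bwd (nat_lit 4) Steps.nil))))))))) (nat_lit 22) (nat_lit 0),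
  Rule.mk (nat_lit 2) (nat_lit 78) (Steps.bwd (nat_lit 4) (Steps.bwd (nat_lit 1) (Steps.fwd (nat_lit 1536) (Steps.fwd (nat_lit 1024) (Steps.bwd (nat_lit 3) (Steps.fwd (nat_lit 512) (Steps.fwd (nat_lit 2048) Steps.nil))))))) (nat_lit 6) (nat_lit 5),
  Rule.mk (nat_lit 2) (nat_lit 38) (Steps.bwd (nat_lit 6) (Steps.fwd (nat_lit 1024) (Steps.fwd (nat_lit 3072) Steps.nil))) (nat_lit 18) (nat_lit 3),
  Rule.mk (nat_lit 3) (nat_lit 98) (Steps.bwd (nat_lit 6) (Steps.bwd (nat_lit 4) (Steps.fwd (nat_lit 3072) (Steps.bwd (nat_lit 1) (Steps.fwd (nat_lit 1536) (Steps.bwd (nat_lit 5) (Steps.fwd (nat_lit 2048) (Steps.fwd (nat_lit 512) (Steps.fwd (nat_lit 3072) Steps.nil))))))))) (nat_lit 22) (nat_lit 7),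
  Rule.mk (nat_lit 3) (nat_lit 78) (Steps.fwd (nat_lit 1024) (Steps.bwd (nat_lit 3) (Steps.fwd (nat_lit 1024) (Steps.fwd (nat_lit 2048) (Steps.bwd (nat_lit 1) (Steps.bwd (nat_lit 3) (Steps.fwd (nat_lit 1024) Steps.nil))))))) (nat_lit 4) (nat_lit 0),
  Rule.mk (nat_lit 3) (nat_lit 38) (Steps.bwd (nat_lit 3) (Steps.bwd (nat_lit 3) (Steps.fwd (nat_lit 2048) Steps.nil))) (nat_lit 2) (nat_lit 0),
  Rule.mk (nat_lit 2) (nat_lit 78) (Steps.bwd (nat_lit 3) (Steps.bwd (nat_lit 1) (Steps.bwd (nat_lit 4) (Steps.fwd (nat_lit 1024) (Steps.fwd (nat_lit 1536) (Steps.bwd (nat_lit 2) (Steps.bwd (nat_lit 3) Steps.nil))))))) (nat_lit 7) (nat_lit 2),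
  Rule.mk (nat_lit 2) (nat_lit 78) (Steps.bwd (nat_lit 4) (Steps.fwd (nat_lit 512) (Steps.bwd (nat_lit 4) (Steps.fwd (nat_lit 512) (Steps.bwd (nat_lit 4) (Steps.fwd (nat_lit 512) (Steps.fwd (nat_lit 1536) Steps.nil))))))) (nat_lit 5) (nat_lit 0),
  Rule.mk (nat_lit 1) (nat_lit 78) (Steps.bwd (nat_lit 4) (Steps.bwd (nat_lit 1) (Steps.bwd (nat_lit 3) (Steps.bwd (nat_lit 2) (Steps.fwd (nat_lit 2048) (Steps.fwd (nat_lit 512) (Steps.fwd (nat_lit 1536) Steps.nil))))))) (nat_lit 6) (nat_lit 7),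
  Rule.mk (nat_lit 3) (nat_lit 128) (Steps.bwd (nat_lit 5) (Steps.fwd (nat_lit 1024) (Steps.bwd (nat_lit 3) (Steps.fwd (nat_lit 1024) (Steps.bwd (nat_lit 3) (Steps.fwd (nat_lit 2560) (Steps.fwd (nat_lit 1536) (Steps.bwd (nat_lit 2) (Steps.fwd (nat_lit 1536) (Steps.fwd (nat_lit 2560) (Steps.bwd (nat_lit 3) (Steps.bwd (nat_lit 1) Steps.nil)))))))))))) (nat_lit 14) (nat_lit 12),
  Rule.mk (nat_lit 3) (nat_lit 38) (Steps.bwd (nat_lit 3) (Steps.fwd (nat_lit 2048) (Steps.bwd (nat_lit 3) Steps.nil))) (nat_lit 2) (nat_lit 0),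
  Rule.mk (nat_lit 1) (nat_lit 78) (Steps.bwd (nat_lit 3) (Steps.fwd (nat_lit 1024) (Steps.bwd (nat_lit 3) (Steps.bwd (nat_lit 1) (Steps.bwd (nat_lit 3) (Steps.fwd (nat_lit 1024) (Steps.bwd (nat_lit 3) Steps.nil))))))) (nat_lit 4) (nat_lit 1),
  Rule.mk (nat_lit 4) (nat_lit 78) (Steps.bwd (nat_lit 1) (Steps.bwd (nat_lit 3) (Steps.fwd (nat_lit 512) (Steps.fwd (nat_lit 2048) (Steps.fwd (nat_lit 512) (Steps.fwd (nat_lit 1536) (Steps.bwd (nat_lit 1) Steps.nil))))))) (nat_lit 6) (nat_lit 0),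
  Rule.mk (nat_lit 2) (nat_lit 28) (Steps.bwd (nat_lit 2) (Steps.fwd (nat_lit 512) Steps.nil)) (nat_lit 1) (nat_lit 0),
  Rule.mk (nat_lit 3) (nat_lit 78) (Steps.bwd (nat_lit 2) (Steps.bwd (nat_lit 4) (Steps.bwd (nat_lit 1) (Steps.fwd (nat_lit 1536) (Steps.fwd (nat_lit 1024) (Steps.bwd (nat_lit 3) (Steps.fwd (nat_lit 512) Steps.nil))))))) (nat_lit 6) (nat_lit 4),
  Rule.mk (nat_lit 5) (nat_lit 128) (Steps.bwd (nat_lit 4) (Steps.fwd (nat_lit 512) (Steps.bwd (nat_lit 4) (Steps.fwd (nat_lit 2560) (Steps.fwd (nat_lit 2048) (Steps.fwd (nat_lit 1024) (Steps.bwd (nat_lit 3) (Steps.bwd (nat_lit 5) (Steps.fwd (nat_lit 1024) (Steps.fwd (nat_lit 2048) (Steps.bwd (nat_lit 1) (Steps.bwd (nat_lit 3) Steps.nil)))))))))))) (nat_lit 14) (nat_lit 5),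
  Rule.mk (nat_lit 5) (nat_lit 38) (Steps.bwd (nat_lit 2) (Steps.fwd (nat_lit 2560) (Steps.fwd (nat_lit 1024) Steps.nil))) (nat_lit 10) (nat_lit 2),
  Rule.mk (nat_lit 4) (nat_lit 78) (Steps.bwd (nat_lit 2) (Steps.bwd (nat_lit 4) (Steps.fwd (nat_lit 512) (Steps.bwd (nat_lit 4) (Steps.bwd (nat_lit 2) (Steps.bwd (nat_lit 4) (Steps.bwd (nat_lit 2) Steps.nil))))))) (nat_lit 5) (nat_lit 1)]
noncomputable def R_1 : List (Rule) := [Rule.mk (nat_lit 6) (nat_lit 118) (Steps.fwd (nat_lit 1536) (Steps.bwd (nat_lit 4) (Steps.bwd (nat_lit 2) (Steps.fwd (nat_lit 1536) (Steps.bwd (nat_lit 5) (Steps.fwd (nat_lit 3072) (Steps.bwd (nat_lit 4) (Steps.fwd (nat_lit 1536) (Steps.fwd (nat_lit 512) (Steps.fwd (nat_lit 1536) (Steps.bwd (nat_lit 5) Steps.nil))))))))))) (nat_lit 25) (nat_lit 3),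
  Rule.mk (nat_lit 6) (nat_lit 38) (Steps.fwd (nat_lit 1024) (Steps.bwd (nat_lit 6) (Steps.bwd (nat_lit 2) Steps.nil))) (nat_lit 18) (nat_lit 0),
  Rule.mk (nat_lit 3) (nat_lit 38) (Steps.bwd (nat_lit 3) (Steps.fwd (nat_lit 2048) (Steps.fwd (nat_lit 2048) Steps.nil))) (nat_lit 2) (nat_lit 0),
  Rule.mk (nat_lit 5) (nat_lit 58) (Steps.bwd (nat_lit 3) (Steps.fwd (nat_lit 2560) (Steps.fwd (nat_lit 2048) (Steps.bwd (nat_lit 5) (Steps.fwd (nat_lit 2048) Steps.nil))))) (nat_lit 12) (nat_lit 0),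
  Rule.mk (nat_lit 2) (nat_lit 78) (Steps.bwd (nat_lit 3) (Steps.fwd (nat_lit 512) (Steps.bwd (nat_lit 4) (Steps.fwd (nat_lit 1024) (Steps.bwd (nat_lit 4) (Steps.bwd (nat_lit 1) (Steps.fwd (nat_lit 2048) Steps.nil))))))) (nat_lit 6) (nat_lit 3),
  Rule.mk (nat_lit 1) (nat_lit 78) (Steps.bwd (nat_lit 3) (Steps.fwd (nat_lit 512) (Steps.fwd (nat_lit 2048) (Steps.bwd (nat_lit 2) (Steps.bwd (nat_lit 4) (Steps.fwd (nat_lit 1024) (Steps.bwd (nat_lit 4) Steps.nil))))))) (nat_lit 6) (nat_lit 1),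
  Rule.mk (nat_lit 6) (nat_lit 38) (Steps.bwd (nat_lit 2) (Steps.fwd (nat_lit 3072) (Steps.bwd (nat_lit 1) Steps.nil))) (nat_lit 18) (nat_lit 2),
  Rule.mk (nat_lit 1) (nat_lit 78) (Steps.bwd (nat_lit 3) (Steps.bwd (nat_lit 1) (Steps.bwd (nat_lit 3) (Steps.bwd (nat_lit 1) (Steps.bwd (nat_lit 3) (Steps.fwd (nat_lit 1024) (Steps.bwd (nat_lit 3) Steps.nil))))))) (nat_lit 4) (nat_lit 1),
  Rule.mk (nat_lit 6) (nat_lit 88) (Steps.bwd (nat_lit 3) (Steps.fwd (nat_lit 2048) (Steps.bwd (nat_lit 6) (Steps.bwd (nat_lit 3) (Steps.bwd (nat_lit 3) (Steps.bwd (nat_lit 6) (Steps.fwd (nat_lit 2048) (Steps.bwd (nat_lit 3) Steps.nil)))))))) (nat_lit 20) (nat_lit 0),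
  Rule.mk (nat_lit 4) (nat_lit 38) (Steps.bwd (nat_lit 4) (Steps.fwd (nat_lit 1536) (Steps.bwd (nat_lit 4) Steps.nil))) (nat_lit 3) (nat_lit 0),
  Rule.mk (nat_lit 5) (nat_lit 58) (Steps.bwd (nat_lit 4) (Steps.bwd (nat_lit 5) (Steps.bwd (nat_lit 4) (Steps.bwd (nat_lit 5) (Steps.fwd (nat_lit 1536) Steps.nil))))) (nat_lit 13) (nat_lit 1),
  Rule.mk (nat_lit 2) (nat_lit 78) (Steps.bwd (nat_lit 4) (Steps.bwd (nat_lit 2) (Steps.bwd (nat_lit 4) (Steps.fwd (nat_lit 512) (Steps.bwd (nat_lit 4) (Steps.fwd (nat_lit 512) (Steps.bwd (nat_lit 4) Steps.nil))))))) (nat_lit 5) (nat_lit 0),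
  Rule.mk (nat_lit 6) (nat_lit 38) (Steps.bwd (nat_lit 2) (Steps.bwd (nat_lit 6) (Steps.fwd (nat_lit 1024) Steps.nil))) (nat_lit 18) (nat_lit 2),
  Rule.mk (nat_lit 4) (nat_lit 98) (Steps.fwd (nat_lit 3072) (Steps.fwd (nat_lit 1024) (Steps.bwd (nat_lit 4) (Steps.fwd (nat_lit 2560) (Steps.bwd (nat_lit 3) (Steps.fwd (nat_lit 512) (Steps.fwd (nat_lit 3072) (Steps.fwd (nat_lit 2048) (Steps.bwd (nat_lit 6) Steps.nil))))))))) (nat_lit 22) (nat_lit 9),
  Rule.mk (nat_lit 5) (nat_lit 98) (Steps.fwd (nat_lit 2048) (Steps.bwd (nat_lit 2) (Steps.bwd (nat_lit 6) (Steps.fwd (nat_lit 2048) (Steps.fwd (nat_lit 3072) (Steps.bwd (nat_lit 4) (Steps.fwd (nat_lit 3072) (Steps.fwd (nat_lit 1024) (Steps.bwd (nat_lit 4) Steps.nil))))))))) (nat_lit 22) (nat_lit 3),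
  Rule.mk (nat_lit 3) (nat_lit 98) (Steps.bwd (nat_lit 6) (Steps.bwd (nat_lit 4) (Steps.bwd (nat_lit 6) (Steps.bwd (nat_lit 1) (Steps.bwd (nat_lit 4) (Steps.bwd (nat_lit 5) (Steps.fwd (nat_lit 2048) (Steps.bwd (nat_lit 2) (Steps.fwd (nat_lit 3072) Steps.nil))))))))) (nat_lit 22) (nat_lit 7),
  Rule.mk (nat_lit 6) (nat_lit 88) (Steps.bwd (nat_lit 3) (Steps.bwd (nat_lit 3) (Steps.bwd (nat_lit 6) (Steps.fwd (nat_lit 2048) (Steps.bwd (nat_lit 3) (Steps.bwd (nat_lit 6) (Steps.bwd (nat_lit 3) (Steps.fwd (nat_lit 2048) Steps.nil)))))))) (nat_lit 20) (nat_lit 0),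
  Rule.mk (nat_lit 6) (nat_lit 118) (Steps.bwd (nat_lit 5) (Steps.bwd (nat_lit 3) (Steps.fwd (nat_lit 1024) (Steps.fwd (nat_lit 2048) (Steps.fwd (nat_lit 2048) (Steps.bwd (nat_lit 6) (Steps.fwd (nat_lit 2560) (Steps.fwd (nat_lit 2048) (Steps.fwd (nat_lit 1024) (Steps.bwd (nat_lit 3) (Steps.bwd (nat_lit 3) Steps.nil))))))))))) (nat_lit 24) (nat_lit 4),
  Rule.mk (nat_lit 4) (nat_lit 58) (Steps.bwd (nat_lit 5) (Steps.bwd (nat_lit 4) (Steps.fwd (nat_lit 2560) (Steps.fwd (nat_lit 1536) (Steps.fwd (nat_lit 2560) Steps.nil))))) (nat_lit 13) (nat_lit 0),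
  Rule.mk (nat_lit 6) (nat_lit 118) (Steps.bwd (nat_lit 4) (Steps.bwd (nat_lit 4) (Steps.fwd (nat_lit 512) (Steps.bwd (nat_lit 4) (Steps.fwd (nat_lit 2560) (Steps.bwd (nat_lit 6) (Steps.fwd (nat_lit 1536) (Steps.fwd (nat_lit 1536) (Steps.bwd (nat_lit 2) (Steps.fwd (nat_lit 1536) (Steps.fwd (nat_lit 2560) Steps.nil))))))))))) (nat_lit 25) (nat_lit 3),
  Rule.mk (nat_lit 4) (nat_lit 78) (Steps.bwd (nat_lit 1) (Steps.bwd (nat_lit 4) (Steps.fwd (nat_lit 1024) (Steps.bwd (nat_lit 3) (Steps.bwd (nat_lit 2) (Steps.fwd (nat_lit 2048) (Steps.fwd (nat_lit 512) Steps.nil))))))) (nat_lit 6) (nat_lit 6),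
  Rule.mk (nat_lit 5) (nat_lit 118) (Steps.bwd (nat_lit 6) (Steps.bwd (nat_lit 4) (Steps.bwd (nat_lit 4) (Steps.bwd (nat_lit 2) (Steps.bwd (nat_lit 4) (Steps.fwd (nat_lit 2560) (Steps.bwd (nat_lit 6) (Steps.bwd (nat_lit 4) (Steps.bwd (nat_lit 4) (Steps.fwd (nat_lit 512) (Steps.fwd (nat_lit 1536) Steps.nil))))))))))) (nat_lit 25) (nat_lit 2),
  Rule.mk (nat_lit 3) (nat_lit 58) (Steps.fwd (nat_lit 2560) (Steps.bwd (nat_lit 3) (Steps.fwd (nat_lit 2560) (Steps.bwd (nat_lit 3) (Steps.bwd (nat_lit 5) Steps.nil))))) (nat_lit 12) (nat_lit 1),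
  Rule.mk (nat_lit 5) (nat_lit 38) (Steps.bwd (nat_lit 2) (Steps.bwd (nat_lit 5) (Steps.fwd (nat_lit 1024) Steps.nil))) (nat_lit 10) (nat_lit 2),
  Rule.mk (nat_lit 3) (nat_lit 58) (Steps.bwd (nat_lit 5) (Steps.bwd (nat_lit 3) (Steps.bwd (nat_lit 5) (Steps.bwd (nat_lit 3) (Steps.bwd (nat_lit 5) Steps.nil))))) (nat_lit 12) (nat_lit 1),
  Rule.mk (nat_lit 1) (nat_lit 78) (Steps.bwd (nat_lit 3) (Steps.bwd (nat_lit 1) (Steps.bwd (nat_lit 3) (Steps.fwd (nat_lit 1024) (Steps.fwd (nat_lit 2048) (Steps.fwd (nat_lit 1024) (Steps.fwd (nat_lit 2048) Steps.nil))))))) (nat_lit 4) (nat_lit 1),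
  Rule.mk (nat_lit 2) (nat_lit 78) (Steps.bwd (nat_lit 3) (Steps.bwd (nat_lit 2) (Steps.bwd (nat_lit 4) (Steps.bwd (nat_lit 1) (Steps.bwd (nat_lit 4) (Steps.bwd (nat_lit 1) (Steps.fwd (nat_lit 2048) Steps.nil))))))) (nat_lit 6) (nat_lit 3),
  Rule.mk (nat_lit 6) (nat_lit 98) (Steps.bwd (nat_lit 3) (Steps.bwd (nat_lit 6) (Steps.fwd (nat_lit 1536) (Steps.fwd (nat_lit 3072) (Steps.bwd (nat_lit 1) (Steps.fwd (nat_lit 1536) (Steps.bwd (nat_lit 5) (Steps.bwd (nat_lit 3) (Steps.bwd (nat_lit 2) Steps.nil))))))))) (nat_lit 22) (nat_lit 6),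
  Rule.mk (nat_lit 4) (nat_lit 58) (Steps.bwd (nat_lit 5) (Steps.bwd (nat_lit 4) (Steps.bwd (nat_lit 5) (Steps.fwd (nat_lit 1536) (Steps.bwd (nat_lit 5) Steps.nil))))) (nat_lit 13) (nat_lit 0),
  Rule.mk (nat_lit 6) (nat_lit 38) (Steps.bwd (nat_lit 1) (Steps.bwd (nat_lit 6) (Steps.bwd (nat_lit 2) Steps.nil))) (nat_lit 18) (nat_lit 0),
  Rule.mk (nat_lit 6) (nat_lit 98) (Steps.bwd (nat_lit 4) (Steps.fwd (nat_lit 3072) (Steps.fwd (nat_lit 1024) (Steps.bwd (nat_lit 4) (Steps.bwd (nat_lit 5) (Steps.bwd (nat_lit 3) (Steps.bwd (nat_lit 2) (Steps.bwd (nat_lit 6) (Steps.bwd (nat_lit 3) Steps.nil))))))))) (nat_lit 22) (nat_lit 8),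
  Rule.mk (nat_lit 6) (nat_lit 88) (Steps.bwd (nat_lit 4) (Steps.bwd (nat_lit 4) (Steps.fwd (nat_lit 3072) (Steps.bwd (nat_lit 4) (Steps.bwd (nat_lit 4) (Steps.bwd (nat_lit 6) (Steps.bwd (nat_lit 4) (Steps.bwd (nat_lit 4) Steps.nil)))))))) (nat_lit 21) (nat_lit 1),
  Rule.mk (nat_lit 2) (nat_lit 38) (Steps.bwd (nat_lit 6) (Steps.bwd (nat_lit 1) (Steps.bwd (nat_lit 6) Steps.nil))) (nat_lit 18) (nat_lit 3),
  Rule.mk (nat_lit 1) (nat_lit 38) (Steps.bwd (nat_lit 6) (Steps.fwd (nat_lit 512) (Steps.bwd (nat_lit 6) Steps.nil))) (nat_lit 18) (nat_lit 1),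
  Rule.mk (nat_lit 5) (nat_lit 118) (Steps.bwd (nat_lit 6) (Steps.fwd (nat_lit 1536) (Steps.fwd (nat_lit 1536) (Steps.bwd (nat_lit 2) (Steps.bwd (nat_lit 4) (Steps.fwd (nat_lit 2560) (Steps.fwd (nat_lit 3072) (Steps.fwd (nat_lit 1536) (Steps.fwd (nat_lit 1536) (Steps.fwd (nat_lit 512) (Steps.bwd (nat_lit 4) Steps.nil))))))))))) (nat_lit 25) (nat_lit 2),
  Rule.mk (nat_lit 4) (nat_lit 98) (Steps.bwd (nat_lit 5) (Steps.fwd (nat_lit 2048) (Steps.bwd (nat_lit 2) (Steps.bwd (nat_lit 6) (Steps.fwd (nat_lit 2048) (Steps.fwd (nat_lit 3072) (Steps.bwd (nat_lit 4) (Steps.bwd (nat_lit 6) (Steps.bwd (nat_lit 1) Steps.nil))))))))) (nat_lit 22) (nat_lit 2),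
  Rule.mk (nat_lit 5) (nat_lit 58) (Steps.fwd (nat_lit 2048) (Steps.fwd (nat_lit 2560) (Steps.fwd (nat_lit 2048) (Steps.fwd (nat_lit 2560) (Steps.fwd (nat_lit 2048) Steps.nil))))) (nat_lit 12) (nat_lit 0),
  Rule.mk (nat_lit 5) (nat_lit 38) (Steps.fwd (nat_lit 512) (Steps.fwd (nat_lit 2560) (Steps.bwd (nat_lit 1) Steps.nil))) (nat_lit 10) (nat_lit 2),
  Rule.mk (nat_lit 4) (nat_lit 78) (Steps.bwd (nat_lit 2) (Steps.bwd (nat_lit 4) (Steps.bwd (nat_lit 2) (Steps.fwd (nat_lit 1536) (Steps.bwd (nat_lit 2) (Steps.bwd (nat_lit 4) (Steps.bwd (nat_lit 2) Steps.nil))))))) (nat_lit 5) (nat_lit 1),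
  Rule.mk (nat_lit 2) (nat_lit 38) (Steps.bwd (nat_lit 5) (Steps.fwd (nat_lit 1024) (Steps.bwd (nat_lit 5) Steps.nil))) (nat_lit 10) (nat_lit 3),
  Rule.mk (nat_lit 1) (nat_lit 38) (Steps.bwd (nat_lit 5) (Steps.bwd (nat_lit 2) (Steps.bwd (nat_lit 5) Steps.nil))) (nat_lit 10) (nat_lit 1),
  Rule.mk (nat_lit 6) (nat_lit 118) (Steps.bwd (nat_lit 5) (Steps.fwd (nat_lit 2048) (Steps.fwd (nat_lit 1024) (Steps.fwd (nat_lit 2048) (Steps.fwd (nat_lit 2048) (Steps.fwd (nat_lit 3072) (Steps.fwd (nat_lit 2560) (Steps.fwd (nat_lit 2048) (Steps.bwd (nat_lit 1) (Steps.fwd (nat_lit 2048) (Steps.fwd (nat_lit 2048) Steps.nil))))))))))) (nat_lit 24) (nat_lit 4),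
  Rule.mk (nat_lit 4) (nat_lit 128) (Steps.bwd (nat_lit 5) (Steps.fwd (nat_lit 2048) (Steps.fwd (nat_lit 1024) (Steps.fwd (nat_lit 2048) (Steps.fwd (nat_lit 2560) (Steps.fwd (nat_lit 1024) (Steps.bwd (nat_lit 3) (Steps.fwd (nat_lit 1024) (Steps.fwd (nat_lit 2048) (Steps.bwd (nat_lit 5) (Steps.bwd (nat_lit 4) (Steps.bwd (nat_lit 2) Steps.nil)))))))))))) (nat_lit 14) (nat_lit 8),
  Rule.mk (nat_lit 4) (nat_lit 78) (Steps.bwd (nat_lit 1) (Steps.bwd (nat_lit 3) (Steps.bwd (nat_lit 2) (Steps.fwd (nat_lit 2048) (Steps.bwd (nat_lit 2) (Steps.bwd (nat_lit 4) (Steps.fwd (nat_lit 1024) Steps.nil))))))) (nat_lit 6) (nat_lit 0),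
  Rule.mk (nat_lit 6) (nat_lit 98) (Steps.fwd (nat_lit 1536) (Steps.bwd (nat_lit 6) (Steps.bwd (nat_lit 1) (Steps.bwd (nat_lit 4) (Steps.fwd (nat_lit 2560) (Steps.fwd (nat_lit 2048) (Steps.fwd (nat_lit 512) (Steps.fwd (nat_lit 3072) (Steps.bwd (nat_lit 3) Steps.nil))))))))) (nat_lit 22) (nat_lit 8),
  Rule.mk (nat_lit 6) (nat_lit 118) (Steps.bwd (nat_lit 5) (Steps.bwd (nat_lit 3) (Steps.bwd (nat_lit 1) (Steps.bwd (nat_lit 3) (Steps.bwd (nat_lit 3) (Steps.bwd (nat_lit 6) (Steps.bwd (nat_lit 5) (Steps.fwd (nat_lit 2048) (Steps.fwd (nat_lit 1024) (Steps.fwd (nat_lit 2048) (Steps.fwd (nat_lit 2048) Steps.nil))))))))))) (nat_lit 24) (nat_lit 4),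
  Rule.mk (nat_lit 5) (nat_lit 58) (Steps.bwd (nat_lit 4) (Steps.bwd (nat_lit 5) (Steps.fwd (nat_lit 1536) (Steps.fwd (nat_lit 2560) (Steps.bwd (nat_lit 4) Steps.nil))))) (nat_lit 13) (nat_lit 1),
  Rule.mk (nat_lit 6) (nat_lit 98) (Steps.bwd (nat_lit 4) (Steps.fwd (nat_lit 3072) (Steps.bwd (nat_lit 1) (Steps.bwd (nat_lit 4) (Steps.bwd (nat_lit 5) (Steps.fwd (nat_lit 2048) (Steps.fwd (nat_lit 512) (Steps.bwd (nat_lit 6) (Steps.fwd (nat_lit 2048) Steps.nil))))))))) (nat_lit 22) (nat_lit 8),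
  Rule.mk (nat_lit 4) (nat_lit 88) (Steps.bwd (nat_lit 6) (Steps.bwd (nat_lit 4) (Steps.bwd (nat_lit 4) (Steps.fwd (nat_lit 3072) (Steps.bwd (nat_lit 4) (Steps.bwd (nat_lit 4) (Steps.fwd (nat_lit 3072) (Steps.fwd (nat_lit 1536) Steps.nil)))))))) (nat_lit 21) (nat_lit 0),
  Rule.mk (nat_lit 3) (nat_lit 98) (Steps.bwd (nat_lit 6) (Steps.bwd (nat_lit 4) (Steps.fwd (nat_lit 3072) (Steps.fwd (nat_lit 1024) (Steps.bwd (nat_lit 4) (Steps.bwd (nat_lit 5) (Steps.fwd (nat_lit 2048) (Steps.bwd (nat_lit 2) (Steps.bwd (nat_lit 6) Steps.nil))))))))) (nat_lit 22) (nat_lit 7),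
  Rule.mk (nat_lit 5) (nat_lit 58) (Steps.fwd (nat_lit 2048) (Steps.bwd (nat_lit 5) (Steps.bwd (nat_lit 3) (Steps.fwd (nat_lit 2560) (Steps.bwd (nat_lit 3) Steps.nil))))) (nat_lit 12) (nat_lit 0),
  Rule.mk (nat_lit 5) (nat_lit 58) (Steps.bwd (nat_lit 4) (Steps.bwd (nat_lit 5) (Steps.fwd (nat_lit 1536) (Steps.bwd (nat_lit 5) (Steps.fwd (nat_lit 1536) Steps.nil))))) (nat_lit 13) (nat_lit 1),
  Rule.mk (nat_lit 2) (nat_lit 78) (Steps.bwd (nat_lit 4) (Steps.bwd (nat_lit 2) (Steps.bwd (nat_lit 4) (Steps.fwd (nat_lit 512) (Steps.bwd (nat_lit 4) (Steps.bwd (nat_lit 2) (Steps.bwd (nat_lit 4) Steps.nil))))))) (nat_lit 5) (nat_lit 0),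
  Rule.mk (nat_lit 5) (nat_lit 58) (Steps.bwd (nat_lit 4) (Steps.fwd (nat_lit 2560) (Steps.bwd (nat_lit 4) (Steps.bwd (nat_lit 5) (Steps.bwd (nat_lit 4) Steps.nil))))) (nat_lit 13) (nat_lit 1),
  Rule.mk (nat_lit 1) (nat_lit 78) (Steps.bwd (nat_lit 4) (Steps.fwd (nat_lit 1024) (Steps.fwd (nat_lit 2048) (Steps.fwd (nat_lit 512) (Steps.fwd (nat_lit 2048) (Steps.bwd (nat_lit 2) (Steps.bwd (nat_lit 4) Steps.nil))))))) (nat_lit 6) (nat_lit 7),
  Rule.mk (nat_lit 2) (nat_lit 78) (Steps.bwd (nat_lit 4) (Steps.fwd (nat_lit 1024) (Steps.fwd (nat_lit 1536) (Steps.fwd (nat_lit 1024) (Steps.fwd (nat_lit 2048) (Steps.bwd (nat_lit 2) (Steps.fwd (nat_lit 2048) Steps.nil))))))) (nat_lit 6) (nat_lit 5),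
  Rule.mk (nat_lit 5) (nat_lit 58) (Steps.bwd (nat_lit 4) (Steps.fwd (nat_lit 2560) (Steps.fwd (nat_lit 1536) (Steps.fwd (nat_lit 2560) (Steps.bwd (nat_lit 4) Steps.nil))))) (nat_lit 13) (nat_lit 1),
  Rule.mk (nat_lit 6) (nat_lit 88) (Steps.bwd (nat_lit 4) (Steps.bwd (nat_lit 4) (Steps.fwd (nat_lit 3072) (Steps.bwd (nat_lit 4) (Steps.bwd (nat_lit 4) (Steps.fwd (nat_lit 3072) (Steps.fwd (nat_lit 1536) (Steps.fwd (nat_lit 1536) Steps.nil)))))))) (nat_lit 21) (nat_lit 1),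
  Rule.mk (nat_lit 6) (nat_lit 38) (Steps.bwd (nat_lit 1) (Steps.fwd (nat_lit 3072) (Steps.bwd (nat_lit 2) Steps.nil))) (nat_lit 18) (nat_lit 0),
  Rule.mk (nat_lit 6) (nat_lit 98) (Steps.bwd (nat_lit 3) (Steps.fwd (nat_lit 3072) (Steps.fwd (nat_lit 1536) (Steps.fwd (nat_lit 3072) (Steps.bwd (nat_lit 1) (Steps.bwd (nat_lit 4) (Steps.fwd (nat_lit 2560) (Steps.bwd (nat_lit 3) (Steps.bwd (nat_lit 2) Steps.nil))))))))) (nat_lit 22) (nat_lit 6),
  Rule.mk (nat_lit 1) (nat_lit 128) (Steps.bwd (nat_lit 3) (Steps.bwd (nat_lit 1) (Steps.fwd (nat_lit 2048) (Steps.bwd (nat_lit 5) (Steps.fwd (nat_lit 1536) (Steps.fwd (nat_lit 512) (Steps.bwd (nat_lit 4) (Steps.fwd (nat_lit 2560) (Steps.fwd (nat_lit 2048) (Steps.bwd (nat_lit 1) (Steps.bwd (nat_lit 3) (Steps.fwd (nat_lit 2560) Steps.nil)))))))))))) (nat_lit 14) (nat_lit 1),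
  Rule.mk (nat_lit 3) (nat_lit 118) (Steps.fwd (nat_lit 3072) (Steps.fwd (nat_lit 2560) (Steps.fwd (nat_lit 2048) (Steps.bwd (nat_lit 1) (Steps.fwd (nat_lit 2048) (Steps.bwd (nat_lit 3) (Steps.bwd (nat_lit 6) (Steps.fwd (nat_lit 2560) (Steps.fwd (nat_lit 2048) (Steps.bwd (nat_lit 1) (Steps.bwd (nat_lit 3) Steps.nil))))))))))) (nat_lit 24) (nat_lit 3),
  Rule.mk (nat_lit 0) (nat_lit 98) (Steps.bwd (nat_lit 6) (Steps.bwd (nat_lit 3) (Steps.bwd (nat_lit 3) (Steps.bwd (nat_lit 6) (Steps.bwd (nat_lit 3) (Steps.bwd (nat_lit 3) (Steps.fwd (nat_lit 3072) (Steps.bwd (nat_lit 3) (Steps.bwd (nat_lit 3) Steps.nil))))))))) (nat_lit 20) (nat_lit 2),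
  Rule.mk (nat_lit 6) (nat_lit 28) (Steps.bwd (nat_lit 0) (Steps.bwd (nat_lit 6) Steps.nil)) (nat_lit 26) (nat_lit 0)]
noncomputable def R_2 : List (Rule) := [Rule.mk (nat_lit 3) (nat_lit 78) (Steps.bwd (nat_lit 2) (Steps.bwd (nat_lit 4) (Steps.bwd (nat_lit 1) (Steps.fwd (nat_lit 1536) (Steps.bwd (nat_lit 1) (Steps.fwd (nat_lit 2048) (Steps.bwd (nat_lit 2) Steps.nil))))))) (nat_lit 6) (nat_lit 4),
  Rule.mk (nat_lit 4) (nat_lit 118) (Steps.bwd (nat_lit 2) (Steps.bwd (nat_lit 4) (Steps.bwd (nat_lit 5) (Steps.fwd (nat_lit 3072) (Steps.fwd (nat_lit 1536) (Steps.bwd (nat_lit 4) (Steps.bwd (nat_lit 2) (Steps.bwd (nat_lit 4) (Steps.bwd (nat_lit 5) (Steps.bwd (nat_lit 6) (Steps.fwd (nat_lit 1536) Steps.nil))))))))))) (nat_lit 25) (nat_lit 5),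
  Rule.mk (nat_lit 5) (nat_lit 38) (Steps.fwd (nat_lit 1024) (Steps.bwd (nat_lit 5) (Steps.bwd (nat_lit 2) Steps.nil))) (nat_lit 10) (nat_lit 0),
  Rule.mk (nat_lit 5) (nat_lit 38) (Steps.bwd (nat_lit 2) (Steps.fwd (nat_lit 2560) (Steps.bwd (nat_lit 1) Steps.nil))) (nat_lit 10) (nat_lit 2),
  Rule.mk (nat_lit 3) (nat_lit 78) (Steps.bwd (nat_lit 2) (Steps.bwd (nat_lit 4) (Steps.fwd (nat_lit 1024) (Steps.fwd (nat_lit 1536) (Steps.fwd (nat_lit 1024) (Steps.fwd (nat_lit 2048) (Steps.bwd (nat_lit 2) Steps.nil))))))) (nat_lit 6) (nat_lit 4),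
  Rule.mk (nat_lit 4) (nat_lit 78) (Steps.bwd (nat_lit 2) (Steps.fwd (nat_lit 2048) (Steps.fwd (nat_lit 512) (Steps.bwd (nat_lit 3) (Steps.fwd (nat_lit 1024) (Steps.bwd (nat_lit 4) (Steps.fwd (nat_lit 1024) Steps.nil))))))) (nat_lit 7) (nat_lit 7),
  Rule.mk (nat_lit 5) (nat_lit 58) (Steps.bwd (nat_lit 3) (Steps.bwd (nat_lit 5) (Steps.fwd (nat_lit 2048) (Steps.fwd (nat_lit 2560) (Steps.bwd (nat_lit 3) Steps.nil))))) (nat_lit 12) (nat_lit 0),
  Rule.mk (nat_lit 6) (nat_lit 88) (Steps.bwd (nat_lit 3) (Steps.fwd (nat_lit 2048) (Steps.bwd (nat_lit 6) (Steps.fwd (nat_lit 2048) (Steps.bwd (nat_lit 3) (Steps.fwd (nat_lit 3072) (Steps.fwd (nat_lit 2048) (Steps.bwd (nat_lit 3) Steps.nil)))))))) (nat_lit 20) (nat_lit 0),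
  Rule.mk (nat_lit 1) (nat_lit 28) (Steps.bwd (nat_lit 1) (Steps.fwd (nat_lit 1024) Steps.nil)) (nat_lit 0) (nat_lit 0),
  Rule.mk (nat_lit 2) (nat_lit 78) (Steps.bwd (nat_lit 3) (Steps.fwd (nat_lit 512) (Steps.fwd (nat_lit 1536) (Steps.fwd (nat_lit 1024) (Steps.bwd (nat_lit 4) (Steps.bwd (nat_lit 1) (Steps.bwd (nat_lit 3) Steps.nil))))))) (nat_lit 6) (nat_lit 3),
  Rule.mk (nat_lit 1) (nat_lit 78) (Steps.bwd (nat_lit 3) (Steps.fwd (nat_lit 512) (Steps.fwd (nat_lit 2048) (Steps.bwd (nat_lit 2) (Steps.fwd (nat_lit 1536) (Steps.fwd (nat_lit 1024) (Steps.bwd (nat_lit 4) Steps.nil))))))) (nat_lit 6) (nat_lit 1),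
  Rule.mk (nat_lit 3) (nat_lit 88) (Steps.bwd (nat_lit 3) (Steps.fwd (nat_lit 3072) (Steps.fwd (nat_lit 2048) (Steps.fwd (nat_lit 2048) (Steps.fwd (nat_lit 3072) (Steps.bwd (nat_lit 3) (Steps.fwd (nat_lit 2048) (Steps.bwd (nat_lit 6) Steps.nil)))))))) (nat_lit 20) (nat_lit 1),
  Rule.mk (nat_lit 6) (nat_lit 98) (Steps.bwd (nat_lit 3) (Steps.fwd (nat_lit 3072) (Steps.bwd (nat_lit 4) (Steps.fwd (nat_lit 3072) (Steps.fwd (nat_lit 1024) (Steps.bwd (nat_lit 4) (Steps.bwd (nat_lit 5) (Steps.bwd (nat_lit 3) (Steps.bwd (nat_lit 2) Steps.nil))))))))) (nat_lit 22) (nat_lit 6),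
  Rule.mk (nat_lit 5) (nat_lit 98) (Steps.bwd (nat_lit 3) (Steps.fwd (nat_lit 512) (Steps.fwd (nat_lit 3072) (Steps.fwd (nat_lit 2048) (Steps.fwd (nat_lit 3072) (Steps.bwd (nat_lit 4) (Steps.bwd (nat_lit 6) (Steps.bwd (nat_lit 1) (Steps.fwd (nat_lit 1536) Steps.nil))))))))) (nat_lit 22) (nat_lit 3),
  Rule.mk (nat_lit 2) (nat_lit 38) (Steps.bwd (nat_lit 6) (Steps.fwd (nat_lit 1024) (Steps.bwd (nat_lit 6) Steps.nil))) (nat_lit 18) (nat_lit 3),
  Rule.mk (nat_lit 1) (nat_lit 38) (Steps.bwd (nat_lit 6) (Steps.bwd (nat_lit 2) (Steps.bwd (nat_lit 6) Steps.nil))) (nat_lit 18) (nat_lit 1),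
  Rule.mk (nat_lit 4) (nat_lit 98) (Steps.bwd (nat_lit 6) (Steps.fwd (nat_lit 1024) (Steps.fwd (nat_lit 1536) (Steps.bwd (nat_lit 5) (Steps.bwd (nat_lit 3) (Steps.bwd (nat_lit 2) (Steps.bwd (nat_lit 6) (Steps.bwd (nat_lit 3) (Steps.fwd (nat_lit 3072) Steps.nil))))))))) (nat_lit 22) (nat_lit 9),
  Rule.mk (nat_lit 5) (nat_lit 118) (Steps.bwd (nat_lit 6) (Steps.fwd (nat_lit 1536) (Steps.bwd (nat_lit 4) (Steps.fwd (nat_lit 512) (Steps.bwd (nat_lit 4) (Steps.fwd (nat_lit 2560) (Steps.bwd (nat_lit 6) (Steps.fwd (nat_lit 1536) (Steps.fwd (nat_lit 1536) (Steps.bwd (nat_lit 2) (Steps.fwd (nat_lit 1536) Steps.nil))))))))))) (nat_lit 25) (nat_lit 2),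
  Rule.mk (nat_lit 5) (nat_lit 38) (Steps.bwd (nat_lit 1) (Steps.fwd (nat_lit 2560) (Steps.bwd (nat_lit 2) Steps.nil))) (nat_lit 10) (nat_lit 0),
  Rule.mk (nat_lit 6) (nat_lit 38) (Steps.bwd (nat_lit 1) (Steps.bwd (nat_lit 6) (Steps.fwd (nat_lit 512) Steps.nil))) (nat_lit 18) (nat_lit 0),
  Rule.mk (nat_lit 4) (nat_lit 78) (Steps.bwd (nat_lit 1) (Steps.bwd (nat_lit 4) (Steps.fwd (nat_lit 1024) (Steps.fwd (nat_lit 2048) (Steps.bwd (nat_lit 2) (Steps.bwd (nat_lit 3) (Steps.fwd (nat_lit 512) Steps.nil))))))) (nat_lit 6) (nat_lit 6),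
  Rule.mk (nat_lit 4) (nat_lit 58) (Steps.bwd (nat_lit 5) (Steps.bwd (nat_lit 4) (Steps.bwd (nat_lit 5) (Steps.bwd (nat_lit 4) (Steps.fwd (nat_lit 2560) Steps.nil))))) (nat_lit 13) (nat_lit 0),
  Rule.mk (nat_lit 1) (nat_lit 78) (Steps.bwd (nat_lit 4) (Steps.bwd (nat_lit 1) (Steps.bwd (nat_lit 3) (Steps.fwd (nat_lit 512) (Steps.fwd (nat_lit 2048) (Steps.bwd (nat_lit 2) (Steps.fwd (nat_lit 1536) Steps.nil))))))) (nat_lit 6) (nat_lit 7),
  Rule.mk (nat_lit 6) (nat_lit 98) (Steps.bwd (nat_lit 4) (Steps.fwd (nat_lit 3072) (Steps.bwd (nat_lit 1) (Steps.bwd (nat_lit 4) (Steps.fwd (nat_lit 2560) (Steps.fwd (nat_lit 2048) (Steps.fwd (nat_lit 512) (Steps.bwd (nat_lit 6) (Steps.fwd (nat_lit 2048) Steps.nil))))))))) (nat_lit 22) (nat_lit 8),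
  Rule.mk (nat_lit 4) (nat_lit 98) (Steps.bwd (nat_lit 6) (Steps.bwd (nat_lit 1) (Steps.bwd (nat_lit 4) (Steps.bwd (nat_lit 5) (Steps.bwd (nat_lit 3) (Steps.bwd (nat_lit 2) (Steps.fwd (nat_lit 3072) (Steps.fwd (nat_lit 2048) (Steps.fwd (nat_lit 3072) Steps.nil))))))))) (nat_lit 22) (nat_lit 9),
  Rule.mk (nat_lit 5) (nat_lit 118) (Steps.bwd (nat_lit 6) (Steps.bwd (nat_lit 4) (Steps.bwd (nat_lit 4) (Steps.fwd (nat_lit 512) (Steps.fwd (nat_lit 1536) (Steps.fwd (nat_lit 2560) (Steps.bwd (nat_lit 6) (Steps.bwd (nat_lit 4) (Steps.bwd (nat_lit 4) (Steps.fwd (nat_lit 512) (Steps.bwd (nat_lit 4) Steps.nil))))))))))) (nat_lit 25) (nat_lit 2),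
  Rule.mk (nat_lit 3) (nat_lit 78) (Steps.bwd (nat_lit 1) (Steps.bwd (nat_lit 3) (Steps.fwd (nat_lit 1024) (Steps.fwd (nat_lit 2048) (Steps.bwd (nat_lit 1) (Steps.fwd (nat_lit 2048) (Steps.bwd (nat_lit 1) Steps.nil))))))) (nat_lit 4) (nat_lit 0),
  Rule.mk (nat_lit 4) (nat_lit 78) (Steps.bwd (nat_lit 2) (Steps.fwd (nat_lit 1536) (Steps.fwd (nat_lit 512) (Steps.bwd (nat_lit 4) (Steps.fwd (nat_lit 512) (Steps.bwd (nat_lit 4) (Steps.bwd (nat_lit 2) Steps.nil))))))) (nat_lit 5) (nat_lit 1),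
  Rule.mk (nat_lit 4) (nat_lit 98) (Steps.bwd (nat_lit 6) (Steps.fwd (nat_lit 1024) (Steps.bwd (nat_lit 4) (Steps.bwd (nat_lit 5) (Steps.bwd (nat_lit 3) (Steps.fwd (nat_lit 512) (Steps.bwd (nat_lit 6) (Steps.fwd (nat_lit 2048) (Steps.fwd (nat_lit 3072) Steps.nil))))))))) (nat_lit 22) (nat_lit 9),
  Rule.mk (nat_lit 5) (nat_lit 98) (Steps.fwd (nat_lit 2048) (Steps.bwd (nat_lit 2) (Steps.bwd (nat_lit 6) (Steps.fwd (nat_lit 2048) (Steps.bwd (nat_lit 6) (Steps.bwd (nat_lit 4) (Steps.fwd (nat_lit 3072) (Steps.fwd (nat_lit 1024) (Steps.fwd (nat_lit 1536) Steps.nil))))))))) (nat_lit 22) (nat_lit 3)]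
noncomputable def R : List (List (Rule)) := [R_0, R_1, R_2]
def LW : List Word := [[], [0], [1], [2], [3], [4], [6], [0], [1], [2], [3], [4], [5]]
def par : Par := ⟨9, 4, 13, 22, 511, 8191, 4194303⟩
theorem hpar : par.ok := by decide
theorem hR0_0 : lall (R) (fun l => lall l (ruleOK rels LW par)) = true := by decide +kernel
theorem hR0 : lall (R) (fun l => lall l (ruleOK rels LW par)) = true := hR0_0
theorem hR : RulesOK rels LW par R := rulesOK_of rfl hR0
def cols : List (ℕ × ℕ) := [(512, 2), (1536, 4), (2560, 5), (3072, 6)]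
theorem hcols : lall cols (colOK rels LW par) = true := by decide +kernel
noncomputable def JS0 : List ℕ := [nat_lit 0xc701b830001b42c6e1c06d0a1b8011b8186e1b4206d0606d061d08220417200161d06d12034721b444021bc6d0c1b8041b42807048761bc6d10004761b43c6e1d86c010006d020386c1e87b0487b0407a1c86b0d018711b030001ac2c6f1c46b0a1c86d1ac30001a82c6b1bc6a0a1ac731c0031a8246c1ac206c0086c061b06b081b07001c0702007018701bc031ac1c6a0046a061a8031a814001b06d010041b46b1a8106b1a869031a46b00c020040200c6b1a4086a0086a01,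
  nat_lit 0x8420c200500c832b02c0102c84870008720084960e0370cc8100001218a80001c8625c9d28c392888b0549e200a48407c2724c9500880280007f080002720c0522c231fc9c0609480008840bc302582b2487f261fc2b0c89a2540d24c0d09c320ac7f2504c18270332742a1f890810b82c260300a47d230007d0b2141f0188f098221f48821004212122c0022c808f25c2d258950a8200188c018231f054031e20c031d20c041d050031a050021fc7016004111b038011a1ec0004064172307600085030601d1c800171d08b22471000586f0006f150000507c880748807c05000500421c850641b1b86d13,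
  nat_lit 0x140a47014510d8bc0cc492511895094262e4b712093450201d2902e249109328c914324c002450801250bc308c115caa0d4a60e003411304d2d0a10809023d00020008e3f0003a2f8552f0a4088a01149f0788e3e29c940209326801238f401234f000238b61404b264983b000020040301c33230e8002388c390040528007020062808f00c040248c3822c0822c148d284b6134b72c48b3722c0d24008028af228d8010b8280600a0308a3523091224d00000489170040026c28258250accc2d26cb02b8412b03f224883221c0021cc4872a83f1043f2a887300083227c162840e01088000bc010e8410f08a010872e0003223002218b48c00085110000a0c08b02cb008004842b,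
  nat_lit 0x14bd1104529574ab12ca40501005018bc33c6009c2329170072980810cb42cca35b298c633c672c41c28968000b8b60a4a6590aca528560022802c000b0c72d800572d4c93747334449328c12840127d580227c9e010003a27c44ba2f0632fc402789d5527821088202b4cb110ba0e438275509e2f4ce2b89d53000020200601407114ca184bc27548012789d172aca9038122989e0009d5127c611145f1a8d0318b5275409d0049d1500c0000cfc0026c9d17c3b17c9d26c004f0003e158cb290110405c00138c626c994d000980b2645a260c4010c0232a411278994c264252700d2612c42034974a0449f2ec98018070389749000b00f0c529ca6259209a0309539,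
  nat_lit 0x3acb62d40c030842a39467238b57531045360fa2d1d0003ece2184287333434034b9024ba008b42cdc8c1100ce0d8032d0b32c9c4052e4bc004b22d2e81437ce121ce218c012c9c0b903c022c8b16f0c8ca33c4215cc60a0c52ccb22c5b8002d85514c5f14c552d8006d028002c10c06014c40a42b308b06c10c232bc180401c092cc0c08c2909827308032bdac4e368862348209c26098c1008ae6a01cae2b5a4ae004ac682f8230941f020af2b19c032ac2cb0000b06601002000aa2b99402018350b8c12e4042b0a964000012a028012b0b52d8b9398c81003b314a86300ccb29d88a92a0a7110004b2d184492b81004402004a729980b707c320c4ae04003000a65f0081029978000140e4a,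
  nat_lit 0x1b0440e33c06008cb8b344143600b0180132a281e354ca7b32cc9890042d02c0a0240b0a4c9880004d0b0d83221c2b09cc743320063280d330cd31e180434409018c8340c685050ce3151cd206cc4840041c0be0c2600cc32030cc20b0000133c1f090270701b330cb30a0802030c401406328c18133816300807a014c02000cbf3c3b800803e48700cbe00003218a43b5fcbd0000601404390563b8681d0017e31014088cd078cd08814310052f4bc7d1d0843e50f434a220c002edf0f6004bb7b2e8012e8ac4436822320c7030be2e9e8002fcc0028b9792f4bc2e044b924c972580600cb878018240b025018022dddc2b00c05008b676,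
  nat_lit 0x2040e840c58128e39c3884838880333e0e184038e00b008e204cfe130e93826cdf078df063781e378ac0537420bd314ac2bd0a1a81d01006020dd9a37007018081044e140df3726464028db62148dd36804da0249b46ca546c9b024da98380433d8f7188dc3665c0036420020d8790040335c44010e40121008010141c35a58e807cd5683585e1943e3ac4635654d4100d42b3bcd308244f934e50d804cd293108d1890140706cd9079174b4be41c7a34648d01e5051f47c4547a1e0d0911547633e40301d8ce8f3380502c222102202c0533a38a3271212d8b2240d800ccd8d008d743082080d6008cc8c,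
  nat_lit 0x9830c3c0f84b1f8e5004009e3911521c822148a4547b39274e31e8e331]
theorem S0_c : blocks (facts 9 4 13 22 511 8191 4194303 10 1023 8 255 A R 32) 32 JS0 362 = true := by decide +kernel
theorem S0 : On (Step.{u} rels LW par A) 362 618 :=
  steps_of_blocks hpar hR S0_c (by decide +kernel)
theorem D0_c : allB (defOK 9 13 22 511 4194303 360 A K) 1 2 = true := by decide +kernel
theorem D0 : On (fun r => defOK par.W par.WL par.E par.mW par.mE 360 A K r = true) 256 384 :=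
  On.of_allB D0_c
noncomputable def JW0 : List ℕ := [nat_lit 0x29854caa2731a66f09ca9b0faa84b61c35020ecb71711b644cb51673101455499d4ccb04d89e925e790d5abd3dcaf9461f03b66a15a9dc340778c9ab915e6514a9962e85e143976566691361d633caed4c1e12469613d962280544ae1573e8b00f92c81466e8dc199162a8cdb1c538c704df9c8394a813f2a456e698e69d9344b0cf59e33f079567aca3b477cbd9ec564ae93b2c414cb354e1f73f8a8968aa656cb08fdac65aab31691ff5a880101204,
  nat_lit 0x1682d915a282744dc9f13c294549389451a48dc5c8a540c4d9349350f81e83f08040e0e81e83f1b43351c0794a64488810f41a1402985430c930c6a974ce4987293325c4a896a634c8afca79e75009e1419734846293e28a0da5fd49a8e15c114550ac1be5f8be9804c060d4899010a311178bb3089686099b2442552e23a2369648511542c434b4165282518a414229a5412726f2769e4af16129651cac95a1448404ea251602c91308316a7013a29f,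
  nat_lit 0x1f4901248e30b01710785a13025c47a2119c3411a89b46033119a1a1329046c8e71a88d86b0654a43188b9074181a03186a1fa9347f8571102284620a1428f06ea3f4863c0768f20d81b83387008411020a091bc8f50e0e04c2258922141f262c8c98e1081cd0c08646231c640c31262f9168bc1242504821f4ca4a12f13123e3a09024a2342fd2ba5423c96c8e90342e1c83a87620a43080a51208314659081f6609352880c08442f8471401bc4f223,
  nat_lit 0x941302404e19e3c5228ef1f0345238f71f83a87aa12]
theorem W0_c : blocks (rows 9 4 13 22 511 8191 4194303 11 2047 44 A 618 100 cols 32) 32 JW0 0 = true := by decide +kernel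
theorem W0 : On (Row.{u} rels LW par A 618 100 cols) 0 128 :=
  rows_of_blocks hpar (by decide) hcols W0_c (by decide +kernel)
theorem idx : Idx.{u} rels [[0], [2], [4], [6]] [[0], [2], [4]] 100 :=
  idx_of_cert hpar hR (K := K) (by decide +kernel) (T := 360) (T' := 384) (by decide) D0
    (subs := [1,3,5]) (by decide +kernel) (T1 := 362) (by decide) (N := 618) S0
    (by decide) (n' := 128) (by decide) W0 (by decide +kernel) (by decide +kernel)
end T0
theorem b0 : Bound.{u} rels [[0], [2], [4], [6]] 604800 := .of_idx T0.idx b1 (by decide)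
theorem bound : Bound.{u} rels (sg 4) 604800 := b0
theorem hrel0_0 : lall (rels) (fun r => C.eqW r []) = true := by decide +kernel
theorem hrel0 : lall (rels) (fun r => C.eqW r []) = true := hrel0_0
theorem hrel : ∀ r ∈ rels, ev C.g r = 1 := CA.H22Link.rels_of hC hrel0
theorem low3 : Low (C.grp (sg 1)) 3 [3] :=
  low_clo hC hlk 3 (by decide) [0,0] (m := 3) (CA.H22Link.sg_le _ (j := 0) (by decide)) (by decide +kernel) (by decide +kernel) (low_nil C) (by decide)
theorem low2 : Low (C.grp (sg 2)) 96 [2,3] :=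
  low_clo hC hlk 2 (by decide) [2,0,2,0,2,2,0,2,2,0] (m := 32) (CA.H22Link.sg_le _ (j := 1) (by decide)) (by decide +kernel) (by decide +kernel) low3 (by decide)
theorem low1 : Low (C.grp (sg 3)) 6048 [1,2,3] :=
  low_clo hC hlk 1 (by decide) [4,2,0,2,0,2,4,2,4,0,2,0,2,0] (m := 63) (CA.H22Link.sg_le _ (j := 2) (by decide)) (by decide +kernel) (by decide +kernel) low2 (by decide)
theorem low0 : Low (C.grp (sg 4)) 604800 [0,1,2,3] :=
  low_clo hC hlk 0 (by decide) [6,2,4,2,0,2,6,2,4,6,2,0,2] (m := 100) (CA.H22Link.sg_le _ (j := 3) (by decide)) (by decide +kernel) (by decide +kernel) low1 (by decide)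
theorem cb : Nat.card (C.grp gens) = 604800 ∧ IsBase (C.grp gens) [0,1,2,3] := CA.H22Link.card_base bound hrel low0
theorem card : Nat.card (C.grp gens) = 604800 := cb.1
theorem all_mem {w : Word} (hw : ∀ a ∈ w, a < 8) : C.ev w ∈ C.grp gens := CA.H22Link.sg_mem _ (k := 4) hw
def V_t0 : Net := [(nat_lit 0x510444544111505045540005450015115100145104455500, nat_lit 1),
  (nat_lit 0x13013113321223130310010011320103012210110000332030, nat_lit 2),
  (nat_lit 0x80d0a0b08090e030f0f0e090e06030c000a08010d050d0704, nat_lit 4),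
  (nat_lit 0x19006b00f700dc005700b7000c00b200b5007f00e500fc, nat_lit 8),
  (nat_lit 0x15a9000042e10000168c00005d6a00007ddb0000b102, nat_lit 16),
  (nat_lit 0x32425759000000001823e7400000000045d102a6, nat_lit 32),
  (nat_lit 0x6900000000000000002903738364a1c604, nat_lit 64),
  (nat_lit 0x19950a7fea6481c486, nat_lit 128),
  (nat_lit 0x960000000000000000100077c820804400, nat_lit 64),
  (nat_lit 0x3582beef00000000182282800000000000000088, nat_lit 32),
  (nat_lit 0xa8fb000091900000d708000041d60000056200000026, nat_lit 16),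
  (nat_lit 0x19006f007000950096002600880004005500480071000c, nat_lit 8),
  (nat_lit 0x10d0507090f0a08090b0f060e080e000202040208050c0700, nat_lit 4),
  (nat_lit 0x10132211030232222100010012230233122200100130312300, nat_lit 2),
  (nat_lit 0x51010415055011500401101500054411405010101440050100, nat_lit 1)]
def V_t1 : Net := [(nat_lit 0x10505154411104105111005514505040114445145044445004, nat_lit 1),
  (nat_lit 0x11313213213033012021020223010221020010013232133322, nat_lit 2),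
  (nat_lit 0x9000c0108080d0f0b000f030207020f09070b0804050e010c, nat_lit 4),
  (nat_lit 0xeb003c000500d600a6007b0038007500c00019002100c6, nat_lit 8),
  (nat_lit 0xd6d300001900000016f9000022430000fe2100000df2, nat_lit 16),
  (nat_lit 0x7b1c25bb0000000048c2c51c00000000f29e0001, nat_lit 32),
  (nat_lit 0x6000000000000000049cae598f4460401, nat_lit 64),
  (nat_lit 0xb7090920a4f4c60400, nat_lit 128),
  (nat_lit 0x100000000000000000010800a0f4460400, nat_lit 64),
  (nat_lit 0x954c00960000000008c2e50c0000000000000021, nat_lit 32),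
  (nat_lit 0x6043000041a700000094000004eb0000a23d00000000, nat_lit 16),
  (nat_lit 0xa3007c00f700da00fe006d0020003600a2001a009f0032, nat_lit 8),
  (nat_lit 0xa030c0b0803050d0a0a050c0200060807090902050f060000, nat_lit 4),
  (nat_lit 0x11300001101231123012113333110233112120110011001000, nat_lit 2),
  (nat_lit 0x11510050514044104141101114404550504151145141445404, nat_lit 1)]
def V_t2 : Net := [(nat_lit 0x54105104440501400544504004000110444010140054450400, nat_lit 1),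
  (nat_lit 0x33111132121032221102221020110012202102222110222102, nat_lit 2),
  (nat_lit 0x5030e090a00090104030c05000907050302000304000e0104, nat_lit 4),
  (nat_lit 0x700f500d9000a00020040003f004e0025001200c20030, nat_lit 8),
  (nat_lit 0xa03700004b110000a2020000203e000095a10000ca52, nat_lit 16),
  (nat_lit 0xd16d1b9000000000427e44080000000025810052, nat_lit 32),
  (nat_lit 0x910000000000000000536e440240930200, nat_lit 64),
  (nat_lit 0xef5910000240930200, nat_lit 128),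
  (nat_lit 0x8100000000000000005100000240930200, nat_lit 64),
  (nat_lit 0x1103029200000000027e44080000000000000000, nat_lit 32),
  (nat_lit 0xc17400005813000000000000002e000005a100000052, nat_lit 16),
  (nat_lit 0x300b400890002000200000037004a0020001200c20000, nat_lit 8),
  (nat_lit 0x5030c090b00080000020004000906040302000304000e0100, nat_lit 4),
  (nat_lit 0x33011000020002021102221000010010002100202110222100, nat_lit 2),
  (nat_lit 0x54105104440501400544504004000110444010140054450400, nat_lit 1)]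
def V_t3 : Net := [(nat_lit 0x5455155041145411050400414154510110414004505000041, nat_lit 1),
  (nat_lit 0x21302021211200320022000000230003232220221002200000, nat_lit 2),
  (nat_lit 0xc0d0f0f000a030c0106090503020e0e080c03020d00030004, nat_lit 4),
  (nat_lit 0x2100eb002400d00030006800af00b7006100c000030010, nat_lit 8),
  (nat_lit 0x63a0000c2b200003d690000102c0000c06b00008714, nat_lit 16),
  (nat_lit 0x1d5e21db000000002bc44e120000000000080014, nat_lit 32),
  (nat_lit 0xda00000000000000000b544c4b08928000, nat_lit 64),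
  (nat_lit 0x524800a4b08938000, nat_lit 128),
  (nat_lit 0x24b08928000, nat_lit 64),
  (nat_lit 0xc1288db000000000bc44e020000000000000000, nat_lit 32),
  (nat_lit 0x801a0000088200002849000040440000000800000014, nat_lit 16),
  (nat_lit 0x2100eb0024005800300028006f005f0021008000030000, nat_lit 8),
  (nat_lit 0xc0d0f0e080203040906010503020e06000c03080d00030000, nat_lit 4),
  (nat_lit 0x21322021031200120002000000210001012220001000200000, nat_lit 2),
  (nat_lit 0x5455155041145411050400404154510110414004505000040, nat_lit 1)]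
def V_t4 : Net := [(nat_lit 0xf0f0f0f0f0f0f0f0f0f0f0f0f0f0f0f0f0f0f0f0f0f0f0f0f, nat_lit 4),
  (nat_lit 0xf000f000f000f000f000f, nat_lit 8),
  (nat_lit 0xf0000000f0000000f, nat_lit 16),
  (nat_lit 0xffffff0000000000fffffff000000000fffffff0, nat_lit 32),
  (nat_lit 0xfffffff000000000, nat_lit 64),
  (nat_lit 0xffffffffffffffffff, nat_lit 128),
  (nat_lit 0xfffffff00, nat_lit 64),
  (nat_lit 0xf000000000000000f, nat_lit 32),
  (nat_lit 0xf0000000f0000000f0, nat_lit 16),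
  (nat_lit 0xf000f000f000f000f000f0, nat_lit 8)]
def V : Ctx := ⟨200, 8, [V_t0, V_t1, V_t2, V_t3, V_t4]⟩
theorem V_ok : V.ok = true := by decide +kernel
def V_ps : List (Word × ℕ) := [([], 2), ([0,0,0], 0), ([2,2,2,2], 0), ([0,2,0,2,0,2,0,2], 0), ([0,2,1,2,1,3,0,3], 0), ([4,4], 0), ([0,4,1,4], 0), ([2,4,2,4,2,4], 0), ([0,2,0,2,4,3,1,3,4,2,0,2,4], 0), ([6,6], 0), ([0,6,1,6], 0), ([2,2,6,2,2,6,2,2,6], 0), ([0,3,4,2,1,6,2,6,3,6], 0), ([0,2,2,6,4,2,0,2,2,6,4,2], 1)]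
theorem V_e_0 : lall (ceq [8] 5 V_ps) (eqP V) = true := by decide +kernel
theorem V_e : lall (ceq [8] 5 V_ps) (eqP V) = true := V_e_0
theorem V_cov : Cov V.g rels (V.ev [8]) 2 := cov_of V_ok V_e 2 2 0 (by decide +kernel) (by decide)
theorem V_w : ev V.g (cw gens [([5,7,0], [2], 5)]) = V.ev [8] := Ctx.eq_of_eqW V_ok (v := [8]) (by decide +kernel)
theorem V_st : St (C.grp gens) (Multiplicative (ZMod 2)) :=
  st_cyc bound rfl card.ge hrel V_cov _ (Ctx.eq_of_eqW hC (v := []) (by decide +kernel)) V_w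
def c2_t : List (List (List ℕ)) := [[[3],[1,3],[2,4],[3],[4,5,6],[5,6],[6]],
  [[],[],[2,3,6],[3,6],[4,5],[5],[6]],
  [[],[],[3,4,6],[3,5],[4,5],[5,6],[6]],
  [[],[],[],[6],[4,6],[5],[6]],
  [[],[],[],[],[6],[5],[6]],
  [[],[],[],[],[],[],[6]],
  [[],[],[],[],[],[],[]]]
noncomputable def c2 : PC := ⟨7, 2, 4, 12, 73, 2, 59, 3, 511, fun e => nth (nth c2_t [] (Nat.div e 7)) [] (Nat.mod e 7),
  [(0,[2],[1,2,3,4,5]),
  (0,[0],[2,4,6]),
  (0,[4],[3,5,6]),
  (0,[1],[0,1,2,3,5]),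
  (0,[3],[3,4,5]),
  (0,[6],[6]),
  (1,[5],[0,1,4]),
  (0,[5],[5,6]),
  (1,[4],[4,5]),
  (1,[6],[6])]⟩
def c2_A0 : List (List ℕ × List ℕ × ℕ) := [([2],[2,1],nat_lit 0x2000000000000000000003000000000000000000000000000000000000000003003002003000000000003000000003000000000001000001001002000000000000000000000000000),
  ([4],[2,2],nat_lit 0x1000000000000000000000000000000000000000000003000000000000000001002000000000000000000000000000000000000000000000000000000),
  ([5],[1,0],nat_lit 0x3003000000000000000000000000000000000000003000000000000000000000000000000000000000),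
  ([2],[0,0],nat_lit 0x1000000000000000000002001000000000000000000002001000000000000000000000000000000000000000000001000000000000000000000000000000000000001000002000000),
  ([5],[2,2],nat_lit 0x1000000000000000000001000000000000000000000003000000000000000000003000000000000000001002000000000000000000000000000000000000000000000000000000000),
  ([4],[4,0],nat_lit 0x3000000000000000000003003000000000000000003003000000000000000000000000000000000000000000000000000000000000000000000000000000001000002000000000000),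
  ([4],[0,0],nat_lit 0x1000000000000000000001001000000000000000000000000000000000000000000003000000000000000000000000000000000000000000000000000000001001002000000000000),
  ([4],[4,1],nat_lit 0x2003000000000000000000003000000000000000000000000000000000000000000000000000000000001000002000000000000000000000000000000000),
  ([2],[2,2],nat_lit 0x1000000000000000000001000000000000000000000000000000000000001000001001000000000000000000000000000000000000000000000000000),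
  ([3],[3,2],nat_lit 0x2003000000000000000000000000000000000000000003000000000000000001000000002000000000000000000000000000000000000000000000000000),
  ([4],[4,2],nat_lit 0x2003000000000000000000003000000000000000000000000000000000000001000002000000000000000000000000000000000000000000000000000000),
  ([2],[1,1],nat_lit 0x2000000000000000000000000000000000000000000000000000000000000001000000001000000000000000000000000000000001000000001002000000000000000000000000000),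
  ([1],[1,0],nat_lit 0x3000000000000000000000000000000000000000000000000000000000000003000000003000000000000000000000000000000000000000003000000000000000000000000002000),
  ([5],[0,0],nat_lit 0x1000000000000000000000000000000000000000000000000000000000000000003000000000000000000000000000000000000000000000000000000000001002000000000000000),
  ([4],[3,3],nat_lit 0x1000000000000000000000000000000000000000001000000000000000000001000002000000000000000000000000000000000000000000000000000000000000000000000000000),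
  ([5],[5,0],nat_lit 0x3000000000000000000003000000000000000000000000000000000000000000000000000000000000000000000000000000000000000000000000000000000002000000000000000),
  ([5],[5,2],nat_lit 0x3000000000000000000003000000000000000000000000000000000000000000000000000000000000000002000000000000000000000000000000000000000000000000000000000),
  ([3],[3,0],nat_lit 0x1000000002000000000),
  ([5],[3,3],nat_lit 0x1000000000000000000000000000000000000000000002000000000000000000000000000000000000000000000000000000000000000000000000000000),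
  ([3],[1,1],nat_lit 0x1000000000000000000000000000000000000000000000000000000000000000000000000000000000000000000000000000000001000000002000000000000000000000000000000),
  ([4],[1,1],nat_lit 0x1000000000000000000000000000000000000000000000000000000000000000000000000000000000001002000000000000000000000000000000000),
  ([6],[6,0],nat_lit 0x2000000000000000000),
  ([6],[6,2],nat_lit 0x2000000000000000000000000000000000000000000000000000000000000),
  ([5],[5,3],nat_lit 0x2000000000000000000000000000000000000000000000000000000000000000000000000000000),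
  ([5],[5,4],nat_lit 0x2000000000000000000000000000000000000000000000000000000000000000000000000000000000000000000000000000),
  ([0],[0,0],nat_lit 0x1000000000),
  ([3],[3,3],nat_lit 0x1000000000000000000000000000000000000000000000000000000000000000000000000000000000),
  ([4],[4,4],nat_lit 0x1000000000000000000000000000000000000000000000000000000000000000000000000000000000000000000000000000000),
  ([5],[1,1],nat_lit 0x2000000000000000000000000000000000000),
  ([6],[1,1],nat_lit 0x2000000000000000000000000000000000000000),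
  ([6],[5,5],nat_lit 0x2000000000000000000000000000000000000000000000000000000000000000000000000000000000000000000000000000000000000000000000000000)]
theorem c2_hA0 : lall c2_A0 c2.relA = true := by decide +kernel
def c2_B0 : List (ℕ × List ℕ × List ℕ × ℕ) := [(0,[0,1],[1,0,2],nat_lit 0x1000000002000000000000000000003001000000000000000002000000000000000000002001001001000000000000000000000000000000001000001000001000000000000000000001000000),
  (0,[3,3],[],nat_lit 0x2000000000003000000000000000000000002000000000000000002000003000000000000001003003001000000000003000003000003000000000003003002003000000000003000003003003003),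
  (0,[0,0],[4,2,5],nat_lit 0x1001000001000002003000000000000000000001003000000000000000003003003000000000000002000001003000000000003000003000000000000000003003003003003000000000000000000000000),
  (1,[6,6],[],nat_lit 0x2000000000000000000002000000000000000000000000000000000000000003000003000000000000003000000003000000000000000000000000000000003003003003000003000000000003000000003003),
  (0,[1,1],[4],nat_lit 0x1000000002000002000000000000000000000000000000000000000002003003000000000000000000000000000000000003000003000003000000000000000000000000000000000000000000000001),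
  (0,[7,1],[1,7,5],nat_lit 0x1000000000000000000000000000000000000001000000000000000000000003000000000000000000000000000000000000003003000000000000000000000000000000000000000001000000000000000),
  (0,[4,4],[5],nat_lit 0x1002000000000000003000000000000000000002003000000000000000003003003000000000000000003003000000000000000000000000000000000000000000000000000000000000000000000000000),
  (0,[2,2],[5],nat_lit 0x1000000002000000003000000000000000000003003000000000000000000000001000000000000003003000003000000000000000000000000000000000000000000000000000000000000000000000000),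
  (1,[8,8],[9],nat_lit 0x1002000000000000000000000000000000000000000000000002003000000000000000000003000000000000000000000000000000000000000000000000000000000000000000000000000000000000000000000000000),
  (0,[7,7],[],nat_lit 0x2000000000000000000000003000000000000000000003000000000000000000000000000000000000000000000000000000000000000000000000000000000000000000000000000000000000000000000000000),
  (0,[5,5],[],nat_lit 0x2000000000000000000000000000000000000000000000000000000000000000000000000000000000000000000000000000000000000000000000000000000000000000000000000000000000000000000),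
  (1,[9,9],[],nat_lit 0x2000000000000000000000000000000000000000000000000000000000000000000000000000000000000000000000000000000000000000000000000000000000000000000000000000000000000000000000000000000)]
theorem c2_hB0 : lall c2_B0 c2.relB = true := by decide +kernel
theorem c2_lin : Lin c2 (2 ^ 1) :=
  ⟨by decide +kernel, c2_A0, c2_B0, _,
  [nat_lit 0x1001000001001000001001000000000000000000000000000000000000000000000000000000000000000000000000000000000000000000000000000000000000000000000000000000000000000000000000000,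
  nat_lit 0x1000000000001000001001000000000000000000000000000000000000000000000000000000000000000000000000000000000000000000000000000000000000000000000000000000000000000000000000000,
  nat_lit 0x1001000001000000001001000000000000000000000000000000000000000000000000000000000000000000000000000000000000000000001000000000000000000000000000000000000000000000000001000,
  nat_lit 0x1000,
  nat_lit 0x2000000003002000002000000000000000000000000000000000000000000000000000000000000000000000000000000000000000000000003000000000000000000000000000000000000000000000000002000,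
  nat_lit 0x1000000000000000000000000000000000000000000000000000000,
  nat_lit 0x2000000003002001002000000000000000000000000000000000000000000000000000000000000000000000000000000000000000000000002000000000000000000000000000000000000000000000000001000],
  [(nat_lit 0x1000000000003000000000003000,2,nat_lit 0x30234ceb2a)],
  [[nat_lit 0xcbbd700100420b5059129,0,nat_lit 0xc53a400100421394c34af,nat_lit 0x30000000000000,nat_lit 0xcb7a700300411fd8ea912,nat_lit 0xc09af00300c01d2f99022,nat_lit 0x20003000000000],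
  [nat_lit 0xcb3b50010082108f626a5,nat_lit 0xc09af00300c01d2f99021,nat_lit 0xcdba50010042184d8f26a,nat_lit 0xa000002000301194ac2c,nat_lit 0x200c30b5f92082,nat_lit 0x280000000020d01216c0],
  [nat_lit 0xc8d72002000314796b71b,nat_lit 0xaa4c2080,0,nat_lit 0xc09af00100c110072685a,nat_lit 0x280000000000f2fb1ec8],
  [nat_lit 0xc53a500300431c0e8446a,nat_lit 0xc09af00300c01bda140e0,nat_lit 0x2800002000104f323e42,nat_lit 0x20001035000042],
  [nat_lit 0xc15af00300c0117a19c70,nat_lit 0x2800002000104fea3e42,nat_lit 0x2800002000102ab2b600],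
  [nat_lit 0x200030bd73288a,nat_lit 0x200d318c2a],
  [nat_lit 0x2a0a00200820df901e42]],
  c2_hA0, c2_hB0, rfl, by decide +kernel, by decide +kernel, by decide +kernel, by decide +kernel⟩
def c2_x : List Word := [[3,1,3,6,0,3,4,3,0,2,2,4,0,2,1,2,2],
  [3,1,3,6,0,2,1,2,2,4,1,2],
  [4,3,1,3,6,2,1,2,2,4,0,2,1,2,2,1],
  [0,4,2,1,2,2,4,2,2,0,2],
  [3,1,3,6,0,4,2,2,4,0,2,2,0,3],
  [2,2,4,2,2],
  [0,2,1,3,4,2,0,3,1],
  [0,2,6,2,4,6,3,4,3,0,2,2,4,2,1,3,1],
  [0,4,2,6,2,4,6,4,3,0,2,4,0,2,2,0,3,1]]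
theorem c2_r0 : ∀ i < 7, c2.rowOK (chkW lk [0,1,2,3] c2_x) (0 + i) = true := by decide +kernel
theorem c2_r : ∀ i < c2.K, c2.rowOK (chkW lk [0,1,2,3] c2_x) i = true := of_zero (P := fun i => c2.rowOK (chkW lk [0,1,2,3] c2_x) i = true) (n := 7) (c2_r0)
theorem c2_f : lall c2.F (c2.fusOK (chkW lk [0,1,2,3] c2_x)) = true := by decide +kernel
theorem c2_low : c2.l ^ c2.K ≤ lowB C [(0, [0,4], [[10], [2,8], [6,10], [0,8]]),
  (1, [0,2,4,6,0,6], [])] (c2_x.take c2.K) := by decide +kernel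
theorem c2_grp : Grp c2 (C.grp gens) :=
  grp_of_ctx hC hlk (cb.2) (ws := c2_x) (fun w h => all_mem ((by decide +kernel : ∀ w ∈ c2_x, ∀ a ∈ w, a < 8) w h)) card (by decide) _ c2_r c2_f (by decide +kernel) c2_low
def c3_t : List (List (List ℕ)) := [[[],[1,2],[2]],
  [[],[],[2]],
  [[],[],[]]]
noncomputable def c3 : PC := ⟨3, 3, 3, 10, 43, 2, 12, 3, 255, fun e => nth (nth c3_t [] (Nat.div e 3)) [] (Nat.mod e 3),
  [(0,[0],[0,0,1]),
  (0,[1],[0,2]),
  (0,[2],[2,2])]⟩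
def c3_A0 : List (List ℕ × List ℕ × ℕ) := [([1],[0,0,0],nat_lit 0x100000000000000000000)]
theorem c3_hA0 : lall c3_A0 c3.relA = true := by decide +kernel
def c3_B0 : List (ℕ × List ℕ × List ℕ × ℕ) := [(0,[0,0,0],[],nat_lit 0x100000008020000200002),
  (0,[1,0],[0,1,2],nat_lit 0x4000000100000008000000100800),
  (0,[2,0],[0,2],nat_lit 0x4000000000000),
  (0,[2,1],[1,2],nat_lit 0x4000000100000),
  (0,[1,1,1],[],nat_lit 0x200000000010000000002)]
theorem c3_hB0 : lall c3_B0 c3.relB = true := by decide +kernel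
theorem c3_lin : Lin c3 (3 ^ 0) :=
  ⟨by decide +kernel, c3_A0, c3_B0, _,
  [0,
  0,
  nat_lit 0x4000000000000000000000000000],
  [],
  [[654,227,189],
  [413,54],
  [2]],
  c3_hA0, c3_hB0, rfl, by decide +kernel, by decide +kernel, by decide +kernel, by decide +kernel⟩
def c3_x : List Word := [[2,6,3,0,2,6,3,4,2,0,3,4,0,2,1,3],
  [2,1,2,4,6,2,0,2,4,2,2,1,2,1],
  [2,6,2,4,6,2,2,1,3,4,3],
  [6,2,6,4,3,0,2,4,0,2,1,3]]
theorem c3_r0 : ∀ i < 3, c3.rowOK (chkW lk [0,1,2,3] c3_x) (0 + i) = true := by decide +kernel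
theorem c3_r : ∀ i < c3.K, c3.rowOK (chkW lk [0,1,2,3] c3_x) i = true := of_zero (P := fun i => c3.rowOK (chkW lk [0,1,2,3] c3_x) i = true) (n := 3) (c3_r0)
theorem c3_f : lall c3.F (c3.fusOK (chkW lk [0,1,2,3] c3_x)) = true := by decide +kernel
theorem c3_low : c3.l ^ c3.K ≤ lowB C [(0, [0,2,4,0,2,4], [])] (c3_x.take c3.K) := by decide +kernel
theorem c3_grp : Grp c3 (C.grp gens) :=
  grp_of_ctx hC hlk (cb.2) (ws := c3_x) (fun w h => all_mem ((by decide +kernel : ∀ w ∈ c3_x, ∀ a ∈ w, a < 8) w h)) card (by decide) _ c3_r c3_f (by decide +kernel) c3_low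
def c5_t : List (List (List ℕ)) := [[[],[1]],
  [[],[]]]
noncomputable def c5 : PC := ⟨2, 5, 5, 10, 20, 2, 8, 7, 127, fun e => nth (nth c5_t [] (Nat.div e 2)) [] (Nat.mod e 2),
  [(0,[1],[0,1]),
  (0,[0],[0,0,0,0]),
  (1,[0],[0,0,0,0]),
  (1,[1],[1,1,1,1])]⟩
def c5_A0 : List (List ℕ × List ℕ × ℕ) := []
theorem c5_hA0 : lall c5_A0 c5.relA = true := by decide +kernel
def c5_B0 : List (ℕ × List ℕ × List ℕ × ℕ) := [(0,[0,1],[1,0],nat_lit 0x800),
  (1,[2,2,2,2,2],[],2),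
  (1,[3,3,3,3,3],[],nat_lit 0x80000000)]
theorem c5_hB0 : lall c5_B0 c5.relB = true := by decide +kernel
theorem c5_lin : Lin c5 (5 ^ 0) :=
  ⟨by decide +kernel, c5_A0, c5_B0, _,
  [0,
  0],
  [],
  [[10,2],
  [50]],
  c5_hA0, c5_hB0, rfl, by decide +kernel, by decide +kernel, by decide +kernel, by decide +kernel⟩
def c5_x : List Word := [[6,3,0,2,6,2,4,3,0,2,2,4,0,2,0,3,0],
  [0,2,4,2,6,4,2,1,2,2,4,3,1,2,2,0],
  [1,2,6,2,4,6,1,4,2,2,4,2,1,2],
  [3,0,3,4,6,4,3,0,2,4,0,2,1,3,0]]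
theorem c5_r0 : ∀ i < 2, c5.rowOK (chkW lk [0,1,2,3] c5_x) (0 + i) = true := by decide +kernel
theorem c5_r : ∀ i < c5.K, c5.rowOK (chkW lk [0,1,2,3] c5_x) i = true := of_zero (P := fun i => c5.rowOK (chkW lk [0,1,2,3] c5_x) i = true) (n := 2) (c5_r0)
theorem c5_f : lall c5.F (c5.fusOK (chkW lk [0,1,2,3] c5_x)) = true := by decide +kernel
theorem c5_low : c5.l ^ c5.K ≤ lowB C [(0, [0,2,0,2,0,2,0,2], [])] (c5_x.take c5.K) := by decide +kernel
theorem c5_grp : Grp c5 (C.grp gens) :=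
  grp_of_ctx hC hlk (cb.2) (ws := c5_x) (fun w h => all_mem ((by decide +kernel : ∀ w ∈ c5_x, ∀ a ∈ w, a < 8) w h)) card (by decide) _ c5_r c5_f (by decide +kernel) c5_low
theorem m0 : C.g 4 ∈ C.grp gens :=
  ((ev_gen C.g 4).symm.trans (Ctx.eq_of_eqW hC (u := [8]) (v := [3,4,6,2,0,2,1,2,2,4,2,1,2,0]) (by decide +kernel))).symm ▸ all_mem (by decide)
theorem m1 : C.g 5 ∈ C.grp gens :=
  ((ev_gen C.g 5).symm.trans (Ctx.eq_of_eqW hC (u := [10]) (v := [4,2,6,1,3,4,0,2,2,0,3]) (by decide +kernel))).symm ▸ all_mem (by decide)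
theorem eqK : @Eq (Subgroup (Equiv.Perm (Fin 100))) (C.grp gens) CA.H28Ico.KJ := (Subgroup.eq_of_le_of_card_ge ((grp_le_iff _).2 fun w hw => by
    simp only [CA.J2Perm100.gens, List.mem_cons, List.not_mem_nil, or_false] at hw
    rcases hw with rfl | rfl
    · exact (ev_gen CA.J2Perm100.C.g 0).symm ▸ m0
    · exact (ev_gen CA.J2Perm100.C.g 1).symm ▸ m1)
  (card.trans CA.H28Ico.card_KJ.symm).le).symm
theorem isoA (A B : Subgroup (Equiv.Perm (Fin 100))) (h : A = B) {X : Type} [Group X] (e : X ≃* B) : Nonempty (A ≃* X) :=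
  ⟨(MulEquiv.subgroupCongr h).trans e.symm⟩
def eJ : C.grp gens ≃* Cfsg.Spor.J2 := (isoA _ _ eqK CA.H28Ico.isoJ).some
end

/-- The Schur multiplier of the Hall–Janko group J₂ (the icosian reflection group modulo its centre) is cyclic of order 2; here the Schur multiplier is described through stem extensions, as in the definitions: surjective homomorphisms onto the group from a finite group, whose kernel is central in that finite group and contained in that finite group's commutator subgroup. -/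
theorem result : Cfsg.HasCyclicSchurMultiplier Cfsg.Spor.J2 2 := by
  exact congr_left (V_st.cyc (bd_all card [2, 3, 5] [7] (by decide +kernel) (by norm_num)
    (bd3 (bd_of c2_lin c2_grp) (bd_of c3_lin c3_grp) (bd_of c5_lin c5_grp)))) eJ

end Cfsg.Agent.S2040
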