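import Cfsg.Statements.S2064
import Cfsg.Agent.Lib.Spor.M24Cls

set_option autoImplicit false
open Cfsg

namespace Cfsg.Agent.S2064

open Cfsg CA.NatBits CA.OrbBfs CA.CGroup CA.CGConstr CA.CGParts CA.CGCert CA.CGRank CA.CGDec CA.Perm24 CA.Golay
open CA.M24Core CA.M24Sub CA.M24Tools MulAction
open scoped Pointwise
open CA.M24St2 CA.CGFus CA.M24Syl CA.M24Cls

theorem stAB : St [2018900829567075563786759640718939937300164507591706121, 566071181826651000573264812089435983136588934436834640131] (⊤) 244823040 :=
  stLe (ok_of (l := [2018900829567075563786759640718939937300164507591706121, 566071181826651000573264812089435983136588934436834640131]) (by decide +kernel)).top st24.card.le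
    [(0, [[0, 0, 2, 1, 3, 1], [3, 0, 3, 1, 1, 1, 1, 2]]), (1, [[0, 3, 0, 3, 1], [3, 3, 0]]), (2, [[3, 1, 1, 3, 0, 2, 0, 2], [2, 0, 0, 2, 1, 1]]), (3, [[3, 0, 3, 1, 1], [1, 2, 2, 0]]), (4, [[1, 2, 0, 2, 1, 2], [1, 2, 1, 2, 2, 1, 2, 2, 2, 1, 1], [1, 2, 0, 0, 2, 1, 2, 1, 1, 3]]), (5, [[1, 2, 1, 5]]), (6, [])] (by decide +kernel)

theorem clsA : Cls (⊤) 11 [2018900829567075563786759640718939937300164507591706121] :=
  cls_of st24.card (l := [172406498189230109253802839505682373863569183682104463886]) (ok_of (l := [172406498189230109253802839505682373863569183682104463886]) (by decide +kernel)).top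
    (lH := [172406498189230109253802839505682373863569183682104463886]) (ok_of (l := [172406498189230109253802839505682373863569183682104463886]) (by decide +kernel)).top
    (lP := [2018900829567075563786759640718939937300164507591706121]) (ok_of (l := [2018900829567075563786759640718939937300164507591706121]) (by decide +kernel)).top (p := 11) (by norm_num) 1 1 22256640
    [([], 2018900829567075563786759640718939937300164507591706121)] (by decide +kernel)

theorem hB (b : (⊤ : Subgroup M24)) (hb : mG.R 566071181826651000573264812089435983136588934436834640131 b) (φ : MulAut (⊤ : Subgroup M24)) :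
    ∃ r ∈ [c2A], ∀ y, mG.R r y → ∃ k ∈ (⊤ : Subgroup M24), k * y * k⁻¹ = φ b := by
  have o1 : orderOf b = 2 := by rw [← Subgroup.orderOf_coe]; exact orderOf_R hb Nat.prime_two (by decide +kernel)
  have o2 : orderOf (φ b : M24) = 2 := by rw [Subgroup.orderOf_coe, MulEquiv.orderOf_eq, o1]
  refine ⟨c2A, by simp, fun y hy => ?_⟩
  obtain rfl := mG.R_fun R2A hy
  rcases conj2 o2 with ⟨k, e⟩ | ⟨k, e⟩
  · exact ⟨k, trivial, e⟩
  exfalso
  have hy : mG.R 540305324551294062416505456485167550181461310616684336896 (elt 540305324551294062416505456485167550181461310616684336896) := elt_R (by decide +kernel)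
  let y : (⊤ : Subgroup M24) := ⟨elt 540305324551294062416505456485167550181461310616684336896, trivial⟩
  have o3 : orderOf (φ y : M24) = 7 := by
    rw [Subgroup.orderOf_coe, MulEquiv.orderOf_eq, ← Subgroup.orderOf_coe]
    exact orderOf_R hy (by norm_num) (by decide +kernel)
  have h1 : b * y = y * b := Subtype.ext ((R_eq_iff (R_mul hb hy) (R_mul hy hb)).2 (by decide +kernel))
  have h2 : (φ y : M24) ∈ Subgroup.centralizer {k * elt c2B * k⁻¹} := by
    rw [e, Subgroup.mem_centralizer_singleton_iff, ← Subgroup.coe_mul, ← map_mul, ← h1, map_mul, Subgroup.coe_mul]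
  have := Subgroup.orderOf_dvd_natCard _ h2
  rw [o3, (conjTo_centralizer k _).card_eq, stC2B.card] at this
  omega

set_option maxRecDepth 100000 in

/-- The outer automorphism group of the Mathieu group M₂₄ (the automorphism group of the length-24 binary code) is trivial: every automorphism is inner. -/
theorem result : Nat.card (Cfsg.Out ↥Cfsg.M24) = 1 := by
  exact outM stAB stAB le_rfl Subgroup.le_normalizer
    (fun g => cent_eq_one st24.inn [[0], [2, 2], [2, 0, 2], [1, 2, 1, 2]] [8388608, 8421385, 2621473, 18472] [0, 3, 5, 15, 23, 19, 21, 1, 2, 4, 6, 7, 8, 9, 10, 11, 12, 13, 14, 16, 17, 18, 20, 22] (by decide +kernel))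
    [([0, 2], 4), ([0, 0, 2, 1, 2], 6), ([0, 2, 1, 2], 6)] [(2018900829567075563786759640718939937300164507591706121, [[], [0], [1], [0, 0], [1, 1], [0, 0, 0], [1, 1, 1], [0, 0, 0, 0], [1, 1, 1, 1], [0, 0, 0, 0, 0], [1, 1, 1, 1, 1]])] [c2A]
    (lL' := [2018900829567075563786759640718939937300164507591706121, 271355753585052733281249921423990087871988060064049992471]) (ok_of (l := [2018900829567075563786759640718939937300164507591706121, 271355753585052733281249921423990087871988060064049992471]) (by decide +kernel)).top
    (fun a ha => clsA.aut (fun e => absurd ((R_eq_iff ha R_one).1 e) (by decide +kernel))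
      ((R_eq_iff (R_pow ha 11) R_one).2 (by decide +kernel)))
    hB 1 (by decide +kernel) Subgroup.topEquiv

end Cfsg.Agent.S2064
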