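import Cfsg.Statements.S1710
import Cfsg.Agent.Lib.Spor.LyG2
import Cfsg.Agent.Lib.Spor.Ly111
import Cfsg.Agent.S1055
import Cfsg.Agent.S1059

set_option autoImplicit false
open Cfsg

namespace Cfsg.Agent.S1710

/-- In the presented Lyons group, the subgroup generated by the images of a, b, c, d is isomorphic to the adjoint Chevalley group of type G₂ over a field with five elements. -/
theorem result : ∃ (K : Type) (_ : Field K) (_ : Fintype K), Fintype.card K = 5 ∧ Nonempty ((((Subgroup.closure ({Cfsg.Spor.Ly.a, Cfsg.Spor.Ly.b, Cfsg.Spor.Ly.c, Cfsg.Spor.Ly.d} : Set (FreeGroup Cfsg.Spor.Ly.Gen))).map (PresentedGroup.mk (Cfsg.Spor.coxRelators Cfsg.Spor.Ly.edges ∪ {r | r ∈ Cfsg.Spor.Ly.extra})))) ≃* Cfsg.Lie.chevG2.group K) := by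
  refine ⟨ZMod 5, inferInstance, inferInstance, ZMod.card 5, ?_⟩
  rw [CA.CPres.map_closure_eq (gen := CA.LyRel.gen) CA.LyG2.gens (l := [_, _, _, _]) rfl
    (fun x => by simp only [Set.mem_insert_iff, Set.mem_singleton_iff, List.mem_cons,
      List.not_mem_nil, or_false]; rfl)]
  obtain ⟨γ, h1, h2⟩ := CA.LyG2.main
  obtain ⟨g, h3, h4⟩ := CA.Ly111.main
  obtain ⟨φ, h5⟩ := CA.LyRel.enc.hom _ g h3
  refine CA.PkW.equiv_of_bound CA.LyG2.bound h1
    (fun r hr => CA.LyRel.enc.hold r ((by decide +kernel : ∀ r ∈ CA.LyTC.r44, r ∈ CA.LyRel.rels) r hr)) h2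
    (Cfsg.Agent.S1059.result (F := ZMod 5) (q := 5) (ZMod.card 5)).ge
    (Cfsg.Agent.S1055.result (F := ZMod 5) ⟨2, by decide, by decide⟩).1 fun h => h4 ?_
  have := CA.CWord.mem_grp (CA.CPres.pg Spor.Ly.edges Spor.Ly.extra CA.LyRel.gen) (ws := CA.LyG2.gens) (w := [2 * 0])
    (by decide)
  rw [h, Subgroup.mem_bot, CA.CWord.ev_gen] at this
  rw [← h5 0 (by decide), this, map_one]

end Cfsg.Agent.S1710
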