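import Cfsg.Statements.S2062
import Cfsg.Agent.Lib.Spor.M24Cls

set_option autoImplicit false
open Cfsg

namespace Cfsg.Agent.S2062

open Cfsg CA.NatBits CA.OrbBfs CA.CGroup CA.CGConstr CA.CGParts CA.CGCert CA.CGRank CA.CGDec CA.Perm24 CA.Golay
open CA.M24Core CA.M24Sub CA.M24Tools MulAction
open scoped Pointwise
open CA.M24St2 CA.CGFus CA.M24Syl CA.M24Cls

theorem norm_of_gens {K L : Subgroup M24} {l lL : List ℕ} {N N' : ℕ} (hK : St l K N) (hL : St lL L N')
    (h : mG.In (lL.flatMap fun g => l.map (cj24 g)) K) : L ≤ Subgroup.normalizer (K : Set M24) := by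
  refine St.le hL (CG.In.of_forall hL.ok fun c hc g hg => Subgroup.mem_normalizer_fintype fun x hx => ?_)
  rw [← hK.gen] at hx
  refine CG.gen_induction (p := fun x => g * x * g⁻¹ ∈ K) (by simp) (fun d hd a y ha ih => ?_) hx
  obtain ⟨u, hu, e⟩ := h _ (List.mem_flatMap.2 ⟨c, hc, List.mem_map.2 ⟨d, hd, rfl⟩⟩)
  obtain rfl := mG.R_fun e (R_cj hg ha) |>.symm
  have := mul_mem hu ih
  rwa [show g * a * g⁻¹ * (g * y * g⁻¹) = g * (a * y) * g⁻¹ by group] at this

theorem stAB : St [564157405405669900338674346413214242473101521348744253696, 565685063416258347921839429499791981906978691378344952576] (stabilizer M24 (none : GolayPt) ⊓ stabilizer M24 (some 0 : GolayPt)) 443520 :=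
  stLe (inS mPt (inS0 mPt (ok_of (l := [564157405405669900338674346413214242473101521348744253696, 565685063416258347921839429499791981906978691378344952576]) (by decide +kernel)) (sPt (none)) (by decide +kernel)) (sPt (some 0)) (by decide +kernel)) st22.card.le
    [(1, [[3, 0, 0, 2, 2, 2, 1, 3], [3, 1, 3, 0, 3, 1, 1]]), (2, [[1, 1, 2, 2, 2, 2, 0], [1, 3, 1, 2, 2, 2, 0, 3]]), (3, [[2, 2, 1, 1, 2], [1, 2, 2, 1, 1], [1, 1, 1, 2, 1, 3, 0]]), (4, [[2, 0, 2, 0, 4]]), (5, [])] (by decide +kernel)

theorem clsA : Cls (stabilizer M24 (none : GolayPt) ⊓ stabilizer M24 (some 0 : GolayPt)) 5 [564157405405669900338674346413214242473101521348744253696] :=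
  cls_of st22.card (l := [565876600507273379894575013690880514654894025078350089216]) (inS mPt (inS0 mPt (ok_of (l := [565876600507273379894575013690880514654894025078350089216]) (by decide +kernel)) (sPt (none)) (by decide +kernel)) (sPt (some 0)) (by decide +kernel))
    (lH := [565876600507273379894575013690880514654894025078350089216]) (inS mPt (inS0 mPt (ok_of (l := [565876600507273379894575013690880514654894025078350089216]) (by decide +kernel)) (sPt (none)) (by decide +kernel)) (sPt (some 0)) (by decide +kernel))
    (lP := [564157405405669900338674346413214242473101521348744253696]) (inS mPt (inS0 mPt (ok_of (l := [564157405405669900338674346413214242473101521348744253696]) (by decide +kernel)) (sPt (none)) (by decide +kernel)) (sPt (some 0)) (by decide +kernel)) (p := 5) (by norm_num) 1 1 88704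
    [([], 564157405405669900338674346413214242473101521348744253696)] (by decide +kernel)

set_option maxRecDepth 100000 in
theorem clsB : Cls (stabilizer M24 (none : GolayPt) ⊓ stabilizer M24 (some 0 : GolayPt)) 2 [565685063416258347921839429499791981906978691378344952576] :=
  cls_of st22.card (l := g22) st22.inn
    (lH := g22c2) (st22c2.inn.mono le22)
    (lP := g22c2) (st22c2.inn.mono le22) (p := 2) (by norm_num) 7 1 3465
    [([], 565685063416258347921839429499791981906978691378344952576), ([0], 565685063416258347921839429499791981906978691378344952576), ([2, 1, 3, 1, 1, 3, 3, 0, 0, 2, 0, 2, 0], 565685063416258347921839429499791981906978691378344952576), ([2, 0, 3, 1, 2, 0, 2, 0, 3], 565685063416258347921839429499791981906978691378344952576), ([1, 2, 1, 1, 3, 1, 3], 565685063416258347921839429499791981906978691378344952576), ([1, 3, 3, 0, 3, 0, 3, 1, 3], 565685063416258347921839429499791981906978691378344952576), ([1, 2, 0, 0, 0, 2, 2, 1], 565685063416258347921839429499791981906978691378344952576)] (by decide +kernel)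

theorem hn : (⊤ : Subgroup M24) ⊓ stabilizer M24 (ds 8388609) ≤ Subgroup.normalizer ((stabilizer M24 (none : GolayPt) ⊓ stabilizer M24 (some 0 : GolayPt) : Subgroup M24) : Set M24) :=
  norm_of_gens stAB stD2 (inS mPt (inS0 mPt (ok_of (l := (gD2.flatMap fun g => [564157405405669900338674346413214242473101521348744253696, 565685063416258347921839429499791981906978691378344952576].map (cj24 g))) (by decide +kernel)) (sPt (none)) (by decide +kernel)) (sPt (some 0)) (by decide +kernel))

set_option maxRecDepth 100000 in

/-- The outer automorphism group of the Mathieu group M₂₂ (the permutations in the automorphism group of the length-24 binary code that fix each of two given points) has order 2. -/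
theorem result : Nat.card (Cfsg.Out ↥Cfsg.Spor.M22) = 2 := by
  exact outM stAB stD2 (St.le stAB (inS mSub (ok_of (l := [564157405405669900338674346413214242473101521348744253696, 565685063416258347921839429499791981906978691378344952576]) (by decide +kernel)).top (sS (m := 8388609) (by decide)) (by decide +kernel))) hn
    (fun g => cent_eq_one st22.inn [[0], [2, 2, 1, 2], [0, 2], [0, 0, 3, 0]] [8390785, 8389249, 8486913, 8421385] [3, 7, 9, 11, 15, 16, 0, 1, 2, 4, 5, 6, 8, 10, 12, 13, 14, 17, 18, 19, 20, 21, 22, 23] (by decide +kernel))
    [([0, 2], 7), ([0, 2, 1, 2], 5), ([0, 0, 2, 1, 2, 0, 2], 5)] [(564157405405669900338674346413214242473101521348744253696, [[], [0], [1], [2], [3], [0, 0], [3, 0], [1, 1], [2, 1], [3, 0, 0]])] [565685063416258347921839429499791981906978691378344952576]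
    (lL' := [564631849707566521779951354081194047890719689232755332096, 98432238326765593969017018224396982766925428550599191]) (inS mSub (ok_of (l := [564631849707566521779951354081194047890719689232755332096, 98432238326765593969017018224396982766925428550599191]) (by decide +kernel)).top (sS (m := 8388609) (by decide)) (by decide +kernel))
    (fun a ha => clsA.aut (fun e => absurd ((R_eq_iff ha R_one).1 e) (by decide +kernel))
      ((R_eq_iff (R_pow ha 5) R_one).2 (by decide +kernel)))
    (fun b hb => clsB.aut (fun e => absurd ((R_eq_iff hb R_one).1 e) (by decide +kernel))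
      ((R_eq_iff (R_pow hb 2) R_one).2 (by decide +kernel))) 2 (by decide +kernel) (eqv map22)

end Cfsg.Agent.S2062
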