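import Cfsg.Statements.S2066
import Cfsg.Agent.Lib.Spor.CGOut2
import Cfsg.Agent.Lib.Spor.H28J2s

set_option autoImplicit false
open Cfsg

namespace Cfsg.Agent.S2066

open CA.NatBits CA.OrbBfs CA.CGroup CA.CGConstr CA.CGParts CA.CGCert CA.CGFus CA.H28CG CA.CGOut CA.H28Ico MulAction

set_option Elab.async false
set_option maxRecDepth 100000
set_option maxHeartbeats 4000000

open CA.CGOut2
/-- an element of order 7 -/
def cx : ℕ := 4082411183642309314922746382191530415159008612242220633836173429779189016173460350071950203836124327975205343530453261620616853843571273767747175197191691872341251141187176167099673106851542216499983152836537108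
/-- an involution inverting it -/
def cy : ℕ := 864426715466557850504974634148410148493080624538330808484740922605652180792869694163407117003043460210751669890168847565749478000376589217203083761523836426827918595898600280233002888785406200426636858438756376
/-- an element centralizing the involution -/
def ct : ℕ := 3625694842934835050796378088807154859248479053355044517197476784602355453474304529991684005006846112241529960893263014509025017873765925161434497119203047561597978605744705971464359047969115025204061833813295883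
/-- an outer automorphism -/
def cs : ℕ := 1324037932500390250666856273590962884107820009413185956783237226098547129112117146027677473013481530436461091125979662658440120825063723668985954238945151787509275557464289556504706653052702099988910920154799948
/-- generators of the centralizer of the involution -/
def lC : List ℕ := [705912160765107905965944017060811108151973470272487274905623800252782986908216658448348366127247728106117010254117664484654025952662610440564895946615782775434404117918000027992497805346599307290040946410974165, 1318428386698728477846231014160492448465370685837489339502190124038348519883112585027561831047490630327659467566683112580341401329651272451749019461091057310867952624546653747218064255710997244250764562999152831]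
theorem inn : pG.In [cx, cy, ct] KJ := in_of_words in_c [[0, 0, 3, 1, 2, 0, 0, 3, 1, 2, 1, 3, 3], [0, 2, 1, 2, 0, 0, 2, 1, 1, 3, 3, 0, 3], [2, 0, 2, 2, 2, 2, 1, 3, 1, 2, 2, 1]] (by decide +kernel)
theorem gen : pG.gen [cx, cy, ct] = KJ :=
  gen_eq_of_lowc (A := pPt) (L := [(0, [[3, 4, 4, 1, 2, 2, 5, 2, 4, 2, 1, 5, 5, 5], [1, 3, 0, 0, 4, 4, 4, 3, 1, 1, 2]]), (1, [[1, 2, 0, 2, 2, 2, 2, 0], [0, 2, 2, 0, 3]]), (2, [[1, 1, 3, 3, 0, 0, 2]]), (3, [])]) (pts_ok (by decide)) inn card_KJ.le (by decide +kernel)
theorem sy : Sg pG lC (KJ ⊓ stabilizer _ (toCj (el pG cy))) 240 :=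
  sg0.step (A := pCj) pPt (el_R inn.ok (by simp)) 2520 [[3, 3, 1, 3, 1, 3, 0, 3, 1, 3, 1, 1, 1], [2, 0, 0, 0, 2, 1, 2, 2, 0, 0, 3, 1, 2]] [(0, [[1, 3, 1, 2, 1, 1, 2, 2], [0, 3, 1, 3]]), (1, [])] (pts_ok (by decide)) rfl (by decide +kernel)
theorem cy_eq : pG.gen lC = KJ ⊓ Cz pG [cy] := cz_of_sg (el_R inn.ok (by simp)) sy
theorem cx_eq : pG.gen [cx] = KJ ⊓ Cz pG [cx] := by
  have h := el_R inn.ok (c := cx) (by simp)
  rw [gen_one h, Cz_one h]
  exact cent_prime (p := 7) (by norm_num) (orderOf_R R_inj h (by norm_num) (by decide +kernel)) (el_mem inn (by simp))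
    (by rw [card_KJ]; norm_num) pow_KJ (by decide)
theorem ok4 : pG.Ok [cx, cy, ct, cs] := perm_ok (by decide +kernel)

/-- The outer automorphism group of the Hall–Janko group J₂ (the icosian reflection group modulo its centre) has order 2. -/
theorem result : Nat.card (Cfsg.Out Cfsg.Spor.J2) = 2 := by
  exact out_two R_inj inn gen (cs := cs) (perm_ok (by decide +kernel)) (in_of_words in_c [[2, 0, 0, 0, 2, 0, 0, 3, 1, 1, 2], [0, 2, 2, 0, 0, 0, 3, 0, 3, 3, 0, 3, 3, 0], [0, 2, 1, 2, 0, 0, 2, 1, 1, 3, 3, 0, 3], [0, 3, 3, 0, 2, 1, 2, 1, 1, 3, 1]] (by decide +kernel)) sy.1 cy_eq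
    (aut_gen R_inj inn gen card_KJ (p := 7) (by norm_num) (by norm_num) cx_eq sy.1 cy_eq 6 1 (lL := [cx, cy, ct, cs])
      [[], [2], [6, 0, 6, 5, 0, 0, 6, 6, 1, 6, 1], [0, 4, 1, 1, 6, 2, 5, 1, 7, 5, 0, 7], [2, 5, 6, 6], [5, 6, 6], [0, 5, 1, 6, 5, 0, 5, 7, 0, 0, 6, 1], [0, 0, 7, 5, 0, 0, 5, 7, 0, 6, 0, 5], [6, 4, 0, 5, 0, 5, 7, 1, 5, 6, 0], [0, 2, 4, 0, 5, 0, 5, 7, 0, 6, 0, 6], [6, 6, 4], [2, 6, 6, 4]] (words_L ok4.in_gen _) [([2], 10)] [([0, 0, 4, 0, 4], 5), ([0, 4, 4, 4, 4, 4], 2), ([0, 0, 2, 4, 0, 4], 6)] (by decide +kernel))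
    (by decide +kernel) isoJ.symm

end Cfsg.Agent.S2066
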