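import Cfsg.Statements.S0214
import Cfsg.Agent.Lib.Grp.H13Count

set_option autoImplicit false
open Cfsg

namespace Cfsg.Agent.S0214

/-- Let H be a proper subgroup of the finite group G and P a nontrivial Sylow 2-subgroup of H. Then H is strongly embedded in G if and only if N_G(X) ≤ H for every nontrivial subgroup X of P. -/
theorem result {G : Type*} [Group G] [Finite G] (H : Subgroup G) (hH : H ≠ ⊤) (P : Sylow 2 ↥H) (hP : (P : Subgroup ↥H) ≠ ⊥) : Cfsg.IsStronglyEmbedded H ↔ (∀ X : Subgroup ↥H, X ≤ (P : Subgroup ↥H) → X ≠ ⊥ → Subgroup.normalizer ((X.map H.subtype : Subgroup G) : Set G) ≤ H) := by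
  constructor
  · rintro ⟨-, -, hodd⟩ X hXP hX g hg
    by_contra hgH
    have hX2 : IsPGroup 2 X := P.2.to_le hXP
    have hev : Even (Nat.card X) := by
      obtain ⟨k, hk⟩ := IsPGroup.iff_card.mp hX2
      rcases k with _ | k
      · exact absurd (Subgroup.card_eq_one.mp (by simpa using hk)) hX
      · rw [hk, pow_succ]; exact Even.mul_left (by decide) _
    obtain ⟨t, htX, ht⟩ := CA.H13Inv.exists_involution_of_even hev
    have htG : orderOf (t : G) = 2 := by rw [Subgroup.orderOf_coe, ht]
    refine CA.H13Inv.odd_card_iff.mp (hodd g hgH) t ⟨t.2, ?_⟩ htG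
    refine CA.SylIn.mem_conj.mpr ?_
    exact Subgroup.map_subtype_le X (CA.SylIn.inv_conj_mem_of_mem_normalizer hg ⟨t, htX, rfl⟩)
  · intro h
    have hPH := CA.SylIn.isSylowIn_map P
    have key : ∀ D : Subgroup G, D ≤ H → IsPGroup 2 D → D ≠ ⊥ →
        Subgroup.normalizer (D : Set G) ≤ H := by
      intro D hDH hD hD1
      obtain ⟨a, ha, hle⟩ := hPH.exists_conj_le hD hDH
      have hle' := hle.trans hPH.le
      have h1 := h ((D.map (MulAut.conj a).toMonoidHom).subgroupOf H) (by
        intro y hy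
        obtain ⟨z, hz, e⟩ := hle hy
        rwa [← Subtype.ext e]) (by
        intro h0
        apply hD1
        rw [← CA.SylIn.conj_eq_bot_iff (g := a), ← Subgroup.map_subgroupOf_eq_of_le hle', h0,
          Subgroup.map_bot])
      rw [Subgroup.map_subgroupOf_eq_of_le hle', ← CA.SylIn.conj_normalizer,
        CA.SylIn.conj_le_iff_le_inv_conj, CA.SylIn.conj_eq_of_mem (H.inv_mem ha)] at h1
      exact h1
    refine ⟨hH, ?_, fun g hg => ?_⟩
    · have hev : Even (Nat.card (P : Subgroup H)) := by
        obtain ⟨k, hk⟩ := IsPGroup.iff_card.mp P.2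
        rcases k with _ | k
        · exact absurd (Subgroup.card_eq_one.mp (by simpa using hk)) hP
        · rw [hk, pow_succ]; exact Even.mul_left (by decide) _
      exact hev.trans_dvd (Subgroup.card_subgroup_dvd_card _)
    · by_contra hodd
      have hev := Nat.not_odd_iff_even.mp hodd
      obtain ⟨D, hD⟩ := CA.SylIn.exists_isSylowIn 2 (H ⊓ H.map (MulAut.conj g).toMonoidHom)
      have hD1 : D ≠ ⊥ := by
        rintro rfl
        apply hD.not_dvd
        rw [Subgroup.relIndex_bot_left]
        exact even_iff_two_dvd.mp hev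
      have hDH : D ≤ H := hD.le.trans inf_le_left
      have hDH' : D.map (MulAut.conj g⁻¹).toMonoidHom ≤ H :=
        CA.SylIn.le_conj_iff_inv_conj_le.mp (hD.le.trans inf_le_right)
      have hN1 := key D hDH hD.isPGroup hD1
      have hN2 := key _ hDH' (CA.SylIn.isPGroup_conj hD.isPGroup _)
        (by rwa [Ne, CA.SylIn.conj_eq_bot_iff])
      rw [← CA.SylIn.conj_normalizer, ← CA.SylIn.le_conj_iff_inv_conj_le] at hN2
      have htop : CA.SylIn.IsSylowIn 2 D ⊤ :=
        CA.H13Count.isSylowIn_of_normalizer_le hD le_top (inf_le_right.trans (le_inf hN1 hN2))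
      have h1 : CA.SylIn.IsSylowIn 2 D H := htop.of_le hDH le_top
      have h2 : CA.SylIn.IsSylowIn 2 (D.map (MulAut.conj g⁻¹).toMonoidHom) H :=
        (htop.conj_of_mem (Subgroup.mem_top g⁻¹)).of_le hDH' le_top
      obtain ⟨a, ha, e⟩ := h2.exists_conj_eq h1
      rw [CA.SylIn.conj_conj, ← CA.SylIn.mem_normalizer_iff_conj_eq] at e
      have := H.mul_mem (H.inv_mem ha) (hN1 e)
      exact hg (by simpa using this)

end Cfsg.Agent.S0214
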