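import Cfsg.Statements.S0224
import Cfsg.Agent.Lib.Grp.H13Inv

set_option autoImplicit false
open Cfsg

namespace Cfsg.Agent.S0224

/-- Let H be a proper subgroup of even order of the finite group G. Then H is strongly embedded if and only if each involution of H fixes exactly one point (namely the coset H) in the action of G on the cosets of H. -/
theorem result {G : Type*} [Group G] [Finite G] (H : Subgroup G) (hH : H ≠ ⊤) (heven : Even (Nat.card H)) : Cfsg.IsStronglyEmbedded H ↔ ∀ t ∈ H, orderOf t = 2 → Nat.card {c : G ⧸ H // t • c = c} = 1 := by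
  have hfix : ∀ t g : G, t • ((g : G ⧸ H)) = (g : G ⧸ H) ↔ g⁻¹ * t * g ∈ H := by
    intro t g
    rw [MulAction.Quotient.smul_coe, eq_comm, QuotientGroup.eq, smul_eq_mul, mul_assoc]
  constructor
  · rintro ⟨-, -, hodd⟩ t htH ht
    rw [Nat.card_eq_one_iff_unique]
    have key : ∀ c : G ⧸ H, t • c = c → c = ((1 : G) : G ⧸ H) := by
      intro c hc
      obtain ⟨g, rfl⟩ := QuotientGroup.mk_surjective c
      rw [hfix] at hc
      rw [QuotientGroup.eq, mul_one, H.inv_mem_iff]
      by_contra hg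
      refine (CA.H13Inv.odd_card_iff.mp (hodd g hg)) t ⟨htH, ⟨g⁻¹ * t * g, hc, ?_⟩⟩ ht
      simp [mul_assoc]
    refine ⟨⟨fun a b => Subtype.ext ((key _ a.2).trans (key _ b.2).symm)⟩, ⟨⟨((1 : G) : G ⧸ H), ?_⟩⟩⟩
    rw [hfix]; simpa using htH
  · intro h
    refine ⟨hH, heven, fun g hg => CA.H13Inv.odd_card_iff.mpr ?_⟩
    rintro s ⟨hsH, t, htH, rfl⟩ hs
    have h1 := (Nat.card_eq_one_iff_unique.mp (h _ hsH hs)).1
    have e := Subsingleton.elim (h := h1) ⟨((1 : G) : G ⧸ H), by rw [hfix]; simpa using hsH⟩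
      ⟨(g : G ⧸ H), by rw [hfix]; simpa [mul_assoc] using htH⟩
    have e2 := congrArg Subtype.val e
    simp only at e2
    rw [QuotientGroup.eq] at e2
    exact hg (by simpa using e2)

end Cfsg.Agent.S0224
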