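import Cfsg.Statements.S0447
import Cfsg.Agent.Lib.Grp.SchurAlt

set_option autoImplicit false
open Cfsg

namespace Cfsg.Agent.S0447

open Equiv Equiv.Perm CA.SchurAlt CA.SchurCarm
open scoped commutatorElement

theorem two_eq {Γ : Type*} [Group Γ] {Z : Subgroup Γ} (h : Nat.card Z = 2) {a b : Γ} (ha : a ∈ Z)
    (hb : b ∈ Z) (h1 : a ≠ 1) (h2 : b ≠ 1) : a = b := by
  obtain ⟨y, -, hy⟩ := (Nat.card_eq_two_iff' (1 : Z)).mp h
  exact congrArg Subtype.val ((hy ⟨a, ha⟩ fun e => h1 (congrArg Subtype.val e)).trans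
    (hy ⟨b, hb⟩ fun e => h2 (congrArg Subtype.val e)).symm)

theorem sq_one {Γ : Type*} [Group Γ] {Z : Subgroup Γ} (h : Nat.card Z = 2) {a : Γ} (ha : a ∈ Z) :
    a ^ 2 = 1 := h ▸ congrArg Subtype.val (pow_card_eq_one' (x := (⟨a, ha⟩ : Z)))

theorem dbl {n : ℕ} (hn : n ≤ 7) (g : alternatingGroup (Fin n)) (h1 : g ≠ 1) (h2 : g ^ 2 = 1) :
    ∃ a b c d : Fin n, [a, b, c, d].Nodup ∧ g.1 = swap a b * swap c d := by
  haveI : Fact (Nat.Prime 2) := ⟨Nat.prime_two⟩
  have h3 := cycleType_of_pow_prime_eq_one (σ := g.1) (p := 2) (congrArg Subtype.val h2)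
  have h4 := sign_of_cycleType g.1
  have h5 := g.1.sum_cycleType_le
  have h6 : g.1.cycleType.card ≠ 0 := fun e => h1 (Subtype.ext (card_cycleType_eq_zero.mp e))
  rw [show sign g.1 = 1 from g.2] at h4
  rw [h3] at h4 h5
  simp only [Multiset.sum_replicate, smul_eq_mul, Fintype.card_fin, Multiset.card_replicate] at h4 h5
  have h7 : g.1.cycleType.card = 2 := by
    have : g.1.cycleType.card ≤ 3 := by omega
    interval_cases g.1.cycleType.card <;> first | rfl | exact absurd h4 (by decide) | exact absurd rfl h6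
  rw [h7] at h3 h5
  have h8 : [(⟨0, by omega⟩ : Fin n), ⟨1, by omega⟩, ⟨2, by omega⟩, ⟨3, by omega⟩].Nodup := by simp
  obtain ⟨c, hc⟩ := isConj_iff.mp (isConj_iff_cycleType_eq.mpr
    ((cycleType_swap_mul_swap_of_nodup h8).trans h3.symm))
  refine ⟨_, _, _, _, h8.map c.injective, ?_⟩
  rw [← hc, swap_apply_apply, swap_apply_apply]; group

/-- Involutions in double covers of alternating groups: for n ≤ 7, a finite non-split double cover of the alternating group of degree n has exactly one element of order 2 (the central one); for degree 8 there is a non-split double cover with two distinct involutions. -/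
theorem result : (∀ (n : ℕ) (H : Type) (_ : Group H) (_ : Finite H), n ≤ 7 → Cfsg.IsNonsplitDoubleCover H (alternatingGroup (Fin n)) → ∀ x y : H, orderOf x = 2 → orderOf y = 2 → x = y) ∧ ∃ (H : Type) (_ : Group H) (_ : Finite H), Cfsg.IsNonsplitDoubleCover H (alternatingGroup (Fin 8)) ∧ ∃ x y : H, x ≠ y ∧ orderOf x = 2 ∧ orderOf y = 2 := by
  refine ⟨fun n H _ _ hn ⟨h1, ⟨e⟩, h2⟩ => ?_, ?_⟩
  · let τ := e.toMonoidHom.comp (QuotientGroup.mk' (Subgroup.center H))
    have hk : τ.ker = Subgroup.center H := by ext x; simp [τ]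
    have hs : Function.Surjective τ := e.surjective.comp (QuotientGroup.mk'_surjective _)
    rw [← hk] at h1 h2
    obtain ⟨L, hL⟩ := exists_lifts hs hk.le (k := 4) rfl fun z hz => by
      rw [show 4 = 2 * 2 from rfl, pow_mul, sq_one h1 hz, one_pow]
    have hns : ∀ f, τ.comp f ≠ MonoidHom.id _ := fun f hf => h2 f.range (by
      have hf' : ∀ a, τ (f a) = a := DFunLike.congr_fun hf
      refine Subgroup.isComplement'_of_disjoint_and_mul_eq_univ ?_ ?_
      · rw [Subgroup.disjoint_def]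
        rintro _ hx ⟨a, rfl⟩
        rw [← hf' a, show τ (f a) = 1 from hx, map_one]
      · refine Set.eq_univ_of_forall fun x => ⟨x * (f (τ x))⁻¹, ?_, _, ⟨τ x, rfl⟩, by simp⟩
        simp [hf'])
    have key : ∀ x : H, orderOf x = 2 → x ∈ τ.ker := fun x hx => by
      by_contra h3
      obtain ⟨a, b, c, d, h4, h5⟩ := dbl hn (τ x) h3 (by rw [← map_pow, ← hx, pow_orderOf_eq_one, map_one])
      simp only [List.nodup_cons, List.mem_cons, List.not_mem_nil, or_false, not_or] at h4
      obtain ⟨⟨ab, ac, ad⟩, ⟨bc, bd⟩, cd, -⟩ := h4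
      have h6 := (z_ne_one hs hk.le hL bd (fun z hz => sq_one h1 hz) hns).2 ⟨a, ab, ad⟩
        ⟨c, Ne.symm bc, cd⟩ (fun e => ac (congrArg Subtype.val e))
      have h7 : (L a b d * L c b d)⁻¹ * x ∈ τ.ker := by
        rw [MonoidHom.mem_ker, map_mul, map_inv, inv_mul_eq_one, map_mul, hL.map _ _ _ ab bd ad,
          hL.map _ _ _ (Ne.symm bc) bd cd]
        exact Subtype.ext ((cyc_mul ac ab ad (Ne.symm bc) cd bd).trans h5.symm)
      have h8 : Commute (L a b d * L c b d) ((L a b d * L c b d)⁻¹ * x) :=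
        Subgroup.mem_center_iff.mp (hk.le h7) _
      have h9 := h8.mul_pow 2
      rw [mul_inv_cancel_left, sq_one h1 h7, mul_one, ← hx, pow_orderOf_eq_one, hx] at h9
      exact h6 h9.symm
    intro x y hx hy
    exact two_eq h1 (key x hx) (key y hy) (by rintro rfl; simp at hx) (by rintro rfl; simp at hy)
  · obtain ⟨H, _, Δ, _, h1, h2⟩ := exists_double (α := Fin 8) (by simp)
    set τ := (MonoidHom.fst _ _).comp Δ.subtype
    have hk : τ.ker = Subgroup.center Δ := le_antisymm h1.2.1 fun x hx => by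
      have : τ x ∈ Subgroup.center _ := Subgroup.mem_center_iff.mpr fun g => by
        obtain ⟨y, rfl⟩ := h1.1 g
        rw [← map_mul, ← map_mul, Subgroup.mem_center_iff.mp hx y]
      rwa [alternatingGroup.center_eq_bot (by simp)] at this
    have hnt : τ.ker ≠ ⊥ := fun e => by rw [e] at h2; simp at h2
    obtain ⟨L, hL⟩ := exists_lifts_of_eight h1.1 h1.2.1 (by simp)
    have hns : ∀ f, τ.comp f ≠ MonoidHom.id _ := fun f hf => hnt (by
      have h3 := CA.SchurHopf.surj_of_stem h1 f (hf ▸ Function.surjective_id)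
      refine eq_bot_iff.mpr fun x hx => ?_
      obtain ⟨a, rfl⟩ := h3 x
      rw [show a = 1 from (DFunLike.congr_fun hf a).symm.trans hx, map_one]; exact Subgroup.one_mem _)
    have hz := fun p q h => (z_ne_one (p := p) (q := q) h1.1 h1.2.1 hL h (fun z hz => sq_one h2 hz) hns).2
    have a1 := hz 0 1 (by decide) ⟨2, by decide⟩ ⟨3, by decide⟩ (by decide)
    have a2 := hz 4 5 (by decide) ⟨6, by decide⟩ ⟨7, by decide⟩ (by decide)
    have m1 := z_mem hL (p := 0) (q := 1) (by decide) (i := ⟨2, by decide⟩) (j := ⟨3, by decide⟩) (by decide)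
    have m2 := z_mem hL (p := 4) (q := 5) (by decide) (i := ⟨6, by decide⟩) (j := ⟨7, by decide⟩) (by decide)
    have hA : (τ (L 2 0 1 * L 3 0 1)).1 = swap 2 0 * swap 3 1 := by
      rw [map_mul, hL.map _ _ _ (by decide) (by decide) (by decide),
        hL.map _ _ _ (by decide) (by decide) (by decide), cyc_mul] <;> decide
    have hB : (τ (L 6 4 5 * L 7 4 5)).1 = swap 6 4 * swap 7 5 := by
      rw [map_mul, hL.map _ _ _ (by decide) (by decide) (by decide),
        hL.map _ _ _ (by decide) (by decide) (by decide), cyc_mul] <;> decide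
    have hc : Commute (L 2 0 1 * L 3 0 1) (L 6 4 5 * L 7 4 5) := by
      refine Commute.mul_right ?_ ?_ <;>
      · refine mul_inv_eq_iff_eq_mul.mp ?_
        rw [hL.conj _ _ _ (by decide) (by decide) (by decide), hA]; rfl
    have hne : L 2 0 1 * L 3 0 1 * (L 6 4 5 * L 7 4 5) ∉ τ.ker := fun h => by
      have := congrArg Subtype.val (MonoidHom.mem_ker.mp h)
      rw [map_mul, Subgroup.coe_mul, hA, hB] at this
      exact absurd (DFunLike.congr_fun this 0) (by decide)
    haveI : Fact (Nat.Prime 2) := ⟨Nat.prime_two⟩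
    refine ⟨Δ, _, inferInstance, ⟨hk ▸ h2, ⟨(QuotientGroup.quotientMulEquivOfEq hk.symm).trans
      (QuotientGroup.quotientKerEquivOfSurjective τ h1.1)⟩, fun M hM => hnt ?_⟩, _, _,
      fun e : _ = L 2 0 1 * L 3 0 1 * (L 6 4 5 * L 7 4 5) => hne (e ▸ m1),
      orderOf_eq_prime (sq_one h2 m1) a1, orderOf_eq_prime ?_ fun e => hne (by rw [e]; exact one_mem _)⟩
    · haveI : M.Normal := ⟨fun x hx g => by
        obtain ⟨⟨z, m⟩, rfl⟩ := hM.2 g
        show z.1 * m.1 * x * (z.1 * m.1)⁻¹ ∈ M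
        rw [show z.1 * m.1 * x * (z.1 * m.1)⁻¹ = z.1 * (m.1 * x * m.1⁻¹) * z.1⁻¹ by group,
          ← Subgroup.mem_center_iff.mp z.2, mul_inv_cancel_right]
        exact M.mul_mem (M.mul_mem m.2 hx) (M.inv_mem m.2)⟩
      have : commutator Δ ≤ M := by
        rw [commutator_def, Subgroup.commutator_le]
        intro a _ b _
        obtain ⟨⟨z, m⟩, rfl⟩ := hM.2 a
        obtain ⟨⟨z', m'⟩, rfl⟩ := hM.2 b
        show ⁅z.1 * m.1, z'.1 * m'.1⁆ ∈ M
        rw [CA.SchurHopf.comm_eq_of_map_eq h1.2.1 (a' := m.1) (b' := m'.1)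
          (by rw [map_mul, show τ z.1 = 1 from hk.ge z.2, one_mul])
          (by rw [map_mul, show τ z'.1 = 1 from hk.ge z'.2, one_mul])]
        exact M.mul_mem (M.mul_mem (M.mul_mem m.2 m'.2) (M.inv_mem m.2)) (M.inv_mem m'.2)
      exact eq_bot_iff.mpr fun x hx => hM.disjoint.le_bot ⟨hk.le hx, this (h1.2.2 hx)⟩
    · rw [hc.mul_pow, two_eq h2 m2 m1 a2 a1, ← sq, sq_one h2 m1]

end Cfsg.Agent.S0447
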