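import Cfsg.Statements.S0556
import Cfsg.Agent.Lib.Solv.SS3

set_option autoImplicit false
open Cfsg

namespace Cfsg.Agent.S0556

open Subgroup CA CA.BG CA.OQuo CA.Subn

/-- If a finite group has a maximal subgroup that is abelian, then the third term of its derived series is trivial (so the group is solvable of derived length at most three). -/
theorem result {G : Type*} [Group G] [Finite G] (A : Subgroup G) (hA : IsCoatom A) [IsMulCommutative A] : derivedSeries G 3 = ⊥ := by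
  change ⁅⁅⁅(⊤ : Subgroup G), ⊤⁆, ⁅⊤, ⊤⁆⁆, ⁅⁅(⊤ : Subgroup G), ⊤⁆, ⁅⊤, ⊤⁆⁆⁆ = ⊥
  have hc : IsMulCommutative A := ‹_›
  by_cases hn : ⊤ ≤ 𝓝(A)
  · have := relIndex_prime_of_max hA.lt_top hn fun L a _ => hA.2 L a
    exact comm_iff_der_eq_bot.1 (comm_of_le hc ((der_le _).trans
      (der_le_of_relIndex_p2 this hn (dvd_pow_self _ two_ne_zero))))
  obtain ⟨V, a, b, c⟩ := exists_core_le ⊤ A
  have hV := a.trans inf_le_right
  have h1 := (prim_quo hA.lt_top (fun L a _ => hA.2 L a) hV b c).metab (isMulCommutative_mim _ hc)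
  rw [← quo_comm b b, ← quo_comm (le_top.trans b) (le_top.trans b), mim_eq_bot_iff (le_top.trans b),
    mker_qh] at h1
  obtain ⟨g, -, hg⟩ := SetLike.not_le_iff_exists.1 hn
  have h2 : A ⊔ cj g A = ⊤ := hA.2 _ (left_lt_sup.2 fun i => hg (mem_norm_of_cj_le i))
  refine comm_eq_bot_iff.2 (le_cent_mono (h2 ▸ sup_le (cent_of_comm hc le_rfl hV) ?_ : ⊤ ≤ 𝓒(V))
    le_top h1)
  exact cj_of_mem_norm (b (mem_top g)) ▸ cent_cj g (cent_of_comm hc le_rfl hV)

end Cfsg.Agent.S0556
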