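import Cfsg.Statements.S0647
import Cfsg.Agent.Lib.Loc.H6J

set_option autoImplicit false
open Cfsg

set_option linter.unusedVariables false
set_option linter.unusedSimpArgs false
set_option linter.style.haveILetI false

namespace Cfsg.Agent.S0647

open Subgroup CA.H6Basic CA.H6J

/-- For a nonempty family of maximal abelian subgroups of a finite group, the intersection of the family is the centre of the subgroup it generates, which is also the full centralizer of that subgroup. -/
theorem result {S : Type*} [Group S] [Finite S] (𝒜 : Set (Subgroup S)) (hne : 𝒜.Nonempty) (hab : ∀ A ∈ 𝒜, IsMulCommutative A) (hmax : ∀ A ∈ 𝒜, ∀ B : Subgroup S, IsMulCommutative B → A ≤ B → B = A) : sInf 𝒜 = sSup 𝒜 ⊓ Subgroup.centralizer ((sSup 𝒜 : Subgroup S) : Set S) ∧ sInf 𝒜 = Subgroup.centralizer ((sSup 𝒜 : Subgroup S) : Set S) := by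
  obtain ⟨A, hA⟩ := hne
  have h1 : centralizer ((sSup 𝒜 : Subgroup S) : Set S) ≤ sInf 𝒜 := by
    refine le_sInf fun B hB x hx => ?_
    have hc : zpowers x ≤ centralizer (B : Set S) := zpowers_le.mpr (centralizer_anti (le_sSup hB) hx)
    rw [← hmax B hB _ (isMulCommutative_sup inferInstance (hab B hB) hc) le_sup_right]
    exact mem_sup_left (mem_zpowers x)
  have h2 : sInf 𝒜 ≤ sSup 𝒜 ⊓ centralizer ((sSup 𝒜 : Subgroup S) : Set S) := by
    refine le_inf ((sInf_le hA).trans (le_sSup hA)) ?_
    rw [le_centralizer_iff]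
    exact sSup_le fun B hB => (le_centralizer_iff_isMulCommutative.mpr (hab B hB)).trans
      (centralizer_anti (sInf_le hB))
  exact ⟨le_antisymm h2 (inf_le_right.trans h1), le_antisymm (h2.trans inf_le_right) h1⟩

end Cfsg.Agent.S0647
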