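import Cfsg.Statements.S0650
import Cfsg.Agent.Lib.Loc.H6Repl

set_option autoImplicit false
open Cfsg

set_option linter.unusedVariables false
set_option linter.unusedSimpArgs false
set_option linter.style.haveILetI false

namespace Cfsg.Agent.S0650

open Subgroup CA.H6Basic CA.H6J CA.H6Repl
open scoped commutatorElement

/-- The Glauberman replacement Theorem: from an abelian A ⊇ [B, B] not normalized by the normal subgroup B and a suitable b ∈ B one gets the abelian subgroup A* = (A ∩ b⁻¹Ab)[A, b] of the same order, containing [B, B], meeting B strictly more than A does but not containing B, mutually normalizing with A, with strictly larger normalizer containing b, and (p odd) of no larger exponent. -/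
theorem result {S : Type*} [Group S] [Finite S] {p : ℕ} [Fact p.Prime] (hS : IsPGroup p S) (B : Subgroup S) [B.Normal] (hB2 : p = 2 → IsMulCommutative B) (A : Subgroup S) (hA : IsMulCommutative A) (hBA : ⁅B, B⁆ ≤ A) (hnot : ¬ B ≤ Subgroup.normalizer (A : Set S)) (b : S) (hb : b ∈ B) (hbN : b ∈ Subgroup.normalizer ((Subgroup.normalizer (A : Set S)) : Set S)) (hbA : b ∉ Subgroup.normalizer (A : Set S)) : Nat.card ↥((A ⊓ A.map (MulAut.conj (b⁻¹)).toMonoidHom) ⊔ Subgroup.closure {g : S | ∃ a ∈ A, g = a * b⁻¹ * a⁻¹ * b}) = Nat.card A ∧ IsMulCommutative ↥((A ⊓ A.map (MulAut.conj (b⁻¹)).toMonoidHom) ⊔ Subgroup.closure {g : S | ∃ a ∈ A, g = a * b⁻¹ * a⁻¹ * b}) ∧ ⁅B, B⁆ ≤ ((A ⊓ A.map (MulAut.conj (b⁻¹)).toMonoidHom) ⊔ Subgroup.closure {g : S | ∃ a ∈ A, g = a * b⁻¹ * a⁻¹ * b}) ∧ A ⊓ B < ((A ⊓ A.map (MulAut.conj (b⁻¹)).toMonoidHom) ⊔ Subgroup.closure {g : S | ∃ a ∈ A, g = a * b⁻¹ * a⁻¹ * b}) ⊓ B ∧ ((A ⊓ A.map (MulAut.conj (b⁻¹)).toMonoidHom)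 ⊔ Subgroup.closure {g : S | ∃ a ∈ A, g = a * b⁻¹ * a⁻¹ * b}) ⊓ B < B ∧ A ≤ Subgroup.normalizer (((A ⊓ A.map (MulAut.conj (b⁻¹)).toMonoidHom) ⊔ Subgroup.closure {g : S | ∃ a ∈ A, g = a * b⁻¹ * a⁻¹ * b} : Subgroup S) : Set S) ∧ ((A ⊓ A.map (MulAut.conj (b⁻¹)).toMonoidHom) ⊔ Subgroup.closure {g : S | ∃ a ∈ A, g = a * b⁻¹ * a⁻¹ * b}) ≤ Subgroup.normalizer (A : Set S) ∧ b ∈ Subgroup.normalizer (((A ⊓ A.map (MulAut.conj (b⁻¹)).toMonoidHom) ⊔ Subgroup.closure {g : S | ∃ a ∈ A, g = a * b⁻¹ * a⁻¹ * b} : Subgroup S) : Set S) ∧ Subgroup.normalizer (A : Set S) < Subgroup.normalizer (((A ⊓ A.map (MulAut.conj (b⁻¹)).toMonoidHom) ⊔ Subgroup.closure {g : S | ∃ a ∈ A, g = a * b⁻¹ * a⁻¹ * b} : Subgroup S) : Set S) ∧ (p ≠ 2 → Monoid.exponent ↥((A ⊓ A.map (MulAut.conj (b⁻¹)).toMonoidHom) ⊔ Subgroup.closure {g : S | ∃ a ∈ A, g = a * b⁻¹ * a⁻¹ * b}) ∣ Monoid.exponent A) := by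
  rw [cm_eq, ← star_def]
  have hnA : normalizer (cj b⁻¹ A : Set S) = normalizer (A : Set S) := by
    rw [← cj_normalizer, cj_eq_self (inv_mem hbN)]
  have h1 : cj b⁻¹ A ≤ normalizer (A : Set S) := hnA ▸ le_normalizer
  have h2 : A ≤ normalizer (cj b⁻¹ A : Set S) := hnA ▸ le_normalizer
  have hAB : A ≤ normalizer (B : Set S) := le_normalizer_of_normal
  have hc : ⁅⁅B, B⁆, A⁆ = ⊥ :=
    commutator_eq_bot_iff_le_centralizer.mpr (hBA.trans (le_centralizer_iff_isMulCommutative.mpr hA))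
  have hb' : b ∈ normalizer ((A ⊓ B : Subgroup S) : Set S) := by
    refine mem_normalizer_of_conj_mem fun x hx =>
      mem_inf.mpr ⟨?_, B.mul_mem (B.mul_mem hb hx.2) (B.inv_mem hb)⟩
    simpa [commutatorElement_def] using A.mul_mem (hBA (commutator_mem_commutator hb hx.2)) hx.1
  have hodd : ∀ w ∈ ⁅B, B⁆, w ^ 2 = 1 → w = 1 := by
    by_cases hp : p = 2
    · rw [commutator_self_eq_bot_iff.mpr (hB2 hp)]
      exact fun w hw _ => mem_bot.mp hw
    · exact fun w _ h => eq_one_of_sq_eq_one hp (hS.to_subgroup ⊤) (mem_top w) h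
  have hBs : ⁅B, B⁆ ≤ star b A := (le_inf hBA (commutator_le_self B)).trans (inf_le_star hb')
  have hMB : cm b A ≤ B := (cm_le_commutator hb).trans (le_normalizer_iff_commutator_le_left.mp hAB)
  have hbs : b ∈ normalizer (star b A : Set S) := by
    rw [← inv_mem_iff]
    apply mem_normalizer_of_cj_le
    conv_lhs => rw [star_def, cj_sup]
    refine sup_le (cj_le_iff'.mpr fun x hx => ?_) (cj_le_iff'.mpr fun x hx => ?_)
    · have := mul_mem (mem_sup_right (mem_cm (b := b) hx.1) : _ ∈ star b A) (mem_sup_left hx)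
      simpa [mul_assoc, star_def] using this
    · have := mul_mem (hBs (commutator_mem_commutator (inv_mem hb) (hMB hx))) (mem_sup_right hx)
      simpa [commutatorElement_def, mul_assoc, star_def] using this
  have hstar : star b A = (A ⊓ cj b⁻¹ A) ⊔ ((A ⊔ cj b⁻¹ A) ⊓ B) := by
    refine le_antisymm (sup_le_sup_left (le_inf cm_le_sup hMB) _) (sup_le le_sup_left ?_)
    rintro x ⟨hx, hxB⟩
    rw [← star_sup] at hx
    obtain ⟨y, hy, a, ha, rfl⟩ := (mem_sup_left_norm (star_le_normalizer h1)).mp hx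
    have hn : A ⊓ cj b⁻¹ A ≤ normalizer (cm b A : Set S) := inf_le_left.trans (le_normalizer_cm b A)
    obtain ⟨z, hz, m, hm, rfl⟩ := (mem_sup_left_norm hn).mp hy
    have hm' : z * m * z⁻¹ ∈ cm b A := conj_mem_of_mem_normalizer (hn hz) hm
    have h3 : z * a ∈ A ⊓ B := by
      refine mem_inf.mpr ⟨A.mul_mem hz.1 ha, ?_⟩
      have := B.mul_mem (B.inv_mem (hMB hm')) hxB
      simpa [mul_assoc] using this
    have := mul_mem (mem_sup_right hm' : _ ∈ star b A) (inf_le_star hb' h3)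
    simpa [mul_assoc, star_def] using this
  have hNN : normalizer (A : Set S) ≤ normalizer (star b A : Set S) := by
    intro g hg
    have hg' : g ∈ normalizer (cj b⁻¹ A : Set S) := hnA ▸ hg
    rw [hstar]
    exact mem_normalizer_sup (mem_normalizer_inf hg hg')
      (mem_normalizer_inf (mem_normalizer_sup hg hg') (mem_normalizer_of_normal g B))
  refine ⟨card_star hA h1 h2 hAB hb hb', isMulCommutative_star hA h1 h2 hAB hc hb hodd, hBs,
    inf_lt_star_inf hAB hb hb' hbA, lt_of_le_of_ne inf_le_right fun h => not_mem_star h1 hbA ?_,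
    le_normalizer_star hA h1 h2, star_le_normalizer h1, hbs,
    lt_of_le_of_ne hNN fun h => hbA (h ▸ hbs), fun hp => ?_⟩
  · exact (h.ge hb).1
  · refine Monoid.exponent_dvd_of_forall_pow_eq_one fun x => Subtype.ext ?_
    refine pow_eq_one_of_mem_sup hA h1 h2 (fun a ha => ?_)
      (fun w _ h => eq_one_of_sq_eq_one hp (hS.to_subgroup ⊤) (mem_top w) h) x (star_le_sup x.2)
    exact congrArg Subtype.val (Monoid.pow_exponent_eq_one (⟨a, ha⟩ : A))

end Cfsg.Agent.S0650
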