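import Cfsg.Statements.S0651
import Cfsg.Agent.Lib.Loc.H6Repl

set_option autoImplicit false
open Cfsg

set_option linter.unusedVariables false
set_option linter.unusedSimpArgs false
set_option linter.style.haveILetI false

namespace Cfsg.Agent.S0651

open Subgroup CA.H6Basic CA.H6J CA.H6Repl

theorem aux {S : Type*} [Group S] [Finite S] {p : ℕ} [Fact p.Prime] (hS : IsPGroup p S) (hp : p ≠ 2)
    (n : ℕ) (D : Subgroup S) [D.Normal] (B : Subgroup S) [B.Normal]
    (h : ∃ U ∈ mx n D, ⁅B, B⁆ ≤ U ∧ ¬ B ≤ U) :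
    ∃ A ∈ mx n D, ⁅B, B⁆ ≤ A ∧ ¬ B ≤ A ∧ B ≤ normalizer (A : Set S) := by
  have := hS.isNilpotent
  obtain ⟨A, ⟨hA, hBA, hnA⟩, hmax⟩ := Set.exists_max_image {U | U ∈ mx n D ∧ ⁅B, B⁆ ≤ U ∧ ¬ B ≤ U}
    (fun U => Nat.card (U ⊓ B : Subgroup S)) (Set.toFinite _) h
  refine ⟨A, hA, hBA, hnA, ?_⟩
  by_contra hnot
  have ho : ∀ w : S, w ^ 2 = 1 → w = 1 := fun w h =>
    eq_one_of_sq_eq_one hp (hS.to_subgroup ⊤) (mem_top w) h
  obtain ⟨A', hA', hlt, hnA', -⟩ := exists_replacement (P := ⊤) inferInstance le_top le_top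
    le_normalizer_of_normal hA le_normalizer_of_normal (hBA.trans hA.2.1.le_centralizer)
    (fun w _ => ho w) (Or.inl fun w _ => ho w) hnot
  exact (hmax A' ⟨hA', (le_inf hBA (commutator_le_self B)).trans (hlt.le.trans inf_le_left), hnA'⟩).not_gt
    (card_lt_of_lt hlt)


/-- For odd p and D normal in the p-group S, the abelian subgroups of D of largest order satisfy the replacement property: a class-2 normal subgroup B of S with a member containing [B, B] but not B normalizes some such member. -/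
theorem result {S : Type*} [Group S] [Finite S] {p : ℕ} [Fact p.Prime] (hS : IsPGroup p S) (hp : p ≠ 2) (D : Subgroup S) [D.Normal] : ∀ (B : Subgroup S) [B.Normal], ⁅⁅B, B⁆, B⁆ = ⊥ → (∃ U ∈ (Set.image (fun A : Subgroup ↥D => A.map D.subtype) (Cfsg.maxAbelianSubgroups ↥D)), ⁅B, B⁆ ≤ U ∧ ¬ B ≤ U) → ∃ A ∈ (Set.image (fun A : Subgroup ↥D => A.map D.subtype) (Cfsg.maxAbelianSubgroups ↥D)), ⁅B, B⁆ ≤ A ∧ ¬ B ≤ A ∧ B ≤ Subgroup.normalizer (A : Set S) := by
  intro B _ _ h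
  rw [image_maxAbelianSubgroups] at h ⊢
  exact aux hS hp 0 D B h

end Cfsg.Agent.S0651
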