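import Cfsg.Statements.S0653
import Cfsg.Agent.Lib.Loc.H6ZJ

set_option autoImplicit false
open Cfsg

set_option linter.unusedVariables false
set_option linter.unusedSimpArgs false
set_option linter.style.haveILetI false

namespace Cfsg.Agent.S0653

open CA.H6ZJ CA.H6Op CA.H6J CA.Amb CA.AmbSyl CA.AmbChar

/-- Glauberman's ZJ-Theorem: for odd p, if the largest normal p-subgroup of G contains its centralizer and G acts p-stably on every normal p-subgroup, then the centre of the abelian-version Thompson subgroup of a Sylow p-subgroup is a characteristic subgroup of G. -/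
theorem result {G : Type*} [Group G] [Finite G] {p : ℕ} [Fact p.Prime] (hp : p ≠ 2) (hc : Subgroup.centralizer (Cfsg.pCore p G : Set G) ≤ Cfsg.pCore p G) (hst : ∀ (P : Subgroup G) [P.Normal], IsPGroup p P → Cfsg.IsPStableOn p P) (S : Sylow p G) : (Cfsg.centerThompsonAOf ((S : Subgroup G))).Characteristic := by
  rw [centerThompsonAOf_eq]
  refine characteristic_of_normal (fun X => Z (J 0 X)) (fun f X => ?_) S ?_
  · have hf : Function.Injective f.toMonoidHom := f.injective
    rw [J_map hf, Z_map hf]
  · exact normal_of_top_le (zj_Z hp (dvd_zero p) (sylIn_top S) (charP_top_iff.2 hc) fun V _ h hV =>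
      haveI := normal_of_top_le h
      stab_of_isPStableOn (hst V hV))

end Cfsg.Agent.S0653
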