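import Cfsg.Statements.S0654
import Cfsg.Agent.Lib.Loc.H6ZJ

set_option autoImplicit false
open Cfsg

set_option linter.unusedVariables false
set_option linter.unusedSimpArgs false
set_option linter.style.haveILetI false

namespace Cfsg.Agent.S0654

open CA.H6ZJ CA.H6Op CA.H6J CA.Amb CA.AmbSyl CA.AmbChar

/-- The ZJ-Theorem for the elementary-abelian Thompson subgroup: for an odd prime p, a finite group G with C_G(O_p(G)) ≤ O_p(G) acting p-stably on its normal p-subgroups, and a Sylow p-subgroup S of G, the subgroup generated by the elements of order dividing p in Z(J_e(S)) is characteristic in G. -/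
theorem result {G : Type*} [Group G] [Finite G] {p : ℕ} [Fact p.Prime] (hp : p ≠ 2) (hc : Subgroup.centralizer (Cfsg.pCore p G : Set G) ≤ Cfsg.pCore p G) (hst : ∀ (P : Subgroup G) [P.Normal], IsPGroup p P → Cfsg.IsPStableOn p P) (S : Sylow p G) : ((Cfsg.omegaCenterThompson p ↥(S : Subgroup G)).map (S : Subgroup G).subtype).Characteristic := by
  rw [map_omegaCenterThompson_subtype]
  refine characteristic_of_normal (fun X => Cfsg.omegaOne p (Z (J p X))) (fun f X => ?_) S ?_
  · have hf : Function.Injective f.toMonoidHom := f.injective
    rw [J_map hf, Z_map hf, omegaOne_map hf]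
  · exact normal_of_top_le (zj_omega hp dvd_rfl (sylIn_top S) (charP_top_iff.2 hc) fun V _ h hV =>
      haveI := normal_of_top_le h
      stab_of_isPStableOn (hst V hV))

end Cfsg.Agent.S0654
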