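import Cfsg.Statements.S0655
import Cfsg.Agent.Lib.Loc.H6J

set_option autoImplicit false
open Cfsg

set_option linter.unusedVariables false
set_option linter.unusedSimpArgs false
set_option linter.style.haveILetI false

namespace Cfsg.Agent.S0655

open Subgroup CA.H6Basic CA.H6J

/-- In a p-group the intersection of all elementary abelian subgroups of largest order is the subgroup generated by the elements of order dividing p in the centre (equivalently the centralizer) of the elementary-version Thompson subgroup. -/
theorem result {S : Type*} [Group S] [Finite S] {p : ℕ} [Fact p.Prime] (hS : IsPGroup p S) : sInf (Cfsg.maxElementaryAbelianSubgroups p S) = Cfsg.omegaCenterThompson p S ∧ Cfsg.omegaCenterThompson p S = Cfsg.omegaOne p (Subgroup.centralizer (Cfsg.thompsonSubgroup p S : Set S)) := by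
  rw [omegaCenterThompson_eq, thompsonSubgroup_eq, maxElementaryAbelianSubgroups_eq]
  obtain ⟨A, hA⟩ := mx_nonempty p (⊤ : Subgroup S)
  have h1 : omegaOne p (centralizer (J p (⊤ : Subgroup S) : Set S)) ≤ sInf (mx p (⊤ : Subgroup S)) :=
    omegaOne_le_iff.mpr fun x hx hp => mem_sInf.mpr fun B hB =>
      mem_mx_of_mem_centralizer_J hB (mem_top x) hx hp
  have h2 : sInf (mx p (⊤ : Subgroup S)) ≤ omegaOne p (Z (J p (⊤ : Subgroup S))) := by
    intro x hx
    have hxA := mem_sInf.mp hx A hA
    refine mem_omegaOne ⟨le_J hA hxA, ?_⟩ (hA.2.1.2 x hxA)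
    have : J p (⊤ : Subgroup S) ≤ centralizer {x} := J_le_iff.mpr fun B hB b hb =>
      mem_centralizer_singleton_iff.mpr (hB.2.1.comm hb (mem_sInf.mp hx B hB))
    exact fun y hy => mem_centralizer_singleton_iff.mp (this hy)
  have h3 : omegaOne p (Z (J p (⊤ : Subgroup S))) ≤ omegaOne p (centralizer (J p (⊤ : Subgroup S) : Set S)) :=
    omegaOne_mono p inf_le_right
  exact ⟨le_antisymm h2 (h3.trans h1), le_antisymm h3 (h1.trans h2)⟩

end Cfsg.Agent.S0655
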