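import Cfsg.Statements.S1081
import Cfsg.Agent.Lib.Lie.ChevTwCert
-- import your own Cfsg.Agent.* helpers here

set_option autoImplicit false
open Cfsg

namespace Cfsg.Agent.S1081

open CA.Chev

theorem key {F : Type*} [Field F] {D : Cfsg.Lie.ChevalleyDatum} [Good D] (T : Tw D D F F) (hp : ∀ r, Pos (T.φ r) ↔ Pos r)
    (h2 : ∀ r, Function.Surjective (T.α r)) (ι : ℕ → ℕ) (e : ℕ → F → F)
    (h3 : ∀ i : Nd D, (T.φ (sim i)).val = D.simple (ι i)) (h4 : ∀ (i : Nd D) t, T.f (sim i) t = e i t)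
    (h5 : ∀ (i : Nd D) t, T.f (ng (sim i)) t = e i t) :
    ∃ α : ↥(D.group F) ≃* ↥(D.group F), ∀ (g : ↥(D.group F)) (i : ℕ) (t : F), i < D.rank →
      (((g : GL D.Idx F) : Matrix D.Idx D.Idx F) = D.x F (D.simple i) t →
        ((α g : GL D.Idx F) : Matrix D.Idx D.Idx F) = D.x F (D.simple (ι i)) (e i t)) ∧
      (((g : GL D.Idx F) : Matrix D.Idx D.Idx F) = D.x F (D.neg (D.simple i)) t →
        ((α g : GL D.Idx F) : Matrix D.Idx D.Idx F) = D.x F (D.neg (D.simple (ι i))) (e i t)) := by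
  obtain ⟨α, h⟩ := T.exists_equiv hp h2 (adjG D F) adjG_G adjG_θ_injective (adjG D F) adjG_G adjG_θ_injective
  refine ⟨α, fun g i t hi => ⟨fun hg => ?_, fun hg => ?_⟩⟩
  · rw [(eq_adjG_x (r := sim ⟨i, hi⟩)).1 hg, ← h3 ⟨i, hi⟩, ← h4 ⟨i, hi⟩]
    exact eq_adjG_x.2 (h _ _)
  · rw [(eq_adjG_x (r := ng (sim ⟨i, hi⟩))).1 hg, ← h3 ⟨i, hi⟩, ← h5 ⟨i, hi⟩, ← ng_val, ← T.φ_ng]
    exact eq_adjG_x.2 (h _ _)

theorem f_ng {F : Type*} [Field F] {D : Cfsg.Lie.ChevalleyDatum} [Good D] (T : Tw D D F F) (r : Rt D) (k : ℕ)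
    (h : ∀ t, T.f r t = t ^ k) (t : F) : T.f (ng r) t = t ^ k := by
  rw [← inv_inv t, T.f_ng, h, inv_pow]; simp

/-- Graph automorphisms: for E₆ with ρ = (p₁ p₆)(p₃ p₅) and for D₄ with ρ the 3-cycle on the outer nodes there is a group automorphism sending `x_p(t) ↦ x_{ρ(p)}(t)` and `x_{-p}(t) ↦ x_{-ρ(p)}(t)` for every fundamental root `p`. -/
theorem result {F : Type*} [Field F] (p : Cfsg.Lie.ChevalleyDatum × List ℕ)
    (hp : p ∈ [(Cfsg.Lie.chevE6, [5, 1, 4, 3, 2, 0]), (Cfsg.Lie.chevD4, [2, 1, 3, 0]), (Cfsg.Lie.chevD4, [3, 1, 0, 2])]) :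
    ∃ α : ↥(p.1.group F) ≃* ↥(p.1.group F), ∀ (g : ↥(p.1.group F)) (i : ℕ) (t : F), i < p.1.rank →
      (((g : GL p.1.Idx F) : Matrix p.1.Idx p.1.Idx F) = p.1.x F (p.1.simple i) t →
        ((α g : GL p.1.Idx F) : Matrix p.1.Idx p.1.Idx F) = p.1.x F (p.1.simple (p.2.getD i 0)) t) ∧
      (((g : GL p.1.Idx F) : Matrix p.1.Idx p.1.Idx F) = p.1.x F (p.1.neg (p.1.simple i)) t →
        ((α g : GL p.1.Idx F) : Matrix p.1.Idx p.1.Idx F) = p.1.x F (p.1.neg (p.1.simple (p.2.getD i 0))) t) := by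
  simp only [List.mem_cons, List.not_mem_nil, or_false] at hp
  rcases hp with rfl | rfl | rfl
  · exact key (twE6 F) twE6_pos (fun _ => Function.surjective_id) _ (fun _ t => t)
      (fun i => congrArg Fin.val (twE6_sim i)) twE6_f_sim
      fun i t => (f_ng _ _ 1 (fun t => (twE6_f_sim i t).trans (pow_one t).symm) t).trans (pow_one t)
  · exact key (twD4a F) twD4a_pos (fun _ => Function.surjective_id) _ (fun _ t => t)
      (fun i => congrArg Fin.val (twD4a_sim i)) twD4a_f_sim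
      fun i t => (f_ng _ _ 1 (fun t => (twD4a_f_sim i t).trans (pow_one t).symm) t).trans (pow_one t)
  · exact key (twD4b F) twD4b_pos (fun _ => Function.surjective_id) _ (fun _ t => t)
      (fun i => congrArg Fin.val (twD4b_sim i)) twD4b_f_sim
      fun i t => (f_ng _ _ 1 (fun t => (twD4b_f_sim i t).trans (pow_one t).symm) t).trans (pow_one t)

end Cfsg.Agent.S1081
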