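import Cfsg.Statements.S1156
import Cfsg.Agent.Lib.Lie.ChevRee
import Cfsg.Agent.Lib.Lie.ReeTori2
-- import your own Cfsg.Agent.* helpers here

set_option autoImplicit false
open Cfsg

namespace Cfsg.Agent.S1156

open CA.Chev

/-- In the small Ree group ²G₂(q), q = 3^(2m+1) with m ≥ 1, realised as G¹ inside the Chevalley group G₂ over the field with q elements (θ the 3^m-th power map): for every prime `p > 3` the Sylow `p`-subgroups of `G¹` are cyclic. -/
theorem result {K : Type*} [Field K] [Fintype K] {m : ℕ} (hm : 1 ≤ m) (hK : Fintype.card K = 3 ^ (2 * m + 1))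
    {p : ℕ} [Fact p.Prime] (hp : 3 < p) (P : Sylow p ↥(Cfsg.Lie.twistedG2 K (3 ^ m))) : IsCyclic (P : Subgroup ↥(Cfsg.Lie.twistedG2 K (3 ^ m))) := by
  obtain ⟨R, h, -⟩ := exists_ree hK
  have hq := CA.Ree.three_lt hm h
  have hr : (3 ^ (m + 1)) ^ 2 = 3 * Nat.card K := by rw [h]; ring
  have := R.finite
  by_cases e : (P : Subgroup ↥(Cfsg.Lie.twistedG2 K (3 ^ m))) = ⊥
  · rw [e]; infer_instance
  obtain ⟨A, k, c, n, i, hA, h1, -⟩ := R.exists_tor hq hr hp P.2 e
  have := hA.cyc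
  exact Subgroup.isCyclic_of_le h1

end Cfsg.Agent.S1156
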