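import Cfsg.Statements.S1251
import Cfsg.Agent.Lib.Grp.H13Z2

set_option autoImplicit false
open Cfsg

namespace Cfsg.Agent.S1251

/-- Let S be a Sylow 2-subgroup of the finite group G and A ≤ S strongly closed in S. If H is a subgroup normalized by A with no nontrivial normal subgroup of odd order and A ∩ H = 1, then A ≤ C_G(H). -/
theorem result {G : Type*} [Group G] [Finite G] (S : Sylow 2 G) (A : Subgroup G) (hA : Cfsg.IsStronglyClosed A (S : Subgroup G)) (H : Subgroup G) (hAH : A ≤ Subgroup.normalizer (H : Set G)) (hO : Cfsg.oddCore ↥H = ⊥) (hdisj : A ⊓ H = ⊥) : A ≤ Subgroup.centralizer (H : Set G) := by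
  open Subgroup CA.SylIn in
  intro a ha h hh
  have hA2 : IsPGroup 2 A := S.isPGroup'.to_le hA.1
  obtain ⟨R, hR, hAR⟩ := exists_isSylowIn_ge hA2 (le_sup_left : A ≤ A ⊔ H)
  obtain ⟨g, hg⟩ := exists_conj_le_sylow S hR.isPGroup
  have hgA : g •ᶜ A = A := conj_eq_of_le (conj_le_iff.2 fun x hx =>
    hA.2 x hx g (conj_le_iff.1 hg x (hAR hx)))
  have hcl : ∀ l : G, l * a * l⁻¹ ∈ R → l * a * l⁻¹ ∈ A := fun l hl => by
    have := hA.2 a ha (g * l) (by convert conj_le_iff.1 hg _ hl using 1; group)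
    rw [← hgA, mem_conj] at this
    convert this using 1; group
  have hn : A ⊔ H ≤ normalizer (H : Set G) := sup_le hAH le_normalizer
  have hle : H ⊔ zpowers a ≤ A ⊔ H := sup_le le_sup_right ((zpowers_le.2 ha).trans le_sup_left)
  obtain ⟨k, hk⟩ := CA.Fus2.exists_pow_eq_one hA2 ha
  have haL : a ∈ H ⊔ zpowers a := mem_sup_right (mem_zpowers a)
  have hZ := CA.H13Z2.zstar_elem (x := (⟨a, haL⟩ : ↥(H ⊔ zpowers a))) (k := k) (Subtype.ext hk)
    (fun l hl => by
      have hl' : Commute a (l * a * (l : G)⁻¹) := congrArg Subtype.val hl.eq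
      obtain ⟨c, hc, h1⟩ := hR.exists_conj_le (CA.H13Z2.isPGroup_pair hk (l := k)
        (by rw [conj_pow, hk]; group) hl')
        (sup_le (zpowers_le.2 (hle haL)) (zpowers_le.2 (hle (l * ⟨a, haL⟩ * l⁻¹).2)))
      have h2 := hcl c (conj_le_iff.1 h1 _ (mem_sup_left (mem_zpowers _)))
      have h3 := hcl (c * l) (by
        convert conj_le_iff.1 h1 _ (mem_sup_right (mem_zpowers _)) using 1; group)
      obtain ⟨x, hx, m, hm⟩ := (CA.PGBasic.mem_sup_zpowers (hAH ha)).1 l.2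
      have h4 : l * a * (l : G)⁻¹ * a⁻¹ ∈ H := by
        have : l * a * (l : G)⁻¹ * a⁻¹ = x * (a * x⁻¹ * a⁻¹) := by rw [hm]; group
        rw [this]
        exact H.mul_mem hx (conj_mem_of_mem_normalizer (hAH ha) (H.inv_mem hx))
      have h5 : c * (l * a * (l : G)⁻¹ * a⁻¹) * c⁻¹ ∈ A ⊓ H :=
        mem_inf.2 ⟨by convert A.mul_mem h3 (A.inv_mem h2) using 1; group,
          conj_mem_of_mem_normalizer (hn hc) h4⟩
      rw [hdisj, mem_bot, conj_eq_one_iff, mul_inv_eq_one] at h5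
      exact Subtype.ext h5)
  have h6 := CA.Core.map_pPrimeCore_inf_le (p := 2) (le_sup_left : H ≤ H ⊔ zpowers a)
    (x := h * a * h⁻¹ * a⁻¹) ⟨⟨_, hZ ⟨h, mem_sup_left hh⟩, rfl⟩, by
      rw [mul_assoc, mul_assoc, ← mul_assoc a]
      exact H.mul_mem hh (conj_mem_of_mem_normalizer (hAH ha) (H.inv_mem hh))⟩
  rw [show pPrimeCore 2 H = ⊥ from hO, Subgroup.map_bot, mem_bot, mul_inv_eq_one,
    mul_inv_eq_iff_eq_mul] at h6
  exact h6

end Cfsg.Agent.S1251
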