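import Cfsg.Statements.S1292
import Cfsg.Agent.Lib.Grp.Bal
import Cfsg.Agent.Lib.Grp.PGBasic

set_option autoImplicit false
open Cfsg

namespace Cfsg.Agent.S1292

open Subgroup CA.Rad CA.Core CA.Fitting CA.Subn CA.Quasi CA.Comp CA.Fstar CA.PLoc CA.PComp CA.Bal in
/-- Let G be a finite group such that F*(C_G(t)) = O_2(C_G(t)) for every involution t. Then F*(N_G(T)) = O_2(N_G(T)) for every nontrivial 2-subgroup T of G. -/
theorem result {G : Type*} [Group G] [Finite G] (h : ∀ t : G, orderOf t = 2 → Cfsg.generalizedFittingSubgroup ↥(Subgroup.centralizer ({t} : Set G)) = Cfsg.pCore 2 ↥(Subgroup.centralizer ({t} : Set G))) (T : Subgroup G) (hT : IsPGroup 2 ↥T) (hT1 : T ≠ ⊥) : Cfsg.generalizedFittingSubgroup ↥(Subgroup.normalizer (T : Set G)) = Cfsg.pCore 2 ↥(Subgroup.normalizer (T : Set G)) := by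
  have := (nontrivial_iff_ne_bot T).2 hT1
  have := hT.center_nontrivial
  obtain ⟨z, hz⟩ := exists_prime_orderOf_dvd_card' (G := center T) 2
    (hT.to_subgroup (center T) |>.card_eq_or_dvd.resolve_left Finite.one_lt_card.ne')
  have h1 : orderOf ((z : T) : G) = 2 := by rw [orderOf_coe, orderOf_coe, hz]
  have h2 : T ≤ centralizer {((z : T) : G)} := fun x hx => mem_centralizer_singleton_iff.2
    (congrArg Subtype.val (mem_center_iff.1 z.2 ⟨x, hx⟩))
  have h3 := fstar_inf_centralizer_eq_pCore (h _ h1) hT h2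
  rw [inf_of_le_right (centralizer_le (Set.singleton_subset_iff.2 (z : T).2)), ← OE_eq_bot_iff,
    ← OE_normalizer_eq hT, OE_eq_bot_iff] at h3
  exact h3

end Cfsg.Agent.S1292
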