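import Cfsg.Statements.S1295
import Cfsg.Agent.Lib.Grp.SigL

set_option autoImplicit false
open Cfsg

namespace Cfsg.Agent.S1295

open Subgroup CA.SigL CA.Bal CA.Bal2 in
/-- Let G be finite with O_{p'}(G) = 1 and p-rank at least 3, whose reduced rank-2 commuting graph for p is connected. Suppose that for every element a of order p with m_p(C_G(a)) ≥ 3 the p-layer of C_G(a) is trivial and O_{p'}(C_G(a)) is solvable. Then F*(C_G(a)) = O_p(C_G(a)) for every such a. -/
theorem result {G : Type*} [Group G] [Finite G] (p : ℕ) [Fact p.Prime] (hO : Cfsg.pPrimeCore p G = ⊥) (hrk : ¬ Cfsg.PRankLE p 2 G) (hconn : Cfsg.IsRankGraphConnected p 2 G) (hL : ∀ a : G, (orderOf a = p ∧ ¬ Cfsg.PRankLE p 2 ↥(Subgroup.centralizer ({a} : Set G))) → Cfsg.pLayer p ↥(Subgroup.centralizer ({a} : Set G)) = ⊥ ∧ Group.IsSolvable ↥(Cfsg.centralizerPPrimeCore p a)) (a : G) (ha : (orderOf a = p ∧ ¬ Cfsg.PRankLE p 2 ↥(Subgroup.centralizer ({a} : Set G)))) : Cfsg.generalizedFittingSubgroup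 ↥(Subgroup.centralizer ({a} : Set G)) = Cfsg.pCore p ↥(Subgroup.centralizer ({a} : Set G)) := by
  have h : EF p (centralizerPPrimeCore p : G → Subgroup G) := ⟨fun a _ => map_subtype_le _,
    fun a _ => coprime_cpc a, fun a h => (hL a h).2, fun a g _ => (map_conj_cpc a g).symm,
    fun a b h1 h2 hab => cpc_inf_le_of_pLayer (hL b h2).1 (mem_centralizer_singleton_iff.2 hab) (k := 1)
      (by rw [pow_one, h1.1])⟩
  refine OE_eq_bot_iff.1 (sup_eq_bot_iff.2 ⟨?_, h.eq_bot hO hconn ha⟩)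
  rw [(hL a ha).1, Subgroup.map_bot]

end Cfsg.Agent.S1295
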