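import Cfsg.Statements.S1322
import Cfsg.Agent.Lib.Loc.AmbChar
import Cfsg.Agent.Lib.Loc.LBal2
-- import your own Cfsg.Agent.* helpers here

set_option autoImplicit false
open Cfsg

namespace Cfsg.Agent.S1322

/-- Let G be finite with L_{2'}(G) = E(G), t an involution and L ≤ C_G(t) a component of C_G(t). Then there is a component D of G with: L = D; or L < D and D = ⁅D, ⟨t⟩⁆; or tDt⁻¹ ≠ D and L is the layer of C_{D ⊔ tDt⁻¹}(t). -/
theorem result {G : Type*} [Group G] [Finite G] (hL2 : Cfsg.pLayer 2 G = Cfsg.layer G) (t : G) (ht : orderOf t = 2) (L : Subgroup G) (hLt : L ≤ Subgroup.centralizer ({t} : Set G)) (hL : Cfsg.IsComponent (L.subgroupOf (Subgroup.centralizer ({t} : Set G)))) : ∃ D : Subgroup G, Cfsg.IsComponent D ∧ (L = D ∨ (L < D ∧ D = ⁅D, Subgroup.zpowers t⁆) ∨ (D.map (MulAut.conj t).toMonoidHom ≠ D ∧ L = (Cfsg.layer ↥((D ⊔ D.map (MulAut.conj t).toMonoidHom) ⊓ Subgroup.centralizer ({t} : Set G))).map ((D ⊔ D.map (MulAut.conj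 t).toMonoidHom) ⊓ Subgroup.centralizer ({t} : Set G)).subtype)) := by
  open Subgroup Cfsg CA CA.Amb CA.AmbSyl CA.AmbCore CA.AmbRes CA.AmbChar CA.AmbFs CA.AmbSpe CA.AmbIso CA.LBal CA.LBal2 CA.Comp CA.PComp in
  open scoped commutatorElement in
  (
    have c : Cp L (centralizer {t}) := cp_iff.2 ⟨hLt, hL⟩
    have k : PCp 2 L (⊤ ⊓ centralizer {t}) := by rw [top_inf_eq]; exact pcp_two c
    have t2 : t ^ 2 = 1 := ht ▸ pow_orderOf_eq_one t
    have l : L ≤ EL ⊤ := by
      rw [EL_top, ← hL2]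
      exact lb_two (zpowers t) L (isPGroup_zpowers' t2) (by rw [Amb.centralizer_zpowers]; exact pcp_two c)
    have n : t ∈ 𝐍 (⊤ : Subgroup G) := le_normalizer (mem_top t)
    obtain ⟨D, hD, h⟩ := pump (p := 2) n (by rw [t2]; exact one_mem _) k l
    refine ⟨D, Cp.top_iff.1 hD, ?_⟩
    rcases h with ⟨h1, h2⟩ | ⟨h1, δ, h2, h3⟩
    · rcases Quasi.qs_commutator_eq hD.qs (zle h1) with e | e
      · refine (h2.eq_or_lt).imp_right fun h => Or.inl ⟨h, e.symm⟩
      · exact Or.inl (c.eq_of_le (hD.mono (le_cent_of_mem (commutator_eq_bot_iff'.1 e (mem_zpowers t))) le_top) h2)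
    · refine Or.inr (Or.inr ⟨fun e => h1 (cj_eq_self_iff.1 e), ?_⟩)
      have e := ncl_two (D := D) (x := t) (by rw [← pow_two, t2]; exact one_mem _)
      show L = EL ((D ⊔ cj t D) ⊓ centralizer {t})
      rw [← e]
      refine le_antisymm (c.mono (le_inf (h3 ▸ h2.le_ncl) hLt) inf_le_right).le_map_layer ?_
      exact h3 ▸ h2.le_range hD n (EL_perfect _) ((EL_le _).trans inf_le_left) ((EL_le _).trans inf_le_right))

end Cfsg.Agent.S1322
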