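import Cfsg.Statements.S1339
import Cfsg.Agent.Lib.Grp.Fstar

set_option autoImplicit false
open Cfsg

namespace Cfsg.Agent.S1339

open CA.Fstar CA.Core Matrix in
/-- Let F be a field with 2 elements, n ≥ 3, and t ∈ SL(n, F) a transvection (t = 1 + E_{ij}, i ≠ j). Then the generalized Fitting subgroup of C(t) is O_2(C(t)). -/
theorem result {F : Type*} [Field F] [Fintype F] [DecidableEq F] (hF : Fintype.card F = 2) (n : ℕ) (hn : 3 ≤ n) (i j : Fin n) (hij : i ≠ j) (t : Matrix.SpecialLinearGroup (Fin n) F) (ht : (t : Matrix (Fin n) (Fin n) F) = Matrix.transvection i j 1) : Cfsg.generalizedFittingSubgroup ↥(Subgroup.centralizer ({t} : Set (Matrix.SpecialLinearGroup (Fin n) F))) = Cfsg.pCore 2 ↥(Subgroup.centralizer ({t} : Set (Matrix.SpecialLinearGroup (Fin n) F))) := by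
  have h0 : ∀ a : F, a ≠ 0 → a = 1 := fun a ha => by
    simpa [hF] using FiniteField.pow_card_sub_one_eq_one a ha
  have h2 : (2 : F) = 0 := by simpa [hF] using FiniteField.cast_card_eq_zero F
  set C := Subgroup.centralizer ({t} : Set (SpecialLinearGroup (Fin n) F))
  have k0 : ∀ (l : Fin n) (g : Matrix (Fin n) (Fin n) F), g * transvection l j 1 = transvection l j 1 * g →
      (∀ k, g k l = if k = l then g j j else 0) ∧ ∀ k, g j k = if k = j then g l l else 0 := by
    intro l g h
    simp only [transvection, mul_add, add_mul, mul_one, one_mul, add_right_inj] at h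
    refine ⟨fun k => ?_, fun k => ?_⟩
    · have := congrFun (congrFun h k) j
      split_ifs with H
      · subst H; simpa using this
      · simpa [single_mul_apply_of_ne, H] using this
    · have := congrFun (congrFun h l) k
      split_ifs with H
      · subst H; simpa using this.symm
      · simpa [mul_single_apply_of_ne, H] using this.symm
  have k1 : ∀ g : C, g.1.1 j = Pi.single j 1 := fun g => by
    have h4 : g.1 * t = t * g.1 := Subgroup.mem_centralizer_singleton_iff.1 g.2
    have h1 := (k0 i g.1.1 (ht ▸ congrArg Subtype.val h4)).2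
    have h3 : g.1.1 i i = 1 := h0 _ fun h => one_ne_zero (g.1.2.symm.trans
      (det_eq_zero_of_row_eq_zero j fun k => by rw [h1, h, ite_self]))
    ext k
    rw [h1, h3, Pi.single_apply]
  have k2 : ∀ (g : C) v, (g.1.1 *ᵥ v) j = v j := fun g v => by
    rw [mulVec, show (fun k => g.1.1 j k) = _ from k1 g, single_dotProduct, one_mul]
  have k3 : ∀ (g h : C) v, (g * h).1.1 *ᵥ v = g.1.1 *ᵥ h.1.1 *ᵥ v := fun g h v =>
    (mulVec_mulVec _ _ _).symm
  have k4 : ∀ v, (1 : C).1.1 *ᵥ v = v := one_mulVec
  let A : Subgroup C :=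
    { carrier := {g | ∀ v : Fin n → F, v j = 0 → g.1.1 *ᵥ v = v}
      one_mem' := fun v _ => k4 v
      mul_mem' := fun {a b} ha hb v hv => by rw [k3, hb v hv, ha v hv]
      inv_mem' := fun {a} ha v hv => by
        conv_lhs => rw [← ha v hv, ← k3, inv_mul_cancel, k4] }
  have : A.Normal := ⟨fun a ha g v hv => by
    rw [k3, k3, ha _ ((k2 _ _).trans hv), ← k3, mul_inv_cancel, k4]⟩
  have hA : IsPGroup 2 A := fun a => ⟨1, Subtype.ext (Subtype.ext (Subtype.ext
    (Matrix.toLin'.injective (LinearMap.ext fun v => ?_))))⟩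
  · refine fstar_eq_pCore_iff.2 fun g hg => le_pCore hA fun v hv => ?_
    have h1 : ∀ l, l ≠ j → ∀ k, g.1.1 k l = if k = l then 1 else 0 := fun l hl k => by
      have h3 : SpecialLinearGroup.transvection hl (1 : F) ∈ C :=
        Subgroup.mem_centralizer_singleton_iff.2 (Subtype.ext (by
          change transvection l j 1 * t.1 = t.1 * transvection l j 1
          rw [ht]
          simp only [transvection, mul_add, add_mul, mul_one, one_mul,
            single_mul_single_of_ne _ _ _ _ hij.symm, single_mul_single_of_ne _ _ _ _ hl.symm]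
          abel))
      have h4 := hg ⟨_, h3⟩ (le_pCore hA fun v hv => by
        change transvection l j 1 *ᵥ v = v
        simp [transvection, add_mulVec, single_mulVec, hv])
      have := (k0 l g.1.1 (congrArg (fun x : C => x.1.1) h4).symm).1 k
      rwa [k1, Pi.single_eq_same] at this
    ext k
    rw [mulVec, dotProduct, Finset.sum_eq_single k]
    · by_cases h : k = j
      · rw [h, hv, mul_zero]
      · rw [h1 k h, if_pos rfl, one_mul]
    · intro l _ hl
      by_cases h : l = j
      · rw [h, hv, mul_zero]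
      · rw [h1 l h, if_neg hl.symm, zero_mul]
    · simp
  · have h1 := a.2 (a.1.1.1 *ᵥ v - v) (by rw [Pi.sub_apply, k2, sub_self])
    rw [mulVec_sub, sub_eq_iff_eq_add, sub_add_eq_add_sub, ← two_smul F, h2, zero_smul, zero_sub,
      ← k3] at h1
    refine (show (a.1 ^ 2 ^ 1).1.1 *ᵥ v = _ by rw [pow_one, sq, h1]).trans ?_
    rw [← zero_sub, ← zero_smul F v, ← h2, two_smul, add_sub_cancel_right]
    exact (k4 v).symm

end Cfsg.Agent.S1339
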