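import Cfsg.Statements.S1340
import Cfsg.Agent.Lib.Lin.CentInv
import Cfsg.Agent.Lib.Lin.CFormFin
import Cfsg.Agent.Lib.Lin.H22Embed

set_option autoImplicit false
open Cfsg

namespace Cfsg.Agent.S1340

open CA.CentInv CA.Comp CA.Quasi Matrix in
/-- Let F be a finite field of odd order and n ≥ 3 with (n, |F|) ≠ (3, 3). Then GL(n, F) has a non-central involution t such that C(t) / O(C(t)) has a component. -/
theorem result {F : Type*} [Field F] [Fintype F] [DecidableEq F] (hF : Odd (Fintype.card F)) (n : ℕ) (hn : 3 ≤ n) (h33 : ¬ (n = 3 ∧ Fintype.card F = 3)) : ∃ t : Matrix.GeneralLinearGroup (Fin n) F, orderOf t = 2 ∧ t ∉ Subgroup.center (Matrix.GeneralLinearGroup (Fin n) F) ∧ Cfsg.HasComponent (↥(Subgroup.centralizer ({t} : Set (Matrix.GeneralLinearGroup (Fin n) F))) ⧸ Cfsg.oddCore ↥(Subgroup.centralizer ({t} : Set (Matrix.GeneralLinearGroup (Fin n) F)))) := by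
  have h2 : (2 : F) ≠ 0 := CA.CForm.two_ne_zero_iff_odd.2 hF
  have h3 : (-1 : F) ≠ 1 := fun h => h2 (by linear_combination -h)
  obtain ⟨m, rfl⟩ : ∃ m, n = m + 1 := ⟨n - 1, by omega⟩
  have : Nonempty (Fin m) := ⟨⟨0, by omega⟩⟩
  have hm : 3 ≤ m ∨ ∃ a : F, a ≠ 0 ∧ a ^ 2 ≠ 1 := by
    refine or_iff_not_imp_left.2 fun h => by_contra fun H => ?_
    push Not at H
    have h4 : (Finset.univ : Finset F) ⊆ {0, 1, -1} := fun a _ => by
      by_cases ha : a = 0
      · simp [ha]
      · rcases mul_self_eq_one_iff.1 ((sq a).symm.trans (H a ha)) with h | h <;> simp [h]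
    have h5 := (Finset.card_le_card h4).trans Finset.card_le_three
    have h6 := Fintype.one_lt_card (α := F)
    rw [Finset.card_univ] at h5
    obtain ⟨k, hk⟩ := hF
    omega
  let t : GL (Fin (m + 1)) F := bG (GeneralLinearGroup.scalar _ (-1), 1)
  have h4 : t.1 = bm (scalar _ (-1), 1) := rfl
  have h5 := range_bG h3 h4
  have h6 : t ∉ Subgroup.center (GL (Fin (m + 1)) F) := fun h => by
    obtain ⟨a, ha⟩ := GeneralLinearGroup.mem_center_iff_val_mem_range_scalar.1 h
    have := bm_inj ((bm_scalar a).trans (ha.trans h4))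
    have h7 : a = -1 := scalar_inj.1 (congrArg Prod.fst this)
    exact h3 (h7.symm.trans (congrArg Prod.snd this))
  refine ⟨t, orderOf_eq_prime ?_ fun h => h6 (h ▸ Subgroup.one_mem _), h6, ?_⟩
  · rw [← map_pow, Prod.pow_mk, ← map_pow]
    exact (congrArg bG (by simp)).trans (map_one bG)
  let K := (GeneralLinearGroup.det : GL (Fin m) F →* Fˣ).ker
  have hK : IsQuasisimple K := qs_ker (by omega) hm
  have e : K ≃* K.prod (⊥ : Subgroup Fˣ) :=
    MulEquiv.prodUnique.symm.trans (Subgroup.prodEquiv K ⊥).symm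
  have h7 : IsComponent (K.prod (⊥ : Subgroup Fˣ)) :=
    ⟨Subgroup.Normal.isSubnormal inferInstance, qs_of_equiv hK e⟩
  have h8 : Cp ((K.prod ⊥).map bG) (Subgroup.centralizer {t}) := by
    rw [← h5, MonoidHom.range_eq_map]
    exact (Cp.top_iff.2 h7).map_of_injective bG_inj
  refine hasComponent_quot h8.comp ?_
  rw [Nat.card_congr (Subgroup.subgroupOfEquivOfLe h8.le).toEquiv,
    Subgroup.card_map_of_injective bG_inj, ← Nat.card_congr e.toEquiv,
    ← Nat.card_congr CA.SLnCard.slEquivKer.toEquiv]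
  obtain ⟨k, rfl⟩ : ∃ k, m = 2 + k := ⟨m - 2, by omega⟩
  have h9 : orderOf (CA.H22Embed.blockSL 2 k F (-1)) = 2 := by
    rw [orderOf_injective _ (CA.H22Embed.blockSL_injective 2 k)]
    exact orderOf_eq_prime (by simp) fun h => h3 (by
      simpa using congrFun (congrFun (congrArg Subtype.val h) 0) 0)
  exact h9.symm.dvd.trans (orderOf_dvd_natCard _)

end Cfsg.Agent.S1340
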