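import Cfsg.Statements.S1589
import Cfsg.Agent.Lib.Spor.M24Max
import Cfsg.Agent.S1565

set_option autoImplicit false
open scoped Pointwise
open Cfsg

namespace Cfsg.Agent.S1589

open Cfsg CA.NatBits CA.OrbBfs CA.CGroup CA.CGConstr CA.CGParts CA.CGCert CA.CGRank CA.CGDec CA.Perm24 CA.Golay
open CA.M24Core CA.M24Sub CA.M24Tools MulAction
open scoped Pointwise
open CA.M24St2 CA.M24Syl CA.M24Cls CA.CGIso CA.CGLin CA.CGLin2 CA.M24Iso CA.CGNorm
set_option maxRecDepth 100000
open CA.M24Max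

theorem cardH {H : Subgroup M24} {i n : ℕ} (hi : H.index = i) (h : 244823040 = i * n) (h0 : 0 < i) : Nat.card H = n := by
  have h1 := H.index_mul_card
  rw [hi, card_M24, h] at h1
  exact Nat.eq_of_mul_eq_mul_left h0 h1

theorem std {H P : Subgroup M24} {p a m : ℕ} (hp : p.Prime) (hP : Nat.card P = p ^ a) (hK : 244823040 = p ^ a * m)
    (hm : ¬ p ∣ m) {n : ℕ} (hn : Nat.card H = n) (h : p ^ a ∣ n) : ∃ k H', ConjTo k H H' ∧ P ≤ H' ∧ Nat.card H' = n := by
  obtain ⟨k, -, H', -, h1, h2⟩ := exists_conj_ge hp le_top hP (card_top.trans hK) hm le_top (hn ▸ h)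
  exact ⟨k, H', h1, h2, h1.card_eq.trans hn⟩

theorem back {X : Type*} [MulAction M24 X] {k : M24} {H H' : Subgroup M24} (h : ConjTo k H H') {x : X}
    (e : H' = stabilizer M24 x) : H = stabilizer M24 (k⁻¹ • x) := eq_of_conj h (e ▸ conj_inv_stab k x)

theorem two {H : Subgroup M24} (hP : P24 ≤ H) : H ≤ stabilizer M24 (ds O0) ∨ orbit H (none : GolayPt) = ds 16777215 := by
  obtain ⟨m, hm, h1, h2⟩ := orb_cases (N := 0 * Nat.card H + Nat.card H) (st24c3.inn.mono hP) (by omega)
    [(0, 8536111), (4, 8241104)] none 24 (no24 _) [O0, 16777215] (by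
      rw [Bool.and_eq_true, allL_iff]
      refine ⟨by decide +kernel, fun ys hys => ?_⟩
      have := (by decide +kernel : ∀ ys ∈ [(0, 8536111), (4, 8241104)].sublists, (Nat.ble (Nat.succ (orL ys)) (2 ^ 24) &&
        (!(tb (orL ys) (gix none)) || anyL [O0, 16777215] (Nat.beq (orL ys)))) = true) ys hys
      simp only [force_eq, Bool.and_eq_true, Bool.or_eq_true] at this ⊢
      tauto)
  simp only [List.mem_cons, List.not_mem_nil, or_false] at hm
  rcases hm with rfl | rfl
  · exact Or.inl h1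
  · exact Or.inr h2

theorem inR {H : Subgroup M24} (hP : P24 ≤ H) : mG.In gR (H ⊓ stabilizer M24 (none : GolayPt)) :=
  stR.inn.mono (inf_le_inf_right _ hP)

theorem inPJ {H : Subgroup M24} (hP : P24 ≤ H) {l : List ℕ} (hl : mG.Ok l)
    (e : H ⊓ stabilizer M24 (none : GolayPt) = mG.gen l) : mG.In (g24c3 ++ l) H :=
  in_append (st24c3.inn.mono hP) (hl.in_gen.mono (e.ge.trans inf_le_left))

theorem oct {H : Subgroup M24} (hP : P24 ≤ H) (hN : Nat.card H = 322560) : H = stabilizer M24 (ds O0) :=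
  (two hP).elim (fun h => eq_of_St stO h hN) fun h => absurd (card_tr (n := 13440) hN h) (c13440 inf_le_right (inR hP))

/-- a sextet -/
def Sx : List ℕ := [43, 297984, 1053440, 2162768, 4726912, 8536068]

theorem Sx_mem : dss Sx ∈ sextets := dss_mem_sextets (by decide) rfl (by decide +kernel)

theorem sex {H : Subgroup M24} (hP : P24 ≤ H) (hN : Nat.card H = 138240) : H = stabilizer M24 (dss Sx) := by
  rcases two hP with h | h
  · have h1 := Subgroup.card_dvd_of_le h
    rw [hN, stO.card] at h1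
    exact absurd h1 (by decide)
  rcases c5760 inf_le_right (inR hP) (card_tr (n := 5760) hN h) with e | e
  · have h1 := inPJ hP stX20.ok e
    refine Subgroup.eq_of_le_of_card_ge ((gen_eq_of_lowM h1 [(0, [[9, 5, 1, 11, 4], [5, 11, 8, 11, 0, 5, 9]]), (2, [[0, 0, 0], [3, 1, 3, 3, 0, 2], [3, 0, 0, 0, 3, 0, 2]]), (4, [[3, 4, 4, 1, 4], [3, 5, 2, 0, 3], [2, 0, 3]]), (7, [[1, 1, 1, 1, 1, 4, 1]]), (1, [])] hN (by decide +kernel)).ge.trans
      (inS0 (mSS 6) h1.ok (sSS (l := Sx)) (by decide +kernel)).gen_le) ((card_stab_sextet Sx_mem).trans hN.symm).le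
  · have h1 := le_card_of_lowM (inPJ hP stY.ok e) [(4, [[1, 11, 11, 1, 6, 6], [1, 11, 4, 8, 4, 11, 7, 5, 1]]), (6, [[0, 3, 3, 0, 2, 1, 3], [2, 2, 0, 0, 0, 0, 2]]), (7, [[1, 3, 0, 2, 1, 2, 0, 3, 3, 1], [0, 3, 1, 3, 1, 1, 2, 1]]), (8, [[1, 3, 3, 0, 3], [3, 3], [1, 3, 0, 2, 1]]), (0, [])] (N := 322560) (by decide +kernel)
    omega

theorem no253 {H : Subgroup M24} (hP : P24 ≤ H) : Nat.card H ≠ 967680 := fun hN => by
  rcases two hP with h | h
  · have h1 := Subgroup.card_le_of_le h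
    rw [hN, stO.card] at h1
    omega
  rcases c40320 inf_le_right (inR hP) (card_tr (n := 40320) hN h) with e | e
  · have h1 := inPJ hP stX16.ok e
    have h2 := (gen_eq_of_lowM (inS0 mSub h1.ok (sS (m := O0) (by decide)) (by decide +kernel))
      [(4, [[1, 2, 4, 4, 0, 9], [7, 1, 6, 1]]), (6, [[2], [0, 0, 3, 1, 3, 0, 2, 0, 2, 0, 3, 0], [2, 1, 2, 0]]), (7, [[3, 4, 1, 2, 5, 1, 5], [3, 5, 0, 3]]), (8, [[0, 2, 0, 3, 1, 2], [0, 3, 1, 3, 0, 2, 0], [2, 0, 2, 1, 1]]), (0, [])] stO.card (by decide +kernel)).ge.trans h1.gen_le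
    rcases h2.eq_or_lt with h3 | h3
    · rw [← h3, stO.card] at hN; omega
    · rw [(Cfsg.Agent.S1565.result _ O0_mem).2 _ h3, card_top] at hN; omega
  · have h1 := le_card_of_lowM (inPJ hP stX21.ok e) [(0, [[2, 4, 4, 0, 9], [5, 1, 6, 1]]), (1, [[1, 1, 3, 1, 3, 1], [3]]), (2, [[0, 0, 2], [2, 2]]), (3, [[1, 1, 3, 1], [1, 3, 0, 2, 0, 0, 3, 1, 1, 1]]), (4, [])] (N := 5100480) (by decide +kernel)
    omega

theorem fix_of {H : Subgroup M24} {a : GolayPt} {m : ℕ} (h : orbit H a = ds m) (h' : ∀ q, tb m (gix q) = true → q = a) :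
    H ≤ stabilizer M24 a := fun g hg => h' _ (mem_ds'.1 (h.le (mem_orbit_sub.2 ⟨g, hg, rfl⟩)))

theorem duad {H : Subgroup M24} (hP : mG.gen [c11] ≤ H) (hN : Nat.card H = 887040) : H = stabilizer M24 (ds 8388609) := by
  obtain ⟨m, hm, h1, h2⟩ := orb_cases (in11.ok.in_gen.mono hP) hN [(0, 1), (1, 340830), (5, 8047776), (23, 8388608)] none 24
    (no24 _) [8388608, 8388609, 8729438, 16436384, 16777215] (by decide +kernel)
  simp only [List.mem_cons, List.not_mem_nil, or_false] at hm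
  rcases hm with rfl | rfl | rfl | rfl | rfl
  · have h3 := Subgroup.card_dvd_of_le (fix_of h2 (by decide +kernel))
    rw [hN, st23.card] at h3
    exact absurd h3 (by decide)
  · exact (eq_of_St stD2 (le_inf le_top h1) hN).trans (top_inf_eq _)
  · exact absurd (by rw [hN]; decide) (no7 (by rw [card_ds (by norm_num)]; decide +kernel) h1)
  · exact absurd (by rw [hN]; decide) (no7 (by rw [card_ds (by norm_num)]; decide +kernel) h1)
  have h3 := card_tr (n := 36960) hN h2
  have h4 : mG.gen [c11] ≤ H ⊓ stabilizer M24 (none : GolayPt) := le_inf hP (in11.gen_le.trans inf_le_left)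
  obtain ⟨m, hm, h5, h6⟩ := orb_cases (in11.ok.in_gen.mono h4) h3 [(0, 1), (1, 340830), (5, 8047776), (23, 8388608)]
    (some 0) 23 (no23 inf_le_right 0) [1, 340831, 8047777] (by decide +kernel)
  simp only [List.mem_cons, List.not_mem_nil, or_false] at hm
  rcases hm with rfl | rfl | rfl
  · exact absurd h3 (not_card (le_inf inf_le_right (fix_of h6 (by decide +kernel))) h4).2.2
  · exact absurd (by rw [h3]; decide) (no7 (by rw [card_ds (by norm_num)]; decide +kernel) h5)
  · exact absurd (by rw [h3]; decide) (no7 (by rw [card_ds (by norm_num)]; decide +kernel) h5)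

/-- Subgroups of the group of the length-24 code of index 759, 276 and 1771 are exactly the octad, duad and sextet stabilisers, and no subgroup has index 253. -/
theorem result : (∀ H : Subgroup ↥Cfsg.M24, H.index = 759 → ∃ o ∈ Cfsg.octads, H = MulAction.stabilizer Cfsg.M24 o) ∧ (∀ H : Subgroup ↥Cfsg.M24, H.index = 276 → ∃ s : Finset Cfsg.GolayPt, s.card = 2 ∧ H = MulAction.stabilizer Cfsg.M24 s) ∧ (∀ H : Subgroup ↥Cfsg.M24, H.index = 1771 → ∃ S ∈ Cfsg.sextets, H = MulAction.stabilizer Cfsg.M24 S) ∧ ∀ H : Subgroup ↥Cfsg.M24, H.index ≠ 253 := by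
  have card11 : Nat.card (mG.gen [c11]) = 11 ^ 1 := nrm11.1
  have card2 : Nat.card P24 = 2 ^ 10 := st24c3.card
  refine ⟨fun H h => ?_, fun H h => ?_, fun H h => ?_, fun H h => ?_⟩
  · obtain ⟨k, H', h1, h2, h3⟩ := std Nat.prime_two card2 (m := 239085) (by norm_num) (by norm_num)
      (cardH h (n := 322560) (by norm_num) (by norm_num)) (by norm_num)
    exact ⟨_, (smul_mem_octads _).2 O0_mem, back h1 (oct h2 h3)⟩
  · obtain ⟨k, H', h1, h2, h3⟩ := std (by norm_num) card11 (m := 22256640) (by norm_num) (by norm_num)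
      (cardH h (n := 887040) (by norm_num) (by norm_num)) (by norm_num)
    exact ⟨_, by rw [Finset.card_smul_finset, card_ds (by norm_num)]; decide +kernel, back h1 (duad h2 h3)⟩
  · obtain ⟨k, H', h1, h2, h3⟩ := std Nat.prime_two card2 (m := 239085) (by norm_num) (by norm_num)
      (cardH h (n := 138240) (by norm_num) (by norm_num)) (by norm_num)
    exact ⟨_, (smul_mem_sextets _).2 Sx_mem, back h1 (sex h2 h3)⟩
  · obtain ⟨k, H', h1, h2, h3⟩ := std Nat.prime_two card2 (m := 239085) (by norm_num) (by norm_num)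
      (cardH h (n := 967680) (by norm_num) (by norm_num)) (by norm_num)
    exact no253 h2 h3

end Cfsg.Agent.S1589
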