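import Cfsg.Statements.S1606
import Cfsg.Agent.Lib.Spor.M24Max

set_option autoImplicit false
open scoped Pointwise
open Cfsg

namespace Cfsg.Agent.S1606

open Cfsg CA.NatBits CA.OrbBfs CA.CGroup CA.CGConstr CA.CGParts CA.CGCert CA.CGRank CA.CGDec CA.Perm24 CA.Golay
open CA.M24Core CA.M24Sub CA.M24Tools MulAction
open scoped Pointwise
open CA.M24St2 CA.M24Syl CA.M24Cls CA.CGIso CA.CGLin CA.CGLin2 CA.M24Iso CA.CGNorm
set_option maxRecDepth 100000
open CA.M24Max

/-- The stabiliser of two points in the group of the length-24 code has no subgroups of index 56 or 210. -/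
theorem result (p q : Cfsg.GolayPt) (hpq : p ≠ q) (H : Subgroup ↥(MulAction.stabilizer Cfsg.M24 p ⊓ MulAction.stabilizer Cfsg.M24 q)) : H.index ≠ 56 ∧ H.index ≠ 210 := by
  obtain ⟨g, h1, h2⟩ := exists_smul_pt2 hpq (p' := none) (q' := some 0) (by simp)
  have hc : ConjTo g (stabilizer M24 p ⊓ stabilizer M24 q) K22 := by
    have := (conjTo_stabilizer g p).inf (conjTo_stabilizer g q)
    rwa [h1, h2] at this
  have h3 := hc.card_eq.symm.trans st22.card
  have key : ∀ n, 11 ∣ n → Nat.card (H.map (Subgroup.subtype _)) = n → n ≠ 7920 ∧ n ≠ 2112 := fun n h4 h5 => by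
    obtain ⟨k, -, H', h6, -, h7, h8⟩ := sub_conj hc (Subgroup.map_subtype_le H) (p := 11) (a := 1) (m := 40320)
      (by norm_num) in11.gen_le nrm11.1 st22.card (by norm_num) (h5 ▸ h4)
    have h9 := not_card h6 h7
    omega
  exact ⟨fun h => (key 7920 (by norm_num) (card_of_index H h h3 (by norm_num))).1 rfl,
    fun h => (key 2112 (by norm_num) (card_of_index H h h3 (by norm_num))).2 rfl⟩

end Cfsg.Agent.S1606
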