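import Cfsg.Statements.S1609
import Cfsg.Agent.Lib.Spor.M24Max

set_option autoImplicit false
open scoped Pointwise
open Cfsg

namespace Cfsg.Agent.S1609

open Cfsg CA.NatBits CA.OrbBfs CA.CGroup CA.CGConstr CA.CGParts CA.CGCert CA.CGRank CA.CGDec CA.Perm24 CA.Golay
open CA.M24Core CA.M24Sub CA.M24Tools MulAction
open scoped Pointwise
open CA.M24St2 CA.M24Syl CA.M24Cls CA.CGIso CA.CGLin CA.CGLin2 CA.M24Iso CA.CGNorm
set_option maxRecDepth 100000
open CA.M24Max

/-- Subgroups of index 253 in the Mathieu group of degree 23 are exactly the duad stabilisers and the heptad stabilisers. -/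
theorem result (x : Cfsg.GolayPt) (H : Subgroup ↥(MulAction.stabilizer Cfsg.M24 x)) (hH : H.index = 253) : (∃ s : Finset Cfsg.GolayPt, s.card = 2 ∧ x ∉ s ∧ H = (MulAction.stabilizer Cfsg.M24 s).subgroupOf (MulAction.stabilizer Cfsg.M24 x)) ∨ ∃ o ∈ Cfsg.octads, x ∈ o ∧ H = (MulAction.stabilizer Cfsg.M24 o).subgroupOf (MulAction.stabilizer Cfsg.M24 x) := by
  obtain ⟨g, h1⟩ := exists_smul_pt x none
  have hc : ConjTo g (stabilizer M24 x) (stabilizer M24 (none : GolayPt)) := h1 ▸ conjTo_stabilizer g x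
  have h3 := card_of_index H hH (n := 40320) (hc.card_eq.symm.trans st23.card) (by norm_num)
  obtain ⟨k, hk, H', h6, h4, h7, h8⟩ := sub_conj hc (Subgroup.map_subtype_le H) (p := 2) (a := 7) (m := 79695)
    Nat.prime_two inf_le_right stR.card st23.card (by norm_num) (by rw [h3]; norm_num)
  have hx : x = (k * g)⁻¹ • none := by rw [eq_inv_smul_iff, mul_smul, h1]; exact hk
  have key : ∀ s : Finset GolayPt, H' = stabilizer M24 (none : GolayPt) ⊓ stabilizer M24 s →
      H = (stabilizer M24 ((k * g)⁻¹ • s)).subgroupOf (stabilizer M24 x) := fun s e => by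
    have h9 := eq_of_conj h4 (e ▸ (conj_inv_stab (k * g) (none : GolayPt)).inf (conj_inv_stab (k * g) s))
    rw [← hx] at h9
    rw [← Subgroup.inf_subgroupOf_left, ← h9]
    exact (Subgroup.comap_map_eq_self_of_injective (Subgroup.subtype_injective _) H).symm
  rcases c40320 h6 (stR.inn.mono h7) (h8.trans h3) with e | e
  · exact Or.inr ⟨_, (smul_mem_octads _).2 O0_mem, by
      rw [hx, Finset.smul_mem_smul_finset_iff, mem_ds']; decide +kernel, key _ (e.trans stXO.gen)⟩
  · exact Or.inl ⟨_, by rw [Finset.card_smul_finset, card_ds (by norm_num)]; decide +kernel, by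
      rw [hx, Finset.smul_mem_smul_finset_iff, mem_ds']; decide +kernel, key _ (e.trans stXD.gen)⟩

end Cfsg.Agent.S1609
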