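import Cfsg.Statements.S1628
import Cfsg.Agent.Lib.Spor.RuMin

set_option autoImplicit false
open Cfsg

namespace Cfsg.Agent.S1628

/-- The Conway–Wales lattice as stored is even with no vectors of true norm 2: stored norms are multiples of 8, never equal to 8, and the minimum over nonzero vectors is 16. -/
theorem result : (∀ x ∈ Cfsg.Spor.ruLattice, (8 : ℤ) ∣ Cfsg.Spor.ruNorm x) ∧ (∀ x ∈ Cfsg.Spor.ruLattice, Cfsg.Spor.ruNorm x ≠ 8) ∧ (∀ x ∈ Cfsg.Spor.ruLattice, x ≠ 0 → 16 ≤ Cfsg.Spor.ruNorm x) ∧ ∃ x ∈ Cfsg.Spor.ruLattice, Cfsg.Spor.ruNorm x = 16 := by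
  have key : ∀ x ∈ Cfsg.Spor.ruLattice, x ≠ 0 → 16 ≤ Cfsg.Spor.ruNorm x := by
    intro x hx h0
    by_contra hc
    rcases CA.RuMin.classify hx (by omega) with h | h
    · exact h0 h
    · have := CA.RuMin0.om_norm h; omega
  refine ⟨fun x hx => CA.RuAct.norm_dvd hx, fun x hx h => ?_, key,
    CA.RuTab.v 0, CA.RuAct.v_mem (by decide), CA.RuAct.norm_v (by decide)⟩
  by_cases h0 : x = 0
  · rw [h0] at h; simp [Cfsg.Spor.ruNorm] at h
  · have := key x hx h0; omega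

end Cfsg.Agent.S1628
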