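import Cfsg.Statements.S2063
import Cfsg.Agent.Lib.Spor.M24Cls

set_option autoImplicit false
open Cfsg

namespace Cfsg.Agent.S2063

open Cfsg CA.NatBits CA.OrbBfs CA.CGroup CA.CGConstr CA.CGParts CA.CGCert CA.CGRank CA.CGDec CA.Perm24 CA.Golay
open CA.M24Core CA.M24Sub CA.M24Tools MulAction
open scoped Pointwise
open CA.M24St2 CA.CGFus CA.M24Syl CA.M24Cls

theorem stAB : St [564732868786552881252751322922226287293424427107577823751, 564253215578550752814839554706014599649508973869762415366] (stabilizer M24 (none : GolayPt)) 10200960 :=
  stLe (inS0 mPt (ok_of (l := [564732868786552881252751322922226287293424427107577823751, 564253215578550752814839554706014599649508973869762415366]) (by decide +kernel)) (sPt (none)) (by decide +kernel)) st23.card.le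
    [(0, [[1, 1, 2, 2, 0, 3, 0], [3, 1, 1, 1, 3, 1, 3, 1, 3]]), (1, [[1, 2, 2, 0, 0, 3, 3, 1, 1, 1, 3], [2, 1, 1, 2, 0, 2, 0, 3, 1]]), (2, [[1, 3, 0, 0, 3, 0, 3], [3, 3, 3, 1, 2, 1, 2]]), (3, [[1, 1, 2, 2, 2, 1, 2, 2], [1, 1, 2, 1, 3, 3], [1, 3, 3, 1, 3, 0, 2, 0, 2]]), (4, [[1, 4, 1, 2, 1, 4]]), (5, [])] (by decide +kernel)

theorem clsA : Cls (stabilizer M24 (none : GolayPt)) 5 [564732868786552881252751322922226287293424427107577823751] :=
  cls_of st23.card (l := [564058632694686309107303334698849145974964750728531809536]) (inS0 mPt (ok_of (l := [564058632694686309107303334698849145974964750728531809536]) (by decide +kernel)) (sPt (none)) (by decide +kernel))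
    (lH := [564058632694686309107303334698849145974964750728531809536]) (inS0 mPt (ok_of (l := [564058632694686309107303334698849145974964750728531809536]) (by decide +kernel)) (sPt (none)) (by decide +kernel))
    (lP := [564732868786552881252751322922226287293424427107577823751]) (inS0 mPt (ok_of (l := [564732868786552881252751322922226287293424427107577823751]) (by decide +kernel)) (sPt (none)) (by decide +kernel)) (p := 5) (by norm_num) 1 1 2040192
    [([], 564732868786552881252751322922226287293424427107577823751)] (by decide +kernel)

set_option maxRecDepth 100000 in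
theorem clsB : Cls (stabilizer M24 (none : GolayPt)) 2 [564253215578550752814839554706014599649508973869762415366] :=
  cls_of st23.card (l := g23) st23.inn
    (lH := g23c3) (st23c3.inn.mono le23)
    (lP := g23c3) (st23c3.inn.mono le23) (p := 2) (by norm_num) 7 1 79695
    [([2, 2, 2, 2, 2, 0, 0, 0, 3, 0, 2], 564253215578550752814839554706014599649508973869762415366), ([0, 3, 0, 0, 0, 0, 0], 564253215578550752814839554706014599649508973869762415366), ([1, 1, 3, 0, 2, 2, 1, 3, 1, 1, 3, 1, 3], 564253215578550752814839554706014599649508973869762415366), ([3, 0, 2, 2, 0, 3], 564253215578550752814839554706014599649508973869762415366), ([2, 1, 1, 3, 1, 2, 2, 2], 564253215578550752814839554706014599649508973869762415366), ([3, 0, 3, 3, 3, 1], 564253215578550752814839554706014599649508973869762415366), ([3, 3, 0, 0, 0, 3, 0, 3, 0, 3, 1], 564253215578550752814839554706014599649508973869762415366)] (by decide +kernel)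

set_option maxRecDepth 100000 in

/-- The outer automorphism group of the Mathieu group M₂₃ (the stabiliser of a point in the automorphism group of the length-24 binary code) is trivial: every automorphism is inner. -/
theorem result : Nat.card (Cfsg.Out ↥Cfsg.Spor.M23) = 1 := by
  exact outM stAB stAB le_rfl Subgroup.le_normalizer
    (fun g => cent_eq_one st23.inn [[0, 2], [1, 1, 3], [1, 3, 1, 3, 0, 0, 3]] [12599300, 8397316, 12593152] [2, 9, 11, 13, 14, 22, 23, 0, 1, 3, 4, 5, 6, 7, 8, 10, 12, 15, 16, 17, 18, 19, 20, 21] (by decide +kernel))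
    [([0, 2, 1, 2], 5), ([0, 0, 2, 1, 2, 0, 2], 5), ([0, 0, 2, 0, 2, 1, 2, 1, 1, 2], 3)] [(564732868786552881252751322922226287293424427107577823751, [[], [0], [1], [2], [3], [0, 0], [2, 0], [3, 0], [2, 1], [2, 2], [3, 3], [3, 0, 0], [2, 2, 0], [3, 3, 0], [2, 2, 1]])] [564253215578550752814839554706014599649508973869762415366]
    (lL' := [565018704835209540272438974764095927658882996287940465921, 565398099025070366161516362712433141125720919621902273806]) (inS0 mPt (ok_of (l := [565018704835209540272438974764095927658882996287940465921, 565398099025070366161516362712433141125720919621902273806]) (by decide +kernel)) (sPt (none)) (by decide +kernel))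
    (fun a ha => clsA.aut (fun e => absurd ((R_eq_iff ha R_one).1 e) (by decide +kernel))
      ((R_eq_iff (R_pow ha 5) R_one).2 (by decide +kernel)))
    (fun b hb => clsB.aut (fun e => absurd ((R_eq_iff hb R_one).1 e) (by decide +kernel))
      ((R_eq_iff (R_pow hb 2) R_one).2 (by decide +kernel))) 1 (by decide +kernel) (eqv map23)

end Cfsg.Agent.S2063
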