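import Cfsg.Statements.S1643
import Cfsg.Agent.Lib.Spor.M24Max
import Cfsg.Agent.S2063

set_option autoImplicit false
open scoped Pointwise
open Cfsg

namespace Cfsg.Agent.S1643

open Cfsg CA.NatBits CA.OrbBfs CA.CGroup CA.CGConstr CA.CGParts CA.CGCert CA.CGRank CA.CGDec CA.Perm24 CA.Golay
open CA.M24Core CA.M24Sub CA.M24Tools MulAction
open scoped Pointwise
open CA.M24St2 CA.M24Syl CA.M24Cls CA.CGIso CA.CGLin CA.CGLin2 CA.M24Iso CA.CGNorm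
set_option maxRecDepth 100000
open CA.M24Max

/-- multiplication by 2 -/
def cB : ℕ := 565976893111451123696566449653690447839358251609054511616

/-- the stabiliser of a point -/
abbrev K23 : Subgroup M24 := stabilizer M24 (none : GolayPt)

theorem inB : mG.In [cAlpha, cB] K23 := inS0 mPt (ok_of (by decide +kernel)) (sPt none) (by decide +kernel)

theorem inA : mG.In [cAlpha] K23 := in_of_subset inB (by decide +kernel)

theorem okL : mG.Ok [cAlpha, cGamma, cB] := ok_of (by decide +kernel)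

theorem nrm : Nat.card (mG.gen [cAlpha]) = 23 ∧ ∀ g ∈ mG.gen [cAlpha, cB], ∀ x ∈ mG.gen [cAlpha],
    g * x * g⁻¹ ∈ mG.gen [cAlpha] := nrmOK_spec (cj := cj24) R_cj R_inj inA.ok (by decide +kernel)

theorem cardL : Nat.card (mG.gen [cAlpha, cGamma, cB]) = 6072 :=
  (nrmOK_spec (cj := cj24) (l := []) R_cj R_inj okL (by decide +kernel)).1

theorem cardB : Nat.card (mG.gen [cAlpha, cB]) = 253 :=
  (nrmOK_spec (cj := cj24) (l := []) R_cj R_inj inB.ok (by decide +kernel)).1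

theorem cent : Nat.card ↥(K23 ⊓ Subgroup.centralizer (mG.gen [cAlpha] : Set M24)) ≤ 23 := by
  have h1 := card_le_orbit_mul (K23 ⊓ Subgroup.centralizer (mG.gen [cAlpha] : Set M24)) (some 0 : GolayPt)
    (Y := {none}ᶜ) (Set.toFinite _) fun g hg h => by
      cases smul_left_cancel g ((Set.mem_singleton_iff.1 h).trans (show g • (none : GolayPt) = none from hg.1).symm)
  obtain ⟨t, n, h2, h3⟩ := orb_spec (A := mPt) inA.ok (sPt (some 0))
    (k := fun t _ => allLt 24 fun i => !(tb 8388607 i) || t.mem i) (by decide +kernel)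
  have h4 : K23 ⊓ Subgroup.centralizer (mG.gen [cAlpha] : Set M24) ⊓ stabilizer M24 (some 0 : GolayPt) = ⊥ :=
    eq_bot_iff.2 fun g hg => eq_one_of_ubd [23] (m := 8388607) (by norm_num) (by decide +kernel) fun p hp => by
      have h5 := allLt_iff.1 h2 _ (gE.ix_lt p)
      rw [show gE.ix p = gix p from rfl, mem_ds'.1 hp] at h5
      obtain ⟨y, hy, rfl⟩ := mem_orbit_sub.1 ((h3.mem_iff (sPt p)).2 h5)
      rw [← mul_smul, ← hg.1.2 y hy, mul_smul, show g • (some 0 : GolayPt) = some 0 from hg.2]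
  rw [h4, Subgroup.card_bot, Set.ncard_compl, Set.ncard_singleton, Nat.card_eq_fintype_card (α := GolayPt)] at h1
  exact h1

theorem card_norm {D : Type*} [Group D] [Finite D] {p : ℕ} [hp : Fact p.Prime] {P K : Subgroup D} (hP : Nat.card P = p) :
    Nat.card ↥(K ⊓ Subgroup.normalizer (P : Set D)) ≤ (p - 1) * Nat.card ↥(K ⊓ Subgroup.centralizer (P : Set D)) := by
  have := isCyclic_of_prime_card hP
  rw [card_ker_mul (P.normalizerMonoidHom.comp (Subgroup.inclusion (inf_le_right : K ⊓ _ ≤ _)))]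
  refine Nat.mul_le_mul ?_ ?_
  · rw [← Nat.totient_prime hp.out, ← hP, ← IsCyclic.card_mulAut]
    exact Subgroup.card_le_card_group _
  · rw [← Subgroup.card_map_of_injective (Subgroup.subtype_injective _)]
    refine Subgroup.card_le_of_le ?_
    rintro _ ⟨g, hg, rfl⟩
    have h1 : Subgroup.inclusion (inf_le_right : K ⊓ _ ≤ _) g ∈ P.normalizerMonoidHom.ker := hg
    rw [Subgroup.normalizerMonoidHom_ker] at h1
    exact ⟨g.2.1, h1⟩

theorem cnt {H : Subgroup M24} (hK : H ≤ K23) (hP : mG.gen [cAlpha] ≤ H) :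
    ∃ n, n % 23 = 1 ∧ Nat.card H = n * Nat.card ↥(H ⊓ Subgroup.normalizer (mG.gen [cAlpha] : Set M24)) :=
  have := Fact.mk (by norm_num : Nat.Prime 23)
  sylow_count (p := 23) (a := 1) hP nrm.1 fun h => by
    have h3 := h.trans (Subgroup.card_dvd_of_le hK)
    rw [st23.card] at h3
    exact absurd h3 (by decide)

theorem eqB : mG.gen [cAlpha, cB] = K23 ⊓ Subgroup.normalizer (mG.gen [cAlpha] : Set M24) := by
  have := Fact.mk (by norm_num : Nat.Prime 23)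
  have h0 : mG.gen [cAlpha, cB] ≤ K23 ⊓ Subgroup.normalizer (mG.gen [cAlpha] : Set M24) :=
    le_inf inB.gen_le (le_normalizer_of nrm.2)
  have h1 := card_norm (K := K23) nrm.1
  have h2 := cent
  obtain ⟨n, h3, h4⟩ := cnt le_rfl inA.gen_le
  obtain ⟨m, h5⟩ := Subgroup.card_dvd_of_le h0
  refine Subgroup.eq_of_le_of_card_ge h0 ?_
  rw [st23.card] at h4
  rw [cardB] at h5 ⊢
  have h6 : m ≤ 2 := by omega
  rw [h5] at h4 ⊢
  interval_cases m <;> omega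

/-- involutions with certificates -/
def inv23 : List (ℕ × List (ℕ × List (List ℕ))) := [(564728745890233443715304405256862514059266425549277495561, [(0, [[2, 0, 4, 4, 1, 4, 0], [1, 4, 2, 2, 2, 4, 4, 0]]), (1, [[0, 0, 3, 1, 3, 3, 3, 1], [2, 1, 3]]), (2, [[1, 3, 1, 3, 0, 0, 2, 2], [0, 0, 2]]), (3, [[0, 3, 1, 3, 3, 3, 0, 3], [3, 0, 2], [0, 3, 0, 2, 0, 0, 0, 0, 2, 2, 2, 0]]), (4, [[0, 5, 3, 5, 1]]), (5, [])]), (564629603465519485707825638432010176216988723326425041936, [(0, [[1, 5, 3, 0, 4, 4, 1, 4, 0], [1, 3, 4, 2, 2, 4, 4, 0]]), (1, [[0, 2, 0, 3, 0], [2, 1, 2, 1, 3]]), (2, [[0, 3, 1, 1, 2, 2], [3, 3, 1, 3, 0, 0, 2, 2]]), (3, [[0, 3, 0, 3, 1, 1, 1], [1, 2, 0, 3, 0, 2, 0, 2, 0, 0], [1, 2, 0, 0, 3, 1]]), (4, [[1, 3, 3, 3, 4]]), (5, [])]), (564155556605965657669612296306511625329206504611953116681, [(0, [[0, 4, 4, 1, 4, 0], [1, 4, 2, 2, 2, 4, 4, 0]]), (1, [[1, 3, 3, 1], [1, 1,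 1, 3]]), (2, [[2, 0, 0, 2, 2], [3, 1, 2, 0, 2, 0]]), (3, [[1, 3, 1, 3, 0, 3], [1, 1, 3, 0, 3, 0], [1, 1, 3, 3, 1, 3, 3]]), (4, [[1, 4, 3, 3, 0, 4]]), (5, [])]), (564540931232493009034034574846228742401152298848819937801, [(0, [[1, 4, 3, 0, 4, 4, 1, 4, 0], [1, 4, 2, 2, 2, 4, 4, 0]]), (1, [[3, 0, 3, 3, 3, 1], [0, 3]]), (2, [[2, 1, 1, 3, 3, 3, 0], [1, 2, 2, 1, 2, 2, 0, 3]]), (3, [[1, 3, 1, 2, 0], [1, 2, 2, 1, 1, 3, 1, 2, 1, 1, 2, 1, 1], [0, 3, 3, 0, 0, 0, 2, 1, 1, 1, 3, 3]]), (4, [[4, 4, 4, 2]]), (5, [])]), (566066288787587207093991341325848732356070581944769121556, [(0, [[0, 4, 4, 1, 4, 0], [3, 1, 2, 2, 4, 4, 0]]), (1, [[3, 1, 1, 1, 1, 1, 1, 3], [1, 1]]), (2, [[1, 1, 1, 2, 2, 0], [2, 1]]), (3, [[0, 2, 1, 3], [1, 1, 3, 1, 1, 2], [3, 1, 1, 3, 0, 2]]), (4, [[0, 4, 1, 3, 1, 2]]), (5, [])]), (564444777578270848926406777880538382740704271256164700416, [(0, [[0, 4, 4, 1, 4, 0], [4,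 4, 0]]), (1, [[0, 0, 0, 2, 2, 1, 1], [3, 1, 1, 3, 0, 2]]), (2, [[3, 1, 2, 0, 0], [1, 1, 2, 2, 2, 1]]), (3, [[2, 2, 1], [1, 3, 1, 3], [0, 0, 3, 0, 0, 2]]), (4, [[0, 5, 3, 5, 2]]), (5, [])]), (566073412163761431440710640064887047479340941612639456516, [(0, [[1, 4, 3, 0, 4, 4, 1, 4, 0], [3, 1, 4, 2, 2, 4, 4, 0]]), (1, [[1, 3, 0, 3, 0], [1, 3, 3, 1, 2, 1, 3]]), (2, [[0, 2, 1, 2, 2], [3, 1, 3, 0, 0, 2, 2]]), (3, [[1, 1, 3, 1, 1, 2], [0, 2, 2, 1, 2, 2, 0, 0, 3], [3, 0, 3, 3, 3]]), (4, [[1, 2, 2, 5, 2, 1, 1]]), (5, [])]), (565493488239986500995722799542798324125175233247107481856, [(0, [[0, 4, 4, 1, 4, 0], [4, 4, 0]]), (1, [[2, 2, 0, 3, 0], [2, 2, 1, 1, 2, 1, 3]]), (2, [[1, 3, 0, 2, 2, 0], [0, 2, 2, 0, 2]]), (3, [[1, 1, 2, 2, 1], [1, 3, 3, 1, 3], [2, 1, 3, 0, 0, 2]]), (4, [[0, 5, 2]]), (5, [])]), (563962856136677189527896281442533267349336824669511221526, [(0, [[3, 3, 0, 4, 4, 1,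 4, 0], [1, 2, 2, 2, 4, 4, 0]]), (1, [[2, 2, 1, 1], [0, 3, 3, 3, 0, 2]]), (2, [[1, 3, 0, 2, 0], [0, 2, 2, 2, 0]]), (3, [[3, 0, 0, 3, 1, 3], [3, 3, 0, 2, 1, 2, 0], [2, 0, 3, 0, 2, 0, 3, 0]]), (4, [[5, 3, 1, 4, 3, 3]]), (5, [])]), (565783090726907820092384891552559871695794442023026557186, [(0, [[1, 3, 4, 3, 0, 4, 4, 1, 4, 0], [2, 4, 2, 2, 2, 4, 4, 0]]), (1, [[3, 0, 2, 1, 1, 1, 1, 3], [1]]), (2, [[1, 3, 1, 3, 0, 0, 2, 2], [0, 2]]), (3, [[1, 2, 0, 3, 0, 3, 1, 3], [1, 3, 0, 3, 0, 2, 1, 2, 0], [1, 2, 0, 0, 2, 0, 3, 0]]), (4, [[3, 1, 1, 4, 3, 3]]), (5, [])]), (565878500413997159993005888183024698641148621635004334341, [(0, [[1, 2, 1, 3, 0, 4, 4, 1, 4, 0], [2, 2, 2, 4, 4, 0]]), (1, [[2, 1, 1, 2, 2, 1, 1], [2, 1, 3, 0, 2]]), (2, [[1, 2], [1, 3, 3, 1, 2, 1]]), (3, [[2, 2, 1, 2, 0, 0, 3], [2, 2, 1, 3, 1], [1, 3, 0, 3, 3, 1, 3, 3]]), (4, [[2, 1, 3, 0, 3, 5]]), (5, [])]), (565783464871326980214413740952700140239366706012820341511,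 [(0, [[1, 5, 3, 0, 4, 4, 1, 4, 0], [1, 2, 2, 4, 4, 0]]), (1, [[0, 2, 2, 2, 1, 1], [3, 0, 2]]), (2, [[2, 1, 3, 0, 2], [3, 0, 2]]), (3, [[2, 1, 3, 3, 1, 3], [0], [2, 1, 3, 0, 3, 0, 2]]), (4, [[4, 2, 4, 4]]), (5, [])]), (566073426693032483783949930655909794071113287572226904581, [(0, [[2, 4, 3, 0, 4, 4, 1, 4, 0], [2, 2, 2, 4, 4, 0]]), (1, [[3, 3, 3, 3, 3, 1], [3, 1, 1, 3]]), (2, [[1, 1, 3, 1, 2, 0, 0], [1, 3, 3, 1, 3, 1, 3, 1, 2, 2, 1]]), (3, [[3, 3, 0, 3, 1], [1, 3, 1, 1], [0, 3, 0, 3, 0]]), (4, [[3, 3, 1, 4, 3, 3, 5]]), (5, [])]), (565779349282694042419826637866463783547345679632142962176, [(0, [[0, 4, 4, 1, 4, 0], [4, 4, 0]]), (1, [[3, 0, 3, 3, 3, 1], [2, 1, 3]]), (2, [[1, 1, 2, 2, 2, 1, 1, 3, 3, 3, 0], [1, 1, 2, 2, 0, 3]]), (3, [[2, 2, 1, 3, 3, 0], [1, 3, 1, 3, 1], [1, 2, 0, 2, 2, 1, 2, 2]]), (4, [[1, 3, 3, 1, 5, 1, 1, 5, 0]]), (5, [])]), (564348996612653508010670520443107562611235156490336667401,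 [(0, [[3, 3, 3, 0, 4, 4, 1, 4, 0], [1, 4, 2, 2, 2, 4, 4, 0]]), (1, [[3, 0, 0, 3, 0], [0, 2, 2, 1, 2, 1, 3]]), (2, [[3, 1, 1, 3], [0, 3, 3, 0, 2, 0, 2]]), (3, [[1, 3, 1, 2, 2, 0, 0, 0, 2, 1], [1, 2], [1, 1, 1, 2, 2, 0, 0, 3]]), (4, [[0, 3, 3, 1]]), (5, [])])]

theorem maxB {H : Subgroup M24} (hK : H ≤ K23) (hB : mG.gen [cAlpha, cB] ≤ H) : H = mG.gen [cAlpha, cB] ∨ H = K23 := by
  by_cases h2 : 2 ∣ Nat.card H
  · obtain ⟨u, hu, ho⟩ := exists_order Nat.prime_two h2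
    obtain ⟨c, h3, h4, b, hb, rfl⟩ := cls_cov (cs := inv23.map Prod.fst) st23 Cfsg.Agent.S2063.clsB (by norm_num) inB.ok
      (by decide +kernel) (hK hu) ho
    exact Or.inr (Subgroup.eq_of_le_of_card_ge hK (st23.card.trans_le
      (big_of (inB.ok.in_gen.mono hB) inv23 (by decide +kernel) h3 h4 hb hu)))
  · obtain ⟨n, h3, h4⟩ := cnt hK ((CG.gen_mono fun c hc => List.mem_singleton.1 hc ▸ List.mem_cons_self).trans hB)
    rw [← inf_eq_left.2 hK, inf_assoc, ← eqB, inf_eq_left.2 hK, inf_eq_right.2 hB, cardB] at h4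
    have h5 := Subgroup.card_dvd_of_le hK
    rw [st23.card, h4, show 10200960 = 40320 * 253 by norm_num, Nat.mul_dvd_mul_iff_right (by norm_num)] at h5
    have h6 := (by decide +kernel : ∀ n ∈ Nat.divisors 40320, n % 23 = 1 → n % 2 = 1 → n = 1) n
      (Nat.mem_divisors.2 ⟨h5, by norm_num⟩) h3
      (Nat.odd_iff.1 (Nat.not_even_iff_odd.1 fun h7 => h2 (h4 ▸ (even_iff_two_dvd.1 h7).mul_right _)))
    rw [h6, one_mul] at h4
    exact Or.inl (Subgroup.eq_of_le_of_card_ge hB (h4.trans cardB.symm).le).symm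

theorem covB : mG.gen [cAlpha, cB] ⋖ K23 :=
  ⟨inB.gen_le.lt_of_ne fun e => absurd (cardB.symm.trans ((congrArg (fun K : Subgroup M24 => Nat.card K) e).trans st23.card))
      (by norm_num),
    fun _ h h' => (maxB h'.le h.le).elim h.ne' h'.ne⟩

theorem leL : mG.gen [cAlpha, cB] ≤ mG.gen [cAlpha, cGamma, cB] := (in_of_subset okL.in_gen (by decide +kernel)).gen_le

theorem maxL : IsCoatom (mG.gen [cAlpha, cGamma, cB]) := by
  refine ⟨fun e => absurd (cardL.symm.trans (e ▸ card_top)) (by norm_num), fun H h => ?_⟩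
  rcases maxB (H := H ⊓ K23) inf_le_right (le_inf (leL.trans h.le) inB.gen_le) with e | e
  · have h1 := card_le_orbit_mul H (none : GolayPt) Set.finite_univ fun _ _ => trivial
    rw [e, cardB, Set.ncard_univ, Nat.card_eq_fintype_card (α := GolayPt)] at h1
    exact absurd (Subgroup.eq_of_le_of_card_ge h.le (cardL ▸ h1)) h.ne
  · have h1 : mG.In [cDelta] K23 := inS0 mPt (ok_of (by decide +kernel)) (sPt none) (by decide +kernel)
    exact eq_top_iff.2 (gen_g24.ge.trans (in_of_wordsM (in_append (okL.in_gen.mono h.le) (h1.mono (e.ge.trans inf_le_left)))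
      (ws := [[0], [2, 6]]) (by decide +kernel)).gen_le)

theorem rep_beta : gE.Rep 8 cB (Equiv.optionCongr (Units.mulLeft (ZMod.unitOfCoprime 2 (by norm_num : Nat.Coprime 2 23)))) :=
  Enc.rep_of (by decide +kernel) (by decide +kernel)

theorem clo {S : Set (Equiv.Perm GolayPt)} {l : List ℕ} (hl : mG.Ok l) (h0 : cB ∈ l) (h1 : ∀ g ∈ S, ∃ c ∈ l, gE.Rep 8 c g)
    (h2 : ∀ c ∈ l, c = cB ∨ ∃ g ∈ S, gE.Rep 8 c g) :
    Subgroup.closure (S ∪ {g : Equiv.Perm GolayPt | ∃ u : (ZMod 23)ˣ, IsSquare u ∧ g = Equiv.optionCongr (Units.mulLeft u)}) =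
      (mG.gen l).map M24.subtype := by
  rw [map_gen hl]
  refine le_antisymm ((Subgroup.closure_le _).2 ?_) (CG.In.gen_le fun c hc => ?_)
  · rintro g (hg | ⟨u, ⟨r, rfl⟩, rfl⟩)
    · exact Subgroup.subset_closure (h1 g hg)
    · obtain ⟨k, hk⟩ := (by decide +kernel : ∀ r : (ZMod 23)ˣ, ∃ k : Fin 11, Equiv.optionCongr (Units.mulLeft (r * r)) =
        Equiv.optionCongr (Units.mulLeft (ZMod.unitOfCoprime 2 (by norm_num : Nat.Coprime 2 23))) ^ (k : ℕ)) r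
      rw [SetLike.mem_coe, hk]
      exact pow_mem (CG.mem_gen (G := pG gE) h0 rep_beta) _
  · rcases h2 c hc with rfl | ⟨g, hg, h3⟩
    · exact ⟨_, Subgroup.subset_closure (Or.inr ⟨_, ⟨ZMod.unitOfCoprime 5 (by norm_num : Nat.Coprime 5 23), by decide +kernel⟩, rfl⟩), rep_beta⟩
    · exact ⟨g, Subgroup.subset_closure (Or.inl hg), h3⟩

/-- PSL(2, 23) = ⟨t ↦ t+1, t ↦ u t (u square), t ↦ −1/t⟩ is maximal of order 6072 in the group of the length-24 code, and its point stabiliser 23:11 (order 253) is maximal in the Mathieu group of degree 23. -/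
theorem result : (Subgroup.closure ({Equiv.optionCongr (Equiv.addRight (1 : ZMod 23)), Cfsg.projInv} ∪ {g : Equiv.Perm Cfsg.GolayPt | ∃ u : (ZMod 23)ˣ, IsSquare u ∧ g = Equiv.optionCongr (Units.mulLeft u)}) ≤ Cfsg.M24 ∧ Nat.card ↥(Subgroup.closure ({Equiv.optionCongr (Equiv.addRight (1 : ZMod 23)), Cfsg.projInv} ∪ {g : Equiv.Perm Cfsg.GolayPt | ∃ u : (ZMod 23)ˣ, IsSquare u ∧ g = Equiv.optionCongr (Units.mulLeft u)})) = 6072 ∧ IsCoatom ((Subgroup.closure ({Equiv.optionCongr (Equiv.addRight (1 : ZMod 23)), Cfsg.projInv} ∪ {g : Equiv.Perm Cfsg.GolayPt | ∃ u : (ZMod 23)ˣ, IsSquare u ∧ g = Equiv.optionCongr (Units.mulLeft u)})).subgroupOf Cfsg.M24)) ∧ (Subgroup.closure ({Equiv.optionCongr (Equiv.addRight (1 : ZMod 23))} ∪ {g : Equiv.Perm Cfsg.GolayPt | ∃ u : (ZMod 23)ˣ, IsSquare u ∧ g = Equiv.optionCongr (Units.mulLeft u)}) ≤ Cfsg.M24 ⊓ MulAction.stabilizer (Equiv.Perm Cfsg.GolayPt)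 (none : Cfsg.GolayPt) ∧ Nat.card ↥(Subgroup.closure ({Equiv.optionCongr (Equiv.addRight (1 : ZMod 23))} ∪ {g : Equiv.Perm Cfsg.GolayPt | ∃ u : (ZMod 23)ˣ, IsSquare u ∧ g = Equiv.optionCongr (Units.mulLeft u)})) = 253 ∧ IsCoatom (((Subgroup.closure ({Equiv.optionCongr (Equiv.addRight (1 : ZMod 23))} ∪ {g : Equiv.Perm Cfsg.GolayPt | ∃ u : (ZMod 23)ˣ, IsSquare u ∧ g = Equiv.optionCongr (Units.mulLeft u)})).subgroupOf Cfsg.M24).subgroupOf (MulAction.stabilizer Cfsg.M24 (none : Cfsg.GolayPt)))) := by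
  rw [clo (l := [cAlpha, cGamma, cB]) okL (by simp) (by
      rintro _ (rfl | rfl)
      exacts [⟨_, by simp, rep_alpha⟩, ⟨_, by simp, rep_gamma⟩]) (by
      simp only [List.forall_mem_cons, List.not_mem_nil, false_imp_iff, implies_true, true_or, and_true]
      exact ⟨Or.inr ⟨_, Or.inl rfl, rep_alpha⟩, Or.inr ⟨_, Or.inr rfl, rep_gamma⟩⟩),
    clo (l := [cAlpha, cB]) inB.ok (by simp) (by
      rintro _ rfl
      exact ⟨_, by simp, rep_alpha⟩) (by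
      simp only [List.forall_mem_cons, List.not_mem_nil, false_imp_iff, implies_true, true_or, and_true]
      exact Or.inr ⟨_, rfl, rep_alpha⟩),
    Subgroup.card_map_of_injective M24.subtype_injective, Subgroup.card_map_of_injective M24.subtype_injective,
    ← map_stab]
  have e : ∀ K : Subgroup M24, (K.map M24.subtype).subgroupOf M24 = K :=
    Subgroup.comap_map_eq_self_of_injective M24.subtype_injective
  rw [e, e]
  exact ⟨⟨Subgroup.map_subtype_le _, cardL, maxL⟩, Subgroup.map_mono inB.gen_le, cardB, isCoatom_subgroupOf covB⟩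

end Cfsg.Agent.S1643
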