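import Cfsg.Statements.S1702
import Cfsg.Agent.Lib.Spor.LyO
import Cfsg.Agent.Lib.Spor.LyZ

set_option autoImplicit false
open Cfsg

namespace Cfsg.Agent.S1702

/-- The presented Lyons group is simple of the expected order (that is, it is a simple group of the order of the Lyons group). -/
theorem result : Cfsg.IsLy Cfsg.Spor.Ly := by
    have hi : CA.LyO.K.index = 8835156 := CA.LyO.index CA.LyZ.z_not
    have hc : Nat.card CA.LyO.K = 5859000000 := CA.LyZ.cardH
    have hG : Nat.card Cfsg.Spor.Ly = 51765179004000000 := by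
      rw [← CA.LyO.K.card_mul_index, hi, hc]
    have : Finite Cfsg.Spor.Ly := Nat.finite_of_card_ne_zero (by rw [hG]; decide)
    have : IsSimpleGroup CA.LyO.K := CA.LyZ.simpleH
    refine ⟨CA.LyZ.simple_of CA.LyO.K hi (fun i => CA.LyO.S.p i) (fun ξ => ?_) (fun i => ?_) CA.LyO.normal_top, hG⟩
    · obtain ⟨i, h, h'⟩ := CA.LyO.all ξ
      exact ⟨⟨i, h⟩, (CA.LyO.orbit_eq i).symm ▸ h'⟩
    · rw [CA.LyO.orbit_eq]
      exact CA.LyO.cardO CA.LyZ.z_not i

end Cfsg.Agent.S1702
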