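import Cfsg.Statements.S3349
import Cfsg.Agent.Lib.Grp.PGCritical

set_option autoImplicit false
open Cfsg

namespace Cfsg.Agent.S3349

theorem ppow {Q : Type*} [Group Q] [Finite Q] {p : ℕ} (hp : p.Prime) (α : Q)
    (h : ∀ k : ℕ, (orderOf (α ^ k)).Coprime p → α ^ k = 1) : ∃ k, orderOf α = p ^ k := by
  have h0 : orderOf α ≠ 0 := (orderOf_pos α).ne'
  obtain ⟨k, m, hm, e⟩ := Nat.exists_eq_pow_mul_and_not_dvd h0 p hp.ne_one
  have ho : orderOf (α ^ p ^ k) = m := by
    rw [orderOf_pow' _ (pow_pos hp.pos k).ne', e, Nat.gcd_eq_right (Dvd.intro m rfl),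
      Nat.mul_div_cancel_left _ (pow_pos hp.pos k)]
  have := h (p ^ k) (by rw [ho]; exact ((Nat.Prime.coprime_iff_not_dvd hp).2 hm).symm)
  rw [this, orderOf_one] at ho
  exact ⟨k, by rw [e, ← ho, mul_one]⟩

/-- Let Q be a finite extraspecial p-group and α an automorphism of Q fixing every element of some maximal abelian subgroup of Q. Then the order of α is a power of p. -/
theorem result {Q : Type*} [Group Q] [Finite Q]
    (p : ℕ) [Fact p.Prime] (hQ : Cfsg.IsExtraspecial p Q) (α : MulAut Q)
    (A : Subgroup Q) (hA : IsMulCommutative A) (hmax : ∀ B : Subgroup Q, A ≤ B → IsMulCommutative B → B = A)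
    (hfix : ∀ a ∈ A, α a = a) :
    ∃ k : ℕ, orderOf α = p ^ k := by
  refine ppow Fact.out α fun k hk => ?_
  refine CA.PGCritical.eq_one_of_centralizer_le' hQ.1.1 hk (H := A) ?_ ?_
  · intro x hx
    have : IsMulCommutative (A ⊔ Subgroup.zpowers x : Subgroup Q) := by
      rw [← Subgroup.le_centralizer_iff_isMulCommutative]
      have h1 : A ≤ Subgroup.centralizer (A : Set Q) := Subgroup.le_centralizer A
      have h2 : Subgroup.zpowers x ≤ Subgroup.centralizer (A : Set Q) := Subgroup.zpowers_le.2 hx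
      have h3 : Subgroup.zpowers x ≤ Subgroup.centralizer (Subgroup.zpowers x : Set Q) := Subgroup.le_centralizer _
      refine sup_le ?_ ?_ <;> rw [Subgroup.le_centralizer_iff]
      · exact sup_le h1 h2
      · exact sup_le (Subgroup.le_centralizer_iff.1 h2) h3
    rw [← hmax _ le_sup_left this]
    exact Subgroup.mem_sup_right (Subgroup.mem_zpowers x)
  · intro x hx
    clear hk
    induction k with
    | zero => rfl
    | succ k ih => rw [pow_succ, MulAut.mul_apply, hfix x hx, ih]

end Cfsg.Agent.S3349
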