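import Cfsg.Statements.S1898
import Cfsg.Agent.Lib.Grp.PGCritical
import Cfsg.Agent.S3349

set_option autoImplicit false
open Cfsg

namespace Cfsg.Agent.S1898



/-- Let X be a finite 2-group whose derived subgroup is elementary abelian and central. Then the subgroup generated by the elements of order dividing 4 has exponent dividing 4, and every automorphism of X fixing each element of order dividing 4 has 2-power order. -/
theorem result {X : Type*} [Group X] [Finite X] (hX : IsPGroup 2 X)
    (hel : Cfsg.IsElementaryAbelian 2 (commutator X)) (hcen : commutator X ≤ Subgroup.center X) :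
    (∀ x ∈ Subgroup.closure {g : X | g ^ 4 = 1}, x ^ 4 = 1) ∧
      ∀ φ : MulAut X, (∀ g : X, g ^ 4 = 1 → φ g = g) → ∃ k : ℕ, φ ^ (2 ^ k) = 1 := by
  refine ⟨fun x hx => ?_, fun φ hφ => ?_⟩
  · induction hx using Subgroup.closure_induction with
    | mem x hx => exact hx
    | one => simp
    | inv x _ h => rw [inv_pow, h, inv_one]
    | mul x y _ _ hx hy =>
      have hc : y * x * y⁻¹ * x⁻¹ ∈ commutator X :=
        Subgroup.commutator_mem_commutator (Subgroup.mem_top y) (Subgroup.mem_top x)
      obtain ⟨c, hcd⟩ : ∃ c, c = y * x * y⁻¹ * x⁻¹ := ⟨_, rfl⟩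
      rw [← hcd] at hc
      have h2 : c * c = 1 := by rw [← pow_two]; exact hel.2 c hc
      have hz : ∀ g, Commute g c := fun g => Subgroup.mem_center_iff.1 (hcen hc) g
      have e : y * x = c * (x * y) := by rw [hcd]; group
      have e1 : Commute y (x ^ 2) := by
        show y * x ^ 2 = x ^ 2 * y
        calc y * x ^ 2 = (y * x) * x := by rw [pow_two, mul_assoc]
          _ = c * x * (y * x) := by conv_lhs => rw [e]
                                    simp only [mul_assoc]
          _ = c * (x * c) * (x * y) := by rw [e]; simp only [mul_assoc]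
          _ = x ^ 2 * y := by rw [(hz x).eq, ← mul_assoc c c, h2, pow_two]; group
      have e2 : (x * y) ^ 2 = c * (x ^ 2 * y ^ 2) := by
        calc (x * y) ^ 2 = x * (y * x) * y := by rw [pow_two]; group
          _ = (x * c) * (x * y * y) := by rw [e]; group
          _ = _ := by rw [(hz x).eq, pow_two, pow_two]; group
      have e3 : Commute (x ^ 2) (y ^ 2) := (e1.symm).pow_right 2
      calc (x * y) ^ 4 = ((x * y) ^ 2) ^ 2 := by rw [← pow_mul]
        _ = 1 := by
          rw [e2, (hz _).symm.mul_pow, e3.mul_pow, ← pow_mul, ← pow_mul, hx, hy, pow_two, h2]; simp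
  · obtain ⟨k, hk⟩ := Cfsg.Agent.S3349.ppow Nat.prime_two φ (fun k hk => by
      have hf : ∀ g : X, g ^ 4 = 1 → (φ ^ k) g = g := by
        intro g hg
        clear hk
        induction k with
        | zero => rfl
        | succ k ih => rw [pow_succ, MulAut.mul_apply, hφ g hg, ih]
      refine CA.PGCritical.eq_one_of_omega hX hk (fun x hx => hf x ?_) (fun _ => hf)
      rw [show 4 = 2 * 2 from rfl, pow_mul, hx, one_pow])
    exact ⟨k, by rw [← hk, pow_orderOf_eq_one]⟩

end Cfsg.Agent.S1898
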