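import Cfsg.Statements.S1910
import Cfsg.Agent.Lib.Loc.AmbChar
import Cfsg.Agent.Lib.Loc.LBal2
import Cfsg.Agent.Lib.Grp.H13Inv
-- import your own Cfsg.Agent.* helpers here

set_option autoImplicit false
open Cfsg

namespace Cfsg.Agent.S1910

section Aux
open Subgroup Cfsg CA CA.Amb CA.AmbSyl CA.AmbCore CA.AmbRes CA.AmbChar CA.AmbFs CA.AmbSpe CA.AmbIso CA.LBal2
open scoped commutatorElement

variable {G : Type*} [Group G] [Finite G] {Q A T S : Subgroup G} {g : G}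

theorem tight (hQ : IsTightlyEmbedded Q) (h : G) (hA : IsPGroup 2 A) (h1 : A ≠ ⊥) (l : A ≤ cj h Q) :
    𝐍 A ≤ 𝐍 (cj h Q) := fun x hx => by
  by_contra n
  have := hQ.2 (h⁻¹ * x * h) fun k => n (by rw [← cj_normalizer]; exact mem_cj.2 k)
  refine Nat.not_even_iff_odd.2 this (even_iff_two_dvd.2 (dvd_card_of_le (isPGroup_cj hA h⁻¹)
    (fun e => h1 (cj_eq_bot.1 e)) (le_inf (le_cj_iff.1 l) ?_)))
  rw [← le_cj_iff, cj_cj, show h * (h⁻¹ * x * h) = x * h by group, ← cj_cj]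
  exact (cj_eq_self hx).ge.trans (cj_mono x l)

theorem tight_cj (hQ : IsTightlyEmbedded Q) (h : G) : IsTightlyEmbedded (cj h Q) := ⟨by rw [card_cj]; exact hQ.1,
  fun x hx => Nat.not_even_iff_odd.1 fun e => by
    obtain ⟨t, ht, o⟩ := H13Inv.exists_involution_of_even e
    have := hQ.2 (h⁻¹ * x * h) fun k => hx (by rw [← cj_normalizer]; exact mem_cj.2 k)
    refine H13Inv.odd_card_iff.1 this (h⁻¹ * t * h⁻¹⁻¹) ⟨by rw [inv_inv]; exact mem_cj.1 ht.1, mem_cj.2 ?_⟩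
      (by rw [orderOf_conj', o])
    have := mem_cj.1 (mem_cj.1 ht.2)
    rwa [show (h⁻¹ * x * h)⁻¹ * (h⁻¹ * t * h⁻¹⁻¹) * (h⁻¹ * x * h) = h⁻¹ * (x⁻¹ * t * x) * h by group]⟩

theorem inf_bot (hQ : IsTightlyEmbedded Q) (hg : g ∉ 𝐍 Q) (hT : IsPGroup 2 T) (l : T ≤ cj g Q) : T ⊓ Q = ⊥ :=
  eq_bot_of_not_dvd (hT.to_le inf_le_left) (le_inf inf_le_right (inf_le_left.trans l))
    (hQ.2 g hg).not_two_dvd_nat

theorem emb (hQ : IsTightlyEmbedded Q) (hg : g ∉ 𝐍 Q) (hT : SylIn 2 T (cj g Q ⊓ 𝐍 Q)) (l : T ≤ S)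
    (hS : SylIn 2 S (Q ⊔ T)) : ∃ f : T →* ↥(S ⊓ 𝐍 T ⊓ Q), Function.Injective f := by
  have n : T ≤ 𝐍 Q := hT.le.trans inf_le_right
  have i := inf_bot hQ hg hT.pg (hT.le.trans inf_le_left)
  have d : S = T ⊔ (Q ⊓ S) := by rw [← sup_inf_of_norm n l, sup_comm, inf_eq_right.2 hS.le]
  have SN' : S ≤ 𝐍 Q := hS.le.trans (sup_le le_normalizer n)
  have e : S ⊓ cj g Q = T := hT.max (hS.pg.to_le inf_le_left) (le_inf l (hT.le.trans inf_le_left))
    (le_inf inf_le_right (inf_le_left.trans SN'))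
  rcases (inf_le_left : S ⊓ 𝐍 T ≤ S).eq_or_lt with h | h
  · obtain ⟨k, -, hk⟩ := (hS.inf_norm le_sup_left (sup_le le_normalizer n)).exists_conj_le
      (isPGroup_cj hT.pg g⁻¹) (le_cj_iff.1 (hT.le.trans inf_le_left))
    rw [cj_cj] at hk
    rw [h]
    exact ⟨(inclusion hk).comp (cjEquiv _ T).toMonoidHom, (inclusion_injective hk).comp (cjEquiv _ T).injective⟩
  obtain ⟨s₀, h1, h2, h3⟩ := exists_mem_normalizer_not_mem hS.pg h
  obtain ⟨t, ht, s, hs, rfl⟩ := (mem_sup_of_norm n).1 ((d.le.trans (sup_le_sup_left inf_le_left _)) h1)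
  have tU : T ≤ S ⊓ 𝐍 T := le_inf l le_normalizer
  have sS : s ∈ S := (mul_mem_cancel_left (l ht)).1 h1
  have sN : s ∈ 𝐍 (S ⊓ 𝐍 T) := (mul_mem_cancel_left (le_normalizer (tU ht))).1 h2
  have m : ∀ x : T, (x : G)⁻¹ * (s * x * s⁻¹) ∈ S ⊓ 𝐍 T ⊓ Q := fun x => mem_inf.2 ⟨mul_mem (inv_mem (tU x.2))
    (conj_mem_of_mem_normalizer sN (tU x.2)), by
      rw [show (x : G)⁻¹ * (s * x * s⁻¹) = (x : G)⁻¹ * s * x * s⁻¹ by group]
      exact mul_mem (inv_conj_mem_of_mem_normalizer (n x.2) hs) (inv_mem hs)⟩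
  have c : S ⊓ 𝐍 T ⊓ Q ≤ 𝐂 T := commutator_eq_bot_iff'.1 (le_bot_iff.1 (i ▸ le_inf
    (commutator_le_left_of_norm (inf_le_left.trans inf_le_right))
    ((commutator_mono le_rfl inf_le_right).trans (commutator_le_right_of_norm n))))
  refine ⟨MonoidHom.mk' (fun x => ⟨_, m x⟩) fun x y => Subtype.ext ?_, (injective_iff_map_eq_one _).2 fun x hx => ?_⟩
  · have := mem_centralizer_sub.1 (c (m x)) _ (inv_mem y.2)
    show ((x : G) * y)⁻¹ * (s * (x * y) * s⁻¹) = (x : G)⁻¹ * (s * x * s⁻¹) * ((y : G)⁻¹ * (s * y * s⁻¹))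
    rw [← mul_assoc _ (y : G)⁻¹, ← this]
    group
  · by_contra ne
    have k : s * x * s⁻¹ = x := (inv_mul_eq_one.1 (congrArg Subtype.val hx)).symm
    have a : s ∈ 𝐍 (cj g Q) := tight hQ g (isPGroup_zpowers_of_mem hT.pg x.2)
      (by rw [Ne, zpowers_eq_bot]; exact fun e => ne (Subtype.ext e)) (zle (hT.le x.2).1)
      (norm_of_centralizer (Amb.centralizer_zpowers (x : G)).ge (mem_cent_iff.2 k))
    refine h3 (mul_mem (tU ht) (mem_inf.2 ⟨sS, ?_⟩))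
    rw [← e]
    exact norm_inf (norm_of_le (zle sS)) (zle a) (mem_zpowers s)

end Aux

/-- Let Q be a tightly embedded subgroup of a finite group G, g an element outside N_G(Q), T a nontrivial Sylow 2-subgroup of Q^g ∩ N_G(Q), and S a Sylow 2-subgroup of QT containing T. Then T ∩ Q = 1, and N_S(T) is the direct product of T and N_S(T) ∩ Q, with N_S(T) ∩ Q isomorphic to T. -/
theorem result {G : Type*} [Group G] [Finite G] (Q : Subgroup G) (hQ : Cfsg.IsTightlyEmbedded Q)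
    (g : G) (hg : g ∉ Subgroup.normalizer (Q : Set G))
    (T : Subgroup G) (hT1 : T ≠ ⊥) (hT : T ≤ Q.map (MulAut.conj g).toMonoidHom ⊓ Subgroup.normalizer (Q : Set G))
    (hTsyl : IsPGroup 2 T ∧ ¬ 2 ∣ T.relIndex (Q.map (MulAut.conj g).toMonoidHom ⊓ Subgroup.normalizer (Q : Set G)))
    (S : Subgroup G) (hTS : T ≤ S) (hS : S ≤ Q ⊔ T) (hSsyl : IsPGroup 2 S ∧ ¬ 2 ∣ S.relIndex (Q ⊔ T)) :
    T ⊓ Q = ⊥ ∧
      T ⊓ (S ⊓ Subgroup.normalizer (T : Set G) ⊓ Q) = ⊥ ∧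
      ⁅T, S ⊓ Subgroup.normalizer (T : Set G) ⊓ Q⁆ = ⊥ ∧
      T ⊔ (S ⊓ Subgroup.normalizer (T : Set G) ⊓ Q) = S ⊓ Subgroup.normalizer (T : Set G) ∧
      Nonempty (↥(S ⊓ Subgroup.normalizer (T : Set G) ⊓ Q) ≃* T) := by
  open Subgroup Cfsg CA CA.Amb CA.AmbSyl CA.AmbCore CA.AmbRes CA.AmbChar CA.AmbFs CA.AmbSpe CA.AmbIso CA.LBal2 in
  open scoped commutatorElement in
  (
    have t : SylIn 2 T (cj g Q ⊓ 𝐍 Q) := sylIn_iff.2 ⟨hT, hTsyl⟩
    have s : SylIn 2 S (Q ⊔ T) := sylIn_iff.2 ⟨hS, hSsyl⟩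
    have n : T ≤ 𝐍 Q := hT.trans inf_le_right
    have i := inf_bot hQ hg t.pg (hT.trans inf_le_left)
    have tU : T ≤ S ⊓ 𝐍 T := le_inf hTS le_normalizer
    refine ⟨i, le_bot_iff.1 (i ▸ inf_le_inf_left _ inf_le_right), le_bot_iff.1 (i ▸ le_inf
      (commutator_le_left_of_norm (inf_le_left.trans inf_le_right))
      ((commutator_mono le_rfl inf_le_right).trans (commutator_le_right_of_norm n))), ?_, ?_⟩
    · rw [inf_comm _ Q, ← sup_inf_of_norm n tU, sup_comm, inf_eq_right.2 (inf_le_left.trans hS)]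
    obtain ⟨f, hf⟩ := emb hQ hg t hTS s
    refine ⟨(MulEquiv.ofBijective f ((Nat.bijective_iff_injective_and_card f).2 ⟨hf, le_antisymm
      (Nat.card_le_card_of_injective f hf) ?_⟩)).symm⟩
    have e : cj g⁻¹ (cj g Q) = Q := cj_inv_cj g Q
    obtain ⟨R, hR, l⟩ := exists_sylIn_ge (Q := S ⊓ 𝐍 T ⊓ Q) (L := cj g⁻¹ (cj g Q) ⊓ 𝐍 (cj g Q))
      (s.pg.to_le (inf_le_left.trans inf_le_left)) (le_inf (inf_le_right.trans e.ge)
        (inf_le_left.trans (inf_le_right.trans (tight hQ g t.pg hT1 (hT.trans inf_le_left)))))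
    obtain ⟨U, hU, m⟩ := exists_sylIn_ge hR.pg (le_sup_right (a := cj g Q))
    obtain ⟨h, hh⟩ := emb (tight_cj hQ g) (fun k => hg (by
      have := conj_mem_cj (g := g⁻¹).2 (inv_mem k)
      rwa [cj_normalizer, e, inv_inv, inv_mul_cancel, one_mul] at this)) hR m hU
    refine (card_le_of_le l).trans ((Nat.card_le_card_of_injective h hh).trans
      (t.card_le (hU.pg.to_le (inf_le_left.trans inf_le_left)) (le_inf inf_le_right ?_)))
    have r : R ≠ ⊥ := fun k => by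
      have := Nat.card_le_card_of_injective f hf
      rw [le_bot_iff.1 (l.trans k.le), card_bot] at this
      exact hT1 (eq_bot_of_card_le T this)
    exact inf_le_left.trans (inf_le_right.trans ((tight hQ 1 hR.pg r (hR.le.trans (inf_le_left.trans
      (by rw [e, cj_one])))).trans (by rw [cj_one]))))

end Cfsg.Agent.S1910
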