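import Cfsg.Statements.S1921
import Cfsg.Agent.Lib.Loc.AmbChar
import Cfsg.Agent.Lib.Loc.LBal2
-- import your own Cfsg.Agent.* helpers here

set_option autoImplicit false
open Cfsg

namespace Cfsg.Agent.S1921

/-- Let a be an involution of a finite group H and L a component of H with a L a⁻¹ ≠ L; put M = ⟨L, aLa⁻¹⟩ and let J be the subgroup generated by the elements x · a x a⁻¹ with x ∈ L (the diagonal). Then every element of M outside J·Z(M) generates M together with J. -/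
theorem result {H : Type*} [Group H] [Finite H] (a : H) (ha : orderOf a = 2) (L : Subgroup H) (hL : Cfsg.IsComponent L)
    (hLa : L.map (MulAut.conj a).toMonoidHom ≠ L) (x : H) (hxM : x ∈ L ⊔ L.map (MulAut.conj a).toMonoidHom)
    (hxJ : x ∉ Subgroup.closure {y : H | ∃ l ∈ L, y = l * (a * l * a⁻¹)} ⊔
      ((L ⊔ L.map (MulAut.conj a).toMonoidHom) ⊓ Subgroup.centralizer ((L ⊔ L.map (MulAut.conj a).toMonoidHom : Subgroup H) : Set H))) :
    Subgroup.closure {y : H | ∃ l ∈ L, y = l * (a * l * a⁻¹)} ⊔ Subgroup.zpowers x = L ⊔ L.map (MulAut.conj a).toMonoidHom := by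
  open Subgroup Cfsg CA CA.Amb CA.AmbSyl CA.AmbCore CA.AmbRes CA.AmbChar CA.AmbFs CA.AmbSpe CA.AmbIso CA.LBal CA.LBal2 CA.Comp CA.PComp in
  open scoped commutatorElement in
  (
    have a2 : a * a = 1 := by rw [← pow_two, ← ha, pow_orderOf_eq_one]
    have c : cj a L ≤ 𝐂 L := comp_le_centralizer_of_ne (comp_map_conj hL a) hL hLa
    set J := Subgroup.closure {y : H | ∃ l ∈ L, y = l * (a * l * a⁻¹)} with hJ
    have m : ∀ l ∈ L, l * (a * l * a⁻¹) ∈ J := fun l hl => subset_closure ⟨l, hl, rfl⟩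
    obtain ⟨u, hu, v, hv, rfl⟩ := (mem_sup_of_norm (norm_of_centralizer (cent_symm c))).1 hxM
    obtain ⟨l, hl, rfl⟩ := mem_cj'.1 hv
    have e : u * (a * l * a⁻¹) = (u * l⁻¹) * (l * (a * l * a⁻¹)) := by group
    set X := J ⊔ zpowers (u * (a * l * a⁻¹))
    have y : u * l⁻¹ ∈ X := (mul_mem_cancel_right (mem_sup_left (m l hl))).1 (e ▸ mem_sup_right (mem_zpowers _))
    have yL : u * l⁻¹ ∈ L := mul_mem hu (inv_mem hl)
    have n : L ≤ 𝐍 (X ⊓ L) := le_normalizer_iff_cj.2 fun d hd => cj_le_iff'.2 fun w hw => by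
      refine mem_inf.2 ⟨?_, mul_mem (mul_mem hd hw.2) (inv_mem hd)⟩
      have := c (conj_mem_cj.2 hd) w hw.2
      have e2 : d * w * d⁻¹ = d * (a * d * a⁻¹) * w * (d * (a * d * a⁻¹))⁻¹ := by
        rw [mul_assoc d (a * d * a⁻¹), ← this]; group
      rw [e2]
      have : d * (a * d * a⁻¹) ∈ X := mem_sup_left (m d hd)
      exact mul_mem (mul_mem this hw.1) (inv_mem this)
    have LX : L ≤ X := by
      refine ((Quasi.qs_of_le_normalizer hL.2 inf_le_right n).resolve_right fun h => hxJ ?_).ge.trans inf_le_left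
      rw [e]
      refine mul_mem (mem_sup_right ⟨mem_sup_left yL, ?_⟩) (mem_sup_left (m l hl))
      rw [Amb.centralizer_sup]
      exact ⟨h ⟨y, yL⟩, cent_symm c yL⟩
    refine le_antisymm (sup_le ((closure_le _).2 ?_) (zle hxM)) (sup_le LX (cj_le_iff'.2 fun d hd => ?_))
    · rintro _ ⟨d, hd, rfl⟩
      exact mul_mem (mem_sup_left hd) (mem_sup_right (conj_mem_cj.2 hd))
    · exact (mul_mem_cancel_left (LX hd)).1 (mem_sup_left (m d hd)))

end Cfsg.Agent.S1921
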