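import Cfsg.Statements.S1922
import Cfsg.Agent.Lib.Loc.AmbChar
import Cfsg.Agent.Lib.Loc.LBal2
import Cfsg.Agent.Lib.Grp.H13Inv
-- import your own Cfsg.Agent.* helpers here

set_option autoImplicit false
open Cfsg

namespace Cfsg.Agent.S1922

section Aux
open Subgroup Cfsg CA CA.Amb CA.AmbSyl CA.AmbCore CA.AmbRes CA.AmbChar CA.AmbFs CA.AmbSpe CA.AmbIso CA.LBal2
open scoped commutatorElement

theorem odd_of_inv {α : Type*} [Finite α] (f : α → α) (h : ∀ x, f (f x) = x) (a : α) (ha : ∀ x, f x = x ↔ x = a) :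
    Odd (Nat.card α) := by
  classical
  have := Fintype.ofFinite α
  have e := Equiv.Perm.card_fixedPoints_modEq (f := (f : Function.End α)) (p := 2) (n := 1) (funext h)
  have : Unique (Function.fixedPoints (f : Function.End α)) := ⟨⟨⟨a, (ha a).2 rfl⟩⟩, fun x => Subtype.ext ((ha x).1 x.2)⟩
  rw [Fintype.card_unique (α := Function.fixedPoints _)] at e
  rw [Nat.card_eq_fintype_card, Nat.odd_iff]
  exact e

end Aux

/-- Let z be an involution of a finite group G and H a proper subgroup such that z lies in gHg⁻¹ exactly when g ∈ H. Then the following are equivalent: (1) for every conjugate t ≠ z of z commuting with z, the product zt lies in gHg⁻¹ exactly when g ∈ H; (2) z lies in the centre of some Sylow 2-subgroup of G, and for every conjugate t ≠ z of z commuting with z, the centralizer of zt is contained in H. -/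
theorem result {G : Type*} [Group G] [Finite G] (z : G) (hz : orderOf z = 2) (H : Subgroup G) (hH : H ≠ ⊤)
    (h0 : ∀ g : G, z ∈ H.map (MulAut.conj g).toMonoidHom ↔ g ∈ H) :
    (∀ t : G, IsConj z t → t ≠ z → t * z = z * t → ∀ g : G, z * t ∈ H.map (MulAut.conj g).toMonoidHom ↔ g ∈ H) ↔
      ((∃ P : Sylow 2 G, z ∈ (Subgroup.center ↥(P : Subgroup G)).map (P : Subgroup G).subtype) ∧
        ∀ t : G, IsConj z t → t ≠ z → t * z = z * t → Subgroup.centralizer ({z * t} : Set G) ≤ H) := by
  open Subgroup Cfsg CA CA.Amb CA.AmbSyl CA.AmbCore CA.AmbRes CA.AmbChar CA.AmbFs CA.AmbSpe CA.AmbIso CA.LBal2 in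
  open scoped commutatorElement in
  (
    have z2 := H13Inv.mul_self hz
    have zH : z ∈ H := by simpa using (h0 1).2 (one_mem H)
    have cH : centralizer {z} ≤ H := fun g hg => (h0 g).1 (by
      rw [← mem_cent_iff.1 hg]; exact conj_mem_cj.2 zH)
    refine ⟨fun h => ⟨?_, fun t a b c g hg => (h t a b c g).1 ?_⟩, fun ⟨⟨P, hP⟩, h⟩ t a b c g => ⟨fun k => ?_, fun k => ?_⟩⟩
    rotate_left
    · rw [← mem_cent_iff.1 hg]
      exact conj_mem_cj.2 (mul_mem zH (cH (mem_cs.2 c)))
    · rw [map_subtype_center] at hP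
      have t2 := H13Inv.mul_self ((H13Inv.orderOf_eq_of_isConj a).symm.trans hz)
      have u2 : (z * t) ^ 2 ^ 1 = 1 := by
        rw [pow_one, pow_two, ← mul_assoc, mul_assoc z t, c, ← mul_assoc, z2, one_mul, t2]
      obtain ⟨x, hx, l⟩ := (sylIn_of_le P ((le_cent_of_mem hP.2).trans cH)).exists_conj_le
        (isPGroup_cj (isPGroup_zpowers u2) g⁻¹) (by rw [cj_zpowers, inv_inv]; exact zle (mem_cj.1 k))
      have m : z ∈ cj (x * g⁻¹) H := by
        refine cj_mono _ (h t a b c) ?_
        rw [← Amb.centralizer_zpowers, cj_centralizer, ← cj_cj]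
        exact centralizer_anti l hP.2
      exact inv_mem_iff.1 ((mul_mem_cancel_left hx).1 ((h0 _).1 m))
    · rw [show H.map (MulAut.conj g).toMonoidHom = H from cj_eq_self_of_mem k]
      exact mul_mem zH (cH (mem_cs.2 c))
    obtain ⟨g, hg⟩ : ∃ g, g ∉ H := by
      by_contra! k
      exact hH (eq_top_iff.2 fun g _ => k g)
    have sq : ∀ {a}, IsConj z a → a * a = 1 := fun k =>
      H13Inv.mul_self ((H13Inv.orderOf_eq_of_isConj k).symm.trans hz)
    have U : ∀ a b, IsConj z a → IsConj z b → a ≠ b → a * b = b * a → ∀ x, a * b ∈ H → a * b ∈ cj x H → x ∈ H := by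
      intro a b ha hb ne c x h1 h2
      obtain ⟨k, rfl⟩ := isConj_iff.1 ha
      have := h (k⁻¹ * b * k) (hb.trans (isConj_iff.2 ⟨k⁻¹, by rw [inv_inv]⟩)) (fun e => ne (by rw [← e]; group))
        (by calc k⁻¹ * b * k * z = k⁻¹ * (b * (k * z * k⁻¹)) * k := by group
          _ = _ := by rw [← c]; group)
      have e : z * (k⁻¹ * b * k) = k⁻¹ * (k * z * k⁻¹ * b) * k⁻¹⁻¹ := by group
      rw [e] at this
      have a1 := (this k⁻¹).1 (conj_mem_cj.2 h1)
      have a2 := (this (k⁻¹ * x)).1 (by
        show _ ∈ cj _ H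
        rw [← cj_cj]; exact conj_mem_cj.2 h2)
      exact (mul_mem_cancel_left a1).1 a2
    let s := g * z * g⁻¹
    have cs : IsConj z s := isConj_iff.2 ⟨g, rfl⟩
    have can : ∀ x ∈ H, ∃ i ∈ closure ({s, x * z * x⁻¹} : Set G), IsConj z i ∧ i * s * i⁻¹ = x * z * x⁻¹ := by
      intro x hx
      set t := x * z * x⁻¹
      have ct : IsConj z t := isConj_iff.2 ⟨x, rfl⟩
      have a := sq cs
      have b := sq ct
      have o : Odd (orderOf (s * t)) := Nat.not_even_iff_odd.1 fun e => by
        have c1 := H13Inv.commute_pow_half_left a b e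
        have c2 := H13Inv.commute_pow_half_right a b e
        have o := H13Inv.orderOf_pow_half e
        have d : IsConj z (s * (s * t) ^ (orderOf (s * t) / 2)) := by
          rcases H13Inv.conj_mul_half a b e with ⟨-, k, hk⟩ | ⟨-, k, hk⟩
          · exact cs.trans (isConj_iff.2 ⟨_, hk⟩)
          · exact ct.trans (isConj_iff.2 ⟨_, hk⟩)
        generalize (s * t) ^ (orderOf (s * t) / 2) = u at c1 c2 o d
        have e' : s * (s * u) = u := by rw [← mul_assoc, a, one_mul]
        refine hg (U s _ cs d (fun e => H13Inv.ne_one o (left_eq_mul.1 e)) (by rw [e', ← c1.eq, mul_assoc, a, mul_one])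
          g ?_ ?_) <;> rw [e']
        · refine cj_le_of_mem cH hx ?_
          rw [cj_centralizer_singleton]; exact mem_cs.2 c2
        · refine cj_mono g cH ?_
          rw [cj_centralizer_singleton]; exact mem_cs.2 c1
      obtain ⟨k, hk⟩ := H13Inv.exists_conj_of_odd a b o
      refine ⟨(s * t) ^ k * s, mul_mem (H13Inv.zpow_prod_mem s t k) (subset_closure (by simp)), ?_, by
        refine Eq.trans ?_ hk; group⟩
      refine cs.trans (H13Inv.isConj_of_odd a (H13Inv.zpow_mul_sq a b k) ?_)
      rw [← mul_assoc, ← inv_inv s, inv_inv, show s * (s * t) ^ k * s = s * (s * t) ^ k * s⁻¹ by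
        rw [H13Inv.inv_eq ((H13Inv.orderOf_eq_of_isConj cs).symm.trans hz)], orderOf_conj']
      exact o.of_dvd_nat (orderOf_dvd_of_mem_zpowers (zpow_mem_zpowers _ k))
    have iv : ∀ {a}, IsConj z a → a⁻¹ = a := fun k => inv_eq_of_mul_eq_one_right (sq k)
    have uq : ∀ i j, IsConj z i → IsConj z j → i * g ∈ H → j * g ∈ H → i * j = j * i → i = j := by
      intro i j hi hj h1 h2 c
      by_contra ne
      refine hg (U i j hi hj ne c g ?_ (mem_cj.2 ?_))
      · have := mul_mem h1 (inv_mem h2)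
        rwa [mul_inv_rev, iv hj, mul_assoc, mul_inv_cancel_left] at this
      · have := mul_mem (inv_mem h1) h2
        rwa [mul_inv_rev, iv hi, mul_assoc g⁻¹ i, ← mul_assoc i, ← mul_assoc] at this
    have mem : ∀ x ∈ H, ∀ i, i * s * i⁻¹ = x * z * x⁻¹ → x⁻¹ * (i * g) ∈ centralizer {z} := fun x hx i hi =>
      mem_cent_iff.2 (by
        calc x⁻¹ * (i * g) * z * (x⁻¹ * (i * g))⁻¹ = x⁻¹ * (i * s * i⁻¹) * x := by simp only [s]; group
          _ = z := by rw [hi]; group)
    let E := {i : G // IsConj z i ∧ i * g ∈ H}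
    let φ : E → H ⧸ (centralizer {z}).subgroupOf H := fun i => ((⟨_, i.2.2⟩ : H) : H ⧸ _)
    have bij : Function.Bijective φ := by
      refine ⟨fun i j e => Subtype.ext ?_, fun q => ?_⟩
      · have key : ∀ j : E, φ i = φ j → ∀ k ∈ closure ({s, i * g * z * (i * g)⁻¹} : Set G), IsConj z k →
            k * s * k⁻¹ = i * g * z * (i * g)⁻¹ → k = j := fun j e k h1 h2 h3 => by
          have a : ((i : G) * g)⁻¹ * (j * g) ∈ centralizer {z} := mem_subgroupOf.1 (QuotientGroup.eq.1 e)
          have b := mem _ i.2.2 k h3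
          have c : k * j ∈ centralizer {s} := by
            have := conj_mem_cj (g := g).2 (mul_mem (inv_mem b) a)
            rw [cj_centralizer_singleton] at this
            rwa [show g * ((((i : G) * g)⁻¹ * (k * g))⁻¹ * ((i * g)⁻¹ * (j * g))) * g⁻¹ = k⁻¹ * j by group, iv h2] at this
          have d : k * j ∈ centralizer {i * g * z * (i * g)⁻¹} := by
            have := conj_mem_cj (g := k).2 (inv_mem c)
            rwa [cj_centralizer_singleton, h3, mul_inv_rev k, iv j.2.1, iv h2, mul_assoc k, mul_assoc (j : G), sq h2,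
              mul_one] at this
          have f : closure ({s, i * g * z * (i * g)⁻¹} : Set G) ≤ centralizer {k * j} := by
            rw [closure_le]
            rintro _ (rfl | rfl)
            exacts [mem_cent_symm c, mem_cent_symm d]
          refine uq k j h2 j.2.1 ((mul_mem_cancel_left (inv_mem i.2.2)).1 (cH b)) j.2.2 ?_
          have e : (j : G) = k * j * k := by rw [← mem_cs.1 (f h1), ← mul_assoc, sq h2, one_mul]
          calc k * j = k * (k * j * k) := by rw [← e]
            _ = _ := by rw [← mul_assoc, ← mul_assoc, sq h2, one_mul]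
        obtain ⟨k, h1, h2, h3⟩ := can _ i.2.2
        exact (key i rfl k h1 h2 h3).symm.trans (key j e k h1 h2 h3)
      · obtain ⟨x, rfl⟩ := QuotientGroup.mk_surjective q
        obtain ⟨k, -, h2, h3⟩ := can _ x.2
        have b := mem _ x.2 k h3
        exact ⟨⟨k, h2, (mul_mem_cancel_left (inv_mem x.2)).1 (cH b)⟩, (QuotientGroup.eq.2 (mem_subgroupOf.2 b)).symm⟩
    obtain ⟨i, -⟩ := bij.2 ((1 : H) : H ⧸ _)
    have o1 : Odd (Nat.card E) := odd_of_inv (fun j : E => ⟨i * j * (i : G)⁻¹, j.2.1.trans (isConj_iff.2 ⟨i, rfl⟩), by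
        have := mul_mem (mul_mem i.2.2 (inv_mem j.2.2)) i.2.2
        rwa [iv i.2.1, mul_assoc, ← show (i : G) * g * (j * g)⁻¹ = i * j by
          rw [mul_inv_rev, iv j.2.1, mul_assoc (i : G) g, mul_inv_cancel_left]]⟩)
      (fun j => Subtype.ext (by
        show (i : G) * (i * j * (i : G)⁻¹) * (i : G)⁻¹ = j
        rw [iv i.2.1, ← mul_assoc, ← mul_assoc, sq i.2.1, one_mul, mul_assoc, sq i.2.1, mul_one])) i
      fun j => ⟨fun e => Subtype.ext (uq _ _ j.2.1 i.2.1 j.2.2 i.2.2
        (mul_inv_eq_iff_eq_mul.1 (congrArg Subtype.val e)).symm), fun e => Subtype.ext (by rw [e]; simp)⟩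
    have o2 : Odd (Nat.card (G ⧸ H)) := odd_of_inv (fun q => z • q) (fun q => by rw [smul_smul, z2, one_smul])
      ((1 : G) : G ⧸ H) fun q => by
        obtain ⟨x, rfl⟩ := QuotientGroup.mk_surjective q
        rw [MulAction.Quotient.smul_coe, QuotientGroup.eq, QuotientGroup.eq, mul_one, inv_mem_iff, ← h0 x]
        show _ ↔ z ∈ cj x H
        rw [mem_cj, smul_eq_mul, mul_inv_rev, H13Inv.inv_eq hz]
    obtain ⟨T, hT, l⟩ := exists_sylIn_ge (isPGroup_zpowers_of_orderOf (p := 2) (k := 1) hz) (zle (self_mem_cent z))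
    have t : SylIn 2 T ⊤ := sylIn_of_not_dvd le_top hT.pg (by
      rw [relIndex_top_right, ← relIndex_mul_index hT.le, ← relIndex_mul_index cH]
      exact Nat.prime_two.not_dvd_mul hT.not_dvd ((Nat.card_eq_of_bijective φ bij ▸ o1).mul o2).not_two_dvd_nat)
    refine ⟨t.toSylowTop, ?_⟩
    rw [map_subtype_center]
    exact ⟨l (mem_zpowers z), mem_cent_of_le hT.le⟩)

end Cfsg.Agent.S1922
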