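import Cfsg.Agent.Lib.Grp.SchurCG
-- Template for statement S2034 (row 2034; see /opt/grader/pristine/manifest.json for weights).
-- Copy to Cfsg/Agent/S2034.lean and replace the sorry. The statement below is byte-identical to the frozen
-- statement Cfsg.CfsgFrozen.S2034 (Cfsg/Statements/S2034.lean; the theorem Cfsg.kfact_multiplier_m11);
-- the grader kernel-checks Cfsg.Agent.S2034.result against that frozen type. Keep the theorem IN THIS FILE
-- (a `result` declared elsewhere and merely imported here is not credited); helpers may live anywhere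
-- under Cfsg/Agent/.
import Cfsg.Statements.S2034
-- import your own Cfsg.Agent.* helpers here

set_option autoImplicit false
open Cfsg

set_option autoImplicit false
set_option maxRecDepth 100000

namespace Cfsg.Agent.S2034
open Cfsg CA.SchurHopf CA.SchurPc CA.SchurCG CA.CWord CA.M24Core CA.M24Sub CA.M24Syl CA.Golay MulAction
open scoped Pointwise

def c2_t : List (List (List ℕ)) := [[[3],[1,2],[2,3],[3]],
  [[],[2],[2],[3]],
  [[],[],[3],[3]],
  [[],[],[],[]]]
noncomputable def c2 : PC := ⟨4, 2, 2, 9, 18, 2, 20, 1, 127, fun e => nth (nth c2_t [] (Nat.div e 4)) [] (Nat.mod e 4),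
  [(0,[0],[0,2,3]),
  (0,[3],[3]),
  (1,[0,1],[3]),
  (0,[2],[0])]⟩
def c2_A0 : List (List ℕ × List ℕ × ℕ) := [([1],[1,0],nat_lit 0x8040000000040000000040000),
  ([2],[0,0],nat_lit 0x8000000008000000000000000008000000),
  ([2],[2,1],nat_lit 0x8000000000000000),
  ([0],[0,0],nat_lit 0x8000000),
  ([1],[1,1],nat_lit 0x40000000000000),
  ([2],[2,2],nat_lit 0x8000000000000000000000000)]
theorem c2_hA0 : lall c2_A0 c2.relA = true := by decide +kernel
def c2_B0 : List (ℕ × List ℕ × List ℕ × ℕ) := [(0,[0,0],[1],nat_lit 0x200000000000000040000000000000008040000),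
  (1,[2,2],[],nat_lit 0x8040000000040200000000201),
  (0,[3,3],[1],nat_lit 0x200000000000000040000000000000000000001)]
theorem c2_hB0 : lall c2_B0 c2.relB = true := by decide +kernel
theorem c2_lin : Lin c2 (2 ^ 0) :=
  ⟨by decide +kernel, c2_A0, c2_B0, _,
  [0,
  0,
  nat_lit 0x200000000000,
  nat_lit 0x40000000000000000000000],
  [],
  [[377,457,49,8],
  [0,16,4],
  [0,32],
  [42]],
  c2_hA0, c2_hB0, rfl, by decide +kernel, by decide +kernel, by decide +kernel, by decide +kernel⟩
def c2_x : List ℕ := [246640147502563331741740223020967773494746711034562085376,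
  343953590963521770448491563469285333271542472619909581056,
  467515540900626369277936472648869033243030309024460833536,
  124713949578400885394078603159688822306130564289747552256,
  466553260539711024294224036877000214219231428767737053696,
  368760885915537467373490697790839023267905448248953277696]
theorem c2_grp : Grp c2 ↥(stabilizer M24 (ds D0) ⊓ stabilizer M24 (some 0 : GolayPt)) :=
  grpM (xs := c2_x) (inS mPt (inS0 mSub (ok_of (by decide +kernel)) (sS (m := D0) (by decide)) (by decide +kernel)) (sPt (some 0)) (by decide +kernel)) st11.card (by decide)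
  [(1,[[0,2]]),(2,[])] (by decide +kernel)
def c3_t : List (List (List ℕ)) := [[[],[1]],
  [[],[]]]
noncomputable def c3 : PC := ⟨2, 3, 3, 8, 7, 2, 7, 3, 63, fun e => nth (nth c3_t [] (Nat.div e 2)) [] (Nat.mod e 2),
  [(0,[1],[1,1]),
  (0,[0],[0]),
  (1,[0],[1])]⟩
def c3_A0 : List (List ℕ × List ℕ × ℕ) := []
theorem c3_hA0 : lall c3_A0 c3.relA = true := by decide +kernel
def c3_B0 : List (ℕ × List ℕ × List ℕ × ℕ) := [(0,[0,1],[1,0],512),
  (0,[0,0,0],[],nat_lit 0x2000000),
  (1,[2,2,2],[],nat_lit 0x2000001)]
theorem c3_hB0 : lall c3_B0 c3.relB = true := by decide +kernel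
theorem c3_lin : Lin c3 (3 ^ 0) :=
  ⟨by decide +kernel, c3_A0, c3_B0, _,
  [0,
  0],
  [],
  [[21,1],
  [3]],
  c3_hA0, c3_hB0, rfl, by decide +kernel, by decide +kernel, by decide +kernel, by decide +kernel⟩
def c3_x : List ℕ := [565786069238566377715328701097705093655785000223545757696,
  516548663705864879912222961664993919234289611626096102656,
  515597598811438913488573294761269983629409443456662178816,
  368473544462791890243750900553596864871925423912274756096]
theorem c3_grp : Grp c3 ↥(stabilizer M24 (ds D0) ⊓ stabilizer M24 (some 0 : GolayPt)) :=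
  grpM (xs := c3_x) (inS mPt (inS0 mSub (ok_of (by decide +kernel)) (sS (m := D0) (by decide)) (by decide +kernel)) (sPt (some 0)) (by decide +kernel)) st11.card (by decide)
  [(1,[])] (by decide +kernel)

/-- The Schur multiplier of the Mathieu group M₁₁ (the stabiliser of a dodecad and one of its points in the automorphism group of the length-24 binary code) is trivial; here the Schur multiplier is described through stem extensions, as in the definitions: surjective homomorphisms onto the group from a finite group, whose kernel is central in that finite group and contained in that finite group's commutator subgroup. -/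
theorem result : Cfsg.HasCyclicSchurMultiplier ↥Cfsg.Spor.M11 1 := by
  exact congr_left (has_one_of_bd (bd_all st11.card [2, 3] [5, 11] (by decide +kernel) (by norm_num)
    (by simpa only [List.forall_mem_cons] using ⟨bd_of c2_lin c2_grp, bd_of c3_lin c3_grp, by simp⟩))) (eqv map11)

end Cfsg.Agent.S2034
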