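import Cfsg.Agent.Lib.Grp.SchurLow
-- Template for statement S2035 (row 2035; see /opt/grader/pristine/manifest.json for weights).
-- Copy to Cfsg/Agent/S2035.lean and replace the sorry. The statement below is byte-identical to the frozen
-- statement Cfsg.CfsgFrozen.S2035 (Cfsg/Statements/S2035.lean; the theorem Cfsg.kfact_multiplier_m12);
-- the grader kernel-checks Cfsg.Agent.S2035.result against that frozen type. Keep the theorem IN THIS FILE
-- (a `result` declared elsewhere and merely imported here is not credited); helpers may live anywhere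
-- under Cfsg/Agent/.
import Cfsg.Statements.S2035
-- import your own Cfsg.Agent.* helpers here

set_option autoImplicit false
open Cfsg

set_option autoImplicit false
set_option maxRecDepth 100000

namespace Cfsg.Agent.S2035
open Cfsg CA.SchurHopf CA.SchurPc CA.SchurCG CA.CWord CA.M24Core CA.M24Sub CA.M24Syl CA.Golay MulAction
open scoped Pointwise
open CA.SchurLow CA.CNet CA.CLevel CA.CSimple CA.CPoint CA.CTodd
universe u
noncomputable section
def rels : List Word := [[0,0,0,0], [2,2,2,2], [0,0,2,2], [0,2,0,3], [4,4], [0,2,4,1,4,3,4], [6,6], [0,2,6,0,6,2,6], [0,2,4,3,6,0,3,4,0,6], [8,8], [4,8,4,8], [6,8,6,8,6,8], [0,6,2,8,6,2,6,8], [10,10], [4,10,4,10], [8,10,8,10], [0,2,10,1,10], [6,10,6,10,6,10]]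
namespace T4
def A_0 : List (ℕ) := [nat_lit 0x1a0381081c02c0e0060402c0200e0140280a0640300c0301d8080880c0540201b0001a0080480001200]
def A : List (List (ℕ)) := [A_0]
def K_0 : List (ℕ) := [nat_lit 0x8340a090581c060000]
def K : List (List (ℕ)) := [K_0]
def R_0 : List (Rule) := [⟨4, 31, (.bwd 4 (.bwd 2 (.fwd 512 .nil))), 5, 1⟩,
  ⟨2, 31, (.bwd 3 (.fwd 512 (.bwd 4 .nil))), 7, 0⟩,
  ⟨2, 31, (.bwd 2 (.bwd 2 (.fwd 512 .nil))), 1, 0⟩,
  ⟨4, 31, (.bwd 2 (.bwd 2 (.fwd 1536 .nil))), 5, 2⟩,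
  ⟨4, 31, (.bwd 2 (.bwd 2 (.bwd 4 .nil))), 5, 2⟩,
  ⟨3, 31, (.bwd 2 (.bwd 4 (.bwd 2 .nil))), 7, 1⟩,
  ⟨3, 31, (.bwd 3 (.fwd 2048 (.fwd 2048 .nil))), 2, 0⟩,
  ⟨1, 31, (.bwd 3 (.fwd 2048 (.fwd 1024 .nil))), 4, 2⟩,
  ⟨2, 31, (.bwd 3 (.bwd 2 (.fwd 1536 .nil))), 7, 0⟩]
def R : List (List (Rule)) := [R_0]
def LW : List Word := [[], [0], [1], [2], [3]]
def par : Par := ⟨9, 3, 12, 21, 511, 4095, 2097151⟩
theorem hpar : par.ok := by decide
theorem hR0_0 : lall (R) (fun l => lall l (ruleOK rels LW par)) = true := by decide +kernel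
theorem hR0 : lall (R) (fun l => lall l (ruleOK rels LW par)) = true := hR0_0
theorem hR : RulesOK rels LW par R := rulesOK_of rfl hR0
def cols : List (ℕ × ℕ) := [(512, 2), (1536, 4)]
theorem hcols : lall cols (colOK rels LW par) = true := by decide +kernel
def JS0 : List ℕ := [nat_lit 0x2c1a0890402c0f00505019c140903300004055030200a80803810c00070210180a041]
theorem S0_c : blocks (facts 9 3 12 21 511 4095 2097151 9 511 4 15 A R 32) 32 JS0 262 = true := by decide +kernel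
theorem S0 : On (Step.{u} rels LW par A) 262 294 :=
  steps_of_blocks hpar hR S0_c (by decide +kernel)
theorem D0_c : allB (defOK 9 12 21 511 2097151 263 A K) 1 2 = true := by decide +kernel
theorem D0 : On (fun r => defOK par.W par.WL par.E par.mW par.mE 263 A K r = true) 256 384 :=
  On.of_allB D0_c
def JW0 : List ℕ := [nat_lit 0xc8301243d0dc450d0430e42f1004b0fc3b1184c]
theorem W0_c : blocks (rows 9 3 12 21 511 4095 2097151 10 1023 20 A 294 8 cols 64) 64 JW0 0 = true := by decide +kernel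
theorem W0 : On (Row.{u} rels LW par A 294 8 cols) 0 64 :=
  rows_of_blocks hpar (by decide) hcols W0_c (by decide +kernel)
theorem idx : Idx.{u} rels [[0], [2]] [] 8 :=
  idx_of_cert hpar hR (K := K) (by decide +kernel) (T := 263) (T' := 384) (by decide) D0
    (subs := []) (by decide +kernel) (T1 := 262) (by decide) (N := 294) S0
    (by decide) (n' := 64) (by decide) W0 (by decide +kernel) (by decide +kernel)
end T4
theorem b4 : Bound.{u} rels [[0], [2]] 8 := .of_idx T4.idx (.nil _) (by decide)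
namespace T3
def A_0 : List (ℕ) := [nat_lit 0x8a08042008106030288200ea030390100e60201981c0c6040328180a60600880c02402001800002000408100e2050218040620603080804a0502a00402a00]
def A : List (List (ℕ)) := [A_0]
def K_0 : List (ℕ) := [nat_lit 0x1078340e03058240a0000]
def K : List (List (ℕ)) := [K_0]
def R_0 : List (Rule) := [⟨2, 58, (.bwd 5 (.bwd 4 (.bwd 5 (.bwd 1 (.bwd 3 (.fwd 2560 .nil)))))), 10, 4⟩,
  ⟨1, 31, (.bwd 1 (.bwd 1 (.fwd 1024 .nil))), 0, 0⟩,
  ⟨3, 31, (.bwd 1 (.fwd 1024 (.fwd 2048 .nil))), 4, 0⟩,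
  ⟨5, 58, (.bwd 1 (.bwd 5 (.bwd 4 (.bwd 2 (.bwd 5 (.bwd 3 .nil)))))), 11, 3⟩,
  ⟨3, 31, (.bwd 3 (.fwd 2048 (.bwd 3 .nil))), 2, 0⟩,
  ⟨3, 31, (.bwd 1 (.bwd 4 (.bwd 1 .nil))), 6, 2⟩,
  ⟨3, 31, (.fwd 1024 (.bwd 1 (.bwd 3 .nil))), 4, 0⟩,
  ⟨2, 31, (.fwd 1536 (.fwd 512 (.bwd 3 .nil))), 7, 2⟩,
  ⟨5, 58, (.fwd 512 (.bwd 5 (.fwd 1536 (.fwd 2560 (.bwd 1 (.bwd 3 .nil)))))), 10, 3⟩,
  ⟨1, 31, (.bwd 1 (.fwd 1024 (.bwd 1 .nil))), 0, 0⟩,
  ⟨3, 31, (.bwd 3 (.bwd 1 (.bwd 1 .nil))), 4, 3⟩,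
  ⟨4, 31, (.fwd 1024 (.fwd 2048 (.bwd 1 .nil))), 6, 0⟩,
  ⟨5, 58, (.bwd 4 (.bwd 5 (.bwd 1 (.bwd 3 (.fwd 2560 (.bwd 2 .nil)))))), 10, 5⟩]
def R : List (List (Rule)) := [R_0]
def LW : List Word := [[], [0], [1], [2], [3], [4], [0], [1], [2], [3]]
def par : Par := ⟨9, 4, 13, 22, 511, 8191, 4194303⟩
theorem hpar : par.ok := by decide
theorem hR0_0 : lall (R) (fun l => lall l (ruleOK rels LW par)) = true := by decide +kernel
theorem hR0 : lall (R) (fun l => lall l (ruleOK rels LW par)) = true := hR0_0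
theorem hR : RulesOK rels LW par R := rulesOK_of rfl hR0
def cols : List (ℕ × ℕ) := [(512, 2), (1536, 4), (2560, 5)]
theorem hcols : lall cols (colOK rels LW par) = true := by decide +kernel
def JS0 : List ℕ := [nat_lit 0x1006010104c01a010982b0000d025830020ba0101822080881a4020c014000080570183410c01060214000a0102c14094050041060003818812000082410071]
theorem S0_c : blocks (facts 9 4 13 22 511 8191 4194303 9 511 4 15 A R 32) 32 JS0 265 = true := by decide +kernel
theorem S0 : On (Step.{u} rels LW par A) 265 297 :=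
  steps_of_blocks hpar hR S0_c (by decide +kernel)
theorem D0_c : allB (defOK 9 13 22 511 4194303 264 A K) 1 2 = true := by decide +kernel
theorem D0 : On (fun r => defOK par.W par.WL par.E par.mW par.mE 264 A K r = true) 256 384 :=
  On.of_allB D0_c
def JW0 : List ℕ := [nat_lit 0x260a42c0bc340c4380e84a13851118270d8440b82a0f04f0c84c14c480fc5210042]
theorem W0_c : blocks (rows 9 4 13 22 511 8191 4194303 10 1023 30 A 297 9 cols 42) 42 JW0 0 = true := by decide +kernel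
theorem W0 : On (Row.{u} rels LW par A 297 9 cols) 0 42 :=
  rows_of_blocks hpar (by decide) hcols W0_c (by decide +kernel)
theorem idx : Idx.{u} rels [[0], [2], [4]] [[0], [2]] 9 :=
  idx_of_cert hpar hR (K := K) (by decide +kernel) (T := 264) (T' := 384) (by decide) D0
    (subs := [1,3]) (by decide +kernel) (T1 := 265) (by decide) (N := 297) S0
    (by decide) (n' := 42) (by decide) W0 (by decide +kernel) (by decide +kernel)
end T3
theorem b3 : Bound.{u} rels [[0], [2], [4]] 72 := .of_idx T3.idx b4 (by decide)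
namespace T2
def A_0 : List (ℕ) := [nat_lit 0x4b0241240904a0240ec0203a8140e4040398080660701a8100ac080288200260500a8040cc060118200c6040188181020401a020022030028000060000080012a060388140a60603080810a0201080406c0402180402c00]
def A : List (List (ℕ)) := [A_0]
def K_0 : List (ℕ) := [nat_lit 0x2110483c160d018140e0000]
def K : List (List (ℕ)) := [K_0]
def R_0 : List (Rule) := [⟨1, 59, (.bwd 6 (.bwd 3 (.bwd 6 (.bwd 1 (.bwd 3 (.fwd 3072 .nil)))))), 14, 4⟩,
  ⟨4, 86, (.bwd 5 (.bwd 1 (.bwd 6 (.bwd 1 (.bwd 3 (.fwd 2560 (.fwd 1536 (.fwd 3072 (.bwd 1 .nil))))))))), 16, 7⟩,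
  ⟨1, 32, (.bwd 3 (.bwd 1 (.bwd 4 .nil))), 6, 1⟩,
  ⟨1, 32, (.bwd 1 (.bwd 1 (.bwd 1 .nil))), 0, 0⟩,
  ⟨3, 32, (.bwd 3 (.bwd 1 (.bwd 1 .nil))), 4, 3⟩,
  ⟨3, 32, (.fwd 2048 (.bwd 1 (.bwd 1 .nil))), 4, 3⟩,
  ⟨6, 59, (.bwd 3 (.fwd 3072 (.bwd 1 (.bwd 3 (.fwd 3072 (.bwd 1 .nil)))))), 14, 5⟩,
  ⟨5, 59, (.fwd 1536 (.fwd 512 (.bwd 5 (.bwd 3 (.bwd 5 (.bwd 1 .nil)))))), 11, 5⟩,
  ⟨3, 32, (.bwd 3 (.bwd 3 (.bwd 3 .nil))), 2, 0⟩,
  ⟨1, 32, (.bwd 1 (.bwd 3 (.bwd 3 .nil))), 4, 1⟩,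
  ⟨6, 59, (.bwd 1 (.bwd 3 (.bwd 6 (.bwd 1 (.fwd 3072 (.bwd 3 .nil)))))), 14, 0⟩,
  ⟨5, 86, (.fwd 1536 (.fwd 512 (.bwd 6 (.fwd 512 (.bwd 5 (.bwd 3 (.fwd 512 (.bwd 6 (.fwd 2048 .nil))))))))), 17, 8⟩,
  ⟨3, 32, (.bwd 1 (.fwd 1536 (.bwd 1 .nil))), 6, 2⟩,
  ⟨3, 32, (.bwd 3 (.fwd 2048 (.bwd 3 .nil))), 2, 0⟩,
  ⟨2, 32, (.fwd 1536 (.fwd 512 (.bwd 3 .nil))), 7, 2⟩,
  ⟨5, 59, (.bwd 1 (.bwd 5 (.fwd 1536 (.bwd 2 (.fwd 2560 (.bwd 3 .nil)))))), 11, 3⟩,
  ⟨4, 59, (.bwd 5 (.bwd 1 (.bwd 3 (.bwd 5 (.fwd 512 (.fwd 2560 .nil)))))), 10, 6⟩,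
  ⟨2, 59, (.bwd 5 (.bwd 3 (.fwd 2560 (.bwd 1 (.fwd 2560 (.bwd 4 .nil)))))), 11, 0⟩,
  ⟨6, 86, (.fwd 1024 (.bwd 4 (.bwd 5 (.bwd 1 (.fwd 3072 (.bwd 1 (.bwd 3 (.fwd 2560 (.bwd 4 .nil))))))))), 16, 5⟩]
def R : List (List (Rule)) := [R_0]
def LW : List Word := [[], [0], [1], [2], [3], [4], [6], [0], [1], [2], [3], [4], [5]]
def par : Par := ⟨9, 4, 13, 22, 511, 8191, 4194303⟩
theorem hpar : par.ok := by decide
theorem hR0_0 : lall (R) (fun l => lall l (ruleOK rels LW par)) = true := by decide +kernel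
theorem hR0 : lall (R) (fun l => lall l (ruleOK rels LW par)) = true := hR0_0
theorem hR : RulesOK rels LW par R := rulesOK_of rfl hR0
def cols : List (ℕ × ℕ) := [(512, 2), (1536, 4), (2560, 5), (3072, 6)]
theorem hcols : lall cols (colOK rels LW par) = true := by decide +kernel
def JS0 : List ℕ := [nat_lit 0x2160c05c04190b004013000541c06068564140b86016170a440619068140e1858080600008580b00082812f0002c0ee0580c20d04800020509020280703300215060542807580026065048060d483c1c01070102280103c020207804e0b0080cc0001838a020582480000830600060080202018301208102c020205828121]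
theorem S0_c : blocks (facts 9 4 13 22 511 8191 4194303 9 511 5 31 A R 32) 32 JS0 267 = true := by decide +kernel
theorem S0 : On (Step.{u} rels LW par A) 267 299 :=
  steps_of_blocks hpar hR S0_c (by decide +kernel)
theorem D0_c : allB (defOK 9 13 22 511 4194303 265 A K) 1 2 = true := by decide +kernel
theorem D0 : On (fun r => defOK par.W par.WL par.E par.mW par.mE 265 A K r = true) 256 384 :=
  On.of_allB D0_c
def JW0 : List ℕ := [nat_lit 0x60470741b0a84f0d02c07c21098230c846128380ac200b848148280d83a14c290f43e0784e0904c15c30150501584010844]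
theorem W0_c : blocks (rows 9 4 13 22 511 8191 4194303 10 1023 40 A 299 10 cols 32) 32 JW0 0 = true := by decide +kernel
theorem W0 : On (Row.{u} rels LW par A 299 10 cols) 0 32 :=
  rows_of_blocks hpar (by decide) hcols W0_c (by decide +kernel)
theorem idx : Idx.{u} rels [[0], [2], [4], [6]] [[0], [2], [4]] 10 :=
  idx_of_cert hpar hR (K := K) (by decide +kernel) (T := 265) (T' := 384) (by decide) D0
    (subs := [1,3,5]) (by decide +kernel) (T1 := 267) (by decide) (N := 299) S0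
    (by decide) (n' := 32) (by decide) W0 (by decide +kernel) (by decide +kernel)
end T2
theorem b2 : Bound.{u} rels [[0], [2], [4], [6]] 720 := .of_idx T2.idx b3 (by decide)
namespace T1
def A_0 : List (ℕ) := [nat_lit 0x14c0a0510281480a0538280ca0601282408a0302a8200ee0704381012e0202b80c0ac090430080c2060318180ce06029020082080198200ec0702981c0880701101c046090490140840900a01002a0100300000a000018000020005281c0cc010418080e40302a0041260302300c0640101080402e00]
def A : List (List (ℕ)) := [A_0]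
def K_0 : List (ℕ) := [nat_lit 0x4260907834220b03814060000]
def K : List (List (ℕ)) := [K_0]
def R_0 : List (Rule) := [⟨5, 32, (.bwd 7 (.fwd 2560 (.fwd 3584 .nil))), 20, 1⟩,
  ⟨4, 68, (.bwd 6 (.bwd 2 (.bwd 7 (.fwd 3072 (.fwd 1536 (.fwd 3072 (.fwd 3584 .nil))))))), 25, 6⟩,
  ⟨2, 32, (.bwd 3 (.bwd 2 (.bwd 4 .nil))), 7, 0⟩,
  ⟨2, 32, (.bwd 4 (.bwd 4 (.bwd 2 .nil))), 5, 0⟩,
  ⟨3, 32, (.bwd 2 (.bwd 4 (.fwd 512 .nil))), 7, 1⟩,
  ⟨2, 32, (.bwd 2 (.bwd 2 (.fwd 512 .nil))), 1, 0⟩,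
  ⟨4, 32, (.bwd 2 (.bwd 2 (.bwd 4 .nil))), 5, 2⟩,
  ⟨3, 32, (.bwd 2 (.fwd 1536 (.bwd 2 .nil))), 7, 1⟩,
  ⟨6, 59, (.bwd 2 (.fwd 3072 (.bwd 4 (.bwd 2 (.fwd 3072 (.bwd 4 .nil)))))), 15, 3⟩,
  ⟨3, 32, (.bwd 3 (.bwd 3 (.bwd 3 .nil))), 2, 0⟩,
  ⟨1, 32, (.bwd 3 (.bwd 3 (.fwd 1024 .nil))), 4, 2⟩,
  ⟨2, 32, (.bwd 3 (.bwd 2 (.fwd 1536 .nil))), 7, 0⟩,
  ⟨7, 50, (.bwd 6 (.bwd 7 (.fwd 3072 (.fwd 3584 (.fwd 3072 .nil))))), 22, 0⟩,
  ⟨3, 68, (.bwd 6 (.bwd 7 (.bwd 1 (.fwd 3072 (.bwd 3 (.fwd 3584 (.fwd 3072 .nil))))))), 24, 6⟩,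
  ⟨1, 59, (.bwd 3 (.bwd 6 (.fwd 1024 (.fwd 3072 (.fwd 2048 (.fwd 3072 .nil)))))), 14, 1⟩,
  ⟨6, 59, (.bwd 1 (.fwd 3072 (.bwd 3 (.bwd 6 (.fwd 1024 (.bwd 3 .nil)))))), 14, 3⟩,
  ⟨6, 59, (.fwd 1024 (.fwd 2048 (.fwd 3072 (.bwd 1 (.bwd 6 (.fwd 2048 .nil)))))), 14, 0⟩,
  ⟨7, 68, (.fwd 3072 (.fwd 2048 (.fwd 3072 (.fwd 3584 (.bwd 1 (.bwd 6 (.fwd 2048 .nil))))))), 24, 4⟩,
  ⟨7, 68, (.bwd 1 (.fwd 3072 (.bwd 3 (.fwd 3584 (.bwd 6 (.fwd 2048 (.bwd 6 .nil))))))), 24, 0⟩,
  ⟨7, 50, (.bwd 6 (.fwd 3584 (.bwd 6 (.bwd 7 (.fwd 3072 .nil))))), 22, 0⟩,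
  ⟨7, 68, (.fwd 3072 (.fwd 1536 (.bwd 6 (.bwd 7 (.fwd 1536 (.bwd 6 (.bwd 2 .nil))))))), 25, 1⟩,
  ⟨5, 86, (.fwd 1024 (.bwd 6 (.fwd 1024 (.fwd 2048 (.fwd 2560 (.bwd 4 (.bwd 6 (.fwd 1024 (.fwd 1536 .nil))))))))), 16, 8⟩,
  ⟨5, 86, (.fwd 1536 (.bwd 2 (.bwd 6 (.bwd 2 (.bwd 5 (.bwd 3 (.bwd 2 (.fwd 3072 (.fwd 2048 .nil))))))))), 17, 8⟩,
  ⟨5, 86, (.fwd 1024 (.bwd 6 (.fwd 1024 (.fwd 2048 (.bwd 5 (.fwd 1536 (.fwd 3072 (.fwd 1024 (.fwd 1536 .nil))))))))), 16, 8⟩,
  ⟨5, 86, (.fwd 1536 (.fwd 512 (.bwd 6 (.fwd 512 (.bwd 5 (.bwd 3 (.bwd 2 (.fwd 3072 (.bwd 3 .nil))))))))), 17, 8⟩,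
  ⟨7, 32, (.bwd 5 (.fwd 3584 (.fwd 2560 .nil))), 20, 0⟩,
  ⟨4, 59, (.bwd 5 (.fwd 1024 (.bwd 3 (.fwd 2560 (.bwd 2 (.fwd 2560 .nil)))))), 10, 6⟩,
  ⟨2, 59, (.bwd 5 (.fwd 1536 (.bwd 5 (.fwd 1024 (.bwd 3 (.fwd 2560 .nil)))))), 10, 4⟩,
  ⟨6, 86, (.fwd 1024 (.bwd 4 (.bwd 5 (.fwd 1024 (.fwd 3072 (.fwd 1024 (.bwd 3 (.fwd 2560 (.bwd 4 .nil))))))))), 16, 5⟩]
def R : List (List (Rule)) := [R_0]
def LW : List Word := [[], [0], [1], [2], [3], [4], [6], [8], [0], [1], [2], [3], [4], [5], [6], [7]]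
def par : Par := ⟨9, 4, 13, 22, 511, 8191, 4194303⟩
theorem hpar : par.ok := by decide
theorem hR0_0 : lall (R) (fun l => lall l (ruleOK rels LW par)) = true := by decide +kernel
theorem hR0 : lall (R) (fun l => lall l (ruleOK rels LW par)) = true := hR0_0
theorem hR : RulesOK rels LW par R := rulesOK_of rfl hR0
def cols : List (ℕ × ℕ) := [(512, 2), (1536, 4), (2560, 5), (3072, 6), (3584, 7)]
theorem hcols : lall cols (colOK rels LW par) = true := by decide +kernel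
def JS0 : List ℕ := [nat_lit 0x880281006058400100743e1307814261fe07828020a8503db0e8103ba050744621000903a09056424130308000100f08429807834201c000480a120fdc1a1c0f84c281309010136070103401018301750180004010ed0021a0b81408170f4c3216010102c0f0dc83015008541c0d881434140085037009830301909801e120d03c1a100d049c110c8303211680c0a11601c0a105848080f5004240f008481e9018401c8020441a70884018608030005000041640003416307004060107030162068041a1]
theorem S0_c : blocks (facts 9 4 13 22 511 8191 4194303 9 511 5 31 A R 32) 32 JS0 269 = true := by decide +kernel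
theorem S0 : On (Step.{u} rels LW par A) 269 301 :=
  steps_of_blocks hpar hR S0_c (by decide +kernel)
theorem D0_c : allB (defOK 9 13 22 511 4194303 266 A K) 1 2 = true := by decide +kernel
theorem D0 : On (fun r => defOK par.W par.WL par.E par.mW par.mE 266 A K r = true) 256 384 :=
  On.of_allB D0_c
def JW0 : List ℕ := [nat_lit 0xc0184902c0906c1e040360e419084140b02a0582e1203013c2612c0e090220741f054510a418154130cc3b070540485215c1a080111303516c4a0f83d1605a1004211046]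
theorem W0_c : blocks (rows 9 4 13 22 511 8191 4194303 10 1023 50 A 301 11 cols 25) 25 JW0 0 = true := by decide +kernel
theorem W0 : On (Row.{u} rels LW par A 301 11 cols) 0 25 :=
  rows_of_blocks hpar (by decide) hcols W0_c (by decide +kernel)
theorem idx : Idx.{u} rels [[0], [2], [4], [6], [8]] [[0], [2], [4], [6]] 11 :=
  idx_of_cert hpar hR (K := K) (by decide +kernel) (T := 266) (T' := 384) (by decide) D0
    (subs := [1,3,5,6]) (by decide +kernel) (T1 := 269) (by decide) (N := 301) S0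
    (by decide) (n' := 25) (by decide) W0 (by decide +kernel) (by decide +kernel)
end T1
theorem b1 : Bound.{u} rels [[0], [2], [4], [6], [8]] 7920 := .of_idx T1.idx b2 (by decide)
namespace T0
def A_0 : List (ℕ) := [nat_lit 0x598160b102c1640582d00b059c1609381412601824a0604a008091014123018106090420100838200a502020c0804100c0818140810401ca070114040a200c14701818c0a02a00c0340280c1050282050210140218180e10381c60701040807401c0e603809002008c0201100402700804a01001c00003000005000006000004000b2820121030202030514060308080c702010c05028c0407380804600805000]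
def A : List (List (ℕ)) := [A_0]
def K_0 : List (ℕ) := [nat_lit 0x8541e1308814160704834060000]
def K : List (List (ℕ)) := [K_0]
def R_0 : List (Rule) := [⟨5, 33, (.bwd 8 (.fwd 2560 (.fwd 4096 .nil))), 28, 1⟩,
  ⟨7, 33, (.bwd 8 (.fwd 3584 (.fwd 4096 .nil))), 30, 1⟩,
  ⟨2, 42, (.bwd 8 (.bwd 1 (.bwd 3 (.fwd 4096 .nil)))), 32, 4⟩,
  ⟨3, 42, (.bwd 8 (.fwd 512 (.fwd 4096 (.fwd 1024 .nil)))), 32, 2⟩,
  ⟨8, 51, (.bwd 6 (.bwd 8 (.fwd 3072 (.fwd 4096 (.fwd 3072 .nil))))), 34, 0⟩,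
  ⟨6, 51, (.bwd 7 (.bwd 6 (.fwd 3584 (.fwd 3072 (.fwd 3584 .nil))))), 22, 1⟩,
  ⟨8, 33, (.bwd 7 (.fwd 4096 (.fwd 3584 .nil))), 30, 0⟩,
  ⟨1, 60, (.bwd 6 (.bwd 3 (.bwd 6 (.fwd 1024 (.bwd 3 (.fwd 3072 .nil)))))), 14, 4⟩,
  ⟨3, 69, (.fwd 3072 (.bwd 7 (.bwd 1 (.bwd 6 (.bwd 3 (.fwd 3584 (.fwd 3072 .nil))))))), 24, 6⟩,
  ⟨1, 69, (.fwd 3072 (.bwd 3 (.bwd 7 (.bwd 6 (.bwd 3 (.fwd 3072 (.fwd 3584 .nil))))))), 24, 1⟩,
  ⟨3, 69, (.bwd 7 (.bwd 6 (.bwd 3 (.bwd 6 (.fwd 3584 (.fwd 1024 (.fwd 3072 .nil))))))), 24, 3⟩,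
  ⟨4, 87, (.bwd 5 (.bwd 1 (.bwd 6 (.fwd 1024 (.bwd 3 (.fwd 2560 (.fwd 1536 (.fwd 3072 (.bwd 1 .nil))))))))), 16, 7⟩,
  ⟨1, 33, (.bwd 3 (.bwd 1 (.bwd 4 .nil))), 6, 1⟩,
  ⟨1, 33, (.bwd 1 (.bwd 3 (.bwd 3 .nil))), 4, 1⟩,
  ⟨8, 42, (.bwd 1 (.bwd 3 (.fwd 4096 (.fwd 512 .nil)))), 32, 0⟩,
  ⟨8, 42, (.fwd 1536 (.fwd 512 (.bwd 8 (.bwd 1 .nil)))), 33, 3⟩,
  ⟨6, 60, (.bwd 1 (.bwd 3 (.bwd 6 (.fwd 1024 (.fwd 3072 (.bwd 3 .nil)))))), 14, 0⟩,
  ⟨7, 69, (.bwd 1 (.bwd 6 (.bwd 3 (.fwd 3584 (.fwd 3072 (.bwd 3 (.bwd 6 .nil))))))), 24, 0⟩,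
  ⟨4, 33, (.bwd 1 (.bwd 3 (.bwd 1 .nil))), 6, 0⟩,
  ⟨5, 60, (.fwd 512 (.fwd 2560 (.bwd 4 (.fwd 2560 (.bwd 1 (.bwd 3 .nil)))))), 10, 3⟩,
  ⟨5, 33, (.bwd 7 (.fwd 2560 (.fwd 3584 .nil))), 20, 1⟩,
  ⟨1, 33, (.bwd 1 (.bwd 1 (.bwd 1 .nil))), 0, 0⟩,
  ⟨3, 33, (.bwd 3 (.bwd 1 (.bwd 1 .nil))), 4, 3⟩,
  ⟨4, 33, (.bwd 1 (.fwd 2048 (.bwd 1 .nil))), 6, 0⟩,
  ⟨6, 60, (.bwd 3 (.fwd 3072 (.bwd 1 (.bwd 3 (.fwd 3072 (.bwd 1 .nil)))))), 14, 5⟩,
  ⟨5, 87, (.bwd 4 (.fwd 3072 (.bwd 1 (.bwd 4 (.fwd 2560 (.bwd 1 (.fwd 3072 (.bwd 1 (.bwd 3 .nil))))))))), 16, 3⟩,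
  ⟨7, 69, (.fwd 3072 (.bwd 3 (.fwd 3072 (.fwd 3584 (.bwd 1 (.fwd 3072 (.fwd 2048 .nil))))))), 24, 4⟩,
  ⟨8, 42, (.bwd 1 (.fwd 2048 (.fwd 4096 (.fwd 512 .nil)))), 32, 0⟩,
  ⟨3, 33, (.bwd 1 (.fwd 1536 (.bwd 1 .nil))), 6, 2⟩,
  ⟨3, 33, (.fwd 2048 (.fwd 2048 (.bwd 3 .nil))), 2, 0⟩,
  ⟨2, 33, (.fwd 1536 (.fwd 512 (.bwd 3 .nil))), 7, 2⟩,
  ⟨8, 42, (.fwd 512 (.fwd 4096 (.bwd 1 (.bwd 3 .nil)))), 32, 3⟩,
  ⟨5, 60, (.bwd 1 (.bwd 5 (.fwd 1536 (.bwd 2 (.bwd 5 (.bwd 3 .nil)))))), 11, 3⟩,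
  ⟨6, 60, (.bwd 1 (.bwd 3 (.bwd 6 (.bwd 1 (.fwd 3072 (.bwd 3 .nil)))))), 14, 0⟩,
  ⟨7, 69, (.fwd 3072 (.bwd 3 (.bwd 6 (.fwd 3584 (.bwd 1 (.fwd 3072 (.bwd 3 .nil))))))), 24, 4⟩,
  ⟨7, 33, (.bwd 5 (.fwd 3584 (.fwd 2560 .nil))), 20, 0⟩,
  ⟨8, 33, (.bwd 5 (.fwd 4096 (.fwd 2560 .nil))), 28, 0⟩,
  ⟨4, 60, (.bwd 5 (.bwd 1 (.fwd 2048 (.bwd 5 (.fwd 512 (.fwd 2560 .nil)))))), 10, 6⟩,
  ⟨2, 60, (.bwd 5 (.bwd 4 (.fwd 2560 (.bwd 1 (.fwd 2048 (.fwd 2560 .nil)))))), 10, 4⟩,
  ⟨6, 87, (.fwd 1024 (.bwd 4 (.bwd 5 (.bwd 1 (.fwd 3072 (.bwd 1 (.fwd 2048 (.fwd 2560 (.bwd 4 .nil))))))))), 16, 5⟩]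
def R : List (List (Rule)) := [R_0]
def LW : List Word := [[], [0], [1], [2], [3], [4], [6], [8], [10], [0], [1], [2], [3], [4], [5], [6], [7], [8], [9]]
def par : Par := ⟨9, 5, 14, 23, 511, 16383, 8388607⟩
theorem hpar : par.ok := by decide
theorem hR0_0 : lall (R) (fun l => lall l (ruleOK rels LW par)) = true := by decide +kernel
theorem hR0 : lall (R) (fun l => lall l (ruleOK rels LW par)) = true := hR0_0
theorem hR : RulesOK rels LW par R := rulesOK_of rfl hR0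
def cols : List (ℕ × ℕ) := [(512, 2), (1536, 4), (2560, 5), (3072, 6), (3584, 7), (4096, 8)]
theorem hcols : lall cols (colOK rels LW par) = true := by decide +kernel
def JS0 : List ℕ := [nat_lit 0x4170d05e0008200ef800220a782811113a220602044e008120c1209406016c0403120304206058201ad00846010108c02c804160960000e112e0d0f07161080042a87c0c1b0006c38a0100e1b4c00060f83c1a1f0d24050f0343c1c01a2020006008805c121a009e020c800e0001030680c32070501c10190a04cc0c01c10180b0542858582e050b85800032804150a04c0015011215018102a130910130084c70904c0613090c12098142612140012038484088140c110c200108040f0103c1,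
  nat_lit 0x22c078b40a2e160040140ac1c2c028385738a8582d090b05530a41029945008144805168542000028b63020b028100b0aa20181802021404a1]
theorem S0_c : blocks (facts 9 5 14 23 511 16383 8388607 9 511 6 63 A R 32) 32 JS0 271 = true := by decide +kernel
theorem S0 : On (Step.{u} rels LW par A) 271 335 :=
  steps_of_blocks hpar hR S0_c (by decide +kernel)
theorem D0_c : allB (defOK 9 14 23 511 8388607 267 A K) 1 2 = true := by decide +kernel
theorem D0 : On (fun r => defOK par.W par.WL par.E par.mW par.mE 267 A K r = true) 256 384 :=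
  On.of_allB D0_c
def JW0 : List ℕ := [nat_lit 0xd8380c08b0d4331885d1789116c641043b0f43f118431204a1388a144541c89b1d0561b86c1809517c3e1a88c1843a2584d148661009425c4c1a47018c5c0f0901108e1d89a274582609227c7c2707e1e07b278802088421888]
theorem W0_c : blocks (rows 9 5 14 23 511 16383 8388607 10 1023 60 A 335 12 cols 21) 21 JW0 0 = true := by decide +kernel
theorem W0 : On (Row.{u} rels LW par A 335 12 cols) 0 21 :=
  rows_of_blocks hpar (by decide) hcols W0_c (by decide +kernel)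
theorem idx : Idx.{u} rels [[0], [2], [4], [6], [8], [10]] [[0], [2], [4], [6], [8]] 12 :=
  idx_of_cert hpar hR (K := K) (by decide +kernel) (T := 267) (T' := 384) (by decide) D0
    (subs := [1,3,5,6,7]) (by decide +kernel) (T1 := 271) (by decide) (N := 335) S0
    (by decide) (n' := 21) (by decide) W0 (by decide +kernel) (by decide +kernel)
end T0
theorem b0 : Bound.{u} rels [[0], [2], [4], [6], [8], [10]] 95040 := .of_idx T0.idx b1 (by decide)
theorem bound : Bound.{u} rels (sg 6) 95040 := b0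
def V0_t0 : Net := [(nat_lit 0x44044, nat_lit 1),
  (nat_lit 0x210210, nat_lit 2),
  (nat_lit 0x30b08, nat_lit 4),
  (nat_lit 154, nat_lit 8),
  (nat_lit 40, nat_lit 16),
  (nat_lit 8, nat_lit 8),
  (nat_lit 0xa0b00, nat_lit 4),
  (nat_lit 0x300300, nat_lit 2),
  (nat_lit 0x40040, nat_lit 1)]
def V0_t1 : Net := [(nat_lit 0x210210, nat_lit 2),
  (nat_lit 0x20c0c, nat_lit 4),
  (nat_lit 206, nat_lit 8),
  (nat_lit 46, nat_lit 16),
  (nat_lit 14, nat_lit 8),
  (nat_lit 0xe0c00, nat_lit 4),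
  (nat_lit 0x200200, nat_lit 2),
  (nat_lit 0x100100, nat_lit 1)]
def V0_t2 : Net := [(nat_lit 0x554440, nat_lit 1),
  (nat_lit 0x221220, nat_lit 2),
  (nat_lit 0xe0f00, nat_lit 4),
  (nat_lit 224, nat_lit 8),
  (nat_lit 152, nat_lit 16),
  (nat_lit 128, nat_lit 8),
  (nat_lit 0x80e00, nat_lit 4),
  (nat_lit 0x221220, nat_lit 2),
  (nat_lit 0x114000, nat_lit 1)]
def V0_t3 : Net := [(nat_lit 0x154444, nat_lit 1),
  (nat_lit 0x202102, nat_lit 2),
  (nat_lit 0xc0404, nat_lit 4),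
  (nat_lit 78, nat_lit 8),
  (nat_lit 94, nat_lit 16),
  (nat_lit 78, nat_lit 8),
  (nat_lit 0x80000, nat_lit 4),
  (nat_lit 0x200100, nat_lit 2),
  (nat_lit 0x154444, nat_lit 1)]
def V0_t4 : Net := [(nat_lit 0x110110, nat_lit 1),
  (nat_lit 0x332130, nat_lit 2),
  (nat_lit 0xe020c, nat_lit 4),
  (nat_lit 64, nat_lit 8),
  (nat_lit 232, nat_lit 16),
  (nat_lit 64, nat_lit 8),
  (nat_lit 0x60000, nat_lit 4),
  (nat_lit 0x212010, nat_lit 2),
  (nat_lit 0x110110, nat_lit 1)]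
def V0_t5 : Net := [(nat_lit 0x105041, nat_lit 1),
  (nat_lit 0x320100, nat_lit 2),
  (nat_lit 0x90500, nat_lit 4),
  (nat_lit 18, nat_lit 8),
  (nat_lit 74, nat_lit 16),
  (nat_lit 2, nat_lit 8),
  (nat_lit 0x80100, nat_lit 4),
  (nat_lit 0x320100, nat_lit 2),
  (nat_lit 0x104040, nat_lit 1)]
def V0_t6 : Net := [(nat_lit 0xf0f0f, nat_lit 4),
  (nat_lit 240, nat_lit 8),
  (nat_lit 255, nat_lit 16),
  (nat_lit 15, nat_lit 8)]
def V0 : Ctx := ⟨24, 5, [V0_t0, V0_t1, V0_t2, V0_t3, V0_t4, V0_t5, V0_t6]⟩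
theorem V0_ok : V0.ok = true := by decide +kernel
def V0_ps : List (Word × ℕ) := [([], 2), ([0,0,0,0], 0), ([2,2,2,2], 0), ([0,0,2,2], 0), ([0,2,0,3], 0), ([4,4], 0), ([0,2,4,1,4,3,4], 0), ([6,6], 0), ([0,2,6,0,6,2,6], 0), ([0,2,4,3,6,0,3,4,0,6], 0), ([8,8], 0), ([4,8,4,8], 0), ([6,8,6,8,6,8], 0), ([0,6,2,8,6,2,6,8], 0), ([10,10], 0), ([4,10,4,10], 0), ([8,10,8,10], 0), ([0,2,10,1,10], 1), ([6,10,6,10,6,10], 0)]
theorem V0_e_0 : lall (ceq [12] 7 V0_ps) (eqP V0) = true := by decide +kernel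
theorem V0_e : lall (ceq [12] 7 V0_ps) (eqP V0) = true := V0_e_0
theorem V0_cov : Cov V0.g rels (V0.ev [12]) 2 := cov_of V0_ok V0_e 2 2 0 (by decide +kernel) (by decide)
theorem V0_w : ev V0.g (cw (sg 6) [([1,5], [3,10,9], 3)]) = V0.ev [12] := Ctx.eq_of_eqW V0_ok (v := [12]) (by decide +kernel)
theorem pres : ∃ X : ℕ → M24, grp X (sg 6) = (stabilizer M24 (ds D0)) ∧ ∀ r ∈ cw (sg 6) [([1,5], [3,10,9], 3)] :: rels, ev X r = 1 :=
  presM (xs := [124422115413067552060347218601131985813338820913133650176, 345202867873945002668909695776236975490014844134136873216, 271833910169951794875471730631307758018160824868654940416, 247313981595666721162751742608924980252068049274539213056, 565306806313899072864068467828254840587744830152566247936, 566073054044746973281765543676327997328266236950267035906]) (inS0 mSub (ok_of (by decide +kernel)) (sS (m := D0) (by decide)) (by decide +kernel)) st12.card [(0, [[0], [2], [4], [6], [8]]), (1, [[0],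 [2], [4], [6]]), (2, [[0], [2], [4]]), (3, [[0], [2]]), (4, [])] _ (by decide +kernel)
theorem st0 : St ↥(stabilizer M24 (ds D0)) (Multiplicative (ZMod 2)) := by
  obtain ⟨X, h1, h2⟩ := pres
  exact st_cyc bound h1 st12.card.ge (fun r h => h2 r (List.mem_cons_of_mem _ h)) V0_cov _ (h2 _ List.mem_cons_self) V0_w
def c2_t : List (List (List ℕ)) := [[[],[1,3],[2],[3],[4,5],[5]],
  [[],[],[2,4],[3],[4,5],[5]],
  [[],[],[],[3,5],[4,5],[5]],
  [[],[],[],[],[4],[5]],
  [[],[],[],[],[5],[5]],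
  [[],[],[],[],[],[]]]
noncomputable def c2 : PC := ⟨6, 2, 4, 10, 24, 2, 46, 3, 127, fun e => nth (nth c2_t [] (Nat.div e 6)) [] (Nat.mod e 6),
  [(0,[4],[2,3,4]),
  (0,[3],[0,3]),
  (1,[4],[0,1,3,4]),
  (1,[5],[3,5]),
  (0,[0],[0]),
  (0,[5],[5]),
  (1,[1],[1,3,4,5]),
  (1,[3],[5]),
  (1,[0],[1,3,5]),
  (0,[2],[0,2,5])]⟩
def c2_A0 : List (List ℕ × List ℕ × ℕ) := [([2],[1,0],nat_lit 0x4000000000000004000000000000000030000000000000000040000000000000000000000000010000000000),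
  ([3],[2,1],nat_lit 0xc000000000000000010000000000000000000000000004000000000000000000000000000),
  ([3],[2,0],nat_lit 0x4000000000000),
  ([2],[2,1],nat_lit 0xc00000000000000c030000000000000000000000000000030000000000000000000200000000000000000000),
  ([1],[1,0],nat_lit 0xc00000000000000000000000000000c0000000000000000000800),
  ([3],[3,2],nat_lit 0xc00000000000000000000000000000c000000000000000000080000000000000000000000000000000000000),
  ([2],[1,1],nat_lit 0x4000000000000000010000000000000000000000000000000000000000000010000200000000000000000000),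
  ([4],[4,3],nat_lit 0x4020000000000000000000000000000000000000000000000000000000),
  ([1],[0,0],nat_lit 0x40000000000000000000000000000000000000000000040000800),
  ([4],[0,0],nat_lit 0x4000000000000000000000000000000000000000000000000000000000000000000000000004020000000000),
  ([4],[1,1],nat_lit 0x4000000000000000000000000000000000000000000000000000000000004020000000000000000000000000),
  ([3],[2,2],nat_lit 0x4000000000000000000000000000000000000000000004000080000000000000000000000000000000000000),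
  ([4],[2,2],nat_lit 0x4000000000000000000000000000000000000000000004020000000000000000000000000000000000000000),
  ([4],[4,4],nat_lit 0x4000000000000000000000000000000000000000000000000000000000000000000000000),
  ([2],[0,0],nat_lit 0x200000),
  ([3],[0,0],nat_lit 0x80000000),
  ([5],[0,0],nat_lit 0x8000000000000),
  ([3],[1,1],nat_lit 0x80000000000000000000000),
  ([5],[1,1],nat_lit 0x8000000000000000000000000000),
  ([5],[2,2],nat_lit 0x8000000000000000000000000000000000000000000),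
  ([4],[3,3],nat_lit 0x20000000000000000000000000000000000000000000000000000000),
  ([5],[3,3],nat_lit 0x8000000000000000000000000000000000000000000000000000000000)]
theorem c2_hA0 : lall c2_A0 c2.relA = true := by decide +kernel
def c2_B0 : List (ℕ × List ℕ × List ℕ × ℕ) := [(0,[0,1],[1,0],nat_lit 0x40000000000000000000000000000000000400000000000000000000000000300c0300000),
  (1,[2,2],[3],nat_lit 0x4020000000c0000000000000000000000000000000300c000000000000000000000000c030000000c000000300c0000c03),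
  (0,[0,4],[4,0,5],nat_lit 0x40000000000000000000000000000000000000000000000000000000000000000000000000000000000000000000000c0300000),
  (0,[0,0],[5],nat_lit 0x400000000000200c00000000000000c0000000000000000300c00000000000300c0300000000000000000000000000000000000),
  (1,[6,6],[],nat_lit 0x20000000000000000080000000000000000300000000000000300c000000000000000000000000c0300c0000000000000000000000),
  (1,[7,8],[8,7],nat_lit 0xc00000000000000000000000000000c000000000000000000040000000),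
  (1,[8,8],[],nat_lit 0x20000000000000000000000c00000000000000000000000000000c0000c000000000000000000000000c0000c0000c00000000000000001),
  (0,[9,9],[],nat_lit 0x8000000000000000000000000c00000000000000000000000000000000000000000000c00000000000000000000000000000c000000300003),
  (1,[3,3],[],nat_lit 0x8000000000000000000000000000000000000000c0000c0000000000000000000000000000000000000000000000000000),
  (0,[1,1],[],nat_lit 0x8000000000000000000000000000000000000000000000000000000000000000000000000000000000000c0000003),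
  (1,[7,7],[],nat_lit 0x80000000000000000000c000000000000000000000000000000000040000000000000000000000000000000000000000000000000000),
  (0,[4,4],[],nat_lit 0x20000000000000000000000000000000000000000000000000000000000000000000000000000000000000000000000000000),
  (0,[5,5],[],nat_lit 0x8000000000000000000000000000000000000000000000000000000000000000000000000000000000000000000000000000000)]
theorem c2_hB0 : lall c2_B0 c2.relB = true := by decide +kernel
theorem c2_lin : Lin c2 (2 ^ 1) :=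
  ⟨by decide +kernel, c2_A0, c2_B0, _,
  [nat_lit 0x40000400000000000000000000000000000000000000000000000000000000000000000000000000000000000000000000000000000000400,
  nat_lit 0x40100000000000000000000000000000000000000000000000000000000000000000000000000000000000000000000000000000000000400,
  nat_lit 0x1000000000000000000000000000000000000000000000000000000000000000000000000000000000000000400,
  nat_lit 0x400,
  nat_lit 0x100000000000000000000,
  nat_lit 0x802000000000000000000000000000000000000000000000000000000000000000000040000000000000000200000000000000000000],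
  [(nat_lit 0x10000000000000030000000000,2,nat_lit 0x36c6498)],
  [[nat_lit 0xc1200c00011f420be,0,nat_lit 0x100400030203094,nat_lit 0x3000000006010aa,nat_lit 0xc03c000003004d42c,192],
  [nat_lit 0x1700c00011500c3e,0,nat_lit 0x3000000006414aa,nat_lit 0xc03c000003004d42f,nat_lit 0xd000c2],
  [nat_lit 0x31c40000004d339,nat_lit 0xc03c000003044d41a,nat_lit 0xc03c000000004152f,nat_lit 0x39000e8],
  [nat_lit 0x100000000ec30aa,nat_lit 0x30700072,nat_lit 0x9010e8],
  [nat_lit 0xc03c00000301494ed,nat_lit 0x30000000],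
  [nat_lit 0xb00068]],
  c2_hA0, c2_hB0, rfl, by decide +kernel, by decide +kernel, by decide +kernel, by decide +kernel⟩
def c2_x : List ℕ := [271068035110601774770328022133797754111298461179383517696,
  491743655907438320097419985856766814789193000271864660226,
  541644033687081988071344227507173250300962095173131305736,
  271833910169951794875471730631307758018160824868654940416,
  491077661382844183672046445452816096019944611364765565441,
  271067662479066221747684195803282184275397282866005021186,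
  344340478158520740089771710219581241853173002005565801216,
  173276028847485446830226153821400183355887698567727416326]
theorem c2_grp : Grp c2 ↥(stabilizer M24 (ds D0)) :=
  grpM (xs := c2_x) (inS0 mSub (ok_of (by decide +kernel)) (sS (m := D0) (by decide)) (by decide +kernel)) st12.card (by decide)
  [(0,[[6],[0,2,10],[0]]),(1,[[0],[2]]),(3,[])] (by decide +kernel)
def c3_t : List (List (List ℕ)) := [[[],[1,2],[2]],
  [[],[],[2]],
  [[],[],[]]]
noncomputable def c3 : PC := ⟨3, 3, 3, 10, 35, 2, 15, 3, 255, fun e => nth (nth c3_t [] (Nat.div e 3)) [] (Nat.mod e 3),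
  [(0,[1],[0,1,1,2]),
  (1,[1],[1,1,2]),
  (1,[0],[0,0]),
  (1,[2],[2]),
  (0,[0],[0]),
  (0,[2],[2,2])]⟩
def c3_A0 : List (List ℕ × List ℕ × ℕ) := [([1],[0,0,0],nat_lit 0x100000000000000000000)]
theorem c3_hA0 : lall c3_A0 c3.relA = true := by decide +kernel
def c3_B0 : List (ℕ × List ℕ × List ℕ × ℕ) := [(0,[0,0,0],[],nat_lit 0x100000004020000100002),
  (1,[1,2],[2,1,3],nat_lit 0x1000000000200000004000000200000),
  (0,[0,4],[4,0,5],nat_lit 0x100000000000000000000008000000200800),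
  (1,[3,1],[1,3],nat_lit 0x8000000000000),
  (0,[5,4],[4,5],nat_lit 0x200000),
  (1,[2,2,2],[],2)]
theorem c3_hB0 : lall c3_B0 c3.relB = true := by decide +kernel
theorem c3_lin : Lin c3 (3 ^ 0) :=
  ⟨by decide +kernel, c3_A0, c3_B0, _,
  [0,
  0,
  nat_lit 0x100000000000000000000000000000000000],
  [],
  [[729,675,243],
  [nat_lit 0x6fb,81],
  [2]],
  c3_hA0, c3_hB0, rfl, by decide +kernel, by decide +kernel, by decide +kernel, by decide +kernel⟩
def c3_x : List ℕ := [271163067833143411628822634642877198219285442610603032841,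
  516550901264916232971927854977011379032457078673336959746,
  369815597588809905790317554153204696944365258458822151171,
  467991093175530910093012058235313083744636866757525048336,
  541266903471305108724282660598501893144319608484882549776]
theorem c3_grp : Grp c3 ↥(stabilizer M24 (ds D0)) :=
  grpM (xs := c3_x) (inS0 mSub (ok_of (by decide +kernel)) (sS (m := D0) (by decide)) (by decide +kernel)) st12.card (by decide)
  [(0,[[0,4]]),(1,[])] (by decide +kernel)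
end

/-- The Schur multiplier of the Mathieu group M₁₂ (the stabiliser of a dodecad in the automorphism group of the length-24 binary code) is cyclic of order 2; here the Schur multiplier is described through stem extensions, as in the definitions: surjective homomorphisms onto the group from a finite group, whose kernel is central in that finite group and contained in that finite group's commutator subgroup. -/
theorem result : Cfsg.HasCyclicSchurMultiplier ↥Cfsg.Spor.M12 2 := by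
  exact congr_left (st0.cyc (bd_all st12.card [2, 3] [5, 11] (by decide +kernel) (by norm_num)
    (bd2 (bd_of c2_lin c2_grp) (bd_of c3_lin c3_grp)))) (eqv map12)

end Cfsg.Agent.S2035
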