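import Cfsg.Statements.S2061
import Cfsg.Agent.Lib.Spor.M24Cls

set_option autoImplicit false
open Cfsg

namespace Cfsg.Agent.S2061

open Cfsg CA.NatBits CA.OrbBfs CA.CGroup CA.CGConstr CA.CGParts CA.CGCert CA.CGRank CA.CGDec CA.Perm24 CA.Golay
open CA.M24Core CA.M24Sub CA.M24Tools MulAction
open scoped Pointwise
open CA.M24St2 CA.CGFus CA.M24Syl CA.M24Cls

theorem norm_of_gens {K L : Subgroup M24} {l lL : List ℕ} {N N' : ℕ} (hK : St l K N) (hL : St lL L N')
    (h : mG.In (lL.flatMap fun g => l.map (cj24 g)) K) : L ≤ Subgroup.normalizer (K : Set M24) := by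
  refine St.le hL (CG.In.of_forall hL.ok fun c hc g hg => Subgroup.mem_normalizer_fintype fun x hx => ?_)
  rw [← hK.gen] at hx
  refine CG.gen_induction (p := fun x => g * x * g⁻¹ ∈ K) (by simp) (fun d hd a y ha ih => ?_) hx
  obtain ⟨u, hu, e⟩ := h _ (List.mem_flatMap.2 ⟨c, hc, List.mem_map.2 ⟨d, hd, rfl⟩⟩)
  obtain rfl := mG.R_fun e (R_cj hg ha) |>.symm
  have := mul_mem hu ih
  rwa [show g * a * g⁻¹ * (g * y * g⁻¹) = g * (a * y) * g⁻¹ by group] at this

theorem stAB : St [124425871495246041989612171046725198223490810907932231176, 369913624853498245815947812548926586327270457035249095181] (stabilizer M24 (ds D0)) 95040 :=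
  stLe (inS0 mSub (ok_of (l := [124425871495246041989612171046725198223490810907932231176, 369913624853498245815947812548926586327270457035249095181]) (by decide +kernel)) (sS (m := D0) (by decide)) (by decide +kernel)) st12.card.le
    [(0, [[3, 1, 3, 3, 3], [1, 1, 3, 0, 3, 3, 0, 0, 3, 1], [1, 2, 0, 3, 3]]), (5, [[3, 0, 5, 1, 4, 2, 4], [5]]), (1, [[1, 1, 3, 1, 2, 1, 3, 0], [0, 3, 1, 1, 1, 1]]), (2, [[3, 1, 1, 3, 0, 3, 0], [2, 2, 2, 1, 1, 3, 0, 3, 3]]), (4, [])] (by decide +kernel)

theorem clsA : Cls (stabilizer M24 (ds D0)) 5 [124425871495246041989612171046725198223490810907932231176] :=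
  cls_of st12.card (l := [540786483054981187202997612313948206880148070920190951936]) (inS0 mSub (ok_of (l := [540786483054981187202997612313948206880148070920190951936]) (by decide +kernel)) (sS (m := D0) (by decide)) (by decide +kernel))
    (lH := [540786483054981187202997612313948206880148070920190951936]) (inS0 mSub (ok_of (l := [540786483054981187202997612313948206880148070920190951936]) (by decide +kernel)) (sS (m := D0) (by decide)) (by decide +kernel))
    (lP := [124425871495246041989612171046725198223490810907932231176]) (inS0 mSub (ok_of (l := [124425871495246041989612171046725198223490810907932231176]) (by decide +kernel)) (sS (m := D0) (by decide)) (by decide +kernel)) (p := 5) (by norm_num) 1 1 19008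
    [([], 124425871495246041989612171046725198223490810907932231176)] (by decide +kernel)

set_option maxRecDepth 100000 in
theorem clsB : Cls (stabilizer M24 (ds D0)) 2 [369913624853498245815947812548926586327270457035249095181, 418858440692782839358119437002175076871311424257324548616] :=
  cls_of st12.card (l := g12) st12.inn
    (lH := g12c2) (st12c2.inn.mono le12)
    (lP := g12c2) (st12c2.inn.mono le12) (p := 2) (by norm_num) 6 1 1485
    [([], 418858440692782839358119437002175076871311424257324548616), ([3], 369913624853498245815947812548926586327270457035249095181), ([2, 2, 0, 0, 3], 418858440692782839358119437002175076871311424257324548616), ([0, 0], 418858440692782839358119437002175076871311424257324548616), ([3, 0, 3, 3, 1, 1, 1], 369913624853498245815947812548926586327270457035249095181), ([0, 0, 2, 0, 0, 3, 1, 1], 369913624853498245815947812548926586327270457035249095181), ([2, 2, 2, 0, 2, 0, 3, 0, 0, 3, 0], 369913624853498245815947812548926586327270457035249095181)] (by decide +kernel)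

theorem hn : stabilizer M24 (dss DD) ≤ Subgroup.normalizer ((stabilizer M24 (ds D0) : Subgroup M24) : Set M24) :=
  norm_of_gens stAB stDD (inS0 mSub (ok_of (l := (gDD.flatMap fun g => [124425871495246041989612171046725198223490810907932231176, 369913624853498245815947812548926586327270457035249095181].map (cj24 g))) (by decide +kernel)) (sS (m := D0) (by decide)) (by decide +kernel))

set_option maxRecDepth 100000 in

/-- The outer automorphism group of the Mathieu group M₁₂ (the stabiliser of a dodecad in the automorphism group of the length-24 binary code) has order 2. -/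
theorem result : Nat.card (Cfsg.Out ↥Cfsg.Spor.M12) = 2 := by
  exact outM stAB stDD (St.le stAB (inS0 (mSS _) (ok_of (l := [124425871495246041989612171046725198223490810907932231176, 369913624853498245815947812548926586327270457035249095181]) (by decide +kernel)) (sSS (l := DD)) (by decide +kernel))) hn
    (fun g => cent_eq_one st12.inn [[0], [2], [0, 0, 0], [2, 0, 3, 0, 0, 3, 0, 3]] [2112, 8421385, 231532, 32997] [0, 3, 6, 7, 11, 15, 2, 1, 4, 5, 8, 9, 10, 12, 13, 14, 16, 17, 18, 19, 20, 21, 22, 23] (by decide +kernel))
    [([0, 2, 1, 2], 4), ([0, 2, 0, 2], 3), ([0, 0, 2], 6)] [(124425871495246041989612171046725198223490810907932231176, [[], [0], [1], [2], [3], [0, 0], [2, 0], [3, 0], [1, 1], [2, 1], [0, 0, 0], [3, 0, 0], [1, 1, 1], [2, 1, 1], [0, 0, 0, 0], [3, 0, 0, 0], [1, 1, 1, 1], [2, 1, 1, 1], [0, 0, 0, 0, 0], [3, 0, 0, 0, 0]])] [369913624853498245815947812548926586327270457035249095181, 418858440692782839358119437002175076871311424257324548616]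
    (lL' := [270205239103609558421393944274226320288786202649678577676, 98271295626211104473828531116659465563260880476464941841]) (inS0 (mSS _) (ok_of (l := [270205239103609558421393944274226320288786202649678577676, 98271295626211104473828531116659465563260880476464941841]) (by decide +kernel)) (sSS (l := DD)) (by decide +kernel))
    (fun a ha => clsA.aut (fun e => absurd ((R_eq_iff ha R_one).1 e) (by decide +kernel))
      ((R_eq_iff (R_pow ha 5) R_one).2 (by decide +kernel)))
    (fun b hb => clsB.aut (fun e => absurd ((R_eq_iff hb R_one).1 e) (by decide +kernel))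
      ((R_eq_iff (R_pow hb 2) R_one).2 (by decide +kernel))) 2 (by decide +kernel) (eqv map12)

end Cfsg.Agent.S2061
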