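import Cfsg.Statements.S2068
import Cfsg.Agent.Lib.Spor.J4U3
import Cfsg.Agent.Lib.Spor.J4G

set_option autoImplicit false
open Cfsg

namespace Cfsg.Agent.S2068

/-- The outer automorphism group of the Janko group J₄ (the finitely presented group of the definitions) is trivial: every automorphism is inner. -/
theorem result : Nat.card (Cfsg.Out Cfsg.Spor.J4) = 1 := by
  obtain ⟨G, _, _, γ, hE, hN, hT⟩ := CA.J4T.data
  let b : ℕ → G := fun i => CA.CWord.ev γ (CA.CWord.nth CA.J4T.σ [] i)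
  obtain ⟨φ, -, h6⟩ := CA.J4Rel.enc.hom' (g := b) fun r hr =>
    (CA.CWord.ev_subst _ _ _).symm.trans (hE _ [] (CA.CWord.lall_iff.1 CA.J4T.hrels r hr))
  have cJ := CA.J4G.isJ4.2
  haveI : Finite Cfsg.Spor.J4 := Nat.finite_of_card_ne_zero (by rw [cJ]; decide)
  have a4 : Function.Surjective φ := by
    rw [← MonoidHom.range_eq_top, MonoidHom.range_eq_map, ← CA.J4Rel.enc.top [[0], [2], [4]] (by decide), h6 _ (by decide),
      ← CA.CTodd.grp_lmap_subst]
    exact hT
  let e := MulEquiv.ofBijective φ (a4.bijective_of_nat_card_le (cJ.trans (CA.J4Ord.main hE hN hT).2.symm).le)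
  refine Nat.card_eq_one_iff_unique.2 ⟨⟨fun a b => ?_⟩, ⟨1⟩⟩
  have h : ∀ a : Cfsg.Out Cfsg.Spor.J4, a = 1 := fun a => by
    obtain ⟨α, rfl⟩ := QuotientGroup.mk_surjective a
    obtain ⟨x, hx⟩ := CA.J4U3.inner hE hN hT ((e.symm.trans α).trans e)
    refine (QuotientGroup.eq_one_iff _).2 ⟨e.symm x, MulEquiv.ext fun y => e.injective ?_⟩
    simpa using (hx (e y)).symm
  rw [h a, h b]

end Cfsg.Agent.S2068
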