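import Cfsg.Statements.S2069
import Cfsg.Agent.Lib.Spor.LeechOut

set_option autoImplicit false
open Cfsg

namespace Cfsg.Agent.S2069

open Cfsg CA.NatBits CA.OrbBfs CA.CGroup CA.CGConstr CA.CGParts CA.CGCert CA.CGDec CA.CGFus CA.CGOut CA.Leech CA.LeechCen
open MulAction
open scoped Pointwise
open CA.LeechOut

set_option Elab.async false
set_option maxRecDepth 100000
set_option maxHeartbeats 4000000

/-- an element of order 6 centralizing `cBe` -/
def cr : ℕ := 1731679542699784709130843833486520106841074939687470305483038755671319648551633315901905474477350629966859630533620723853297951444892135843547486924312874200285818703069854520868180867151458236552102402188780032768986403544007577852632967460751391721308893395983725657641907345969474861626349240359803858265806684750716655919165339357843899100669528650422909783114221845559579235384191219642214263714114284708953314979980806180808426273722491865067990847926847726278792674153272799516120228126586590614573707833367647299458629261365373139969305475098349497860913255699778305331305312505677939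224227861572770140083014887541203409423948300479642771190773462806065396706159942610574939418944581532532122788777806622665321507979324986609746881000939502772262546874952818440850632084479242192107992286884695104562692894757313903868007371789441578422726787941212422378913466797704672274656441614135863930970512611561232945786511446449979852594024666113316897132945524129902416597570340273000887990166299008871850692164845379998910610737179594903757919956623813542333554670106958139984465795298801815582575646778600151453102842109793850760262503755651207973061495163632167944433676970466587967334495205571294263503074192521440286540305025633765402121974731666319539536967800699016768729284313395459010517134059096935341441312801404481985704315315222971402938102068571481064616072130858327117104892298195198681692212305296271088225439706709693952717437173709398364051731766808593811247057768265129499404042012451612664066428392514078685406728679776776049690239645384194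
/-- a further element centralizing `cBe` -/
def cq : ℕ := 173167954269978470913084383348652010684107493968747030534179205245737704486811234920029074111046101244840551885225191525685639334675560313339625205371474827521395179003548246280187277684635705881507927923617973655390069336910122079383386401590680225652866554496004168326238225291572889945663777157871842697222525208390572179863301314049844668622455682612534082482288812152752517371486755347917091764031265410786609770704516842284088593907085683117631470303398224131806427162830376370469176847213159962753090034165453617497055437330429651505666573122999254327875593295023485346475585994688660825076525298382549370674643782563661947466963856635628857303891735509538658650493642122088040169958353945372990173957070649635365537003246670791763424313717184322763627209943617924690795887964635116866019124723954197817483683902484703257990827038453288423664548568553084957044785348046974633107280147939849481558038010884228868078797003575887361530684698830427094376220370568886169334310352077717907549245180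9863193150880357770146980894247177322790438019139992150744165457052885197953815583009613253260227173414006416260345235640248118755349099460921573516792378796132925574349863893541440653724480359890770379035805405193367397063880746565800330087568977619432345475113197572898151258010746059678042972986495470200699684449932186693638943025078367402443536058209228161357851049095518931762071620194670348411163345867173851406618833164049377781123358423228436875133712216555659031282161313100602090648293074843208029887865572349829430602618315030473379405491384378065406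
theorem ok_cr : cG.Ok [cr] := cG_ok (by decide +kernel)
theorem ok_cq : cG.Ok [cq] := cG_ok (by decide +kernel)
theorem ok3 : cG.Ok [cX, cBe, cr] := ok_cons ok_cX (ok_cons ok_cBe ok_cr)
theorem okC : cG.Ok [cBe, cr, cq] := ok_cons ok_cBe (ok_cons ok_cr ok_cq)
theorem okN : cG.Ok [cT2, cBe, cr, cq] := ok_cons ok_cT2 okC
theorem hx : cG.R cX (el cX) := el_R ok_cX (by simp)
theorem hy : cG.R cBe (el cBe) := el_R ok_cBe (by simp)
theorem hr : cG.R cr (el cr) := el_R ok_cr (by simp)
theorem ht : cG.R cT2 (el cT2) := el_R ok_cT2 (by simp)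
theorem ox : orderOf (el cX) = 23 := orderOf_R hx (by norm_num) (by decide +kernel)
theorem oy : orderOf (el cBe) = 11 := orderOf_R hy (by norm_num) (by decide +kernel)

theorem low : (mapK (evalW cG.mul cG.inv cG.one [cX, cBe, cr]) [[4, 0, 2, 4, 0, 4, 4, 4, 4, 0, 4, 0, 2, 0, 2], [4, 4, 4, 4, 4, 2, 2, 4, 2, 0, 0]] fun l => fixOK [cU] l &&
    lowP [(cW, [[2, 0, 2, 2, 0, 2, 0, 0, 0, 2, 0, 0, 0, 0, 2], [0, 0, 0, 0, 0, 2, 0, 0, 2, 2, 0, 0, 2, 2, 2, 0, 0, 2, 0]]), (172312599580721640655490250248703305436726595677808167173, [[0, 2, 0, 0, 0, 2, 0, 0, 0, 0, 2, 2, 0, 2, 2, 0, 0], [0, 2, 2, 2, 2, 2, 0, 2, 0, 2, 0, 2, 0, 2, 0, 0]]), (123272742273013197188023104815071786369053941417581676295, [[2, 0, 0], [2, 2, 0, 0, 0, 2, 0], [0, 0, 2, 0, 2, 2, 2]]), (172312596669091571817715096883627126013534452915930335493, [[4, 2, 2, 4, 0, 2, 0, 2], [2, 4, 0], [0, 4, 4, 2, 4, 0, 2], [2, 0, 0, 2, 4, 2, 0]]), (148080386529383894354111290862570611732347631581570663942, [[0, 2, 2, 0, 6, 6, 4], [4, 6, 4, 0, 2], [6, 4, 6, 0], [4, 4], [0, 4, 0]]), (123272739350009922526227653159877933508949907929387435783,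 [[0, 2, 6, 6, 6], [4, 6], [0, 8, 6], [2, 0, 6], [8, 6, 0, 4, 4], [0, 6, 8], [0, 2], [0, 4, 2]]), (172312599592094845801614614718033133952788506302556342533, [[2, 10, 4, 4, 8, 12], [8, 12, 14, 2], [4, 8, 4, 6, 10, 12, 10, 2], [8, 10, 4, 2, 0]]), (123465049581456297150669625434254533053721451081039808263, [[0, 4, 6], [4, 6, 2, 4, 6, 0], [0, 4]]), (123272739361383302574809470941593455730276747277710722823, [[0, 4, 4, 4, 0], [0, 4, 2, 0]]), (123465049592874453597453861279655290994147214264082434311, [[0, 0, 0, 2]]), (147889572875613971669110577048154611509218635272694532102, [])] l 42305421312000) = true := by decide +kernel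

theorem gen : qG.gen [cX, cBe, cr] = ⊤ := by
  refine q_gen ok3 ?_ (c := cr) (by simp) (by decide +kernel)
  have h := low
  rw [mapK_eq, Bool.and_eq_true] at h
  have h1 := in_words ok3.in_gen [[4, 0, 2, 4, 0, 4, 4, 4, 4, 0, 4, 0, 2, 0, 2], [4, 4, 4, 4, 4, 2, 2, 4, 2, 0, 0]]
  have h2 := (lowP_spec h.2 (in_St h1.ok h.1) card_Co2.le).1
  exact le_of_eq_of_le h2.symm h1.gen_le

theorem fixx {z : LL} (hz : sqNorm (z : V) = 32) (h : el cX • z = z) : z = vU ∨ z = -vU := by
  have key : ∀ {k : ℤ} {n N : ℕ}, Tr [vU] [k] n → dotInt (vU : V) z = k → 42305421312000 = n * N → 0 < n →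
      ¬ 23 ∣ N → False := fun {k n N} hT hk e hn hN => by
    have h1 := hT.card_St (mem_Cl1.2 ⟨hz, hk⟩)
    rw [card_Co2, e] at h1
    refine hN ?_
    rw [Nat.eq_of_mul_eq_mul_left hn h1, ← ox]
    exact Subgroup.orderOf_dvd_natCard _ (mem_St2.2 ⟨mem_St1.1 (el_mem in2 (by simp)), h⟩)
  have := vals sqU hz
  simp only [List.mem_cons, List.not_mem_nil, or_false] at this
  rcases this with e | e | e | e | e | e | e
  · exact Or.inl (eq_of_dot sqU hz e)
  · exact Or.inr (eq_of_dot (v := -vU) (by rw [AddSubgroup.coe_neg, sq_neg, sqU]) hz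
      (by rw [AddSubgroup.coe_neg, dot_neg_left, e]; rfl))
  · exact (key (N := 9196830720) T16 e rfl (by norm_num) (by norm_num)).elim
  · exact (key (N := 9196830720) T16.neg e rfl (by norm_num) (by norm_num)).elim
  · exact (key (N := 898128000) T8 e rfl (by norm_num) (by norm_num)).elim
  · exact (key (N := 898128000) T8.neg e rfl (by norm_num) (by norm_num)).elim
  · exact (key (N := 454164480) T0 e rfl (by norm_num) (by norm_num)).elim

theorem cenx (c : Co0) (hc : c * el cX = el cX * c) : c ∈ Subgroup.zpowers (el cX) ∨ ng * c ∈ Subgroup.zpowers (el cX) := by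
  have h1 : el cX • vU = vU := mem_St1.1 (el_mem in2 (by simp))
  rw [← gen_one hx, cen2x]
  refine (fixx (z := c • vU) (by rw [sq_smul, sqU]) (by rw [← mul_smul, ← hc, mul_smul, h1])).imp
    (fun e => ⟨mem_St1.2 e, (mem_Cz1 hx).2 hc⟩) fun e => ⟨mem_St1.2 ?_, (mem_Cz1 hx).2 ?_⟩
  · rw [mul_smul, e, ng_smul, neg_neg]
  · rw [mul_assoc, hc, ← mul_assoc, ← ng_comm, mul_assoc]

theorem orbN : orb cA.act [cT2, cBe, cr, cq] (sc cU) (fun t n => Nat.beq n 12 &&
    allL [cA.act cNg (sc cU), sc 123465052515833126088308287034744663228163366236142896903, sc 221544767131250013023242496772364450979762670055893436171, sc 221544767131294615194204332583799991156553721569318865157, sc 172312596657673589595492258676288882010652894553914672907, sc 295008396509900989329782505367664224335202611881367308292] t.mem) = true := by decide +kernel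

theorem fixy {z : LL} (hz : sqNorm (z : V) = 32) (h : el cBe • z = z) : z ∈ orbit (cG.gen [cBe, cr, cq]) vU := by
  obtain ⟨t, n, h1, h2⟩ := orb_spec okN (ok_S okU) orbN
  rw [Bool.and_eq_true, beq_iff, allL_iff] at h1
  have h3 : orbit (cG.gen [cBe, cr, cq]) vU = orbit (cG.gen [cT2, cBe, cr, cq]) vU :=
    Set.eq_of_subset_of_ncard_le ((inv_orbit (CG.gen_mono fun _ => List.mem_cons_of_mem _) vU).orbit_subset
      (mem_orbit_self _)) (by
        rw [h2.ncard, h1.1, orb_ncard okC (ok_S okU) (N := 12) (by decide +kernel)]) (Set.finite_range _)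
  rw [h3]
  have key : ∀ {k : ℤ} {n : ℕ} (p : ℕ), Tr [vU] [k] n → dotInt (vU : V) z = k → t.mem (sc p) = true →
      (clOK [cU] [k] p && Nat.beq (cA.act cBe (sc p)) (sc p)) = true →
      z ∈ orbit (cG.gen [cT2, cBe, cr, cq]) vU := fun {k n} p hT hk hp e => by
    rw [Bool.and_eq_true, beq_iff] at e
    have h4 := clOK_S e.1
    obtain ⟨a, ha, h5, h6⟩ := fix_subset (K := St [vU]) (by norm_num) oy (el_mem in2 (by simp))
      (by rw [card_Co2]; norm_num) (x := vec p) (cA.S_fun (e.2 ▸ cA.S_act hy h4) h4)
      ((hT.orbit_eq (mem_Cl e.1)).symm ▸ mem_Cl1.2 ⟨hz, hk⟩) h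
    obtain ⟨j, h7⟩ := norm_cent (m := 8) (by norm_num) oy
      ((cjE_iff eqC0 ht hy (R_powC hy 8)).1 (by decide +kernel)) (by decide) h5
    have h8 : (el cT2 ^ j)⁻¹ * a ∈ cG.gen [cBe] := by
      rw [cen2y]
      exact ⟨Subgroup.mul_mem _ (Subgroup.inv_mem _ (Subgroup.pow_mem _ (el_mem in2 (by simp)) j)) ha, (mem_Cz1 hy).2 h7⟩
    have h9 : a ∈ cG.gen [cT2, cBe, cr, cq] := by
      simpa using mul_mem (pow_mem (CG.mem_gen (l := [cT2, cBe, cr, cq]) (by simp) ht) j)
        (CG.gen_mono (by simp) h8)
    rw [← inv_smul_smul a z, h6]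
    exact inv_orbit le_rfl vU _ (inv_mem h9) _ ((h2.mem_iff h4).2 hp)
  have := vals sqU hz
  simp only [List.mem_cons, List.not_mem_nil, or_false] at this
  rcases this with e | e | e | e | e | e | e
  · rw [eq_of_dot sqU hz e]; exact mem_orbit_self _
  · rw [eq_of_dot (v := -vU) (by rw [AddSubgroup.coe_neg, sq_neg, sqU]) hz
      (by rw [AddSubgroup.coe_neg, dot_neg_left, e]; rfl), ← ng_smul]
    exact (h2.mem_iff (cA.S_act R_ng (ok_S okU))).2 (h1.2 _ (by simp))
  · exact key 123465052515833126088308287034744663228163366236142896903 T16 e (h1.2 _ (by simp)) (by decide +kernel)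
  · exact key 221544767131250013023242496772364450979762670055893436171 T16.neg e (h1.2 _ (by simp)) (by decide +kernel)
  · exact key 221544767131294615194204332583799991156553721569318865157 T8 e (h1.2 _ (by simp)) (by decide +kernel)
  · exact key 172312596657673589595492258676288882010652894553914672907 T8.neg e (h1.2 _ (by simp)) (by decide +kernel)
  · exact key 295008396509900989329782505367664224335202611881367308292 T0 e (h1.2 _ (by simp)) (by decide +kernel)

theorem ceny (c : Co0) (hc : c * el cBe = el cBe * c) : c ∈ cG.gen [cBe, cr, cq] := by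
  have h1 : el cBe • vU = vU := mem_St1.1 (el_mem in2 (by simp))
  obtain ⟨a, ha, e⟩ := mem_orbit_sub.1
    (fixy (z := c • vU) (by rw [sq_smul, sqU]) (by rw [← mul_smul, ← hc, mul_smul, h1]))
  have h2 : cG.gen [cBe, cr, cq] ≤ Cz cG [cBe] := (CG.In.of_forall okC fun d hd g hg => (mem_Cz1 hy).2
    (mul_inv_eq_iff_eq_mul.1 ((cjE_iff eqC0 hg hy hy).1
      (allL_iff.1 (show allL [cBe, cr, cq] (fun d => cjE cG.mul Nat.beq d cBe cBe) = true by decide +kernel) d hd)))).gen_le
  have h3 : a⁻¹ * c ∈ cG.gen [cBe] := by
    rw [cen2y]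
    exact ⟨mem_St1.2 (by rw [mul_smul, ← e, inv_smul_smul]), Subgroup.mul_mem _ (Subgroup.inv_mem _ (h2 ha)) ((mem_Cz1 hy).2 hc)⟩
  simpa using mul_mem ha (CG.gen_mono (l' := [cBe, cr, cq]) (by simp) h3)

theorem chk : (orb cG.mul [cBe, cr, cq] cG.one fun t _ => mapK (evalW cG.mul cG.inv cG.one [cX, cBe, cr]) [[], [2], [2, 2], [2, 2, 2], [2, 2, 2, 2], [2, 2, 2, 2, 2], [2, 2, 2, 2, 2, 2], [2, 2, 2, 2, 2, 2, 2], [2, 2, 2, 2, 2, 2, 2, 2], [2, 2, 2, 2, 2, 2, 2, 2, 2], [2, 2, 2, 2, 2, 2, 2, 2, 2, 2]] fun gs =>
    autChk cG.mul cG.inv cG.one eqQ cX cBe cr 22 [([2], 3)] [([0, 2, 4, 4], 10), ([0, 2, 4, 0, 4], 12)] gs t.keys) = true := by decide +kernel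

/-- The outer automorphism group of the Conway group Co₁ (the automorphism group of the rank-24 lattice modulo its centre) is trivial: every automorphism is inner. -/
theorem result : Nat.card (Cfsg.Out Cfsg.Spor.Co1) = 1 := by
  refine card_out_one Subgroup.topEquiv fun φ => ?_
  obtain ⟨l, h1, -, h2⟩ := enum_spec R_inj okC (k := fun l _ => mapK (evalW cG.mul cG.inv cG.one [cX, cBe, cr]) [[], [2], [2, 2], [2, 2, 2], [2, 2, 2, 2], [2, 2, 2, 2, 2], [2, 2, 2, 2, 2, 2], [2, 2, 2, 2, 2, 2, 2], [2, 2, 2, 2, 2, 2, 2, 2], [2, 2, 2, 2, 2, 2, 2, 2, 2], [2, 2, 2, 2, 2, 2, 2, 2, 2, 2]]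
    fun gs => autChk cG.mul cG.inv cG.one eqQ cX cBe cr 22 [([2], 3)] [([0, 2, 4, 4], 10), ([0, 2, 4, 0, 4], 12)] gs l) chk
  rw [mapK_eq] at h1
  let f : Co0 →* (⊤ : Subgroup Spor.Co1) := Subgroup.topEquiv.symm.toMonoidHom.comp (QuotientGroup.mk' _)
  have hf : ∀ a, ∃ b, f b = a := fun a => by
    obtain ⟨b, hb⟩ := QuotientGroup.mk_surjective (a : Spor.Co1)
    exact ⟨b, Subtype.ext hb⟩
  have hz : ∀ {a b : Co0}, a ∈ Subgroup.zpowers b → f a ∈ Subgroup.zpowers (f b) := by
    rintro _ b ⟨n, rfl⟩
    exact ⟨n, (map_zpow f b n).symm⟩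
  have hc : ∀ {a b : Co0} {n : ℕ}, orderOf b = n → Odd n → f a * f b = f b * f a → a * b = b * a :=
    fun hb hn e => q_comm (hb ▸ pow_orderOf_eq_one _) hn (congrArg Subtype.val e)
  have := Fact.mk (show Nat.Prime 23 by norm_num)
  obtain ⟨k, -, g, -, h⟩ := autChk_spec eqC1 (x := f (el cX)) (y := f (el cBe)) (t := f (el cr)) ⟨_, hx, rfl⟩
    ⟨_, hy, rfl⟩ ⟨_, hr, rfl⟩ gen (p := 23) (by norm_num)
    (orderOf_eq_prime (by rw [← map_pow, ← ox, pow_orderOf_eq_one, map_one]) fun e =>
      absurd ((eqC1 (a := cX) ⟨_, hx, rfl⟩ qG.R_one).2 (congrArg Subtype.val e)) (by decide +kernel))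
    (by rw [Subgroup.card_top, card_Co1]; norm_num)
    (by rw [← map_inv, ← map_mul, ← map_mul]; exact hz (conj_pow_R (n := 2) hy hx (by decide +kernel)))
    (fun e => absurd ((cjE_iff eqC0 hy hx hx).2 (mul_inv_eq_iff_eq_mul.2 (hc ox (by decide) e))) (by decide +kernel))
    (fun c e => by
      obtain ⟨c, rfl⟩ := hf c
      rcases cenx c (hc ox (by decide) e) with h | h
      · exact hz h
      · exact (show f (ng * c) = f c from Subtype.ext (mk_ng c)) ▸ hz h)
    (by rw [← map_inv, ← map_mul, ← map_mul]; exact hz (conj_pow_R (n := 1) hr hy (by decide +kernel)))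
    (fun c e => by
      obtain ⟨c, rfl⟩ := hf c
      obtain ⟨a, ha, hR⟩ := h2 c (ceny c (hc oy (by decide) e))
      exact ⟨a, ha, c, hR, rfl⟩)
    (L := Set.univ) (List.forall_mem_map.2 fun w _ => by
      obtain ⟨g, -, hg⟩ := evalW_mem ok3.top w
      exact ⟨_, trivial, g, hg, rfl⟩) h1 φ
  exact ⟨⟨k * g, trivial⟩, fun a => Subtype.ext (by rw [h]; simp [mul_assoc])⟩

end Cfsg.Agent.S2069
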