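import Cfsg.Statements.S2070
import Cfsg.Agent.Lib.Spor.LeechOut

set_option autoImplicit false
open Cfsg

namespace Cfsg.Agent.S2070

open Cfsg CA.NatBits CA.OrbBfs CA.CGroup CA.CGConstr CA.CGParts CA.CGCert CA.CGDec CA.CGFus CA.CGOut CA.Leech CA.LeechCen
open MulAction
open scoped Pointwise
open CA.LeechOut

set_option Elab.async false
set_option maxRecDepth 100000
set_option maxHeartbeats 4000000

/-- The outer automorphism group of the Conway group Co₂ (the stabiliser of a minimal vector of the rank-24 lattice) is trivial: every automorphism is inner. -/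
theorem result : Nat.card (Cfsg.Out ↥Cfsg.Spor.Co2) = 1 := by
  exact out_one (aut_St (K := St ([cU].map vec)) in2 gen2 card_Co2 (p := 23) (by norm_num) (by norm_num) cen2x ok_cBe cen2y 2 8 (lL := [cX, cBe, cT2]) [[], [2], [2, 2], [2, 2, 2], [2, 2, 2, 2], [2, 2, 2, 2, 2], [2, 2, 2, 2, 2, 2], [2, 2, 2, 2, 2, 2, 2], [2, 2, 2, 2, 2, 2, 2, 2], [2, 2, 2, 2, 2, 2, 2, 2, 2], [2, 2, 2, 2, 2, 2, 2, 2, 2, 2]]
    (words_L in2 _) [([2], 10)] [([0, 2, 2, 4, 4], 5)] (by decide +kernel)) (eMap Co2_eq)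

end Cfsg.Agent.S2070
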