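import Cfsg.Statements.S2071
import Cfsg.Agent.Lib.Spor.LeechOut

set_option autoImplicit false
open Cfsg

namespace Cfsg.Agent.S2071

open Cfsg CA.NatBits CA.OrbBfs CA.CGroup CA.CGConstr CA.CGParts CA.CGCert CA.CGDec CA.CGFus CA.CGOut CA.Leech CA.LeechCen
open MulAction
open scoped Pointwise
open CA.LeechOut

set_option Elab.async false
set_option maxRecDepth 100000
set_option maxHeartbeats 4000000

/-- an involution centralizing `cBe` -/
def ct : ℕ := 17316795426997847091308438334865201068410749396874703053417920524573770448681123492002907411104610124484055188522519152568563933467556222676966682682510087452887302564741174249069710495558971244111030523432168933894468446652753819427894977777994068233916469689280527327127999103626714009019546691255797987818101890848205722887263300068701925775402434834506115243344333612515782062061231737946780158680037837342158349038399331952778887387912525157965249128885834794679621764835524330811794632532933586252233489369400639145488697242141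02333459163425913488614516549180271929363646587719754557028500885463930315411784021069039199651413503003150408644694285553398702746568944065303357181450085159847187319289127254999943785295341156594132069383990201464768432164263129207947529927320499197466073348565435084952764093285639805726525259578172405436671681347065718484109553476182923703371602325345749359167704397637852607494074107874868674797145838505358128684521730811148180377313500007567044929621595503930185308423408925546640195189837817512383003002676940299675904595637088865274904040564963006303779174318611815327106861366934125460648846833873689040275998571017901703976225224493387523163686250262783531361257685060710119361801383162690400169150213821725352999246622157544500909478175113256609935201248597804577511513811686496928243590668009531221038974135943139652996838990095692328869853702345558386337194944863673665934202062604783842575482708997613891740192518375322667794378931880293781807708939690184463481547129309963634479454526066532477420725258655236606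
theorem ok_ct : cG.Ok [ct] := cG_ok (by decide +kernel)

theorem cenx : cG.gen [cAl] = St ([cV].map vec) ⊓ Cz cG [cAl] :=
  cen_eq ok_g3' gen_g3 ok_cAl ok_cAl cU ((List.range' 1 22).map (List.replicate · 0))
    [cU]
    [(9, 123465052515877728259270122846180203404954417749568325897, 123465052515877728259270122846180203404954417749568325897, [(-1), (-1), (-1), (-1), (-1), (-1), (-1), (-1), (-1), (-1), (-1), (-1), (-1), (-1), (-1), (-1), (-1), (-1), (-1), (-1), (-1), (-1), (-1), (-13)])]
    [[22, 0], [22, 1], [0, 1], [1, 1], [2, 1], [3, 1], [4, 1], [5, 1], [6, 1], [7, 1], [8, 1], [9, 1], [10, 1], [11, 1], [12, 1], [13, 1], [14, 1], [15, 1], [16, 1], [17, 1], [18, 1], [19, 1], [20, 1], [21, 1]]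
    [(9, [(-4), 17, (-1), (-1), (-1), (-1), (-1), (-1), (-1), (-1), (-1), (-1), (-1), (-1), (-1), (-1), (-1), (-1), (-1), (-1), (-1), (-1), (-1), (-1)]),
     (9, [(-4), (-1), 17, (-1), (-1), (-1), (-1), (-1), (-1), (-1), (-1), (-1), (-1), (-1), (-1), (-1), (-1), (-1), (-1), (-1), (-1), (-1), (-1), (-1)]),
     (9, [(-4), (-1), (-1), 17, (-1), (-1), (-1), (-1), (-1), (-1), (-1), (-1), (-1), (-1), (-1), (-1), (-1), (-1), (-1), (-1), (-1), (-1), (-1), (-1)]),
     (9, [(-4), (-1), (-1), (-1), 17, (-1), (-1), (-1), (-1), (-1), (-1), (-1), (-1), (-1), (-1), (-1), (-1), (-1), (-1), (-1), (-1), (-1), (-1), (-1)]),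
     (9, [(-4), (-1), (-1), (-1), (-1), 17, (-1), (-1), (-1), (-1), (-1), (-1), (-1), (-1), (-1), (-1), (-1), (-1), (-1), (-1), (-1), (-1), (-1), (-1)]),
     (9, [(-4), (-1), (-1), (-1), (-1), (-1), 17, (-1), (-1), (-1), (-1), (-1), (-1), (-1), (-1), (-1), (-1), (-1), (-1), (-1), (-1), (-1), (-1), (-1)]),
     (9, [(-4), (-1), (-1), (-1), (-1), (-1), (-1), 17, (-1), (-1), (-1), (-1), (-1), (-1), (-1), (-1), (-1), (-1), (-1), (-1), (-1), (-1), (-1), (-1)]),
     (9, [(-4), (-1), (-1), (-1), (-1), (-1), (-1), (-1), 17, (-1), (-1), (-1), (-1), (-1), (-1), (-1), (-1), (-1), (-1), (-1), (-1), (-1), (-1), (-1)]),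
     (9, [(-4), (-1), (-1), (-1), (-1), (-1), (-1), (-1), (-1), 17, (-1), (-1), (-1), (-1), (-1), (-1), (-1), (-1), (-1), (-1), (-1), (-1), (-1), (-1)]),
     (9, [(-4), (-1), (-1), (-1), (-1), (-1), (-1), (-1), (-1), (-1), 17, (-1), (-1), (-1), (-1), (-1), (-1), (-1), (-1), (-1), (-1), (-1), (-1), (-1)]),
     (9, [(-4), (-1), (-1), (-1), (-1), (-1), (-1), (-1), (-1), (-1), (-1), 17, (-1), (-1), (-1), (-1), (-1), (-1), (-1), (-1), (-1), (-1), (-1), (-1)]),
     (9, [(-4), (-1), (-1), (-1), (-1), (-1), (-1), (-1), (-1), (-1), (-1), (-1), 17, (-1), (-1), (-1), (-1), (-1), (-1), (-1), (-1), (-1), (-1), (-1)]),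
     (9, [(-4), (-1), (-1), (-1), (-1), (-1), (-1), (-1), (-1), (-1), (-1), (-1), (-1), 17, (-1), (-1), (-1), (-1), (-1), (-1), (-1), (-1), (-1), (-1)]),
     (9, [(-4), (-1), (-1), (-1), (-1), (-1), (-1), (-1), (-1), (-1), (-1), (-1), (-1), (-1), 17, (-1), (-1), (-1), (-1), (-1), (-1), (-1), (-1), (-1)]),
     (9, [(-4), (-1), (-1), (-1), (-1), (-1), (-1), (-1), (-1), (-1), (-1), (-1), (-1), (-1), (-1), 17, (-1), (-1), (-1), (-1), (-1), (-1), (-1), (-1)]),
     (9, [(-4), (-1), (-1), (-1), (-1), (-1), (-1), (-1), (-1), (-1), (-1), (-1), (-1), (-1), (-1), (-1), 17, (-1), (-1), (-1), (-1), (-1), (-1), (-1)]),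
     (9, [(-4), (-1), (-1), (-1), (-1), (-1), (-1), (-1), (-1), (-1), (-1), (-1), (-1), (-1), (-1), (-1), (-1), 17, (-1), (-1), (-1), (-1), (-1), (-1)]),
     (9, [(-4), (-1), (-1), (-1), (-1), (-1), (-1), (-1), (-1), (-1), (-1), (-1), (-1), (-1), (-1), (-1), (-1), (-1), 17, (-1), (-1), (-1), (-1), (-1)]),
     (9, [(-4), (-1), (-1), (-1), (-1), (-1), (-1), (-1), (-1), (-1), (-1), (-1), (-1), (-1), (-1), (-1), (-1), (-1), (-1), 17, (-1), (-1), (-1), (-1)]),
     (9, [(-4), (-1), (-1), (-1), (-1), (-1), (-1), (-1), (-1), (-1), (-1), (-1), (-1), (-1), (-1), (-1), (-1), (-1), (-1), (-1), 17, (-1), (-1), (-1)]),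
     (9, [(-4), (-1), (-1), (-1), (-1), (-1), (-1), (-1), (-1), (-1), (-1), (-1), (-1), (-1), (-1), (-1), (-1), (-1), (-1), (-1), (-1), 17, (-1), (-1)]),
     (9, [(-4), (-1), (-1), (-1), (-1), (-1), (-1), (-1), (-1), (-1), (-1), (-1), (-1), (-1), (-1), (-1), (-1), (-1), (-1), (-1), (-1), (-1), 17, (-1)]),
     (9, [(-4), (-1), (-1), (-1), (-1), (-1), (-1), (-1), (-1), (-1), (-1), (-1), (-1), (-1), (-1), (-1), (-1), (-1), (-1), (-1), (-1), (-1), (-1), 17]),
     (9, [4, 1, 1, 1, 1, 1, 1, 1, 1, 1, 1, 1, 1, 1, 1, 1, 1, 1, 1, 1, 1, 1, 1, 1])]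
    cU (by decide +kernel) (by decide +kernel)

theorem ceny : cG.gen [cBe, ct] = St ([cV].map vec) ⊓ Cz cG [cBe] :=
  cen_eq ok_g3' gen_g3 ok_cBe (ok_cons ok_cBe ok_ct) cU ((List.range' 1 10).map (List.replicate · 0))
    [245968542125195820524131662064762690702206137437491169288, 270583876150164745239377317165975524813820855746398980359, 245968539202192720770110453852796800231398023287886317578]
    [(69, 123465052515877728259270122846180203404954417749568325897, 123465052515877728259270122846180203404954417749568325897, [(-9), (-73), (-265), 263, 7, (-25), 247, (-41), 199, 183, (-233), 20, 244, (-188), (-12), 148, (-108), 228, 132, (-156), 84, (-300), 368, 0, 0, 0, 0, 0, 0, 0, 0, 0, 0, 345])]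
    [[10, 0], [10, 1], [0, 1], [1, 1], [2, 1], [3, 1], [4, 1], [5, 1], [6, 1], [7, 1], [8, 1], [9, 1], [10, 2], [0, 2], [1, 2], [2, 2], [3, 2], [4, 2], [5, 2], [6, 2], [7, 2], [8, 2], [9, 2], [10, 3]]
    [(33, [0, (-41), 36, (-129), 69, 25, (-19), (-63), 14, 91, (-74), 3, 9, (-2), (-13), 97, (-35), (-46), (-57), 53, 42, (-90), 20, 121]),
     (33, [0, 7, 18, (-15), (-15), 7, 29, (-15), (-4), 7, 40, (-15), 21, 10, (-1), (-23), 43, 32, (-45), (-1), (-12), (-12), (-34), (-11)]),
     (3, [0, (-1), 0, 3, (-3), (-1), 1, 3, (-2), (-1), 2, 3, (-3), 2, 1, (-1), (-1), 4, 3, (-5), 0, 0, (-2), (-1)]),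
     (33, [0, (-5), 6, 39, (-27), (-5), 17, 39, (-16), (-5), 28, (-27), (-15), 40, 29, (-59), 7, (-4), (-15), (-37), 18, 18, (-4), (-11)]),
     (33, [0, 37, (-18), 15, 15, (-29), (-7), 15, 26, (-29), 4, 15, (-21), (-32), 23, 1, 1, (-10), 45, 23, (-54), 12, (-10), (-11)]),
     (3, [6, (-7), 6, (-3), 3, (-1), 1, (-3), (-2), 5, 2, 3, (-3), 2, 1, 5, (-1), (-2), (-3), 1, 6, 0, (-2), 5]),
     (33, [0, (-23), (-12), 21, 21, (-23), (-1), 21, 32, (-23), 10, 21, (-3), (-14), 41, 19, (-47), 8, (-3), (-25), (-36), 30, 8, (-11)]),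
     (33, [66, 7, 18, (-81), 51, 7, (-37), (-15), 62, 73, (-92), 51, 21, 10, (-1), 43, (-23), (-34), 21, 65, (-12), (-78), 32, 55]),
     (33, [0, 19, 30, (-3), (-3), 19, (-25), (-3), 8, 19, (-14), (-3), (-9), (-20), (-31), 13, 13, 2, (-9), 35, 24, (-42), 2, (-11)]),
     (33, [0, (-17), (-6), 27, 27, (-17), 5, 27, (-28), (-17), 16, 27, (-51), 4, (-7), (-29), (-29), 26, 15, (-7), (-18), 48, 26, (-11)]),
     (33, [66, 13, (-42), (-9), 57, 13, (-31), (-9), 2, 13, (-20), 57, (-27), (-38), 17, 61, (-5), (-16), (-27), 17, 6, 6, 50, 55]),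
     (33, [66, (-47), 30, (-3), 63, (-47), 41, (-3), 8, 19, (-14), (-3), (-9), 46, 35, 13, (-53), 2, (-9), 35, 24, (-42), 2, 55]),
     (33, [0, 25, (-30), 3, 3, 25, (-19), 3, 14, 25, (-8), 3, 9, (-2), (-13), 31, 31, (-46), 9, (-13), (-24), (-24), 20, (-11)]),
     (33, [0, 13, 24, (-9), (-9), 13, 35, (-9), 2, 13, (-20), (-9), 39, 28, (-49), (-5), (-5), (-16), (-27), 17, 6, 6, (-16), (-11)]),
     (33, [66, 31, 42, (-57), 9, 31, (-13), (-57), 20, 97, (-2), (-57), 27, 16, 5, 49, (-17), (-28), (-39), 71, 60, (-72), (-28), 55]),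
     (33, [66, (-17), (-6), (-39), 27, (-17), 5, 27, 38, (-17), 16, 27, 15, 4, (-7), 37, (-29), 26, 15, (-7), (-18), (-18), 26, 55]),
     (33, [0, 1, 12, 45, (-21), 1, 23, (-21), (-10), 1, 34, (-21), 3, (-8), (-19), (-41), 25, 14, 3, (-19), 36, 36, (-52), (-11)]),
     (33, [66, (-5), 72, (-27), (-27), 61, 17, (-27), (-16), 61, (-38), (-27), 51, 40, (-37), 7, 7, (-4), (-15), 29, 18, (-48), (-4), 55]),
     (33, [0, 31, (-24), 9, 9, 31, (-13), 9, 20, (-35), (-2), 9, 27, (-50), 5, (-17), (-17), (-28), 27, 5, (-6), (-6), 38, (-11)]),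
     (33, [66, (-41), 36, (-63), 3, 25, 47, 3, (-52), 91, (-8), 3, 9, (-2), (-13), 31, 31, 20, (-57), (-13), 42, (-24), 20, 55]),
     (33, [66, 37, 48, (-117), 81, 37, (-7), (-51), 26, 37, (-62), 15, 45, (-32), (-43), 67, 1, (-10), (-21), 23, 12, (-54), 56, 55]),
     (33, [66, 1, 12, (-87), 45, 67, 23, (-87), 56, 67, (-32), (-21), 3, (-8), (-19), 91, 25, (-52), (-63), 47, 36, (-30), 14, 55]),
     (33, [66, (-23), (-12), (-45), 87, 43, (-67), 21, 32, 43, (-56), 21, (-3), (-14), 41, 85, (-47), (-58), (-3), 41, 30, (-36), 8, 55]),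
     (33, [(-198), 17, (-60), 105, (-93), (-49), (-5), 39, (-38), (-115), 50, (-27), (-15), (-4), 7, (-103), 29, 40, 51, (-59), (-48), 84, (-26), (-121)])]
    245968542125195820524131662064762690702206137437491169288 (by decide +kernel) (by decide +kernel)

theorem inn : cG.In [cAl, cBe, ct] (St ([cV].map vec)) :=
  in_St (ok_cons ok_cAl (ok_cons ok_cBe ok_ct)) (by decide +kernel)

theorem gen : cG.gen [cAl, cBe, ct] = St ([cV].map vec) :=
  (lowP_spec (L := [(cU, [[0, 0, 0, 0, 4, 0, 4, 0, 4, 0], [0, 2, 0, 2, 0, 2, 0, 0, 2, 2]]), (245968542125195820524131662064762690702206137437491169288, [[2, 0, 2, 2, 2, 0, 0, 2, 2, 0, 0, 2], [0, 2, 2, 2]]), (270583876150164745239377317165975524813820855746398980359, [[2, 2, 2, 2, 0, 0, 0, 2, 0, 0, 0], [2, 2, 0, 2, 0, 2, 0, 2, 0, 0]]), (270393062496394647649240046711845866728082242076685175049, [[0, 0, 2, 0, 0], [2, 0, 0, 2, 2, 2, 0], [2, 0, 0, 0, 2, 0, 2]]), (245969287502493442316654261080238040425343771969503889928, [[0, 0], [0, 4, 2, 0],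 [0, 0, 4, 4], [0, 4, 2, 4, 2, 2, 0, 4], [2, 0]]), (246160104067804056631416030284617784576958945009158720008, [[6, 2, 8, 2, 2, 4], [8, 4, 6, 8, 6, 2, 8, 0], [6, 2, 2, 4, 6]]), (221544767131294615188887420600660327664938493328197486857, [[2, 0, 0, 2, 4, 0, 0, 4]]), (270584621515999783997207144895214053380573963923690686729, [])]) (N := 495766656000)
    (by decide +kernel) inn card_Co3.le).1

/-- The outer automorphism group of the Conway group Co₃ (the stabiliser of a vector of the second shortest length in the rank-24 lattice) is trivial: every automorphism is inner. -/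
theorem result : Nat.card (Cfsg.Out ↥Cfsg.Spor.Co3) = 1 := by
  exact out_one (aut_St (K := St ([cV].map vec)) inn gen card_Co3 (p := 23) (by norm_num) (by norm_num) cenx (ok_cons ok_cBe ok_ct) ceny 2 1 (lL := [cAl, cBe, ct]) [[], [2], [2, 2], [2, 2, 2], [2, 2, 2, 2], [2, 2, 2, 2, 2], [2, 2, 2, 2, 2, 2], [2, 2, 2, 2, 2, 2, 2], [2, 2, 2, 2, 2, 2, 2, 2], [2, 2, 2, 2, 2, 2, 2, 2, 2], [2, 2, 2, 2, 2, 2, 2, 2, 2, 2]]
    (words_L inn _) [([2], 2)] [([0, 2, 4, 0, 4], 7)] (by decide +kernel)) (eMap Co3_eq)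

end Cfsg.Agent.S2071
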