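import Cfsg.Statements.S2076
import Cfsg.Agent.Lib.Spor.LyU4

set_option autoImplicit false
open Cfsg

namespace Cfsg.Agent.S2076

/-- The outer automorphism group of the Lyons group (the finitely presented group of the definitions) is trivial: every automorphism is inner. -/
theorem result : Nat.card (Cfsg.Out Cfsg.Spor.Ly) = 1 := by
  refine Nat.card_eq_one_iff_unique.2 ⟨⟨fun a b => ?_⟩, ⟨1⟩⟩
  have h : ∀ a : Cfsg.Out Cfsg.Spor.Ly, a = 1 := fun a => by
    obtain ⟨α, rfl⟩ := QuotientGroup.mk_surjective a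
    obtain ⟨x, hx⟩ := CA.LyU.inner α
    exact (QuotientGroup.eq_one_iff _).2 ⟨x, MulEquiv.ext fun y => (hx y).symm⟩
  rw [h a, h b]

end Cfsg.Agent.S2076
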