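import Cfsg.Statements.S2080
import Cfsg.Agent.Lib.Fi.FiAut
import Cfsg.Agent.Lib.Spor.Fi23Pres

set_option autoImplicit false
open Cfsg

namespace Cfsg.Agent.S2080

/-- The outer automorphism group of the Fischer group Fi₂₃ (the finitely presented group of the definitions) is trivial: every automorphism is inner. -/
theorem result : Nat.card (Cfsg.Out Cfsg.Spor.Fi23) = 1 := by
  obtain ⟨e⟩ := CA.Fi23Pres.equiv
  obtain ⟨M⟩ := CA.Fi.model23
  have f := e.trans (MulEquiv.subgroupCongr CA.Fi23Pres.gens_eq)
  have M' := M.map f.symm rfl (CA.FiL.prim_map M.prim _)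
  have := M'.finite
  exact CA.Fi.card_out M'.center (CA.Fi.caut23 M')

end Cfsg.Agent.S2080
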