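import Cfsg.Agent.Lib.Grp.SchurLow
import Cfsg.Agent.Lib.Spor.H22Link
import Cfsg.Agent.S0243
-- Template for statement S2088 (row 2088; see /opt/grader/pristine/manifest.json for weights).
-- Copy to Cfsg/Agent/S2088.lean and replace the sorry. The statement below is byte-identical to the frozen
-- statement Cfsg.CfsgFrozen.S2088 (Cfsg/Statements/S2088.lean; the theorem Cfsg.kfact_multiplier_psl_three_four);
-- the grader kernel-checks Cfsg.Agent.S2088.result against that frozen type. Keep the theorem IN THIS FILE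
-- (a `result` declared elsewhere and merely imported here is not credited); helpers may live anywhere
-- under Cfsg/Agent/.
import Cfsg.Statements.S2088
-- import your own Cfsg.Agent.* helpers here

set_option autoImplicit false
open Cfsg

set_option autoImplicit false
set_option maxRecDepth 100000

namespace Cfsg.Agent.S2088
open Cfsg CA.SchurHopf CA.SchurPc CA.SchurCG CA.SchurLow CA.CWord CA.CNet CA.CLevel CA.CSimple CA.CPoint CA.CTodd CA.CLow
universe u
noncomputable section
def t0 : Net := [(nat_lit 0x10540, nat_lit 1),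
  (nat_lit 0x33110, nat_lit 2),
  (nat_lit 0x10500, nat_lit 4),
  (nat_lit 29, nat_lit 8),
  (nat_lit 21, nat_lit 16),
  (nat_lit 21, nat_lit 8),
  (nat_lit 0x400, nat_lit 4),
  (nat_lit 256, nat_lit 2),
  (nat_lit 0x10440, nat_lit 1)]
def t1 : Net := [(nat_lit 0x55404, nat_lit 1),
  (nat_lit 0x33200, nat_lit 2),
  (nat_lit 0x10f00, nat_lit 4),
  (nat_lit 153, nat_lit 8),
  (nat_lit 13, nat_lit 16),
  (nat_lit 9, nat_lit 8),
  (nat_lit 0x10900, nat_lit 4),
  (nat_lit 0x33200, nat_lit 2),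
  (nat_lit 0x15404, nat_lit 1)]
def t2 : Net := [(nat_lit 0x50500, nat_lit 1),
  (nat_lit 0x33330, nat_lit 2),
  (nat_lit 522, nat_lit 4),
  (nat_lit 221, nat_lit 8),
  (nat_lit 31, nat_lit 16),
  (nat_lit 29, nat_lit 8),
  (nat_lit 10, nat_lit 4),
  (nat_lit 0x23230, nat_lit 2),
  (nat_lit 0x50500, nat_lit 1)]
def t3 : Net := [(nat_lit 0x41510, nat_lit 1),
  (nat_lit 0x33220, nat_lit 2),
  (nat_lit 0x10308, nat_lit 4),
  (nat_lit 46, nat_lit 8),
  (nat_lit 14, nat_lit 16),
  (nat_lit 14, nat_lit 8),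
  (nat_lit 512, nat_lit 4),
  (nat_lit 0x33220, nat_lit 2),
  (nat_lit 0x40510, nat_lit 1)]
def t4 : Net := [(nat_lit 0x4404, nat_lit 1),
  (nat_lit 0x33100, nat_lit 2),
  (nat_lit 0xc08, nat_lit 4),
  (nat_lit 27, nat_lit 8),
  (nat_lit 15, nat_lit 16),
  (nat_lit 11, nat_lit 8),
  (nat_lit 772, nat_lit 4),
  (nat_lit 0x32020, nat_lit 2),
  (nat_lit 0x4440, nat_lit 1)]
def t5 : Net := [(nat_lit 0x51150, nat_lit 1),
  (nat_lit 0x2122, nat_lit 2),
  (nat_lit 0xb0e, nat_lit 4),
  (nat_lit 185, nat_lit 8),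
  (nat_lit 11, nat_lit 16),
  (nat_lit 3, nat_lit 8),
  (nat_lit 776, nat_lit 4),
  (nat_lit 0x20300, nat_lit 2),
  (nat_lit 0x40150, nat_lit 1)]
def t6 : Net := [(nat_lit 0x41140, nat_lit 1),
  (nat_lit 0x31002, nat_lit 2),
  (nat_lit 0x10e0c, nat_lit 4),
  (nat_lit 7, nat_lit 8),
  (nat_lit 14, nat_lit 16),
  (nat_lit 6, nat_lit 8),
  (nat_lit 0x608, nat_lit 4),
  (nat_lit 0x31000, nat_lit 2),
  (nat_lit 0x41140, nat_lit 1)]
def C : Ctx := ⟨21, 5, [t0, t1, t2, t3, t4, t5, t6]⟩
theorem hC : C.ok = true := by decide +kernel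
noncomputable def lk : ℕ → ℕ → ℕ := look C 64
theorem hlk : Good C lk := good_look hC (by decide +kernel)
abbrev gens : List Word := sg 7
def rels : List Word := [[6,6], [4,4], [2,2], [0,0], [0,2,0,2], [0,4,0,4], [0,6,0,6], [2,4,2,4], [2,6,2,6], [4,6,4,6], [8,8,8], [4,9,6,8], [0,8,2,6,9], [4,6,8,6,9], [0,2,6,8,0,9], [10,10], [2,10,2,10,2,10], [0,2,6,10,0,10,4,8,10], [0,2,10,0,4,10,8,6,10], [12,12], [10,12,10,12], [0,12,0,12,0,12], [4,9,12,4,10,9,12]]
namespace T3
noncomputable def A_0 : List (ℕ) := [nat_lit 0xc0383101c0840e0680d0510682e03c1c41e0580c014048110241481c0460a00b0300c81810416034080110281d8341a81e0f60c061048258381d0100a8030240001902c16c0a0860201b000150040480001200]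
noncomputable def A : List (List (ℕ)) := [A_0]
noncomputable def K_0 : List (ℕ) := [nat_lit 0x864261b0b82c2215048741a050781c060000]
noncomputable def K : List (List (ℕ)) := [K_0]
noncomputable def R_0 : List (Rule) := [Rule.mk (nat_lit 1) (nat_lit 31) (Steps.bwd (nat_lit 2) (Steps.bwd (nat_lit 1) (Steps.fwd (nat_lit 1024) Steps.nil))) (nat_lit 8) (nat_lit 1),
  Rule.mk (nat_lit 2) (nat_lit 31) (Steps.bwd (nat_lit 3) (Steps.bwd (nat_lit 2) (Steps.fwd (nat_lit 1536) Steps.nil))) (nat_lit 14) (nat_lit 1),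
  Rule.mk (nat_lit 1) (nat_lit 31) (Steps.bwd (nat_lit 3) (Steps.fwd (nat_lit 512) (Steps.fwd (nat_lit 1536) Steps.nil))) (nat_lit 10) (nat_lit 1),
  Rule.mk (nat_lit 1) (nat_lit 31) (Steps.bwd (nat_lit 2) (Steps.fwd (nat_lit 512) (Steps.fwd (nat_lit 1024) Steps.nil))) (nat_lit 8) (nat_lit 1),
  Rule.mk (nat_lit 3) (nat_lit 31) (Steps.bwd (nat_lit 2) (Steps.bwd (nat_lit 3) (Steps.bwd (nat_lit 2) Steps.nil))) (nat_lit 14) (nat_lit 0),
  Rule.mk (nat_lit 3) (nat_lit 31) (Steps.bwd (nat_lit 4) (Steps.bwd (nat_lit 3) (Steps.fwd (nat_lit 2048) Steps.nil))) (nat_lit 18) (nat_lit 1),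
  Rule.mk (nat_lit 2) (nat_lit 31) (Steps.bwd (nat_lit 4) (Steps.fwd (nat_lit 1024) (Steps.fwd (nat_lit 2048) Steps.nil))) (nat_lit 16) (nat_lit 1),
  Rule.mk (nat_lit 2) (nat_lit 31) (Steps.bwd (nat_lit 3) (Steps.fwd (nat_lit 1024) (Steps.fwd (nat_lit 1536) Steps.nil))) (nat_lit 14) (nat_lit 1),
  Rule.mk (nat_lit 4) (nat_lit 31) (Steps.bwd (nat_lit 3) (Steps.bwd (nat_lit 4) (Steps.bwd (nat_lit 3) Steps.nil))) (nat_lit 18) (nat_lit 0),
  Rule.mk (nat_lit 4) (nat_lit 31) (Steps.bwd (nat_lit 1) (Steps.fwd (nat_lit 2048) (Steps.bwd (nat_lit 1) Steps.nil))) (nat_lit 12) (nat_lit 0),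
  Rule.mk (nat_lit 1) (nat_lit 31) (Steps.bwd (nat_lit 3) (Steps.bwd (nat_lit 1) (Steps.bwd (nat_lit 3) Steps.nil))) (nat_lit 10) (nat_lit 1),
  Rule.mk (nat_lit 4) (nat_lit 31) (Steps.bwd (nat_lit 3) (Steps.fwd (nat_lit 2048) (Steps.fwd (nat_lit 1536) Steps.nil))) (nat_lit 18) (nat_lit 0),
  Rule.mk (nat_lit 4) (nat_lit 31) (Steps.bwd (nat_lit 2) (Steps.fwd (nat_lit 2048) (Steps.fwd (nat_lit 1024) Steps.nil))) (nat_lit 16) (nat_lit 0),
  Rule.mk (nat_lit 2) (nat_lit 31) (Steps.bwd (nat_lit 3) (Steps.bwd (nat_lit 2) (Steps.bwd (nat_lit 3) Steps.nil))) (nat_lit 14) (nat_lit 1)]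
noncomputable def R : List (List (Rule)) := [R_0]
def LW : List Word := [[], [0], [2], [4], [6]]
def par : Par := ⟨9, 3, 12, 21, 511, 4095, 2097151⟩
theorem hpar : par.ok := by decide
theorem hR0_0 : lall (R) (fun l => lall l (ruleOK rels LW par)) = true := by decide +kernel
theorem hR0 : lall (R) (fun l => lall l (ruleOK rels LW par)) = true := hR0_0
theorem hR : RulesOK rels LW par R := rulesOK_of rfl hR0
def cols : List (ℕ × ℕ) := [(512, 1), (1024, 2), (1536, 3), (2048, 4)]
theorem hcols : lall cols (colOK rels LW par) = true := by decide +kernel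
noncomputable def JS0 : List ℕ := [nat_lit 0x2c0410c088401fc0800838c2a01076814020d40a0041b80e06832c10000650481a0c9008001700c0202dc181005b0401a0c5008001680c0082cc180e0590341c0c1]
theorem S0_c : blocks (facts 9 3 12 21 511 4095 2097151 9 511 4 15 A R 32) 32 JS0 270 = true := by decide +kernel
theorem S0 : On (Step.{u} rels LW par A) 270 302 :=
  steps_of_blocks hpar hR S0_c (by decide +kernel)
theorem D0_c : allB (defOK 9 12 21 511 2097151 271 A K) 1 2 = true := by decide +kernel
theorem D0 : On (fun r => defOK par.W par.WL par.E par.mW par.mE 271 A K r = true) 256 384 :=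
  On.of_allB D0_c
noncomputable def JW0 : List ℕ := [nat_lit 0xa0451082a12c480c82b0904010c260b044084470a4531403a134340cc270b8490c046128550f03b078410802209436144380b4521643e13c350c423130570f4390bc5416c3f07c371605d138561685c]
theorem W0_c : blocks (rows 9 3 12 21 511 4095 2097151 10 1023 40 A 302 16 cols 32) 32 JW0 0 = true := by decide +kernel
theorem W0 : On (Row.{u} rels LW par A 302 16 cols) 0 32 :=
  rows_of_blocks hpar (by decide) hcols W0_c (by decide +kernel)
theorem idx : Idx.{u} rels [[0], [2], [4], [6]] [] 16 :=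
  idx_of_cert hpar hR (K := K) (by decide +kernel) (T := 271) (T' := 384) (by decide) D0
    (subs := []) (by decide +kernel) (T1 := 270) (by decide) (N := 302) S0
    (by decide) (n' := 32) (by decide) W0 (by decide +kernel) (by decide +kernel)
end T3
theorem b3 : Bound.{u} rels [[0], [2], [4], [6]] 16 := .of_idx T3.idx (.nil _) (by decide)
namespace T2
noncomputable def A_0 : List (ℕ) := [nat_lit 0x44020118080420201200800a020090040260100880402801002000006000010000020001280402a00]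
noncomputable def A : List (List (ℕ)) := [A_0]
noncomputable def K_0 : List (ℕ) := [nat_lit 0x4060000]
noncomputable def K : List (List (ℕ)) := [K_0]
noncomputable def R_0 : List (Rule) := [Rule.mk (nat_lit 4) (nat_lit 30) (Steps.bwd (nat_lit 5) (Steps.fwd (nat_lit 1536) (Steps.fwd (nat_lit 2560) Steps.nil))) (nat_lit 22) (nat_lit 3),
  Rule.mk (nat_lit 1) (nat_lit 39) (Steps.bwd (nat_lit 5) (Steps.fwd (nat_lit 1024) (Steps.fwd (nat_lit 2048) (Steps.fwd (nat_lit 2560) Steps.nil)))) (nat_lit 24) (nat_lit 1),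
  Rule.mk (nat_lit 3) (nat_lit 39) (Steps.fwd (nat_lit 2048) (Steps.bwd (nat_lit 5) (Steps.fwd (nat_lit 2048) (Steps.fwd (nat_lit 2560) Steps.nil)))) (nat_lit 26) (nat_lit 1),
  Rule.mk (nat_lit 2) (nat_lit 48) (Steps.fwd (nat_lit 2048) (Steps.bwd (nat_lit 5) (Steps.fwd (nat_lit 512) (Steps.fwd (nat_lit 2560) (Steps.fwd (nat_lit 512) Steps.nil))))) (nat_lit 28) (nat_lit 2),
  Rule.mk (nat_lit 5) (nat_lit 21) (Steps.bwd (nat_lit 5) (Steps.bwd (nat_lit 5) Steps.nil)) (nat_lit 20) (nat_lit 0)]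
noncomputable def R : List (List (Rule)) := [R_0]
def LW : List Word := [[], [0], [2], [4], [6], [8], [9], [0], [1], [2], [3], [4], [5], [6], [7]]
def par : Par := ⟨9, 4, 13, 22, 511, 8191, 4194303⟩
theorem hpar : par.ok := by decide
theorem hR0_0 : lall (R) (fun l => lall l (ruleOK rels LW par)) = true := by decide +kernel
theorem hR0 : lall (R) (fun l => lall l (ruleOK rels LW par)) = true := hR0_0
theorem hR : RulesOK rels LW par R := rulesOK_of rfl hR0
def cols : List (ℕ × ℕ) := [(512, 1), (1024, 2), (1536, 3), (2048, 4), (2560, 6)]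
theorem hcols : lall cols (colOK rels LW par) = true := by decide +kernel
noncomputable def JS0 : List ℕ := [nat_lit 0x106018180280b0302c02c1405010290240409209045008200c08014038080e016060080c0c80a01029]
theorem S0_c : blocks (facts 9 4 13 22 511 8191 4194303 9 511 3 7 A R 32) 32 JS0 261 = true := by decide +kernel
theorem S0 : On (Step.{u} rels LW par A) 261 293 :=
  steps_of_blocks hpar hR S0_c (by decide +kernel)
theorem D0_c : allB (defOK 9 13 22 511 4194303 258 A K) 1 2 = true := by decide +kernel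
theorem D0 : On (fun r => defOK par.W par.WL par.E par.mW par.mE 258 A K r = true) 256 384 :=
  On.of_allB D0_c
noncomputable def JW0 : List ℕ := [nat_lit 0x360d0300b8321203e0e8380f04a1004211046]
theorem W0_c : blocks (rows 9 4 13 22 511 8191 4194303 10 1023 50 A 293 3 cols 25) 25 JW0 0 = true := by decide +kernel
theorem W0 : On (Row.{u} rels LW par A 293 3 cols) 0 25 :=
  rows_of_blocks hpar (by decide) hcols W0_c (by decide +kernel)
theorem idx : Idx.{u} rels [[0], [2], [4], [6], [8]] [[0], [2], [4], [6]] 3 :=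
  idx_of_cert hpar hR (K := K) (by decide +kernel) (T := 258) (T' := 384) (by decide) D0
    (subs := [1,2,3,4]) (by decide +kernel) (T1 := 261) (by decide) (N := 293) S0
    (by decide) (n' := 25) (by decide) W0 (by decide +kernel) (by decide +kernel)
end T2
theorem b2 : Bound.{u} rels [[0], [2], [4], [6], [8]] 48 := .of_idx T2.idx b3 (by decide)
namespace T1
noncomputable def A_0 : List (ℕ) := [nat_lit 0x8182613184c2640984c21308942613104c226080406100810201008402020804461108902211084422208834e0d05841a0410342440680c60d09181a0f1048247090386120304240718280e20301c20f0390120730040c603804c06060c0c0e383810704830c090794120b102408104828e0b02181602282c1850781080f01980608281414504028c05011808032038181070048050110140820300610400ce030014000020000030000040000040013383c20702044e0506981c1228380e70301880b048c040b18201e30281060107080a05082814206030e0204080403100404100804e00]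
noncomputable def A : List (List (ℕ)) := [A_0]
noncomputable def K_0 : List (ℕ) := [nat_lit 0x8943a211184c1e1f0485416170386c320d08814060000]
noncomputable def K : List (List (ℕ)) := [K_0]
noncomputable def R_0 : List (Rule) := [Rule.mk (nat_lit 7) (nat_lit 51) (Steps.bwd (nat_lit 2) (Steps.bwd (nat_lit 7) (Steps.fwd (nat_lit 1024) (Steps.fwd (nat_lit 3584) (Steps.fwd (nat_lit 1024) Steps.nil))))) (nat_lit 32) (nat_lit 0),
  Rule.mk (nat_lit 1) (nat_lit 33) (Steps.bwd (nat_lit 2) (Steps.bwd (nat_lit 1) (Steps.fwd (nat_lit 1024) Steps.nil))) (nat_lit 8) (nat_lit 1),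
  Rule.mk (nat_lit 4) (nat_lit 78) (Steps.bwd (nat_lit 7) (Steps.bwd (nat_lit 1) (Steps.bwd (nat_lit 7) (Steps.fwd (nat_lit 1536) (Steps.bwd (nat_lit 5) (Steps.fwd (nat_lit 3584) (Steps.fwd (nat_lit 512) (Steps.fwd (nat_lit 1024) Steps.nil)))))))) (nat_lit 34) (nat_lit 3),
  Rule.mk (nat_lit 4) (nat_lit 33) (Steps.bwd (nat_lit 2) (Steps.fwd (nat_lit 2048) (Steps.bwd (nat_lit 2) Steps.nil))) (nat_lit 16) (nat_lit 0),
  Rule.mk (nat_lit 4) (nat_lit 33) (Steps.bwd (nat_lit 1) (Steps.fwd (nat_lit 2048) (Steps.bwd (nat_lit 1) Steps.nil))) (nat_lit 12) (nat_lit 0),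
  Rule.mk (nat_lit 1) (nat_lit 33) (Steps.bwd (nat_lit 2) (Steps.bwd (nat_lit 1) (Steps.bwd (nat_lit 2) Steps.nil))) (nat_lit 8) (nat_lit 1),
  Rule.mk (nat_lit 4) (nat_lit 33) (Steps.bwd (nat_lit 2) (Steps.fwd (nat_lit 2048) (Steps.fwd (nat_lit 1024) Steps.nil))) (nat_lit 16) (nat_lit 0),
  Rule.mk (nat_lit 6) (nat_lit 78) (Steps.bwd (nat_lit 3) (Steps.bwd (nat_lit 7) (Steps.fwd (nat_lit 512) (Steps.fwd (nat_lit 3584) (Steps.bwd (nat_lit 4) (Steps.fwd (nat_lit 1024) (Steps.fwd (nat_lit 512) (Steps.bwd (nat_lit 7) Steps.nil)))))))) (nat_lit 35) (nat_lit 2),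
  Rule.mk (nat_lit 6) (nat_lit 42) (Steps.fwd (nat_lit 2048) (Steps.fwd (nat_lit 1536) (Steps.fwd (nat_lit 3072) (Steps.bwd (nat_lit 4) Steps.nil)))) (nat_lit 27) (nat_lit 3),
  Rule.mk (nat_lit 5) (nat_lit 42) (Steps.bwd (nat_lit 2) (Steps.bwd (nat_lit 4) (Steps.bwd (nat_lit 6) (Steps.bwd (nat_lit 1) Steps.nil)))) (nat_lit 24) (nat_lit 2),
  Rule.mk (nat_lit 5) (nat_lit 51) (Steps.bwd (nat_lit 1) (Steps.bwd (nat_lit 6) (Steps.bwd (nat_lit 1) (Steps.bwd (nat_lit 2) (Steps.fwd (nat_lit 2048) Steps.nil))))) (nat_lit 28) (nat_lit 4),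
  Rule.mk (nat_lit 6) (nat_lit 42) (Steps.bwd (nat_lit 1) (Steps.bwd (nat_lit 5) (Steps.fwd (nat_lit 1024) (Steps.fwd (nat_lit 2048) Steps.nil)))) (nat_lit 24) (nat_lit 0),
  Rule.mk (nat_lit 4) (nat_lit 33) (Steps.bwd (nat_lit 3) (Steps.fwd (nat_lit 2048) (Steps.fwd (nat_lit 1536) Steps.nil))) (nat_lit 18) (nat_lit 0),
  Rule.mk (nat_lit 5) (nat_lit 33) (Steps.bwd (nat_lit 3) (Steps.fwd (nat_lit 2560) (Steps.bwd (nat_lit 4) Steps.nil))) (nat_lit 22) (nat_lit 0),
  Rule.mk (nat_lit 5) (nat_lit 33) (Steps.bwd (nat_lit 3) (Steps.fwd (nat_lit 2560) (Steps.fwd (nat_lit 2048) Steps.nil))) (nat_lit 22) (nat_lit 0),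
  Rule.mk (nat_lit 6) (nat_lit 42) (Steps.bwd (nat_lit 3) (Steps.bwd (nat_lit 4) (Steps.bwd (nat_lit 5) (Steps.fwd (nat_lit 2048) Steps.nil)))) (nat_lit 26) (nat_lit 0),
  Rule.mk (nat_lit 7) (nat_lit 78) (Steps.bwd (nat_lit 3) (Steps.fwd (nat_lit 512) (Steps.fwd (nat_lit 3584) (Steps.bwd (nat_lit 2) (Steps.fwd (nat_lit 512) (Steps.fwd (nat_lit 3584) (Steps.fwd (nat_lit 2048) (Steps.fwd (nat_lit 2560) Steps.nil)))))))) (nat_lit 37) (nat_lit 4),
  Rule.mk (nat_lit 1) (nat_lit 33) (Steps.bwd (nat_lit 3) (Steps.bwd (nat_lit 1) (Steps.fwd (nat_lit 1536) Steps.nil))) (nat_lit 10) (nat_lit 1),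
  Rule.mk (nat_lit 2) (nat_lit 33) (Steps.bwd (nat_lit 3) (Steps.fwd (nat_lit 1024) (Steps.fwd (nat_lit 1536) Steps.nil))) (nat_lit 14) (nat_lit 1),
  Rule.mk (nat_lit 5) (nat_lit 33) (Steps.bwd (nat_lit 3) (Steps.bwd (nat_lit 6) (Steps.bwd (nat_lit 4) Steps.nil))) (nat_lit 22) (nat_lit 0),
  Rule.mk (nat_lit 6) (nat_lit 42) (Steps.bwd (nat_lit 3) (Steps.bwd (nat_lit 4) (Steps.bwd (nat_lit 5) (Steps.bwd (nat_lit 4) Steps.nil)))) (nat_lit 26) (nat_lit 0),
  Rule.mk (nat_lit 7) (nat_lit 78) (Steps.bwd (nat_lit 3) (Steps.bwd (nat_lit 5) (Steps.fwd (nat_lit 3584) (Steps.fwd (nat_lit 512) (Steps.fwd (nat_lit 1024) (Steps.fwd (nat_lit 2048) (Steps.fwd (nat_lit 3584) (Steps.bwd (nat_lit 1) Steps.nil)))))))) (nat_lit 34) (nat_lit 6),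
  Rule.mk (nat_lit 7) (nat_lit 78) (Steps.fwd (nat_lit 2048) (Steps.bwd (nat_lit 2) (Steps.fwd (nat_lit 512) (Steps.fwd (nat_lit 3584) (Steps.bwd (nat_lit 6) (Steps.bwd (nat_lit 3) (Steps.fwd (nat_lit 3584) (Steps.bwd (nat_lit 1) Steps.nil)))))))) (nat_lit 35) (nat_lit 6),
  Rule.mk (nat_lit 3) (nat_lit 33) (Steps.bwd (nat_lit 4) (Steps.bwd (nat_lit 3) (Steps.bwd (nat_lit 4) Steps.nil))) (nat_lit 18) (nat_lit 1),
  Rule.mk (nat_lit 6) (nat_lit 33) (Steps.bwd (nat_lit 4) (Steps.fwd (nat_lit 3072) (Steps.bwd (nat_lit 3) Steps.nil))) (nat_lit 22) (nat_lit 2),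
  Rule.mk (nat_lit 6) (nat_lit 78) (Steps.bwd (nat_lit 7) (Steps.fwd (nat_lit 1536) (Steps.bwd (nat_lit 1) (Steps.fwd (nat_lit 3584) (Steps.bwd (nat_lit 2) (Steps.bwd (nat_lit 1) (Steps.bwd (nat_lit 7) (Steps.fwd (nat_lit 2048) Steps.nil)))))))) (nat_lit 37) (nat_lit 3),
  Rule.mk (nat_lit 6) (nat_lit 24) (Steps.bwd (nat_lit 6) (Steps.bwd (nat_lit 6) Steps.nil)) (nat_lit 21) (nat_lit 0),
  Rule.mk (nat_lit 4) (nat_lit 33) (Steps.fwd (nat_lit 3072) (Steps.bwd (nat_lit 3) (Steps.bwd (nat_lit 6) Steps.nil))) (nat_lit 22) (nat_lit 3),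
  Rule.mk (nat_lit 1) (nat_lit 42) (Steps.bwd (nat_lit 5) (Steps.fwd (nat_lit 1024) (Steps.fwd (nat_lit 2048) (Steps.bwd (nat_lit 6) Steps.nil)))) (nat_lit 24) (nat_lit 1),
  Rule.mk (nat_lit 2) (nat_lit 42) (Steps.bwd (nat_lit 6) (Steps.bwd (nat_lit 1) (Steps.bwd (nat_lit 5) (Steps.fwd (nat_lit 2048) Steps.nil)))) (nat_lit 25) (nat_lit 3),
  Rule.mk (nat_lit 3) (nat_lit 42) (Steps.fwd (nat_lit 2048) (Steps.bwd (nat_lit 5) (Steps.fwd (nat_lit 2048) (Steps.bwd (nat_lit 6) Steps.nil)))) (nat_lit 26) (nat_lit 1),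
  Rule.mk (nat_lit 1) (nat_lit 42) (Steps.bwd (nat_lit 5) (Steps.bwd (nat_lit 2) (Steps.fwd (nat_lit 2048) (Steps.bwd (nat_lit 6) Steps.nil)))) (nat_lit 24) (nat_lit 1),
  Rule.mk (nat_lit 3) (nat_lit 42) (Steps.bwd (nat_lit 5) (Steps.fwd (nat_lit 2048) (Steps.bwd (nat_lit 6) (Steps.bwd (nat_lit 4) Steps.nil)))) (nat_lit 27) (nat_lit 0),
  Rule.mk (nat_lit 7) (nat_lit 78) (Steps.bwd (nat_lit 5) (Steps.fwd (nat_lit 2048) (Steps.fwd (nat_lit 3584) (Steps.bwd (nat_lit 1) (Steps.bwd (nat_lit 2) (Steps.fwd (nat_lit 3584) (Steps.bwd (nat_lit 1) (Steps.bwd (nat_lit 3) Steps.nil)))))))) (nat_lit 36) (nat_lit 6),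
  Rule.mk (nat_lit 2) (nat_lit 78) (Steps.fwd (nat_lit 3584) (Steps.fwd (nat_lit 512) (Steps.fwd (nat_lit 1536) (Steps.bwd (nat_lit 7) (Steps.bwd (nat_lit 5) (Steps.fwd (nat_lit 2048) (Steps.fwd (nat_lit 3584) (Steps.bwd (nat_lit 1) Steps.nil)))))))) (nat_lit 36) (nat_lit 2),
  Rule.mk (nat_lit 6) (nat_lit 24) (Steps.bwd (nat_lit 6) (Steps.fwd (nat_lit 2560) Steps.nil)) (nat_lit 21) (nat_lit 0),
  Rule.mk (nat_lit 3) (nat_lit 33) (Steps.bwd (nat_lit 6) (Steps.fwd (nat_lit 2048) (Steps.fwd (nat_lit 3072) Steps.nil))) (nat_lit 22) (nat_lit 1),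
  Rule.mk (nat_lit 4) (nat_lit 42) (Steps.bwd (nat_lit 6) (Steps.fwd (nat_lit 512) (Steps.bwd (nat_lit 5) (Steps.bwd (nat_lit 2) Steps.nil)))) (nat_lit 24) (nat_lit 4),
  Rule.mk (nat_lit 2) (nat_lit 42) (Steps.bwd (nat_lit 6) (Steps.fwd (nat_lit 512) (Steps.bwd (nat_lit 5) (Steps.fwd (nat_lit 2048) Steps.nil)))) (nat_lit 25) (nat_lit 3),
  Rule.mk (nat_lit 1) (nat_lit 51) (Steps.bwd (nat_lit 6) (Steps.fwd (nat_lit 512) (Steps.fwd (nat_lit 1024) (Steps.fwd (nat_lit 2048) (Steps.bwd (nat_lit 5) Steps.nil))))) (nat_lit 28) (nat_lit 5),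
  Rule.mk (nat_lit 7) (nat_lit 78) (Steps.bwd (nat_lit 6) (Steps.bwd (nat_lit 3) (Steps.fwd (nat_lit 3584) (Steps.fwd (nat_lit 512) (Steps.fwd (nat_lit 3584) (Steps.bwd (nat_lit 4) (Steps.fwd (nat_lit 1024) (Steps.bwd (nat_lit 1) Steps.nil)))))))) (nat_lit 35) (nat_lit 1),
  Rule.mk (nat_lit 2) (nat_lit 51) (Steps.bwd (nat_lit 7) (Steps.fwd (nat_lit 1024) (Steps.fwd (nat_lit 3584) (Steps.bwd (nat_lit 2) (Steps.fwd (nat_lit 3584) Steps.nil))))) (nat_lit 32) (nat_lit 1),
  Rule.mk (nat_lit 1) (nat_lit 78) (Steps.bwd (nat_lit 7) (Steps.fwd (nat_lit 1536) (Steps.bwd (nat_lit 5) (Steps.fwd (nat_lit 3584) (Steps.fwd (nat_lit 512) (Steps.bwd (nat_lit 2) (Steps.bwd (nat_lit 4) (Steps.fwd (nat_lit 3584) Steps.nil)))))))) (nat_lit 34) (nat_lit 5),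
  Rule.mk (nat_lit 4) (nat_lit 78) (Steps.bwd (nat_lit 7) (Steps.bwd (nat_lit 1) (Steps.bwd (nat_lit 7) (Steps.bwd (nat_lit 3) (Steps.bwd (nat_lit 5) (Steps.fwd (nat_lit 3584) (Steps.fwd (nat_lit 512) (Steps.fwd (nat_lit 1024) Steps.nil)))))))) (nat_lit 34) (nat_lit 3),
  Rule.mk (nat_lit 3) (nat_lit 78) (Steps.bwd (nat_lit 7) (Steps.fwd (nat_lit 3072) (Steps.fwd (nat_lit 2048) (Steps.fwd (nat_lit 3584) (Steps.bwd (nat_lit 1) (Steps.bwd (nat_lit 2) (Steps.fwd (nat_lit 3584) (Steps.fwd (nat_lit 512) Steps.nil)))))))) (nat_lit 36) (nat_lit 5),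
  Rule.mk (nat_lit 2) (nat_lit 51) (Steps.bwd (nat_lit 7) (Steps.bwd (nat_lit 2) (Steps.fwd (nat_lit 3584) (Steps.fwd (nat_lit 1024) (Steps.fwd (nat_lit 3584) Steps.nil))))) (nat_lit 32) (nat_lit 1),
  Rule.mk (nat_lit 1) (nat_lit 78) (Steps.bwd (nat_lit 7) (Steps.bwd (nat_lit 3) (Steps.fwd (nat_lit 3072) (Steps.bwd (nat_lit 7) (Steps.bwd (nat_lit 1) (Steps.fwd (nat_lit 1024) (Steps.fwd (nat_lit 2048) (Steps.fwd (nat_lit 3584) Steps.nil)))))))) (nat_lit 34) (nat_lit 5),
  Rule.mk (nat_lit 4) (nat_lit 78) (Steps.bwd (nat_lit 7) (Steps.bwd (nat_lit 1) (Steps.fwd (nat_lit 3584) (Steps.fwd (nat_lit 1536) (Steps.fwd (nat_lit 3072) (Steps.fwd (nat_lit 3584) (Steps.fwd (nat_lit 512) (Steps.fwd (nat_lit 1024) Steps.nil)))))))) (nat_lit 34) (nat_lit 3),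
  Rule.mk (nat_lit 3) (nat_lit 78) (Steps.bwd (nat_lit 7) (Steps.fwd (nat_lit 3072) (Steps.bwd (nat_lit 4) (Steps.bwd (nat_lit 7) (Steps.bwd (nat_lit 1) (Steps.fwd (nat_lit 1024) (Steps.fwd (nat_lit 3584) (Steps.fwd (nat_lit 512) Steps.nil)))))))) (nat_lit 36) (nat_lit 5),
  Rule.mk (nat_lit 6) (nat_lit 78) (Steps.bwd (nat_lit 7) (Steps.bwd (nat_lit 3) (Steps.fwd (nat_lit 512) (Steps.fwd (nat_lit 3584) (Steps.fwd (nat_lit 1024) (Steps.fwd (nat_lit 512) (Steps.fwd (nat_lit 3584) (Steps.fwd (nat_lit 2048) Steps.nil)))))))) (nat_lit 37) (nat_lit 3),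
  Rule.mk (nat_lit 5) (nat_lit 78) (Steps.bwd (nat_lit 7) (Steps.fwd (nat_lit 512) (Steps.bwd (nat_lit 2) (Steps.bwd (nat_lit 4) (Steps.fwd (nat_lit 3584) (Steps.fwd (nat_lit 512) (Steps.fwd (nat_lit 3584) (Steps.fwd (nat_lit 1536) Steps.nil)))))))) (nat_lit 34) (nat_lit 8),
  Rule.mk (nat_lit 1) (nat_lit 78) (Steps.bwd (nat_lit 7) (Steps.bwd (nat_lit 3) (Steps.fwd (nat_lit 3072) (Steps.bwd (nat_lit 7) (Steps.bwd (nat_lit 1) (Steps.fwd (nat_lit 1024) (Steps.bwd (nat_lit 4) (Steps.fwd (nat_lit 3584) Steps.nil)))))))) (nat_lit 34) (nat_lit 5),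
  Rule.mk (nat_lit 4) (nat_lit 78) (Steps.bwd (nat_lit 7) (Steps.fwd (nat_lit 512) (Steps.bwd (nat_lit 7) (Steps.fwd (nat_lit 1536) (Steps.bwd (nat_lit 5) (Steps.fwd (nat_lit 3584) (Steps.fwd (nat_lit 512) (Steps.fwd (nat_lit 1024) Steps.nil)))))))) (nat_lit 34) (nat_lit 3),
  Rule.mk (nat_lit 3) (nat_lit 78) (Steps.bwd (nat_lit 7) (Steps.bwd (nat_lit 5) (Steps.fwd (nat_lit 2048) (Steps.bwd (nat_lit 7) (Steps.bwd (nat_lit 1) (Steps.fwd (nat_lit 1024) (Steps.fwd (nat_lit 3584) (Steps.fwd (nat_lit 512) Steps.nil)))))))) (nat_lit 36) (nat_lit 5),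
  Rule.mk (nat_lit 6) (nat_lit 78) (Steps.bwd (nat_lit 7) (Steps.bwd (nat_lit 3) (Steps.bwd (nat_lit 1) (Steps.bwd (nat_lit 7) (Steps.bwd (nat_lit 2) (Steps.fwd (nat_lit 512) (Steps.fwd (nat_lit 3584) (Steps.fwd (nat_lit 2048) Steps.nil)))))))) (nat_lit 37) (nat_lit 3)]
noncomputable def R : List (List (Rule)) := [R_0]
def LW : List Word := [[], [0], [2], [4], [6], [8], [9], [10], [0], [1], [2], [3], [4], [5], [6], [7], [8], [9]]
def par : Par := ⟨9, 5, 14, 23, 511, 16383, 8388607⟩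
theorem hpar : par.ok := by decide
theorem hR0_0 : lall (R) (fun l => lall l (ruleOK rels LW par)) = true := by decide +kernel
theorem hR0 : lall (R) (fun l => lall l (ruleOK rels LW par)) = true := hR0_0
theorem hR : RulesOK rels LW par R := rulesOK_of rfl hR0
def cols : List (ℕ × ℕ) := [(512, 1), (1024, 2), (1536, 3), (2048, 4), (2560, 6), (3584, 7)]
theorem hcols : lall cols (colOK rels LW par) = true := by decide +kernel
noncomputable def JS0 : List ℕ := [nat_lit 0xc1a178a20020a41e1a7c02090000de0109c120874020303380000b624040a852020980446d09c1023642824113010148880229160ac1eb84c280e12898080610ac110504040a818161f503e260f26201387520303446261283c1c1d44040106071005010367828041b3836070d1a040d80012601c381b0086cb0d0000a1d2808000b80c90d0042e020f02c3c162036010b0e170b05460d0002a285c0015102c180c80808190c05430b05c2a10542e030b8541,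
  nat_lit 0x71e89448262411479b80476130b10034221dec02000e84e1d1f86075a8e44e0d0608c56421ce8061d110443e0a8587198dc1e10078dee028e084432211c8037c80236048203e2c140db1008006a1f1e0643a35c068210583870131e8d2f19818080619dc01198f04c3f1408c6768040032100e0343c195831128fc50140b0e06358c072121c8c2a000541832040180e30a430231c8845f40643020174e020b87c5b30603a2c94582b900a2c1684c6a0a0100230006c68350f880342a8832140c8a61]
theorem S0_c : blocks (facts 9 5 14 23 511 16383 8388607 9 511 6 63 A R 32) 32 JS0 279 = true := by decide +kernel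
theorem S0 : On (Step.{u} rels LW par A) 279 343 :=
  steps_of_blocks hpar hR S0_c (by decide +kernel)
theorem D0_c : allB (defOK 9 14 23 511 8388607 275 A K) 1 2 = true := by decide +kernel
theorem D0 : On (fun r => defOK par.W par.WL par.E par.mW par.mE 275 A K r = true) 256 384 :=
  On.of_allB D0_c
noncomputable def JW0 : List ℕ := [nat_lit 0x22c1805012068160f0390d43e0e84023c1d0a0260b02a234110801e09022228641989d0ec46148921c83f284740b8910d0360c83029c571e85129075178622589b16c3117c6f1e042294a215058120991685c1546c1ec9a2a47c2544b12443114472504d25c50110412386a1d89c280a32306119c9f0cc5d1f8691cc372ac7d298711e4982a0ad2bc4f1dc9e2a8ac2b8802088421888]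
theorem W0_c : blocks (rows 9 5 14 23 511 16383 8388607 10 1023 60 A 343 20 cols 21) 21 JW0 0 = true := by decide +kernel
theorem W0 : On (Row.{u} rels LW par A 343 20 cols) 0 21 :=
  rows_of_blocks hpar (by decide) hcols W0_c (by decide +kernel)
theorem idx : Idx.{u} rels [[0], [2], [4], [6], [8], [10]] [[0], [2], [4], [6], [8]] 20 :=
  idx_of_cert hpar hR (K := K) (by decide +kernel) (T := 275) (T' := 384) (by decide) D0
    (subs := [1,2,3,4,5]) (by decide +kernel) (T1 := 279) (by decide) (N := 343) S0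
    (by decide) (n' := 21) (by decide) W0 (by decide +kernel) (by decide +kernel)
end T1
theorem b1 : Bound.{u} rels [[0], [2], [4], [6], [8], [10]] 960 := .of_idx T1.idx b2 (by decide)
namespace T0
noncomputable def A_0 : List (ℕ) := [nat_lit 0x1410502880a02ce140a04281420502830a048c1406881a0340340670683420d06901a0d183424409048212090c241210481080904c81309842613284c2630984c4130620260540140880704100905a01609281804504828809058c121108241420203d00a018c140f08282050501d011041c1e10303c0c30781c40f089c0e0830441650884041108100e1018201c707038210029c0a081030044040142080288160c082c0810380860701980e0620300460301820303200c02381804801038c0e028c1c04281402602810e0400940801380400700000a00001000001800002000002000a181a0d30482470504ce0904881c0a283c1e40884460c081c1808282c1640181cc0c0618060310040c20100820107100805200408300805000]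
noncomputable def A : List (List (ℕ)) := [A_0]
noncomputable def K_0 : List (ℕ) := [nat_lit 0x11388446190b86c0e250784c3a1f0a844160501834120000]
noncomputable def K : List (List (ℕ)) := [K_0]
noncomputable def R_0 : List (Rule) := [Rule.mk (nat_lit 7) (nat_lit 34) (Steps.bwd (nat_lit 8) (Steps.fwd (nat_lit 3584) (Steps.fwd (nat_lit 4096) Steps.nil))) (nat_lit 40) (nat_lit 1),
  Rule.mk (nat_lit 5) (nat_lit 61) (Steps.bwd (nat_lit 3) (Steps.bwd (nat_lit 8) (Steps.bwd (nat_lit 5) (Steps.fwd (nat_lit 3584) (Steps.fwd (nat_lit 1536) (Steps.fwd (nat_lit 4096) Steps.nil)))))) (nat_lit 45) (nat_lit 6),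
  Rule.mk (nat_lit 7) (nat_lit 61) (Steps.bwd (nat_lit 3) (Steps.bwd (nat_lit 8) (Steps.bwd (nat_lit 5) (Steps.fwd (nat_lit 1536) (Steps.fwd (nat_lit 4096) (Steps.bwd (nat_lit 5) Steps.nil)))))) (nat_lit 45) (nat_lit 3),
  Rule.mk (nat_lit 6) (nat_lit 34) (Steps.bwd (nat_lit 4) (Steps.bwd (nat_lit 5) (Steps.bwd (nat_lit 3) Steps.nil))) (nat_lit 22) (nat_lit 2),
  Rule.mk (nat_lit 5) (nat_lit 43) (Steps.bwd (nat_lit 4) (Steps.bwd (nat_lit 6) (Steps.bwd (nat_lit 4) (Steps.fwd (nat_lit 1536) Steps.nil)))) (nat_lit 27) (nat_lit 1),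
  Rule.mk (nat_lit 3) (nat_lit 34) (Steps.bwd (nat_lit 4) (Steps.bwd (nat_lit 3) (Steps.fwd (nat_lit 2048) Steps.nil))) (nat_lit 18) (nat_lit 1),
  Rule.mk (nat_lit 8) (nat_lit 52) (Steps.bwd (nat_lit 1) (Steps.bwd (nat_lit 8) (Steps.fwd (nat_lit 512) (Steps.fwd (nat_lit 4096) (Steps.fwd (nat_lit 512) Steps.nil))))) (nat_lit 42) (nat_lit 0),
  Rule.mk (nat_lit 7) (nat_lit 79) (Steps.bwd (nat_lit 2) (Steps.bwd (nat_lit 1) (Steps.fwd (nat_lit 3584) (Steps.fwd (nat_lit 2048) (Steps.fwd (nat_lit 2560) (Steps.fwd (nat_lit 3584) (Steps.bwd (nat_lit 3) (Steps.fwd (nat_lit 512) Steps.nil)))))))) (nat_lit 37) (nat_lit 7),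
  Rule.mk (nat_lit 8) (nat_lit 34) (Steps.fwd (nat_lit 3584) (Steps.fwd (nat_lit 4096) (Steps.bwd (nat_lit 7) Steps.nil))) (nat_lit 40) (nat_lit 0),
  Rule.mk (nat_lit 1) (nat_lit 34) (Steps.bwd (nat_lit 2) (Steps.fwd (nat_lit 512) (Steps.fwd (nat_lit 1024) Steps.nil))) (nat_lit 8) (nat_lit 1),
  Rule.mk (nat_lit 6) (nat_lit 52) (Steps.bwd (nat_lit 1) (Steps.bwd (nat_lit 2) (Steps.fwd (nat_lit 2048) (Steps.fwd (nat_lit 3072) (Steps.fwd (nat_lit 512) Steps.nil))))) (nat_lit 28) (nat_lit 0),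
  Rule.mk (nat_lit 4) (nat_lit 43) (Steps.bwd (nat_lit 6) (Steps.fwd (nat_lit 512) (Steps.fwd (nat_lit 3072) (Steps.fwd (nat_lit 1024) Steps.nil)))) (nat_lit 24) (nat_lit 4),
  Rule.mk (nat_lit 6) (nat_lit 25) (Steps.bwd (nat_lit 6) (Steps.bwd (nat_lit 6) Steps.nil)) (nat_lit 21) (nat_lit 0),
  Rule.mk (nat_lit 3) (nat_lit 34) (Steps.bwd (nat_lit 6) (Steps.fwd (nat_lit 2048) (Steps.fwd (nat_lit 3072) Steps.nil))) (nat_lit 22) (nat_lit 1),
  Rule.mk (nat_lit 1) (nat_lit 52) (Steps.bwd (nat_lit 6) (Steps.fwd (nat_lit 2048) (Steps.bwd (nat_lit 2) (Steps.bwd (nat_lit 1) (Steps.bwd (nat_lit 5) Steps.nil))))) (nat_lit 29) (nat_lit 2),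
  Rule.mk (nat_lit 1) (nat_lit 34) (Steps.bwd (nat_lit 4) (Steps.fwd (nat_lit 512) (Steps.bwd (nat_lit 4) Steps.nil))) (nat_lit 12) (nat_lit 1),
  Rule.mk (nat_lit 2) (nat_lit 34) (Steps.bwd (nat_lit 4) (Steps.bwd (nat_lit 2) (Steps.fwd (nat_lit 2048) Steps.nil))) (nat_lit 16) (nat_lit 1),
  Rule.mk (nat_lit 1) (nat_lit 43) (Steps.bwd (nat_lit 5) (Steps.fwd (nat_lit 1024) (Steps.bwd (nat_lit 4) (Steps.bwd (nat_lit 6) Steps.nil)))) (nat_lit 24) (nat_lit 1),
  Rule.mk (nat_lit 4) (nat_lit 43) (Steps.bwd (nat_lit 5) (Steps.bwd (nat_lit 4) (Steps.bwd (nat_lit 6) (Steps.fwd (nat_lit 1536) Steps.nil)))) (nat_lit 26) (nat_lit 2),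
  Rule.mk (nat_lit 2) (nat_lit 34) (Steps.fwd (nat_lit 2048) (Steps.bwd (nat_lit 2) (Steps.bwd (nat_lit 4) Steps.nil))) (nat_lit 16) (nat_lit 1),
  Rule.mk (nat_lit 7) (nat_lit 79) (Steps.bwd (nat_lit 1) (Steps.bwd (nat_lit 2) (Steps.fwd (nat_lit 2048) (Steps.fwd (nat_lit 3584) (Steps.bwd (nat_lit 1) (Steps.fwd (nat_lit 3584) (Steps.fwd (nat_lit 1536) (Steps.bwd (nat_lit 5) Steps.nil)))))))) (nat_lit 34) (nat_lit 0),
  Rule.mk (nat_lit 1) (nat_lit 79) (Steps.bwd (nat_lit 7) (Steps.fwd (nat_lit 1024) (Steps.fwd (nat_lit 512) (Steps.fwd (nat_lit 3584) (Steps.bwd (nat_lit 4) (Steps.bwd (nat_lit 6) (Steps.fwd (nat_lit 3584) (Steps.bwd (nat_lit 3) Steps.nil)))))))) (nat_lit 37) (nat_lit 6),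
  Rule.mk (nat_lit 7) (nat_lit 79) (Steps.fwd (nat_lit 1536) (Steps.fwd (nat_lit 3072) (Steps.fwd (nat_lit 3584) (Steps.fwd (nat_lit 512) (Steps.fwd (nat_lit 1024) (Steps.bwd (nat_lit 4) (Steps.fwd (nat_lit 3584) (Steps.fwd (nat_lit 512) Steps.nil)))))))) (nat_lit 34) (nat_lit 6),
  Rule.mk (nat_lit 3) (nat_lit 34) (Steps.fwd (nat_lit 512) (Steps.bwd (nat_lit 3) (Steps.bwd (nat_lit 1) Steps.nil))) (nat_lit 10) (nat_lit 0),
  Rule.mk (nat_lit 4) (nat_lit 34) (Steps.fwd (nat_lit 512) (Steps.fwd (nat_lit 2048) (Steps.bwd (nat_lit 1) Steps.nil))) (nat_lit 12) (nat_lit 0),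
  Rule.mk (nat_lit 2) (nat_lit 34) (Steps.bwd (nat_lit 3) (Steps.fwd (nat_lit 1024) (Steps.fwd (nat_lit 1536) Steps.nil))) (nat_lit 14) (nat_lit 1),
  Rule.mk (nat_lit 5) (nat_lit 34) (Steps.bwd (nat_lit 3) (Steps.bwd (nat_lit 6) (Steps.fwd (nat_lit 2048) Steps.nil))) (nat_lit 22) (nat_lit 0),
  Rule.mk (nat_lit 6) (nat_lit 43) (Steps.bwd (nat_lit 3) (Steps.fwd (nat_lit 2048) (Steps.fwd (nat_lit 3072) (Steps.bwd (nat_lit 4) Steps.nil)))) (nat_lit 26) (nat_lit 0),
  Rule.mk (nat_lit 7) (nat_lit 79) (Steps.fwd (nat_lit 1536) (Steps.bwd (nat_lit 1) (Steps.fwd (nat_lit 3584) (Steps.fwd (nat_lit 1024) (Steps.fwd (nat_lit 512) (Steps.fwd (nat_lit 3584) (Steps.bwd (nat_lit 4) (Steps.bwd (nat_lit 6) Steps.nil)))))))) (nat_lit 37) (nat_lit 4),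
  Rule.mk (nat_lit 2) (nat_lit 34) (Steps.bwd (nat_lit 4) (Steps.fwd (nat_lit 1024) (Steps.bwd (nat_lit 4) Steps.nil))) (nat_lit 16) (nat_lit 1),
  Rule.mk (nat_lit 6) (nat_lit 34) (Steps.bwd (nat_lit 4) (Steps.fwd (nat_lit 3072) (Steps.fwd (nat_lit 1536) Steps.nil))) (nat_lit 22) (nat_lit 2),
  Rule.mk (nat_lit 7) (nat_lit 79) (Steps.bwd (nat_lit 4) (Steps.fwd (nat_lit 1024) (Steps.fwd (nat_lit 512) (Steps.fwd (nat_lit 3584) (Steps.bwd (nat_lit 6) (Steps.fwd (nat_lit 1536) (Steps.fwd (nat_lit 3584) (Steps.bwd (nat_lit 1) Steps.nil)))))))) (nat_lit 35) (nat_lit 6),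
  Rule.mk (nat_lit 8) (nat_lit 61) (Steps.fwd (nat_lit 3072) (Steps.bwd (nat_lit 7) (Steps.fwd (nat_lit 1536) (Steps.fwd (nat_lit 4096) (Steps.fwd (nat_lit 3072) (Steps.bwd (nat_lit 3) Steps.nil)))))) (nat_lit 45) (nat_lit 1),
  Rule.mk (nat_lit 5) (nat_lit 25) (Steps.bwd (nat_lit 5) (Steps.fwd (nat_lit 3072) Steps.nil)) (nat_lit 20) (nat_lit 0),
  Rule.mk (nat_lit 1) (nat_lit 43) (Steps.bwd (nat_lit 5) (Steps.fwd (nat_lit 1024) (Steps.fwd (nat_lit 2048) (Steps.bwd (nat_lit 6) Steps.nil)))) (nat_lit 24) (nat_lit 1),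
  Rule.mk (nat_lit 3) (nat_lit 43) (Steps.bwd (nat_lit 5) (Steps.bwd (nat_lit 4) (Steps.fwd (nat_lit 2560) (Steps.bwd (nat_lit 4) Steps.nil)))) (nat_lit 27) (nat_lit 0),
  Rule.mk (nat_lit 8) (nat_lit 61) (Steps.bwd (nat_lit 5) (Steps.fwd (nat_lit 1536) (Steps.fwd (nat_lit 4096) (Steps.fwd (nat_lit 3072) (Steps.bwd (nat_lit 7) (Steps.bwd (nat_lit 3) Steps.nil)))))) (nat_lit 45) (nat_lit 5),
  Rule.mk (nat_lit 2) (nat_lit 34) (Steps.bwd (nat_lit 3) (Steps.fwd (nat_lit 1024) (Steps.bwd (nat_lit 3) Steps.nil))) (nat_lit 14) (nat_lit 1),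
  Rule.mk (nat_lit 1) (nat_lit 34) (Steps.bwd (nat_lit 2) (Steps.bwd (nat_lit 1) (Steps.bwd (nat_lit 2) Steps.nil))) (nat_lit 8) (nat_lit 1),
  Rule.mk (nat_lit 3) (nat_lit 34) (Steps.bwd (nat_lit 2) (Steps.fwd (nat_lit 1536) (Steps.bwd (nat_lit 2) Steps.nil))) (nat_lit 14) (nat_lit 0),
  Rule.mk (nat_lit 4) (nat_lit 34) (Steps.bwd (nat_lit 2) (Steps.bwd (nat_lit 4) (Steps.fwd (nat_lit 1024) Steps.nil))) (nat_lit 16) (nat_lit 0),
  Rule.mk (nat_lit 5) (nat_lit 43) (Steps.bwd (nat_lit 2) (Steps.bwd (nat_lit 4) (Steps.fwd (nat_lit 2560) (Steps.fwd (nat_lit 512) Steps.nil)))) (nat_lit 24) (nat_lit 2),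
  Rule.mk (nat_lit 5) (nat_lit 25) (Steps.fwd (nat_lit 3072) (Steps.bwd (nat_lit 5) Steps.nil)) (nat_lit 20) (nat_lit 0),
  Rule.mk (nat_lit 8) (nat_lit 61) (Steps.bwd (nat_lit 5) (Steps.bwd (nat_lit 7) (Steps.fwd (nat_lit 1536) (Steps.fwd (nat_lit 4096) (Steps.bwd (nat_lit 5) (Steps.fwd (nat_lit 1536) Steps.nil)))))) (nat_lit 45) (nat_lit 1),
  Rule.mk (nat_lit 8) (nat_lit 61) (Steps.bwd (nat_lit 5) (Steps.bwd (nat_lit 3) (Steps.bwd (nat_lit 8) (Steps.bwd (nat_lit 5) (Steps.fwd (nat_lit 3584) (Steps.fwd (nat_lit 1536) Steps.nil)))))) (nat_lit 45) (nat_lit 5),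
  Rule.mk (nat_lit 8) (nat_lit 61) (Steps.fwd (nat_lit 3072) (Steps.fwd (nat_lit 3584) (Steps.fwd (nat_lit 1536) (Steps.bwd (nat_lit 8) (Steps.fwd (nat_lit 3072) (Steps.fwd (nat_lit 1536) Steps.nil)))))) (nat_lit 45) (nat_lit 1),
  Rule.mk (nat_lit 8) (nat_lit 34) (Steps.bwd (nat_lit 7) (Steps.fwd (nat_lit 4096) (Steps.bwd (nat_lit 7) Steps.nil))) (nat_lit 40) (nat_lit 0),
  Rule.mk (nat_lit 2) (nat_lit 52) (Steps.bwd (nat_lit 7) (Steps.bwd (nat_lit 2) (Steps.fwd (nat_lit 3584) (Steps.fwd (nat_lit 1024) (Steps.fwd (nat_lit 3584) Steps.nil))))) (nat_lit 32) (nat_lit 1),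
  Rule.mk (nat_lit 3) (nat_lit 61) (Steps.bwd (nat_lit 7) (Steps.fwd (nat_lit 2560) (Steps.fwd (nat_lit 4096) (Steps.bwd (nat_lit 3) (Steps.bwd (nat_lit 6) (Steps.bwd (nat_lit 8) Steps.nil)))))) (nat_lit 44) (nat_lit 4),
  Rule.mk (nat_lit 5) (nat_lit 61) (Steps.bwd (nat_lit 7) (Steps.fwd (nat_lit 1536) (Steps.fwd (nat_lit 4096) (Steps.bwd (nat_lit 5) (Steps.bwd (nat_lit 3) (Steps.bwd (nat_lit 8) Steps.nil)))))) (nat_lit 45) (nat_lit 2),
  Rule.mk (nat_lit 1) (nat_lit 79) (Steps.bwd (nat_lit 7) (Steps.fwd (nat_lit 1536) (Steps.bwd (nat_lit 5) (Steps.bwd (nat_lit 7) (Steps.fwd (nat_lit 512) (Steps.fwd (nat_lit 1024) (Steps.bwd (nat_lit 4) (Steps.fwd (nat_lit 3584) Steps.nil)))))))) (nat_lit 34) (nat_lit 5),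
  Rule.mk (nat_lit 4) (nat_lit 79) (Steps.bwd (nat_lit 7) (Steps.fwd (nat_lit 512) (Steps.bwd (nat_lit 7) (Steps.fwd (nat_lit 1536) (Steps.bwd (nat_lit 5) (Steps.fwd (nat_lit 3584) (Steps.fwd (nat_lit 512) (Steps.fwd (nat_lit 1024) Steps.nil)))))))) (nat_lit 34) (nat_lit 3),
  Rule.mk (nat_lit 8) (nat_lit 34) (Steps.bwd (nat_lit 7) (Steps.fwd (nat_lit 4096) (Steps.fwd (nat_lit 3584) Steps.nil))) (nat_lit 40) (nat_lit 0),
  Rule.mk (nat_lit 3) (nat_lit 61) (Steps.bwd (nat_lit 7) (Steps.fwd (nat_lit 2560) (Steps.bwd (nat_lit 8) (Steps.fwd (nat_lit 1536) (Steps.fwd (nat_lit 2560) (Steps.bwd (nat_lit 8) Steps.nil)))))) (nat_lit 44) (nat_lit 4),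
  Rule.mk (nat_lit 1) (nat_lit 79) (Steps.bwd (nat_lit 7) (Steps.fwd (nat_lit 1536) (Steps.fwd (nat_lit 3072) (Steps.fwd (nat_lit 3584) (Steps.fwd (nat_lit 512) (Steps.fwd (nat_lit 1024) (Steps.fwd (nat_lit 2048) (Steps.fwd (nat_lit 3584) Steps.nil)))))))) (nat_lit 34) (nat_lit 5),
  Rule.mk (nat_lit 4) (nat_lit 79) (Steps.bwd (nat_lit 7) (Steps.fwd (nat_lit 512) (Steps.fwd (nat_lit 3584) (Steps.fwd (nat_lit 1536) (Steps.bwd (nat_lit 5) (Steps.fwd (nat_lit 3584) (Steps.fwd (nat_lit 512) (Steps.fwd (nat_lit 1024) Steps.nil)))))))) (nat_lit 34) (nat_lit 3),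
  Rule.mk (nat_lit 4) (nat_lit 43) (Steps.bwd (nat_lit 6) (Steps.fwd (nat_lit 1536) (Steps.fwd (nat_lit 2048) (Steps.fwd (nat_lit 3072) Steps.nil)))) (nat_lit 26) (nat_lit 4),
  Rule.mk (nat_lit 1) (nat_lit 52) (Steps.bwd (nat_lit 6) (Steps.fwd (nat_lit 512) (Steps.fwd (nat_lit 1024) (Steps.fwd (nat_lit 2048) (Steps.fwd (nat_lit 3072) Steps.nil))))) (nat_lit 28) (nat_lit 5),
  Rule.mk (nat_lit 7) (nat_lit 61) (Steps.bwd (nat_lit 6) (Steps.fwd (nat_lit 4096) (Steps.fwd (nat_lit 1536) (Steps.bwd (nat_lit 6) (Steps.bwd (nat_lit 8) (Steps.fwd (nat_lit 1536) Steps.nil)))))) (nat_lit 44) (nat_lit 5),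
  Rule.mk (nat_lit 8) (nat_lit 61) (Steps.fwd (nat_lit 1536) (Steps.bwd (nat_lit 6) (Steps.fwd (nat_lit 4096) (Steps.fwd (nat_lit 1536) (Steps.bwd (nat_lit 7) (Steps.bwd (nat_lit 6) Steps.nil)))))) (nat_lit 44) (nat_lit 0),
  Rule.mk (nat_lit 2) (nat_lit 52) (Steps.fwd (nat_lit 3584) (Steps.bwd (nat_lit 2) (Steps.fwd (nat_lit 3584) (Steps.fwd (nat_lit 1024) (Steps.bwd (nat_lit 7) Steps.nil))))) (nat_lit 32) (nat_lit 1),
  Rule.mk (nat_lit 7) (nat_lit 61) (Steps.bwd (nat_lit 6) (Steps.fwd (nat_lit 4096) (Steps.bwd (nat_lit 3) (Steps.fwd (nat_lit 2560) (Steps.bwd (nat_lit 8) (Steps.fwd (nat_lit 1536) Steps.nil)))))) (nat_lit 44) (nat_lit 5),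
  Rule.mk (nat_lit 8) (nat_lit 61) (Steps.fwd (nat_lit 1536) (Steps.bwd (nat_lit 6) (Steps.fwd (nat_lit 4096) (Steps.bwd (nat_lit 3) (Steps.fwd (nat_lit 3584) (Steps.bwd (nat_lit 6) Steps.nil)))))) (nat_lit 44) (nat_lit 0),
  Rule.mk (nat_lit 2) (nat_lit 52) (Steps.fwd (nat_lit 3584) (Steps.fwd (nat_lit 1024) (Steps.fwd (nat_lit 3584) (Steps.bwd (nat_lit 2) (Steps.bwd (nat_lit 7) Steps.nil))))) (nat_lit 32) (nat_lit 1)]
noncomputable def R : List (List (Rule)) := [R_0]
def LW : List Word := [[], [0], [2], [4], [6], [8], [9], [10], [12], [0], [1], [2], [3], [4], [5], [6], [7], [8], [9], [10], [11]]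
def par : Par := ⟨9, 5, 14, 23, 511, 16383, 8388607⟩
theorem hpar : par.ok := by decide
theorem hR0_0 : lall (R) (fun l => lall l (ruleOK rels LW par)) = true := by decide +kernel
theorem hR0 : lall (R) (fun l => lall l (ruleOK rels LW par)) = true := hR0_0
theorem hR : RulesOK rels LW par R := rulesOK_of rfl hR0
def cols : List (ℕ × ℕ) := [(512, 1), (1024, 2), (1536, 3), (2048, 4), (2560, 6), (3584, 7), (4096, 8)]
theorem hcols : lall cols (colOK rels LW par) = true := by decide +kernel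
noncomputable def JS0 : List ℕ := [nat_lit 0x12160ac3010062a3c000485024300e0c81c741010078a4e0ac5a2836010289cd0085e09320109014c0004a0a158b02c13089708000242d0000c02242c1016850540c04000045400280394020144622260e148004248502410910181440401a2411808403c04010f8e0f878688000010f0c1001c441e000b0f07c3a28000100090e8800a030f81c3a1c101c10030401c0e000087020703a1b0c1c0d800361436010d040006c0a030d8681868080101068320832000c81,
  nat_lit 0x32180f0980e46764501014064574440080c88e48600218e010008617110642c4370420791046482605084dc0248078282a416c40080d420406015080fda80c003f0509c300d1fb41f0281a250b864163e6602208600c0a1eb200910482b038f188ec781a1e0ed80fc043a5e2a14800902f162e0f8300c000c070a830720707005680c02250f03c22b000205640149046aa804401a290b88c66a01a111927008e87e980c1d0d0700c314a35048c46090060a028bd18085c8826160c0080005420e0586c3409050185a800e03161f,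
  nat_lit 0x11b0c86c018004278840c4d01bf0e05c442002931f12c0e030312dd1280c07253924814923892481a012a100a8017a522709c104701bc]
theorem S0_c : blocks (facts 9 5 14 23 511 16383 8388607 9 511 7 127 A R 32) 32 JS0 281 = true := by decide +kernel
theorem S0 : On (Step.{u} rels LW par A) 281 377 :=
  steps_of_blocks hpar hR S0_c (by decide +kernel)
theorem D0_c : allB (defOK 9 14 23 511 8388607 276 A K) 1 2 = true := by decide +kernel
theorem D0 : On (fun r => defOK par.W par.WL par.E par.mW par.mE 276 A K r = true) 256 384 :=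
  On.of_allB D0_c
noncomputable def JW0 : List ℕ := [nat_lit 0x1e885220d836c8a1bc633747f2348f22c921cc7c358d9200821dc60240b33b4b4350930f84033c441183c1085d370e5298da2589f19033378e11b49c27872340781ac741c476188d21a06a1b0d51b8511f4872608e25c9a1ec8438c8c28883280ac2b86629c813a4ab178942d8ef2d49d26c612e8bc3b0f11c0a10fc41294e01d4e72a8b02bca9264a33a0eb3ccbe2e4ee3c0e63a8f2300c2310c6320ca,
  nat_lit 0x300c8cd0d8380b834170d3158521605a150503443b1204c1384a]
theorem W0_c : blocks (rows 9 5 14 23 511 16383 8388607 10 1023 70 A 377 21 cols 18) 18 JW0 0 = true := by decide +kernel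
theorem W0 : On (Row.{u} rels LW par A 377 21 cols) 0 36 :=
  rows_of_blocks hpar (by decide) hcols W0_c (by decide +kernel)
theorem idx : Idx.{u} rels [[0], [2], [4], [6], [8], [10], [12]] [[0], [2], [4], [6], [8], [10]] 21 :=
  idx_of_cert hpar hR (K := K) (by decide +kernel) (T := 276) (T' := 384) (by decide) D0
    (subs := [1,2,3,4,5,7]) (by decide +kernel) (T1 := 281) (by decide) (N := 377) S0
    (by decide) (n' := 36) (by decide) W0 (by decide +kernel) (by decide +kernel)
end T0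
theorem b0 : Bound.{u} rels [[0], [2], [4], [6], [8], [10], [12]] 20160 := .of_idx T0.idx b1 (by decide)
theorem bound : Bound.{u} rels (sg 7) 20160 := b0
theorem hrel0_0 : lall (rels) (fun r => C.eqW r []) = true := by decide +kernel
theorem hrel0 : lall (rels) (fun r => C.eqW r []) = true := hrel0_0
theorem hrel : ∀ r ∈ rels, ev C.g r = 1 := CA.H22Link.rels_of hC hrel0
theorem low3 : Low (C.grp (sg 4)) 16 [3] :=
  low_clo hC hlk 3 (by decide) [0,2,4,6] (m := 16) (CA.H22Link.sg_le _ (j := 0) (by decide)) (by decide +kernel) (by decide +kernel) (low_nil C) (by decide)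
theorem low2 : Low (C.grp (sg 5)) 48 [2,3] :=
  low_clo hC hlk 2 (by decide) [8,8] (m := 3) (CA.H22Link.sg_le _ (j := 4) (by decide)) (by decide +kernel) (by decide +kernel) low3 (by decide)
theorem low1 : Low (C.grp (sg 6)) 960 [1,2,3] :=
  low_clo hC hlk 1 (by decide) [10,0,2,4,6,10] (m := 20) (CA.H22Link.sg_le _ (j := 5) (by decide)) (by decide +kernel) (by decide +kernel) low2 (by decide)
theorem low0 : Low (C.grp (sg 7)) 20160 [0,1,2,3] :=
  low_clo hC hlk 0 (by decide) [12,0,2,4,6,10] (m := 21) (CA.H22Link.sg_le _ (j := 6) (by decide)) (by decide +kernel) (by decide +kernel) low1 (by decide)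
theorem cb : Nat.card (C.grp gens) = 20160 ∧ IsBase (C.grp gens) [0,1,2,3] := CA.H22Link.card_base bound hrel low0
theorem card : Nat.card (C.grp gens) = 20160 := cb.1
theorem all_mem {w : Word} (hw : ∀ a ∈ w, a < 14) : C.ev w ∈ C.grp gens := CA.H22Link.sg_mem _ (k := 7) hw
def V_t0 : Net := [(nat_lit 0x500455400014, nat_lit 1),
  (nat_lit 0x310201002020022, nat_lit 2),
  (nat_lit 0x40b0c0a03080304, nat_lit 4),
  (nat_lit 0x71000400c10010, nat_lit 8),
  (nat_lit 0x708400008100, nat_lit 16),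
  (nat_lit 0xc04400, nat_lit 32),
  (nat_lit 0x408000000000, nat_lit 16),
  (nat_lit 0x70000400c10000, nat_lit 8),
  (nat_lit 0x403040800080100, nat_lit 4),
  (nat_lit 0x110200001020000, nat_lit 2),
  (nat_lit 0x500440000014, nat_lit 1)]
def V_t1 : Net := [(nat_lit 0x141544140010500, nat_lit 1),
  (nat_lit 0x130012102302202, nat_lit 2),
  (nat_lit 0x10f050b0e010b0c, nat_lit 4),
  (nat_lit 0x7e009700230038, nat_lit 8),
  (nat_lit 0x768c00000200, nat_lit 16),
  (nat_lit 0x1212c300, nat_lit 32),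
  (nat_lit 0x500000000000, nat_lit 16),
  (nat_lit 0x7a009300020000, nat_lit 8),
  (nat_lit 0x10e040b02010b08, nat_lit 4),
  (nat_lit 0x130012102302200, nat_lit 2),
  (nat_lit 0x141544140010500, nat_lit 1)]
def V_t2 : Net := [(nat_lit 0x444140500404050, nat_lit 1),
  (nat_lit 0x332311312002200, nat_lit 2),
  (nat_lit 0x905050d060006, nat_lit 4),
  (nat_lit 0x6200c600a50098, nat_lit 8),
  (nat_lit 0x62a400006100, nat_lit 16),
  (nat_lit 0x4a204400, nat_lit 32),
  (nat_lit 0x22000000000, nat_lit 16),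
  (nat_lit 0x6000c600210000, nat_lit 8),
  (nat_lit 0x804040c060000, nat_lit 4),
  (nat_lit 0x232311312002200, nat_lit 2),
  (nat_lit 0x444140500404050, nat_lit 1)]
def V_t3 : Net := [(nat_lit 0x145545501014400, nat_lit 1),
  (nat_lit 0x330310220022100, nat_lit 2),
  (nat_lit 0x30f070e0600080a, nat_lit 4),
  (nat_lit 0x70009f00c00094, nat_lit 8),
  (nat_lit 0x71a600000008, nat_lit 16),
  (nat_lit 0x1d016a40, nat_lit 32),
  (nat_lit 0x710000000000, nat_lit 16),
  (nat_lit 0x60009f00000000, nat_lit 8),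
  (nat_lit 0x30f060e04000808, nat_lit 4),
  (nat_lit 0x330310220022100, nat_lit 2),
  (nat_lit 0x145545501014400, nat_lit 1)]
def V_t4 : Net := [(nat_lit 0x1105511415454004, nat_lit 1),
  (nat_lit 0x1112200132030110, nat_lit 2),
  (nat_lit 0x60f0b0609050e0a, nat_lit 4),
  (nat_lit 0x71003c001e008c, nat_lit 8),
  (nat_lit 0x4b680000f39e, nat_lit 16),
  (nat_lit 0x7e93ba60, nat_lit 32),
  (nat_lit 0x49300008000, nat_lit 16),
  (nat_lit 0x7c00f7004d0000, nat_lit 8),
  (nat_lit 0x80c09000500, nat_lit 4),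
  (nat_lit 0x1230223032020220, nat_lit 2),
  (nat_lit 0x1401414114011110, nat_lit 1)]
def V_t5 : Net := [(nat_lit 0x515101440500504, nat_lit 1),
  (nat_lit 0x1303211200230200, nat_lit 2),
  (nat_lit 0x4000e040008000c, nat_lit 4),
  (nat_lit 0x250038008f004c, nat_lit 8),
  (nat_lit 0x509b0000afc8, nat_lit 16),
  (nat_lit 0x50890088, nat_lit 32),
  (nat_lit 0x500100000000, nat_lit 16),
  (nat_lit 0x18008f0080, nat_lit 8),
  (nat_lit 0x1080e0000040c00, nat_lit 4),
  (nat_lit 0x2211200230200, nat_lit 2),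
  (nat_lit 0x515101440500504, nat_lit 1)]
def V_t6 : Net := [(nat_lit 0x1441051541410001, nat_lit 1),
  (nat_lit 0x303313000301220, nat_lit 2),
  (nat_lit 0x30e0c0d0208080a, nat_lit 4),
  (nat_lit 0x3800b6005600d8, nat_lit 8),
  (nat_lit 0x309b00005f9c, nat_lit 16),
  (nat_lit 0x31c8d8b6, nat_lit 32),
  (nat_lit 0x481000008000, nat_lit 16),
  (nat_lit 0x3a00e400010000, nat_lit 8),
  (nat_lit 0x7000e0f05040300, nat_lit 4),
  (nat_lit 0x112033200032112, nat_lit 2),
  (nat_lit 0x405414545450040, nat_lit 1)]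
def V_t7 : Net := [(nat_lit 0x1111111111133333, nat_lit 2),
  (nat_lit 0x303030303030303, nat_lit 4),
  (nat_lit 0x7c007c007c00fc, nat_lit 8),
  (nat_lit 0x3ff000003ff, nat_lit 16),
  (nat_lit 0x7ffffc00, nat_lit 32),
  (nat_lit 0x8000, nat_lit 16),
  (nat_lit 0x808080808, nat_lit 4),
  (nat_lit 0x15555555555, nat_lit 1)]
def V : Ctx := ⟨63, 6, [V_t0, V_t1, V_t2, V_t3, V_t4, V_t5, V_t6, V_t7]⟩
theorem V_ok : V.ok = true := by decide +kernel
def V_ps : List (Word × ℕ) := [([], 3), ([6,6], 0), ([4,4], 0), ([2,2], 0), ([0,0], 0), ([0,2,0,2], 0), ([0,4,0,4], 0), ([0,6,0,6], 0), ([2,4,2,4], 0), ([2,6,2,6], 0), ([4,6,4,6], 0), ([8,8,8], 0), ([4,9,6,8], 0), ([0,8,2,6,9], 0), ([4,6,8,6,9], 0), ([0,2,6,8,0,9], 0), ([10,10], 0), ([2,10,2,10,2,10], 0), ([0,2,6,10,0,10,4,8,10], 0), ([0,2,10,0,4,10,8,6,10], 0), ([12,12], 1), ([10,12,10,12], 1), ([0,12,0,12,0,12], 0), ([4,9,12,4,10,9,12], 0)]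
theorem V_e_0 : lall (ceq [14] 8 V_ps) (eqP V) = true := by decide +kernel
theorem V_e : lall (ceq [14] 8 V_ps) (eqP V) = true := V_e_0
theorem V_cov : Cov V.g rels (V.ev [14]) 3 := cov_of V_ok V_e 3 3 0 (by decide +kernel) (by decide)
theorem V_w : ev V.g (cw gens [([6,9,2], [10,1,12], 2)]) = V.ev [14] := Ctx.eq_of_eqW V_ok (v := [14]) (by decide +kernel)
theorem V_st : St (C.grp gens) (Multiplicative (ZMod 3)) :=
  st_cyc bound rfl card.ge hrel V_cov _ (Ctx.eq_of_eqW hC (v := []) (by decide +kernel)) V_w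
def U_t0 : Net := [(nat_lit 0x15544154001401045441140014011554415400140104544114001401, nat_lit 1),
  (nat_lit 0x10111323213300010222232213023213320302130211010213103300, nat_lit 2),
  (nat_lit 0xf000201080f050d02090f0a0907070809000b0e040c01010e070a04, nat_lit 4),
  (nat_lit 0x210033008d0015000a001800b1002100b3000a0085002900220018, nat_lit 8),
  (nat_lit 0xe19400003c5300008cdf00003acd0000fb070000d38800002144, nat_lit 16),
  (nat_lit 0x50f98913000000007ef9d71600000000c46d2601, nat_lit 32),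
  (nat_lit 0x41fa124f0000000000000000c4641cc449c00285, nat_lit 64),
  (nat_lit 0xd1450119d6f37c140114c641, nat_lit 128),
  (nat_lit 0x40100408000000000000000092110c1000000000, nat_lit 64),
  (nat_lit 0x49db802000000001ea115100000000010710441, nat_lit 32),
  (nat_lit 0x837c00003556000028af00003a890000c4240000c4dc00000000, nat_lit 16),
  (nat_lit 0x300b8001400390034009000200084001b0095001b00010000, nat_lit 8),
  (nat_lit 0x508030a020f010403080d0f0903050a0a03080e000402030e020800, nat_lit 4),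
  (nat_lit 0x10111223203300110322333213023213330303130201000203003300, nat_lit 2),
  (nat_lit 0x15544150001000045441100010001554415000100004544110001000, nat_lit 1)]
def U_t1 : Net := [(nat_lit 0x10150015545540414000000110001015001554554041400000011, nat_lit 1),
  (nat_lit 0x13013232000110010213320022021301123200211001021112000020, nat_lit 2),
  (nat_lit 0x901070f0d010b0b040f0a0d01050901050f0d010a0f00030c0f0404, nat_lit 4),
  (nat_lit 0xf007d0090004700b7003b003b000f007500380046007300930080, nat_lit 8),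
  (nat_lit 0x7eaa0000856900008bd60000c3de0000a16a0000170200005c08, nat_lit 16),
  (nat_lit 0xf4909e6f00000000805c4d9a00000000b4187219, nat_lit 32),
  (nat_lit 0x3b22c11700000000000000008749821011010118, nat_lit 64),
  (nat_lit 0xcfde4e5ee627dc4e14a10021, nat_lit 128),
  (nat_lit 0x222400e00000000000000000601800000000000, nat_lit 64),
  (nat_lit 0xec029d7400000000c0524d0800000000a0080201, nat_lit 32),
  (nat_lit 0x3fa40000853b0000dec40000c3d4000098510000050000000000, nat_lit 16),
  (nat_lit 0x700310089004700e3009a001b0007001900010046002700100000, nat_lit 8),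
  (nat_lit 0xc01020a01000307010b0e0005010c01000a01000203050708020000, nat_lit 4),
  (nat_lit 0x13003232000110010013320022021300123200211001001112000020, nat_lit 2),
  (nat_lit 0x10150015544540414000000100001015001554454041400000010, nat_lit 1)]
def U_t2 : Net := [(nat_lit 0x54504150114440415555011400005450015114445041555505141440, nat_lit 1),
  (nat_lit 0x1103121013220121211130012200000212100320002120013100320, nat_lit 2),
  (nat_lit 0xa0b0a0e03040c00000f0c0c010107010d0a05000001090e0d090900, nat_lit 4),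
  (nat_lit 0x8a001c00a1004100610018000400fa007d00d000340050002d0060, nat_lit 8),
  (nat_lit 0x26450000152e000046da0000717700003bff00004e15000097d2, nat_lit 16),
  (nat_lit 0xaafa740400000000707a631700000000f84e888a, nat_lit 32),
  (nat_lit 0x1b16c1cb00000000000000008be350572922308a, nat_lit 64),
  (nat_lit 0x86093838bf1b20cb3032448, nat_lit 128),
  (nat_lit 0x1161a00100000000000000008b91a00400000000, nat_lit 64),
  (nat_lit 0xa2b57006000000002260711300000000186320c8, nat_lit 32),
  (nat_lit 0x24600008908000003e80000f135000018a90000620700000000, nat_lit 16),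
  (nat_lit 0x2b00a500c400650055007c00640092008100f500140061000c0000, nat_lit 8),
  (nat_lit 0xa0900070504040009030808080107030702030008010002090d0000, nat_lit 4),
  (nat_lit 0x1203020103300123200021013200120213011332002220013001220, nat_lit 2),
  (nat_lit 0x14000051044450010554050414401400405001444001055401040000, nat_lit 1)]
def U_t3 : Net := [(nat_lit 0x5045105040040041504511144500504510404004004150451115450, nat_lit 1),
  (nat_lit 0x12010101021101310212313210332320023013220122030322220133, nat_lit 2),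
  (nat_lit 0xe0c0d0e060200000d06050e0c090a07090909000b0807000b0d0902, nat_lit 4),
  (nat_lit 0x5c0049002d002900890049005200080066007800e800c000070004, nat_lit 8),
  (nat_lit 0x34760000b63700004d360000c7c4000088bd00008a5200004f70, nat_lit 16),
  (nat_lit 0x432c605f00000000bf5aa454000000008a26cbe8, nat_lit 32),
  (nat_lit 0xe8d0dcb50000000000000000928d6e79cc4d118c, nat_lit 64),
  (nat_lit 0xa13760d71dcefbf2d6f0aea8, nat_lit 128),
  (nat_lit 0x3647083e0000000000000000114802d200000000, nat_lit 64),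
  (nat_lit 0x18fe2dcc0000000016016345000000000a1004a0, nat_lit 32),
  (nat_lit 0xbeb40000ec3d0000b1410000421d00001270000049d600000000, nat_lit 16),
  (nat_lit 0xcc00310024003900bd001f0057004d001c004e0069003800100000, nat_lit 8),
  (nat_lit 0x10d03010e08080e070e0e0c020b0907040c0d0d030b0d0908030200, nat_lit 4),
  (nat_lit 0x20030320220132322103210233003302123332103203000010130000, nat_lit 2),
  (nat_lit 0x4150451115450050451050400400415045111445005045104040040, nat_lit 1)]
def U_t4 : Net := [(nat_lit 0x44015444110514440154441105144401544411051444015444110514, nat_lit 1),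
  (nat_lit 0x23120320333333231203203333332312032033333323120320333333, nat_lit 2),
  (nat_lit 0x70f0a0a060a0e070d0b08060a0e070f0b0b060a0f070e090a070b0e, nat_lit 4),
  (nat_lit 0x490024002b00f400fc0046001c000a0057006900b6009c0006007c, nat_lit 8),
  (nat_lit 0x9747000064fd0000841600005f8800007dc6000069bb00002fa8, nat_lit 16),
  (nat_lit 0xb33e50d700000000d9a24f3f0000000069bec6c1, nat_lit 32),
  (nat_lit 0x609e4ea80000000000000000ab3a24a88385f1d9, nat_lit 64),
  (nat_lit 0x9ca13e2fbb3f2c84a31bd350, nat_lit 128),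
  (nat_lit 0x53225030000000000000000b110000000000000, nat_lit 64),
  (nat_lit 0x410fd88f0000000028229f6d00000000a0a67281, nat_lit 32),
  (nat_lit 0x4ae00001c180000096f00008fb000009539000012f200000000, nat_lit 16),
  (nat_lit 0x4200c300b10034004e002a00400001008300c20076002d00480000, nat_lit 8),
  (nat_lit 0x4070303030100040601030300000406010202000104040003010000, nat_lit 4),
  (nat_lit 0x22331011233000223310112330002233101123300022331011233000, nat_lit 2),
  (nat_lit 0x15014105111500150141051115001501410511150015014105111500, nat_lit 1)]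
def U_t5 : Net := [(nat_lit 0x5000045414101044100514501000511005440001005011055410100, nat_lit 1),
  (nat_lit 0x320222121332100132103020211033023302122201011301303020, nat_lit 2),
  (nat_lit 0x30909080e04000d0f0608000c0006040109020900010b0b000801, nat_lit 4),
  (nat_lit 0x3500f900cb007300d30080008e00c800c9003600c60036006100e6, nat_lit 8),
  (nat_lit 0x4fd70000d97c00000a3c0000548b0000dbe300000abe00003880, nat_lit 16),
  (nat_lit 0x428df3ec0000000065bb7f1400000000495001c8, nat_lit 32),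
  (nat_lit 0xba9045b1000000000000000060324c8c9d097080, nat_lit 64),
  (nat_lit 0x88225a1f418bcba81c1c31c8, nat_lit 128),
  (nat_lit 0x842c69d50000000000000000408988a800000000, nat_lit 64),
  (nat_lit 0x561ae1880000000034b22a0400000000001e3188, nat_lit 32),
  (nat_lit 0x2b5200006801000012f7000000a30000e10a00002c1200000000, nat_lit 16),
  (nat_lit 0x1900d500be00520073000c00a100e400f8001b00a3001e00b00000, nat_lit 8),
  (nat_lit 0xb010000060800000f0c040809010b0d0c040b0000010700090000, nat_lit 4),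
  (nat_lit 0x330222131223110111100111101032023313122200013000110000, nat_lit 2),
  (nat_lit 0x1140154050010010411550401000105014504410100440151000100, nat_lit 1)]
def U_t6 : Net := [(nat_lit 0x40114145541450410141441000504045404451145040015504501454, nat_lit 1),
  (nat_lit 0x13220012312200110220023320003231002110022030002203102000, nat_lit 2),
  (nat_lit 0x30801000701090f02090e020703010603090f09090301020d000001, nat_lit 4),
  (nat_lit 0xd300cd007600c000f8001d0083006b00b10088008a00c50051002c, nat_lit 8),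
  (nat_lit 0x4d71000065a2000025f4000044180000fd0300001eb900009608, nat_lit 16),
  (nat_lit 0xa27dca78000000000a60570c0000000018b8e008, nat_lit 32),
  (nat_lit 0x7b55a02600000000000000002ae00e0e44181008, nat_lit 64),
  (nat_lit 0x5108462422c10bdaa0363000, nat_lit 128),
  (nat_lit 0x612c742000000000000000002241028a00000000, nat_lit 64),
  (nat_lit 0x6af18a62000000004e784c8600000000002d2000, nat_lit 32),
  (nat_lit 0x124d0000812a0000ac4c00000018000018640000100500000000, nat_lit 16),
  (nat_lit 0x4b008300b400c0007d0092008d004100ed00e400860059008c0000, nat_lit 8),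
  (nat_lit 0x30f01070109080f03040b060302010a030b000b0803000208050000, nat_lit 4),
  (nat_lit 0x2330021322000020220031220002320003011022021002202312000, nat_lit 2),
  (nat_lit 0x40454044411410400155044014144011414544141041014144000010, nat_lit 1)]
def U_t7 : Net := [(nat_lit 0xff00ff00ff00ff00ff00ff00ff00ff00ff00ff00ff00ff00ff00ff, nat_lit 8),
  (nat_lit 0xff000000ff000000ff000000ff000000ff000000ff000000ff, nat_lit 16),
  (nat_lit 0xffffff00, nat_lit 32),
  (nat_lit 0xffffffff000000000000000000000000ffffffff, nat_lit 64),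
  (nat_lit 0xffffffffffffff0000000000, nat_lit 128),
  (nat_lit 0xffffff0000000000, nat_lit 64),
  (nat_lit 0xff00000000000000ff00000000000000ff, nat_lit 32)]
def U : Ctx := ⟨224, 8, [U_t0, U_t1, U_t2, U_t3, U_t4, U_t5, U_t6, U_t7]⟩
theorem U_ok : U.ok = true := by decide +kernel
def U_ps : List (Word × ℕ) := [([], 4), ([6,6], 2), ([4,4], 0), ([2,2], 0), ([0,0], 0), ([0,2,0,2], 0), ([0,4,0,4], 2), ([0,6,0,6], 0), ([2,4,2,4], 2), ([2,6,2,6], 2), ([4,6,4,6], 2), ([8,8,8], 2), ([4,9,6,8], 3), ([0,8,2,6,9], 3), ([4,6,8,6,9], 0), ([0,2,6,8,0,9], 0), ([10,10], 0), ([2,10,2,10,2,10], 2), ([0,2,6,10,0,10,4,8,10], 3), ([0,2,10,0,4,10,8,6,10], 0), ([12,12], 0), ([10,12,10,12], 0), ([0,12,0,12,0,12], 0), ([4,9,12,4,10,9,12], 1)]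
theorem U_e_0 : lall (ceq [14] 8 U_ps) (eqP U) = true := by decide +kernel
theorem U_e : lall (ceq [14] 8 U_ps) (eqP U) = true := U_e_0
theorem U_cov : Cov U.g rels (U.ev [14]) 4 := cov_of U_ok U_e 4 2 0 (by decide +kernel) (by decide)
def W_t0 : Net := [(nat_lit 0x1155445515411045010015144110145144451150104501010511445, nat_lit 1),
  (nat_lit 0x30130030003201322101300032003122012011231033210030113300, nat_lit 2),
  (nat_lit 0x300090100020403040c04000a0005050c040004000901080c, nat_lit 4),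
  (nat_lit 0xbf007e0063004500430041002000ae0078007c005d000f0047005c, nat_lit 8),
  (nat_lit 0x42420000a5c20000445d000069c6000049550000d83900000e40, nat_lit 16),
  (nat_lit 0x5b160b380000000079c086b9000000005cb5c2e4, nat_lit 32),
  (nat_lit 0x59f645b200000000000000009a825accd4b44020, nat_lit 64),
  (nat_lit 0x9dd8e14dd7d05f9a283c20e4, nat_lit 128),
  (nat_lit 0x11008080000000000000000082804d1000000000, nat_lit 64),
  (nat_lit 0x43964a2200000000014086790000000040b441e4, nat_lit 32),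
  (nat_lit 0x4074000089c80000465c0000218600001b540000940100000000, nat_lit 16),
  (nat_lit 0xba007e007c005d004b0043004c00aa007d00220041000500470000, nat_lit 8),
  (nat_lit 0x800030008010002040b04080000020004050d0400040001010800, nat_lit 4),
  (nat_lit 0x230130003301020101300033000112002011221003010030113200, nat_lit 2),
  (nat_lit 0x1450545105110045001111050540115454410100004500100100000, nat_lit 1)]
def W_t1 : Net := [(nat_lit 0x4541405050511045414040505010454540401440104545405014411, nat_lit 1),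
  (nat_lit 0x10323312112300123133233101001021230323312010202112033300, nat_lit 2),
  (nat_lit 0x1010c090c030708000706070e0401090f090d0b0f0804040a020406, nat_lit 4),
  (nat_lit 0xa700be004800cc00ad0092001d003100ab006d004b00eb00580092, nat_lit 8),
  (nat_lit 0x7d9100006e4400009011000098d300000b1e000021f8000099ea, nat_lit 16),
  (nat_lit 0x5b28491a00000000a964312b00000000fb48d7b3, nat_lit 32),
  (nat_lit 0x7e6ed9b7000000000000000002429ba1ee75dd33, nat_lit 64),
  (nat_lit 0x66cfeb733b71edef805027c8, nat_lit 128),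
  (nat_lit 0x14048800000000000000001311e96f00000000, nat_lit 64),
  (nat_lit 0xb728c21300000000e9b42418000000005200a9f1, nat_lit 32),
  (nat_lit 0x317f0000852e0000120900004a840000eeab000040b400000000, nat_lit 16),
  (nat_lit 0xb30015009c00c600e70013009500b4007800c2004800f000060000, nat_lit 8),
  (nat_lit 0x80409080105030101020703030a080c0905080e0301050202020200, nat_lit 4),
  (nat_lit 0x103321101200020013012323200102131303230001103331121000, nat_lit 2),
  (nat_lit 0x504141004010005001410401100050014004010000504140004000, nat_lit 1)]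
def W_t2 : Net := [(nat_lit 0x1004050500040010040505000400100405050004001004050500040, nat_lit 1),
  (nat_lit 0x11112101101121131120031001211111200310012111112303101121, nat_lit 2),
  (nat_lit 0x4080d050208080d000d0c020000050c0d040208080c040d0d02, nat_lit 4),
  (nat_lit 0x1b0013004f00dd0009000200020004004b0019004800de004a00c8, nat_lit 8),
  (nat_lit 0xa7810000e3000000c3cc00000c2d0000c3f8000076f30000bdb8, nat_lit 16),
  (nat_lit 0x46b86f9200000000349d366e000000004ba7914e, nat_lit 32),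
  (nat_lit 0x7d39dcfa00000000000000000d3ad094e89d8a2c, nat_lit 64),
  (nat_lit 0xaf7f6cfceeca6c7c5c48530a, nat_lit 128),
  (nat_lit 0xa0120b14000000000000000048c2205000000000, nat_lit 64),
  (nat_lit 0x470053ec0000000085451c2800000000d12d110a, nat_lit 32),
  (nat_lit 0x16b00001a600000f43c000020570000f84c0000428400000000, nat_lit 16),
  (nat_lit 0xca008b000d0009000000ca000200dd004400db0054001d00000000, nat_lit 8),
  (nat_lit 0x8080805090c000000000c09040008080c040908000000040d090000, nat_lit 4),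
  (nat_lit 0x2003112101020000031121010200000321210002000003010100020, nat_lit 2),
  (nat_lit 0x1004050100040010040501000400100405010004001004050100040, nat_lit 1)]
def W_t3 : Net := [(nat_lit 0x1055555114140000145501150440105555511404100014550114000, nat_lit 1),
  (nat_lit 0x10303212221323331200320031001130331222132333131033103100, nat_lit 2),
  (nat_lit 0x60b0f0c0f0e030f00020209000706030f0406020e0f040203010701, nat_lit 4),
  (nat_lit 0x8a007d0010005e008f001700ad005b00fe0001005500de001c0011, nat_lit 8),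
  (nat_lit 0x13eb000013a90000ff4a000024f90000d1c0000074e900001661, nat_lit 16),
  (nat_lit 0x9280f56f00000000a4ca4e46000000005948abc3, nat_lit 32),
  (nat_lit 0x7613d5e000000000000000009a73d6b06dc02c88, nat_lit 64),
  (nat_lit 0xe1f7026674cdae3b6c4cab86, nat_lit 128),
  (nat_lit 0x88aa884000000000000000001449a23800000000, nat_lit 64),
  (nat_lit 0x9629d86d0000000024926a060000000045008380, nat_lit 32),
  (nat_lit 0x86d300008ec80000fa8a000028b100004cb00000600000000000, nat_lit 16),
  (nat_lit 0x1800fc00090057008d000c0086005900ef00800044001500170000, nat_lit 8),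
  (nat_lit 0x7030704070e0b0608030203020d070b060c0f0305060c0303080600, nat_lit 4),
  (nat_lit 0x1203312221323230210321031000020321222132323030033003100, nat_lit 2),
  (nat_lit 0x5045415100140040044101010440504541510004104004410100000, nat_lit 1)]
def W_t4 : Net := [(nat_lit 0x145540455014001455404550140014554045501400145540455014, nat_lit 1),
  (nat_lit 0x10310223003321113102230033211030122300332110310222003321, nat_lit 2),
  (nat_lit 0x50c09070306040f0e03050500060d04010f0f02040f0e030405010e, nat_lit 4),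
  (nat_lit 0x1200b5005a000800bd00c00068004300ed0017001800bd00c000f8, nat_lit 8),
  (nat_lit 0xe08c0000d156000012480000210a00001176000040290000be74, nat_lit 16),
  (nat_lit 0x9e3fd1ad0000000081327d9d00000000de83c226, nat_lit 32),
  (nat_lit 0xfcefeffa0000000000000000bedca8f8c7a3ff22, nat_lit 64),
  (nat_lit 0x40108036bece88605e2977c6, nat_lit 128),
  (nat_lit 0x81810500000000000000000be8a082000000000, nat_lit 64),
  (nat_lit 0xa8a480c8000000009146025c0000000080e8eee2, nat_lit 32),
  (nat_lit 0x431500000f48000018670000813a00002e290000188c00000000, nat_lit 16),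
  (nat_lit 0xb00052007900d6009c0062000000a1004300f1005e004400720000, nat_lit 8),
  (nat_lit 0xf0e070f060a06010c0d0d0400040b0e070f0e030609040504040000, nat_lit 4),
  (nat_lit 0x22301131203000223010312130002231103120300022301030203000, nat_lit 2),
  (nat_lit 0x4015511151544040155111515440401551115154404015511151544, nat_lit 1)]
def W_t5 : Net := [(nat_lit 0x45400454444140400441445401004000440504010045044115044140, nat_lit 1),
  (nat_lit 0x1002331230000230102122300002333212301013003230113203021, nat_lit 2),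
  (nat_lit 0xb010f00080d0c0303090f0701000e08080102050a02080d08000b, nat_lit 4),
  (nat_lit 0xe600dc008d00bf0034005b00cf00ab00a6007b007900b50087005e, nat_lit 8),
  (nat_lit 0x879b00006b8900005cc700003efb0000275200000a4700003dd0, nat_lit 16),
  (nat_lit 0x52d1013f00000000e1940f0400000000f3e04d6c, nat_lit 32),
  (nat_lit 0x42d066ce0000000000000000d18694a0c4684e1c, nat_lit 64),
  (nat_lit 0x62b9be27687ddfb31524b15c, nat_lit 128),
  (nat_lit 0x151c07110000000000000000202cdc9300000000, nat_lit 64),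
  (nat_lit 0x59c541fe00000000076b0200000000000044307c, nat_lit 32),
  (nat_lit 0xaa6f0000967700008d0200002a7f0000ffcc00004a9000000000, nat_lit 16),
  (nat_lit 0x400880037001b008a008a00a70001003a005900500000005b0000, nat_lit 8),
  (nat_lit 0xa01020e0b0508020a000d030b060c0008090e0c02000d0b09020000, nat_lit 4),
  (nat_lit 0x2230311322020000233332301302101001301200121310122010000, nat_lit 2),
  (nat_lit 0x5044111144140050044504441400004414044010000400401040100, nat_lit 1)]
def W_t6 : Net := [(nat_lit 0x4110045051414041110410504140411004505141404111041050414, nat_lit 1),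
  (nat_lit 0x23321313121111332202020200002332131312111133220202020000, nat_lit 2),
  (nat_lit 0x7010f01050b0d03060a05030a090b0f010d0e02070f0a02080a0201, nat_lit 4),
  (nat_lit 0xe9005800110085006f001a008c00af00950007000800e10083008c, nat_lit 8),
  (nat_lit 0xe4bf00009993000053b00000645a0000baf2000011990000b0e0, nat_lit 16),
  (nat_lit 0x4f69e95200000000645c1a0f000000008b885143, nat_lit 32),
  (nat_lit 0xd3d1d4900000000000000004824614ed3129143, nat_lit 64),
  (nat_lit 0x1150aa1d6a716f5085131001, nat_lit 128),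
  (nat_lit 0x8403921800000000000000006820614000000000, nat_lit 64),
  (nat_lit 0xcb796b40000000005054880c0000000090018141, nat_lit 32),
  (nat_lit 0x1c3c000023020000c8290000745a000002430000838800000000, nat_lit 16),
  (nat_lit 0xe8005a0011008500440002000000ae009500140008004000000000, nat_lit 8),
  (nat_lit 0x50b0d01070b0b010f0a04020a080904020d0d03000d0202080a0200, nat_lit 4),
  (nat_lit 0x23321313121111332202020200002332131312111133220202020000, nat_lit 2),
  (nat_lit 0x4100045041010041010410400100410004504101004101041040010, nat_lit 1)]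
def W_t7 : Net := [(nat_lit 0xff00ff00ff00ff00ff00ff00ff00ff00ff00ff00ff00ff00ff00ff, nat_lit 8),
  (nat_lit 0xff000000ff000000ff000000ff000000ff000000ff000000ff, nat_lit 16),
  (nat_lit 0xffffff00, nat_lit 32),
  (nat_lit 0xffffffff000000000000000000000000ffffffff, nat_lit 64),
  (nat_lit 0xffffffffffffff0000000000, nat_lit 128),
  (nat_lit 0xffffff0000000000, nat_lit 64),
  (nat_lit 0xff00000000000000ff00000000000000ff, nat_lit 32)]
def W : Ctx := ⟨224, 8, [W_t0, W_t1, W_t2, W_t3, W_t4, W_t5, W_t6, W_t7]⟩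
theorem W_ok : W.ok = true := by decide +kernel
def W_ps : List (Word × ℕ) := [([], 4), ([6,6], 0), ([4,4], 2), ([2,2], 2), ([0,0], 0), ([0,2,0,2], 0), ([0,4,0,4], 0), ([0,6,0,6], 0), ([2,4,2,4], 0), ([2,6,2,6], 0), ([4,6,4,6], 2), ([8,8,8], 3), ([4,9,6,8], 3), ([0,8,2,6,9], 2), ([4,6,8,6,9], 3), ([0,2,6,8,0,9], 3), ([10,10], 2), ([2,10,2,10,2,10], 0), ([0,2,6,10,0,10,4,8,10], 1), ([0,2,10,0,4,10,8,6,10], 0), ([12,12], 0), ([10,12,10,12], 0), ([0,12,0,12,0,12], 2), ([4,9,12,4,10,9,12], 0)]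
theorem W_e_0 : lall (ceq [14] 8 W_ps) (eqP W) = true := by decide +kernel
theorem W_e : lall (ceq [14] 8 W_ps) (eqP W) = true := W_e_0
theorem W_cov : Cov W.g rels (W.ev [14]) 4 := cov_of W_ok W_e 4 2 0 (by decide +kernel) (by decide)
theorem U_l : ev U.g (cw gens [([7], [3], 1), ([8,6], [2,11], 3)]) = U.ev [14] := Ctx.eq_of_eqW U_ok (v := [14]) (by decide +kernel)
theorem W_l : ev W.g (cw gens [([7], [3], 1), ([8,6], [2,11], 3)]) = 1 := Ctx.eq_of_eqW W_ok (v := []) (by decide +kernel)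
theorem U_m : ev U.g (cw gens [([9], [6,3,11], 3)]) = 1 := Ctx.eq_of_eqW U_ok (v := []) (by decide +kernel)
theorem W_m : ev W.g (cw gens [([9], [6,3,11], 3)]) = W.ev [14] := Ctx.eq_of_eqW W_ok (v := [14]) (by decide +kernel)
theorem UW_st : St (C.grp gens) (Multiplicative (ZMod 4 × ZMod 4)) :=
  st_two bound rfl card.ge hrel U_cov W_cov _ _ (Ctx.eq_of_eqW hC (v := []) (by decide +kernel)) U_l W_l (Ctx.eq_of_eqW hC (v := []) (by decide +kernel)) U_m W_m
def c2_t : List (List (List ℕ)) := [[[5],[1,4],[2],[3,4,5],[4],[5]],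
  [[],[4,5],[2,5],[3,4],[4],[5]],
  [[],[],[4],[3,4],[4],[5]],
  [[],[],[],[],[4],[5]],
  [[],[],[],[],[],[5]],
  [[],[],[],[],[],[]]]
noncomputable def c2 : PC := ⟨6, 2, 32, 17, 34, 2, 43, 31, 2047, fun e => nth (nth c2_t [] (Nat.div e 6)) [] (Nat.mod e 6),
  [(0,[2,3],[5]),
  (0,[0,1],[4,5]),
  (1,[4],[1,2,3,4]),
  (1,[1,2],[4,5]),
  (1,[3],[5]),
  (0,[5],[2,3,4]),
  (1,[5],[3,5])]⟩
def c2_A0 : List (List ℕ × List ℕ × ℕ) := [([3],[1,1],nat_lit 0x4000100000000000000000000080004000000000000000000000000000000000000000000000000004000400000000000000000000000000000000000000),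
  ([3],[0,0],nat_lit 0x80000000000000000000000002000100000000000000000000080000000000000000000000000000000000000000000000000000000000000000000000000002000100010000000000000),
  ([3],[3,0],nat_lit 0xf8000000000000000000000003e001f00000000000000000000f8007c0000000000000000000000000000000000000000000000000000000000000000000000000000000f0000000000000),
  ([1],[0,0],nat_lit 0x4000100000000000000000000000000000000000000000000000000000000000000000000000080000000000000000000000000000100000000000040000),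
  ([2],[2,1],nat_lit 0xf8000000000000000000000000000000000000000000000000000000000000000000000000003e0000000000000000000000000000040000001e0000000000000000000000000000000000),
  ([3],[3,1],nat_lit 0x1f0000000000000000000000007c000000000000000000000000000000000000000000000000000003c00000000000000000000000000000000000000),
  ([3],[3,2],nat_lit 0x1f0000000000000000000000007c0000000000000000000000000000f0000000000000000000000000000000000000000000000000000000000000000),
  ([2],[2,0],nat_lit 0x100000007800000000),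
  ([1],[1,1],nat_lit 0x80004000000000000000000000000000000000000000000),
  ([2],[0,0],nat_lit 0x2000000000000000000000000000000000000000000000000000000000000000800000000),
  ([4],[0,0],nat_lit 0x2000000000000000000000000000000000000000000000000000000000000000000000000000000000000000000000000000000000200000000000000000),
  ([4],[4,0],nat_lit 0x1e00000000000000000),
  ([4],[4,1],nat_lit 0x78000000000000000000000000000000000000000000),
  ([5],[5,1],nat_lit 0xf00000000000000000000000000000000000000000000000),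
  ([5],[5,2],nat_lit 0x3c000000000000000000000000000000000000000000000000000000000000000000000000),
  ([0],[0,0],nat_lit 0x2000000000000000000000),
  ([2],[2,2],nat_lit 0x100000000000000000000000000000000000000000000000000000000000000000000),
  ([4],[3,3],nat_lit 0x8000000000000000000000000000000000000000000000000000000000000000000000000000000000000000000000),
  ([5],[3,3],nat_lit 0x100000000000000000000000000000000000000000000000000000000000000000000000000000000000000000000000000),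
  ([5],[4,4],nat_lit 0x4000000000000000000000000000000000000000000000000000000000000000000000000000000000000000000000000000000000000000000000000000)]
theorem c2_hA0 : lall c2_A0 c2.relA = true := by decide +kernel
def c2_B0 : List (ℕ × List ℕ × List ℕ × ℕ) := [(0,[0,1],[1,0],nat_lit 0x80000000000000000000000002000100000000000000000000080000000000000000000000000000000000000000000000000080004000200010000000000000000000008000400000000),
  (1,[2,2],[],nat_lit 0x7800000000000f80000000000000000000000000001e00000000000000000000000074003e0000000000000003e001e000f8007c0000000000000007c003e001f000f800000000000000000000000000000),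
  (0,[1,1],[],nat_lit 0x3c0000000000000000000000000000000002000000000000000000000000000000000000000000000000000000000000000000000000000100004000000000000800000000000000000000000020001),
  (1,[3,3],[],nat_lit 0xf000000000000000000000000000000000000000003e000000000000000000000000000000000000000000000000002000200000000400000000000000000000000010000800000000000000000000000000000),
  (1,[4,3],[3,4],nat_lit 0x3e000100000000000000000000000000000000000000000000000000100008000000000000000000000000200000000000000000000000000000000000000),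
  (0,[5,5],[],nat_lit 0x3c000000000000000000000000080000000000000000000000000001e00000000000000000000000078003e00000000000000000001f000f8007c00000000000000000000000000000000000000000000000000000000000),
  (0,[0,0],[],nat_lit 0x1e000f80000000000000000000000000000100000000000000000000000004000200000000000000000000000008000400000000000000000000000000000000000000000000000000000000000),
  (1,[6,6],[],nat_lit 0x780000000000000000000000000000000000000000000000000000000000000000000000000000000f80000003e00000000000000000000000000000000000000000000000000000000000000000000000000000000000000000),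
  (1,[4,4],[],nat_lit 0x1e00000000000000000000f80000000000000000000000000000000000000000000000000000000000200000000000000000000000000000000000000000000000000000000000000000000000000000000000000000)]
theorem c2_hB0 : lall c2_B0 c2.relB = true := by decide +kernel
theorem c2_lin : Lin c2 (2 ^ 4) :=
  ⟨by decide +kernel, c2_A0, c2_B0, _,
  [nat_lit 0x80002000200000003c001e0000000000000000000000000000000000000000000000000000000000000000000000000000000000000000000000000000000000000000000000000000000000000000000000000000000000000,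
  nat_lit 0x34001e000e00008000800000000000000000000000000000000000000000000000000000000000000000000000000000000000000000000000000000000000000000000000000000000000000000000000000000000000000000,
  nat_lit 0x80002000200078003c00000000000000000000000000000000000000000000000000000000000000000000000000000000000000000000000000000000000000000000000000000000000000000000000000000000000000000,
  nat_lit 0x40000000000000000000000000000000000000000000000000000000000000000000000000000000000000000000000000000000000000000000000000000000000000000000000000000000000000000000000000000000000,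
  nat_lit 0x7800200012000a000400038000c000000000000000000000000000000000000000000000000000000000000000000000000000000000000000008000000000000000000000000000000000000000000000000000000000000002,
  nat_lit 0x1000040004000000078003c0000000000000000000000000000000000000000000000000000000000000000000000000000000000000000000000000000000000000000000000000000000000000000000000000000000000001],
  [(nat_lit 0x400000000,4,nat_lit 0x480009000000000),
  (nat_lit 0xb00000000000000000000a8002800160000,4,nat_lit 0x5001bf8ad6d0156502ca)],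
  [[0,nat_lit 0x5e2a41cc245400015400000020480408c8b3a6d,31,nat_lit 0x57ea3dec3ce00005b40000005410091e4631d76,nat_lit 0x3e0000000001e,nat_lit 0x3e000000000000000000000],
  [nat_lit 0x4d8a320e358c0001a400000036ec0c0b8d721e7,nat_lit 0x39c0f800108c00004000000037c805178e066a7,nat_lit 0x5e2a41cc245000015200000020860408c8bbace,nat_lit 0x1800000e000000164c00883dcfb5e,nat_lit 0x68000032000000f1b40ffbe3388c2],
  [nat_lit 0x666a49ca23c000018e00000078fc06b53bc9486,nat_lit 0x5e2a418c24580001940000002808038cc8b36cc,nat_lit 0x7c0000000000000000000000,nat_lit 0xf80000000000002],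
  [nat_lit 0x22004200828000436000000a15409522b2b75e,nat_lit 0x3e000000003e0000010801e,nat_lit 0x5800002a000000e2ec0f73e558cc2],
  [nat_lit 0x9cc84a9c86000059e000000473600b28f8d286,nat_lit 0x80000040000000f8400041ff7c00],
  [nat_lit 0x10801001ef0000078e000000befc06e521cb20e]],
  c2_hA0, c2_hB0, rfl, by decide +kernel, by decide +kernel, by decide +kernel, by decide +kernel⟩
def c2_x : List Word := [[4,6,12,4,8,10,8,2,4,6],
  [0,9,0,12,2,10,4],
  [6,12,2,4,10,8,0,4],
  [0,6,12,10,6,10,8,0,6],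
  [0,4,6,12,0,4,10,9,0,2,4],
  [0,12,0,4,10,8,6],
  [0,8,10,9,2],
  [0,10,8,0,4,6]]
theorem c2_r0 : ∀ i < 6, c2.rowOK (chkW lk [0,1,2,3] c2_x) (0 + i) = true := by decide +kernel
theorem c2_r : ∀ i < c2.K, c2.rowOK (chkW lk [0,1,2,3] c2_x) i = true := of_zero (P := fun i => c2.rowOK (chkW lk [0,1,2,3] c2_x) i = true) (n := 6) (c2_r0)
theorem c2_f : lall c2.F (c2.fusOK (chkW lk [0,1,2,3] c2_x)) = true := by decide +kernel
theorem c2_low : c2.l ^ c2.K ≤ lowB C [(0, [0,2,8,10], [[2,4,8], [6,8,10]]),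
  (1, [0,2], [])] (c2_x.take c2.K) := by decide +kernel
theorem c2_grp : Grp c2 (C.grp gens) :=
  grp_of_ctx hC hlk (cb.2) (ws := c2_x) (fun w h => all_mem ((by decide +kernel : ∀ w ∈ c2_x, ∀ a ∈ w, a < 14) w h)) card (by decide) _ c2_r c2_f (by decide +kernel) c2_low
def c3_t : List (List (List ℕ)) := [[[],[1]],
  [[],[]]]
noncomputable def c3 : PC := ⟨2, 3, 9, 11, 10, 2, 6, 15, 127, fun e => nth (nth c3_t [] (Nat.div e 2)) [] (Nat.mod e 2),
  [(0,[0],[0,0]),
  (0,[1],[1,1])]⟩
def c3_A0 : List (List ℕ × List ℕ × ℕ) := [([1],[0,0,0],nat_lit 0x1800)]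
theorem c3_hA0 : lall c3_A0 c3.relA = true := by decide +kernel
def c3_B0 : List (ℕ × List ℕ × List ℕ × ℕ) := [(0,[0,0,0],[],nat_lit 0x600000000008),
  (0,[1,1,1],[],nat_lit 0x300001000000000)]
theorem c3_hB0 : lall c3_B0 c3.relB = true := by decide +kernel
theorem c3_lin : Lin c3 (3 ^ 1) :=
  ⟨by decide +kernel, c3_A0, c3_B0, _,
  [nat_lit 0x100000000000,
  nat_lit 0x80000000000000],
  [(nat_lit 0x800,3,8)],
  [[81,8],
  [729]],
  c3_hA0, c3_hB0, rfl, by decide +kernel, by decide +kernel, by decide +kernel, by decide +kernel⟩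
def c3_x : List Word := [[10,2,12,0,10,8,0,4],
  [10,2,12,0,4,10,0,2,6],
  [10,2,12,2,6,10,9,2,4]]
theorem c3_r0 : ∀ i < 2, c3.rowOK (chkW lk [0,1,2,3] c3_x) (0 + i) = true := by decide +kernel
theorem c3_r : ∀ i < c3.K, c3.rowOK (chkW lk [0,1,2,3] c3_x) i = true := of_zero (P := fun i => c3.rowOK (chkW lk [0,1,2,3] c3_x) i = true) (n := 2) (c3_r0)
theorem c3_f : lall c3.F (c3.fusOK (chkW lk [0,1,2,3] c3_x)) = true := by decide +kernel
theorem c3_low : c3.l ^ c3.K ≤ lowB C [(0, [0,0], [[0,0,2]]),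
  (1, [0,0], [])] (c3_x.take c3.K) := by decide +kernel
theorem c3_grp : Grp c3 (C.grp gens) :=
  grp_of_ctx hC hlk (cb.2) (ws := c3_x) (fun w h => all_mem ((by decide +kernel : ∀ w ∈ c3_x, ∀ a ∈ w, a < 14) w h)) card (by decide) _ c3_r c3_f (by decide +kernel) c3_low
section
open CA.CMat CA.CLink CA.CLink2 CA.CLink3 CA.H28Mat Matrix
def ml : List ((Mat × Mat) × Mat × ℕ × Mat × ℕ) := [(([[2,0,3],[0,2,2],[0,0,2]], [[3,0,1],[0,3,3],[0,0,3]]), [[1,2,2],[2,2,1],[1,0,0]], 5, [[0,0,2],[2,3,3],[3,3,0]], 5),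
  (([[1,0,0],[0,1,3],[0,0,1]], [[1,0,0],[0,1,3],[0,0,1]]), [[1,0,0],[0,1,3],[0,0,1]], 2, [[1,0,0],[0,1,0],[0,0,1]], 1),
  (([[3,0,2],[0,3,0],[0,0,3]], [[2,0,1],[0,2,0],[0,0,2]]), [[1,1,2],[2,2,0],[0,2,2]], 4, [[2,3,3],[2,1,3],[2,1,1]], 5),
  (([[2,0,3],[0,2,0],[0,0,2]], [[3,0,1],[0,3,0],[0,0,3]]), [[2,1,0],[3,3,1],[0,2,1]], 7, [[2,2,1],[1,3,1],[2,1,0]], 7),
  (([[1,2,3],[0,3,2],[0,0,2]], [[1,3,1],[0,2,2],[0,0,3]]), [[1,2,0],[0,3,2],[0,2,3]], 4, [[1,1,0],[0,2,2],[0,1,2]], 4),
  (([[3,3,1],[0,1,3],[0,1,1]], [[2,2,3],[0,3,2],[0,3,3]]), [[0,1,3],[2,2,1],[3,0,3]], 4, [[3,0,3],[1,2,2],[3,2,1]], 7),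
  (([[2,0,3],[3,3,2],[2,0,2]], [[1,0,2],[2,2,1],[1,0,1]]), [[0,1,3],[1,0,1],[1,1,3]], 5, [[0,0,1],[0,2,1],[3,3,3]], 4)]
theorem hdet : lall ml (CA.H22Link.detOK ar4 3) = true := by decide +kernel
def L : CA.H22Link.Lk := ⟨lmap Prod.fst ml, [[nat_lit 0xe6fdf, nat_lit 0],
 [nat_lit 0x1fc1e2, nat_lit 0x64e44],
 [nat_lit 0x1eba88, nat_lit 0x1d6d10]],
  [4,18,2], 7, [[2,1,2],[1,3,2],[2,3,1]], [1,1,1], [0,2,4,6,10,12], [[2,12,0,13,3], [2,12,8,13,3], [2,12,10,13,3]]⟩
theorem hL : L.ok ar4 3 C 7 [0,1,2,3] = true := by decide +kernel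
theorem hact : allR 7 (actI ar4 3 C L.SL (full C.n) (nz ar4) (lets L.ms) (sg 7)) = true := by decide +kernel
theorem iso {F : Type*} [Field F] [Fintype F] (hF : Fintype.card F = 4) :
    Nonempty (C.grp gens ≃* ProjectiveSpecialLinearGroup (Fin 3) F) := by
  obtain ⟨el, hA, -⟩ := sound4' hF
  refine CA.H22Link.iso_quot (slToMat 3 F) (Equiv.refl _) hA (fun _ _ h => Subtype.ext h) hC hL hact
    (CA.H22Link.in_SL hA hdet) (by decide) cb ?_
  have h := Cfsg.Agent.S0243.result hF 3 (by decide)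
  simp only [Fin.prod_univ_succ, Fin.prod_univ_zero] at h
  norm_num at h
  show Nat.card (ProjectiveSpecialLinearGroup (Fin 3) F) = _
  omega
end
end

/-- Exceptional Schur multiplier: over the field with 4 elements, PSL₃ has Schur multiplier isomorphic to the product of cyclic groups of orders 3, 4 and 4 (order 48, not cyclic; here the Schur multiplier is described through stem extensions, as in the definitions). -/
theorem result {F : Type*} [Field F] [Fintype F] (hF : Fintype.card F = 4) : Cfsg.HasSchurMultiplier (Matrix.ProjectiveSpecialLinearGroup (Fin 3) F) (Multiplicative (ZMod 3 × ZMod 4 × ZMod 4)) := by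
  obtain ⟨e⟩ := iso hF
  exact congr_left (V_st.cyc3 UW_st (n := 48) (bd_all card [2, 3] [5, 7] (by decide +kernel) (by norm_num)
    (bd2 (bd_of c2_lin c2_grp) (bd_of c3_lin c3_grp)))) e

end Cfsg.Agent.S2088
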