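import Cfsg.Agent.Lib.Grp.SchurLow
import Cfsg.Agent.Lib.Spor.H22Link
import Cfsg.Agent.S0245
import Cfsg.Agent.S0246
-- Template for statement S2093 (row 2093; see /opt/grader/pristine/manifest.json for weights).
-- Copy to Cfsg/Agent/S2093.lean and replace the sorry. The statement below is byte-identical to the frozen
-- statement Cfsg.CfsgFrozen.S2093 (Cfsg/Statements/S2093.lean; the theorem Cfsg.kfact_multiplier_psp_six_two);
-- the grader kernel-checks Cfsg.Agent.S2093.result against that frozen type. Keep the theorem IN THIS FILE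
-- (a `result` declared elsewhere and merely imported here is not credited); helpers may live anywhere
-- under Cfsg/Agent/.
import Cfsg.Statements.S2093
-- import your own Cfsg.Agent.* helpers here

set_option autoImplicit false
open Cfsg

set_option autoImplicit false
set_option maxRecDepth 100000

namespace Cfsg.Agent.S2093
open Cfsg CA.SchurHopf CA.SchurPc CA.SchurCG CA.SchurLow CA.CWord CA.CNet CA.CLevel CA.CSimple CA.CPoint CA.CTodd CA.CLow
universe u
noncomputable section
def t0 : Net := [(nat_lit 0x1401404140000000, nat_lit 1),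
  (nat_lit 0x120030000000, nat_lit 2),
  (nat_lit 0x70f060608000000, nat_lit 4),
  (nat_lit 0x6b004400480000, nat_lit 8),
  (nat_lit 0x37f400004000, nat_lit 16),
  (nat_lit 0x24600000, nat_lit 32),
  (nat_lit 0x246000000000, nat_lit 16),
  (nat_lit 0x3004400400000, nat_lit 8),
  (nat_lit 0x70f060608000000, nat_lit 4),
  (nat_lit 0x120030000000, nat_lit 2),
  (nat_lit 0x401404140000000, nat_lit 1)]
def t1 : Net := [(nat_lit 0x51000110500000, nat_lit 1),
  (nat_lit 0x1322100020220000, nat_lit 2),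
  (nat_lit 0x1080202000a0000, nat_lit 4),
  (nat_lit 0x29002e000a0000, nat_lit 8),
  (nat_lit 0x168c00001200, nat_lit 16),
  (nat_lit 0x298e2000, nat_lit 32),
  (nat_lit 0x88400000000, nat_lit 16),
  (nat_lit 0x21002600020000, nat_lit 8),
  (nat_lit 0x1080002000a0000, nat_lit 4),
  (nat_lit 0x322100020220000, nat_lit 2),
  (nat_lit 0x51000110500000, nat_lit 1)]
def t2 : Net := [(nat_lit 0x404411145440440, nat_lit 1),
  (nat_lit 0x310211233112300, nat_lit 2),
  (nat_lit 0x1000d020b040400, nat_lit 4),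
  (nat_lit 0x40002e00cd0000, nat_lit 8),
  (nat_lit 0x40d40000a160, nat_lit 16),
  (nat_lit 0x44961a00, nat_lit 32),
  (nat_lit 0x449000000000, nat_lit 16),
  (nat_lit 0x44000a00c10000, nat_lit 8),
  (nat_lit 0x1020a000000, nat_lit 4),
  (nat_lit 0x100211233112300, nat_lit 2),
  (nat_lit 0x404411145440440, nat_lit 1)]
def t3 : Net := [(nat_lit 0x10040404100440, nat_lit 1),
  (nat_lit 0x20000300100230, nat_lit 2),
  (nat_lit 0x5090a00020208, nat_lit 4),
  (nat_lit 0xa008500c60020, nat_lit 8),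
  (nat_lit 0x11d200008200, nat_lit 16),
  (nat_lit 0x11028000, nat_lit 32),
  (nat_lit 0x110200008000, nat_lit 16),
  (nat_lit 0x8100820000, nat_lit 8),
  (nat_lit 0x5090a00020200, nat_lit 4),
  (nat_lit 0x20000300100220, nat_lit 2),
  (nat_lit 0x10040404100440, nat_lit 1)]
def t4 : Net := [(nat_lit 0x10040151540010, nat_lit 1),
  (nat_lit 0x213133132301300, nat_lit 2),
  (nat_lit 0x2040c020d0008, nat_lit 4),
  (nat_lit 0x50002400010046, nat_lit 8),
  (nat_lit 0x402600003140, nat_lit 16),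
  (nat_lit 0x50244840, nat_lit 32),
  (nat_lit 0x2400000000, nat_lit 16),
  (nat_lit 0x50006400410000, nat_lit 8),
  (nat_lit 0x2000402010000, nat_lit 4),
  (nat_lit 0x132102300300, nat_lit 2),
  (nat_lit 0x10000150540000, nat_lit 1)]
def t5 : Net := [(nat_lit 0x154405000410510, nat_lit 1),
  (nat_lit 0x330002110010010, nat_lit 2),
  (nat_lit 0x509040f080003, nat_lit 4),
  (nat_lit 0x8000d00020080, nat_lit 8),
  (nat_lit 0xe000003240, nat_lit 16),
  (nat_lit 0xaa4100, nat_lit 32),
  (nat_lit 0xa000000000, nat_lit 16),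
  (nat_lit 0x8000100020000, nat_lit 8),
  (nat_lit 0x4080403080000, nat_lit 4),
  (nat_lit 0x210002110000010, nat_lit 2),
  (nat_lit 0x154405000410110, nat_lit 1)]
def C : Ctx := ⟨63, 6, [t0, t1, t2, t3, t4, t5]⟩
theorem hC : C.ok = true := by decide +kernel
noncomputable def lk : ℕ → ℕ → ℕ := look C 64
theorem hlk : Good C lk := good_look hC (by decide +kernel)
abbrev gens : List Word := sg 6
def rels : List Word := [[0,0], [2,2], [0,2,0,2,0,2], [4,4], [2,4,2,4], [0,4,0,4,0,4,0,4], [6,6], [2,6,2,6], [4,6,4,6,4,6,4,6], [0,4,6,4,0,4,6,4,0,4,6,4], [0,2,0,4,0,2,6,4,0,2,6,4,0,6,4,6,2,0,4,6], [8,8], [0,8,0,8], [2,8,2,8], [0,2,4,6,4,0,4,8,4,0,2,4,6,4,8,0,4,8,4], [10,10], [0,10,0,10], [2,10,2,10], [8,10,8,10,8,10], [6,10,6,10,6,10,6,10], [4,8,4,8,10,8,4,8,10]]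
namespace T5
noncomputable def A_0 : List (ℕ) := [nat_lit 0x600]
noncomputable def A : List (List (ℕ)) := [A_0]
noncomputable def K_0 : List (ℕ) := [nat_lit 0x20000]
noncomputable def K : List (List (ℕ)) := [K_0]
noncomputable def R : List (List (Rule)) := []
def LW : List Word := [[], [0]]
def par : Par := ⟨9, 1, 10, 19, 511, 1023, 524287⟩
theorem hpar : par.ok := by decide
theorem hR0_0 : lall (R) (fun l => lall l (ruleOK rels LW par)) = true := by decide +kernel
theorem hR0 : lall (R) (fun l => lall l (ruleOK rels LW par)) = true := hR0_0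
theorem hR : RulesOK rels LW par R := rulesOK_of rfl hR0
def cols : List (ℕ × ℕ) := [(512, 1)]
theorem hcols : lall cols (colOK rels LW par) = true := by decide +kernel
theorem D0_c : allB (defOK 9 10 19 511 524287 257 A K) 1 2 = true := by decide +kernel
theorem D0 : On (fun r => defOK par.W par.WL par.E par.mW par.mE 257 A K r = true) 256 384 :=
  On.of_allB D0_c
noncomputable def JW0 : List ℕ := [nat_lit 0x400]
theorem W0_c : blocks (rows 9 1 10 19 511 1023 524287 10 1023 10 A 256 2 cols 128) 128 JW0 0 = true := by decide +kernel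
theorem W0 : On (Row.{u} rels LW par A 256 2 cols) 0 128 :=
  rows_of_blocks hpar (by decide) hcols W0_c (by decide +kernel)
theorem idx : Idx.{u} rels [[0]] [] 2 :=
  idx_of_cert hpar hR (K := K) (by decide +kernel) (T := 257) (T' := 384) (by decide) D0
    (subs := []) (by decide +kernel) (T1 := 256) (by decide) (N := 256) (fun _ h1 h2 => absurd h2 (Nat.not_lt.2 h1))
    (by decide) (n' := 128) (by decide) W0 (by decide +kernel) (by decide +kernel)
end T5
theorem b5 : Bound.{u} rels [[0]] 2 := .of_idx T5.idx (.nil _) (by decide)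
namespace T4
noncomputable def A_0 : List (ℕ) := [nat_lit 0x12010008000440201400]
noncomputable def A : List (List (ℕ)) := [A_0]
noncomputable def K_0 : List (ℕ) := [nat_lit 0x4060000]
noncomputable def K : List (List (ℕ)) := [K_0]
noncomputable def R_0 : List (Rule) := [Rule.mk (nat_lit 2) (nat_lit 46) (Steps.bwd (nat_lit 1) (Steps.bwd (nat_lit 2) (Steps.fwd (nat_lit 512) (Steps.fwd (nat_lit 1024) (Steps.fwd (nat_lit 512) Steps.nil))))) (nat_lit 4) (nat_lit 0)]
noncomputable def R : List (List (Rule)) := [R_0]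
def LW : List Word := [[], [0], [2], [0], [1]]
def par : Par := ⟨9, 3, 12, 21, 511, 4095, 2097151⟩
theorem hpar : par.ok := by decide
theorem hR0_0 : lall (R) (fun l => lall l (ruleOK rels LW par)) = true := by decide +kernel
theorem hR0 : lall (R) (fun l => lall l (ruleOK rels LW par)) = true := hR0_0
theorem hR : RulesOK rels LW par R := rulesOK_of rfl hR0
def cols : List (ℕ × ℕ) := [(512, 1), (1024, 2)]
theorem hcols : lall cols (colOK rels LW par) = true := by decide +kernel
noncomputable def JS0 : List ℕ := [nat_lit 0x2020000803]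
theorem S0_c : blocks (facts 9 3 12 21 511 4095 2097151 9 511 1 1 A R 32) 32 JS0 258 = true := by decide +kernel
theorem S0 : On (Step.{u} rels LW par A) 258 290 :=
  steps_of_blocks hpar hR S0_c (by decide +kernel)
theorem D0_c : allB (defOK 9 12 21 511 2097151 258 A K) 1 2 = true := by decide +kernel
theorem D0 : On (fun r => defOK par.W par.WL par.E par.mW par.mE 258 A K r = true) 256 384 :=
  On.of_allB D0_c
noncomputable def JW0 : List ℕ := [nat_lit 0xf8431144211040]
theorem W0_c : blocks (rows 9 3 12 21 511 4095 2097151 10 1023 20 A 290 3 cols 64) 64 JW0 0 = true := by decide +kernel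
theorem W0 : On (Row.{u} rels LW par A 290 3 cols) 0 64 :=
  rows_of_blocks hpar (by decide) hcols W0_c (by decide +kernel)
theorem idx : Idx.{u} rels [[0], [2]] [[0]] 3 :=
  idx_of_cert hpar hR (K := K) (by decide +kernel) (T := 258) (T' := 384) (by decide) D0
    (subs := [1]) (by decide +kernel) (T1 := 258) (by decide) (N := 290) S0
    (by decide) (n' := 64) (by decide) W0 (by decide +kernel) (by decide +kernel)
end T4
theorem b4 : Bound.{u} rels [[0], [2]] 6 := .of_idx T4.idx b5 (by decide)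
namespace T3
noncomputable def A_0 : List (ℕ) := [nat_lit 0x390381d01c0c80c044050210200c80c02802004000010001d8180c40a056030230100d0080440201600]
noncomputable def A : List (List (ℕ)) := [A_0]
noncomputable def K_0 : List (ℕ) := [nat_lit 0x834160903814060000]
noncomputable def K : List (List (ℕ)) := [K_0]
noncomputable def R_0 : List (Rule) := [Rule.mk (nat_lit 2) (nat_lit 30) (Steps.bwd (nat_lit 3) (Steps.fwd (nat_lit 1024) (Steps.fwd (nat_lit 1536) Steps.nil))) (nat_lit 8) (nat_lit 1),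
  Rule.mk (nat_lit 1) (nat_lit 48) (Steps.bwd (nat_lit 2) (Steps.bwd (nat_lit 1) (Steps.fwd (nat_lit 1024) (Steps.fwd (nat_lit 512) (Steps.fwd (nat_lit 1024) Steps.nil))))) (nat_lit 4) (nat_lit 1),
  Rule.mk (nat_lit 1) (nat_lit 66) (Steps.bwd (nat_lit 3) (Steps.bwd (nat_lit 1) (Steps.bwd (nat_lit 3) (Steps.fwd (nat_lit 512) (Steps.fwd (nat_lit 1536) (Steps.fwd (nat_lit 512) (Steps.fwd (nat_lit 1536) Steps.nil))))))) (nat_lit 10) (nat_lit 1),
  Rule.mk (nat_lit 2) (nat_lit 30) (Steps.bwd (nat_lit 3) (Steps.bwd (nat_lit 2) (Steps.fwd (nat_lit 1536) Steps.nil))) (nat_lit 8) (nat_lit 1),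
  Rule.mk (nat_lit 2) (nat_lit 48) (Steps.bwd (nat_lit 1) (Steps.fwd (nat_lit 1024) (Steps.fwd (nat_lit 512) (Steps.bwd (nat_lit 2) (Steps.fwd (nat_lit 512) Steps.nil))))) (nat_lit 4) (nat_lit 0)]
noncomputable def R : List (List (Rule)) := [R_0]
def LW : List Word := [[], [0], [2], [4], [0], [1], [2], [3]]
def par : Par := ⟨9, 3, 12, 21, 511, 4095, 2097151⟩
theorem hpar : par.ok := by decide
theorem hR0_0 : lall (R) (fun l => lall l (ruleOK rels LW par)) = true := by decide +kernel
theorem hR0 : lall (R) (fun l => lall l (ruleOK rels LW par)) = true := hR0_0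
theorem hR : RulesOK rels LW par R := rulesOK_of rfl hR0
def cols : List (ℕ × ℕ) := [(512, 1), (1024, 2), (1536, 3)]
theorem hcols : lall cols (colOK rels LW par) = true := by decide +kernel
noncomputable def JS0 : List ℕ := [nat_lit 0x1009050101409043038000e40e00008000f4100903c038241403050240ec0e08000200e81000041]
theorem S0_c : blocks (facts 9 3 12 21 511 4095 2097151 9 511 3 7 A R 32) 32 JS0 264 = true := by decide +kernel
theorem S0 : On (Step.{u} rels LW par A) 264 296 :=
  steps_of_blocks hpar hR S0_c (by decide +kernel)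
theorem D0_c : allB (defOK 9 12 21 511 2097151 263 A K) 1 2 = true := by decide +kernel
theorem D0 : On (fun r => defOK par.W par.WL par.E par.mW par.mE 263 A K r = true) 256 384 :=
  On.of_allB D0_c
noncomputable def JW0 : List ℕ := [nat_lit 0x114340c8440d847124381184b0e43a1204d0f04a1304f1443e1385010042]
theorem W0_c : blocks (rows 9 3 12 21 511 4095 2097151 10 1023 30 A 296 8 cols 42) 42 JW0 0 = true := by decide +kernel
theorem W0 : On (Row.{u} rels LW par A 296 8 cols) 0 42 :=
  rows_of_blocks hpar (by decide) hcols W0_c (by decide +kernel)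
theorem idx : Idx.{u} rels [[0], [2], [4]] [[0], [2]] 8 :=
  idx_of_cert hpar hR (K := K) (by decide +kernel) (T := 263) (T' := 384) (by decide) D0
    (subs := [1,2]) (by decide +kernel) (T1 := 264) (by decide) (N := 296) S0
    (by decide) (n' := 42) (by decide) W0 (by decide +kernel) (by decide +kernel)
end T3
theorem b3 : Bound.{u} rels [[0], [2], [4]] 48 := .of_idx T3.idx b4 (by decide)
namespace T2
noncomputable def A_0 : List (ℕ) := [nat_lit 0x1a80d0698341a40d05a02c1c80e0708381c40e0488240e2040200740e01805902c1601c0308181001a03005c0a019018050040110088040200f000048000150000580001b0608301880c0510301480a0590703261a039024108080310200c2170320180a2050a9058086040210102441301100802401001800004000008001a20a07182c1860905181c3a2070e0868162080d8858344170c90503020404a0140e8030418142e61403180c0a4030b184c2a6120a0844088020188082681009203c2260f08103c0460107880402800]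
noncomputable def A : List (List (ℕ)) := [A_0]
noncomputable def K_0 : List (ℕ) := [nat_lit 0x231178ac5227128742e150983416090380c6e391a8b466230f88436190883c0a0000]
noncomputable def K : List (List (ℕ)) := [K_0]
noncomputable def R_0 : List (Rule) := [Rule.mk (nat_lit 2) (nat_lit 33) (Steps.bwd (nat_lit 4) (Steps.fwd (nat_lit 1024) (Steps.fwd (nat_lit 2048) Steps.nil))) (nat_lit 14) (nat_lit 1),
  Rule.mk (nat_lit 2) (nat_lit 33) (Steps.bwd (nat_lit 3) (Steps.fwd (nat_lit 1024) (Steps.fwd (nat_lit 1536) Steps.nil))) (nat_lit 8) (nat_lit 1),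
  Rule.mk (nat_lit 2) (nat_lit 33) (Steps.bwd (nat_lit 4) (Steps.bwd (nat_lit 2) (Steps.fwd (nat_lit 2048) Steps.nil))) (nat_lit 14) (nat_lit 1),
  Rule.mk (nat_lit 3) (nat_lit 69) (Steps.bwd (nat_lit 4) (Steps.bwd (nat_lit 3) (Steps.bwd (nat_lit 4) (Steps.fwd (nat_lit 1536) (Steps.fwd (nat_lit 2048) (Steps.fwd (nat_lit 1536) (Steps.fwd (nat_lit 2048) Steps.nil))))))) (nat_lit 16) (nat_lit 1),
  Rule.mk (nat_lit 1) (nat_lit 51) (Steps.bwd (nat_lit 2) (Steps.bwd (nat_lit 1) (Steps.fwd (nat_lit 1024) (Steps.fwd (nat_lit 512) (Steps.fwd (nat_lit 1024) Steps.nil))))) (nat_lit 4) (nat_lit 1),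
  Rule.mk (nat_lit 4) (nat_lit 105) (Steps.bwd (nat_lit 3) (Steps.bwd (nat_lit 1) (Steps.bwd (nat_lit 3) (Steps.bwd (nat_lit 4) (Steps.fwd (nat_lit 1536) (Steps.fwd (nat_lit 512) (Steps.fwd (nat_lit 1536) (Steps.fwd (nat_lit 2048) (Steps.fwd (nat_lit 1536) (Steps.fwd (nat_lit 512) (Steps.fwd (nat_lit 1536) Steps.nil))))))))))) (nat_lit 18) (nat_lit 3),
  Rule.mk (nat_lit 1) (nat_lit 69) (Steps.bwd (nat_lit 3) (Steps.bwd (nat_lit 1) (Steps.bwd (nat_lit 3) (Steps.bwd (nat_lit 1) (Steps.fwd (nat_lit 1536) (Steps.fwd (nat_lit 512) (Steps.fwd (nat_lit 1536) Steps.nil))))))) (nat_lit 10) (nat_lit 1),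
  Rule.mk (nat_lit 2) (nat_lit 33) (Steps.bwd (nat_lit 3) (Steps.bwd (nat_lit 2) (Steps.fwd (nat_lit 1536) Steps.nil))) (nat_lit 8) (nat_lit 1),
  Rule.mk (nat_lit 4) (nat_lit 33) (Steps.fwd (nat_lit 1024) (Steps.fwd (nat_lit 2048) (Steps.bwd (nat_lit 2) Steps.nil))) (nat_lit 14) (nat_lit 0),
  Rule.mk (nat_lit 3) (nat_lit 33) (Steps.bwd (nat_lit 2) (Steps.bwd (nat_lit 3) (Steps.fwd (nat_lit 1024) Steps.nil))) (nat_lit 8) (nat_lit 0),
  Rule.mk (nat_lit 2) (nat_lit 51) (Steps.bwd (nat_lit 1) (Steps.bwd (nat_lit 2) (Steps.fwd (nat_lit 512) (Steps.bwd (nat_lit 2) (Steps.fwd (nat_lit 512) Steps.nil))))) (nat_lit 4) (nat_lit 0),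
  Rule.mk (nat_lit 4) (nat_lit 69) (Steps.bwd (nat_lit 3) (Steps.bwd (nat_lit 4) (Steps.fwd (nat_lit 1536) (Steps.fwd (nat_lit 2048) (Steps.bwd (nat_lit 3) (Steps.fwd (nat_lit 2048) (Steps.fwd (nat_lit 1536) Steps.nil))))))) (nat_lit 16) (nat_lit 0),
  Rule.mk (nat_lit 1) (nat_lit 177) (Steps.fwd (nat_lit 2048) (Steps.bwd (nat_lit 3) (Steps.bwd (nat_lit 4) (Steps.bwd (nat_lit 2) (Steps.bwd (nat_lit 1) (Steps.bwd (nat_lit 3) (Steps.bwd (nat_lit 4) (Steps.fwd (nat_lit 512) (Steps.fwd (nat_lit 1024) (Steps.fwd (nat_lit 512) (Steps.fwd (nat_lit 1536) (Steps.fwd (nat_lit 512) (Steps.fwd (nat_lit 1024) (Steps.fwd (nat_lit 2048) (Steps.fwd (nat_lit 1536) (Steps.fwd (nat_lit 512) (Steps.fwd (nat_lit 1024) (Steps.fwd (nat_lit 2048) (Steps.fwd (nat_lit 1536) Steps.nil))))))))))))))))))) (nat_lit 20) (nat_lit 13),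
  Rule.mk (nat_lit 0) (nat_lit 186) (Steps.bwd (nat_lit 1) (Steps.bwd (nat_lit 3) (Steps.bwd (nat_lit 4) (Steps.bwd (nat_lit 2) (Steps.bwd (nat_lit 1) (Steps.fwd (nat_lit 1536) (Steps.fwd (nat_lit 512) (Steps.fwd (nat_lit 1024) (Steps.fwd (nat_lit 512) (Steps.fwd (nat_lit 2048) (Steps.fwd (nat_lit 1536) (Steps.fwd (nat_lit 512) (Steps.fwd (nat_lit 1024) (Steps.fwd (nat_lit 2048) (Steps.bwd (nat_lit 3) (Steps.bwd (nat_lit 4) (Steps.bwd (nat_lit 1) (Steps.bwd (nat_lit 3) (Steps.bwd (nat_lit 4) (Steps.fwd (nat_lit 1024) Steps.nil)))))))))))))))))))) (nat_lit 21) (nat_lit 11),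
  Rule.mk (nat_lit 0) (nat_lit 33) (Steps.fwd (nat_lit 512) (Steps.fwd (nat_lit 0) (Steps.fwd (nat_lit 512) Steps.nil))) (nat_lit 42) (nat_lit 0),
  Rule.mk (nat_lit 0) (nat_lit 33) (Steps.bwd (nat_lit 2) (Steps.fwd (nat_lit 0) (Steps.fwd (nat_lit 1024) Steps.nil))) (nat_lit 42) (nat_lit 0),
  Rule.mk (nat_lit 0) (nat_lit 33) (Steps.fwd (nat_lit 1536) (Steps.fwd (nat_lit 0) (Steps.fwd (nat_lit 1536) Steps.nil))) (nat_lit 42) (nat_lit 0),
  Rule.mk (nat_lit 0) (nat_lit 33) (Steps.fwd (nat_lit 2048) (Steps.fwd (nat_lit 0) (Steps.fwd (nat_lit 2048) Steps.nil))) (nat_lit 42) (nat_lit 0),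
  Rule.mk (nat_lit 1) (nat_lit 24) (Steps.bwd (nat_lit 0) (Steps.bwd (nat_lit 1) Steps.nil)) (nat_lit 42) (nat_lit 0),
  Rule.mk (nat_lit 0) (nat_lit 33) (Steps.bwd (nat_lit 3) (Steps.fwd (nat_lit 0) (Steps.fwd (nat_lit 1536) Steps.nil))) (nat_lit 42) (nat_lit 0),
  Rule.mk (nat_lit 0) (nat_lit 33) (Steps.bwd (nat_lit 1) (Steps.fwd (nat_lit 0) (Steps.fwd (nat_lit 512) Steps.nil))) (nat_lit 42) (nat_lit 0),
  Rule.mk (nat_lit 1) (nat_lit 24) (Steps.bwd (nat_lit 0) (Steps.fwd (nat_lit 512) Steps.nil)) (nat_lit 42) (nat_lit 0),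
  Rule.mk (nat_lit 2) (nat_lit 24) (Steps.bwd (nat_lit 0) (Steps.fwd (nat_lit 1024) Steps.nil)) (nat_lit 42) (nat_lit 0),
  Rule.mk (nat_lit 0) (nat_lit 186) (Steps.bwd (nat_lit 1) (Steps.bwd (nat_lit 4) (Steps.bwd (nat_lit 3) (Steps.bwd (nat_lit 4) (Steps.fwd (nat_lit 1024) (Steps.fwd (nat_lit 512) (Steps.fwd (nat_lit 1536) (Steps.fwd (nat_lit 2048) (Steps.fwd (nat_lit 512) (Steps.fwd (nat_lit 1024) (Steps.fwd (nat_lit 512) (Steps.fwd (nat_lit 1536) (Steps.fwd (nat_lit 512) (Steps.fwd (nat_lit 1024) (Steps.fwd (nat_lit 2048) (Steps.fwd (nat_lit 1536) (Steps.fwd (nat_lit 512) (Steps.fwd (nat_lit 1024) (Steps.fwd (nat_lit 2048) (Steps.bwd (nat_lit 3) Steps.nil)))))))))))))))))))) (nat_lit 20) (nat_lit 12),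
  Rule.mk (nat_lit 0) (nat_lit 33) (Steps.bwd (nat_lit 1) (Steps.bwd (nat_lit 0) (Steps.bwd (nat_lit 1) Steps.nil))) (nat_lit 42) (nat_lit 0),
  Rule.mk (nat_lit 1) (nat_lit 177) (Steps.fwd (nat_lit 1024) (Steps.bwd (nat_lit 1) (Steps.bwd (nat_lit 4) (Steps.bwd (nat_lit 3) (Steps.fwd (nat_lit 512) (Steps.fwd (nat_lit 1024) (Steps.bwd (nat_lit 4) (Steps.fwd (nat_lit 1536) (Steps.fwd (nat_lit 2048) (Steps.fwd (nat_lit 512) (Steps.fwd (nat_lit 1536) (Steps.fwd (nat_lit 2048) (Steps.fwd (nat_lit 1024) (Steps.fwd (nat_lit 512) (Steps.fwd (nat_lit 1536) (Steps.fwd (nat_lit 2048) (Steps.bwd (nat_lit 2) (Steps.fwd (nat_lit 512) (Steps.bwd (nat_lit 3) Steps.nil))))))))))))))))))) (nat_lit 21) (nat_lit 18),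
  Rule.mk (nat_lit 1) (nat_lit 69) (Steps.bwd (nat_lit 3) (Steps.bwd (nat_lit 1) (Steps.bwd (nat_lit 3) (Steps.fwd (nat_lit 512) (Steps.fwd (nat_lit 1536) (Steps.fwd (nat_lit 512) (Steps.fwd (nat_lit 1536) Steps.nil))))))) (nat_lit 10) (nat_lit 1),
  Rule.mk (nat_lit 4) (nat_lit 105) (Steps.bwd (nat_lit 3) (Steps.bwd (nat_lit 1) (Steps.bwd (nat_lit 3) (Steps.fwd (nat_lit 2048) (Steps.fwd (nat_lit 1536) (Steps.fwd (nat_lit 512) (Steps.bwd (nat_lit 3) (Steps.bwd (nat_lit 4) (Steps.fwd (nat_lit 1536) (Steps.fwd (nat_lit 512) (Steps.fwd (nat_lit 1536) Steps.nil))))))))))) (nat_lit 18) (nat_lit 3),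
  Rule.mk (nat_lit 4) (nat_lit 177) (Steps.fwd (nat_lit 1536) (Steps.fwd (nat_lit 512) (Steps.fwd (nat_lit 1024) (Steps.fwd (nat_lit 2048) (Steps.bwd (nat_lit 3) (Steps.bwd (nat_lit 1) (Steps.fwd (nat_lit 2048) (Steps.bwd (nat_lit 3) (Steps.fwd (nat_lit 2048) (Steps.fwd (nat_lit 1024) (Steps.bwd (nat_lit 1) (Steps.fwd (nat_lit 1536) (Steps.bwd (nat_lit 4) (Steps.fwd (nat_lit 512) (Steps.fwd (nat_lit 1024) (Steps.fwd (nat_lit 512) (Steps.fwd (nat_lit 1536) (Steps.fwd (nat_lit 512) (Steps.fwd (nat_lit 1024) Steps.nil))))))))))))))))))) (nat_lit 20) (nat_lit 7),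
  Rule.mk (nat_lit 2) (nat_lit 51) (Steps.bwd (nat_lit 1) (Steps.bwd (nat_lit 2) (Steps.fwd (nat_lit 512) (Steps.fwd (nat_lit 1024) (Steps.fwd (nat_lit 512) Steps.nil))))) (nat_lit 4) (nat_lit 0),
  Rule.mk (nat_lit 3) (nat_lit 69) (Steps.bwd (nat_lit 1) (Steps.bwd (nat_lit 3) (Steps.bwd (nat_lit 1) (Steps.fwd (nat_lit 1536) (Steps.fwd (nat_lit 512) (Steps.fwd (nat_lit 1536) (Steps.fwd (nat_lit 512) Steps.nil))))))) (nat_lit 10) (nat_lit 0),
  Rule.mk (nat_lit 4) (nat_lit 105) (Steps.fwd (nat_lit 1536) (Steps.bwd (nat_lit 1) (Steps.bwd (nat_lit 3) (Steps.bwd (nat_lit 4) (Steps.fwd (nat_lit 1536) (Steps.fwd (nat_lit 512) (Steps.bwd (nat_lit 3) (Steps.fwd (nat_lit 2048) (Steps.fwd (nat_lit 1536) (Steps.fwd (nat_lit 512) (Steps.fwd (nat_lit 1536) Steps.nil))))))))))) (nat_lit 18) (nat_lit 3)]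
noncomputable def R : List (List (Rule)) := [R_0]
def LW : List Word := [[], [0], [2], [4], [6], [0], [1], [2], [3], [4], [5]]
def par : Par := ⟨9, 4, 13, 22, 511, 8191, 4194303⟩
theorem hpar : par.ok := by decide
theorem hR0_0 : lall (R) (fun l => lall l (ruleOK rels LW par)) = true := by decide +kernel
theorem hR0 : lall (R) (fun l => lall l (ruleOK rels LW par)) = true := hR0_0
theorem hR : RulesOK rels LW par R := rulesOK_of rfl hR0
def cols : List (ℕ × ℕ) := [(512, 1), (1024, 2), (1536, 3), (2048, 4)]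
theorem hcols : lall cols (colOK rels LW par) = true := by decide +kernel
noncomputable def JS0 : List ℕ := [nat_lit 0x22005c4e01132a1400ac2c0083d11680458a0b4002640620017aa35008cd41a80131a800609054002a442a0007201500074f098c45e2a1086006020005c400b128a85e30170ac4c1c382c1f120a45c300904c22130904c602e148903e16001a150f0800a200f054c0a80c2810503a20030803a14302c03020602a58603a1728341e0c86000100090d87032406840251308c3c191c321f120980e0903898481f0c8c190f0103c191434020c841b1088c08231086c40d0043408703c1b0c3c000f041f0087c1,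
  nat_lit 0x168c0723c060f07230168020160bc0c24030bc58f8ac30160c0ade038c06e201d0fc7c220206c6a370e0c056000100456e8a85e361a0ac282b1a0d85e2a70522e1a8786a2e14b628020a02140442614148003e3a2002c84232108816401d0002ed0a40098b80028644c11080384a2e198e07a080f8207e20110847e3d1b8b58]
theorem S0_c : blocks (facts 9 4 13 22 511 8191 4194303 9 511 6 63 A R 32) 32 JS0 287 = true := by decide +kernel
theorem S0 : On (Step.{u} rels LW par A) 287 351 :=
  steps_of_blocks hpar hR S0_c (by decide +kernel)
theorem D0_c : allB (defOK 9 13 22 511 4194303 285 A K) 1 2 = true := by decide +kernel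
theorem D0 : On (fun r => defOK par.W par.WL par.E par.mW par.mE 285 A K r = true) 256 384 :=
  On.of_allB D0_c
noncomputable def JW0 : List ℕ := [nat_lit 0xc8890d8340a82c0b8871788b1805c0c088100931888d184862748a1a0381a8a11b09227c8c1a43b1c0a51b444270a029c722bc761e03a278a4298b12b8bb1f0b02fcba1f8502f88020884]
theorem W0_c : blocks (rows 9 4 13 22 511 8191 4194303 10 1023 40 A 351 15 cols 32) 32 JW0 0 = true := by decide +kernel
theorem W0 : On (Row.{u} rels LW par A 351 15 cols) 0 32 :=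
  rows_of_blocks hpar (by decide) hcols W0_c (by decide +kernel)
theorem idx : Idx.{u} rels [[0], [2], [4], [6]] [[0], [2], [4]] 15 :=
  idx_of_cert hpar hR (K := K) (by decide +kernel) (T := 285) (T' := 384) (by decide) D0
    (subs := [1,2,3]) (by decide +kernel) (T1 := 287) (by decide) (N := 351) S0
    (by decide) (n' := 32) (by decide) W0 (by decide +kernel) (by decide +kernel)
end T2
theorem b2 : Bound.{u} rels [[0], [2], [4], [6]] 720 := .of_idx T2.idx b3 (by decide)
namespace T1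
noncomputable def A_0 : List (ℕ) := [nat_lit 0xfa07c3e61f0f907c3e21f0e20703c81e0f08783c41e0ea0683461a0d10683421a0ea864322190c9864324190e10702c21c0da06c3661b0d906c2480e07a02c1c02a0580ac2402807809c202100b20582e8170b885c3a21d0a20603a02c0c00a45822c1610b03a41d1490a42aa1607985820a170aa054208100a18502621309904c4e428081054304180908602440f07883c1a811089844224110a10501aa140508280e80704a0240e0250480980680302a014060230280901a40d0590381620b12909846424022010048020100840860400a004020200100880c80a0498281080c0310200c2060488240aa0902881408207021010044020090040220100200000600001000002000fa8783c61c0d284c328130e286c362151618a43a61815a03c5481214a0502c4170b98482660d1420384e80b0a98382060b0c28441ea0a0928302220c0a08381a20807282016a061320244a80712201446803051030186070418140c60304901c0a4031118800ea03022808428020188084080101180402a00]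
noncomputable def A : List (List (ℕ)) := [A_0]
noncomputable def K_0 : List (ℕ) := [nat_lit 0x12591c8a431d8e446210f8741e090295caa4927934a651198fc8237158f45e2d1a8c44e290c89436130b8342a110581c060000]
noncomputable def K : List (List (ℕ)) := [K_0]
noncomputable def R_0 : List (Rule) := [Rule.mk (nat_lit 1) (nat_lit 33) (Steps.bwd (nat_lit 5) (Steps.fwd (nat_lit 512) (Steps.fwd (nat_lit 2560) Steps.nil))) (nat_lit 24) (nat_lit 1),
  Rule.mk (nat_lit 2) (nat_lit 33) (Steps.bwd (nat_lit 5) (Steps.fwd (nat_lit 1024) (Steps.fwd (nat_lit 2560) Steps.nil))) (nat_lit 26) (nat_lit 1),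
  Rule.mk (nat_lit 2) (nat_lit 33) (Steps.bwd (nat_lit 3) (Steps.fwd (nat_lit 1024) (Steps.fwd (nat_lit 1536) Steps.nil))) (nat_lit 8) (nat_lit 1),
  Rule.mk (nat_lit 1) (nat_lit 33) (Steps.bwd (nat_lit 5) (Steps.bwd (nat_lit 1) (Steps.fwd (nat_lit 2560) Steps.nil))) (nat_lit 24) (nat_lit 1),
  Rule.mk (nat_lit 1) (nat_lit 51) (Steps.bwd (nat_lit 2) (Steps.bwd (nat_lit 1) (Steps.fwd (nat_lit 1024) (Steps.fwd (nat_lit 512) (Steps.fwd (nat_lit 1024) Steps.nil))))) (nat_lit 4) (nat_lit 1),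
  Rule.mk (nat_lit 5) (nat_lit 33) (Steps.bwd (nat_lit 2) (Steps.bwd (nat_lit 5) (Steps.fwd (nat_lit 1024) Steps.nil))) (nat_lit 26) (nat_lit 0),
  Rule.mk (nat_lit 1) (nat_lit 51) (Steps.bwd (nat_lit 2) (Steps.fwd (nat_lit 512) (Steps.fwd (nat_lit 1024) (Steps.bwd (nat_lit 1) (Steps.fwd (nat_lit 1024) Steps.nil))))) (nat_lit 4) (nat_lit 1),
  Rule.mk (nat_lit 1) (nat_lit 69) (Steps.bwd (nat_lit 3) (Steps.bwd (nat_lit 1) (Steps.bwd (nat_lit 3) (Steps.fwd (nat_lit 512) (Steps.fwd (nat_lit 1536) (Steps.fwd (nat_lit 512) (Steps.fwd (nat_lit 1536) Steps.nil))))))) (nat_lit 10) (nat_lit 1),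
  Rule.mk (nat_lit 2) (nat_lit 33) (Steps.bwd (nat_lit 3) (Steps.bwd (nat_lit 2) (Steps.fwd (nat_lit 1536) Steps.nil))) (nat_lit 8) (nat_lit 1),
  Rule.mk (nat_lit 4) (nat_lit 168) (Steps.bwd (nat_lit 3) (Steps.bwd (nat_lit 5) (Steps.bwd (nat_lit 1) (Steps.bwd (nat_lit 3) (Steps.bwd (nat_lit 5) (Steps.fwd (nat_lit 1536) (Steps.fwd (nat_lit 512) (Steps.fwd (nat_lit 1024) (Steps.fwd (nat_lit 1536) (Steps.fwd (nat_lit 2048) (Steps.fwd (nat_lit 1536) (Steps.fwd (nat_lit 512) (Steps.fwd (nat_lit 1536) (Steps.fwd (nat_lit 2560) (Steps.fwd (nat_lit 1536) (Steps.fwd (nat_lit 512) (Steps.fwd (nat_lit 1024) (Steps.fwd (nat_lit 1536) Steps.nil)))))))))))))))))) (nat_lit 28) (nat_lit 13),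
  Rule.mk (nat_lit 3) (nat_lit 33) (Steps.bwd (nat_lit 2) (Steps.bwd (nat_lit 3) (Steps.fwd (nat_lit 1024) Steps.nil))) (nat_lit 8) (nat_lit 0),
  Rule.mk (nat_lit 4) (nat_lit 33) (Steps.bwd (nat_lit 2) (Steps.fwd (nat_lit 2048) (Steps.fwd (nat_lit 1024) Steps.nil))) (nat_lit 14) (nat_lit 0),
  Rule.mk (nat_lit 0) (nat_lit 114) (Steps.bwd (nat_lit 3) (Steps.bwd (nat_lit 4) (Steps.fwd (nat_lit 1536) (Steps.fwd (nat_lit 512) (Steps.fwd (nat_lit 1536) (Steps.bwd (nat_lit 4) (Steps.fwd (nat_lit 1536) (Steps.fwd (nat_lit 512) (Steps.bwd (nat_lit 3) (Steps.fwd (nat_lit 2048) (Steps.bwd (nat_lit 3) (Steps.bwd (nat_lit 1) Steps.nil)))))))))))) (nat_lit 18) (nat_lit 1),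
  Rule.mk (nat_lit 0) (nat_lit 33) (Steps.fwd (nat_lit 1536) (Steps.fwd (nat_lit 0) (Steps.bwd (nat_lit 3) Steps.nil))) (nat_lit 42) (nat_lit 0),
  Rule.mk (nat_lit 4) (nat_lit 24) (Steps.bwd (nat_lit 0) (Steps.bwd (nat_lit 4) Steps.nil)) (nat_lit 42) (nat_lit 0),
  Rule.mk (nat_lit 3) (nat_lit 168) (Steps.bwd (nat_lit 5) (Steps.bwd (nat_lit 3) (Steps.fwd (nat_lit 512) (Steps.bwd (nat_lit 5) (Steps.fwd (nat_lit 1536) (Steps.fwd (nat_lit 2048) (Steps.fwd (nat_lit 1536) (Steps.fwd (nat_lit 1024) (Steps.fwd (nat_lit 512) (Steps.fwd (nat_lit 1536) (Steps.fwd (nat_lit 2560) (Steps.fwd (nat_lit 1536) (Steps.fwd (nat_lit 512) (Steps.fwd (nat_lit 1536) (Steps.bwd (nat_lit 4) (Steps.fwd (nat_lit 1536) (Steps.bwd (nat_lit 2) (Steps.fwd (nat_lit 512) Steps.nil)))))))))))))))))) (nat_lit 29) (nat_lit 1),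
  Rule.mk (nat_lit 0) (nat_lit 177) (Steps.bwd (nat_lit 4) (Steps.bwd (nat_lit 3) (Steps.fwd (nat_lit 1024) (Steps.fwd (nat_lit 512) (Steps.fwd (nat_lit 1536) (Steps.fwd (nat_lit 2560) (Steps.fwd (nat_lit 1536) (Steps.bwd (nat_lit 1) (Steps.bwd (nat_lit 5) (Steps.fwd (nat_lit 1536) (Steps.bwd (nat_lit 4) (Steps.fwd (nat_lit 1536) (Steps.bwd (nat_lit 2) (Steps.fwd (nat_lit 512) (Steps.fwd (nat_lit 1536) (Steps.bwd (nat_lit 5) (Steps.bwd (nat_lit 3) (Steps.fwd (nat_lit 512) (Steps.fwd (nat_lit 1536) Steps.nil))))))))))))))))))) (nat_lit 29) (nat_lit 15),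
  Rule.mk (nat_lit 4) (nat_lit 105) (Steps.fwd (nat_lit 1536) (Steps.bwd (nat_lit 1) (Steps.fwd (nat_lit 1536) (Steps.fwd (nat_lit 2048) (Steps.bwd (nat_lit 3) (Steps.fwd (nat_lit 512) (Steps.fwd (nat_lit 1536) (Steps.bwd (nat_lit 4) (Steps.bwd (nat_lit 3) (Steps.fwd (nat_lit 512) (Steps.fwd (nat_lit 1536) Steps.nil))))))))))) (nat_lit 18) (nat_lit 3),
  Rule.mk (nat_lit 2) (nat_lit 33) (Steps.bwd (nat_lit 4) (Steps.bwd (nat_lit 2) (Steps.fwd (nat_lit 2048) Steps.nil))) (nat_lit 14) (nat_lit 1),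
  Rule.mk (nat_lit 2) (nat_lit 51) (Steps.bwd (nat_lit 1) (Steps.fwd (nat_lit 1024) (Steps.fwd (nat_lit 512) (Steps.bwd (nat_lit 2) (Steps.fwd (nat_lit 512) Steps.nil))))) (nat_lit 4) (nat_lit 0),
  Rule.mk (nat_lit 0) (nat_lit 186) (Steps.fwd (nat_lit 1024) (Steps.bwd (nat_lit 4) (Steps.fwd (nat_lit 1536) (Steps.fwd (nat_lit 512) (Steps.bwd (nat_lit 2) (Steps.bwd (nat_lit 4) (Steps.bwd (nat_lit 3) (Steps.fwd (nat_lit 512) (Steps.fwd (nat_lit 2048) (Steps.fwd (nat_lit 1536) (Steps.fwd (nat_lit 2048) (Steps.fwd (nat_lit 1024) (Steps.bwd (nat_lit 1) (Steps.fwd (nat_lit 1536) (Steps.fwd (nat_lit 2048) (Steps.fwd (nat_lit 512) (Steps.fwd (nat_lit 1024) (Steps.bwd (nat_lit 1) (Steps.bwd (nat_lit 3) (Steps.fwd (nat_lit 512) Steps.nil)))))))))))))))))))) (nat_lit 20) (nat_lit 5),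
  Rule.mk (nat_lit 0) (nat_lit 33) (Steps.bwd (nat_lit 2) (Steps.fwd (nat_lit 0) (Steps.bwd (nat_lit 2) Steps.nil))) (nat_lit 42) (nat_lit 0),
  Rule.mk (nat_lit 0) (nat_lit 78) (Steps.bwd (nat_lit 4) (Steps.bwd (nat_lit 3) (Steps.fwd (nat_lit 2048) (Steps.bwd (nat_lit 3) (Steps.fwd (nat_lit 2048) (Steps.fwd (nat_lit 1536) (Steps.bwd (nat_lit 4) (Steps.fwd (nat_lit 1536) Steps.nil)))))))) (nat_lit 16) (nat_lit 1),
  Rule.mk (nat_lit 1) (nat_lit 177) (Steps.bwd (nat_lit 2) (Steps.fwd (nat_lit 2048) (Steps.bwd (nat_lit 3) (Steps.fwd (nat_lit 512) (Steps.bwd (nat_lit 2) (Steps.fwd (nat_lit 2048) (Steps.fwd (nat_lit 1536) (Steps.fwd (nat_lit 512) (Steps.bwd (nat_lit 4) (Steps.fwd (nat_lit 1536) (Steps.fwd (nat_lit 2048) (Steps.bwd (nat_lit 2) (Steps.fwd (nat_lit 512) (Steps.fwd (nat_lit 1536) (Steps.fwd (nat_lit 2048) (Steps.bwd (nat_lit 1) (Steps.fwd (nat_lit 1024) (Steps.fwd (nat_lit 512) (Steps.bwd (nat_lit 3) Steps.nil))))))))))))))))))) (nat_lit 20) (nat_lit 5),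
  Rule.mk (nat_lit 5) (nat_lit 33) (Steps.bwd (nat_lit 1) (Steps.bwd (nat_lit 5) (Steps.fwd (nat_lit 512) Steps.nil))) (nat_lit 24) (nat_lit 0),
  Rule.mk (nat_lit 3) (nat_lit 69) (Steps.bwd (nat_lit 1) (Steps.bwd (nat_lit 3) (Steps.fwd (nat_lit 512) (Steps.fwd (nat_lit 1536) (Steps.bwd (nat_lit 1) (Steps.fwd (nat_lit 1536) (Steps.fwd (nat_lit 512) Steps.nil))))))) (nat_lit 10) (nat_lit 0),
  Rule.mk (nat_lit 4) (nat_lit 177) (Steps.fwd (nat_lit 1536) (Steps.bwd (nat_lit 1) (Steps.fwd (nat_lit 2048) (Steps.bwd (nat_lit 3) (Steps.fwd (nat_lit 2048) (Steps.bwd (nat_lit 2) (Steps.bwd (nat_lit 1) (Steps.bwd (nat_lit 3) (Steps.fwd (nat_lit 2048) (Steps.fwd (nat_lit 512) (Steps.fwd (nat_lit 1024) (Steps.fwd (nat_lit 512) (Steps.fwd (nat_lit 1536) (Steps.fwd (nat_lit 512) (Steps.fwd (nat_lit 1024) (Steps.fwd (nat_lit 2048) (Steps.fwd (nat_lit 1536) (Steps.fwd (nat_lit 512) (Steps.fwd (nat_lit 1024) Steps.nil))))))))))))))))))) (nat_lit 20) (nat_lit 11),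
  Rule.mk (nat_lit 2) (nat_lit 33) (Steps.bwd (nat_lit 5) (Steps.bwd (nat_lit 2) (Steps.fwd (nat_lit 2560) Steps.nil))) (nat_lit 26) (nat_lit 1),
  Rule.mk (nat_lit 2) (nat_lit 33) (Steps.bwd (nat_lit 4) (Steps.fwd (nat_lit 1024) (Steps.fwd (nat_lit 2048) Steps.nil))) (nat_lit 14) (nat_lit 1),
  Rule.mk (nat_lit 3) (nat_lit 168) (Steps.fwd (nat_lit 2560) (Steps.fwd (nat_lit 1536) (Steps.fwd (nat_lit 512) (Steps.fwd (nat_lit 1024) (Steps.bwd (nat_lit 3) (Steps.bwd (nat_lit 4) (Steps.fwd (nat_lit 1536) (Steps.bwd (nat_lit 1) (Steps.bwd (nat_lit 3) (Steps.bwd (nat_lit 5) (Steps.fwd (nat_lit 1536) (Steps.fwd (nat_lit 512) (Steps.bwd (nat_lit 2) (Steps.bwd (nat_lit 3) (Steps.fwd (nat_lit 2048) (Steps.fwd (nat_lit 1536) (Steps.fwd (nat_lit 2560) (Steps.fwd (nat_lit 512) Steps.nil)))))))))))))))))) (nat_lit 28) (nat_lit 17),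
  Rule.mk (nat_lit 4) (nat_lit 168) (Steps.bwd (nat_lit 3) (Steps.bwd (nat_lit 2) (Steps.fwd (nat_lit 512) (Steps.fwd (nat_lit 1536) (Steps.fwd (nat_lit 2560) (Steps.fwd (nat_lit 1536) (Steps.fwd (nat_lit 512) (Steps.bwd (nat_lit 3) (Steps.bwd (nat_lit 4) (Steps.fwd (nat_lit 1536) (Steps.fwd (nat_lit 1024) (Steps.bwd (nat_lit 1) (Steps.bwd (nat_lit 3) (Steps.bwd (nat_lit 5) (Steps.fwd (nat_lit 1536) (Steps.fwd (nat_lit 512) (Steps.fwd (nat_lit 2560) (Steps.fwd (nat_lit 1536) Steps.nil)))))))))))))))))) (nat_lit 29) (nat_lit 7),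
  Rule.mk (nat_lit 4) (nat_lit 33) (Steps.fwd (nat_lit 1024) (Steps.fwd (nat_lit 2048) (Steps.bwd (nat_lit 2) Steps.nil))) (nat_lit 14) (nat_lit 0),
  Rule.mk (nat_lit 5) (nat_lit 168) (Steps.bwd (nat_lit 3) (Steps.bwd (nat_lit 1) (Steps.bwd (nat_lit 5) (Steps.fwd (nat_lit 1536) (Steps.fwd (nat_lit 2048) (Steps.fwd (nat_lit 1536) (Steps.fwd (nat_lit 1024) (Steps.fwd (nat_lit 512) (Steps.bwd (nat_lit 3) (Steps.bwd (nat_lit 5) (Steps.fwd (nat_lit 1536) (Steps.bwd (nat_lit 1) (Steps.fwd (nat_lit 1536) (Steps.fwd (nat_lit 2048) (Steps.bwd (nat_lit 3) (Steps.fwd (nat_lit 1024) (Steps.fwd (nat_lit 512) (Steps.fwd (nat_lit 1536) Steps.nil)))))))))))))))))) (nat_lit 29) (nat_lit 2),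
  Rule.mk (nat_lit 3) (nat_lit 33) (Steps.bwd (nat_lit 2) (Steps.bwd (nat_lit 3) (Steps.bwd (nat_lit 2) Steps.nil))) (nat_lit 8) (nat_lit 0),
  Rule.mk (nat_lit 5) (nat_lit 33) (Steps.bwd (nat_lit 2) (Steps.fwd (nat_lit 2560) (Steps.bwd (nat_lit 2) Steps.nil))) (nat_lit 26) (nat_lit 0),
  Rule.mk (nat_lit 1) (nat_lit 105) (Steps.bwd (nat_lit 3) (Steps.bwd (nat_lit 4) (Steps.fwd (nat_lit 1536) (Steps.bwd (nat_lit 1) (Steps.fwd (nat_lit 1536) (Steps.fwd (nat_lit 2048) (Steps.bwd (nat_lit 3) (Steps.fwd (nat_lit 512) (Steps.fwd (nat_lit 1536) (Steps.fwd (nat_lit 2048) (Steps.fwd (nat_lit 1536) Steps.nil))))))))))) (nat_lit 18) (nat_lit 1),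
  Rule.mk (nat_lit 0) (nat_lit 177) (Steps.fwd (nat_lit 1536) (Steps.fwd (nat_lit 512) (Steps.fwd (nat_lit 1024) (Steps.bwd (nat_lit 3) (Steps.bwd (nat_lit 4) (Steps.fwd (nat_lit 1536) (Steps.fwd (nat_lit 2560) (Steps.bwd (nat_lit 1) (Steps.bwd (nat_lit 3) (Steps.bwd (nat_lit 5) (Steps.bwd (nat_lit 3) (Steps.fwd (nat_lit 512) (Steps.bwd (nat_lit 2) (Steps.bwd (nat_lit 3) (Steps.fwd (nat_lit 2048) (Steps.fwd (nat_lit 1536) (Steps.fwd (nat_lit 512) (Steps.fwd (nat_lit 1536) (Steps.fwd (nat_lit 2560) Steps.nil))))))))))))))))))) (nat_lit 28) (nat_lit 8),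
  Rule.mk (nat_lit 0) (nat_lit 33) (Steps.bwd (nat_lit 3) (Steps.fwd (nat_lit 0) (Steps.fwd (nat_lit 1536) Steps.nil))) (nat_lit 42) (nat_lit 0),
  Rule.mk (nat_lit 1) (nat_lit 33) (Steps.bwd (nat_lit 0) (Steps.fwd (nat_lit 512) (Steps.fwd (nat_lit 0) Steps.nil))) (nat_lit 42) (nat_lit 0),
  Rule.mk (nat_lit 1) (nat_lit 69) (Steps.bwd (nat_lit 3) (Steps.bwd (nat_lit 1) (Steps.fwd (nat_lit 1536) (Steps.fwd (nat_lit 512) (Steps.bwd (nat_lit 3) (Steps.fwd (nat_lit 512) (Steps.fwd (nat_lit 1536) Steps.nil))))))) (nat_lit 10) (nat_lit 1),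
  Rule.mk (nat_lit 4) (nat_lit 168) (Steps.bwd (nat_lit 3) (Steps.bwd (nat_lit 5) (Steps.fwd (nat_lit 512) (Steps.fwd (nat_lit 1536) (Steps.fwd (nat_lit 2560) (Steps.fwd (nat_lit 1536) (Steps.fwd (nat_lit 512) (Steps.fwd (nat_lit 1024) (Steps.bwd (nat_lit 3) (Steps.fwd (nat_lit 2048) (Steps.fwd (nat_lit 1536) (Steps.bwd (nat_lit 1) (Steps.fwd (nat_lit 1536) (Steps.bwd (nat_lit 5) (Steps.fwd (nat_lit 1536) (Steps.fwd (nat_lit 512) (Steps.fwd (nat_lit 1024) (Steps.fwd (nat_lit 1536) Steps.nil)))))))))))))))))) (nat_lit 28) (nat_lit 13),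
  Rule.mk (nat_lit 0) (nat_lit 177) (Steps.bwd (nat_lit 4) (Steps.fwd (nat_lit 1536) (Steps.bwd (nat_lit 5) (Steps.fwd (nat_lit 512) (Steps.bwd (nat_lit 3) (Steps.bwd (nat_lit 5) (Steps.bwd (nat_lit 3) (Steps.fwd (nat_lit 512) (Steps.fwd (nat_lit 1024) (Steps.fwd (nat_lit 1536) (Steps.fwd (nat_lit 2048) (Steps.fwd (nat_lit 1536) (Steps.bwd (nat_lit 1) (Steps.fwd (nat_lit 1536) (Steps.fwd (nat_lit 2560) (Steps.fwd (nat_lit 1536) (Steps.fwd (nat_lit 512) (Steps.fwd (nat_lit 1024) (Steps.fwd (nat_lit 1536) Steps.nil))))))))))))))))))) (nat_lit 28) (nat_lit 12),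
  Rule.mk (nat_lit 0) (nat_lit 33) (Steps.fwd (nat_lit 1024) (Steps.fwd (nat_lit 0) (Steps.fwd (nat_lit 1024) Steps.nil))) (nat_lit 42) (nat_lit 0),
  Rule.mk (nat_lit 0) (nat_lit 33) (Steps.bwd (nat_lit 4) (Steps.bwd (nat_lit 0) (Steps.bwd (nat_lit 4) Steps.nil))) (nat_lit 42) (nat_lit 0),
  Rule.mk (nat_lit 4) (nat_lit 105) (Steps.fwd (nat_lit 1536) (Steps.bwd (nat_lit 1) (Steps.bwd (nat_lit 3) (Steps.fwd (nat_lit 2048) (Steps.fwd (nat_lit 1536) (Steps.fwd (nat_lit 512) (Steps.bwd (nat_lit 3) (Steps.bwd (nat_lit 4) (Steps.fwd (nat_lit 1536) (Steps.fwd (nat_lit 512) (Steps.fwd (nat_lit 1536) Steps.nil))))))))))) (nat_lit 18) (nat_lit 3),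
  Rule.mk (nat_lit 1) (nat_lit 33) (Steps.bwd (nat_lit 5) (Steps.bwd (nat_lit 1) (Steps.bwd (nat_lit 5) Steps.nil))) (nat_lit 24) (nat_lit 1),
  Rule.mk (nat_lit 3) (nat_lit 69) (Steps.bwd (nat_lit 4) (Steps.bwd (nat_lit 3) (Steps.bwd (nat_lit 4) (Steps.fwd (nat_lit 1536) (Steps.fwd (nat_lit 2048) (Steps.fwd (nat_lit 1536) (Steps.fwd (nat_lit 2048) Steps.nil))))))) (nat_lit 16) (nat_lit 1),
  Rule.mk (nat_lit 1) (nat_lit 105) (Steps.fwd (nat_lit 1536) (Steps.bwd (nat_lit 4) (Steps.bwd (nat_lit 3) (Steps.bwd (nat_lit 1) (Steps.bwd (nat_lit 3) (Steps.fwd (nat_lit 2048) (Steps.fwd (nat_lit 1536) (Steps.fwd (nat_lit 512) (Steps.fwd (nat_lit 1536) (Steps.fwd (nat_lit 2048) (Steps.fwd (nat_lit 1536) Steps.nil))))))))))) (nat_lit 18) (nat_lit 1),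
  Rule.mk (nat_lit 5) (nat_lit 168) (Steps.fwd (nat_lit 1536) (Steps.fwd (nat_lit 512) (Steps.fwd (nat_lit 1024) (Steps.fwd (nat_lit 1536) (Steps.bwd (nat_lit 4) (Steps.bwd (nat_lit 3) (Steps.bwd (nat_lit 5) (Steps.bwd (nat_lit 1) (Steps.fwd (nat_lit 1536) (Steps.bwd (nat_lit 5) (Steps.fwd (nat_lit 1536) (Steps.fwd (nat_lit 512) (Steps.fwd (nat_lit 1024) (Steps.fwd (nat_lit 1536) (Steps.fwd (nat_lit 2048) (Steps.bwd (nat_lit 3) (Steps.bwd (nat_lit 1) (Steps.fwd (nat_lit 1536) Steps.nil)))))))))))))))))) (nat_lit 28) (nat_lit 8),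
  Rule.mk (nat_lit 3) (nat_lit 168) (Steps.bwd (nat_lit 5) (Steps.bwd (nat_lit 3) (Steps.bwd (nat_lit 1) (Steps.fwd (nat_lit 1024) (Steps.bwd (nat_lit 3) (Steps.fwd (nat_lit 2048) (Steps.fwd (nat_lit 1536) (Steps.fwd (nat_lit 512) (Steps.bwd (nat_lit 3) (Steps.fwd (nat_lit 2560) (Steps.fwd (nat_lit 1536) (Steps.fwd (nat_lit 512) (Steps.fwd (nat_lit 1024) (Steps.fwd (nat_lit 1536) (Steps.fwd (nat_lit 2048) (Steps.fwd (nat_lit 1536) (Steps.fwd (nat_lit 2560) (Steps.fwd (nat_lit 512) Steps.nil)))))))))))))))))) (nat_lit 28) (nat_lit 17),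
  Rule.mk (nat_lit 4) (nat_lit 168) (Steps.fwd (nat_lit 1536) (Steps.bwd (nat_lit 5) (Steps.fwd (nat_lit 512) (Steps.bwd (nat_lit 3) (Steps.bwd (nat_lit 5) (Steps.fwd (nat_lit 1536) (Steps.bwd (nat_lit 1) (Steps.fwd (nat_lit 1024) (Steps.fwd (nat_lit 1536) (Steps.fwd (nat_lit 2048) (Steps.bwd (nat_lit 3) (Steps.fwd (nat_lit 512) (Steps.fwd (nat_lit 1536) (Steps.bwd (nat_lit 5) (Steps.bwd (nat_lit 3) (Steps.bwd (nat_lit 1) (Steps.fwd (nat_lit 1024) (Steps.fwd (nat_lit 1536) Steps.nil)))))))))))))))))) (nat_lit 28) (nat_lit 13),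
  Rule.mk (nat_lit 1) (nat_lit 69) (Steps.bwd (nat_lit 3) (Steps.fwd (nat_lit 512) (Steps.fwd (nat_lit 1536) (Steps.fwd (nat_lit 512) (Steps.bwd (nat_lit 3) (Steps.bwd (nat_lit 1) (Steps.fwd (nat_lit 1536) Steps.nil))))))) (nat_lit 10) (nat_lit 1),
  Rule.mk (nat_lit 4) (nat_lit 105) (Steps.bwd (nat_lit 3) (Steps.fwd (nat_lit 512) (Steps.fwd (nat_lit 1536) (Steps.bwd (nat_lit 4) (Steps.fwd (nat_lit 1536) (Steps.fwd (nat_lit 512) (Steps.bwd (nat_lit 3) (Steps.fwd (nat_lit 2048) (Steps.bwd (nat_lit 3) (Steps.bwd (nat_lit 1) (Steps.fwd (nat_lit 1536) Steps.nil))))))))))) (nat_lit 18) (nat_lit 3),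
  Rule.mk (nat_lit 4) (nat_lit 168) (Steps.fwd (nat_lit 1536) (Steps.fwd (nat_lit 512) (Steps.bwd (nat_lit 3) (Steps.bwd (nat_lit 5) (Steps.fwd (nat_lit 1536) (Steps.bwd (nat_lit 1) (Steps.fwd (nat_lit 1024) (Steps.bwd (nat_lit 3) (Steps.fwd (nat_lit 2048) (Steps.bwd (nat_lit 3) (Steps.fwd (nat_lit 2560) (Steps.fwd (nat_lit 512) (Steps.fwd (nat_lit 1536) (Steps.fwd (nat_lit 2560) (Steps.fwd (nat_lit 1536) (Steps.fwd (nat_lit 512) (Steps.fwd (nat_lit 1024) (Steps.bwd (nat_lit 3) Steps.nil)))))))))))))))))) (nat_lit 28) (nat_lit 4),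
  Rule.mk (nat_lit 3) (nat_lit 168) (Steps.bwd (nat_lit 5) (Steps.bwd (nat_lit 3) (Steps.fwd (nat_lit 512) (Steps.bwd (nat_lit 2) (Steps.bwd (nat_lit 3) (Steps.bwd (nat_lit 4) (Steps.fwd (nat_lit 1536) (Steps.fwd (nat_lit 512) (Steps.fwd (nat_lit 1536) (Steps.fwd (nat_lit 2560) (Steps.fwd (nat_lit 1536) (Steps.fwd (nat_lit 512) (Steps.fwd (nat_lit 1024) (Steps.bwd (nat_lit 3) (Steps.fwd (nat_lit 2048) (Steps.fwd (nat_lit 1536) (Steps.fwd (nat_lit 2560) (Steps.fwd (nat_lit 512) Steps.nil)))))))))))))))))) (nat_lit 28) (nat_lit 17),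
  Rule.mk (nat_lit 4) (nat_lit 168) (Steps.fwd (nat_lit 1536) (Steps.bwd (nat_lit 5) (Steps.fwd (nat_lit 512) (Steps.bwd (nat_lit 3) (Steps.bwd (nat_lit 5) (Steps.fwd (nat_lit 1536) (Steps.bwd (nat_lit 1) (Steps.fwd (nat_lit 1024) (Steps.bwd (nat_lit 3) (Steps.fwd (nat_lit 2048) (Steps.bwd (nat_lit 3) (Steps.bwd (nat_lit 1) (Steps.fwd (nat_lit 1536) (Steps.fwd (nat_lit 2560) (Steps.fwd (nat_lit 1536) (Steps.fwd (nat_lit 512) (Steps.fwd (nat_lit 1024) (Steps.fwd (nat_lit 1536) Steps.nil)))))))))))))))))) (nat_lit 28) (nat_lit 13)]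
noncomputable def R : List (List (Rule)) := [R_0]
def LW : List Word := [[], [0], [2], [4], [6], [8], [0], [1], [2], [3], [4], [5], [6], [7]]
def par : Par := ⟨9, 4, 13, 22, 511, 8191, 4194303⟩
theorem hpar : par.ok := by decide
theorem hR0_0 : lall (R) (fun l => lall l (ruleOK rels LW par)) = true := by decide +kernel
theorem hR0 : lall (R) (fun l => lall l (ruleOK rels LW par)) = true := hR0_0
theorem hR : RulesOK rels LW par R := rulesOK_of rfl hR0
def cols : List (ℕ × ℕ) := [(512, 1), (1024, 2), (1536, 3), (2048, 4), (2560, 5)]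
theorem hcols : lall cols (colOK rels LW par) = true := by decide +kernel
noncomputable def JS0 : List ℕ := [nat_lit 0x7a013c8800042c110810800420804476b8f40278ec027904000558263d1a000680e1e0502a0504014283c0703c203e1d0115198381e0e19a834068cc2198346608d076334c6a3b1a2602070d81037068dc10360700921e800f1f8407e3b000306e05020d8740c000ec7e10078fc78882c6c04018d4783e1f844261208840223f078f87480f00078f00036387232000040a01000c8723b1d0d4d010045c60c45c2d2c5c311b0e0720b0682c140b0603416391c0d8662d285c3016922d1a0d80e361a0b48168080602168e2d178b06160c40431160a2e180b44168005a10c000300c600318042f018bc1,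
  nat_lit 0x9c0027184e0a8581409291601c022481c02492a060ae5627524d0992000480993680080c0339240279140044989e1329170305c2d85c5a322e9502c092390c020021ca4223020a44c03130a4082310a42080482190416410c861121ba080090e30510c85111c361a230008c4c0103c86030210c160c240208508140005808a4d13954b2532482c140920804820d0012830457c924b2984ca62513150b05224024104000800800c787e49290a0a4491f903e0a0f831f8507ce900263f0c8005200441210fc4201287ee0f80a3e041a41250289a522a09448250b150a44d05128363f00363e240802820240f9a1e91804461ea83d05830163d507a3e1e32150c91c380d080708e010a85030460212036450b10d81f804f,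
  nat_lit 0x101000be600809c2a7017990246330014be00e0025e2f808be050217cc411319b8266a3483cbe5edcba042e845c0117012e008025c2f838c02211844d82b30038be5c0097362d82c441035854d6101102cb7a968142116884145ad0b2082c865e140a4c620340f0d022340ecda231819048590066012c18c562c169acea7b3b924ee353b920da632c64571195c22b084ac09684a5f0817c4c270d868c66916180ac0101000038800aa5f349c864723497caa00c0a85e1309c4c5e2a5e530f14dd2980ca61054a652b800522e808b20b2c808ba52005a512e18830622e145a2806c0c1b282853009e51009e5600946c2b0049f60640015ac1a5001944b2641e0c05a301e8f0c8592880c1c562a540d010341]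
theorem S0_c : blocks (facts 9 4 13 22 511 8191 4194303 9 511 6 63 A R 32) 32 JS0 303 = true := by decide +kernel
theorem S0 : On (Step.{u} rels LW par A) 303 399 :=
  steps_of_blocks hpar hR S0_c (by decide +kernel)
theorem D0_c : allB (defOK 9 13 22 511 4194303 300 A K) 1 2 = true := by decide +kernel
theorem D0 : On (fun r => defOK par.W par.WL par.E par.mW par.mE 300 A K r = true) 256 384 :=
  On.of_allB D0_c
noncomputable def JW0 : List ℕ := [nat_lit 0xed120d61a86c16842384de110561005837c2b15c5c3a4683487a124601e0f5330ce38c64188f10cce01bc6d3b0721d0763cc5b178eb1a43e3bc351646e1c0f90c8e8240f41ec733888e3dcf02a907410f23ec343a891248ee298a84147c2c8802a50d2c0f82ad092b0f644c7e4190c2d8fa29d0b2b4ae2cc884210f2d1152609e2e0b7448864290e465142691d2e91847ca0470bc2f91e300c2310c6,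
  nat_lit 0xc90200a0300e3201232c1605021064d71484634410328280a8d00b02e0c0d3334180681c0782033c2409822]
theorem W0_c : blocks (rows 9 4 13 22 511 8191 4194303 10 1023 50 A 399 32 cols 25) 25 JW0 0 = true := by decide +kernel
theorem W0 : On (Row.{u} rels LW par A 399 32 cols) 0 50 :=
  rows_of_blocks hpar (by decide) hcols W0_c (by decide +kernel)
theorem idx : Idx.{u} rels [[0], [2], [4], [6], [8]] [[0], [2], [4], [6]] 32 :=
  idx_of_cert hpar hR (K := K) (by decide +kernel) (T := 300) (T' := 384) (by decide) D0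
    (subs := [1,2,3,4]) (by decide +kernel) (T1 := 303) (by decide) (N := 399) S0
    (by decide) (n' := 50) (by decide) W0 (by decide +kernel) (by decide +kernel)
end T1
theorem b1 : Bound.{u} rels [[0], [2], [4], [6], [8]] 23040 := .of_idx T1.idx b2 (by decide)
namespace T0
noncomputable def A_0 : List (ℕ) := [nat_lit 0x1298d26830c84a234094a2518085a221088ca633190665120848613188c0330858c160b082c5e117c586158b022c1514583110b05611586ca2b14986c2a18d83e61787025d0c184c1b18982230e0846310894421508844611888c6230a984623108c2a30a8544152d88502920a45251487c4290f943e1f207cb432d04c21d0988261208782420903c419030c140a01301830605c6170b80aa05200c1260a0802140580a2030124123028500570280860901203050c0608180708300e0960402150a822a2b84400b18502820a1406562894aa43182412027838a0e07101c1a08681a50d06c21b0698360d0834a622a108a4e06049c1709341860b85c4170608180b0928162059204480504220a102812108024409040c100810208c22381824203100c0610180a1208144050208080118040201f80c60301980603100c06101808402008802010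80400500000800000c00001000001000f8a3d1e98743a18d4701170ccc241e04728918587221b8dc6884414388720990c40e21482b4210428320b104418a0482340102a7f31c8fc62e0ec2361a84527d2074f833d9ec4763d08f27919bcf023b9dcc6b3b18ea7529bce85371cca1339102671184c683360b861e3818d86f3078dc6091b4c19361432271864d63079a820f348864320998d01328942181690543020804440a19c2543308ba651160c82290908173190186208bcc210f98024b0b10165f206cbc4088b062b1588423610bc5e310174c581308381c3038426188c4a20119428152828b84050a081a2d90202918683e3081688090e98b21330203c52c848a082c84101920341e40386060d2c0ca42a30684060815cc090a1890562920aa30b8386070d08201b10441a203950647298c8c520914a2621940a43278c864e31349a52505ca0b06140c4c181896320928c4105980a49201490302844c0705180810281c125020208040384084721108c42011464022088043200c84620018c02209480052808083011002020194020220047e300804c00,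
  nat_lit 0x3e20f87c31f0f8c3e1f087c3e08f87641d8f483d1d8c7a3d10f47a11e8d48351d10743a28e87411d0e843a1c10703818e07021c0e0c381c14702518cc664198cca331988663308cc7841e0f063c1e08783c30f07651e0c8a22110c442208c02c30b0582160b011224285912144a244891c98723628e47241c8c063918144c2230886e41b8bc82f1b106c240890483190948250a902a150200184060300631090422b20ac420420ac0851190643202043841609883116010c31021c380418980820510140a01700803f02007f0990261301c83640d8448110d80be1101783a40e87460f0994262730643a03e83c07713883a1d2874260398640780e80ec1d01acd603b0b8c2e0918240801d04e03689c07b1a18681e30781e03a8b80790900dc2830a03203e0d007a0f00de2801c0606180b4c2d0e145a3718b45a1168b40881b846e3730dc5e51ba20c8844051084121504241a044813f10fe3b10ec6a61d8d44351a946a7c31ece053e1b4a7b1a18f47019e85c63c89cc78368cf01d19dcec33a874a763998e813184c260389cc6733908e41020785020f1c0c280c94503418a03c02d8a02281400d83408d06841a0d0a341708682e28b85c4171bc4703704de1d11b43c2361b026c13944e0920482430904805a3594d61908641e104074c0f0f141e0801a81e02c894c321908642608c85e1178c806912884a2f01883e10f87021c1280d017085c3e03087005d07041c1801941810605c04d0584161001801c02c03406406009c0608181602502404b02840a0701480c02101404102008a020808040200040460080a60101500203389c22713904e6b109cd6435898269]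
noncomputable def A : List (List (ℕ)) := [A_0]
noncomputable def K_0 : List (ℕ) := [nat_lit 0x3057fbf5f6f97bbd5e6f177bb5d6e571b85bedd6db65aed569b459ecd63b1586c15faed72b759aa54ea551a7d3a9b4ca5526893d9dce2672f964aa532491c8a43208fc7a3b1a8cc622d1587436190b854260f0480e230f83ba61b0385c051ae765c256a8156a2d92af48a3cba753caf50eb1509fd56832d9ccd66f429349e65308e52e7d2b9b4d2291298ca24b1b8bc4e231087c220d0581c0a0000]
noncomputable def K : List (List (ℕ)) := [K_0]
noncomputable def R_0 : List (Rule) := [Rule.mk (nat_lit 1) (nat_lit 38) (Steps.bwd (nat_lit 6) (Steps.fwd (nat_lit 512) (Steps.fwd (nat_lit 3072) Steps.nil))) (nat_lit 32) (nat_lit 1),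
  Rule.mk (nat_lit 2) (nat_lit 38) (Steps.bwd (nat_lit 6) (Steps.fwd (nat_lit 1024) (Steps.fwd (nat_lit 3072) Steps.nil))) (nat_lit 34) (nat_lit 1),
  Rule.mk (nat_lit 2) (nat_lit 38) (Steps.bwd (nat_lit 4) (Steps.fwd (nat_lit 1024) (Steps.fwd (nat_lit 2048) Steps.nil))) (nat_lit 14) (nat_lit 1),
  Rule.mk (nat_lit 1) (nat_lit 38) (Steps.bwd (nat_lit 5) (Steps.fwd (nat_lit 512) (Steps.fwd (nat_lit 2560) Steps.nil))) (nat_lit 24) (nat_lit 1),
  Rule.mk (nat_lit 2) (nat_lit 38) (Steps.bwd (nat_lit 5) (Steps.fwd (nat_lit 1024) (Steps.fwd (nat_lit 2560) Steps.nil))) (nat_lit 26) (nat_lit 1),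
  Rule.mk (nat_lit 6) (nat_lit 58) (Steps.bwd (nat_lit 5) (Steps.bwd (nat_lit 6) (Steps.fwd (nat_lit 2560) (Steps.fwd (nat_lit 3072) (Steps.fwd (nat_lit 2560) Steps.nil))))) (nat_lit 36) (nat_lit 0),
  Rule.mk (nat_lit 3) (nat_lit 88) (Steps.bwd (nat_lit 5) (Steps.bwd (nat_lit 6) (Steps.fwd (nat_lit 1536) (Steps.fwd (nat_lit 2560) (Steps.fwd (nat_lit 1536) (Steps.fwd (nat_lit 2560) (Steps.fwd (nat_lit 3072) (Steps.fwd (nat_lit 2560) Steps.nil)))))))) (nat_lit 40) (nat_lit 7),
  Rule.mk (nat_lit 0) (nat_lit 98) (Steps.bwd (nat_lit 3) (Steps.fwd (nat_lit 2560) (Steps.fwd (nat_lit 1536) (Steps.bwd (nat_lit 5) (Steps.bwd (nat_lit 6) (Steps.fwd (nat_lit 2560) (Steps.fwd (nat_lit 1536) (Steps.fwd (nat_lit 2560) (Steps.fwd (nat_lit 3072) Steps.nil))))))))) (nat_lit 40) (nat_lit 0),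
  Rule.mk (nat_lit 3) (nat_lit 28) (Steps.bwd (nat_lit 0) (Steps.bwd (nat_lit 3) Steps.nil)) (nat_lit 42) (nat_lit 0),
  Rule.mk (nat_lit 2) (nat_lit 38) (Steps.bwd (nat_lit 3) (Steps.fwd (nat_lit 1024) (Steps.fwd (nat_lit 1536) Steps.nil))) (nat_lit 8) (nat_lit 1),
  Rule.mk (nat_lit 1) (nat_lit 38) (Steps.bwd (nat_lit 5) (Steps.bwd (nat_lit 1) (Steps.fwd (nat_lit 2560) Steps.nil))) (nat_lit 24) (nat_lit 1),
  Rule.mk (nat_lit 4) (nat_lit 78) (Steps.bwd (nat_lit 6) (Steps.bwd (nat_lit 4) (Steps.bwd (nat_lit 6) (Steps.fwd (nat_lit 2048) (Steps.fwd (nat_lit 3072) (Steps.fwd (nat_lit 2048) (Steps.fwd (nat_lit 3072) Steps.nil))))))) (nat_lit 38) (nat_lit 1),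
  Rule.mk (nat_lit 1) (nat_lit 38) (Steps.bwd (nat_lit 6) (Steps.bwd (nat_lit 1) (Steps.fwd (nat_lit 3072) Steps.nil))) (nat_lit 32) (nat_lit 1),
  Rule.mk (nat_lit 2) (nat_lit 38) (Steps.bwd (nat_lit 4) (Steps.bwd (nat_lit 2) (Steps.fwd (nat_lit 2048) Steps.nil))) (nat_lit 14) (nat_lit 1),
  Rule.mk (nat_lit 3) (nat_lit 78) (Steps.bwd (nat_lit 4) (Steps.bwd (nat_lit 3) (Steps.bwd (nat_lit 4) (Steps.fwd (nat_lit 1536) (Steps.fwd (nat_lit 2048) (Steps.fwd (nat_lit 1536) (Steps.fwd (nat_lit 2048) Steps.nil))))))) (nat_lit 16) (nat_lit 1),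
  Rule.mk (nat_lit 6) (nat_lit 58) (Steps.bwd (nat_lit 5) (Steps.bwd (nat_lit 6) (Steps.bwd (nat_lit 5) (Steps.fwd (nat_lit 3072) (Steps.fwd (nat_lit 2560) Steps.nil))))) (nat_lit 36) (nat_lit 0),
  Rule.mk (nat_lit 5) (nat_lit 58) (Steps.bwd (nat_lit 6) (Steps.bwd (nat_lit 5) (Steps.bwd (nat_lit 6) (Steps.bwd (nat_lit 5) (Steps.fwd (nat_lit 3072) Steps.nil))))) (nat_lit 36) (nat_lit 1),
  Rule.mk (nat_lit 1) (nat_lit 58) (Steps.bwd (nat_lit 2) (Steps.bwd (nat_lit 1) (Steps.fwd (nat_lit 1024) (Steps.fwd (nat_lit 512) (Steps.fwd (nat_lit 1024) Steps.nil))))) (nat_lit 4) (nat_lit 1),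
  Rule.mk (nat_lit 6) (nat_lit 38) (Steps.bwd (nat_lit 2) (Steps.bwd (nat_lit 6) (Steps.fwd (nat_lit 1024) Steps.nil))) (nat_lit 34) (nat_lit 0),
  Rule.mk (nat_lit 1) (nat_lit 58) (Steps.bwd (nat_lit 2) (Steps.fwd (nat_lit 512) (Steps.fwd (nat_lit 1024) (Steps.bwd (nat_lit 1) (Steps.fwd (nat_lit 1024) Steps.nil))))) (nat_lit 4) (nat_lit 1),
  Rule.mk (nat_lit 5) (nat_lit 38) (Steps.bwd (nat_lit 2) (Steps.bwd (nat_lit 5) (Steps.fwd (nat_lit 1024) Steps.nil))) (nat_lit 26) (nat_lit 0),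
  Rule.mk (nat_lit 4) (nat_lit 118) (Steps.bwd (nat_lit 3) (Steps.bwd (nat_lit 1) (Steps.bwd (nat_lit 3) (Steps.bwd (nat_lit 4) (Steps.fwd (nat_lit 1536) (Steps.fwd (nat_lit 512) (Steps.fwd (nat_lit 1536) (Steps.fwd (nat_lit 2048) (Steps.fwd (nat_lit 1536) (Steps.fwd (nat_lit 512) (Steps.fwd (nat_lit 1536) Steps.nil))))))))))) (nat_lit 18) (nat_lit 3),
  Rule.mk (nat_lit 5) (nat_lit 188) (Steps.bwd (nat_lit 3) (Steps.bwd (nat_lit 1) (Steps.fwd (nat_lit 1024) (Steps.bwd (nat_lit 3) (Steps.bwd (nat_lit 4) (Steps.fwd (nat_lit 1536) (Steps.fwd (nat_lit 2560) (Steps.fwd (nat_lit 512) (Steps.fwd (nat_lit 1536) (Steps.bwd (nat_lit 5) (Steps.fwd (nat_lit 1536) (Steps.fwd (nat_lit 512) (Steps.fwd (nat_lit 1024) (Steps.fwd (nat_lit 1536) (Steps.fwd (nat_lit 2048) (Steps.fwd (nat_lit 1536) (Steps.fwd (nat_lit 512) (Steps.fwd (nat_lit 1536) Steps.nil)))))))))))))))))) (nat_lit 28) (nat_lit 8),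
  Rule.mk (nat_lit 0) (nat_lit 198) (Steps.bwd (nat_lit 3) (Steps.bwd (nat_lit 4) (Steps.fwd (nat_lit 1536) (Steps.fwd (nat_lit 1024) (Steps.fwd (nat_lit 512) (Steps.fwd (nat_lit 1536) (Steps.bwd (nat_lit 5) (Steps.fwd (nat_lit 1536) (Steps.fwd (nat_lit 512) (Steps.fwd (nat_lit 1536) (Steps.fwd (nat_lit 2048) (Steps.fwd (nat_lit 1536) (Steps.fwd (nat_lit 1024) (Steps.fwd (nat_lit 512) (Steps.fwd (nat_lit 1536) (Steps.fwd (nat_lit 2560) (Steps.bwd (nat_lit 3) (Steps.bwd (nat_lit 1) (Steps.fwd (nat_lit 2560) Steps.nil))))))))))))))))))) (nat_lit 29) (nat_lit 5),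
  Rule.mk (nat_lit 5) (nat_lit 88) (Steps.bwd (nat_lit 3) (Steps.bwd (nat_lit 5) (Steps.bwd (nat_lit 6) (Steps.bwd (nat_lit 5) (Steps.fwd (nat_lit 1536) (Steps.fwd (nat_lit 2560) (Steps.fwd (nat_lit 1536) (Steps.fwd (nat_lit 3072) Steps.nil)))))))) (nat_lit 41) (nat_lit 2),
  Rule.mk (nat_lit 3) (nat_lit 88) (Steps.bwd (nat_lit 5) (Steps.bwd (nat_lit 3) (Steps.fwd (nat_lit 3072) (Steps.fwd (nat_lit 2560) (Steps.fwd (nat_lit 1536) (Steps.fwd (nat_lit 2560) (Steps.bwd (nat_lit 6) (Steps.fwd (nat_lit 2560) Steps.nil)))))))) (nat_lit 41) (nat_lit 7),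
  Rule.mk (nat_lit 3) (nat_lit 88) (Steps.bwd (nat_lit 6) (Steps.fwd (nat_lit 2560) (Steps.fwd (nat_lit 1536) (Steps.bwd (nat_lit 5) (Steps.fwd (nat_lit 3072) (Steps.bwd (nat_lit 5) (Steps.bwd (nat_lit 3) (Steps.bwd (nat_lit 5) Steps.nil)))))))) (nat_lit 41) (nat_lit 0),
  Rule.mk (nat_lit 2) (nat_lit 38) (Steps.bwd (nat_lit 6) (Steps.bwd (nat_lit 2) (Steps.fwd (nat_lit 3072) Steps.nil))) (nat_lit 34) (nat_lit 1),
  Rule.mk (nat_lit 1) (nat_lit 78) (Steps.bwd (nat_lit 3) (Steps.bwd (nat_lit 1) (Steps.bwd (nat_lit 3) (Steps.bwd (nat_lit 1) (Steps.fwd (nat_lit 1536) (Steps.fwd (nat_lit 512) (Steps.fwd (nat_lit 1536) Steps.nil))))))) (nat_lit 10) (nat_lit 1),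
  Rule.mk (nat_lit 2) (nat_lit 38) (Steps.bwd (nat_lit 3) (Steps.bwd (nat_lit 2) (Steps.fwd (nat_lit 1536) Steps.nil))) (nat_lit 8) (nat_lit 1),
  Rule.mk (nat_lit 4) (nat_lit 38) (Steps.fwd (nat_lit 1024) (Steps.fwd (nat_lit 2048) (Steps.bwd (nat_lit 2) Steps.nil))) (nat_lit 14) (nat_lit 0),
  Rule.mk (nat_lit 5) (nat_lit 38) (Steps.fwd (nat_lit 1024) (Steps.fwd (nat_lit 2560) (Steps.bwd (nat_lit 2) Steps.nil))) (nat_lit 26) (nat_lit 0),
  Rule.mk (nat_lit 0) (nat_lit 198) (Steps.bwd (nat_lit 3) (Steps.bwd (nat_lit 5) (Steps.fwd (nat_lit 1536) (Steps.fwd (nat_lit 512) (Steps.fwd (nat_lit 1024) (Steps.fwd (nat_lit 1536) (Steps.fwd (nat_lit 2048) (Steps.bwd (nat_lit 3) (Steps.fwd (nat_lit 512) (Steps.fwd (nat_lit 1536) (Steps.fwd (nat_lit 2560) (Steps.bwd (nat_lit 3) (Steps.fwd (nat_lit 512) (Steps.bwd (nat_lit 2) (Steps.fwd (nat_lit 1536) (Steps.fwd (nat_lit 2048) (Steps.bwd (nat_lit 3) (Steps.fwd (nat_lit 2560) (Steps.fwd (nat_lit 512) Steps.nil)))))))))))))))))))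 (nat_lit 28) (nat_lit 16),
  Rule.mk (nat_lit 0) (nat_lit 38) (Steps.bwd (nat_lit 3) (Steps.bwd (nat_lit 0) (Steps.bwd (nat_lit 3) Steps.nil))) (nat_lit 42) (nat_lit 0),
  Rule.mk (nat_lit 0) (nat_lit 38) (Steps.bwd (nat_lit 6) (Steps.bwd (nat_lit 0) (Steps.fwd (nat_lit 3072) Steps.nil))) (nat_lit 42) (nat_lit 0),
  Rule.mk (nat_lit 0) (nat_lit 38) (Steps.bwd (nat_lit 4) (Steps.bwd (nat_lit 0) (Steps.bwd (nat_lit 4) Steps.nil))) (nat_lit 42) (nat_lit 0),
  Rule.mk (nat_lit 0) (nat_lit 38) (Steps.bwd (nat_lit 6) (Steps.fwd (nat_lit 0) (Steps.fwd (nat_lit 3072) Steps.nil))) (nat_lit 42) (nat_lit 0),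
  Rule.mk (nat_lit 1) (nat_lit 28) (Steps.bwd (nat_lit 0) (Steps.bwd (nat_lit 1) Steps.nil)) (nat_lit 42) (nat_lit 0),
  Rule.mk (nat_lit 6) (nat_lit 28) (Steps.bwd (nat_lit 0) (Steps.bwd (nat_lit 6) Steps.nil)) (nat_lit 42) (nat_lit 0),
  Rule.mk (nat_lit 4) (nat_lit 28) (Steps.bwd (nat_lit 0) (Steps.bwd (nat_lit 4) Steps.nil)) (nat_lit 42) (nat_lit 0),
  Rule.mk (nat_lit 0) (nat_lit 38) (Steps.fwd (nat_lit 2560) (Steps.fwd (nat_lit 0) (Steps.fwd (nat_lit 2560) Steps.nil))) (nat_lit 42) (nat_lit 0),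
  Rule.mk (nat_lit 3) (nat_lit 88) (Steps.bwd (nat_lit 5) (Steps.bwd (nat_lit 6) (Steps.fwd (nat_lit 1536) (Steps.fwd (nat_lit 2560) (Steps.bwd (nat_lit 3) (Steps.bwd (nat_lit 5) (Steps.fwd (nat_lit 3072) (Steps.fwd (nat_lit 2560) Steps.nil)))))))) (nat_lit 40) (nat_lit 7),
  Rule.mk (nat_lit 0) (nat_lit 98) (Steps.bwd (nat_lit 3) (Steps.fwd (nat_lit 2560) (Steps.fwd (nat_lit 1536) (Steps.bwd (nat_lit 5) (Steps.bwd (nat_lit 6) (Steps.fwd (nat_lit 2560) (Steps.fwd (nat_lit 1536) (Steps.bwd (nat_lit 5) (Steps.fwd (nat_lit 3072) Steps.nil))))))))) (nat_lit 40) (nat_lit 0),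
  Rule.mk (nat_lit 4) (nat_lit 118) (Steps.bwd (nat_lit 3) (Steps.fwd (nat_lit 512) (Steps.bwd (nat_lit 3) (Steps.bwd (nat_lit 4) (Steps.fwd (nat_lit 1536) (Steps.fwd (nat_lit 512) (Steps.fwd (nat_lit 1536) (Steps.fwd (nat_lit 2048) (Steps.fwd (nat_lit 1536) (Steps.bwd (nat_lit 1) (Steps.fwd (nat_lit 1536) Steps.nil))))))))))) (nat_lit 18) (nat_lit 3),
  Rule.mk (nat_lit 5) (nat_lit 188) (Steps.bwd (nat_lit 3) (Steps.fwd (nat_lit 512) (Steps.fwd (nat_lit 1024) (Steps.bwd (nat_lit 3) (Steps.bwd (nat_lit 4) (Steps.fwd (nat_lit 1536) (Steps.fwd (nat_lit 512) (Steps.fwd (nat_lit 1536) (Steps.bwd (nat_lit 5) (Steps.fwd (nat_lit 1536) (Steps.fwd (nat_lit 512) (Steps.fwd (nat_lit 1024) (Steps.fwd (nat_lit 1536) (Steps.fwd (nat_lit 2048) (Steps.fwd (nat_lit 1536) (Steps.fwd (nat_lit 2560) (Steps.bwd (nat_lit 1) (Steps.fwd (nat_lit 1536) Steps.nil)))))))))))))))))) (nat_lit 28) (nat_lit 18),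
  Rule.mk (nat_lit 5) (nat_lit 188) (Steps.bwd (nat_lit 3) (Steps.fwd (nat_lit 512) (Steps.bwd (nat_lit 2) (Steps.fwd (nat_lit 1536) (Steps.fwd (nat_lit 2048) (Steps.bwd (nat_lit 3) (Steps.fwd (nat_lit 512) (Steps.bwd (nat_lit 3) (Steps.bwd (nat_lit 5) (Steps.fwd (nat_lit 1536) (Steps.fwd (nat_lit 512) (Steps.fwd (nat_lit 1024) (Steps.fwd (nat_lit 1536) (Steps.fwd (nat_lit 2048) (Steps.bwd (nat_lit 3) (Steps.bwd (nat_lit 5) (Steps.fwd (nat_lit 512) (Steps.fwd (nat_lit 1536) Steps.nil)))))))))))))))))) (nat_lit 28) (nat_lit 18),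
  Rule.mk (nat_lit 4) (nat_lit 188) (Steps.bwd (nat_lit 3) (Steps.fwd (nat_lit 2560) (Steps.fwd (nat_lit 512) (Steps.fwd (nat_lit 1536) (Steps.fwd (nat_lit 2560) (Steps.bwd (nat_lit 3) (Steps.fwd (nat_lit 512) (Steps.bwd (nat_lit 2) (Steps.fwd (nat_lit 1536) (Steps.fwd (nat_lit 2048) (Steps.bwd (nat_lit 3) (Steps.bwd (nat_lit 1) (Steps.bwd (nat_lit 3) (Steps.fwd (nat_lit 2560) (Steps.fwd (nat_lit 1536) (Steps.bwd (nat_lit 1) (Steps.fwd (nat_lit 1024) (Steps.fwd (nat_lit 1536) Steps.nil)))))))))))))))))) (nat_lit 28) (nat_lit 13),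
  Rule.mk (nat_lit 3) (nat_lit 88) (Steps.bwd (nat_lit 5) (Steps.bwd (nat_lit 6) (Steps.bwd (nat_lit 3) (Steps.fwd (nat_lit 2560) (Steps.fwd (nat_lit 1536) (Steps.bwd (nat_lit 5) (Steps.fwd (nat_lit 3072) (Steps.fwd (nat_lit 2560) Steps.nil)))))))) (nat_lit 40) (nat_lit 7),
  Rule.mk (nat_lit 6) (nat_lit 58) (Steps.bwd (nat_lit 5) (Steps.fwd (nat_lit 3072) (Steps.bwd (nat_lit 5) (Steps.fwd (nat_lit 3072) (Steps.fwd (nat_lit 2560) Steps.nil))))) (nat_lit 36) (nat_lit 0),
  Rule.mk (nat_lit 3) (nat_lit 88) (Steps.bwd (nat_lit 5) (Steps.fwd (nat_lit 3072) (Steps.bwd (nat_lit 3) (Steps.bwd (nat_lit 5) (Steps.fwd (nat_lit 1536) (Steps.fwd (nat_lit 2560) (Steps.bwd (nat_lit 6) (Steps.fwd (nat_lit 2560) Steps.nil)))))))) (nat_lit 40) (nat_lit 7),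
  Rule.mk (nat_lit 3) (nat_lit 88) (Steps.bwd (nat_lit 5) (Steps.bwd (nat_lit 6) (Steps.fwd (nat_lit 1536) (Steps.fwd (nat_lit 2560) (Steps.bwd (nat_lit 3) (Steps.bwd (nat_lit 5) (Steps.fwd (nat_lit 3072) (Steps.bwd (nat_lit 5) Steps.nil)))))))) (nat_lit 40) (nat_lit 7),
  Rule.mk (nat_lit 3) (nat_lit 88) (Steps.bwd (nat_lit 6) (Steps.fwd (nat_lit 2560) (Steps.bwd (nat_lit 3) (Steps.fwd (nat_lit 2560) (Steps.fwd (nat_lit 3072) (Steps.fwd (nat_lit 2560) (Steps.fwd (nat_lit 1536) (Steps.fwd (nat_lit 2560) Steps.nil)))))))) (nat_lit 41) (nat_lit 0),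
  Rule.mk (nat_lit 3) (nat_lit 38) (Steps.bwd (nat_lit 2) (Steps.fwd (nat_lit 1536) (Steps.fwd (nat_lit 1024) Steps.nil))) (nat_lit 8) (nat_lit 0),
  Rule.mk (nat_lit 6) (nat_lit 38) (Steps.bwd (nat_lit 2) (Steps.bwd (nat_lit 6) (Steps.bwd (nat_lit 2) Steps.nil))) (nat_lit 34) (nat_lit 0),
  Rule.mk (nat_lit 6) (nat_lit 88) (Steps.bwd (nat_lit 3) (Steps.fwd (nat_lit 2560) (Steps.fwd (nat_lit 1536) (Steps.fwd (nat_lit 2560) (Steps.bwd (nat_lit 6) (Steps.fwd (nat_lit 2560) (Steps.fwd (nat_lit 1536) (Steps.fwd (nat_lit 2560) Steps.nil)))))))) (nat_lit 40) (nat_lit 0),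
  Rule.mk (nat_lit 3) (nat_lit 38) (Steps.bwd (nat_lit 2) (Steps.bwd (nat_lit 3) (Steps.bwd (nat_lit 2) Steps.nil))) (nat_lit 8) (nat_lit 0),
  Rule.mk (nat_lit 6) (nat_lit 38) (Steps.bwd (nat_lit 2) (Steps.fwd (nat_lit 3072) (Steps.bwd (nat_lit 2) Steps.nil))) (nat_lit 34) (nat_lit 0),
  Rule.mk (nat_lit 5) (nat_lit 38) (Steps.bwd (nat_lit 2) (Steps.fwd (nat_lit 2560) (Steps.fwd (nat_lit 1024) Steps.nil))) (nat_lit 26) (nat_lit 0),
  Rule.mk (nat_lit 2) (nat_lit 38) (Steps.bwd (nat_lit 3) (Steps.bwd (nat_lit 2) (Steps.bwd (nat_lit 3) Steps.nil))) (nat_lit 8) (nat_lit 1),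
  Rule.mk (nat_lit 5) (nat_lit 88) (Steps.bwd (nat_lit 3) (Steps.fwd (nat_lit 2560) (Steps.fwd (nat_lit 3072) (Steps.fwd (nat_lit 1536) (Steps.fwd (nat_lit 2560) (Steps.bwd (nat_lit 3) (Steps.bwd (nat_lit 5) (Steps.fwd (nat_lit 3072) Steps.nil)))))))) (nat_lit 40) (nat_lit 6),
  Rule.mk (nat_lit 1) (nat_lit 38) (Steps.fwd (nat_lit 2560) (Steps.fwd (nat_lit 512) (Steps.bwd (nat_lit 5) Steps.nil))) (nat_lit 24) (nat_lit 1),
  Rule.mk (nat_lit 6) (nat_lit 58) (Steps.fwd (nat_lit 2560) (Steps.fwd (nat_lit 3072) (Steps.bwd (nat_lit 5) (Steps.fwd (nat_lit 3072) (Steps.bwd (nat_lit 5) Steps.nil))))) (nat_lit 36) (nat_lit 0),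
  Rule.mk (nat_lit 6) (nat_lit 78) (Steps.bwd (nat_lit 4) (Steps.bwd (nat_lit 6) (Steps.bwd (nat_lit 4) (Steps.fwd (nat_lit 3072) (Steps.fwd (nat_lit 2048) (Steps.fwd (nat_lit 3072) (Steps.fwd (nat_lit 2048) Steps.nil))))))) (nat_lit 38) (nat_lit 0),
  Rule.mk (nat_lit 3) (nat_lit 78) (Steps.bwd (nat_lit 1) (Steps.bwd (nat_lit 3) (Steps.fwd (nat_lit 512) (Steps.bwd (nat_lit 3) (Steps.bwd (nat_lit 1) (Steps.fwd (nat_lit 1536) (Steps.fwd (nat_lit 512) Steps.nil))))))) (nat_lit 10) (nat_lit 0)]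
noncomputable def R_1 : List (Rule) := [Rule.mk (nat_lit 6) (nat_lit 38) (Steps.bwd (nat_lit 1) (Steps.fwd (nat_lit 3072) (Steps.fwd (nat_lit 512) Steps.nil))) (nat_lit 32) (nat_lit 0),
  Rule.mk (nat_lit 3) (nat_lit 38) (Steps.bwd (nat_lit 2) (Steps.bwd (nat_lit 3) (Steps.fwd (nat_lit 1024) Steps.nil))) (nat_lit 8) (nat_lit 0),
  Rule.mk (nat_lit 5) (nat_lit 38) (Steps.bwd (nat_lit 1) (Steps.fwd (nat_lit 2560) (Steps.fwd (nat_lit 512) Steps.nil))) (nat_lit 24) (nat_lit 0),
  Rule.mk (nat_lit 2) (nat_lit 58) (Steps.bwd (nat_lit 1) (Steps.bwd (nat_lit 2) (Steps.fwd (nat_lit 512) (Steps.bwd (nat_lit 2) (Steps.fwd (nat_lit 512) Steps.nil))))) (nat_lit 4) (nat_lit 0),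
  Rule.mk (nat_lit 6) (nat_lit 38) (Steps.bwd (nat_lit 2) (Steps.fwd (nat_lit 3072) (Steps.fwd (nat_lit 1024) Steps.nil))) (nat_lit 34) (nat_lit 0),
  Rule.mk (nat_lit 1) (nat_lit 58) (Steps.bwd (nat_lit 2) (Steps.bwd (nat_lit 1) (Steps.bwd (nat_lit 2) (Steps.fwd (nat_lit 512) (Steps.fwd (nat_lit 1024) Steps.nil))))) (nat_lit 4) (nat_lit 1),
  Rule.mk (nat_lit 4) (nat_lit 78) (Steps.bwd (nat_lit 3) (Steps.bwd (nat_lit 4) (Steps.fwd (nat_lit 1536) (Steps.fwd (nat_lit 2048) (Steps.bwd (nat_lit 3) (Steps.fwd (nat_lit 2048) (Steps.fwd (nat_lit 1536) Steps.nil))))))) (nat_lit 16) (nat_lit 0),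
  Rule.mk (nat_lit 1) (nat_lit 198) (Steps.fwd (nat_lit 2048) (Steps.bwd (nat_lit 3) (Steps.bwd (nat_lit 4) (Steps.bwd (nat_lit 2) (Steps.bwd (nat_lit 1) (Steps.bwd (nat_lit 3) (Steps.bwd (nat_lit 4) (Steps.fwd (nat_lit 512) (Steps.fwd (nat_lit 1024) (Steps.fwd (nat_lit 512) (Steps.fwd (nat_lit 1536) (Steps.fwd (nat_lit 512) (Steps.fwd (nat_lit 1024) (Steps.fwd (nat_lit 2048) (Steps.fwd (nat_lit 1536) (Steps.fwd (nat_lit 512) (Steps.fwd (nat_lit 1024) (Steps.fwd (nat_lit 2048) (Steps.fwd (nat_lit 1536) Steps.nil))))))))))))))))))) (nat_lit 20) (nat_lit 13),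
  Rule.mk (nat_lit 0) (nat_lit 208) (Steps.bwd (nat_lit 1) (Steps.bwd (nat_lit 3) (Steps.bwd (nat_lit 4) (Steps.bwd (nat_lit 2) (Steps.bwd (nat_lit 1) (Steps.fwd (nat_lit 1536) (Steps.fwd (nat_lit 512) (Steps.fwd (nat_lit 1024) (Steps.fwd (nat_lit 512) (Steps.fwd (nat_lit 2048) (Steps.fwd (nat_lit 1536) (Steps.fwd (nat_lit 512) (Steps.fwd (nat_lit 1024) (Steps.fwd (nat_lit 2048) (Steps.bwd (nat_lit 3) (Steps.bwd (nat_lit 4) (Steps.bwd (nat_lit 1) (Steps.bwd (nat_lit 3) (Steps.bwd (nat_lit 4) (Steps.fwd (nat_lit 1024) Steps.nil)))))))))))))))))))) (nat_lit 21) (nat_lit 11),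
  Rule.mk (nat_lit 0) (nat_lit 38) (Steps.fwd (nat_lit 512) (Steps.fwd (nat_lit 0) (Steps.fwd (nat_lit 512) Steps.nil))) (nat_lit 42) (nat_lit 0),
  Rule.mk (nat_lit 0) (nat_lit 38) (Steps.bwd (nat_lit 2) (Steps.fwd (nat_lit 0) (Steps.fwd (nat_lit 1024) Steps.nil))) (nat_lit 42) (nat_lit 0),
  Rule.mk (nat_lit 0) (nat_lit 38) (Steps.fwd (nat_lit 1536) (Steps.fwd (nat_lit 0) (Steps.fwd (nat_lit 1536) Steps.nil))) (nat_lit 42) (nat_lit 0),
  Rule.mk (nat_lit 0) (nat_lit 38) (Steps.fwd (nat_lit 2048) (Steps.fwd (nat_lit 0) (Steps.fwd (nat_lit 2048) Steps.nil))) (nat_lit 42) (nat_lit 0),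
  Rule.mk (nat_lit 0) (nat_lit 38) (Steps.bwd (nat_lit 3) (Steps.fwd (nat_lit 0) (Steps.fwd (nat_lit 1536) Steps.nil))) (nat_lit 42) (nat_lit 0),
  Rule.mk (nat_lit 0) (nat_lit 38) (Steps.bwd (nat_lit 5) (Steps.fwd (nat_lit 0) (Steps.fwd (nat_lit 2560) Steps.nil))) (nat_lit 42) (nat_lit 0),
  Rule.mk (nat_lit 0) (nat_lit 38) (Steps.bwd (nat_lit 1) (Steps.fwd (nat_lit 0) (Steps.fwd (nat_lit 512) Steps.nil))) (nat_lit 42) (nat_lit 0),
  Rule.mk (nat_lit 1) (nat_lit 28) (Steps.bwd (nat_lit 0) (Steps.fwd (nat_lit 512) Steps.nil)) (nat_lit 42) (nat_lit 0),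
  Rule.mk (nat_lit 0) (nat_lit 38) (Steps.bwd (nat_lit 1) (Steps.fwd (nat_lit 0) (Steps.bwd (nat_lit 1) Steps.nil))) (nat_lit 42) (nat_lit 0),
  Rule.mk (nat_lit 0) (nat_lit 38) (Steps.fwd (nat_lit 3072) (Steps.fwd (nat_lit 0) (Steps.bwd (nat_lit 6) Steps.nil))) (nat_lit 42) (nat_lit 0),
  Rule.mk (nat_lit 2) (nat_lit 28) (Steps.bwd (nat_lit 0) (Steps.fwd (nat_lit 1024) Steps.nil)) (nat_lit 42) (nat_lit 0),
  Rule.mk (nat_lit 0) (nat_lit 38) (Steps.fwd (nat_lit 3072) (Steps.bwd (nat_lit 0) (Steps.bwd (nat_lit 6) Steps.nil))) (nat_lit 42) (nat_lit 0),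
  Rule.mk (nat_lit 2) (nat_lit 28) (Steps.bwd (nat_lit 0) (Steps.bwd (nat_lit 2) Steps.nil)) (nat_lit 42) (nat_lit 0),
  Rule.mk (nat_lit 6) (nat_lit 28) (Steps.bwd (nat_lit 0) (Steps.fwd (nat_lit 3072) Steps.nil)) (nat_lit 42) (nat_lit 0),
  Rule.mk (nat_lit 0) (nat_lit 208) (Steps.bwd (nat_lit 1) (Steps.bwd (nat_lit 4) (Steps.bwd (nat_lit 3) (Steps.bwd (nat_lit 4) (Steps.fwd (nat_lit 1024) (Steps.fwd (nat_lit 512) (Steps.fwd (nat_lit 1536) (Steps.fwd (nat_lit 2048) (Steps.fwd (nat_lit 512) (Steps.fwd (nat_lit 1024) (Steps.fwd (nat_lit 512) (Steps.fwd (nat_lit 1536) (Steps.fwd (nat_lit 512) (Steps.fwd (nat_lit 1024) (Steps.fwd (nat_lit 2048) (Steps.fwd (nat_lit 1536) (Steps.fwd (nat_lit 512) (Steps.fwd (nat_lit 1024) (Steps.fwd (nat_lit 2048) (Steps.bwd (nat_lit 3) Steps.nil)))))))))))))))))))) (nat_lit 20) (nat_lit 12),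
  Rule.mk (nat_lit 0) (nat_lit 38) (Steps.bwd (nat_lit 1) (Steps.bwd (nat_lit 0) (Steps.bwd (nat_lit 1) Steps.nil))) (nat_lit 42) (nat_lit 0),
  Rule.mk (nat_lit 5) (nat_lit 28) (Steps.bwd (nat_lit 0) (Steps.fwd (nat_lit 2560) Steps.nil)) (nat_lit 42) (nat_lit 0),
  Rule.mk (nat_lit 1) (nat_lit 198) (Steps.fwd (nat_lit 1024) (Steps.bwd (nat_lit 1) (Steps.bwd (nat_lit 4) (Steps.bwd (nat_lit 3) (Steps.fwd (nat_lit 512) (Steps.fwd (nat_lit 1024) (Steps.bwd (nat_lit 4) (Steps.fwd (nat_lit 1536) (Steps.fwd (nat_lit 2048) (Steps.fwd (nat_lit 512) (Steps.fwd (nat_lit 1536) (Steps.fwd (nat_lit 2048) (Steps.fwd (nat_lit 1024) (Steps.fwd (nat_lit 512) (Steps.fwd (nat_lit 1536) (Steps.fwd (nat_lit 2048) (Steps.bwd (nat_lit 2) (Steps.fwd (nat_lit 512) (Steps.bwd (nat_lit 3) Steps.nil))))))))))))))))))) (nat_lit 21) (nat_lit 18),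
  Rule.mk (nat_lit 5) (nat_lit 188) (Steps.bwd (nat_lit 3) (Steps.bwd (nat_lit 1) (Steps.fwd (nat_lit 1024) (Steps.fwd (nat_lit 1536) (Steps.bwd (nat_lit 4) (Steps.bwd (nat_lit 3) (Steps.fwd (nat_lit 2560) (Steps.fwd (nat_lit 512) (Steps.fwd (nat_lit 1536) (Steps.bwd (nat_lit 5) (Steps.bwd (nat_lit 3) (Steps.fwd (nat_lit 512) (Steps.fwd (nat_lit 1024) (Steps.fwd (nat_lit 1536) (Steps.fwd (nat_lit 2048) (Steps.fwd (nat_lit 1536) (Steps.fwd (nat_lit 512) (Steps.fwd (nat_lit 1536) Steps.nil)))))))))))))))))) (nat_lit 28) (nat_lit 8),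
  Rule.mk (nat_lit 0) (nat_lit 198) (Steps.fwd (nat_lit 1536) (Steps.bwd (nat_lit 4) (Steps.bwd (nat_lit 3) (Steps.fwd (nat_lit 1024) (Steps.fwd (nat_lit 512) (Steps.fwd (nat_lit 1536) (Steps.bwd (nat_lit 5) (Steps.bwd (nat_lit 3) (Steps.fwd (nat_lit 512) (Steps.fwd (nat_lit 1536) (Steps.fwd (nat_lit 2048) (Steps.fwd (nat_lit 1536) (Steps.fwd (nat_lit 1024) (Steps.fwd (nat_lit 512) (Steps.fwd (nat_lit 1536) (Steps.fwd (nat_lit 2560) (Steps.bwd (nat_lit 3) (Steps.bwd (nat_lit 1) (Steps.fwd (nat_lit 2560) Steps.nil))))))))))))))))))) (nat_lit 29) (nat_lit 5),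
  Rule.mk (nat_lit 3) (nat_lit 38) (Steps.bwd (nat_lit 0) (Steps.fwd (nat_lit 1536) (Steps.fwd (nat_lit 0) Steps.nil))) (nat_lit 42) (nat_lit 0),
  Rule.mk (nat_lit 5) (nat_lit 188) (Steps.bwd (nat_lit 3) (Steps.fwd (nat_lit 512) (Steps.fwd (nat_lit 1024) (Steps.fwd (nat_lit 1536) (Steps.fwd (nat_lit 2048) (Steps.bwd (nat_lit 3) (Steps.fwd (nat_lit 2560) (Steps.fwd (nat_lit 512) (Steps.fwd (nat_lit 1536) (Steps.bwd (nat_lit 5) (Steps.fwd (nat_lit 1536) (Steps.fwd (nat_lit 512) (Steps.bwd (nat_lit 2) (Steps.fwd (nat_lit 1536) (Steps.fwd (nat_lit 2048) (Steps.bwd (nat_lit 3) (Steps.fwd (nat_lit 512) (Steps.fwd (nat_lit 1536) Steps.nil)))))))))))))))))) (nat_lit 28) (nat_lit 8),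
  Rule.mk (nat_lit 4) (nat_lit 118) (Steps.bwd (nat_lit 3) (Steps.fwd (nat_lit 512) (Steps.fwd (nat_lit 1536) (Steps.fwd (nat_lit 2048) (Steps.bwd (nat_lit 3) (Steps.fwd (nat_lit 512) (Steps.fwd (nat_lit 1536) (Steps.bwd (nat_lit 4) (Steps.fwd (nat_lit 1536) (Steps.bwd (nat_lit 1) (Steps.fwd (nat_lit 1536) Steps.nil))))))))))) (nat_lit 18) (nat_lit 3),
  Rule.mk (nat_lit 5) (nat_lit 188) (Steps.bwd (nat_lit 3) (Steps.fwd (nat_lit 512) (Steps.fwd (nat_lit 1024) (Steps.fwd (nat_lit 1536) (Steps.fwd (nat_lit 2048) (Steps.bwd (nat_lit 3) (Steps.fwd (nat_lit 512) (Steps.fwd (nat_lit 1536) (Steps.bwd (nat_lit 5) (Steps.bwd (nat_lit 3) (Steps.fwd (nat_lit 512) (Steps.fwd (nat_lit 1024) (Steps.fwd (nat_lit 1536) (Steps.fwd (nat_lit 2048) (Steps.fwd (nat_lit 1536) (Steps.fwd (nat_lit 2560) (Steps.bwd (nat_lit 1) (Steps.fwd (nat_lit 1536) Steps.nil)))))))))))))))))) (nat_lit 28) (nat_lit 18),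
  Rule.mk (nat_lit 5) (nat_lit 188) (Steps.bwd (nat_lit 3) (Steps.fwd (nat_lit 512) (Steps.fwd (nat_lit 1024) (Steps.fwd (nat_lit 1536) (Steps.fwd (nat_lit 2048) (Steps.bwd (nat_lit 3) (Steps.fwd (nat_lit 512) (Steps.fwd (nat_lit 1536) (Steps.bwd (nat_lit 5) (Steps.fwd (nat_lit 1536) (Steps.fwd (nat_lit 512) (Steps.bwd (nat_lit 2) (Steps.fwd (nat_lit 1536) (Steps.fwd (nat_lit 2048) (Steps.bwd (nat_lit 3) (Steps.fwd (nat_lit 2560) (Steps.fwd (nat_lit 512) (Steps.fwd (nat_lit 1536) Steps.nil)))))))))))))))))) (nat_lit 28) (nat_lit 18),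
  Rule.mk (nat_lit 4) (nat_lit 188) (Steps.bwd (nat_lit 3) (Steps.bwd (nat_lit 5) (Steps.fwd (nat_lit 512) (Steps.fwd (nat_lit 1536) (Steps.fwd (nat_lit 2560) (Steps.bwd (nat_lit 3) (Steps.fwd (nat_lit 512) (Steps.fwd (nat_lit 1024) (Steps.fwd (nat_lit 1536) (Steps.fwd (nat_lit 2048) (Steps.bwd (nat_lit 3) (Steps.bwd (nat_lit 1) (Steps.fwd (nat_lit 1536) (Steps.fwd (nat_lit 2560) (Steps.fwd (nat_lit 1536) (Steps.bwd (nat_lit 1) (Steps.bwd (nat_lit 2) (Steps.fwd (nat_lit 1536) Steps.nil)))))))))))))))))) (nat_lit 28) (nat_lit 13),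
  Rule.mk (nat_lit 1) (nat_lit 198) (Steps.bwd (nat_lit 3) (Steps.fwd (nat_lit 512) (Steps.fwd (nat_lit 1024) (Steps.fwd (nat_lit 512) (Steps.fwd (nat_lit 2048) (Steps.bwd (nat_lit 3) (Steps.fwd (nat_lit 512) (Steps.fwd (nat_lit 1024) (Steps.bwd (nat_lit 4) (Steps.fwd (nat_lit 1536) (Steps.fwd (nat_lit 2048) (Steps.fwd (nat_lit 512) (Steps.fwd (nat_lit 1536) (Steps.bwd (nat_lit 4) (Steps.fwd (nat_lit 1024) (Steps.bwd (nat_lit 1) (Steps.fwd (nat_lit 1536) (Steps.fwd (nat_lit 2048) (Steps.bwd (nat_lit 2) Steps.nil))))))))))))))))))) (nat_lit 21) (nat_lit 16),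
  Rule.mk (nat_lit 0) (nat_lit 208) (Steps.fwd (nat_lit 1536) (Steps.fwd (nat_lit 512) (Steps.fwd (nat_lit 1024) (Steps.fwd (nat_lit 2048) (Steps.bwd (nat_lit 3) (Steps.fwd (nat_lit 512) (Steps.fwd (nat_lit 2048) (Steps.bwd (nat_lit 3) (Steps.bwd (nat_lit 4) (Steps.fwd (nat_lit 1024) (Steps.fwd (nat_lit 512) (Steps.fwd (nat_lit 1536) (Steps.fwd (nat_lit 2048) (Steps.fwd (nat_lit 512) (Steps.fwd (nat_lit 1024) (Steps.fwd (nat_lit 512) (Steps.fwd (nat_lit 1536) (Steps.bwd (nat_lit 1) (Steps.fwd (nat_lit 1024) (Steps.fwd (nat_lit 2048) Steps.nil)))))))))))))))))))) (nat_lit 20) (nat_lit 7),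
  Rule.mk (nat_lit 1) (nat_lit 38) (Steps.bwd (nat_lit 0) (Steps.fwd (nat_lit 512) (Steps.fwd (nat_lit 0) Steps.nil))) (nat_lit 42) (nat_lit 0),
  Rule.mk (nat_lit 0) (nat_lit 38) (Steps.bwd (nat_lit 2) (Steps.bwd (nat_lit 0) (Steps.fwd (nat_lit 1024) Steps.nil))) (nat_lit 42) (nat_lit 0),
  Rule.mk (nat_lit 3) (nat_lit 28) (Steps.bwd (nat_lit 0) (Steps.fwd (nat_lit 1536) Steps.nil)) (nat_lit 42) (nat_lit 0),
  Rule.mk (nat_lit 5) (nat_lit 28) (Steps.bwd (nat_lit 0) (Steps.bwd (nat_lit 5) Steps.nil)) (nat_lit 42) (nat_lit 0),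
  Rule.mk (nat_lit 3) (nat_lit 88) (Steps.bwd (nat_lit 5) (Steps.bwd (nat_lit 6) (Steps.fwd (nat_lit 1536) (Steps.fwd (nat_lit 2560) (Steps.fwd (nat_lit 1536) (Steps.bwd (nat_lit 5) (Steps.fwd (nat_lit 3072) (Steps.fwd (nat_lit 2560) Steps.nil)))))))) (nat_lit 40) (nat_lit 7),
  Rule.mk (nat_lit 3) (nat_lit 38) (Steps.bwd (nat_lit 2) (Steps.fwd (nat_lit 1536) (Steps.bwd (nat_lit 2) Steps.nil))) (nat_lit 8) (nat_lit 0),
  Rule.mk (nat_lit 5) (nat_lit 38) (Steps.bwd (nat_lit 2) (Steps.fwd (nat_lit 2560) (Steps.bwd (nat_lit 2) Steps.nil))) (nat_lit 26) (nat_lit 0),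
  Rule.mk (nat_lit 5) (nat_lit 88) (Steps.bwd (nat_lit 3) (Steps.fwd (nat_lit 2560) (Steps.bwd (nat_lit 6) (Steps.fwd (nat_lit 1536) (Steps.fwd (nat_lit 2560) (Steps.bwd (nat_lit 3) (Steps.bwd (nat_lit 5) (Steps.fwd (nat_lit 3072) Steps.nil)))))))) (nat_lit 40) (nat_lit 6),
  Rule.mk (nat_lit 6) (nat_lit 58) (Steps.fwd (nat_lit 2560) (Steps.bwd (nat_lit 6) (Steps.bwd (nat_lit 5) (Steps.fwd (nat_lit 3072) (Steps.bwd (nat_lit 5) Steps.nil))))) (nat_lit 36) (nat_lit 0),
  Rule.mk (nat_lit 2) (nat_lit 58) (Steps.bwd (nat_lit 1) (Steps.fwd (nat_lit 1024) (Steps.fwd (nat_lit 512) (Steps.bwd (nat_lit 2) (Steps.fwd (nat_lit 512) Steps.nil))))) (nat_lit 4) (nat_lit 0),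
  Rule.mk (nat_lit 2) (nat_lit 58) (Steps.bwd (nat_lit 1) (Steps.bwd (nat_lit 2) (Steps.fwd (nat_lit 512) (Steps.fwd (nat_lit 1024) (Steps.fwd (nat_lit 512) Steps.nil))))) (nat_lit 4) (nat_lit 0),
  Rule.mk (nat_lit 4) (nat_lit 78) (Steps.bwd (nat_lit 6) (Steps.bwd (nat_lit 4) (Steps.bwd (nat_lit 6) (Steps.bwd (nat_lit 4) (Steps.fwd (nat_lit 3072) (Steps.fwd (nat_lit 2048) (Steps.fwd (nat_lit 3072) Steps.nil))))))) (nat_lit 38) (nat_lit 1),
  Rule.mk (nat_lit 5) (nat_lit 88) (Steps.bwd (nat_lit 3) (Steps.bwd (nat_lit 5) (Steps.bwd (nat_lit 6) (Steps.bwd (nat_lit 3) (Steps.fwd (nat_lit 2560) (Steps.fwd (nat_lit 1536) (Steps.fwd (nat_lit 2560) (Steps.bwd (nat_lit 6) Steps.nil)))))))) (nat_lit 40) (nat_lit 6),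
  Rule.mk (nat_lit 6) (nat_lit 88) (Steps.bwd (nat_lit 3) (Steps.bwd (nat_lit 5) (Steps.fwd (nat_lit 1536) (Steps.bwd (nat_lit 5) (Steps.bwd (nat_lit 6) (Steps.bwd (nat_lit 5) (Steps.fwd (nat_lit 1536) (Steps.bwd (nat_lit 5) Steps.nil)))))))) (nat_lit 40) (nat_lit 0),
  Rule.mk (nat_lit 0) (nat_lit 198) (Steps.fwd (nat_lit 1536) (Steps.fwd (nat_lit 512) (Steps.bwd (nat_lit 3) (Steps.bwd (nat_lit 5) (Steps.fwd (nat_lit 1536) (Steps.fwd (nat_lit 512) (Steps.fwd (nat_lit 1024) (Steps.fwd (nat_lit 1536) (Steps.fwd (nat_lit 2048) (Steps.bwd (nat_lit 3) (Steps.fwd (nat_lit 2560) (Steps.bwd (nat_lit 1) (Steps.bwd (nat_lit 3) (Steps.bwd (nat_lit 5) (Steps.fwd (nat_lit 1536) (Steps.fwd (nat_lit 512) (Steps.fwd (nat_lit 1024) (Steps.fwd (nat_lit 1536) (Steps.fwd (nat_lit 2048) Steps.nil))))))))))))))))))) (nat_lit 28) (nat_lit 4),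
  Rule.mk (nat_lit 6) (nat_lit 38) (Steps.bwd (nat_lit 0) (Steps.fwd (nat_lit 3072) (Steps.fwd (nat_lit 0) Steps.nil))) (nat_lit 42) (nat_lit 0),
  Rule.mk (nat_lit 0) (nat_lit 88) (Steps.bwd (nat_lit 6) (Steps.bwd (nat_lit 4) (Steps.fwd (nat_lit 3072) (Steps.fwd (nat_lit 2048) (Steps.fwd (nat_lit 3072) (Steps.bwd (nat_lit 4) (Steps.bwd (nat_lit 6) (Steps.fwd (nat_lit 2048) Steps.nil)))))))) (nat_lit 38) (nat_lit 1),
  Rule.mk (nat_lit 0) (nat_lit 38) (Steps.bwd (nat_lit 2) (Steps.fwd (nat_lit 0) (Steps.bwd (nat_lit 2) Steps.nil))) (nat_lit 42) (nat_lit 0),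
  Rule.mk (nat_lit 0) (nat_lit 38) (Steps.bwd (nat_lit 5) (Steps.fwd (nat_lit 0) (Steps.bwd (nat_lit 5) Steps.nil))) (nat_lit 42) (nat_lit 0),
  Rule.mk (nat_lit 0) (nat_lit 48) (Steps.bwd (nat_lit 6) (Steps.bwd (nat_lit 0) (Steps.bwd (nat_lit 6) (Steps.fwd (nat_lit 0) Steps.nil)))) (nat_lit 42) (nat_lit 0),
  Rule.mk (nat_lit 0) (nat_lit 48) (Steps.bwd (nat_lit 0) (Steps.bwd (nat_lit 6) (Steps.fwd (nat_lit 0) (Steps.fwd (nat_lit 3072) Steps.nil)))) (nat_lit 42) (nat_lit 0),
  Rule.mk (nat_lit 0) (nat_lit 28) (Steps.fwd (nat_lit 0) (Steps.fwd (nat_lit 0) Steps.nil)) (nat_lit 42) (nat_lit 0),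
  Rule.mk (nat_lit 0) (nat_lit 38) (Steps.fwd (nat_lit 1536) (Steps.fwd (nat_lit 0) (Steps.bwd (nat_lit 3) Steps.nil))) (nat_lit 42) (nat_lit 0),
  Rule.mk (nat_lit 0) (nat_lit 38) (Steps.fwd (nat_lit 1536) (Steps.bwd (nat_lit 0) (Steps.bwd (nat_lit 3) Steps.nil))) (nat_lit 42) (nat_lit 0),
  Rule.mk (nat_lit 0) (nat_lit 48) (Steps.bwd (nat_lit 4) (Steps.bwd (nat_lit 0) (Steps.fwd (nat_lit 2048) (Steps.fwd (nat_lit 0) Steps.nil)))) (nat_lit 42) (nat_lit 0),
  Rule.mk (nat_lit 0) (nat_lit 88) (Steps.bwd (nat_lit 4) (Steps.bwd (nat_lit 6) (Steps.fwd (nat_lit 2048) (Steps.fwd (nat_lit 3072) (Steps.fwd (nat_lit 2048) (Steps.bwd (nat_lit 6) (Steps.bwd (nat_lit 4) (Steps.fwd (nat_lit 3072) Steps.nil)))))))) (nat_lit 38) (nat_lit 0),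
  Rule.mk (nat_lit 0) (nat_lit 38) (Steps.fwd (nat_lit 1024) (Steps.fwd (nat_lit 0) (Steps.fwd (nat_lit 1024) Steps.nil))) (nat_lit 42) (nat_lit 0)]
noncomputable def R_2 : List (Rule) := [Rule.mk (nat_lit 0) (nat_lit 208) (Steps.fwd (nat_lit 1024) (Steps.bwd (nat_lit 4) (Steps.fwd (nat_lit 1536) (Steps.bwd (nat_lit 1) (Steps.fwd (nat_lit 2048) (Steps.bwd (nat_lit 3) (Steps.bwd (nat_lit 4) (Steps.fwd (nat_lit 1024) (Steps.fwd (nat_lit 512) (Steps.fwd (nat_lit 1536) (Steps.fwd (nat_lit 2048) (Steps.fwd (nat_lit 512) (Steps.fwd (nat_lit 1024) (Steps.bwd (nat_lit 1) (Steps.bwd (nat_lit 3) (Steps.fwd (nat_lit 512) (Steps.bwd (nat_lit 2) (Steps.fwd (nat_lit 2048) (Steps.fwd (nat_lit 1536) (Steps.fwd (nat_lit 512) Steps.nil)))))))))))))))))))) (nat_lit 20) (nat_lit 9),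
  Rule.mk (nat_lit 0) (nat_lit 38) (Steps.bwd (nat_lit 6) (Steps.fwd (nat_lit 0) (Steps.bwd (nat_lit 6) Steps.nil))) (nat_lit 42) (nat_lit 0),
  Rule.mk (nat_lit 0) (nat_lit 38) (Steps.bwd (nat_lit 4) (Steps.fwd (nat_lit 0) (Steps.bwd (nat_lit 4) Steps.nil))) (nat_lit 42) (nat_lit 0),
  Rule.mk (nat_lit 0) (nat_lit 38) (Steps.fwd (nat_lit 3072) (Steps.fwd (nat_lit 0) (Steps.fwd (nat_lit 3072) Steps.nil))) (nat_lit 42) (nat_lit 0),
  Rule.mk (nat_lit 0) (nat_lit 198) (Steps.bwd (nat_lit 4) (Steps.fwd (nat_lit 1536) (Steps.fwd (nat_lit 512) (Steps.fwd (nat_lit 1536) (Steps.bwd (nat_lit 5) (Steps.fwd (nat_lit 1536) (Steps.fwd (nat_lit 512) (Steps.fwd (nat_lit 1024) (Steps.bwd (nat_lit 3) (Steps.fwd (nat_lit 2048) (Steps.fwd (nat_lit 1536) (Steps.fwd (nat_lit 2560) (Steps.fwd (nat_lit 512) (Steps.fwd (nat_lit 1536) (Steps.bwd (nat_lit 5) (Steps.bwd (nat_lit 3) (Steps.bwd (nat_lit 1) (Steps.fwd (nat_lit 1024) (Steps.bwd (nat_lit 3) Steps.nil))))))))))))))))))) (nat_lit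 28) (nat_lit 3),
  Rule.mk (nat_lit 0) (nat_lit 38) (Steps.fwd (nat_lit 1024) (Steps.fwd (nat_lit 0) (Steps.bwd (nat_lit 2) Steps.nil))) (nat_lit 42) (nat_lit 0),
  Rule.mk (nat_lit 0) (nat_lit 208) (Steps.fwd (nat_lit 1024) (Steps.bwd (nat_lit 4) (Steps.fwd (nat_lit 1536) (Steps.bwd (nat_lit 1) (Steps.bwd (nat_lit 2) (Steps.fwd (nat_lit 2048) (Steps.fwd (nat_lit 1536) (Steps.fwd (nat_lit 512) (Steps.fwd (nat_lit 2048) (Steps.fwd (nat_lit 1536) (Steps.fwd (nat_lit 2048) (Steps.fwd (nat_lit 1024) (Steps.fwd (nat_lit 512) (Steps.bwd (nat_lit 3) (Steps.fwd (nat_lit 2048) (Steps.bwd (nat_lit 1) (Steps.fwd (nat_lit 1024) (Steps.fwd (nat_lit 512) (Steps.bwd (nat_lit 3) (Steps.bwd (nat_lit 1) Steps.nil)))))))))))))))))))) (nat_lit 20) (nat_lit 5),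
  Rule.mk (nat_lit 0) (nat_lit 88) (Steps.bwd (nat_lit 4) (Steps.fwd (nat_lit 1536) (Steps.fwd (nat_lit 2048) (Steps.fwd (nat_lit 1536) (Steps.fwd (nat_lit 2048) (Steps.bwd (nat_lit 3) (Steps.bwd (nat_lit 4) (Steps.bwd (nat_lit 3) Steps.nil)))))))) (nat_lit 16) (nat_lit 1),
  Rule.mk (nat_lit 0) (nat_lit 198) (Steps.bwd (nat_lit 4) (Steps.fwd (nat_lit 1536) (Steps.fwd (nat_lit 1024) (Steps.fwd (nat_lit 512) (Steps.fwd (nat_lit 1536) (Steps.bwd (nat_lit 5) (Steps.bwd (nat_lit 3) (Steps.bwd (nat_lit 1) (Steps.bwd (nat_lit 3) (Steps.bwd (nat_lit 4) (Steps.bwd (nat_lit 3) (Steps.bwd (nat_lit 2) (Steps.fwd (nat_lit 512) (Steps.fwd (nat_lit 1536) (Steps.bwd (nat_lit 5) (Steps.fwd (nat_lit 1536) (Steps.fwd (nat_lit 512) (Steps.fwd (nat_lit 2560) (Steps.fwd (nat_lit 1536) Steps.nil))))))))))))))))))) (nat_lit 29) (nat_lit 6),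
  Rule.mk (nat_lit 0) (nat_lit 208) (Steps.bwd (nat_lit 4) (Steps.bwd (nat_lit 1) (Steps.fwd (nat_lit 1024) (Steps.fwd (nat_lit 512) (Steps.fwd (nat_lit 1536) (Steps.fwd (nat_lit 512) (Steps.fwd (nat_lit 1024) (Steps.fwd (nat_lit 2048) (Steps.fwd (nat_lit 1536) (Steps.fwd (nat_lit 512) (Steps.bwd (nat_lit 2) (Steps.fwd (nat_lit 2048) (Steps.bwd (nat_lit 3) (Steps.fwd (nat_lit 512) (Steps.bwd (nat_lit 4) (Steps.bwd (nat_lit 3) (Steps.fwd (nat_lit 2048) (Steps.bwd (nat_lit 2) (Steps.fwd (nat_lit 512) (Steps.fwd (nat_lit 1536) Steps.nil)))))))))))))))))))) (nat_lit 20) (nat_lit 19),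
  Rule.mk (nat_lit 4) (nat_lit 78) (Steps.bwd (nat_lit 6) (Steps.fwd (nat_lit 2048) (Steps.fwd (nat_lit 3072) (Steps.fwd (nat_lit 2048) (Steps.bwd (nat_lit 6) (Steps.bwd (nat_lit 4) (Steps.fwd (nat_lit 3072) Steps.nil))))))) (nat_lit 38) (nat_lit 1),
  Rule.mk (nat_lit 3) (nat_lit 188) (Steps.fwd (nat_lit 512) (Steps.fwd (nat_lit 1536) (Steps.bwd (nat_lit 5) (Steps.fwd (nat_lit 1536) (Steps.fwd (nat_lit 512) (Steps.fwd (nat_lit 1024) (Steps.fwd (nat_lit 1536) (Steps.fwd (nat_lit 2048) (Steps.bwd (nat_lit 3) (Steps.bwd (nat_lit 5) (Steps.bwd (nat_lit 1) (Steps.fwd (nat_lit 1536) (Steps.fwd (nat_lit 2560) (Steps.fwd (nat_lit 1536) (Steps.fwd (nat_lit 512) (Steps.fwd (nat_lit 1024) (Steps.fwd (nat_lit 1536) (Steps.fwd (nat_lit 2048) Steps.nil)))))))))))))))))) (nat_lit 28) (nat_lit 5),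
  Rule.mk (nat_lit 1) (nat_lit 198) (Steps.fwd (nat_lit 1024) (Steps.bwd (nat_lit 4) (Steps.fwd (nat_lit 1536) (Steps.fwd (nat_lit 512) (Steps.fwd (nat_lit 2048) (Steps.bwd (nat_lit 3) (Steps.fwd (nat_lit 2048) (Steps.fwd (nat_lit 1024) (Steps.bwd (nat_lit 1) (Steps.fwd (nat_lit 1536) (Steps.fwd (nat_lit 2048) (Steps.fwd (nat_lit 512) (Steps.fwd (nat_lit 1024) (Steps.bwd (nat_lit 1) (Steps.bwd (nat_lit 3) (Steps.fwd (nat_lit 512) (Steps.fwd (nat_lit 1024) (Steps.bwd (nat_lit 4) (Steps.fwd (nat_lit 1536) Steps.nil))))))))))))))))))) (nat_lit 20) (nat_lit 9),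
  Rule.mk (nat_lit 4) (nat_lit 188) (Steps.fwd (nat_lit 1536) (Steps.fwd (nat_lit 1024) (Steps.bwd (nat_lit 1) (Steps.fwd (nat_lit 1536) (Steps.fwd (nat_lit 2560) (Steps.fwd (nat_lit 1536) (Steps.fwd (nat_lit 512) (Steps.fwd (nat_lit 1536) (Steps.fwd (nat_lit 2048) (Steps.bwd (nat_lit 3) (Steps.fwd (nat_lit 1024) (Steps.fwd (nat_lit 512) (Steps.fwd (nat_lit 1536) (Steps.bwd (nat_lit 5) (Steps.fwd (nat_lit 1536) (Steps.fwd (nat_lit 512) (Steps.fwd (nat_lit 2560) (Steps.bwd (nat_lit 3) Steps.nil)))))))))))))))))) (nat_lit 29) (nat_lit 7),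
  Rule.mk (nat_lit 4) (nat_lit 78) (Steps.bwd (nat_lit 3) (Steps.bwd (nat_lit 4) (Steps.bwd (nat_lit 3) (Steps.fwd (nat_lit 2048) (Steps.fwd (nat_lit 1536) (Steps.fwd (nat_lit 2048) (Steps.fwd (nat_lit 1536) Steps.nil))))))) (nat_lit 16) (nat_lit 0),
  Rule.mk (nat_lit 6) (nat_lit 78) (Steps.bwd (nat_lit 4) (Steps.fwd (nat_lit 3072) (Steps.bwd (nat_lit 4) (Steps.fwd (nat_lit 3072) (Steps.fwd (nat_lit 2048) (Steps.bwd (nat_lit 6) (Steps.fwd (nat_lit 2048) Steps.nil))))))) (nat_lit 38) (nat_lit 0),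
  Rule.mk (nat_lit 4) (nat_lit 38) (Steps.bwd (nat_lit 2) (Steps.fwd (nat_lit 2048) (Steps.fwd (nat_lit 1024) Steps.nil))) (nat_lit 14) (nat_lit 0),
  Rule.mk (nat_lit 1) (nat_lit 118) (Steps.bwd (nat_lit 3) (Steps.bwd (nat_lit 4) (Steps.bwd (nat_lit 3) (Steps.fwd (nat_lit 512) (Steps.fwd (nat_lit 1536) (Steps.fwd (nat_lit 2048) (Steps.bwd (nat_lit 3) (Steps.bwd (nat_lit 1) (Steps.fwd (nat_lit 1536) (Steps.fwd (nat_lit 2048) (Steps.fwd (nat_lit 1536) Steps.nil))))))))))) (nat_lit 18) (nat_lit 1),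
  Rule.mk (nat_lit 5) (nat_lit 188) (Steps.fwd (nat_lit 1536) (Steps.fwd (nat_lit 512) (Steps.fwd (nat_lit 1024) (Steps.bwd (nat_lit 3) (Steps.bwd (nat_lit 4) (Steps.bwd (nat_lit 3) (Steps.fwd (nat_lit 2560) (Steps.bwd (nat_lit 1) (Steps.fwd (nat_lit 1536) (Steps.fwd (nat_lit 2560) (Steps.bwd (nat_lit 3) (Steps.fwd (nat_lit 512) (Steps.fwd (nat_lit 1024) (Steps.fwd (nat_lit 1536) (Steps.fwd (nat_lit 2048) (Steps.bwd (nat_lit 3) (Steps.bwd (nat_lit 1) (Steps.fwd (nat_lit 1536) Steps.nil)))))))))))))))))) (nat_lit 28) (nat_lit 8),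
  Rule.mk (nat_lit 0) (nat_lit 208) (Steps.fwd (nat_lit 1024) (Steps.fwd (nat_lit 512) (Steps.bwd (nat_lit 3) (Steps.bwd (nat_lit 4) (Steps.fwd (nat_lit 1024) (Steps.fwd (nat_lit 512) (Steps.bwd (nat_lit 3) (Steps.fwd (nat_lit 512) (Steps.bwd (nat_lit 2) (Steps.fwd (nat_lit 512) (Steps.fwd (nat_lit 2048) (Steps.fwd (nat_lit 1536) (Steps.fwd (nat_lit 512) (Steps.fwd (nat_lit 1024) (Steps.fwd (nat_lit 2048) (Steps.fwd (nat_lit 1536) (Steps.bwd (nat_lit 4) (Steps.bwd (nat_lit 1) (Steps.fwd (nat_lit 1536) (Steps.fwd (nat_lit 2048) Steps.nil)))))))))))))))))))) (nat_lit 21) (nat_lit 10),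
  Rule.mk (nat_lit 1) (nat_lit 198) (Steps.bwd (nat_lit 3) (Steps.fwd (nat_lit 2048) (Steps.bwd (nat_lit 2) (Steps.fwd (nat_lit 512) (Steps.bwd (nat_lit 3) (Steps.bwd (nat_lit 4) (Steps.fwd (nat_lit 1024) (Steps.bwd (nat_lit 1) (Steps.fwd (nat_lit 1536) (Steps.fwd (nat_lit 512) (Steps.fwd (nat_lit 1024) (Steps.fwd (nat_lit 512) (Steps.fwd (nat_lit 2048) (Steps.fwd (nat_lit 1536) (Steps.fwd (nat_lit 512) (Steps.fwd (nat_lit 1024) (Steps.bwd (nat_lit 4) (Steps.bwd (nat_lit 3) (Steps.fwd (nat_lit 2048) Steps.nil))))))))))))))))))) (nat_lit 21) (nat_lit 8),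
  Rule.mk (nat_lit 3) (nat_lit 78) (Steps.bwd (nat_lit 4) (Steps.fwd (nat_lit 1536) (Steps.fwd (nat_lit 2048) (Steps.fwd (nat_lit 1536) (Steps.bwd (nat_lit 4) (Steps.bwd (nat_lit 3) (Steps.fwd (nat_lit 2048) Steps.nil))))))) (nat_lit 16) (nat_lit 1),
  Rule.mk (nat_lit 5) (nat_lit 188) (Steps.fwd (nat_lit 1536) (Steps.bwd (nat_lit 1) (Steps.bwd (nat_lit 2) (Steps.fwd (nat_lit 1536) (Steps.fwd (nat_lit 2048) (Steps.bwd (nat_lit 3) (Steps.fwd (nat_lit 512) (Steps.fwd (nat_lit 1536) (Steps.fwd (nat_lit 2560) (Steps.bwd (nat_lit 3) (Steps.bwd (nat_lit 1) (Steps.fwd (nat_lit 1024) (Steps.fwd (nat_lit 1536) (Steps.fwd (nat_lit 2048) (Steps.fwd (nat_lit 1536) (Steps.fwd (nat_lit 2560) (Steps.fwd (nat_lit 512) (Steps.bwd (nat_lit 3) Steps.nil)))))))))))))))))) (nat_lit 28) (nat_lit 18),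
  Rule.mk (nat_lit 3) (nat_lit 78) (Steps.bwd (nat_lit 1) (Steps.fwd (nat_lit 1536) (Steps.fwd (nat_lit 512) (Steps.fwd (nat_lit 1536) (Steps.bwd (nat_lit 1) (Steps.bwd (nat_lit 3) (Steps.fwd (nat_lit 512) Steps.nil))))))) (nat_lit 10) (nat_lit 0),
  Rule.mk (nat_lit 4) (nat_lit 118) (Steps.fwd (nat_lit 1536) (Steps.bwd (nat_lit 1) (Steps.fwd (nat_lit 1536) (Steps.bwd (nat_lit 4) (Steps.fwd (nat_lit 1536) (Steps.fwd (nat_lit 512) (Steps.bwd (nat_lit 3) (Steps.fwd (nat_lit 2048) (Steps.bwd (nat_lit 3) (Steps.fwd (nat_lit 512) (Steps.fwd (nat_lit 1536) Steps.nil))))))))))) (nat_lit 18) (nat_lit 3),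
  Rule.mk (nat_lit 5) (nat_lit 58) (Steps.bwd (nat_lit 6) (Steps.bwd (nat_lit 5) (Steps.fwd (nat_lit 3072) (Steps.fwd (nat_lit 2560) (Steps.fwd (nat_lit 3072) Steps.nil))))) (nat_lit 36) (nat_lit 1),
  Rule.mk (nat_lit 4) (nat_lit 78) (Steps.bwd (nat_lit 6) (Steps.bwd (nat_lit 4) (Steps.fwd (nat_lit 3072) (Steps.fwd (nat_lit 2048) (Steps.bwd (nat_lit 6) (Steps.fwd (nat_lit 2048) (Steps.fwd (nat_lit 3072) Steps.nil))))))) (nat_lit 38) (nat_lit 1),
  Rule.mk (nat_lit 3) (nat_lit 88) (Steps.fwd (nat_lit 2560) (Steps.bwd (nat_lit 6) (Steps.bwd (nat_lit 3) (Steps.bwd (nat_lit 5) (Steps.fwd (nat_lit 1536) (Steps.fwd (nat_lit 2560) (Steps.fwd (nat_lit 3072) (Steps.fwd (nat_lit 2560) Steps.nil)))))))) (nat_lit 40) (nat_lit 7),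
  Rule.mk (nat_lit 3) (nat_lit 78) (Steps.bwd (nat_lit 1) (Steps.bwd (nat_lit 3) (Steps.fwd (nat_lit 512) (Steps.fwd (nat_lit 1536) (Steps.bwd (nat_lit 1) (Steps.fwd (nat_lit 1536) (Steps.fwd (nat_lit 512) Steps.nil))))))) (nat_lit 10) (nat_lit 0),
  Rule.mk (nat_lit 4) (nat_lit 118) (Steps.fwd (nat_lit 1536) (Steps.bwd (nat_lit 1) (Steps.bwd (nat_lit 3) (Steps.fwd (nat_lit 2048) (Steps.fwd (nat_lit 1536) (Steps.fwd (nat_lit 512) (Steps.bwd (nat_lit 3) (Steps.bwd (nat_lit 4) (Steps.fwd (nat_lit 1536) (Steps.fwd (nat_lit 512) (Steps.fwd (nat_lit 1536) Steps.nil))))))))))) (nat_lit 18) (nat_lit 3),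
  Rule.mk (nat_lit 1) (nat_lit 78) (Steps.bwd (nat_lit 3) (Steps.bwd (nat_lit 1) (Steps.bwd (nat_lit 3) (Steps.fwd (nat_lit 512) (Steps.fwd (nat_lit 1536) (Steps.fwd (nat_lit 512) (Steps.fwd (nat_lit 1536) Steps.nil))))))) (nat_lit 10) (nat_lit 1),
  Rule.mk (nat_lit 5) (nat_lit 88) (Steps.bwd (nat_lit 3) (Steps.fwd (nat_lit 2560) (Steps.bwd (nat_lit 6) (Steps.bwd (nat_lit 5) (Steps.fwd (nat_lit 1536) (Steps.fwd (nat_lit 2560) (Steps.fwd (nat_lit 3072) (Steps.fwd (nat_lit 1536) Steps.nil)))))))) (nat_lit 40) (nat_lit 2),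
  Rule.mk (nat_lit 4) (nat_lit 118) (Steps.bwd (nat_lit 3) (Steps.bwd (nat_lit 1) (Steps.bwd (nat_lit 3) (Steps.fwd (nat_lit 2048) (Steps.fwd (nat_lit 1536) (Steps.fwd (nat_lit 512) (Steps.bwd (nat_lit 3) (Steps.bwd (nat_lit 4) (Steps.fwd (nat_lit 1536) (Steps.fwd (nat_lit 512) (Steps.fwd (nat_lit 1536) Steps.nil))))))))))) (nat_lit 18) (nat_lit 3),
  Rule.mk (nat_lit 4) (nat_lit 198) (Steps.fwd (nat_lit 1536) (Steps.fwd (nat_lit 512) (Steps.fwd (nat_lit 1024) (Steps.fwd (nat_lit 2048) (Steps.bwd (nat_lit 3) (Steps.bwd (nat_lit 1) (Steps.fwd (nat_lit 2048) (Steps.bwd (nat_lit 3) (Steps.fwd (nat_lit 2048) (Steps.bwd (nat_lit 2) (Steps.fwd (nat_lit 512) (Steps.fwd (nat_lit 1536) (Steps.fwd (nat_lit 2048) (Steps.bwd (nat_lit 1) (Steps.fwd (nat_lit 1024) (Steps.fwd (nat_lit 512) (Steps.fwd (nat_lit 1536) (Steps.fwd (nat_lit 512) (Steps.fwd (nat_lit 1024) Steps.nil))))))))))))))))))) (nat_lit 20) (nat_lit 7),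
  Rule.mk (nat_lit 3) (nat_lit 88) (Steps.bwd (nat_lit 6) (Steps.fwd (nat_lit 2560) (Steps.bwd (nat_lit 3) (Steps.fwd (nat_lit 2560) (Steps.bwd (nat_lit 6) (Steps.bwd (nat_lit 5) (Steps.fwd (nat_lit 1536) (Steps.fwd (nat_lit 2560) Steps.nil)))))))) (nat_lit 41) (nat_lit 0),
  Rule.mk (nat_lit 4) (nat_lit 118) (Steps.fwd (nat_lit 1536) (Steps.bwd (nat_lit 1) (Steps.fwd (nat_lit 1536) (Steps.fwd (nat_lit 2048) (Steps.fwd (nat_lit 1536) (Steps.fwd (nat_lit 512) (Steps.bwd (nat_lit 3) (Steps.bwd (nat_lit 4) (Steps.bwd (nat_lit 3) (Steps.fwd (nat_lit 512) (Steps.bwd (nat_lit 3) Steps.nil))))))))))) (nat_lit 18) (nat_lit 3),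
  Rule.mk (nat_lit 4) (nat_lit 188) (Steps.bwd (nat_lit 3) (Steps.fwd (nat_lit 512) (Steps.fwd (nat_lit 1536) (Steps.bwd (nat_lit 5) (Steps.fwd (nat_lit 1536) (Steps.bwd (nat_lit 1) (Steps.bwd (nat_lit 2) (Steps.bwd (nat_lit 3) (Steps.bwd (nat_lit 4) (Steps.bwd (nat_lit 3) (Steps.bwd (nat_lit 5) (Steps.fwd (nat_lit 512) (Steps.fwd (nat_lit 1536) (Steps.fwd (nat_lit 2560) (Steps.bwd (nat_lit 3) (Steps.fwd (nat_lit 512) (Steps.fwd (nat_lit 1024) (Steps.fwd (nat_lit 1536) Steps.nil)))))))))))))))))) (nat_lit 28) (nat_lit 4),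
  Rule.mk (nat_lit 3) (nat_lit 88) (Steps.bwd (nat_lit 5) (Steps.bwd (nat_lit 6) (Steps.bwd (nat_lit 3) (Steps.fwd (nat_lit 2560) (Steps.fwd (nat_lit 1536) (Steps.fwd (nat_lit 2560) (Steps.fwd (nat_lit 3072) (Steps.fwd (nat_lit 2560) Steps.nil)))))))) (nat_lit 40) (nat_lit 7),
  Rule.mk (nat_lit 4) (nat_lit 188) (Steps.fwd (nat_lit 1536) (Steps.bwd (nat_lit 5) (Steps.fwd (nat_lit 512) (Steps.fwd (nat_lit 1536) (Steps.bwd (nat_lit 5) (Steps.fwd (nat_lit 1536) (Steps.bwd (nat_lit 1) (Steps.bwd (nat_lit 2) (Steps.bwd (nat_lit 3) (Steps.bwd (nat_lit 4) (Steps.bwd (nat_lit 3) (Steps.fwd (nat_lit 512) (Steps.bwd (nat_lit 3) (Steps.fwd (nat_lit 2560) (Steps.fwd (nat_lit 1536) (Steps.fwd (nat_lit 512) (Steps.fwd (nat_lit 1024) (Steps.fwd (nat_lit 1536) Steps.nil)))))))))))))))))) (nat_lit 28) (nat_lit 13)]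
noncomputable def R : List (List (Rule)) := [R_0, R_1, R_2]
def LW : List Word := [[], [0], [2], [4], [6], [8], [10], [0], [1], [2], [3], [4], [5], [6], [7], [8], [9]]
def par : Par := ⟨9, 5, 14, 23, 511, 16383, 8388607⟩
theorem hpar : par.ok := by decide
theorem hR0_0 : lall (R) (fun l => lall l (ruleOK rels LW par)) = true := by decide +kernel
theorem hR0 : lall (R) (fun l => lall l (ruleOK rels LW par)) = true := hR0_0
theorem hR : RulesOK rels LW par R := rulesOK_of rfl hR0
def cols : List (ℕ × ℕ) := [(512, 1), (1024, 2), (1536, 3), (2048, 4), (2560, 5), (3072, 6)]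
theorem hcols : lall cols (colOK rels LW par) = true := by decide +kernel
noncomputable def JS0 : List ℕ := [nat_lit 0x2240f22028a2290932388d1100400230048d00c8c04234a028891230408b0088b0522c0c22c148e0308d012340c234088e02c8e0a23c93238348e0288e0223c912382c8e0208e052389927008270992383c8d0188d0323c91238389325c920d248982680e2689824830910249102248942442c9101c9105244062442894000249401c0901c9424400244930824093018080180824c900723c920149223c188e0088e0523402234108d0008d0323804238088d0108d01,
  nat_lit 0xb1310c601cbb31cc42c4a8a200024ae00c13292cc0328270042703003262bc0329494bb008af2403801092600125c8cad0000c22080af2640e2649c04c910009104c9100491270b22f0bb2b0840103001200000c0007c962648e1e254ae2e0b92c49b238748f2548e1c23409234048e0648d0127490008982640123c8e1b234142340897258002389b280a22346895000a52c4b027c9a234649600024a32948c0008c2941d2bcb207826078b108023088202a8951822ca42b8b1074240941d2c01f088b0074b12b81c2908b17228a32b4b007024070b02b4a3228588a040110408a1422c9e22454890300d03089142249a2204c88278162788812,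
  nat_lit 0xa502810028a51431408290e812004a4390b0a428ce0112bcd635005010a828cdca50a4a30109ca428cd8bf000a23500400290b7348bc0c0a234000cf344aa030aa2d8a333338d02d4a22844402000a001284182802ca0058ce368d906816280c8a032ccd0549f3127824278149e324cb05cd635cc9278c09d0e49d0527cb3278389f2c838050d3350ca2c4262c4b40aca9060a90ac2827cbc9e098272a0182a0b3324d3348130dc9f0089f2c426278b89e2c09d1e27435314d13504011c48100d3108451080c044360d49d2d270340400b104441040b04034270b09c03c0a1000a03c9c0f274a0270349c0d09c022749e2702c9c0c89c05278aa27438b400024ba2f00831cc52c8002c8b32b,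
  nat_lit 0x10400d0325414024113d05004fe4e4140026418003ed3471000e44c1dc001652c77000b14a1d5023fcf534ca700c02000a63485637cf53fd003e4f6380b049294d1378f43f9011d0751b4751d075404fe3d0de344a500120a4340d2108d2340a4472903128c28a333cd8134d833ca3472f0172b0a52911801000a3452900428d04a40f43e2a8a34428c3a28d0ca40f4a303290402900ca62d0a513298c829508a6138a6032a00c29d04a836c5b0bc532eca7402a0dc0a4600a4dc2a0fca7134a7032a0cb29c38013083f104043e00033000f4c00f4be0b4be0fc02298f009298a53b,
  nat_lit 0xd000898f40095cf500568f6000cd5932c2709824328f640d1948c1e2601e498922689949923460f5580a0035732c02560940151358022609404091542500d50380102b5334c03260dc035131804315407301544e3018274c3640635c945c01544e9014214c1b405513ec063e93c700154474014c9523b00639538ee014c24b3dc05198a47501144f9010f825128033d9387500944fe008eb50,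
  nat_lit 0x80213a0123a0ea388cc1f080e9384e01138914458e938440e30002512450174511238000380e22b37d1144c1644ca8444df6a37c7337c0d0a010a06900d58e00115ce300da4dc009a00b00465670000b001990245c9d1e42f2982f1d0aa2b4ac1d0790306c3680500c003659402010d91ac6c02c780b8732a4732942e1e00b1ac08024d86435c071a80b4209d03cdf0ecdf1b00e378093780e374d76335807370dd0e0dd1ac0e271070286935c0235c0601cd6623580535428d519d05269294d0a90bd344a0740a87401c081a06735584d419807018730a47301807198d4603540235008d5190d401024653540809190d5053500535010d4010d40bcd41880524cfe0046001cd50c4d5188043517cf9004a00016c005e3ec0234800348022449047d2a0952a4786a080971a8f716974d10048f47929278244a51d1a41f4a1294788f2400134570cf0a42b0b0d00008f4752808d2b25d2b274234a11d0005d5b,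
  nat_lit 0xa40205ca429004194c094000c9dd2d4ed12005124ed2d095d86d0006d4500c0700dd4e7009a4e5005a0000140066430794743e479231fc814949432094304c01f8e438c0038dd0010f4013d0011c485201f87c388e1731dc8949d4e4e11e384e0723811d2ad1d38018df0f8df043891638438e31b8e20338c7d38c0ce547547529243cce471395130d113395c0e51b4e4413907f0d87f391bce31f4e34300011048f5005b810044f6084f63d00038db41d01ce36c05c0138ce41938ce238058ec0942401003398e237134e3388d818000e16b0040038ceb088f0078e134,
  nat_lit 0x5f0000c60d55005158248c00282d4055616436d594c4664c4c9564db59158014042d43f48842814f801284f801285800025201715505900059551714f1fd1200ca03500da11a015a4310155c061fc06439f922014317d1f004560c4025a518060c4951d0182c7c000017b13408438007a46c070ad382601d5d1501c9d410190c780001e01d147945406409301f0195d0f0189c45015067842c04405389c00c37500a40327,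
  nat_lit 0x12a584f23916702167390f25852a924a4b84a42929121294558c484a0e92700d27912b04149908ab0fd6315540dc1cc2e1ccdc542403e534ba004ba5343e8f574005747cb82ccb2568b62f07c1ec01548d6210d6618e8368e52e23800028c3300bd2fcc52fc062f4c030c0a0015120cd5544aa8d540d43e08235184398d8580bc014bc2c8b0560b42e87a8c1dc0830000300081de2d27000a0c02ed5600d550207d2e0155dced2dc092bcad554b0558bb49a294d000a0ce600893315d2f8b955153018b63e0cc600ce208f43394c8947c01284740128544000e9dd4f008b203cb20094f46e211e000a06f2bce55bcf2018c620cfb3e8c6018f22c00029cb42d51d0e61d17004a115004a11800515244600144c914d00033862a5693b0c05d0c21d97430000300f51f4c0544b22b4ab45a1551000a17a0011884,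
  nat_lit 0x40200c0105c1452422389751994b5241405c0100c01a500157385741946819574385570029015048151c4735100450e8d42015420250403504046f5518d455a049895258f52098b634ed551410000300941a2501536318a210882118a63153502853f1b010034101b06e4fe813e5458a4498a5453e9f4f46b4f428004f55e1f189285891f15e4f4009e4f15d3bc903bd5d4f2753b214822153b704e8474e905392113943304950240a0241c4e4019c4e16c44c1f44d6c4e26d37034c7035379a4d8c34d8093505d350100135041625cc935cd6204135002653403c050100503d34984cd3514d354cdc13202932415000a4c50c1204405009683e4fa3ad6e1484d1384d0384d2e0010025d5d3e167005673e15d96570f7598be004005989a4309a3dce93d15a12c4e4c008026552e0042400008006658cf439958018054b44b121573c8f1398f425d0958d2c00402940308731c2431d6a234c8328c93316e3cd624ac010012b93,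
  nat_lit 0x803001490195d39d7a1ad505381907006021490029d485240a528795294952299475200952147065180451815450114504]
theorem S0_c : blocks (facts 9 5 14 23 511 16383 8388607 10 1023 8 255 A R 32) 32 JS0 397 = true := by decide +kernel
theorem S0 : On (Step.{u} rels LW par A) 397 749 :=
  steps_of_blocks hpar hR S0_c (by decide +kernel)
theorem D0_c : allB (defOK 9 14 23 511 8388607 393 A K) 2 2 = true := by decide +kernel
theorem D0 : On (fun r => defOK par.W par.WL par.E par.mW par.mE 393 A K r = true) 256 512 :=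
  On.of_allB D0_c
noncomputable def JW0 : List ℕ := [nat_lit 0x12435c6609993424a6de350621464688cc763732ec5e11c2377668546521171ca51c03b729eda1c6298304611bc8d2476605ab2724e8e2d2e9a44fa9e5bb37a7229f944ba5140901461a875ae89a22675206b1dab5e1788f14b295492ee4bba51534a65b7372776a714f180764ed9bc38a720ef5e5ba45488f5531b6758f3d23a505546f1da3b8774f45563bc568f55232b256cae1e53ce7aef415d1c67b6f51eb2ae578af9ed2c0584b11632c8,
  nat_lit 0x102a2844cd9d152f41fc551b19562a25686b9743a8c7c6e9d241823059a0e6aa63cc59e213417cca32b5a41fd9d8993d82590e35d15a8690f21911c1c9988743cc1ddaca1414884da6216702d69973504c292d04a2c45cda5159981ec614a73122a08d8c18de1a034c6e2326ae43458a106a86693e20319083dc7a7a6fc9e1b136671a9d86b1556eec791d17e41a9612d37b4b8ca9443a36749094519e3e41f9a28783e81e90eb5f13888111217,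
  nat_lit 0x1d2cb06c0e01e03e59ab282104408c120370700d01a8362d52501c42004524cbcd6604e098b3c290501082184408a5b2b502d05c0a81582c2d122c4604810f5b045102087128819a7af22524b0252ce254bd47a1622c055cb215e5a61883005e0c8198c5073158260c618e6b0d6c592123fe8608408d65e22cf28764104644935169c640751662d0c4cb2ad02144319690e3c8440fc9fc160d2cff1fa3f08085334a69a801bf9fd65881d30262]
theorem W0_c : blocks (rows 9 5 14 23 511 16383 8388607 11 2047 66 A 749 63 cols 21) 21 JW0 0 = true := by decide +kernel
theorem W0 : On (Row.{u} rels LW par A 749 63 cols) 0 63 :=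
  rows_of_blocks hpar (by decide) hcols W0_c (by decide +kernel)
theorem idx : Idx.{u} rels [[0], [2], [4], [6], [8], [10]] [[0], [2], [4], [6], [8]] 63 :=
  idx_of_cert hpar hR (K := K) (by decide +kernel) (T := 393) (T' := 512) (by decide) D0
    (subs := [1,2,3,4,5]) (by decide +kernel) (T1 := 397) (by decide) (N := 749) S0
    (by decide) (n' := 63) (by decide) W0 (by decide +kernel) (by decide +kernel)
end T0
theorem b0 : Bound.{u} rels [[0], [2], [4], [6], [8], [10]] 1451520 := .of_idx T0.idx b1 (by decide)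
theorem bound : Bound.{u} rels (sg 6) 1451520 := b0
theorem hrel0_0 : lall (rels) (fun r => C.eqW r []) = true := by decide +kernel
theorem hrel0 : lall (rels) (fun r => C.eqW r []) = true := hrel0_0
theorem hrel : ∀ r ∈ rels, ev C.g r = 1 := CA.H22Link.rels_of hC hrel0
theorem low5 : Low (C.grp (sg 1)) 2 [14] :=
  low_clo hC hlk 14 (by decide) [0] (m := 2) (CA.H22Link.sg_le _ (j := 0) (by decide)) (by decide +kernel) (by decide +kernel) (low_nil C) (by decide)
theorem low4 : Low (C.grp (sg 2)) 6 [9,14] :=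
  low_clo hC hlk 9 (by decide) [2,0] (m := 3) (CA.H22Link.sg_le _ (j := 1) (by decide)) (by decide +kernel) (by decide +kernel) low5 (by decide)
theorem low3 : Low (C.grp (sg 3)) 48 [5,9,14] :=
  low_clo hC hlk 5 (by decide) [4,0,2,4,0,4] (m := 8) (CA.H22Link.sg_le _ (j := 2) (by decide)) (by decide +kernel) (by decide +kernel) low4 (by decide)
theorem low2 : Low (C.grp (sg 4)) 720 [3,5,9,14] :=
  low_clo hC hlk 3 (by decide) [6,4,0,6,2,4,0,4] (m := 15) (CA.H22Link.sg_le _ (j := 3) (by decide)) (by decide +kernel) (by decide +kernel) low3 (by decide)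
theorem low1 : Low (C.grp (sg 5)) 23040 [1,3,5,9,14] :=
  low_clo hC hlk 1 (by decide) [8,4,0,8,2,4,8,0,4,0,6,4,8] (m := 32) (CA.H22Link.sg_le _ (j := 4) (by decide)) (by decide +kernel) (by decide +kernel) low2 (by decide)
theorem low0 : Low (C.grp (sg 6)) 1451520 [0,1,3,5,9,14] :=
  low_clo hC hlk 0 (by decide) [10,6,8,4,10,0,6,8,2,4,0,4,8] (m := 63) (CA.H22Link.sg_le _ (j := 5) (by decide)) (by decide +kernel) (by decide +kernel) low1 (by decide)
theorem cb : Nat.card (C.grp gens) = 1451520 ∧ IsBase (C.grp gens) [0,1,3,5,9,14] := CA.H22Link.card_base bound hrel low0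
theorem card : Nat.card (C.grp gens) = 1451520 := cb.1
theorem all_mem {w : Word} (hw : ∀ a ∈ w, a < 12) : C.ev w ∈ C.grp gens := CA.H22Link.sg_mem _ (k := 6) hw
def V_t0 : Net := [(nat_lit 0x550544555414145415414505414001550011454444145454114505404041, nat_lit 1),
  (nat_lit 0x302332013020111013100031110020112120230312202310301322301200, nat_lit 2),
  (nat_lit 0x10b050c0903000c08060b010a0b090e030c060401010a0408020b030a0a, nat_lit 4),
  (nat_lit 0xb70016002c008500cc003f0049005b00910033002b0053000f0094009e, nat_lit 8),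
  (nat_lit 0x58670000aebd0000f747000097a90000e1020000add80000d8e0, nat_lit 16),
  (nat_lit 0x4c4a0000000053fb9ac2000000009a82cff600000000daf69410, nat_lit 32),
  (nat_lit 0x6b72430500c0000000000000000001a80b2d50468500, nat_lit 64),
  (nat_lit 0x7fb7711f0ee7aa4984cf84f87130, nat_lit 128),
  (nat_lit 0x4370906211400000000000000000a848000000000000, nat_lit 64),
  (nat_lit 0x2a6500000000ebe715df00000000a90ec10a0000000070450000, nat_lit 32),
  (nat_lit 0xcd7000003a670000aab400000b0200001bc90000c04200001802, nat_lit 16),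
  (nat_lit 0x3e006200a2008d0020001500c600f4008b00ed00a1002a002a000b0000, nat_lit 8),
  (nat_lit 0x70f0808010708070f0e0a0f0d02030d060806090b04080c0f0e03020100, nat_lit 4),
  (nat_lit 0x1023012320103302000033301220213210233121012030301320110000, nat_lit 2),
  (nat_lit 0x45445001510545500014500514000401445001111040400044505014000, nat_lit 1)]
def V_t1 : Net := [(nat_lit 0x455144010400504100050405004441444044010110504100050405004441, nat_lit 1),
  (nat_lit 0x212220232110131101222011100203310222010100113323000233302221, nat_lit 2),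
  (nat_lit 0x30d040a000d0d03060507090b04050907000a040706080c020803060b02, nat_lit 4),
  (nat_lit 0x7b004e005d00e30038009300c600780078009d008100110089007e00dc, nat_lit 8),
  (nat_lit 0xb847000065230000664b000063cd00000d600000a072000005f3, nat_lit 16),
  (nat_lit 0xef1000000000f6f902cc000000005811faf900000000f6fe034b, nat_lit 32),
  (nat_lit 0xc80097f200c600000000000000000c31f03803840249, nat_lit 64),
  (nat_lit 0xcfe61cefb056d3306ce4eb126931, nat_lit 128),
  (nat_lit 0x81006109004700000000000000004010000000000000, nat_lit 64),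
  (nat_lit 0x51230000000077e9019700000000091bd8900000000087960000, nat_lit 32),
  (nat_lit 0x206300009d20000092fb0000180c0000e1100000284200000003, nat_lit 16),
  (nat_lit 0x20043006a00c200790003009b003a00e1002100a400100022000e0000, nat_lit 8),
  (nat_lit 0xe0d0a010e0e090101090209050f0004030b00010b03010b0408060000, nat_lit 4),
  (nat_lit 0x21102222220013333101100100022001010000222231111101322122200, nat_lit 2),
  (nat_lit 0x401141001515040005505140150004410041001005040005505140150004, nat_lit 1)]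
def V_t2 : Net := [(nat_lit 0x101150101505505544050011500104104454444054114114500001554114, nat_lit 1),
  (nat_lit 0x221300301330321220301210020131221300300201310311231201121021, nat_lit 2),
  (nat_lit 0xf04020a00040d08060d06050804060b0f060e0b010d0b030e0204090102, nat_lit 4),
  (nat_lit 0x300e900620029007f00330094003400a800ca00e70091006a00880098, nat_lit 8),
  (nat_lit 0x44f0000d8f2000006fd0000a4ef0000c8030000039600008b50, nat_lit 16),
  (nat_lit 0x157b00000000e15a610d00000000026855ee00000000355fe800, nat_lit 32),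
  (nat_lit 0x620c4906000000000000000000088181c6a00140800, nat_lit 64),
  (nat_lit 0xb800ad8b409e0a3a008150440800, nat_lit 128),
  (nat_lit 0x98008044081400000000000000000218000000000000, nat_lit 64),
  (nat_lit 0xde8a000000009ed6a811000000000680046a0000000040500000, nat_lit 32),
  (nat_lit 0x480f0000027c000058930000a8620000061e00000b9600000800, nat_lit 16),
  (nat_lit 0xcb0025004a003100bb0029009e00b800ac004600fa0048007400910000, nat_lit 8),
  (nat_lit 0x50e080208030b010e0a020408040401060c0606010c060a0e0201080000, nat_lit 4),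
  (nat_lit 0x1300300301311220230213031130001300301331320311201202121020, nat_lit 2),
  (nat_lit 0x105050104455515440500014154014100554441104104010050004100004, nat_lit 1)]
def V_t3 : Net := [(nat_lit 0x411014511141110044004410015541411014511141110044004410015541, nat_lit 1),
  (nat_lit 0x132200303133120332203301211231133100100110032233120133322102, nat_lit 2),
  (nat_lit 0x60f070407030900070d0307040a0a06070702020d050b0700000a0c0c07, nat_lit 4),
  (nat_lit 0x880030000b00a4001100a10067002800b700ee00f800c000e6008300be, nat_lit 8),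
  (nat_lit 0xd59c00003d0c00004397000007f200002e03000072f100007af0, nat_lit 16),
  (nat_lit 0x17020000000076475dac00000000b90597f700000000ddd60120, nat_lit 32),
  (nat_lit 0x8012a2d4428400000000000000002a00d25690004720, nat_lit 64),
  (nat_lit 0xe393b7beceecfeff1d282328a000, nat_lit 128),
  (nat_lit 0x1000008046000000000000000000b20d000000000000, nat_lit 64),
  (nat_lit 0xc85e00000000d1d0638c0000000011b894360000000022080000, nat_lit 32),
  (nat_lit 0x16b00000ec5c00003f40000090000000dc78000041a30000e200, nat_lit 16),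
  (nat_lit 0x1200c400a0006700eb007600380095002500080091009800e500020000, nat_lit 8),
  (nat_lit 0x108060208090a0c07040004010d000808020c0c0e03080e0a09070100, nat_lit 4),
  (nat_lit 0x31032102303200032011033023002331131111122002321120200310, nat_lit 2),
  (nat_lit 0x44540044414445511551145540014044540044414445511551145540014, nat_lit 1)]
def V_t4 : Net := [(nat_lit 0x414444445554051540050504014000414544445544041540014504015000, nat_lit 1),
  (nat_lit 0x233020122102201320233113210000033000322102203302233111031022, nat_lit 2),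
  (nat_lit 0xb01010e0408010a060b020a00020009010b0e040801020c0b0208020008, nat_lit 4),
  (nat_lit 0xb100b300220045004c00610013000e0040004500980094007b00800020, nat_lit 8),
  (nat_lit 0x822a00003bc5000007790000043e00008faf0000a1a700002b8e, nat_lit 16),
  (nat_lit 0x21ed000000005d77417900000000b4d33b4f00000000cdb7db24, nat_lit 32),
  (nat_lit 0x20c53d504a52000000000000000090c4088b09920006, nat_lit 64),
  (nat_lit 0x9414a21f6a9ba318266200b09000, nat_lit 128),
  (nat_lit 0x1046a0a2401a00000000000000008000000000000000, nat_lit 64),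
  (nat_lit 0x2ac3000000001df2faf100000000b851280f0000000001320000, nat_lit 32),
  (nat_lit 0x8aa80000114f0000399300000e120000858f000009a100008120, nat_lit 16),
  (nat_lit 0xbb00b30080006f004c00c900190086004a0047009a00be005b00000000, nat_lit 8),
  (nat_lit 0x9010b0e00080102040b02080200080b01010e0008010a040b020a000200, nat_lit 4),
  (nat_lit 0x21000302102203302233111030022221020102102201320232113210000, nat_lit 2),
  (nat_lit 0x414540445554041440054504015000414440445544051440010504014000, nat_lit 1)]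
def V_t5 : Net := [(nat_lit 0x544000105040010144101040010145540000114004054041140155505010, nat_lit 1),
  (nat_lit 0x21232020003022202120113003101131222132213123101311003001000, nat_lit 2),
  (nat_lit 0x404010a050b050c0d06080d030903040700060d0a03010d0c0808020c01, nat_lit 4),
  (nat_lit 0x7a00b800af00d8003e00c30019002d007000e300ab000100ad008c008e, nat_lit 8),
  (nat_lit 0x44770000614b0000db8c0000f8140000283b000031a70000c162, nat_lit 16),
  (nat_lit 0x5cfa000000005f7d0d5d0000000099e177a6000000003e17a082, nat_lit 32),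
  (nat_lit 0x4690897841440000000000000000c0ec750d300a0000, nat_lit 64),
  (nat_lit 0xa814d48557cc090c1c6020020000, nat_lit 128),
  (nat_lit 0xb4001003504400000000000000000904000000000000, nat_lit 64),
  (nat_lit 0xc28c00000000b96aa9400000000084e1440d00000000180a0000, nat_lit 32),
  (nat_lit 0xc0770000d24e0000680b0000441b0000288b0000842b00002082, nat_lit 16),
  (nat_lit 0xf6008e00bc00c9003d00d00013003400d1004200850084000900000000, nat_lit 8),
  (nat_lit 0x20e020c0103030d0c06080c020800060d0204010205010d040808020c00, nat_lit 4),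
  (nat_lit 0x121232120003122202120013003101031222032213023101311103001000, nat_lit 2),
  (nat_lit 0x544000105040050144101140010145540000114004014041140055505010, nat_lit 1)]
def V_t6 : Net := [(nat_lit 0xff00ff00ff00ff00ff00ff00ff00ff00ff00ff00ff00ff00ff00ff00ff, nat_lit 8),
  (nat_lit 0xff000000ff000000ff000000ff00, nat_lit 16),
  (nat_lit 0xff00000000000000ff000000, nat_lit 32),
  (nat_lit 0xff00000000000000, nat_lit 64),
  (nat_lit 0xffffffffffffffffffffffffffff, nat_lit 128),
  (nat_lit 0xff000000000000, nat_lit 64),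
  (nat_lit 0xff00000000000000ff0000, nat_lit 32),
  (nat_lit 0xff000000ff000000ff000000ff, nat_lit 16)]
def V : Ctx := ⟨240, 8, [V_t0, V_t1, V_t2, V_t3, V_t4, V_t5, V_t6]⟩
theorem V_ok : V.ok = true := by decide +kernel
def V_ps : List (Word × ℕ) := [([], 2), ([0,0], 1), ([2,2], 1), ([0,2,0,2,0,2], 1), ([4,4], 0), ([2,4,2,4], 1), ([0,4,0,4,0,4,0,4], 1), ([6,6], 1), ([2,6,2,6], 1), ([4,6,4,6,4,6,4,6], 1), ([0,4,6,4,0,4,6,4,0,4,6,4], 1), ([0,2,0,4,0,2,6,4,0,2,6,4,0,6,4,6,2,0,4,6], 0), ([8,8], 0), ([0,8,0,8], 0), ([2,8,2,8], 0), ([0,2,4,6,4,0,4,8,4,0,2,4,6,4,8,0,4,8,4], 0), ([10,10], 0), ([0,10,0,10], 0), ([2,10,2,10], 0), ([8,10,8,10,8,10], 1), ([6,10,6,10,6,10,6,10], 1), ([4,8,4,8,10,8,4,8,10], 1)]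
theorem V_e_0 : lall (ceq [12] 7 V_ps) (eqP V) = true := by decide +kernel
theorem V_e : lall (ceq [12] 7 V_ps) (eqP V) = true := V_e_0
theorem V_cov : Cov V.g rels (V.ev [12]) 2 := cov_of V_ok V_e 2 2 0 (by decide +kernel) (by decide)
theorem V_w : ev V.g (cw gens [([0], [10], 1)]) = V.ev [12] := Ctx.eq_of_eqW V_ok (v := [12]) (by decide +kernel)
theorem V_st : St (C.grp gens) (Multiplicative (ZMod 2)) :=
  st_cyc bound rfl card.ge hrel V_cov _ (Ctx.eq_of_eqW hC (v := []) (by decide +kernel)) V_w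
def c2_t : List (List (List ℕ)) := [[[6,7],[1,8],[2,4],[3,6],[4,7],[5,7,8],[6,8],[7,8],[8]],
  [[],[6,7,8],[2,5],[3,6,8],[4,7,8],[5,7],[6,8],[7,8],[8]],
  [[],[],[7,8],[3,4,5],[4],[5],[6,7,8],[7],[8]],
  [[],[],[],[7],[4,7,8],[5,7,8],[6,8],[7],[8]],
  [[],[],[],[],[8],[5],[6,8],[7],[8]],
  [[],[],[],[],[],[8],[6,8],[7],[8]],
  [[],[],[],[],[],[],[],[7],[8]],
  [[],[],[],[],[],[],[],[],[8]],
  [[],[],[],[],[],[],[],[],[]]]
noncomputable def c2 : PC := ⟨9, 2, 4, 13, 104, 2, 99, 3, 1023, fun e => nth (nth c2_t [] (Nat.div e 9)) [] (Nat.mod e 9),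
  [(0,[4],[0,1,2,7,8]),
  (0,[2],[0,1,3,6,8]),
  (0,[6],[3,5,7,8]),
  (0,[0,1],[0,1,3,4,6,7]),
  (0,[8],[4,5]),
  (1,[5],[0,3,5,6,8]),
  (1,[3],[1,6]),
  (1,[7],[6,7]),
  (1,[8],[8]),
  (1,[1],[0,4,6,7,8]),
  (1,[6],[7,8]),
  (1,[0],[1,5,7,8]),
  (2,[6],[0,3,6,7,8]),
  (2,[0,3],[5,7]),
  (2,[7],[5,6,7,8]),
  (2,[8],[8]),
  (2,[4],[0,3,4]),
  (0,[7],[4,5,7,8])]⟩
def c2_A0 : List (List ℕ × List ℕ × ℕ) := [([3],[2,1],nat_lit 0x10000000000000000000000000000100040000000000000000000000000400200000000000000000000000000003000000000000000000000000000008004002000000000000000000000000000010000000000000000000c000003000000000000000000000000000000004002000000000000000000000000000000000000000000),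
  ([2],[1,1],nat_lit 0x200000000000000000000000000001000400000000000000000000000004000000000000000000000000000020000010004000000000000000000000000000000000000000000000000000000000000000000000000000004002001000000000000000000000000000000004000000001000000000000000000000000000000000000),
  ([2],[1,0],nat_lit 0x800000000000000000000000000000000000000000000000000000000020000000000000000000000000000100000000060000000000000000000000000000000000000000000000004000000000000000000000000000000000000000006000000000000000000000000020000000000000000),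
  ([2],[0,0],nat_lit 0x200000000000000000000000000000800400000000000000000000000004000000000000000000000000000000000000000000000000000000000100000080000010000000000000000000000000000000000000000000000002001000000000000000000000000000000000000000000000000000000000000000010000008000000),
  ([2],[2,0],nat_lit 0x1800000000000000000000000000000000000000000000000000000000000000000000000000000000000000200100000000030000000000000000000000000000000000000000000000000000000000c00000000000000000000000000000000000000000000100080000000000000008000000),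
  ([5],[2,0],nat_lit 0x30018000006000000000000000000000000000000000000000000000000c006000000000000000000000000000000000000000000000000000000000000000000000000000000000),
  ([2],[2,1],nat_lit 0x180000000000000000000000000000000000000000000000000000000004002000000c000000000000000000000000000000000000000000000000000000000000000000000000000000000000001800000000000000000020010000000000000001000000000000000000000000000000000000),
  ([5],[0,0],nat_lit 0x200000000000000000000000000001000400000000000000000000000000000000000000000000000000000000010008000000000000000000000000000000000000000000000000000000000000000000000000000000000000000000000000000000000000000000000000000000000000000000100080000040000000000000000),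
  ([5],[1,1],nat_lit 0x100000000000000000000000000000800400000000000000000000000000000000000000000000000000000020010008000000000000000000000000000000000000000000000000000000000000000000000000000000000000000000000000000000000000000010000008000000000000000000000000000000000000000000000),
  ([4],[0,0],nat_lit 0x100000000000000000000000000001800400000000000000000000000000000000000000000000000000000000000000000000000000000000000000080040000000000000000000000000000000000000000000000000000000000000000000000000000000000000000000000000000000000000000080000000020000000000000),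
  ([3],[3,1],nat_lit 0x300000000000000000000000000000000000000000000000000000000000004003000000000000000000000000000000000000000000000000000000000000000000000000000000001800000600000000000000000000000000000000000000000000000000000010000000000002000000000000000000000000000000000000000),
  ([3],[3,0],nat_lit 0xc004003000000000000000000000000000000000000000000000000000000000000000000000000000000000000000600000000000000000000000000000000000000000000000000000000000000000000000000000000000080000000000010000000000),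
  ([1],[0,0],nat_lit 0x200000000000000000000000000000800000000000000000000000000000000000000000000000000000000000000000000000000000000000000000000000000000000000000000000000000000000000000000000000000000000000000000000000000000000010008000000000000000000000100000000000000000000004000),
  ([5],[5,0],nat_lit 0x300000000000000000000000000001800c00000000000000000000000000000000000000000000000000000060030000000000000000000000000000000000000000000000000000000000000000000000000000000000000000000000000000000000000000000000000000000000000000000000100000000040000000000000000),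
  ([4],[4,1],nat_lit 0x300000000000000000000000000001800c00000000000000000000000000000000000000000000000000000000000000000000000000000000000300180000000000000000000000000000000000000000000000000000000000000000000000000000000000020000000000004000000000000000000000000000000000000000000),
  ([6],[1,1],nat_lit 0x100000000000000000000000000000000000000000000000000000000004002000000000000000000000000000000000000000000000000000000000000000000000000000000000000000000000000000000000000000000000000000000000000000000000020000010000000000000000000000000000000000000000000000000),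
  ([4],[4,0],nat_lit 0x1000c00000000000000000000000000000000000000000000000000000000000000000000000000000000000000180000000000000000000000000000000000000000000000000000000000000000000000000000000000000000000000000000000000000000100000000000020000000000000),
  ([1],[1,1],nat_lit 0x100000000000000000000000000000800000000000000000000000000000000000000000000000000000000000000000000000000000000000000000000000000000000000000000000000000000000000000000000000000000000000000000000000000000020010008000000000000000000000000000000000000000000000000),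
  ([5],[5,1],nat_lit 0x1000c00000000000000000000000000000000000000000000000000000000030000000000000000000000000000000000000000000000000000000000000000000000000000000000000000000000000000000000000000020000000008000000000000000000000000000000000000000000000),
  ([4],[3,3],nat_lit 0x100000000000000000000000000000800400000000000000000000000000000000000000000000000000000000000000000000000000000000000000080000000000000000000000000800400000000100000000000000000000000000000000000000000000000000000000000000000000000000000000000000000000000000000),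
  ([5],[3,3],nat_lit 0x100000000000000000000000000000800400000000000000000000000000000000000000000000000000000000010000000000000000000000000000000000000000000000000000000800400000200000000000000000000000000000000000000000000000000000000000000000000000000000000000000000000000000000000),
  ([6],[6,2],nat_lit 0x300000000000000000000000000001800c0000000000000000000000000c006000000000000000000000000000000000000000000000000000000000000000000000000000000000000000000000000000000000000000000000002000000000000000000000000000000000000000000000000000000000000000000000000000000),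
  ([6],[0,0],nat_lit 0x100000000000000000000000000000000000000000000000000000000000002000000000000000000000000000000000000000000000000000000000000000000000000000000000000000000000000000000000000000000000000000000000000000000000000000000000000000000000000000100000080000000000000000000),
  ([0],[0,0],nat_lit 0x100000000000000000000000000000800000000000000000000000000000000000000000000000000000000000000000000000000000000000000000000000000000000000000000000000000000000000000000000000000000000000000000000000000000000000000000000000000000000000000080040000000000000000000),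
  ([4],[2,2],nat_lit 0x100080000000000000000000000000000000000000000000000000000000000000000000800000000000000000000000000000000000000000000000000000000000000000000000),
  ([5],[2,2],nat_lit 0x20010000000000000000000000000000000000000000000000000000000000000000000000000000000000000000000001000000000000000000000000000000000000000000000000000000000000000000000000000),
  ([6],[3,3],nat_lit 0x100000000000000000000000000000000000000000000000000000000000002000000000000000000000000000000000000000000000000000000000000000000000000000000000000800000400000000000000000000000000000000000000000000000000000000000000000000000000000000000000000000000000000000000),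
  ([6],[6,0],nat_lit 0x30000000000000000000000000000000000000000000000000000000000c000000000000000000000000000000000000000000000000000000000000000000000000000000000000000000000000000000000000000000000000000000000000000000000000000000000000000000000000000000000000080000000000000000000),
  ([7],[7,0],nat_lit 0x300000000000000000000000000001800000000000000000000000000000000000000000000000000000000000000000000000000000000000000000000000000000000000000000000000000000000000000000000000000000000000000000000000000000000000000000000000000000000000000100000000000000000000000),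
  ([6],[6,1],nat_lit 0x30000000000000000000000000000000000000000000000000000000000c000000000000000000000000000000000000000000000000000000000000000000000000000000000000000000000000000000000000000000000000000000000000000000000000000000010000000000000000000000000000000000000000000000000),
  ([7],[7,1],nat_lit 0x300000000000000000000000000001800000000000000000000000000000000000000000000000000000000000000000000000000000000000000000000000000000000000000000000000000000000000000000000000000000000000000000000000000000000020000000000000000000000000000000000000000000000000000),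
  ([6],[6,3],nat_lit 0x30000000000000000000000000000000000000000000000000000000000c000000000000000000000000000000000000000000000000000000000000000000000000000000000000000000000400000000000000000000000000000000000000000000000000000000000000000000000000000000000000000000000000000000000),
  ([6],[6,4],nat_lit 0x30000000000000000000000000000000000000000000000000000000000c000000000000000000000000000000000000000000000000000000000000000080000000000000000000000000000000000000000000000000000000000000000000000000000000000000000000000000000000000000000000000000000000000000000),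
  ([6],[6,5],nat_lit 0x30000000000000000000000000000000000000000000000000000000000c000000000000000000000000000000000010000000000000000000000000000000000000000000000000000000000000000000000000000000000000000000000000000000000000000000000000000000000000000000000000000000000000000000000),
  ([2],[2,2],nat_lit 0x4002000000000000000000000000000000000000000000000000000000000000000000000000000000000),
  ([4],[4,2],nat_lit 0x4000000000000800000000000000000000000000000000000000000000000000000000000000000000000),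
  ([5],[5,2],nat_lit 0x4000000001000000000000000000000000000000000000000000000000000000000000000000000000000),
  ([8],[3,3],nat_lit 0x1800000000000000000000000000000000000000000000000000000000000000000000000000000000000000000000000000000000000000000001000000000000000000000000000000000000000000000000000000000000000000000000000000000000000000000000000000000000000000),
  ([5],[4,4],nat_lit 0x20000000000000000000000000000000000000040000000000000000000000000000000000000000000000000000000000000000000000000000000000000000000000000000000000000000000000000000000000000),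
  ([8],[8,0],nat_lit 0x200000000000000000000000000),
  ([8],[8,1],nat_lit 0x40000000000000000000000000000000000000000000000000000000),
  ([7],[7,2],nat_lit 0x4000000000000000000000000000000000000000000000000000000000000000000000000000000000),
  ([8],[8,2],nat_lit 0x8000000000000000000000000000000000000000000000000000000000000000000000000000000000000),
  ([8],[8,3],nat_lit 0x1000000000000000000000000000000000000000000000000000000000000000000000000000000000000000000000000000000000000000000),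
  ([7],[7,4],nat_lit 0x100000000000000000000000000000000000000000000000000000000000000000000000000000000000000000000000000000000000000000000000000000000000000000000),
  ([7],[7,5],nat_lit 0x20000000000000000000000000000000000000000000000000000000000000000000000000000000000000000000000000000000000000000000000000000000000000000000000000000000000000000000000000),
  ([3],[3,3],nat_lit 0x400000000000000000000000000000000000000000000000000000000000000000000000000000000000000000000000000000000000000),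
  ([4],[4,4],nat_lit 0x100000000000000000000000000000000000000000000000000000000000000000000000000000000000000000000000000000000000000000000000000000000000000000000000),
  ([5],[5,5],nat_lit 0x20000000000000000000000000000000000000000000000000000000000000000000000000000000000000000000000000000000000000000000000000000000000000000000000000000000000000000000000000000),
  ([7],[6,6],nat_lit 0x4000000000000000000000000000000000000000000000000000000000000000000000000000000000000000000000000000000000000000000000000000000000000000000000000000000000000000000000000000000000000000000000000000000),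
  ([8],[6,6],nat_lit 0x8000000000000000000000000000000000000000000000000000000000000000000000000000000000000000000000000000000000000000000000000000000000000000000000000000000000000000000000000000000000000000000000000000000000),
  ([8],[7,7],nat_lit 0x1000000000000000000000000000000000000000000000000000000000000000000000000000000000000000000000000000000000000000000000000000000000000000000000000000000000000000000000000000000000000000000000000000000000000000000000000000000000000000)]
theorem c2_hA0 : lall c2_A0 c2.relA = true := by decide +kernel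
def c2_B0 : List (ℕ × List ℕ × List ℕ × ℕ) := [(0,[0,1],[1,0],nat_lit 0x20000000000000000000000000000100080000000000000000000000000000600100000000000000000000006003001800000000000000000000030000008006000000000000000000100080040030018000000000000000c00400300000040020000000000006000000000000600100180000000000018004000000000800c000000),
  (0,[2,3],[3,2],nat_lit 0x300000000000000000000000000000000c0000000000000000000000000400400300000000000000000000006000001800000000000000000000000000000006000000000000000000180000020030008000000000000000000000000000000000000000000002000000000c000003000000000000300180040060000018000000000),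
  (0,[0,0],[4],nat_lit 0x200000000000040000000000000000000000000000000180000000000000000000000000000c006003000000000000000000000060030018000000000000000000000200180080060010000000000000000000000000000000000000000000008004002001800c00000300000000060020010000006000001800c0000030018000000000000000c006003),
  (0,[2,0],[0,2,4],nat_lit 0x2000000000000000100000000000000000000000000001800c0000000000000000000000000000600300000000000000000000000001001000000000000000000000000000004002000000000000000000080040000000000000000000000000c00600000180000060000000000000000001800c000003000000000000300180000060000018000000000),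
  (1,[5,6],[6,5,7,8],nat_lit 0x2001000000000000000000000000010000000000000000000000000000080000000000000000000000000000800400000000000000000000000000000000000000000000000000000000000000000000000000000000000000000020010000000000000000000000000000000000000000000000006000001800c000003000000000000000000040000000000000002000),
  (1,[6,9],[9,6,10,8],nat_lit 0x8000002000000000000000000000000000010000000000000000000000000000180040000000000000000000000000c0020000000000000000000000000000000000000000000000000000000000000c00000000000000000000000000000000000000000000000000000000000000000000000000000000200100080000020010000000000000000000c0000000000000006000),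
  (1,[6,11],[11,6,10],nat_lit 0x8000000000000000000000000000000000010000000000000000000000000000080040000000000000000000000000c000000000000000000000000000020000008000000000000000000000000000000000000000000000000000000000000000000000000000000000000000000000000000000000000020010018004000000000000000000000000000000000008000000000),
  (2,[12,13],[13,12],nat_lit 0x200000000000000000000000000000800400000000000000000000000004002000000000000000000000000060030018000000000000000000000000000000000000000000000000000800000200100000000000000000000000000000000000000000000000000000000000000000000000000000000080040020000000000000000),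
  (2,[14,13],[13,14,15],nat_lit 0x1000000000000000000000000000000000000000000000000000000000000000000000000000000000800000000000000000000000000000002000000000000000000000000060000018000000000000000000000000000000000000000000000000000800400000000000000000000000000000000000000000000000000000000000000000000000000000000000000080000000000000000000000),
  (0,[4,2],[2,4],nat_lit 0x300000000000000000000000000001800c00000000000000000000000004000000000000000000000000000000000000000000000000000000000100080000020000000000000000000000000000300180000000000000000000000000000000000000000000000000000000000000000000000000000000000000000000000000000),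
  (2,[16,13],[13,16,15],nat_lit 0x1000000000000000000000000000000000000000000000000000200000000000000000000000000001000800000000000000000000000000000000000000000000000000000000000000000000000000000000000100080000020000000000000000000000400000100080000000000000000000000000000000000000000000000000000000000000000000000000000080000020010000000000000),
  (2,[13,13],[15],nat_lit 0x100000080000000000000000000000000000000000000000000000000000000000000000000000000180000000000000000000000000000400200100000000000000000000000003000000c000000000000000000000000000000000000000000000000800800200000000040000000000000000000000000000000000000000000000000000000000000000000000000000000000000008000000001),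
  (0,[2,2],[],nat_lit 0x100000000020000000000000000000000000000080080000000000000000000000000000000100000000000000000000000002000000c000000000000000000000000000000000000000000000001800c000003000000c0000000000000000000000000000000000000000000000000000000000000000000000000000000000000000000000000),
  (1,[10,11],[11,10,8],nat_lit 0x20000000000000000000000000000000000000000000000000000000000800000000000000000000000000000000000000000000000000000000000030000000000000000000000000000000000000000000000000000000000000000000000000000000000000000000000000000000000000000060030000000000000000000000000000000040000000000000000000),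
  (0,[17,17],[],nat_lit 0x800000000000000000000000000000000000000000000000000000000020000000000000000000000000000080000000000000000000000000000000000000000000000000000000006003000000c000000000000000000300180000060030000000000000000000000000000000000000000000000000000000000000000000000000000000000000000000000000000000000000000000000000000000000),
  (2,[14,14],[],nat_lit 0x100000000000000000000000000000000000000000000000020000000000000000000000000000180000000000000000000000000000800600300000000000000000000006003001800c000000000000000000000000000000000000000000000000000000000000000000000000000000000000000000000000000000000000000000000000000000000000000000000000000000000000000000),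
  (1,[10,6],[6,10,8],nat_lit 0x20000000000000000000000000000000000000000000000000000000000000000000000000000000000000000006000000000000000000000000000000000000000000000000000000000000000000000000000000000000000000200000000000000000000000000000000000000000000000000060030000000000000000000000000000000000000000000000000000),
  (1,[6,6],[7],nat_lit 0x1001000000000000000000000030000000000000000000000000000000000000000000000000000000000c004003000000000000000000000000000000000000000000000000000000000000000000000000000000000000000000000000040000000000000000000000000000000000000000000000018000000000000000c00000000000000000000000000000000),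
  (0,[4,4],[],nat_lit 0x400000000000000000000000000000000000000000000000000000000000000000000000000000000000000000000000000000004000000000c000000000000000000000000000060030000000000000000000000000000000000000000000000000000000000000000000000000000000000000000000000000000000000000000000000000000000000),
  (1,[10,10],[],nat_lit 0x100000000000000000000000000000000000300000000000000000000000000001800c00000000000000000000000000000001000000000000000000000000000000000000000000000000000000000000000000000000000000000000000000000000000000000000000000000000000000000000000000000000000000000000000000000000000000000000000000000000000),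
  (1,[7,7],[],nat_lit 0x20000000000000000000000000000000000000000000000000000000000000000000000000000000000000006003000000000000000000000000000000000000000000000000000000000000000000000000000000000000000000000000000000000000000000000000000000000000000000000000000000000000000000000000000000000000000000000000000),
  (1,[8,8],[],nat_lit 0x40000000000000000000000000000000000000000000000000000000000000000000000000000000000000000000000000000000000000000000000000000000000000000000000000000000000000000000000000000000000000000000000000000000000000000000000000000000000000000000000000000000000000000000000000000000000000000000000000),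
  (2,[15,15],[],nat_lit 0x2000000000000000000000000000000000000000000000000000000000000000000000000000000000000000000000000000000000000000000000000000000000000000000000000000000000000000000000000000000000000000000000000000000000000000000000000000000000000000000000000000000000000000000000000000000000000000000000000000000000000000000000000)]
theorem c2_hB0 : lall c2_B0 c2.relB = true := by decide +kernel
theorem c2_lin : Lin c2 (2 ^ 1) :=
  ⟨by decide +kernel, c2_A0, c2_B0, _,
  [nat_lit 0x400000000080000000000000000000000000800000000000000000000000000000000000000000000000000000000000000000000000000000000000000000000000000000000000000000000000000000000000000000000000000000000000000000000000000040000000000000000000000000000000000000000000000000000000000000000000000000000000000000000000000000,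
  nat_lit 0x4000000000000000000000000000000000008000000000000800000000000000000000000000000000000000000000000000000000000000000000000000000000000000000000000000000000000000000000000000000000000000000000000000000000000000000000000000040000000000000000000000000000000000000000000000000000000000000000000000000000000000000000004000000,
  nat_lit 0x800400000000000000000000008000000000000000000200000000000000000000000000000000000000000000000000000000000000000000000000000000000000000000000000000000000000000000000000000000000000000000000000000000000000000000000000000000000000000000000000000000000000000000000000000000000000000000000000000000000000004000000,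
  nat_lit 0x800000000000000000000000000000000000000800000000000000000000000000000000000000000000000000000000000000000000000000000000000000000000000000000000000000000000000000000000000000000000000000000000000000000000000000040000000000000000000000000000000000000000000000000000000000000000000000000000000000000000000000000,
  nat_lit 0x4000000,
  nat_lit 0x100000000000008000000001000000000200000100000000000000000000000000000000000000000000000000000000000000000000000000000000000000000000000000000000000000000000000000000000000000000000000000000000000000000000000000004000000000000000000000000000000000000000000000000000000000000000000000000000000000000000000c000000,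
  nat_lit 0x10000000000000000000000000000000000000000000000000000000000000000000000000000000000000000000000000000000000000000000000000000000000000000000000000000000000000000000000000000000000000000000000000000000000000000000000000000000000000000000000000000000000000000000000000000000000000000000000,
  nat_lit 0x10000000000000000000000000000000000000010000000000000000000000000000000000000000000000000000000000000000000000000000000000000000000000000000000000000000000000000000000000000000000000000000000000000000000000000000c0000000000000000000000000000000000000000000000000000000000000000000000000000000000000000000000000,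
  nat_lit 0x1000000000000080000000010000000000000001000000000000000000000000000000000000000000000000000000000000000000000000000000000000000000000000000000000000000000000000000000000000000000000000000000000000000000000000000040000000000000000000000000000000000000000000000000000000000000000000000000000000000000000000000000],
  [(nat_lit 0x40000000000000006000,2,nat_lit 0xc0902ccb028000)],
  [[nat_lit 0xf3b05540000000006410c2efc5840bd9a68,nat_lit 0x4f3cf61628000000028104a4b47de7f0a1db,0,nat_lit 0x800003740000000001c000bdba9b63729242,nat_lit 0x87246fd03000000006420028cbe460f1b24b,nat_lit 0xc020d7160800000000820c8ba2b79697a9d2,nat_lit 0x4f3cf61628000000028104a4b47de7f0a1da,nat_lit 0x4f3cf61628000000028108a5b47de7f0a1da,nat_lit 0x109a703000000001c30cfcbaeb193f90e1],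
  [nat_lit 0x90dc4de4300000000303049d3c72b0f0b1e7,nat_lit 0x8b0c4d1524000000000000cc971ba978dd74,nat_lit 0x73c13e830000000000100cf730c9ec50a2a,nat_lit 0xc000f7b62800000003c00019a2eb38b733b2,nat_lit 0x4f04e7d218000000050004f2e6875bb4a1fb,nat_lit 0x4f1cd6b60800000000030c0d948fdddd8158,nat_lit 0x4f2cc4e63800000001c20477346d22ca3bbb,nat_lit 0x3012d01000000003410cdaa0f2df1d9ae1],
  [nat_lit 0xbf11e0eb4c00000000030807a5e686380129,nat_lit 0x4f2cd5e72800000003820c51a761b447e165,nat_lit 0x442099d21800000003c20c1eb8350dae2c15,nat_lit 0x841089a00000000002c300ae2d091b79687e,nat_lit 0x843000b42000000003c10c91b7986e07b80c,nat_lit 0x8008aa0200000000140083a30b11c80aa28,nat_lit 0x8008aa0200000000380081a10933480aa28],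
  [0,nat_lit 0xcc007e46380000000180083f9267338909b1,nat_lit 0x44107c1628000000028304a74f9ad7fb81fa,nat_lit 0xcb1c6e46180000000143007231905e473313,nat_lit 0x8820aa00200000000202042cd9ccf14f28a0,nat_lit 0x80309ad03000000001c104704a21cadab8c3],
  [nat_lit 0xb0c7f142000000002000c6bac0ab16313a4,nat_lit 0x880022a02000000002c0082c202a0a08182a,nat_lit 0x4f2c6ce63800000001c208f90e92def51139,nat_lit 0x880022a0200000000000040a909786020228,nat_lit 0x280042e9097840a0a02],
  [nat_lit 0xc3247d3c2000000007c20455941185eb03ae,nat_lit 0xcf1cd6b608000000028300a30e0eab5989fa,nat_lit 0x820aa000000000000020c8480686aaa2a08,nat_lit 0x8000000000000000028004a6ba53f68008a2],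
  [nat_lit 0x842032781000000003c200d9ddf75c1fb8c9,nat_lit 0x1032703000000001c3047a60427937ba61,nat_lit 0x2088a020000000028200245a986e280a00],
  [nat_lit 0x8038b8d01000000006c100ee926929179863,nat_lit 0x2088a02000000002820c241a2942220a02],
  [nat_lit 0x8828aa280000000005020836083af60a228a]],
  c2_hA0, c2_hB0, rfl, by decide +kernel, by decide +kernel, by decide +kernel, by decide +kernel⟩
def c2_x : List Word := [[2,4,0,6,4,6,8,10,8,4,0,4,8,2,0,4,6,2],
  [4,6,8,10,6,8,10,6,8,4,0,4,8,2,4,0,4,6,4,0,4,2],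
  [4,0,4,6,8,10,4,8,2,0,6,4,6,4,0,2,4,0,4],
  [0,6,4,6,10,0,8,4,0,8,4,8,0,6,4,6,4,0,2,4,0,4,2,0],
  [2,4,0,4,6,10,0,4,8,2,4,0,6,4,6,2],
  [6,10,6,8,10,0,8,4,0,8,4,8,4,0,6,4,6],
  [0,4,10,6,8,10,2,0,8,4,8,2,0,4,2,0],
  [8,4,10,6,10,8,4,0,8,4,8,4],
  [2,0,4,6,8,10,2,0,4,8,6,0,4,0,2,0],
  [0,6,4,10,6,8,10,8,4,0,8,4,8,2,0,4,6,4,0,4,0,2,0],
  [4,0,4,6,8,10,8,4,8,4,6,2,0,4],
  [6,4,0,4,10,6,10,2,0,4,6,0,2,0]]
theorem c2_r0 : ∀ i < 9, c2.rowOK (chkW lk [0,1,3,5,9,14] c2_x) (0 + i) = true := by decide +kernel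
theorem c2_r : ∀ i < c2.K, c2.rowOK (chkW lk [0,1,3,5,9,14] c2_x) i = true := of_zero (P := fun i => c2.rowOK (chkW lk [0,1,3,5,9,14] c2_x) i = true) (n := 9) (c2_r0)
theorem c2_f : lall c2.F (c2.fusOK (chkW lk [0,1,3,5,9,14] c2_x)) = true := by decide +kernel
theorem c2_low : c2.l ^ c2.K ≤ lowB C [(0, [0,2,4,6,16], [[0,2,6,8,14], [6,8,16], [0,2,12], [2,8,10,12]]),
  (1, [2,4,6], [[0]]),
  (3, [0], [])] (c2_x.take c2.K) := by decide +kernel
theorem c2_grp : Grp c2 (C.grp gens) :=
  grp_of_ctx hC hlk (cb.2) (ws := c2_x) (fun w h => all_mem ((by decide +kernel : ∀ w ∈ c2_x, ∀ a ∈ w, a < 12) w h)) card (by decide) _ c2_r c2_f (by decide +kernel) c2_low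
def c3_t : List (List (List ℕ)) := [[[3,3],[1,2],[2,3],[3]],
  [[],[3,3],[2,3,3],[3]],
  [[],[],[],[3]],
  [[],[],[],[]]]
noncomputable def c3 : PC := ⟨4, 3, 3, 10, 47, 2, 23, 3, 255, fun e => nth (nth c3_t [] (Nat.div e 4)) [] (Nat.mod e 4),
  [(0,[1],[0,0,2]),
  (0,[3],[3,3]),
  (0,[2],[2,2]),
  (1,[1],[0,2,3]),
  (1,[3],[3]),
  (1,[2],[2,2]),
  (1,[0],[1,2,2])]⟩
def c3_A0 : List (List ℕ × List ℕ × ℕ) := [([1],[0,0,0],nat_lit 0x40000000004010000000800000000040000000),
  ([2,2],[2,0],nat_lit 0x80000000000000000000000000000000000000),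
  ([3],[1,0],nat_lit 0x8000000000000000000000000000),
  ([0],[0,0,0],nat_lit 0x80000000),
  ([1],[1,1,1],nat_lit 0x800000000000000000)]
theorem c3_hA0 : lall c3_A0 c3.relA = true := by decide +kernel
def c3_B0 : List (ℕ × List ℕ × List ℕ × ℕ) := [(0,[0,0,0],[1,1],nat_lit 0x8000040000000008020000000000004000080000001),
  (0,[2,0],[0,2,1,1],nat_lit 0x8000000000000000000000000001000000040200000),
  (1,[3,3,3],[4,4],nat_lit 0x200000000000040000000004020000000000004000080000002),
  (1,[5,3],[3,5,4,4],nat_lit 0x200000000000000000000008000000000001000000000100000),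
  (1,[5,6],[6,5,4],nat_lit 0x100000000000080000000008000000000001000000000100000)]
theorem c3_hB0 : lall c3_B0 c3.relB = true := by decide +kernel
theorem c3_lin : Lin c3 (3 ^ 0) :=
  ⟨by decide +kernel, c3_A0, c3_B0, _,
  [0,
  0,
  nat_lit 0x400,
  nat_lit 0x4000000000000000000000000000000000000000000],
  [],
  [[nat_lit 0x923d,0,nat_lit 0xd305,27],
  [nat_lit 0xbd50,nat_lit 0xd011,81],
  [161,9],
  [3]],
  c3_hA0, c3_hB0, rfl, by decide +kernel, by decide +kernel, by decide +kernel, by decide +kernel⟩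
def c3_x : List Word := [[0,8,4,10,6,10,8,4,0,2,4,0,4,8,0,6,4,6,2,4,0,4,0],
  [10,6,8,10,6,8,4,0,4,8,2,4,0,6,4,6],
  [2,0,4,10,6,10,8,4,0,4,8,0,2,4,0,4],
  [6,10,0,2,4,0,4,8,2,4,0,4,6,0,2,0],
  [4,0,2,4,0,4,6,8,10,0,2,4,0,4,8,6,4,0,2,4,0,4,0,2],
  [8,4,10,6,10,8,4,0,8,4,8,0,4,0,6,4,6,2,4,0,4,2]]
theorem c3_r0 : ∀ i < 4, c3.rowOK (chkW lk [0,1,3,5,9,14] c3_x) (0 + i) = true := by decide +kernel
theorem c3_r : ∀ i < c3.K, c3.rowOK (chkW lk [0,1,3,5,9,14] c3_x) i = true := of_zero (P := fun i => c3.rowOK (chkW lk [0,1,3,5,9,14] c3_x) i = true) (n := 4) (c3_r0)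
theorem c3_f : lall c3.F (c3.fusOK (chkW lk [0,1,3,5,9,14] c3_x)) = true := by decide +kernel
theorem c3_low : c3.l ^ c3.K ≤ lowB C [(0, [0,2,4,6,0,4], [[0,0,2,2]]),
  (1, [0,0], [])] (c3_x.take c3.K) := by decide +kernel
theorem c3_grp : Grp c3 (C.grp gens) :=
  grp_of_ctx hC hlk (cb.2) (ws := c3_x) (fun w h => all_mem ((by decide +kernel : ∀ w ∈ c3_x, ∀ a ∈ w, a < 12) w h)) card (by decide) _ c3_r c3_f (by decide +kernel) c3_low
section
open CA.CMat CA.CLink CA.CLink2 CA.CLink3 CA.H28Mat Matrix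
def ms : List (Mat × Mat) := [([[1,0,0,0,0,0],[0,1,0,0,0,0],[0,0,1,0,0,1],[0,0,0,1,0,0],[0,0,0,0,1,0],[0,0,0,0,0,1]], [[1,0,0,0,0,0],[0,1,0,0,0,0],[0,0,1,0,0,1],[0,0,0,1,0,0],[0,0,0,0,1,0],[0,0,0,0,0,1]]),
  ([[1,0,0,0,0,0],[0,1,0,0,0,0],[0,0,0,0,0,1],[0,0,0,1,0,0],[0,0,0,0,1,0],[0,0,1,0,0,0]], [[1,0,0,0,0,0],[0,1,0,0,0,0],[0,0,0,0,0,1],[0,0,0,1,0,0],[0,0,0,0,1,0],[0,0,1,0,0,0]]),
  ([[1,0,0,0,0,0],[0,1,1,0,0,1],[0,0,1,0,1,0],[0,0,0,1,0,0],[0,0,0,0,1,0],[0,0,0,0,1,1]], [[1,0,0,0,0,0],[0,1,1,0,0,1],[0,0,1,0,1,0],[0,0,0,1,0,0],[0,0,0,0,1,0],[0,0,0,0,1,1]]),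
  ([[1,0,0,0,0,0],[0,1,0,0,0,0],[0,0,1,0,0,0],[0,0,0,1,0,0],[0,1,0,0,1,0],[0,0,0,0,0,1]], [[1,0,0,0,0,0],[0,1,0,0,0,0],[0,0,1,0,0,0],[0,0,0,1,0,0],[0,1,0,0,1,0],[0,0,0,0,0,1]]),
  ([[1,1,0,0,0,0],[0,1,0,0,0,0],[0,0,1,0,0,0],[0,0,0,1,0,0],[0,0,0,1,1,0],[0,0,0,0,0,1]], [[1,1,0,0,0,0],[0,1,0,0,0,0],[0,0,1,0,0,0],[0,0,0,1,0,0],[0,0,0,1,1,0],[0,0,0,0,0,1]]),
  ([[1,0,0,0,0,0],[1,1,0,0,0,0],[0,0,1,0,0,0],[0,0,0,1,1,0],[0,0,0,0,1,0],[0,0,0,0,0,1]], [[1,0,0,0,0,0],[1,1,0,0,0,0],[0,0,1,0,0,0],[0,0,0,1,1,0],[0,0,0,0,1,0],[0,0,0,0,0,1]])]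
def L : CA.H22Link.Lk := ⟨ms, [[nat_lit 0x6d35598bd0e9cd3],
 [nat_lit 0xa1f0d7b5bb424f8],
 [nat_lit 0x60a5d37cdf3e7200],
 [nat_lit 0x703f01f87c7bbe],
 [nat_lit 0x10a84d537efffa0],
 [nat_lit 0x3fffbdd174684000]],
  [8,36,54,51,48,30], 19, [[1,1,0,0,0,1],[0,1,1,1,0,1],[1,0,0,1,0,1],[1,1,0,0,1,0],[0,1,0,0,1,0],[0,0,1,0,1,1]], [1,1,1,1,1,1], [0,4,8,10,6,8,4,2,0,4,8,10], [[4,10,6,10,0,11,7,11,5], [4,10,6,10,2,11,7,11,5], [4,10,6,10,4,11,7,11,5], [4,10,6,10,6,11,7,11,5], [4,10,6,10,8,11,7,11,5]]⟩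
theorem hL : L.ok (arP 2) 6 C 6 [0,1,3,5,9,14] = true := by decide +kernel
theorem hact : allR 6 (actI (arP 2) 6 C L.SL (full C.n) (nz (arP 2)) (lets L.ms) (sg 6)) = true := by decide +kernel
def J : Mat := [[0,0,0,1,0,0],[0,0,0,0,1,0],[0,0,0,0,0,1],[1,0,0,0,0,0],[0,1,0,0,0,0],[0,0,1,0,0,0]]
theorem iso {F : Type*} [Field F] [Fintype F] (hF : Fintype.card F = 2) : Nonempty (C.grp gens ≃* PSp 3 F) := by
  have hA := (soundF Nat.prime_two hF).1
  haveI : CharP F 2 := charP_of (k := 1) Nat.prime_two hF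
  let e : Fin 3 ⊕ Fin 3 ≃ Fin 6 := finSumFinEquiv
  have hJ : mval (fun a : ℕ => (a : F)) e J = Matrix.J (Fin 3) F := by
    ext i j
    rcases i with i | i <;> rcases j with j | j <;> fin_cases i <;> fin_cases j <;>
      simp [Matrix.J, CharTwo.neg_eq] <;> first | exact hA.zero | exact hA.one
  refine CA.H22Link.iso_quot _ e hA Subtype.val_injective hC hL hact (CA.H22Link.in_Sp hA e hJ (by decide +kernel)) (by decide) cb ?_
  have h := Subgroup.card_eq_card_quotient_mul_card_subgroup (Subgroup.center (symplecticGroup (Fin 3) F))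
  rw [Cfsg.Agent.S0245.result hF 3, Cfsg.Agent.S0246.result hF 3 (by decide)] at h
  exact (mul_one _).symm.trans (h.symm.trans (by decide))
end
end

/-- Exceptional Schur multiplier: over the field with 2 elements, PSp₆ has Schur multiplier cyclic of order 2 (here the Schur multiplier is described through stem extensions, as in the definitions). -/
theorem result {F : Type*} [Field F] [Fintype F] (hF : Fintype.card F = 2) : Cfsg.HasCyclicSchurMultiplier (Cfsg.PSp 3 F) 2 := by
  obtain ⟨e⟩ := iso hF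
  exact congr_left (V_st.cyc (bd_all card [2, 3] [5, 7] (by decide +kernel) (by norm_num)
    (bd2 (bd_of c2_lin c2_grp) (bd_of c3_lin c3_grp)))) e

end Cfsg.Agent.S2093
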