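import Cfsg.Agent.Lib.Grp.SchurLow
import Cfsg.Agent.Lib.Spor.H22Link
import Cfsg.Agent.S0293
-- Template for statement S2098 (row 2098; see /opt/grader/pristine/manifest.json for weights).
-- Copy to Cfsg/Agent/S2098.lean and replace the sorry. The statement below is byte-identical to the frozen
-- statement Cfsg.CfsgFrozen.S2098 (Cfsg/Statements/S2098.lean; the theorem Cfsg.kfact_multiplier_pomega_plus_eight_two);
-- the grader kernel-checks Cfsg.Agent.S2098.result against that frozen type. Keep the theorem IN THIS FILE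
-- (a `result` declared elsewhere and merely imported here is not credited); helpers may live anywhere
-- under Cfsg/Agent/.
import Cfsg.Statements.S2098
-- import your own Cfsg.Agent.* helpers here

set_option autoImplicit false
open Cfsg

set_option autoImplicit false
set_option maxRecDepth 100000

namespace Cfsg.Agent.S2098
open Cfsg CA.SchurHopf CA.SchurPc CA.SchurCG CA.SchurLow CA.CWord CA.CNet CA.CLevel CA.CSimple CA.CPoint CA.CTodd CA.CLow
universe u
noncomputable section
def t0 : Net := [(nat_lit 0x444150410505144511551410440, nat_lit 1),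
  (nat_lit 0x221321231022321311200221112000, nat_lit 2),
  (nat_lit 0x10e0f00000202000b020a0c020300, nat_lit 4),
  (nat_lit 0x660041008a00e800420096008c, nat_lit 8),
  (nat_lit 0xc2000088130000d1900000d204, nat_lit 16),
  (nat_lit 0xdb40b5000000001b905220, nat_lit 32),
  (nat_lit 0xb2e4702a41800c, nat_lit 64),
  (nat_lit 0x6300340000000002000000, nat_lit 32),
  (nat_lit 0x4c0000c2330000478000004000, nat_lit 16),
  (nat_lit 0x260048001000ca00720006008c, nat_lit 8),
  (nat_lit 0x5080708080a080005010a00020200, nat_lit 4),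
  (nat_lit 0x221321012022321332100011302000, nat_lit 2),
  (nat_lit 0x10545150000105545100541110440, nat_lit 1)]
def t1 : Net := [(nat_lit 0x154001555044104554440404000000, nat_lit 1),
  (nat_lit 0x31123002202333112233202000000, nat_lit 2),
  (nat_lit 0x408020b050404070a090d03000000, nat_lit 4),
  (nat_lit 0x23004100890050008800610084, nat_lit 8),
  (nat_lit 0x3f0000ae2300003c1600001940, nat_lit 16),
  (nat_lit 0x50b82d000000006b338000, nat_lit 32),
  (nat_lit 0x888b19ce84b1a4, nat_lit 64),
  (nat_lit 0x382d000000004a000000, nat_lit 32),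
  (nat_lit 0xb4000086010000003200001100, nat_lit 16),
  (nat_lit 0x2300410089007000a800410084, nat_lit 8),
  (nat_lit 0xc080a030504000702090503000000, nat_lit 4),
  (nat_lit 0x31123002202333112233202000000, nat_lit 2),
  (nat_lit 0x154001555044104554440404000000, nat_lit 1)]
def t2 : Net := [(nat_lit 0x150054041414454045004551000000, nat_lit 1),
  (nat_lit 0x130020200331011211012322200000, nat_lit 2),
  (nat_lit 0xd0e0602080b00000a000008080000, nat_lit 4),
  (nat_lit 0x27000100c80085005c00810010, nat_lit 8),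
  (nat_lit 0x800000dc9200009c260000e100, nat_lit 16),
  (nat_lit 0x936066000000000712c8c0, nat_lit 32),
  (nat_lit 0x896d561a24c040, nat_lit 64),
  (nat_lit 0x9a8060000000002000000, nat_lit 32),
  (nat_lit 0x80000905a00008c060000c900, nat_lit 16),
  (nat_lit 0x2500410088000d001400080000, nat_lit 8),
  (nat_lit 0x1060e0a0003000802000000000000, nat_lit 4),
  (nat_lit 0x130020200331011211012322200000, nat_lit 2),
  (nat_lit 0x150054041414454045004551000000, nat_lit 1)]
def t3 : Net := [(nat_lit 0x150040445055515505010401000400, nat_lit 1),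
  (nat_lit 0x300330302302331001212120000100, nat_lit 2),
  (nat_lit 0x9000f0a0407010704080100030000, nat_lit 4),
  (nat_lit 0xe700f3009e0060008000920030, nat_lit 8),
  (nat_lit 0xf00009db30000c0a10000a420, nat_lit 16),
  (nat_lit 0x1316c3000000006b001e10, nat_lit 32),
  (nat_lit 0x40c65ef2a7f688, nat_lit 64),
  (nat_lit 0x310c20000000062000000, nat_lit 32),
  (nat_lit 0xf000014a20000c00000000400, nat_lit 16),
  (nat_lit 0xd700f2003b0060009000320000, nat_lit 8),
  (nat_lit 0x8000f0b0406010704080100030000, nat_lit 4),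
  (nat_lit 0x300330302302131001212100000000, nat_lit 2),
  (nat_lit 0x150040445055515505010401000400, nat_lit 1)]
def t4 : Net := [(nat_lit 0x551104050000550040404100050000, nat_lit 1),
  (nat_lit 0x23000003100303101130230020200, nat_lit 2),
  (nat_lit 0x707040604080c04040101080c0000, nat_lit 4),
  (nat_lit 0xba00280002008b00500077000c, nat_lit 8),
  (nat_lit 0x510000845c0000fc6900007f80, nat_lit 16),
  (nat_lit 0xdcf2010000000009276200, nat_lit 32),
  (nat_lit 0xac0bd3a2545a48, nat_lit 64),
  (nat_lit 0xf050890000000000000000, nat_lit 32),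
  (nat_lit 0x50000080440000686b00007900, nat_lit 16),
  (nat_lit 0xe200280002008100100025000c, nat_lit 8),
  (nat_lit 0x70f04040400040404010b020c0000, nat_lit 4),
  (nat_lit 0x1002023100303303130030020000, nat_lit 2),
  (nat_lit 0x551100050000550140404100010000, nat_lit 1)]
def t5 : Net := [(nat_lit 0x4405154154100104510104004440, nat_lit 1),
  (nat_lit 0x121010111231110103231001302110, nat_lit 2),
  (nat_lit 0x508050c000b02060001070300, nat_lit 4),
  (nat_lit 0x1d00be00120042000400040060, nat_lit 8),
  (nat_lit 0xed00002404000032e200003950, nat_lit 16),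
  (nat_lit 0xf35f100000000ca41044a, nat_lit 32),
  (nat_lit 0x4344012d95e4d4, nat_lit 64),
  (nat_lit 0x1620c10000000008000000, nat_lit 32),
  (nat_lit 0xbd000024140000020200002100, nat_lit 16),
  (nat_lit 0x1d009e00100042000400040060, nat_lit 8),
  (nat_lit 0x508050c000b02060001050100, nat_lit 4),
  (nat_lit 0x101010111231110103231001302110, nat_lit 2),
  (nat_lit 0x4405154154100104510100004040, nat_lit 1)]
def t6 : Net := [(nat_lit 0x404000044105150414454450450000, nat_lit 1),
  (nat_lit 0x111330101000202310101133000300, nat_lit 2),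
  (nat_lit 0x10a01040f0c0a0906010c09020000, nat_lit 4),
  (nat_lit 0x30083004d00580030009a002b, nat_lit 8),
  (nat_lit 0x8300008a0a000043180000426d, nat_lit 16),
  (nat_lit 0x1c6b420000000094082928, nat_lit 32),
  (nat_lit 0x2799fd2bfae9c2, nat_lit 64),
  (nat_lit 0x5c60030000000000000000, nat_lit 32),
  (nat_lit 0xcb00008a420000011000006200, nat_lit 16),
  (nat_lit 0x2300a300490058001000ba000b, nat_lit 8),
  (nat_lit 0x10a01000f0c0a0906000c09020000, nat_lit 4),
  (nat_lit 0x11330101001202310101033000300, nat_lit 2),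
  (nat_lit 0x404000044105150414454450450000, nat_lit 1)]
def C : Ctx := ⟨120, 7, [t0, t1, t2, t3, t4, t5, t6]⟩
theorem hC : C.ok = true := by decide +kernel
noncomputable def lk : ℕ → ℕ → ℕ := look C 64
theorem hlk : Good C lk := good_look hC (by decide +kernel)
abbrev gens : List Word := sg 7
def rels : List Word := [[2,2], [0,0,0], [0,2,0,2], [4,4], [0,4,0,4,0,4,0,4,0,4], [0,2,4,0,4,1,4,0,4,1,4], [6,6], [0,6,1,6], [2,6,2,6], [0,4,6,4,0,4,6,4,0,4,6,4], [8,8], [4,8,4,8], [2,4,6,4,8,6,8], [0,4,0,4,1,8,0,4,1,4,1,8], [0,2,6,8,0,6,8,1,6,8,6,0,8,6,1,8], [10,10], [0,10,1,10], [4,10,4,10], [0,4,6,4,1,6,8,10,8,1,4,6,4,0,10,8,10,8], [12,12], [0,12,1,12], [8,12,8,12], [6,12,6,12,6,12,6,12], [4,6,8,6,12,6,4,6,12], [6,10,12,6,10,12,10,6,12], [4,8,10,12,4,10,8,10,12,10]]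
namespace T5
noncomputable def A_0 : List (ℕ) := [nat_lit 0xe0402c0401c05002020240302e0201e000120100a00]
noncomputable def A : List (List (ℕ)) := [A_0]
noncomputable def K_0 : List (ℕ) := [nat_lit 0x20704814060000]
noncomputable def K : List (List (ℕ)) := [K_0]
noncomputable def R_0 : List (Rule) := [Rule.mk (nat_lit 1) (nat_lit 21) (Steps.bwd (nat_lit 1) (Steps.bwd (nat_lit 1) Steps.nil)) (nat_lit 2) (nat_lit 0),
  Rule.mk (nat_lit 2) (nat_lit 30) (Steps.bwd (nat_lit 3) (Steps.fwd (nat_lit 512) (Steps.fwd (nat_lit 1536) Steps.nil))) (nat_lit 5) (nat_lit 0),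
  Rule.mk (nat_lit 2) (nat_lit 21) (Steps.bwd (nat_lit 2) (Steps.bwd (nat_lit 2) Steps.nil)) (nat_lit 3) (nat_lit 0),
  Rule.mk (nat_lit 3) (nat_lit 30) (Steps.bwd (nat_lit 2) (Steps.bwd (nat_lit 3) (Steps.fwd (nat_lit 512) Steps.nil))) (nat_lit 5) (nat_lit 1)]
noncomputable def R : List (List (Rule)) := [R_0]
def LW : List Word := [[], [0], [1], [2]]
def par : Par := ⟨9, 2, 11, 20, 511, 2047, 1048575⟩
theorem hpar : par.ok := by decide
theorem hR0_0 : lall (R) (fun l => lall l (ruleOK rels LW par)) = true := by decide +kernel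
theorem hR0 : lall (R) (fun l => lall l (ruleOK rels LW par)) = true := hR0_0
theorem hR : RulesOK rels LW par R := rulesOK_of rfl hR0
def cols : List (ℕ × ℕ) := [(512, 2), (1536, 3)]
theorem hcols : lall cols (colOK rels LW par) = true := by decide +kernel
noncomputable def JS0 : List ℕ := [nat_lit 0xe0501c0000980c0002404019]
theorem S0_c : blocks (facts 9 2 11 20 511 2047 1048575 9 511 3 7 A R 32) 32 JS0 260 = true := by decide +kernel
theorem S0 : On (Step.{u} rels LW par A) 260 292 :=
  steps_of_blocks hpar hR S0_c (by decide +kernel)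
theorem D0_c : allB (defOK 9 11 20 511 1048575 261 A K) 1 2 = true := by decide +kernel
theorem D0 : On (fun r => defOK par.W par.WL par.E par.mW par.mE 261 A K r = true) 256 384 :=
  On.of_allB D0_c
noncomputable def JW0 : List ℕ := [nat_lit 0x10c3b0e0411143d1083e0e44611048]
theorem W0_c : blocks (rows 9 2 11 20 511 2047 1048575 10 1023 20 A 292 6 cols 64) 64 JW0 0 = true := by decide +kernel
theorem W0 : On (Row.{u} rels LW par A 292 6 cols) 0 64 :=
  rows_of_blocks hpar (by decide) hcols W0_c (by decide +kernel)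
theorem idx : Idx.{u} rels [[0], [2]] [] 6 :=
  idx_of_cert hpar hR (K := K) (by decide +kernel) (T := 261) (T' := 384) (by decide) D0
    (subs := []) (by decide +kernel) (T1 := 260) (by decide) (N := 292) S0
    (by decide) (n' := 64) (by decide) W0 (by decide +kernel) (by decide +kernel)
end T5
theorem b5 : Bound.{u} rels [[0], [2]] 6 := .of_idx T5.idx (.nil _) (by decide)
namespace T4
noncomputable def A_0 : List (ℕ) := [nat_lit 0x198080260101002c0200a0180300a00d03a01c1060702081c0c609029810108080488200a2090590301440b00880c006000008000e206040814128060308101a80c02a00c08802061028166030518040620201080402800]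
noncomputable def A : List (List (ℕ)) := [A_0]
noncomputable def K_0 : List (ℕ) := [nat_lit 0x211058240e150b864260f06814060000]
noncomputable def K : List (List (ℕ)) := [K_0]
noncomputable def R_0 : List (Rule) := [Rule.mk (nat_lit 1) (nat_lit 22) (Steps.bwd (nat_lit 1) (Steps.bwd (nat_lit 1) Steps.nil)) (nat_lit 2) (nat_lit 0),
  Rule.mk (nat_lit 2) (nat_lit 31) (Steps.bwd (nat_lit 3) (Steps.fwd (nat_lit 512) (Steps.fwd (nat_lit 1536) Steps.nil))) (nat_lit 5) (nat_lit 0),
  Rule.mk (nat_lit 2) (nat_lit 22) (Steps.bwd (nat_lit 2) (Steps.bwd (nat_lit 2) Steps.nil)) (nat_lit 3) (nat_lit 0),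
  Rule.mk (nat_lit 1) (nat_lit 85) (Steps.bwd (nat_lit 4) (Steps.bwd (nat_lit 1) (Steps.bwd (nat_lit 4) (Steps.bwd (nat_lit 1) (Steps.bwd (nat_lit 4) (Steps.bwd (nat_lit 1) (Steps.fwd (nat_lit 2048) (Steps.bwd (nat_lit 1) (Steps.fwd (nat_lit 2048) Steps.nil))))))))) (nat_lit 8) (nat_lit 1),
  Rule.mk (nat_lit 4) (nat_lit 94) (Steps.bwd (nat_lit 1) (Steps.bwd (nat_lit 4) (Steps.fwd (nat_lit 512) (Steps.bwd (nat_lit 4) (Steps.bwd (nat_lit 1) (Steps.fwd (nat_lit 1536) (Steps.fwd (nat_lit 2048) (Steps.bwd (nat_lit 1) (Steps.fwd (nat_lit 2048) (Steps.fwd (nat_lit 512) Steps.nil)))))))))) (nat_lit 10) (nat_lit 7),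
  Rule.mk (nat_lit 3) (nat_lit 94) (Steps.bwd (nat_lit 4) (Steps.bwd (nat_lit 1) (Steps.bwd (nat_lit 4) (Steps.fwd (nat_lit 512) (Steps.fwd (nat_lit 2048) (Steps.bwd (nat_lit 1) (Steps.fwd (nat_lit 2048) (Steps.fwd (nat_lit 512) (Steps.fwd (nat_lit 2048) (Steps.bwd (nat_lit 1) Steps.nil)))))))))) (nat_lit 10) (nat_lit 2),
  Rule.mk (nat_lit 3) (nat_lit 31) (Steps.fwd (nat_lit 512) (Steps.bwd (nat_lit 3) (Steps.fwd (nat_lit 512) Steps.nil))) (nat_lit 5) (nat_lit 1),
  Rule.mk (nat_lit 3) (nat_lit 31) (Steps.bwd (nat_lit 1) (Steps.bwd (nat_lit 3) (Steps.bwd (nat_lit 1) Steps.nil))) (nat_lit 4) (nat_lit 0),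
  Rule.mk (nat_lit 4) (nat_lit 85) (Steps.bwd (nat_lit 1) (Steps.fwd (nat_lit 2048) (Steps.bwd (nat_lit 1) (Steps.fwd (nat_lit 2048) (Steps.bwd (nat_lit 1) (Steps.bwd (nat_lit 4) (Steps.bwd (nat_lit 1) (Steps.fwd (nat_lit 2048) (Steps.bwd (nat_lit 1) Steps.nil))))))))) (nat_lit 8) (nat_lit 0),
  Rule.mk (nat_lit 0) (nat_lit 103) (Steps.bwd (nat_lit 4) (Steps.fwd (nat_lit 1024) (Steps.bwd (nat_lit 3) (Steps.fwd (nat_lit 2048) (Steps.bwd (nat_lit 1) (Steps.bwd (nat_lit 4) (Steps.fwd (nat_lit 512) (Steps.fwd (nat_lit 2048) (Steps.bwd (nat_lit 1) (Steps.fwd (nat_lit 2048) (Steps.fwd (nat_lit 512) Steps.nil))))))))))) (nat_lit 10) (nat_lit 10),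
  Rule.mk (nat_lit 0) (nat_lit 31) (Steps.fwd (nat_lit 2048) (Steps.fwd (nat_lit 0) (Steps.bwd (nat_lit 4) Steps.nil))) (nat_lit 52) (nat_lit 0),
  Rule.mk (nat_lit 0) (nat_lit 31) (Steps.fwd (nat_lit 1024) (Steps.fwd (nat_lit 0) (Steps.fwd (nat_lit 512) Steps.nil))) (nat_lit 52) (nat_lit 0),
  Rule.mk (nat_lit 0) (nat_lit 31) (Steps.bwd (nat_lit 2) (Steps.fwd (nat_lit 0) (Steps.bwd (nat_lit 1) Steps.nil))) (nat_lit 52) (nat_lit 0),
  Rule.mk (nat_lit 3) (nat_lit 22) (Steps.bwd (nat_lit 0) (Steps.bwd (nat_lit 3) Steps.nil)) (nat_lit 52) (nat_lit 0)]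
noncomputable def R : List (List (Rule)) := [R_0]
def LW : List Word := [[], [0], [1], [2], [4], [0], [1], [2], [3]]
def par : Par := ⟨9, 4, 13, 22, 511, 8191, 4194303⟩
theorem hpar : par.ok := by decide
theorem hR0_0 : lall (R) (fun l => lall l (ruleOK rels LW par)) = true := by decide +kernel
theorem hR0 : lall (R) (fun l => lall l (ruleOK rels LW par)) = true := hR0_0
theorem hR : RulesOK rels LW par R := rulesOK_of rfl hR0
def cols : List (ℕ × ℕ) := [(512, 2), (1536, 3), (2048, 4)]
theorem hcols : lall cols (colOK rels LW par) = true := by decide +kernel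
noncomputable def JS0 : List ℕ := [nat_lit 0x6803c1a00f068020bd060002d8130004ac0e0f068001a0f038482a0808d0042416088340805070324080105c0341420c0000dc1200048340a1403850260e60403008130281826040602140007105008220408840160803a0001660c0002c81a0c1]
theorem S0_c : blocks (facts 9 4 13 22 511 8191 4194303 9 511 4 15 A R 32) 32 JS0 270 = true := by decide +kernel
theorem S0 : On (Step.{u} rels LW par A) 270 302 :=
  steps_of_blocks hpar hR S0_c (by decide +kernel)
theorem D0_c : allB (defOK 9 13 22 511 4194303 269 A K) 1 2 = true := by decide +kernel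
theorem D0 : On (fun r => defOK par.W par.WL par.E par.mW par.mE 269 A K r = true) 256 384 :=
  On.of_allB D0_c
noncomputable def JW0 : List ℕ := [nat_lit 0x124300e0340b4360a82c0b8480c44413c33118510c84a1381f0f85007858174201685c10042]
theorem W0_c : blocks (rows 9 4 13 22 511 8191 4194303 10 1023 30 A 302 10 cols 42) 42 JW0 0 = true := by decide +kernel
theorem W0 : On (Row.{u} rels LW par A 302 10 cols) 0 42 :=
  rows_of_blocks hpar (by decide) hcols W0_c (by decide +kernel)
theorem idx : Idx.{u} rels [[0], [2], [4]] [[0], [2]] 10 :=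
  idx_of_cert hpar hR (K := K) (by decide +kernel) (T := 269) (T' := 384) (by decide) D0
    (subs := [1,3]) (by decide +kernel) (T1 := 270) (by decide) (N := 302) S0
    (by decide) (n' := 42) (by decide) W0 (by decide +kernel) (by decide +kernel)
end T4
theorem b4 : Bound.{u} rels [[0], [2], [4]] 60 := .of_idx T4.idx b5 (by decide)
namespace T3
noncomputable def A_0 : List (ℕ) := [nat_lit 0x1ea0c0798300a80502805c1820c0298140e20503902406a0702804c046020480540660403805004010020048060110300581680b0518381e40f06982c0c60806a0341c20d0410341ca0b05102c1020e03282024a1503905406a140228240e60909901c0a613019848224120810440420400980402401002000006000008001aa0a0590181c80a0508181e80906201c2e8050b20441080403200c2a4130a10241240503a84426a1002a808244100898102060202080c0620201200402a00]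
noncomputable def A : List (List (ℕ)) := [A_0]
noncomputable def K_0 : List (ℕ) := [nat_lit 0x8843e190b8441a0b04894522d118ac4e150e84c360f03814060000]
noncomputable def K : List (List (ℕ)) := [K_0]
noncomputable def R_0 : List (Rule) := [Rule.mk (nat_lit 2) (nat_lit 33) (Steps.bwd (nat_lit 5) (Steps.bwd (nat_lit 1) (Steps.fwd (nat_lit 2560) Steps.nil))) (nat_lit 14) (nat_lit 3),
  Rule.mk (nat_lit 3) (nat_lit 33) (Steps.bwd (nat_lit 5) (Steps.fwd (nat_lit 1536) (Steps.fwd (nat_lit 2560) Steps.nil))) (nat_lit 16) (nat_lit 1),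
  Rule.mk (nat_lit 1) (nat_lit 24) (Steps.bwd (nat_lit 1) (Steps.bwd (nat_lit 1) Steps.nil)) (nat_lit 2) (nat_lit 0),
  Rule.mk (nat_lit 2) (nat_lit 33) (Steps.bwd (nat_lit 3) (Steps.fwd (nat_lit 512) (Steps.fwd (nat_lit 1536) Steps.nil))) (nat_lit 5) (nat_lit 0),
  Rule.mk (nat_lit 2) (nat_lit 24) (Steps.bwd (nat_lit 2) (Steps.bwd (nat_lit 2) Steps.nil)) (nat_lit 3) (nat_lit 0),
  Rule.mk (nat_lit 3) (nat_lit 33) (Steps.bwd (nat_lit 2) (Steps.bwd (nat_lit 3) (Steps.fwd (nat_lit 512) Steps.nil))) (nat_lit 5) (nat_lit 1),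
  Rule.mk (nat_lit 3) (nat_lit 33) (Steps.bwd (nat_lit 5) (Steps.bwd (nat_lit 3) (Steps.fwd (nat_lit 2560) Steps.nil))) (nat_lit 16) (nat_lit 1),
  Rule.mk (nat_lit 2) (nat_lit 33) (Steps.bwd (nat_lit 5) (Steps.fwd (nat_lit 1024) (Steps.fwd (nat_lit 2560) Steps.nil))) (nat_lit 14) (nat_lit 3),
  Rule.mk (nat_lit 3) (nat_lit 33) (Steps.bwd (nat_lit 2) (Steps.bwd (nat_lit 3) (Steps.bwd (nat_lit 2) Steps.nil))) (nat_lit 5) (nat_lit 1),
  Rule.mk (nat_lit 5) (nat_lit 33) (Steps.bwd (nat_lit 2) (Steps.bwd (nat_lit 5) (Steps.bwd (nat_lit 1) Steps.nil))) (nat_lit 14) (nat_lit 2),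
  Rule.mk (nat_lit 5) (nat_lit 33) (Steps.bwd (nat_lit 2) (Steps.fwd (nat_lit 2560) (Steps.bwd (nat_lit 1) Steps.nil))) (nat_lit 14) (nat_lit 2),
  Rule.mk (nat_lit 5) (nat_lit 33) (Steps.bwd (nat_lit 2) (Steps.bwd (nat_lit 5) (Steps.fwd (nat_lit 1024) Steps.nil))) (nat_lit 14) (nat_lit 2),
  Rule.mk (nat_lit 5) (nat_lit 105) (Steps.bwd (nat_lit 4) (Steps.fwd (nat_lit 512) (Steps.bwd (nat_lit 4) (Steps.bwd (nat_lit 5) (Steps.fwd (nat_lit 2048) (Steps.fwd (nat_lit 512) (Steps.fwd (nat_lit 2048) (Steps.fwd (nat_lit 2560) (Steps.fwd (nat_lit 2048) (Steps.fwd (nat_lit 512) (Steps.fwd (nat_lit 2048) Steps.nil))))))))))) (nat_lit 19) (nat_lit 2),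
  Rule.mk (nat_lit 1) (nat_lit 87) (Steps.bwd (nat_lit 4) (Steps.bwd (nat_lit 1) (Steps.bwd (nat_lit 4) (Steps.bwd (nat_lit 1) (Steps.bwd (nat_lit 4) (Steps.fwd (nat_lit 1024) (Steps.fwd (nat_lit 2048) (Steps.bwd (nat_lit 1) (Steps.fwd (nat_lit 2048) Steps.nil))))))))) (nat_lit 8) (nat_lit 1),
  Rule.mk (nat_lit 2) (nat_lit 24) (Steps.bwd (nat_lit 2) (Steps.fwd (nat_lit 512) Steps.nil)) (nat_lit 3) (nat_lit 0),
  Rule.mk (nat_lit 2) (nat_lit 33) (Steps.bwd (nat_lit 5) (Steps.bwd (nat_lit 1) (Steps.bwd (nat_lit 5) Steps.nil))) (nat_lit 14) (nat_lit 3),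
  Rule.mk (nat_lit 1) (nat_lit 33) (Steps.bwd (nat_lit 5) (Steps.bwd (nat_lit 2) (Steps.fwd (nat_lit 2560) Steps.nil))) (nat_lit 14) (nat_lit 1),
  Rule.mk (nat_lit 4) (nat_lit 96) (Steps.fwd (nat_lit 1024) (Steps.bwd (nat_lit 4) (Steps.fwd (nat_lit 512) (Steps.bwd (nat_lit 4) (Steps.fwd (nat_lit 1024) (Steps.fwd (nat_lit 1536) (Steps.fwd (nat_lit 2048) (Steps.bwd (nat_lit 1) (Steps.fwd (nat_lit 2048) (Steps.bwd (nat_lit 2) Steps.nil)))))))))) (nat_lit 10) (nat_lit 7),
  Rule.mk (nat_lit 3) (nat_lit 96) (Steps.bwd (nat_lit 2) (Steps.fwd (nat_lit 2048) (Steps.fwd (nat_lit 1024) (Steps.bwd (nat_lit 4) (Steps.fwd (nat_lit 512) (Steps.bwd (nat_lit 4) (Steps.fwd (nat_lit 1024) (Steps.fwd (nat_lit 2048) (Steps.fwd (nat_lit 512) (Steps.fwd (nat_lit 2048) Steps.nil)))))))))) (nat_lit 11) (nat_lit 10),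
  Rule.mk (nat_lit 3) (nat_lit 96) (Steps.bwd (nat_lit 2) (Steps.bwd (nat_lit 4) (Steps.bwd (nat_lit 1) (Steps.bwd (nat_lit 4) (Steps.bwd (nat_lit 2) (Steps.fwd (nat_lit 2048) (Steps.bwd (nat_lit 1) (Steps.fwd (nat_lit 2048) (Steps.bwd (nat_lit 2) (Steps.fwd (nat_lit 2048) Steps.nil)))))))))) (nat_lit 11) (nat_lit 10),
  Rule.mk (nat_lit 2) (nat_lit 105) (Steps.bwd (nat_lit 4) (Steps.fwd (nat_lit 2560) (Steps.fwd (nat_lit 2048) (Steps.bwd (nat_lit 2) (Steps.fwd (nat_lit 2048) (Steps.bwd (nat_lit 5) (Steps.fwd (nat_lit 2048) (Steps.fwd (nat_lit 512) (Steps.bwd (nat_lit 4) (Steps.bwd (nat_lit 5) (Steps.fwd (nat_lit 2048) Steps.nil))))))))))) (nat_lit 19) (nat_lit 0),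
  Rule.mk (nat_lit 3) (nat_lit 33) (Steps.bwd (nat_lit 1) (Steps.bwd (nat_lit 3) (Steps.fwd (nat_lit 1024) Steps.nil))) (nat_lit 4) (nat_lit 0),
  Rule.mk (nat_lit 4) (nat_lit 96) (Steps.fwd (nat_lit 1024) (Steps.fwd (nat_lit 2048) (Steps.fwd (nat_lit 512) (Steps.bwd (nat_lit 4) (Steps.bwd (nat_lit 1) (Steps.fwd (nat_lit 2048) (Steps.fwd (nat_lit 512) (Steps.fwd (nat_lit 2048) (Steps.bwd (nat_lit 1) (Steps.bwd (nat_lit 3) Steps.nil)))))))))) (nat_lit 10) (nat_lit 3),
  Rule.mk (nat_lit 0) (nat_lit 105) (Steps.bwd (nat_lit 4) (Steps.fwd (nat_lit 1024) (Steps.bwd (nat_lit 3) (Steps.bwd (nat_lit 4) (Steps.fwd (nat_lit 1024) (Steps.fwd (nat_lit 2048) (Steps.fwd (nat_lit 512) (Steps.fwd (nat_lit 2048) (Steps.fwd (nat_lit 1024) (Steps.fwd (nat_lit 2048) (Steps.bwd (nat_lit 2) Steps.nil))))))))))) (nat_lit 10) (nat_lit 10),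
  Rule.mk (nat_lit 0) (nat_lit 33) (Steps.fwd (nat_lit 2048) (Steps.fwd (nat_lit 0) (Steps.bwd (nat_lit 4) Steps.nil))) (nat_lit 52) (nat_lit 0),
  Rule.mk (nat_lit 0) (nat_lit 33) (Steps.fwd (nat_lit 1024) (Steps.fwd (nat_lit 0) (Steps.fwd (nat_lit 512) Steps.nil))) (nat_lit 52) (nat_lit 0),
  Rule.mk (nat_lit 0) (nat_lit 33) (Steps.bwd (nat_lit 2) (Steps.fwd (nat_lit 0) (Steps.bwd (nat_lit 1) Steps.nil))) (nat_lit 52) (nat_lit 0),
  Rule.mk (nat_lit 0) (nat_lit 33) (Steps.fwd (nat_lit 2560) (Steps.bwd (nat_lit 0) (Steps.fwd (nat_lit 2560) Steps.nil))) (nat_lit 52) (nat_lit 0),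
  Rule.mk (nat_lit 3) (nat_lit 24) (Steps.bwd (nat_lit 0) (Steps.fwd (nat_lit 1536) Steps.nil)) (nat_lit 52) (nat_lit 0),
  Rule.mk (nat_lit 0) (nat_lit 33) (Steps.fwd (nat_lit 2560) (Steps.fwd (nat_lit 0) (Steps.bwd (nat_lit 5) Steps.nil))) (nat_lit 52) (nat_lit 0),
  Rule.mk (nat_lit 3) (nat_lit 24) (Steps.bwd (nat_lit 0) (Steps.bwd (nat_lit 3) Steps.nil)) (nat_lit 52) (nat_lit 0),
  Rule.mk (nat_lit 0) (nat_lit 33) (Steps.bwd (nat_lit 5) (Steps.fwd (nat_lit 0) (Steps.fwd (nat_lit 2560) Steps.nil))) (nat_lit 52) (nat_lit 0),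
  Rule.mk (nat_lit 5) (nat_lit 24) (Steps.bwd (nat_lit 0) (Steps.fwd (nat_lit 2560) Steps.nil)) (nat_lit 52) (nat_lit 0),
  Rule.mk (nat_lit 2) (nat_lit 24) (Steps.bwd (nat_lit 0) (Steps.fwd (nat_lit 1024) Steps.nil)) (nat_lit 52) (nat_lit 0),
  Rule.mk (nat_lit 1) (nat_lit 24) (Steps.bwd (nat_lit 0) (Steps.bwd (nat_lit 2) Steps.nil)) (nat_lit 52) (nat_lit 0),
  Rule.mk (nat_lit 1) (nat_lit 105) (Steps.bwd (nat_lit 4) (Steps.fwd (nat_lit 2560) (Steps.fwd (nat_lit 2048) (Steps.fwd (nat_lit 1024) (Steps.fwd (nat_lit 2048) (Steps.fwd (nat_lit 2560) (Steps.bwd (nat_lit 4) (Steps.bwd (nat_lit 1) (Steps.bwd (nat_lit 4) (Steps.bwd (nat_lit 5) (Steps.fwd (nat_lit 2048) Steps.nil))))))))))) (nat_lit 18) (nat_lit 1),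
  Rule.mk (nat_lit 0) (nat_lit 96) (Steps.bwd (nat_lit 4) (Steps.fwd (nat_lit 1024) (Steps.fwd (nat_lit 2048) (Steps.fwd (nat_lit 1024) (Steps.bwd (nat_lit 4) (Steps.fwd (nat_lit 1024) (Steps.fwd (nat_lit 2048) (Steps.bwd (nat_lit 1) (Steps.bwd (nat_lit 4) (Steps.bwd (nat_lit 1) Steps.nil)))))))))) (nat_lit 8) (nat_lit 1),
  Rule.mk (nat_lit 4) (nat_lit 24) (Steps.bwd (nat_lit 0) (Steps.bwd (nat_lit 4) Steps.nil)) (nat_lit 52) (nat_lit 0),
  Rule.mk (nat_lit 3) (nat_lit 96) (Steps.bwd (nat_lit 4) (Steps.bwd (nat_lit 1) (Steps.fwd (nat_lit 2048) (Steps.fwd (nat_lit 512) (Steps.fwd (nat_lit 2048) (Steps.bwd (nat_lit 1) (Steps.bwd (nat_lit 4) (Steps.bwd (nat_lit 2) (Steps.fwd (nat_lit 2048) (Steps.fwd (nat_lit 1024) Steps.nil)))))))))) (nat_lit 10) (nat_lit 2),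
  Rule.mk (nat_lit 5) (nat_lit 105) (Steps.bwd (nat_lit 4) (Steps.bwd (nat_lit 1) (Steps.fwd (nat_lit 2048) (Steps.bwd (nat_lit 5) (Steps.bwd (nat_lit 4) (Steps.fwd (nat_lit 1024) (Steps.fwd (nat_lit 2048) (Steps.fwd (nat_lit 2560) (Steps.fwd (nat_lit 2048) (Steps.fwd (nat_lit 1024) (Steps.fwd (nat_lit 2048) Steps.nil))))))))))) (nat_lit 18) (nat_lit 3)]
noncomputable def R : List (List (Rule)) := [R_0]
def LW : List Word := [[], [0], [1], [2], [4], [6], [0], [1], [2], [3], [4], [5]]
def par : Par := ⟨9, 4, 13, 22, 511, 8191, 4194303⟩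
theorem hpar : par.ok := by decide
theorem hR0_0 : lall (R) (fun l => lall l (ruleOK rels LW par)) = true := by decide +kernel
theorem hR0 : lall (R) (fun l => lall l (ruleOK rels LW par)) = true := hR0_0
theorem hR : RulesOK rels LW par R := rulesOK_of rfl hR0
def cols : List (ℕ × ℕ) := [(512, 2), (1536, 3), (2048, 4), (2560, 5)]
theorem hcols : lall cols (colOK rels LW par) = true := by decide +kernel
noncomputable def JS0 : List ℕ := [nat_lit 0x1501849e0c009d1680824e0cc02186c62000b34260009190e8003a25180c430311705446c0080a1d0f0905c230487410b81c0204583a0c1081c361901010420c0eaa0101880242d0a0b458210ca820158b0262c0887c04000126010f0405611090ac201e00a4010105510185c2880040414282a133c320b130344c250d0502670644825130341e0d130941418343e1d0c98030c0a2000060b0306c30500002172430030b90180d85c70e0683030002e286000171032180c34020d0419010641,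
  nat_lit 0xc472011e10852421e0040a32a02430028c404310200008319c620098042f000bc062e080b86c30945c03190b05615068a8640317481e01ba1c01461701c417024233020ca01a80df]
theorem S0_c : blocks (facts 9 4 13 22 511 8191 4194303 9 511 6 63 A R 32) 32 JS0 281 = true := by decide +kernel
theorem S0 : On (Step.{u} rels LW par A) 281 345 :=
  steps_of_blocks hpar hR S0_c (by decide +kernel)
theorem D0_c : allB (defOK 9 13 22 511 4194303 279 A K) 1 2 = true := by decide +kernel
theorem D0 : On (fun r => defOK par.W par.WL par.E par.mW par.mE 279 A K r = true) 256 384 :=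
  On.of_allB D0_c
noncomputable def JW0 : List ℕ := [nat_lit 0xac8f0b45317c8b1406221c581545a0a8910b0321784e150892188a144611b08e1b89f190971585d0e8901bc391949915c8c2942e0d0361b4961087a0ec9810cac290b10f8ae2ccb01f07f2c88020884]
theorem W0_c : blocks (rows 9 4 13 22 511 8191 4194303 10 1023 40 A 345 16 cols 32) 32 JW0 0 = true := by decide +kernel
theorem W0 : On (Row.{u} rels LW par A 345 16 cols) 0 32 :=
  rows_of_blocks hpar (by decide) hcols W0_c (by decide +kernel)
theorem idx : Idx.{u} rels [[0], [2], [4], [6]] [[0], [2], [4]] 16 :=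
  idx_of_cert hpar hR (K := K) (by decide +kernel) (T := 279) (T' := 384) (by decide) D0
    (subs := [1,3,4]) (by decide +kernel) (T1 := 281) (by decide) (N := 345) S0
    (by decide) (n' := 32) (by decide) W0 (by decide +kernel) (by decide +kernel)
end T3
theorem b3 : Bound.{u} rels [[0], [2], [4], [6]] 960 := .of_idx T3.idx b4 (by decide)
namespace T2
noncomputable def A_0 : List (ℕ) := [nat_lit 0x99064342190b98642ca190cb0642e2160d30682ec1708085c3481a0b18682cc160b20582ac15069034124090590382240b068088120210c20442261107007c0a407058080144050520280e02c0280a024a180c18602201e0518280e01b028070140270c00c0248120500742461209104860a120900b42402e0900bc2442e1790bc602300908b83063017a8c052c2f0eb0b85a42d0c086030c180f20602482d1120b04e22c1220ac5222b11a0a83a8291290944a6261390a04c42611a8901a22410908c1a4220998401681306304c1260d07204038a200da87c3cc1e0ea8781621e08b04414a1107182c0ea0e07a83c28a140aa8542a8150a9854284150790501080f05b0501461d0288743820a0388701060c0610301040802981c06c070330340c6040208100c40602a0240620201a80c022030128080260100a8040280100280000800001800002000ca05c2ea1a0d104c2c2101820445e82e17184830a2d16b09c24c0a1608a05622a1508a4526271420844e80a1320704a81b120888464091128844220909a84020c081008443e20b0f18442220e07303c2a40f0798502880c05a8143a21b05081c3861b0d881418a060428100e80d06a8240c80304b0100ac020220080660201080402c00]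
noncomputable def A : List (List (ℕ)) := [A_0]
noncomputable def K_0 : List (ℕ) := [nat_lit 0x12b954a64f259248e45219047e3d1d8e46e35178b4561d0c85cb65f28974b225108cc9a291888c4e0f0a87c360b098441a0903814060000]
noncomputable def K : List (List (ℕ)) := [K_0]
noncomputable def R_0 : List (Rule) := [Rule.mk (nat_lit 4) (nat_lit 34) (Steps.bwd (nat_lit 6) (Steps.fwd (nat_lit 2048) (Steps.fwd (nat_lit 3072) Steps.nil))) (nat_lit 22) (nat_lit 1),
  Rule.mk (nat_lit 5) (nat_lit 61) (Steps.bwd (nat_lit 6) (Steps.fwd (nat_lit 1536) (Steps.fwd (nat_lit 2048) (Steps.fwd (nat_lit 2560) (Steps.fwd (nat_lit 2048) (Steps.fwd (nat_lit 3072) Steps.nil)))))) (nat_lit 24) (nat_lit 6),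
  Rule.mk (nat_lit 3) (nat_lit 61) (Steps.fwd (nat_lit 2048) (Steps.fwd (nat_lit 2560) (Steps.fwd (nat_lit 2048) (Steps.bwd (nat_lit 6) (Steps.fwd (nat_lit 2560) (Steps.fwd (nat_lit 3072) Steps.nil)))))) (nat_lit 24) (nat_lit 1),
  Rule.mk (nat_lit 5) (nat_lit 34) (Steps.bwd (nat_lit 1) (Steps.fwd (nat_lit 2560) (Steps.fwd (nat_lit 512) Steps.nil))) (nat_lit 14) (nat_lit 0),
  Rule.mk (nat_lit 1) (nat_lit 34) (Steps.bwd (nat_lit 3) (Steps.bwd (nat_lit 1) (Steps.fwd (nat_lit 1536) Steps.nil))) (nat_lit 4) (nat_lit 1),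
  Rule.mk (nat_lit 5) (nat_lit 34) (Steps.bwd (nat_lit 3) (Steps.fwd (nat_lit 2560) (Steps.fwd (nat_lit 1536) Steps.nil))) (nat_lit 16) (nat_lit 0),
  Rule.mk (nat_lit 1) (nat_lit 25) (Steps.bwd (nat_lit 1) (Steps.bwd (nat_lit 1) Steps.nil)) (nat_lit 2) (nat_lit 0),
  Rule.mk (nat_lit 4) (nat_lit 34) (Steps.bwd (nat_lit 6) (Steps.bwd (nat_lit 4) (Steps.fwd (nat_lit 3072) Steps.nil))) (nat_lit 22) (nat_lit 1),
  Rule.mk (nat_lit 2) (nat_lit 106) (Steps.bwd (nat_lit 4) (Steps.fwd (nat_lit 512) (Steps.bwd (nat_lit 6) (Steps.bwd (nat_lit 1) (Steps.fwd (nat_lit 2048) (Steps.bwd (nat_lit 1) (Steps.fwd (nat_lit 2048) (Steps.fwd (nat_lit 512) (Steps.fwd (nat_lit 3072) (Steps.bwd (nat_lit 1) (Steps.fwd (nat_lit 2048) Steps.nil))))))))))) (nat_lit 26) (nat_lit 9),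
  Rule.mk (nat_lit 1) (nat_lit 88) (Steps.bwd (nat_lit 4) (Steps.bwd (nat_lit 1) (Steps.fwd (nat_lit 2048) (Steps.bwd (nat_lit 1) (Steps.fwd (nat_lit 2048) (Steps.fwd (nat_lit 1024) (Steps.bwd (nat_lit 4) (Steps.bwd (nat_lit 1) (Steps.fwd (nat_lit 2048) Steps.nil))))))))) (nat_lit 8) (nat_lit 1),
  Rule.mk (nat_lit 3) (nat_lit 97) (Steps.bwd (nat_lit 4) (Steps.bwd (nat_lit 1) (Steps.fwd (nat_lit 2048) (Steps.fwd (nat_lit 512) (Steps.fwd (nat_lit 2048) (Steps.bwd (nat_lit 1) (Steps.bwd (nat_lit 4) (Steps.fwd (nat_lit 512) (Steps.fwd (nat_lit 2048) (Steps.fwd (nat_lit 1024) Steps.nil)))))))))) (nat_lit 10) (nat_lit 2),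
  Rule.mk (nat_lit 6) (nat_lit 61) (Steps.bwd (nat_lit 5) (Steps.bwd (nat_lit 6) (Steps.fwd (nat_lit 1536) (Steps.bwd (nat_lit 4) (Steps.fwd (nat_lit 2560) (Steps.fwd (nat_lit 2048) Steps.nil)))))) (nat_lit 24) (nat_lit 5),
  Rule.mk (nat_lit 6) (nat_lit 34) (Steps.bwd (nat_lit 4) (Steps.fwd (nat_lit 3072) (Steps.bwd (nat_lit 4) Steps.nil))) (nat_lit 22) (nat_lit 0),
  Rule.mk (nat_lit 3) (nat_lit 61) (Steps.bwd (nat_lit 4) (Steps.bwd (nat_lit 5) (Steps.fwd (nat_lit 2048) (Steps.bwd (nat_lit 6) (Steps.fwd (nat_lit 2560) (Steps.fwd (nat_lit 3072) Steps.nil)))))) (nat_lit 24) (nat_lit 1),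
  Rule.mk (nat_lit 2) (nat_lit 34) (Steps.bwd (nat_lit 5) (Steps.bwd (nat_lit 1) (Steps.fwd (nat_lit 2560) Steps.nil))) (nat_lit 14) (nat_lit 3),
  Rule.mk (nat_lit 2) (nat_lit 34) (Steps.bwd (nat_lit 5) (Steps.fwd (nat_lit 1024) (Steps.fwd (nat_lit 2560) Steps.nil))) (nat_lit 14) (nat_lit 3),
  Rule.mk (nat_lit 3) (nat_lit 34) (Steps.bwd (nat_lit 5) (Steps.bwd (nat_lit 3) (Steps.fwd (nat_lit 2560) Steps.nil))) (nat_lit 16) (nat_lit 1),
  Rule.mk (nat_lit 1) (nat_lit 34) (Steps.bwd (nat_lit 3) (Steps.bwd (nat_lit 1) (Steps.bwd (nat_lit 3) Steps.nil))) (nat_lit 4) (nat_lit 1),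
  Rule.mk (nat_lit 3) (nat_lit 34) (Steps.bwd (nat_lit 1) (Steps.fwd (nat_lit 1536) (Steps.bwd (nat_lit 1) Steps.nil))) (nat_lit 4) (nat_lit 0),
  Rule.mk (nat_lit 6) (nat_lit 61) (Steps.bwd (nat_lit 4) (Steps.bwd (nat_lit 5) (Steps.bwd (nat_lit 4) (Steps.bwd (nat_lit 3) (Steps.fwd (nat_lit 3072) (Steps.fwd (nat_lit 2560) Steps.nil)))))) (nat_lit 25) (nat_lit 3),
  Rule.mk (nat_lit 4) (nat_lit 61) (Steps.bwd (nat_lit 3) (Steps.fwd (nat_lit 3072) (Steps.bwd (nat_lit 5) (Steps.bwd (nat_lit 6) (Steps.fwd (nat_lit 2048) (Steps.fwd (nat_lit 2560) Steps.nil)))))) (nat_lit 25) (nat_lit 6),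
  Rule.mk (nat_lit 2) (nat_lit 106) (Steps.bwd (nat_lit 4) (Steps.bwd (nat_lit 5) (Steps.bwd (nat_lit 4) (Steps.fwd (nat_lit 512) (Steps.fwd (nat_lit 2048) (Steps.fwd (nat_lit 2560) (Steps.fwd (nat_lit 2048) (Steps.fwd (nat_lit 512) (Steps.fwd (nat_lit 2048) (Steps.fwd (nat_lit 2560) (Steps.bwd (nat_lit 4) Steps.nil))))))))))) (nat_lit 19) (nat_lit 0),
  Rule.mk (nat_lit 2) (nat_lit 25) (Steps.bwd (nat_lit 2) (Steps.bwd (nat_lit 2) Steps.nil)) (nat_lit 3) (nat_lit 0),
  Rule.mk (nat_lit 3) (nat_lit 34) (Steps.bwd (nat_lit 2) (Steps.bwd (nat_lit 3) (Steps.bwd (nat_lit 2) Steps.nil))) (nat_lit 5) (nat_lit 1),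
  Rule.mk (nat_lit 4) (nat_lit 88) (Steps.bwd (nat_lit 2) (Steps.fwd (nat_lit 2048) (Steps.bwd (nat_lit 2) (Steps.bwd (nat_lit 4) (Steps.bwd (nat_lit 2) (Steps.bwd (nat_lit 4) (Steps.bwd (nat_lit 2) (Steps.fwd (nat_lit 2048) (Steps.bwd (nat_lit 2) Steps.nil))))))))) (nat_lit 9) (nat_lit 1),
  Rule.mk (nat_lit 5) (nat_lit 106) (Steps.fwd (nat_lit 2048) (Steps.bwd (nat_lit 2) (Steps.fwd (nat_lit 2048) (Steps.bwd (nat_lit 5) (Steps.bwd (nat_lit 4) (Steps.fwd (nat_lit 512) (Steps.fwd (nat_lit 2048) (Steps.fwd (nat_lit 2560) (Steps.fwd (nat_lit 2048) (Steps.bwd (nat_lit 2) (Steps.fwd (nat_lit 2048) Steps.nil))))))))))) (nat_lit 19) (nat_lit 2),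
  Rule.mk (nat_lit 5) (nat_lit 34) (Steps.bwd (nat_lit 2) (Steps.fwd (nat_lit 2560) (Steps.fwd (nat_lit 1024) Steps.nil))) (nat_lit 14) (nat_lit 2),
  Rule.mk (nat_lit 5) (nat_lit 34) (Steps.fwd (nat_lit 1024) (Steps.fwd (nat_lit 2560) (Steps.bwd (nat_lit 2) Steps.nil))) (nat_lit 14) (nat_lit 0),
  Rule.mk (nat_lit 5) (nat_lit 61) (Steps.bwd (nat_lit 6) (Steps.bwd (nat_lit 3) (Steps.bwd (nat_lit 4) (Steps.bwd (nat_lit 5) (Steps.bwd (nat_lit 4) (Steps.bwd (nat_lit 6) Steps.nil)))))) (nat_lit 24) (nat_lit 6),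
  Rule.mk (nat_lit 3) (nat_lit 34) (Steps.bwd (nat_lit 5) (Steps.bwd (nat_lit 3) (Steps.bwd (nat_lit 5) Steps.nil))) (nat_lit 16) (nat_lit 1),
  Rule.mk (nat_lit 6) (nat_lit 142) (Steps.bwd (nat_lit 1) (Steps.fwd (nat_lit 2560) (Steps.fwd (nat_lit 3072) (Steps.fwd (nat_lit 512) (Steps.fwd (nat_lit 2560) (Steps.bwd (nat_lit 6) (Steps.fwd (nat_lit 2560) (Steps.bwd (nat_lit 1) (Steps.fwd (nat_lit 3072) (Steps.fwd (nat_lit 2560) (Steps.fwd (nat_lit 512) (Steps.fwd (nat_lit 3072) (Steps.bwd (nat_lit 1) (Steps.fwd (nat_lit 1536) (Steps.bwd (nat_lit 5) Steps.nil))))))))))))))) (nat_lit 28) (nat_lit 4),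
  Rule.mk (nat_lit 5) (nat_lit 34) (Steps.bwd (nat_lit 3) (Steps.fwd (nat_lit 2560) (Steps.bwd (nat_lit 3) Steps.nil))) (nat_lit 16) (nat_lit 0),
  Rule.mk (nat_lit 6) (nat_lit 142) (Steps.fwd (nat_lit 512) (Steps.bwd (nat_lit 5) (Steps.bwd (nat_lit 6) (Steps.fwd (nat_lit 2560) (Steps.bwd (nat_lit 1) (Steps.bwd (nat_lit 6) (Steps.fwd (nat_lit 2560) (Steps.fwd (nat_lit 512) (Steps.fwd (nat_lit 3072) (Steps.bwd (nat_lit 1) (Steps.bwd (nat_lit 3) (Steps.fwd (nat_lit 2560) (Steps.fwd (nat_lit 3072) (Steps.bwd (nat_lit 1) (Steps.bwd (nat_lit 5) Steps.nil))))))))))))))) (nat_lit 28) (nat_lit 7),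
  Rule.mk (nat_lit 5) (nat_lit 34) (Steps.bwd (nat_lit 1) (Steps.bwd (nat_lit 5) (Steps.fwd (nat_lit 512) Steps.nil))) (nat_lit 14) (nat_lit 0),
  Rule.mk (nat_lit 3) (nat_lit 61) (Steps.fwd (nat_lit 2048) (Steps.bwd (nat_lit 5) (Steps.bwd (nat_lit 4) (Steps.bwd (nat_lit 6) (Steps.bwd (nat_lit 5) (Steps.fwd (nat_lit 3072) Steps.nil)))))) (nat_lit 24) (nat_lit 1),
  Rule.mk (nat_lit 6) (nat_lit 61) (Steps.bwd (nat_lit 5) (Steps.bwd (nat_lit 6) (Steps.bwd (nat_lit 3) (Steps.fwd (nat_lit 2048) (Steps.fwd (nat_lit 2560) (Steps.bwd (nat_lit 4) Steps.nil)))))) (nat_lit 24) (nat_lit 5),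
  Rule.mk (nat_lit 4) (nat_lit 61) (Steps.bwd (nat_lit 5) (Steps.fwd (nat_lit 2048) (Steps.bwd (nat_lit 6) (Steps.fwd (nat_lit 2560) (Steps.fwd (nat_lit 3072) (Steps.bwd (nat_lit 3) Steps.nil)))))) (nat_lit 24) (nat_lit 2),
  Rule.mk (nat_lit 3) (nat_lit 61) (Steps.bwd (nat_lit 6) (Steps.bwd (nat_lit 5) (Steps.fwd (nat_lit 3072) (Steps.fwd (nat_lit 2048) (Steps.fwd (nat_lit 2560) (Steps.bwd (nat_lit 4) Steps.nil)))))) (nat_lit 25) (nat_lit 0),
  Rule.mk (nat_lit 2) (nat_lit 25) (Steps.bwd (nat_lit 2) (Steps.fwd (nat_lit 512) Steps.nil)) (nat_lit 3) (nat_lit 0),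
  Rule.mk (nat_lit 1) (nat_lit 25) (Steps.bwd (nat_lit 1) (Steps.fwd (nat_lit 1024) Steps.nil)) (nat_lit 2) (nat_lit 0),
  Rule.mk (nat_lit 5) (nat_lit 34) (Steps.bwd (nat_lit 1) (Steps.bwd (nat_lit 5) (Steps.bwd (nat_lit 2) Steps.nil))) (nat_lit 14) (nat_lit 0),
  Rule.mk (nat_lit 2) (nat_lit 106) (Steps.bwd (nat_lit 4) (Steps.fwd (nat_lit 512) (Steps.fwd (nat_lit 3072) (Steps.bwd (nat_lit 1) (Steps.fwd (nat_lit 2048) (Steps.bwd (nat_lit 1) (Steps.bwd (nat_lit 4) (Steps.fwd (nat_lit 512) (Steps.bwd (nat_lit 6) (Steps.bwd (nat_lit 1) (Steps.fwd (nat_lit 2048) Steps.nil))))))))))) (nat_lit 26) (nat_lit 9),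
  Rule.mk (nat_lit 2) (nat_lit 97) (Steps.bwd (nat_lit 4) (Steps.bwd (nat_lit 1) (Steps.bwd (nat_lit 3) (Steps.fwd (nat_lit 2048) (Steps.bwd (nat_lit 1) (Steps.fwd (nat_lit 2048) (Steps.bwd (nat_lit 2) (Steps.bwd (nat_lit 4) (Steps.bwd (nat_lit 1) (Steps.fwd (nat_lit 2048) Steps.nil)))))))))) (nat_lit 10) (nat_lit 10),
  Rule.mk (nat_lit 3) (nat_lit 97) (Steps.bwd (nat_lit 2) (Steps.bwd (nat_lit 4) (Steps.bwd (nat_lit 1) (Steps.fwd (nat_lit 2048) (Steps.bwd (nat_lit 2) (Steps.bwd (nat_lit 4) (Steps.bwd (nat_lit 1) (Steps.fwd (nat_lit 2048) (Steps.fwd (nat_lit 512) (Steps.fwd (nat_lit 2048) Steps.nil)))))))))) (nat_lit 11) (nat_lit 10),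
  Rule.mk (nat_lit 2) (nat_lit 97) (Steps.bwd (nat_lit 4) (Steps.bwd (nat_lit 1) (Steps.bwd (nat_lit 4) (Steps.fwd (nat_lit 512) (Steps.fwd (nat_lit 2048) (Steps.fwd (nat_lit 1024) (Steps.bwd (nat_lit 4) (Steps.fwd (nat_lit 512) (Steps.fwd (nat_lit 2048) (Steps.fwd (nat_lit 1536) Steps.nil)))))))))) (nat_lit 11) (nat_lit 0),
  Rule.mk (nat_lit 4) (nat_lit 97) (Steps.bwd (nat_lit 3) (Steps.bwd (nat_lit 2) (Steps.bwd (nat_lit 4) (Steps.bwd (nat_lit 1) (Steps.fwd (nat_lit 2048) (Steps.fwd (nat_lit 512) (Steps.fwd (nat_lit 2048) (Steps.fwd (nat_lit 1024) (Steps.bwd (nat_lit 4) (Steps.fwd (nat_lit 512) Steps.nil)))))))))) (nat_lit 11) (nat_lit 9),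
  Rule.mk (nat_lit 4) (nat_lit 88) (Steps.bwd (nat_lit 1) (Steps.fwd (nat_lit 2048) (Steps.bwd (nat_lit 1) (Steps.fwd (nat_lit 2048) (Steps.fwd (nat_lit 1024) (Steps.bwd (nat_lit 4) (Steps.bwd (nat_lit 1) (Steps.bwd (nat_lit 4) (Steps.fwd (nat_lit 1024) Steps.nil))))))))) (nat_lit 8) (nat_lit 0),
  Rule.mk (nat_lit 4) (nat_lit 88) (Steps.bwd (nat_lit 1) (Steps.fwd (nat_lit 2048) (Steps.fwd (nat_lit 1024) (Steps.fwd (nat_lit 2048) (Steps.fwd (nat_lit 1024) (Steps.bwd (nat_lit 4) (Steps.bwd (nat_lit 1) (Steps.bwd (nat_lit 4) (Steps.bwd (nat_lit 1) Steps.nil))))))))) (nat_lit 8) (nat_lit 0),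
  Rule.mk (nat_lit 4) (nat_lit 88) (Steps.bwd (nat_lit 1) (Steps.bwd (nat_lit 4) (Steps.bwd (nat_lit 1) (Steps.fwd (nat_lit 2048) (Steps.bwd (nat_lit 1) (Steps.bwd (nat_lit 4) (Steps.bwd (nat_lit 1) (Steps.fwd (nat_lit 2048) (Steps.bwd (nat_lit 1) Steps.nil))))))))) (nat_lit 8) (nat_lit 0),
  Rule.mk (nat_lit 4) (nat_lit 61) (Steps.bwd (nat_lit 5) (Steps.fwd (nat_lit 2048) (Steps.bwd (nat_lit 6) (Steps.bwd (nat_lit 5) (Steps.fwd (nat_lit 3072) (Steps.fwd (nat_lit 1536) Steps.nil)))))) (nat_lit 24) (nat_lit 2),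
  Rule.mk (nat_lit 6) (nat_lit 61) (Steps.fwd (nat_lit 2048) (Steps.fwd (nat_lit 2560) (Steps.bwd (nat_lit 4) (Steps.bwd (nat_lit 3) (Steps.fwd (nat_lit 3072) (Steps.fwd (nat_lit 2560) Steps.nil)))))) (nat_lit 25) (nat_lit 3),
  Rule.mk (nat_lit 1) (nat_lit 106) (Steps.fwd (nat_lit 2048) (Steps.fwd (nat_lit 2560) (Steps.bwd (nat_lit 4) (Steps.bwd (nat_lit 1) (Steps.fwd (nat_lit 2048) (Steps.fwd (nat_lit 2560) (Steps.bwd (nat_lit 4) (Steps.bwd (nat_lit 1) (Steps.fwd (nat_lit 2048) (Steps.bwd (nat_lit 5) (Steps.bwd (nat_lit 4) Steps.nil))))))))))) (nat_lit 18) (nat_lit 1),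
  Rule.mk (nat_lit 2) (nat_lit 34) (Steps.fwd (nat_lit 2560) (Steps.bwd (nat_lit 1) (Steps.bwd (nat_lit 5) Steps.nil))) (nat_lit 14) (nat_lit 3),
  Rule.mk (nat_lit 6) (nat_lit 61) (Steps.bwd (nat_lit 3) (Steps.bwd (nat_lit 4) (Steps.fwd (nat_lit 2560) (Steps.fwd (nat_lit 2048) (Steps.fwd (nat_lit 3072) (Steps.fwd (nat_lit 2560) Steps.nil)))))) (nat_lit 24) (nat_lit 0),
  Rule.mk (nat_lit 5) (nat_lit 61) (Steps.bwd (nat_lit 4) (Steps.fwd (nat_lit 3072) (Steps.fwd (nat_lit 2560) (Steps.fwd (nat_lit 3072) (Steps.fwd (nat_lit 1536) (Steps.fwd (nat_lit 2048) Steps.nil)))))) (nat_lit 24) (nat_lit 3),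
  Rule.mk (nat_lit 3) (nat_lit 61) (Steps.bwd (nat_lit 4) (Steps.fwd (nat_lit 2560) (Steps.fwd (nat_lit 2048) (Steps.fwd (nat_lit 3072) (Steps.fwd (nat_lit 2560) (Steps.fwd (nat_lit 3072) Steps.nil)))))) (nat_lit 24) (nat_lit 1),
  Rule.mk (nat_lit 1) (nat_lit 106) (Steps.fwd (nat_lit 2048) (Steps.bwd (nat_lit 5) (Steps.bwd (nat_lit 4) (Steps.bwd (nat_lit 1) (Steps.bwd (nat_lit 4) (Steps.fwd (nat_lit 2560) (Steps.fwd (nat_lit 2048) (Steps.bwd (nat_lit 1) (Steps.bwd (nat_lit 4) (Steps.bwd (nat_lit 5) (Steps.fwd (nat_lit 2048) Steps.nil))))))))))) (nat_lit 18) (nat_lit 1),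
  Rule.mk (nat_lit 1) (nat_lit 106) (Steps.bwd (nat_lit 4) (Steps.fwd (nat_lit 2560) (Steps.fwd (nat_lit 2048) (Steps.bwd (nat_lit 1) (Steps.fwd (nat_lit 2048) (Steps.bwd (nat_lit 5) (Steps.fwd (nat_lit 2048) (Steps.fwd (nat_lit 1024) (Steps.bwd (nat_lit 4) (Steps.bwd (nat_lit 5) (Steps.fwd (nat_lit 2048) Steps.nil))))))))))) (nat_lit 18) (nat_lit 1),
  Rule.mk (nat_lit 2) (nat_lit 106) (Steps.fwd (nat_lit 2048) (Steps.bwd (nat_lit 2) (Steps.fwd (nat_lit 3072) (Steps.bwd (nat_lit 1) (Steps.fwd (nat_lit 2048) (Steps.bwd (nat_lit 1) (Steps.bwd (nat_lit 4) (Steps.fwd (nat_lit 512) (Steps.fwd (nat_lit 3072) (Steps.fwd (nat_lit 1024) (Steps.fwd (nat_lit 2048) Steps.nil))))))))))) (nat_lit 26) (nat_lit 9),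
  Rule.mk (nat_lit 0) (nat_lit 115) (Steps.fwd (nat_lit 1024) (Steps.bwd (nat_lit 4) (Steps.fwd (nat_lit 512) (Steps.bwd (nat_lit 6) (Steps.bwd (nat_lit 1) (Steps.bwd (nat_lit 4) (Steps.bwd (nat_lit 2) (Steps.bwd (nat_lit 4) (Steps.fwd (nat_lit 512) (Steps.fwd (nat_lit 3072) (Steps.fwd (nat_lit 1024) (Steps.fwd (nat_lit 2048) Steps.nil)))))))))))) (nat_lit 26) (nat_lit 2),
  Rule.mk (nat_lit 0) (nat_lit 43) (Steps.fwd (nat_lit 1024) (Steps.bwd (nat_lit 0) (Steps.bwd (nat_lit 2) (Steps.fwd (nat_lit 0) Steps.nil)))) (nat_lit 52) (nat_lit 0),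
  Rule.mk (nat_lit 0) (nat_lit 43) (Steps.fwd (nat_lit 2048) (Steps.bwd (nat_lit 0) (Steps.bwd (nat_lit 4) (Steps.fwd (nat_lit 0) Steps.nil)))) (nat_lit 52) (nat_lit 0),
  Rule.mk (nat_lit 5) (nat_lit 25) (Steps.bwd (nat_lit 0) (Steps.bwd (nat_lit 5) Steps.nil)) (nat_lit 52) (nat_lit 0),
  Rule.mk (nat_lit 2) (nat_lit 25) (Steps.bwd (nat_lit 0) (Steps.fwd (nat_lit 1024) Steps.nil)) (nat_lit 52) (nat_lit 0)]
noncomputable def R_1 : List (Rule) := [Rule.mk (nat_lit 3) (nat_lit 25) (Steps.bwd (nat_lit 0) (Steps.bwd (nat_lit 3) Steps.nil)) (nat_lit 52) (nat_lit 0),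
  Rule.mk (nat_lit 0) (nat_lit 34) (Steps.bwd (nat_lit 6) (Steps.fwd (nat_lit 0) (Steps.bwd (nat_lit 6) Steps.nil))) (nat_lit 52) (nat_lit 0),
  Rule.mk (nat_lit 4) (nat_lit 25) (Steps.bwd (nat_lit 0) (Steps.fwd (nat_lit 2048) Steps.nil)) (nat_lit 52) (nat_lit 0),
  Rule.mk (nat_lit 0) (nat_lit 34) (Steps.bwd (nat_lit 5) (Steps.bwd (nat_lit 0) (Steps.fwd (nat_lit 2560) Steps.nil))) (nat_lit 52) (nat_lit 0),
  Rule.mk (nat_lit 0) (nat_lit 34) (Steps.fwd (nat_lit 3072) (Steps.fwd (nat_lit 0) (Steps.bwd (nat_lit 6) Steps.nil))) (nat_lit 52) (nat_lit 0),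
  Rule.mk (nat_lit 0) (nat_lit 34) (Steps.bwd (nat_lit 1) (Steps.bwd (nat_lit 0) (Steps.fwd (nat_lit 512) Steps.nil))) (nat_lit 52) (nat_lit 0),
  Rule.mk (nat_lit 0) (nat_lit 34) (Steps.fwd (nat_lit 512) (Steps.fwd (nat_lit 0) (Steps.bwd (nat_lit 1) Steps.nil))) (nat_lit 52) (nat_lit 0),
  Rule.mk (nat_lit 3) (nat_lit 25) (Steps.bwd (nat_lit 0) (Steps.fwd (nat_lit 1536) Steps.nil)) (nat_lit 52) (nat_lit 0),
  Rule.mk (nat_lit 0) (nat_lit 34) (Steps.fwd (nat_lit 2560) (Steps.fwd (nat_lit 0) (Steps.bwd (nat_lit 5) Steps.nil))) (nat_lit 52) (nat_lit 0),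
  Rule.mk (nat_lit 0) (nat_lit 43) (Steps.fwd (nat_lit 1024) (Steps.fwd (nat_lit 0) (Steps.fwd (nat_lit 512) (Steps.fwd (nat_lit 0) Steps.nil)))) (nat_lit 52) (nat_lit 0),
  Rule.mk (nat_lit 4) (nat_lit 25) (Steps.bwd (nat_lit 0) (Steps.bwd (nat_lit 4) Steps.nil)) (nat_lit 52) (nat_lit 0),
  Rule.mk (nat_lit 2) (nat_lit 25) (Steps.bwd (nat_lit 0) (Steps.bwd (nat_lit 1) Steps.nil)) (nat_lit 52) (nat_lit 0),
  Rule.mk (nat_lit 0) (nat_lit 34) (Steps.fwd (nat_lit 2560) (Steps.fwd (nat_lit 0) (Steps.fwd (nat_lit 2560) Steps.nil))) (nat_lit 52) (nat_lit 0),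
  Rule.mk (nat_lit 0) (nat_lit 34) (Steps.fwd (nat_lit 2048) (Steps.fwd (nat_lit 0) (Steps.bwd (nat_lit 4) Steps.nil))) (nat_lit 52) (nat_lit 0),
  Rule.mk (nat_lit 0) (nat_lit 34) (Steps.bwd (nat_lit 4) (Steps.fwd (nat_lit 0) (Steps.bwd (nat_lit 4) Steps.nil))) (nat_lit 52) (nat_lit 0),
  Rule.mk (nat_lit 6) (nat_lit 142) (Steps.fwd (nat_lit 1024) (Steps.fwd (nat_lit 2560) (Steps.fwd (nat_lit 3072) (Steps.bwd (nat_lit 2) (Steps.fwd (nat_lit 2560) (Steps.fwd (nat_lit 3072) (Steps.fwd (nat_lit 2560) (Steps.bwd (nat_lit 1) (Steps.fwd (nat_lit 3072) (Steps.fwd (nat_lit 2560) (Steps.bwd (nat_lit 2) (Steps.bwd (nat_lit 6) (Steps.fwd (nat_lit 1024) (Steps.fwd (nat_lit 1536) (Steps.fwd (nat_lit 2560) Steps.nil))))))))))))))) (nat_lit 28) (nat_lit 4),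
  Rule.mk (nat_lit 4) (nat_lit 97) (Steps.bwd (nat_lit 1) (Steps.fwd (nat_lit 2048) (Steps.fwd (nat_lit 512) (Steps.fwd (nat_lit 2048) (Steps.bwd (nat_lit 1) (Steps.fwd (nat_lit 1536) (Steps.bwd (nat_lit 4) (Steps.bwd (nat_lit 1) (Steps.bwd (nat_lit 4) (Steps.fwd (nat_lit 512) Steps.nil)))))))))) (nat_lit 10) (nat_lit 7),
  Rule.mk (nat_lit 6) (nat_lit 106) (Steps.bwd (nat_lit 1) (Steps.fwd (nat_lit 2048) (Steps.fwd (nat_lit 512) (Steps.fwd (nat_lit 2048) (Steps.fwd (nat_lit 512) (Steps.fwd (nat_lit 3072) (Steps.bwd (nat_lit 1) (Steps.bwd (nat_lit 4) (Steps.bwd (nat_lit 1) (Steps.bwd (nat_lit 4) (Steps.fwd (nat_lit 512) Steps.nil))))))))))) (nat_lit 26) (nat_lit 6),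
  Rule.mk (nat_lit 3) (nat_lit 34) (Steps.bwd (nat_lit 2) (Steps.bwd (nat_lit 3) (Steps.fwd (nat_lit 512) Steps.nil))) (nat_lit 5) (nat_lit 1),
  Rule.mk (nat_lit 4) (nat_lit 97) (Steps.bwd (nat_lit 2) (Steps.fwd (nat_lit 2048) (Steps.fwd (nat_lit 1024) (Steps.fwd (nat_lit 1536) (Steps.fwd (nat_lit 2048) (Steps.bwd (nat_lit 1) (Steps.bwd (nat_lit 4) (Steps.bwd (nat_lit 2) (Steps.bwd (nat_lit 4) (Steps.fwd (nat_lit 1024) Steps.nil)))))))))) (nat_lit 10) (nat_lit 9),
  Rule.mk (nat_lit 1) (nat_lit 34) (Steps.bwd (nat_lit 5) (Steps.bwd (nat_lit 2) (Steps.bwd (nat_lit 5) Steps.nil))) (nat_lit 14) (nat_lit 1),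
  Rule.mk (nat_lit 6) (nat_lit 142) (Steps.bwd (nat_lit 5) (Steps.bwd (nat_lit 2) (Steps.fwd (nat_lit 3072) (Steps.fwd (nat_lit 1024) (Steps.fwd (nat_lit 1536) (Steps.bwd (nat_lit 5) (Steps.fwd (nat_lit 3072) (Steps.fwd (nat_lit 1024) (Steps.fwd (nat_lit 2560) (Steps.fwd (nat_lit 3072) (Steps.bwd (nat_lit 2) (Steps.fwd (nat_lit 2560) (Steps.bwd (nat_lit 6) (Steps.bwd (nat_lit 5) (Steps.bwd (nat_lit 1) Steps.nil))))))))))))))) (nat_lit 28) (nat_lit 13),
  Rule.mk (nat_lit 6) (nat_lit 142) (Steps.bwd (nat_lit 2) (Steps.bwd (nat_lit 5) (Steps.bwd (nat_lit 6) (Steps.bwd (nat_lit 5) (Steps.bwd (nat_lit 1) (Steps.fwd (nat_lit 3072) (Steps.fwd (nat_lit 2560) (Steps.bwd (nat_lit 2) (Steps.fwd (nat_lit 3072) (Steps.fwd (nat_lit 1024) (Steps.bwd (nat_lit 3) (Steps.fwd (nat_lit 2560) (Steps.fwd (nat_lit 3072) (Steps.bwd (nat_lit 1) (Steps.bwd (nat_lit 5) Steps.nil))))))))))))))) (nat_lit 28) (nat_lit 7),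
  Rule.mk (nat_lit 6) (nat_lit 34) (Steps.bwd (nat_lit 4) (Steps.fwd (nat_lit 3072) (Steps.fwd (nat_lit 2048) Steps.nil))) (nat_lit 22) (nat_lit 0),
  Rule.mk (nat_lit 5) (nat_lit 61) (Steps.bwd (nat_lit 4) (Steps.fwd (nat_lit 3072) (Steps.bwd (nat_lit 5) (Steps.fwd (nat_lit 3072) (Steps.fwd (nat_lit 1536) (Steps.fwd (nat_lit 2048) Steps.nil)))))) (nat_lit 24) (nat_lit 3),
  Rule.mk (nat_lit 3) (nat_lit 61) (Steps.bwd (nat_lit 4) (Steps.bwd (nat_lit 5) (Steps.fwd (nat_lit 2048) (Steps.fwd (nat_lit 3072) (Steps.fwd (nat_lit 2560) (Steps.fwd (nat_lit 3072) Steps.nil)))))) (nat_lit 24) (nat_lit 1),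
  Rule.mk (nat_lit 1) (nat_lit 88) (Steps.bwd (nat_lit 4) (Steps.bwd (nat_lit 1) (Steps.fwd (nat_lit 2048) (Steps.bwd (nat_lit 1) (Steps.fwd (nat_lit 2048) (Steps.fwd (nat_lit 1024) (Steps.bwd (nat_lit 4) (Steps.fwd (nat_lit 1024) (Steps.fwd (nat_lit 2048) Steps.nil))))))))) (nat_lit 8) (nat_lit 1),
  Rule.mk (nat_lit 2) (nat_lit 88) (Steps.bwd (nat_lit 4) (Steps.fwd (nat_lit 512) (Steps.fwd (nat_lit 2048) (Steps.fwd (nat_lit 512) (Steps.fwd (nat_lit 2048) (Steps.fwd (nat_lit 512) (Steps.bwd (nat_lit 4) (Steps.bwd (nat_lit 2) (Steps.bwd (nat_lit 4) Steps.nil))))))))) (nat_lit 9) (nat_lit 0)]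
noncomputable def R : List (List (Rule)) := [R_0, R_1]
def LW : List Word := [[], [0], [1], [2], [4], [6], [8], [0], [1], [2], [3], [4], [5], [6], [7]]
def par : Par := ⟨9, 4, 13, 22, 511, 8191, 4194303⟩
theorem hpar : par.ok := by decide
theorem hR0_0 : lall (R) (fun l => lall l (ruleOK rels LW par)) = true := by decide +kernel
theorem hR0 : lall (R) (fun l => lall l (ruleOK rels LW par)) = true := hR0_0
theorem hR : RulesOK rels LW par R := rulesOK_of rfl hR0
def cols : List (ℕ × ℕ) := [(512, 2), (1536, 3), (2048, 4), (2560, 5), (3072, 6)]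
theorem hcols : lall cols (colOK rels LW par) = true := by decide +kernel
noncomputable def JS0 : List ℕ := [nat_lit 0x448678224b23904803e3a3e008f8e00c00033600010f888480a12c8a041e000d0047a0a1e808060b018ecc800763a30001c97001048e490b0542c122210074588046228e800382a3922118843e1c14008ec724c76380e001c07018e4704874051c911c018704070041c0f1e02478051c8e070e400371a38028e000391b8c008dc063a000e878091e0e858e40436000d808081d8e450d4063b058241609058ec063512361b8d44004701c6c011b06008d86a146a011a841a8086a010000418d004010100c680866011981,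
  nat_lit 0x6c34032501092d8920024b500864104d038340a060406402d08e482681c300066590c86890002332239348c209e01010104a312912c8ec40c46500831174940524824024660462287260b4ba4a00928b40022af2c92400492e0b09a460111570008e20230048a4c1596c90b48e5a1512c88002287c8c0158440f11400450f970104a21ab22078462930098c0291187888a8024722a9009114118889cb045220f0013c46592a9193028940c250088894980c26060884348562910c000929a323840842026052104269248488001029880aa1f2b89c48572b080a64800a107008828004412012000301a502987ca824109503e1c0a008807c8c011f84,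
  nat_lit 0x460a967c04c11f0286f250809987f048d2691c1130d808967e0387e3814880612ca05819f8480b20660618491f01641e008778e3d018fa31740c5c8a5a02812204c090cb40406c22b00e0810050010027e00290041cf8000200005e830105307034347236950065000bc0581ca40d061701c0f028009eec0600018f2608cae122b170140b2b88c98e8104e03880305d0d98896012639029349c5510929c128964e1007c92dc1600248d,
  nat_lit 0x12020131a84d244b039dee01cf04707128f20a019dad810ec03031d8eb681006011d40674b273011cec008ea1ce4014425cc4643081d329b31a5d108739d70021884953198130074d258b65c211c8e3590a713855380fc0e0a1602816071f9c2a1c07a6fa66f2021c102a158a81087201be91b87e86038445207430fcdd44944c43a18048a4a97cc05923808a04926d01c00e01f407310005987e034c460204f3cb008394e]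
theorem S0_c : blocks (facts 9 4 13 22 511 8191 4194303 9 511 7 127 A R 32) 32 JS0 307 = true := by decide +kernel
theorem S0 : On (Step.{u} rels LW par A) 307 435 :=
  steps_of_blocks hpar hR S0_c (by decide +kernel)
theorem D0_c : allB (defOK 9 13 22 511 4194303 304 A K) 1 2 = true := by decide +kernel
theorem D0 : On (fun r => defOK par.W par.WL par.E par.mW par.mE 304 A K r = true) 256 384 :=
  On.of_allB D0_c
noncomputable def JW0 : List ℕ := [nat_lit 0x8614841150840990b4201d0a02e07c300b4220c8c8328cc50cd431947510cf2b1352a8a90651b14c62198692f0be100420ed374d0b02a10e500c43494534541308b13053e3a159558ae0d4ad54d46378e1355492acc00e51a2fc4c1604b575583c0af0dd36554d337ce3398c355ce4530e95495b3acef57d483c4e511d5c551613a8ec39cf4569633d95e3e160588f259cfc3f8fa591664010241106,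
  nat_lit 0x910a0a82c43420079090701a]
theorem W0_c : blocks (rows 9 4 13 22 511 8191 4194303 10 1023 50 A 435 27 cols 25) 25 JW0 0 = true := by decide +kernel
theorem W0 : On (Row.{u} rels LW par A 435 27 cols) 0 50 :=
  rows_of_blocks hpar (by decide) hcols W0_c (by decide +kernel)
theorem idx : Idx.{u} rels [[0], [2], [4], [6], [8]] [[0], [2], [4], [6]] 27 :=
  idx_of_cert hpar hR (K := K) (by decide +kernel) (T := 304) (T' := 384) (by decide) D0
    (subs := [1,3,4,5]) (by decide +kernel) (T1 := 307) (by decide) (N := 435) S0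
    (by decide) (n' := 50) (by decide) W0 (by decide +kernel) (by decide +kernel)
end T2
theorem b2 : Bound.{u} rels [[0], [2], [4], [6], [8]] 25920 := .of_idx T2.idx b3 (by decide)
namespace T1
noncomputable def A_0 : List (ℕ) := [nat_lit 0x1010402e30b8646190ccc3313984e203080426108a082810904e0f386c5240d8a00561380ae1b014c3402a85c40f08841e0e38642e30b828e140f10280f011c1c2038282070c80a41701281c40703860e0a00a00701201c0248280450980a84921242c20b07821e0b00980d10343c02884c213068096130138260278a0c282b18ac21215cac12b954256141c663210cc522190a485310144e1a109c50113884a28100c502f38842a1108b842f11085c47386c4a20d8744250e90444e3944a040f12ca4f09889e4e093c9a52712c64e06849a1611309270c8504190808281020589252505c64a070c924511242e60b838a1708882e4808381412411864707888c1a203c1660784460f0d0c2a12306826306830c1504182208282016505814c050494240b204818309048212021c16120110885048186090484120a181c1601f810a040480860318100620200820403808403280c02500808a0202007a0300f00201c00803a0100763d01040a502814605040c1644390c1642210ca442204880c103014321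034a13218c0c06081886221828813049c240720340c506018e0c1d84820438fc7a70582040b0288100520147a301810a3d01047a3c1810782020e843c1d0c740218087061d8e4c3a01100401180402400804401001800002800004000006000004003738d86c61588ce301818443438b45a40f8d422a1588381f38a8541160b0c1d0e18203120944c70c0908170c181c570954ac4141548472a108a3310a46471394ce0f149c342718845020d0842201788442e38804010a86c41d129c2e2238543a708948e0e28883c1e384ca070513c64d2708264d092c9872592c20d0c88201439142c706840e0725048c49101c2e22383820a24148e4710448c52291420707940e1a28542a408844a0a220c184320f426604828c0409107e0920108461e034c060398060c20200c4019042402004763f10f87c71d02c405041c060538087a10181043a1e14060308087641d0e8a021c907002300470500804e00,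
  nat_lit 0x1b8c6e3728dc6e61b8dc8371b886e3610d86c31b0d8a361b106c2328c046316858c230e104623108c5a1168ac82b1a906a3408d0602180d06301610603428b45261a0a88340f185a2b18ac3e30e0d4c35159c6a3528d46a31a8b02351594561f10ac3e50f850c1f0e083e2c18a8366150a8a2a0e1c582c28b03850e0c4231188c622628c4487188c4c31130c4c1e28583261309882613084c1818603010c09062412044818289048612060818148c441618783240c8646190a0c202518943630e8cc833170c663218bc644178b8a3217946629288832512874a1412984a2f30bc365080b882e]
noncomputable def A : List (List (ℕ)) := [A_0]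
noncomputable def K_0 : List (ℕ) := [nat_lit 0xa35168943a04d26731984be5d2d9649e4d2391486411b8d456210f87436130782c120701ab556a152a150695539dceaa34ca7d367f3d9f5266f48aa4da7939a74ca6b4b9c47a574792ca63b2a8cc5e39288fc922912864622d0b89c4615088340a0000]
noncomputable def K : List (List (ℕ)) := [K_0]
noncomputable def R_0 : List (Rule) := [Rule.mk (nat_lit 2) (nat_lit 38) (Steps.bwd (nat_lit 7) (Steps.bwd (nat_lit 1) (Steps.fwd (nat_lit 3584) Steps.nil))) (nat_lit 32) (nat_lit 3),
  Rule.mk (nat_lit 4) (nat_lit 38) (Steps.bwd (nat_lit 7) (Steps.fwd (nat_lit 2048) (Steps.fwd (nat_lit 3584) Steps.nil))) (nat_lit 34) (nat_lit 1),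
  Rule.mk (nat_lit 3) (nat_lit 108) (Steps.fwd (nat_lit 2048) (Steps.fwd (nat_lit 1024) (Steps.fwd (nat_lit 2048) (Steps.bwd (nat_lit 2) (Steps.fwd (nat_lit 2048) (Steps.fwd (nat_lit 1024) (Steps.fwd (nat_lit 2048) (Steps.bwd (nat_lit 2) (Steps.fwd (nat_lit 2048) (Steps.fwd (nat_lit 1024) Steps.nil)))))))))) (nat_lit 10) (nat_lit 2),
  Rule.mk (nat_lit 4) (nat_lit 38) (Steps.bwd (nat_lit 6) (Steps.fwd (nat_lit 2048) (Steps.fwd (nat_lit 3072) Steps.nil))) (nat_lit 22) (nat_lit 1),
  Rule.mk (nat_lit 6) (nat_lit 68) (Steps.bwd (nat_lit 5) (Steps.bwd (nat_lit 6) (Steps.fwd (nat_lit 1536) (Steps.fwd (nat_lit 2048) (Steps.fwd (nat_lit 2560) (Steps.fwd (nat_lit 2048) Steps.nil)))))) (nat_lit 24) (nat_lit 5),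
  Rule.mk (nat_lit 6) (nat_lit 38) (Steps.bwd (nat_lit 4) (Steps.fwd (nat_lit 3072) (Steps.bwd (nat_lit 4) Steps.nil))) (nat_lit 22) (nat_lit 0),
  Rule.mk (nat_lit 3) (nat_lit 68) (Steps.bwd (nat_lit 6) (Steps.fwd (nat_lit 2560) (Steps.bwd (nat_lit 6) (Steps.bwd (nat_lit 4) (Steps.bwd (nat_lit 5) (Steps.fwd (nat_lit 2048) Steps.nil)))))) (nat_lit 25) (nat_lit 0),
  Rule.mk (nat_lit 3) (nat_lit 38) (Steps.bwd (nat_lit 5) (Steps.fwd (nat_lit 1536) (Steps.fwd (nat_lit 2560) Steps.nil))) (nat_lit 16) (nat_lit 1),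
  Rule.mk (nat_lit 2) (nat_lit 38) (Steps.bwd (nat_lit 5) (Steps.bwd (nat_lit 1) (Steps.fwd (nat_lit 2560) Steps.nil))) (nat_lit 14) (nat_lit 3),
  Rule.mk (nat_lit 2) (nat_lit 28) (Steps.bwd (nat_lit 2) (Steps.bwd (nat_lit 2) Steps.nil)) (nat_lit 3) (nat_lit 0),
  Rule.mk (nat_lit 3) (nat_lit 38) (Steps.bwd (nat_lit 2) (Steps.fwd (nat_lit 1536) (Steps.bwd (nat_lit 2) Steps.nil))) (nat_lit 5) (nat_lit 1),
  Rule.mk (nat_lit 1) (nat_lit 28) (Steps.bwd (nat_lit 1) (Steps.bwd (nat_lit 1) Steps.nil)) (nat_lit 2) (nat_lit 0),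
  Rule.mk (nat_lit 5) (nat_lit 38) (Steps.bwd (nat_lit 1) (Steps.fwd (nat_lit 2560) (Steps.bwd (nat_lit 2) Steps.nil))) (nat_lit 14) (nat_lit 0),
  Rule.mk (nat_lit 3) (nat_lit 38) (Steps.fwd (nat_lit 2560) (Steps.bwd (nat_lit 3) (Steps.bwd (nat_lit 5) Steps.nil))) (nat_lit 16) (nat_lit 1),
  Rule.mk (nat_lit 7) (nat_lit 38) (Steps.bwd (nat_lit 2) (Steps.bwd (nat_lit 7) (Steps.bwd (nat_lit 1) Steps.nil))) (nat_lit 32) (nat_lit 2),
  Rule.mk (nat_lit 7) (nat_lit 38) (Steps.bwd (nat_lit 2) (Steps.bwd (nat_lit 7) (Steps.fwd (nat_lit 1024) Steps.nil))) (nat_lit 32) (nat_lit 2),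
  Rule.mk (nat_lit 7) (nat_lit 38) (Steps.bwd (nat_lit 4) (Steps.bwd (nat_lit 7) (Steps.fwd (nat_lit 2048) Steps.nil))) (nat_lit 34) (nat_lit 0),
  Rule.mk (nat_lit 5) (nat_lit 178) (Steps.bwd (nat_lit 4) (Steps.fwd (nat_lit 1024) (Steps.bwd (nat_lit 7) (Steps.bwd (nat_lit 6) (Steps.bwd (nat_lit 7) (Steps.fwd (nat_lit 3072) (Steps.bwd (nat_lit 1) (Steps.fwd (nat_lit 2048) (Steps.fwd (nat_lit 2560) (Steps.fwd (nat_lit 2048) (Steps.fwd (nat_lit 512) (Steps.fwd (nat_lit 2560) (Steps.fwd (nat_lit 3072) (Steps.fwd (nat_lit 3584) (Steps.fwd (nat_lit 3072) (Steps.fwd (nat_lit 512) (Steps.fwd (nat_lit 2048) Steps.nil))))))))))))))))) (nat_lit 36) (nat_lit 12),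
  Rule.mk (nat_lit 4) (nat_lit 38) (Steps.bwd (nat_lit 6) (Steps.bwd (nat_lit 4) (Steps.fwd (nat_lit 3072) Steps.nil))) (nat_lit 22) (nat_lit 1),
  Rule.mk (nat_lit 7) (nat_lit 38) (Steps.bwd (nat_lit 4) (Steps.fwd (nat_lit 3584) (Steps.fwd (nat_lit 2048) Steps.nil))) (nat_lit 34) (nat_lit 0),
  Rule.mk (nat_lit 2) (nat_lit 118) (Steps.bwd (nat_lit 4) (Steps.fwd (nat_lit 512) (Steps.bwd (nat_lit 6) (Steps.fwd (nat_lit 1024) (Steps.fwd (nat_lit 2048) (Steps.fwd (nat_lit 1024) (Steps.fwd (nat_lit 2048) (Steps.bwd (nat_lit 2) (Steps.fwd (nat_lit 3072) (Steps.bwd (nat_lit 1) (Steps.fwd (nat_lit 2048) Steps.nil))))))))))) (nat_lit 26) (nat_lit 9),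
  Rule.mk (nat_lit 1) (nat_lit 98) (Steps.bwd (nat_lit 4) (Steps.bwd (nat_lit 1) (Steps.fwd (nat_lit 2048) (Steps.bwd (nat_lit 1) (Steps.fwd (nat_lit 2048) (Steps.fwd (nat_lit 1024) (Steps.bwd (nat_lit 4) (Steps.bwd (nat_lit 1) (Steps.fwd (nat_lit 2048) Steps.nil))))))))) (nat_lit 8) (nat_lit 1),
  Rule.mk (nat_lit 3) (nat_lit 108) (Steps.bwd (nat_lit 4) (Steps.bwd (nat_lit 1) (Steps.fwd (nat_lit 2048) (Steps.fwd (nat_lit 512) (Steps.fwd (nat_lit 2048) (Steps.bwd (nat_lit 1) (Steps.bwd (nat_lit 4) (Steps.fwd (nat_lit 512) (Steps.fwd (nat_lit 2048) (Steps.fwd (nat_lit 1024) Steps.nil)))))))))) (nat_lit 10) (nat_lit 2),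
  Rule.mk (nat_lit 5) (nat_lit 68) (Steps.bwd (nat_lit 6) (Steps.bwd (nat_lit 4) (Steps.bwd (nat_lit 5) (Steps.fwd (nat_lit 2048) (Steps.bwd (nat_lit 3) (Steps.fwd (nat_lit 3072) Steps.nil)))))) (nat_lit 25) (nat_lit 2),
  Rule.mk (nat_lit 3) (nat_lit 68) (Steps.bwd (nat_lit 6) (Steps.bwd (nat_lit 5) (Steps.fwd (nat_lit 3072) (Steps.bwd (nat_lit 4) (Steps.bwd (nat_lit 5) (Steps.fwd (nat_lit 2048) Steps.nil)))))) (nat_lit 25) (nat_lit 0),
  Rule.mk (nat_lit 2) (nat_lit 38) (Steps.fwd (nat_lit 2560) (Steps.bwd (nat_lit 1) (Steps.bwd (nat_lit 5) Steps.nil))) (nat_lit 14) (nat_lit 3),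
  Rule.mk (nat_lit 1) (nat_lit 38) (Steps.bwd (nat_lit 3) (Steps.fwd (nat_lit 1024) (Steps.fwd (nat_lit 1536) Steps.nil))) (nat_lit 4) (nat_lit 1),
  Rule.mk (nat_lit 5) (nat_lit 38) (Steps.bwd (nat_lit 3) (Steps.fwd (nat_lit 2560) (Steps.fwd (nat_lit 1536) Steps.nil))) (nat_lit 16) (nat_lit 0),
  Rule.mk (nat_lit 4) (nat_lit 108) (Steps.bwd (nat_lit 1) (Steps.bwd (nat_lit 3) (Steps.bwd (nat_lit 4) (Steps.fwd (nat_lit 1024) (Steps.fwd (nat_lit 2048) (Steps.bwd (nat_lit 2) (Steps.fwd (nat_lit 2048) (Steps.fwd (nat_lit 1024) (Steps.bwd (nat_lit 4) (Steps.bwd (nat_lit 2) Steps.nil)))))))))) (nat_lit 10) (nat_lit 0),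
  Rule.mk (nat_lit 7) (nat_lit 38) (Steps.bwd (nat_lit 4) (Steps.bwd (nat_lit 7) (Steps.bwd (nat_lit 4) Steps.nil))) (nat_lit 34) (nat_lit 0),
  Rule.mk (nat_lit 3) (nat_lit 108) (Steps.bwd (nat_lit 4) (Steps.bwd (nat_lit 1) (Steps.fwd (nat_lit 2048) (Steps.bwd (nat_lit 2) (Steps.fwd (nat_lit 2048) (Steps.fwd (nat_lit 1024) (Steps.bwd (nat_lit 4) (Steps.fwd (nat_lit 512) (Steps.fwd (nat_lit 2048) (Steps.fwd (nat_lit 1024) Steps.nil)))))))))) (nat_lit 10) (nat_lit 2),
  Rule.mk (nat_lit 3) (nat_lit 108) (Steps.fwd (nat_lit 2048) (Steps.fwd (nat_lit 1024) (Steps.bwd (nat_lit 4) (Steps.fwd (nat_lit 512) (Steps.fwd (nat_lit 2048) (Steps.fwd (nat_lit 1024) (Steps.fwd (nat_lit 2048) (Steps.bwd (nat_lit 2) (Steps.bwd (nat_lit 4) (Steps.fwd (nat_lit 1024) Steps.nil)))))))))) (nat_lit 10) (nat_lit 2),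
  Rule.mk (nat_lit 5) (nat_lit 118) (Steps.fwd (nat_lit 2048) (Steps.fwd (nat_lit 1024) (Steps.bwd (nat_lit 4) (Steps.fwd (nat_lit 2560) (Steps.bwd (nat_lit 4) (Steps.bwd (nat_lit 1) (Steps.fwd (nat_lit 2048) (Steps.bwd (nat_lit 5) (Steps.bwd (nat_lit 4) (Steps.fwd (nat_lit 1024) (Steps.fwd (nat_lit 2048) Steps.nil))))))))))) (nat_lit 18) (nat_lit 3),
  Rule.mk (nat_lit 0) (nat_lit 128) (Steps.fwd (nat_lit 512) (Steps.bwd (nat_lit 4) (Steps.bwd (nat_lit 5) (Steps.fwd (nat_lit 2048) (Steps.fwd (nat_lit 512) (Steps.fwd (nat_lit 2048) (Steps.bwd (nat_lit 5) (Steps.bwd (nat_lit 4) (Steps.bwd (nat_lit 2) (Steps.bwd (nat_lit 4) (Steps.fwd (nat_lit 2560) (Steps.bwd (nat_lit 4) Steps.nil)))))))))))) (nat_lit 19) (nat_lit 3),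
  Rule.mk (nat_lit 0) (nat_lit 38) (Steps.bwd (nat_lit 1) (Steps.fwd (nat_lit 0) (Steps.fwd (nat_lit 512) Steps.nil))) (nat_lit 52) (nat_lit 0),
  Rule.mk (nat_lit 0) (nat_lit 38) (Steps.fwd (nat_lit 2048) (Steps.fwd (nat_lit 0) (Steps.fwd (nat_lit 2048) Steps.nil))) (nat_lit 52) (nat_lit 0),
  Rule.mk (nat_lit 0) (nat_lit 38) (Steps.bwd (nat_lit 6) (Steps.fwd (nat_lit 0) (Steps.bwd (nat_lit 6) Steps.nil))) (nat_lit 52) (nat_lit 0),
  Rule.mk (nat_lit 0) (nat_lit 38) (Steps.fwd (nat_lit 1024) (Steps.fwd (nat_lit 0) (Steps.fwd (nat_lit 512) Steps.nil))) (nat_lit 52) (nat_lit 0),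
  Rule.mk (nat_lit 0) (nat_lit 38) (Steps.fwd (nat_lit 512) (Steps.bwd (nat_lit 0) (Steps.fwd (nat_lit 1024) Steps.nil))) (nat_lit 52) (nat_lit 0),
  Rule.mk (nat_lit 5) (nat_lit 28) (Steps.bwd (nat_lit 0) (Steps.bwd (nat_lit 5) Steps.nil)) (nat_lit 52) (nat_lit 0),
  Rule.mk (nat_lit 0) (nat_lit 38) (Steps.bwd (nat_lit 6) (Steps.fwd (nat_lit 0) (Steps.fwd (nat_lit 3072) Steps.nil))) (nat_lit 52) (nat_lit 0),
  Rule.mk (nat_lit 1) (nat_lit 28) (Steps.bwd (nat_lit 0) (Steps.fwd (nat_lit 512) Steps.nil)) (nat_lit 52) (nat_lit 0),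
  Rule.mk (nat_lit 2) (nat_lit 28) (Steps.bwd (nat_lit 0) (Steps.bwd (nat_lit 1) Steps.nil)) (nat_lit 52) (nat_lit 0),
  Rule.mk (nat_lit 3) (nat_lit 28) (Steps.bwd (nat_lit 0) (Steps.bwd (nat_lit 3) Steps.nil)) (nat_lit 52) (nat_lit 0),
  Rule.mk (nat_lit 0) (nat_lit 38) (Steps.bwd (nat_lit 4) (Steps.fwd (nat_lit 0) (Steps.fwd (nat_lit 2048) Steps.nil))) (nat_lit 52) (nat_lit 0),
  Rule.mk (nat_lit 5) (nat_lit 28) (Steps.bwd (nat_lit 0) (Steps.fwd (nat_lit 2560) Steps.nil)) (nat_lit 52) (nat_lit 0),
  Rule.mk (nat_lit 0) (nat_lit 38) (Steps.fwd (nat_lit 3584) (Steps.bwd (nat_lit 0) (Steps.bwd (nat_lit 7) Steps.nil))) (nat_lit 52) (nat_lit 0),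
  Rule.mk (nat_lit 3) (nat_lit 28) (Steps.bwd (nat_lit 0) (Steps.fwd (nat_lit 1536) Steps.nil)) (nat_lit 52) (nat_lit 0),
  Rule.mk (nat_lit 1) (nat_lit 38) (Steps.bwd (nat_lit 0) (Steps.bwd (nat_lit 2) (Steps.fwd (nat_lit 0) Steps.nil))) (nat_lit 52) (nat_lit 0),
  Rule.mk (nat_lit 0) (nat_lit 38) (Steps.bwd (nat_lit 7) (Steps.fwd (nat_lit 0) (Steps.bwd (nat_lit 7) Steps.nil))) (nat_lit 52) (nat_lit 0),
  Rule.mk (nat_lit 7) (nat_lit 28) (Steps.bwd (nat_lit 0) (Steps.fwd (nat_lit 3584) Steps.nil)) (nat_lit 52) (nat_lit 0),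
  Rule.mk (nat_lit 1) (nat_lit 38) (Steps.bwd (nat_lit 0) (Steps.fwd (nat_lit 512) (Steps.fwd (nat_lit 0) Steps.nil))) (nat_lit 52) (nat_lit 0),
  Rule.mk (nat_lit 4) (nat_lit 28) (Steps.bwd (nat_lit 0) (Steps.fwd (nat_lit 2048) Steps.nil)) (nat_lit 52) (nat_lit 0),
  Rule.mk (nat_lit 6) (nat_lit 178) (Steps.bwd (nat_lit 7) (Steps.bwd (nat_lit 6) (Steps.bwd (nat_lit 2) (Steps.fwd (nat_lit 2048) (Steps.fwd (nat_lit 2560) (Steps.fwd (nat_lit 2048) (Steps.fwd (nat_lit 1024) (Steps.bwd (nat_lit 7) (Steps.fwd (nat_lit 3072) (Steps.fwd (nat_lit 3584) (Steps.fwd (nat_lit 3072) (Steps.bwd (nat_lit 1) (Steps.fwd (nat_lit 2048) (Steps.bwd (nat_lit 5) (Steps.fwd (nat_lit 2048) (Steps.bwd (nat_lit 2) (Steps.fwd (nat_lit 2560) Steps.nil))))))))))))))))) (nat_lit 36) (nat_lit 7),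
  Rule.mk (nat_lit 5) (nat_lit 38) (Steps.bwd (nat_lit 2) (Steps.fwd (nat_lit 2560) (Steps.fwd (nat_lit 1024) Steps.nil))) (nat_lit 14) (nat_lit 2),
  Rule.mk (nat_lit 5) (nat_lit 38) (Steps.fwd (nat_lit 1024) (Steps.fwd (nat_lit 2560) (Steps.bwd (nat_lit 2) Steps.nil))) (nat_lit 14) (nat_lit 0),
  Rule.mk (nat_lit 6) (nat_lit 68) (Steps.bwd (nat_lit 5) (Steps.bwd (nat_lit 6) (Steps.fwd (nat_lit 1536) (Steps.fwd (nat_lit 2048) (Steps.bwd (nat_lit 5) (Steps.bwd (nat_lit 4) Steps.nil)))))) (nat_lit 24) (nat_lit 5),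
  Rule.mk (nat_lit 6) (nat_lit 38) (Steps.bwd (nat_lit 4) (Steps.fwd (nat_lit 3072) (Steps.fwd (nat_lit 2048) Steps.nil))) (nat_lit 22) (nat_lit 0),
  Rule.mk (nat_lit 3) (nat_lit 68) (Steps.bwd (nat_lit 6) (Steps.bwd (nat_lit 5) (Steps.bwd (nat_lit 6) (Steps.bwd (nat_lit 4) (Steps.bwd (nat_lit 5) (Steps.bwd (nat_lit 4) Steps.nil)))))) (nat_lit 25) (nat_lit 0),
  Rule.mk (nat_lit 6) (nat_lit 68) (Steps.bwd (nat_lit 5) (Steps.fwd (nat_lit 3072) (Steps.bwd (nat_lit 3) (Steps.fwd (nat_lit 2048) (Steps.fwd (nat_lit 2560) (Steps.bwd (nat_lit 4) Steps.nil)))))) (nat_lit 24) (nat_lit 5),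
  Rule.mk (nat_lit 3) (nat_lit 68) (Steps.bwd (nat_lit 4) (Steps.bwd (nat_lit 5) (Steps.bwd (nat_lit 4) (Steps.bwd (nat_lit 6) (Steps.bwd (nat_lit 5) (Steps.bwd (nat_lit 6) Steps.nil)))))) (nat_lit 24) (nat_lit 1),
  Rule.mk (nat_lit 6) (nat_lit 68) (Steps.bwd (nat_lit 5) (Steps.bwd (nat_lit 6) (Steps.bwd (nat_lit 3) (Steps.fwd (nat_lit 2048) (Steps.bwd (nat_lit 5) (Steps.fwd (nat_lit 2048) Steps.nil)))))) (nat_lit 24) (nat_lit 5),
  Rule.mk (nat_lit 4) (nat_lit 68) (Steps.bwd (nat_lit 5) (Steps.bwd (nat_lit 4) (Steps.bwd (nat_lit 6) (Steps.bwd (nat_lit 5) (Steps.bwd (nat_lit 6) (Steps.fwd (nat_lit 1536) Steps.nil)))))) (nat_lit 24) (nat_lit 2),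
  Rule.mk (nat_lit 3) (nat_lit 38) (Steps.bwd (nat_lit 2) (Steps.bwd (nat_lit 3) (Steps.bwd (nat_lit 2) Steps.nil))) (nat_lit 5) (nat_lit 1)]
noncomputable def R_1 : List (Rule) := [Rule.mk (nat_lit 1) (nat_lit 38) (Steps.bwd (nat_lit 5) (Steps.bwd (nat_lit 2) (Steps.bwd (nat_lit 5) Steps.nil))) (nat_lit 14) (nat_lit 1),
  Rule.mk (nat_lit 5) (nat_lit 38) (Steps.bwd (nat_lit 2) (Steps.fwd (nat_lit 2560) (Steps.bwd (nat_lit 1) Steps.nil))) (nat_lit 14) (nat_lit 2),
  Rule.mk (nat_lit 6) (nat_lit 158) (Steps.fwd (nat_lit 2560) (Steps.bwd (nat_lit 1) (Steps.bwd (nat_lit 6) (Steps.fwd (nat_lit 2560) (Steps.fwd (nat_lit 512) (Steps.bwd (nat_lit 6) (Steps.fwd (nat_lit 1024) (Steps.fwd (nat_lit 1536) (Steps.fwd (nat_lit 2560) (Steps.fwd (nat_lit 3072) (Steps.bwd (nat_lit 1) (Steps.fwd (nat_lit 2560) (Steps.fwd (nat_lit 3072) (Steps.fwd (nat_lit 512) (Steps.bwd (nat_lit 5) Steps.nil))))))))))))))) (nat_lit 28) (nat_lit 10),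
  Rule.mk (nat_lit 2) (nat_lit 28) (Steps.bwd (nat_lit 2) (Steps.fwd (nat_lit 512) Steps.nil)) (nat_lit 3) (nat_lit 0),
  Rule.mk (nat_lit 3) (nat_lit 38) (Steps.bwd (nat_lit 2) (Steps.fwd (nat_lit 1536) (Steps.fwd (nat_lit 512) Steps.nil))) (nat_lit 5) (nat_lit 1),
  Rule.mk (nat_lit 3) (nat_lit 38) (Steps.bwd (nat_lit 1) (Steps.bwd (nat_lit 3) (Steps.fwd (nat_lit 1024) Steps.nil))) (nat_lit 4) (nat_lit 0),
  Rule.mk (nat_lit 5) (nat_lit 38) (Steps.bwd (nat_lit 1) (Steps.bwd (nat_lit 5) (Steps.bwd (nat_lit 2) Steps.nil))) (nat_lit 14) (nat_lit 0),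
  Rule.mk (nat_lit 3) (nat_lit 38) (Steps.bwd (nat_lit 2) (Steps.bwd (nat_lit 3) (Steps.fwd (nat_lit 512) Steps.nil))) (nat_lit 5) (nat_lit 1),
  Rule.mk (nat_lit 1) (nat_lit 38) (Steps.bwd (nat_lit 3) (Steps.bwd (nat_lit 1) (Steps.bwd (nat_lit 3) Steps.nil))) (nat_lit 4) (nat_lit 1),
  Rule.mk (nat_lit 2) (nat_lit 38) (Steps.bwd (nat_lit 3) (Steps.fwd (nat_lit 512) (Steps.fwd (nat_lit 1536) Steps.nil))) (nat_lit 5) (nat_lit 0),
  Rule.mk (nat_lit 5) (nat_lit 38) (Steps.bwd (nat_lit 3) (Steps.bwd (nat_lit 5) (Steps.fwd (nat_lit 1536) Steps.nil))) (nat_lit 16) (nat_lit 0),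
  Rule.mk (nat_lit 4) (nat_lit 38) (Steps.bwd (nat_lit 7) (Steps.bwd (nat_lit 4) (Steps.fwd (nat_lit 3584) Steps.nil))) (nat_lit 34) (nat_lit 1),
  Rule.mk (nat_lit 2) (nat_lit 38) (Steps.bwd (nat_lit 7) (Steps.fwd (nat_lit 1024) (Steps.fwd (nat_lit 3584) Steps.nil))) (nat_lit 32) (nat_lit 3),
  Rule.mk (nat_lit 7) (nat_lit 38) (Steps.bwd (nat_lit 1) (Steps.fwd (nat_lit 3584) (Steps.bwd (nat_lit 2) Steps.nil))) (nat_lit 32) (nat_lit 0),
  Rule.mk (nat_lit 5) (nat_lit 38) (Steps.bwd (nat_lit 2) (Steps.bwd (nat_lit 5) (Steps.bwd (nat_lit 1) Steps.nil))) (nat_lit 14) (nat_lit 2),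
  Rule.mk (nat_lit 1) (nat_lit 118) (Steps.bwd (nat_lit 4) (Steps.bwd (nat_lit 2) (Steps.fwd (nat_lit 3072) (Steps.bwd (nat_lit 1) (Steps.fwd (nat_lit 2048) (Steps.bwd (nat_lit 2) (Steps.fwd (nat_lit 2048) (Steps.bwd (nat_lit 2) (Steps.bwd (nat_lit 6) (Steps.fwd (nat_lit 1024) (Steps.fwd (nat_lit 2048) Steps.nil))))))))))) (nat_lit 26) (nat_lit 3),
  Rule.mk (nat_lit 4) (nat_lit 118) (Steps.bwd (nat_lit 1) (Steps.bwd (nat_lit 4) (Steps.bwd (nat_lit 2) (Steps.fwd (nat_lit 3072) (Steps.fwd (nat_lit 1024) (Steps.fwd (nat_lit 2048) (Steps.bwd (nat_lit 2) (Steps.fwd (nat_lit 2048) (Steps.bwd (nat_lit 2) (Steps.bwd (nat_lit 6) (Steps.bwd (nat_lit 1) Steps.nil))))))))))) (nat_lit 26) (nat_lit 2),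
  Rule.mk (nat_lit 6) (nat_lit 118) (Steps.bwd (nat_lit 1) (Steps.fwd (nat_lit 2048) (Steps.fwd (nat_lit 512) (Steps.bwd (nat_lit 4) (Steps.bwd (nat_lit 2) (Steps.fwd (nat_lit 3072) (Steps.fwd (nat_lit 1024) (Steps.fwd (nat_lit 2048) (Steps.bwd (nat_lit 1) (Steps.bwd (nat_lit 4) (Steps.fwd (nat_lit 512) Steps.nil))))))))))) (nat_lit 26) (nat_lit 6),
  Rule.mk (nat_lit 6) (nat_lit 38) (Steps.fwd (nat_lit 2048) (Steps.fwd (nat_lit 3072) (Steps.bwd (nat_lit 4) Steps.nil))) (nat_lit 22) (nat_lit 0),
  Rule.mk (nat_lit 0) (nat_lit 168) (Steps.fwd (nat_lit 1024) (Steps.fwd (nat_lit 2560) (Steps.bwd (nat_lit 6) (Steps.fwd (nat_lit 512) (Steps.bwd (nat_lit 5) (Steps.bwd (nat_lit 6) (Steps.fwd (nat_lit 2560) (Steps.fwd (nat_lit 1024) (Steps.fwd (nat_lit 3072) (Steps.fwd (nat_lit 2560) (Steps.fwd (nat_lit 512) (Steps.fwd (nat_lit 3072) (Steps.fwd (nat_lit 1024) (Steps.bwd (nat_lit 3) (Steps.fwd (nat_lit 2560) (Steps.fwd (nat_lit 3072) Steps.nil)))))))))))))))) (nat_lit 28) (nat_lit 4),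
  Rule.mk (nat_lit 0) (nat_lit 48) (Steps.bwd (nat_lit 1) (Steps.fwd (nat_lit 0) (Steps.bwd (nat_lit 2) (Steps.fwd (nat_lit 0) Steps.nil)))) (nat_lit 52) (nat_lit 0),
  Rule.mk (nat_lit 0) (nat_lit 38) (Steps.bwd (nat_lit 5) (Steps.fwd (nat_lit 0) (Steps.fwd (nat_lit 2560) Steps.nil))) (nat_lit 52) (nat_lit 0),
  Rule.mk (nat_lit 1) (nat_lit 28) (Steps.bwd (nat_lit 0) (Steps.bwd (nat_lit 2) Steps.nil)) (nat_lit 52) (nat_lit 0),
  Rule.mk (nat_lit 0) (nat_lit 38) (Steps.fwd (nat_lit 3584) (Steps.fwd (nat_lit 0) (Steps.fwd (nat_lit 3584) Steps.nil))) (nat_lit 52) (nat_lit 0),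
  Rule.mk (nat_lit 0) (nat_lit 38) (Steps.bwd (nat_lit 7) (Steps.fwd (nat_lit 0) (Steps.fwd (nat_lit 3584) Steps.nil))) (nat_lit 52) (nat_lit 0),
  Rule.mk (nat_lit 2) (nat_lit 28) (Steps.bwd (nat_lit 0) (Steps.fwd (nat_lit 1024) Steps.nil)) (nat_lit 52) (nat_lit 0),
  Rule.mk (nat_lit 4) (nat_lit 118) (Steps.bwd (nat_lit 2) (Steps.bwd (nat_lit 4) (Steps.bwd (nat_lit 2) (Steps.bwd (nat_lit 6) (Steps.bwd (nat_lit 1) (Steps.bwd (nat_lit 4) (Steps.bwd (nat_lit 1) (Steps.fwd (nat_lit 2048) (Steps.fwd (nat_lit 512) (Steps.fwd (nat_lit 3072) (Steps.fwd (nat_lit 1024) Steps.nil))))))))))) (nat_lit 26) (nat_lit 8),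
  Rule.mk (nat_lit 0) (nat_lit 128) (Steps.bwd (nat_lit 4) (Steps.bwd (nat_lit 1) (Steps.bwd (nat_lit 4) (Steps.bwd (nat_lit 2) (Steps.bwd (nat_lit 6) (Steps.bwd (nat_lit 1) (Steps.bwd (nat_lit 4) (Steps.bwd (nat_lit 2) (Steps.fwd (nat_lit 2048) (Steps.fwd (nat_lit 512) (Steps.fwd (nat_lit 3072) (Steps.bwd (nat_lit 1) Steps.nil)))))))))))) (nat_lit 26) (nat_lit 1),
  Rule.mk (nat_lit 0) (nat_lit 38) (Steps.fwd (nat_lit 512) (Steps.bwd (nat_lit 0) (Steps.bwd (nat_lit 1) Steps.nil))) (nat_lit 52) (nat_lit 0),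
  Rule.mk (nat_lit 0) (nat_lit 38) (Steps.bwd (nat_lit 7) (Steps.bwd (nat_lit 0) (Steps.fwd (nat_lit 3584) Steps.nil))) (nat_lit 52) (nat_lit 0),
  Rule.mk (nat_lit 4) (nat_lit 38) (Steps.bwd (nat_lit 0) (Steps.fwd (nat_lit 2048) (Steps.fwd (nat_lit 0) Steps.nil))) (nat_lit 52) (nat_lit 0),
  Rule.mk (nat_lit 0) (nat_lit 38) (Steps.fwd (nat_lit 2560) (Steps.fwd (nat_lit 0) (Steps.bwd (nat_lit 5) Steps.nil))) (nat_lit 52) (nat_lit 0),
  Rule.mk (nat_lit 0) (nat_lit 38) (Steps.bwd (nat_lit 7) (Steps.bwd (nat_lit 0) (Steps.bwd (nat_lit 7) Steps.nil))) (nat_lit 52) (nat_lit 0),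
  Rule.mk (nat_lit 0) (nat_lit 38) (Steps.fwd (nat_lit 2560) (Steps.fwd (nat_lit 0) (Steps.fwd (nat_lit 2560) Steps.nil))) (nat_lit 52) (nat_lit 0),
  Rule.mk (nat_lit 4) (nat_lit 28) (Steps.bwd (nat_lit 0) (Steps.bwd (nat_lit 4) Steps.nil)) (nat_lit 52) (nat_lit 0),
  Rule.mk (nat_lit 7) (nat_lit 28) (Steps.bwd (nat_lit 0) (Steps.bwd (nat_lit 7) Steps.nil)) (nat_lit 52) (nat_lit 0),
  Rule.mk (nat_lit 0) (nat_lit 38) (Steps.bwd (nat_lit 1) (Steps.fwd (nat_lit 0) (Steps.bwd (nat_lit 2) Steps.nil))) (nat_lit 52) (nat_lit 0),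
  Rule.mk (nat_lit 0) (nat_lit 38) (Steps.fwd (nat_lit 512) (Steps.fwd (nat_lit 0) (Steps.fwd (nat_lit 1024) Steps.nil))) (nat_lit 52) (nat_lit 0),
  Rule.mk (nat_lit 6) (nat_lit 158) (Steps.fwd (nat_lit 512) (Steps.fwd (nat_lit 2560) (Steps.fwd (nat_lit 3072) (Steps.fwd (nat_lit 2560) (Steps.bwd (nat_lit 1) (Steps.fwd (nat_lit 3072) (Steps.fwd (nat_lit 2560) (Steps.bwd (nat_lit 2) (Steps.bwd (nat_lit 6) (Steps.bwd (nat_lit 1) (Steps.bwd (nat_lit 3) (Steps.bwd (nat_lit 5) (Steps.bwd (nat_lit 6) (Steps.fwd (nat_lit 1024) (Steps.fwd (nat_lit 2560) Steps.nil))))))))))))))) (nat_lit 28) (nat_lit 7),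
  Rule.mk (nat_lit 6) (nat_lit 158) (Steps.bwd (nat_lit 1) (Steps.fwd (nat_lit 1536) (Steps.bwd (nat_lit 5) (Steps.fwd (nat_lit 3072) (Steps.fwd (nat_lit 1024) (Steps.fwd (nat_lit 2560) (Steps.fwd (nat_lit 3072) (Steps.bwd (nat_lit 2) (Steps.bwd (nat_lit 5) (Steps.bwd (nat_lit 6) (Steps.bwd (nat_lit 5) (Steps.bwd (nat_lit 1) (Steps.bwd (nat_lit 6) (Steps.bwd (nat_lit 5) (Steps.fwd (nat_lit 512) Steps.nil))))))))))))))) (nat_lit 28) (nat_lit 0),
  Rule.mk (nat_lit 6) (nat_lit 158) (Steps.fwd (nat_lit 2560) (Steps.bwd (nat_lit 1) (Steps.fwd (nat_lit 3072) (Steps.fwd (nat_lit 2560) (Steps.fwd (nat_lit 512) (Steps.fwd (nat_lit 3072) (Steps.bwd (nat_lit 5) (Steps.bwd (nat_lit 3) (Steps.bwd (nat_lit 2) (Steps.bwd (nat_lit 6) (Steps.bwd (nat_lit 1) (Steps.bwd (nat_lit 5) (Steps.bwd (nat_lit 6) (Steps.fwd (nat_lit 512) (Steps.bwd (nat_lit 5) Steps.nil))))))))))))))) (nat_lit 29) (nat_lit 7),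
  Rule.mk (nat_lit 6) (nat_lit 178) (Steps.fwd (nat_lit 3584) (Steps.fwd (nat_lit 3072) (Steps.bwd (nat_lit 1) (Steps.fwd (nat_lit 2048) (Steps.bwd (nat_lit 5) (Steps.fwd (nat_lit 2048) (Steps.bwd (nat_lit 2) (Steps.bwd (nat_lit 5) (Steps.fwd (nat_lit 3072) (Steps.fwd (nat_lit 3584) (Steps.fwd (nat_lit 3072) (Steps.bwd (nat_lit 2) (Steps.fwd (nat_lit 2048) (Steps.fwd (nat_lit 2560) (Steps.fwd (nat_lit 2048) (Steps.fwd (nat_lit 1024) (Steps.bwd (nat_lit 7) Steps.nil))))))))))))))))) (nat_lit 36) (nat_lit 16),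
  Rule.mk (nat_lit 6) (nat_lit 178) (Steps.bwd (nat_lit 7) (Steps.fwd (nat_lit 3072) (Steps.fwd (nat_lit 1024) (Steps.bwd (nat_lit 4) (Steps.bwd (nat_lit 5) (Steps.bwd (nat_lit 4) (Steps.bwd (nat_lit 2) (Steps.bwd (nat_lit 5) (Steps.bwd (nat_lit 6) (Steps.bwd (nat_lit 7) (Steps.bwd (nat_lit 6) (Steps.bwd (nat_lit 2) (Steps.fwd (nat_lit 2048) (Steps.bwd (nat_lit 5) (Steps.fwd (nat_lit 2048) (Steps.bwd (nat_lit 1) (Steps.fwd (nat_lit 3584) Steps.nil))))))))))))))))) (nat_lit 36) (nat_lit 16),
  Rule.mk (nat_lit 6) (nat_lit 118) (Steps.fwd (nat_lit 1024) (Steps.fwd (nat_lit 2048) (Steps.fwd (nat_lit 1024) (Steps.fwd (nat_lit 2048) (Steps.bwd (nat_lit 2) (Steps.fwd (nat_lit 3072) (Steps.fwd (nat_lit 1024) (Steps.bwd (nat_lit 4) (Steps.bwd (nat_lit 2) (Steps.bwd (nat_lit 4) (Steps.bwd (nat_lit 2) Steps.nil))))))))))) (nat_lit 26) (nat_lit 0),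
  Rule.mk (nat_lit 4) (nat_lit 178) (Steps.bwd (nat_lit 5) (Steps.fwd (nat_lit 2048) (Steps.bwd (nat_lit 1) (Steps.fwd (nat_lit 3584) (Steps.fwd (nat_lit 3072) (Steps.bwd (nat_lit 7) (Steps.fwd (nat_lit 3072) (Steps.bwd (nat_lit 1) (Steps.bwd (nat_lit 4) (Steps.bwd (nat_lit 5) (Steps.bwd (nat_lit 4) (Steps.fwd (nat_lit 512) (Steps.fwd (nat_lit 2560) (Steps.bwd (nat_lit 6) (Steps.bwd (nat_lit 7) (Steps.bwd (nat_lit 6) (Steps.fwd (nat_lit 512) Steps.nil))))))))))))))))) (nat_lit 36) (nat_lit 11),
  Rule.mk (nat_lit 5) (nat_lit 178) (Steps.bwd (nat_lit 4) (Steps.fwd (nat_lit 1024) (Steps.bwd (nat_lit 7) (Steps.bwd (nat_lit 6) (Steps.bwd (nat_lit 7) (Steps.bwd (nat_lit 6) (Steps.bwd (nat_lit 1) (Steps.bwd (nat_lit 4) (Steps.fwd (nat_lit 2560) (Steps.fwd (nat_lit 2048) (Steps.fwd (nat_lit 512) (Steps.bwd (nat_lit 5) (Steps.fwd (nat_lit 3072) (Steps.bwd (nat_lit 7) (Steps.fwd (nat_lit 3072) (Steps.bwd (nat_lit 2) (Steps.bwd (nat_lit 4) Steps.nil))))))))))))))))) (nat_lit 36) (nat_lit 12),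
  Rule.mk (nat_lit 6) (nat_lit 178) (Steps.bwd (nat_lit 7) (Steps.fwd (nat_lit 3072) (Steps.bwd (nat_lit 1) (Steps.fwd (nat_lit 2048) (Steps.bwd (nat_lit 5) (Steps.fwd (nat_lit 2048) (Steps.fwd (nat_lit 512) (Steps.fwd (nat_lit 2560) (Steps.fwd (nat_lit 3072) (Steps.fwd (nat_lit 3584) (Steps.fwd (nat_lit 3072) (Steps.fwd (nat_lit 512) (Steps.fwd (nat_lit 2048) (Steps.fwd (nat_lit 2560) (Steps.fwd (nat_lit 2048) (Steps.bwd (nat_lit 1) (Steps.fwd (nat_lit 3584) Steps.nil))))))))))))))))) (nat_lit 36) (nat_lit 16),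
  Rule.mk (nat_lit 6) (nat_lit 118) (Steps.fwd (nat_lit 1024) (Steps.bwd (nat_lit 4) (Steps.bwd (nat_lit 2) (Steps.fwd (nat_lit 2048) (Steps.bwd (nat_lit 2) (Steps.fwd (nat_lit 3072) (Steps.fwd (nat_lit 1024) (Steps.fwd (nat_lit 2048) (Steps.fwd (nat_lit 1024) (Steps.fwd (nat_lit 2048) (Steps.bwd (nat_lit 2) Steps.nil))))))))))) (nat_lit 26) (nat_lit 6),
  Rule.mk (nat_lit 5) (nat_lit 178) (Steps.fwd (nat_lit 2048) (Steps.bwd (nat_lit 1) (Steps.bwd (nat_lit 7) (Steps.bwd (nat_lit 6) (Steps.bwd (nat_lit 7) (Steps.bwd (nat_lit 6) (Steps.fwd (nat_lit 1024) (Steps.fwd (nat_lit 2048) (Steps.fwd (nat_lit 2560) (Steps.bwd (nat_lit 4) (Steps.fwd (nat_lit 512) (Steps.fwd (nat_lit 2560) (Steps.fwd (nat_lit 3072) (Steps.fwd (nat_lit 3584) (Steps.fwd (nat_lit 3072) (Steps.bwd (nat_lit 2) (Steps.fwd (nat_lit 2048) Steps.nil))))))))))))))))) (nat_lit 36) (nat_lit 12),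
  Rule.mk (nat_lit 5) (nat_lit 38) (Steps.fwd (nat_lit 1024) (Steps.bwd (nat_lit 5) (Steps.bwd (nat_lit 2) Steps.nil))) (nat_lit 14) (nat_lit 0),
  Rule.mk (nat_lit 5) (nat_lit 178) (Steps.fwd (nat_lit 2048) (Steps.fwd (nat_lit 1024) (Steps.fwd (nat_lit 3584) (Steps.fwd (nat_lit 3072) (Steps.fwd (nat_lit 3584) (Steps.fwd (nat_lit 3072) (Steps.bwd (nat_lit 1) (Steps.bwd (nat_lit 4) (Steps.bwd (nat_lit 5) (Steps.fwd (nat_lit 2048) (Steps.fwd (nat_lit 512) (Steps.bwd (nat_lit 5) (Steps.fwd (nat_lit 3072) (Steps.fwd (nat_lit 3584) (Steps.fwd (nat_lit 3072) (Steps.bwd (nat_lit 2) (Steps.fwd (nat_lit 2048) Steps.nil))))))))))))))))) (nat_lit 36) (nat_lit 12),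
  Rule.mk (nat_lit 5) (nat_lit 38) (Steps.bwd (nat_lit 2) (Steps.bwd (nat_lit 5) (Steps.fwd (nat_lit 1024) Steps.nil))) (nat_lit 14) (nat_lit 2),
  Rule.mk (nat_lit 4) (nat_lit 118) (Steps.bwd (nat_lit 2) (Steps.fwd (nat_lit 2048) (Steps.bwd (nat_lit 5) (Steps.fwd (nat_lit 2048) (Steps.fwd (nat_lit 512) (Steps.bwd (nat_lit 4) (Steps.fwd (nat_lit 2560) (Steps.bwd (nat_lit 4) (Steps.bwd (nat_lit 2) (Steps.fwd (nat_lit 2048) (Steps.bwd (nat_lit 5) Steps.nil))))))))))) (nat_lit 19) (nat_lit 3),
  Rule.mk (nat_lit 3) (nat_lit 158) (Steps.bwd (nat_lit 5) (Steps.fwd (nat_lit 3072) (Steps.fwd (nat_lit 1024) (Steps.fwd (nat_lit 2560) (Steps.fwd (nat_lit 3072) (Steps.bwd (nat_lit 2) (Steps.bwd (nat_lit 5) (Steps.fwd (nat_lit 3072) (Steps.fwd (nat_lit 2560) (Steps.fwd (nat_lit 1024) (Steps.fwd (nat_lit 3072) (Steps.bwd (nat_lit 5) (Steps.bwd (nat_lit 2) (Steps.fwd (nat_lit 3072) (Steps.fwd (nat_lit 1024) Steps.nil))))))))))))))) (nat_lit 28) (nat_lit 2),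
  Rule.mk (nat_lit 3) (nat_lit 158) (Steps.fwd (nat_lit 2560) (Steps.fwd (nat_lit 3072) (Steps.fwd (nat_lit 1024) (Steps.bwd (nat_lit 5) (Steps.fwd (nat_lit 3072) (Steps.bwd (nat_lit 2) (Steps.fwd (nat_lit 2560) (Steps.fwd (nat_lit 3072) (Steps.bwd (nat_lit 5) (Steps.fwd (nat_lit 1024) (Steps.fwd (nat_lit 3072) (Steps.fwd (nat_lit 2560) (Steps.bwd (nat_lit 2) (Steps.fwd (nat_lit 3072) (Steps.fwd (nat_lit 1024) Steps.nil))))))))))))))) (nat_lit 28) (nat_lit 2),
  Rule.mk (nat_lit 4) (nat_lit 68) (Steps.fwd (nat_lit 2560) (Steps.fwd (nat_lit 2048) (Steps.fwd (nat_lit 3072) (Steps.fwd (nat_lit 2560) (Steps.fwd (nat_lit 3072) (Steps.bwd (nat_lit 3) Steps.nil)))))) (nat_lit 24) (nat_lit 2),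
  Rule.mk (nat_lit 3) (nat_lit 108) (Steps.bwd (nat_lit 4) (Steps.fwd (nat_lit 1024) (Steps.fwd (nat_lit 2048) (Steps.bwd (nat_lit 2) (Steps.fwd (nat_lit 2048) (Steps.fwd (nat_lit 1024) (Steps.bwd (nat_lit 4) (Steps.bwd (nat_lit 2) (Steps.fwd (nat_lit 2048) (Steps.fwd (nat_lit 1024) Steps.nil)))))))))) (nat_lit 10) (nat_lit 2),
  Rule.mk (nat_lit 3) (nat_lit 38) (Steps.fwd (nat_lit 1024) (Steps.bwd (nat_lit 3) (Steps.fwd (nat_lit 1024) Steps.nil))) (nat_lit 4) (nat_lit 0),
  Rule.mk (nat_lit 4) (nat_lit 108) (Steps.fwd (nat_lit 1024) (Steps.bwd (nat_lit 3) (Steps.bwd (nat_lit 4) (Steps.fwd (nat_lit 1024) (Steps.fwd (nat_lit 2048) (Steps.bwd (nat_lit 2) (Steps.fwd (nat_lit 2048) (Steps.bwd (nat_lit 1) (Steps.bwd (nat_lit 4) (Steps.bwd (nat_lit 2) Steps.nil)))))))))) (nat_lit 10) (nat_lit 0),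
  Rule.mk (nat_lit 3) (nat_lit 108) (Steps.bwd (nat_lit 4) (Steps.fwd (nat_lit 1024) (Steps.bwd (nat_lit 4) (Steps.bwd (nat_lit 2) (Steps.fwd (nat_lit 2048) (Steps.fwd (nat_lit 1024) (Steps.fwd (nat_lit 2048) (Steps.bwd (nat_lit 2) (Steps.bwd (nat_lit 4) (Steps.fwd (nat_lit 1024) Steps.nil)))))))))) (nat_lit 10) (nat_lit 2),
  Rule.mk (nat_lit 5) (nat_lit 68) (Steps.bwd (nat_lit 4) (Steps.fwd (nat_lit 1536) (Steps.fwd (nat_lit 3072) (Steps.fwd (nat_lit 2560) (Steps.fwd (nat_lit 3072) (Steps.fwd (nat_lit 2048) Steps.nil)))))) (nat_lit 25) (nat_lit 5),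
  Rule.mk (nat_lit 1) (nat_lit 98) (Steps.bwd (nat_lit 4) (Steps.fwd (nat_lit 1024) (Steps.fwd (nat_lit 2048) (Steps.bwd (nat_lit 1) (Steps.bwd (nat_lit 4) (Steps.fwd (nat_lit 1024) (Steps.bwd (nat_lit 4) (Steps.fwd (nat_lit 1024) (Steps.fwd (nat_lit 2048) Steps.nil))))))))) (nat_lit 8) (nat_lit 1),
  Rule.mk (nat_lit 3) (nat_lit 108) (Steps.bwd (nat_lit 4) (Steps.fwd (nat_lit 1024) (Steps.fwd (nat_lit 2048) (Steps.fwd (nat_lit 512) (Steps.fwd (nat_lit 2048) (Steps.bwd (nat_lit 1) (Steps.bwd (nat_lit 4) (Steps.bwd (nat_lit 2) (Steps.fwd (nat_lit 2048) (Steps.bwd (nat_lit 1) Steps.nil)))))))))) (nat_lit 10) (nat_lit 2),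
  Rule.mk (nat_lit 1) (nat_lit 118) (Steps.fwd (nat_lit 2048) (Steps.bwd (nat_lit 5) (Steps.bwd (nat_lit 4) (Steps.fwd (nat_lit 1024) (Steps.fwd (nat_lit 2048) (Steps.fwd (nat_lit 2560) (Steps.bwd (nat_lit 4) (Steps.fwd (nat_lit 1024) (Steps.fwd (nat_lit 2048) (Steps.fwd (nat_lit 2560) (Steps.fwd (nat_lit 2048) Steps.nil))))))))))) (nat_lit 18) (nat_lit 1)]
noncomputable def R_2 : List (Rule) := [Rule.mk (nat_lit 3) (nat_lit 68) (Steps.bwd (nat_lit 6) (Steps.bwd (nat_lit 5) (Steps.fwd (nat_lit 3072) (Steps.fwd (nat_lit 2048) (Steps.fwd (nat_lit 2560) (Steps.fwd (nat_lit 2048) Steps.nil)))))) (nat_lit 25) (nat_lit 0),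
  Rule.mk (nat_lit 6) (nat_lit 178) (Steps.bwd (nat_lit 7) (Steps.bwd (nat_lit 6) (Steps.bwd (nat_lit 1) (Steps.bwd (nat_lit 4) (Steps.fwd (nat_lit 2560) (Steps.fwd (nat_lit 2048) (Steps.fwd (nat_lit 512) (Steps.fwd (nat_lit 2560) (Steps.fwd (nat_lit 3072) (Steps.bwd (nat_lit 7) (Steps.fwd (nat_lit 3072) (Steps.fwd (nat_lit 512) (Steps.bwd (nat_lit 4) (Steps.fwd (nat_lit 2560) (Steps.fwd (nat_lit 2048) (Steps.fwd (nat_lit 1024) (Steps.bwd (nat_lit 7) Steps.nil))))))))))))))))) (nat_lit 36) (nat_lit 16),
  Rule.mk (nat_lit 5) (nat_lit 178) (Steps.fwd (nat_lit 2048) (Steps.fwd (nat_lit 1024) (Steps.bwd (nat_lit 6) (Steps.bwd (nat_lit 7) (Steps.bwd (nat_lit 6) (Steps.bwd (nat_lit 5) (Steps.fwd (nat_lit 1024) (Steps.fwd (nat_lit 2048) (Steps.fwd (nat_lit 2560) (Steps.bwd (nat_lit 4) (Steps.fwd (nat_lit 512) (Steps.fwd (nat_lit 3072) (Steps.bwd (nat_lit 7) (Steps.fwd (nat_lit 3072) (Steps.fwd (nat_lit 3584) (Steps.bwd (nat_lit 2) (Steps.fwd (nat_lit 2048) Steps.nil))))))))))))))))) (nat_lit 37) (nat_lit 7),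
  Rule.mk (nat_lit 5) (nat_lit 68) (Steps.bwd (nat_lit 4) (Steps.fwd (nat_lit 3072) (Steps.fwd (nat_lit 2560) (Steps.bwd (nat_lit 6) (Steps.fwd (nat_lit 1536) (Steps.fwd (nat_lit 2048) Steps.nil)))))) (nat_lit 24) (nat_lit 3),
  Rule.mk (nat_lit 3) (nat_lit 68) (Steps.bwd (nat_lit 4) (Steps.fwd (nat_lit 2560) (Steps.fwd (nat_lit 2048) (Steps.bwd (nat_lit 6) (Steps.bwd (nat_lit 5) (Steps.fwd (nat_lit 3072) Steps.nil)))))) (nat_lit 24) (nat_lit 1),
  Rule.mk (nat_lit 1) (nat_lit 98) (Steps.bwd (nat_lit 4) (Steps.fwd (nat_lit 1024) (Steps.bwd (nat_lit 4) (Steps.fwd (nat_lit 1024) (Steps.fwd (nat_lit 2048) (Steps.fwd (nat_lit 1024) (Steps.bwd (nat_lit 4) (Steps.fwd (nat_lit 1024) (Steps.fwd (nat_lit 2048) Steps.nil))))))))) (nat_lit 8) (nat_lit 1),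
  Rule.mk (nat_lit 5) (nat_lit 68) (Steps.bwd (nat_lit 6) (Steps.fwd (nat_lit 1536) (Steps.fwd (nat_lit 2048) (Steps.bwd (nat_lit 5) (Steps.fwd (nat_lit 2048) (Steps.fwd (nat_lit 3072) Steps.nil)))))) (nat_lit 24) (nat_lit 6),
  Rule.mk (nat_lit 7) (nat_lit 178) (Steps.bwd (nat_lit 6) (Steps.fwd (nat_lit 1024) (Steps.fwd (nat_lit 2048) (Steps.bwd (nat_lit 5) (Steps.fwd (nat_lit 2048) (Steps.bwd (nat_lit 2) (Steps.fwd (nat_lit 2560) (Steps.bwd (nat_lit 6) (Steps.bwd (nat_lit 7) (Steps.bwd (nat_lit 6) (Steps.bwd (nat_lit 2) (Steps.bwd (nat_lit 4) (Steps.bwd (nat_lit 5) (Steps.fwd (nat_lit 2048) (Steps.bwd (nat_lit 1) (Steps.fwd (nat_lit 3584) (Steps.fwd (nat_lit 3072) Steps.nil))))))))))))))))) (nat_lit 36) (nat_lit 17),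
  Rule.mk (nat_lit 5) (nat_lit 38) (Steps.bwd (nat_lit 1) (Steps.fwd (nat_lit 2560) (Steps.fwd (nat_lit 512) Steps.nil))) (nat_lit 14) (nat_lit 0),
  Rule.mk (nat_lit 6) (nat_lit 158) (Steps.fwd (nat_lit 2560) (Steps.bwd (nat_lit 1) (Steps.bwd (nat_lit 6) (Steps.bwd (nat_lit 5) (Steps.bwd (nat_lit 2) (Steps.bwd (nat_lit 6) (Steps.fwd (nat_lit 1024) (Steps.fwd (nat_lit 1536) (Steps.bwd (nat_lit 5) (Steps.fwd (nat_lit 3072) (Steps.bwd (nat_lit 1) (Steps.fwd (nat_lit 2560) (Steps.fwd (nat_lit 3072) (Steps.bwd (nat_lit 2) (Steps.fwd (nat_lit 2560) Steps.nil))))))))))))))) (nat_lit 28) (nat_lit 10),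
  Rule.mk (nat_lit 3) (nat_lit 158) (Steps.fwd (nat_lit 2560) (Steps.fwd (nat_lit 3072) (Steps.fwd (nat_lit 1024) (Steps.fwd (nat_lit 2560) (Steps.bwd (nat_lit 6) (Steps.bwd (nat_lit 2) (Steps.bwd (nat_lit 5) (Steps.fwd (nat_lit 3072) (Steps.fwd (nat_lit 2560) (Steps.fwd (nat_lit 1024) (Steps.fwd (nat_lit 3072) (Steps.bwd (nat_lit 5) (Steps.bwd (nat_lit 2) (Steps.bwd (nat_lit 6) (Steps.bwd (nat_lit 1) Steps.nil))))))))))))))) (nat_lit 28) (nat_lit 2),
  Rule.mk (nat_lit 6) (nat_lit 178) (Steps.bwd (nat_lit 7) (Steps.fwd (nat_lit 3072) (Steps.fwd (nat_lit 1024) (Steps.fwd (nat_lit 2048) (Steps.fwd (nat_lit 2560) (Steps.fwd (nat_lit 2048) (Steps.bwd (nat_lit 2) (Steps.bwd (nat_lit 5) (Steps.fwd (nat_lit 3072) (Steps.fwd (nat_lit 3584) (Steps.fwd (nat_lit 3072) (Steps.fwd (nat_lit 512) (Steps.bwd (nat_lit 4) (Steps.fwd (nat_lit 2560) (Steps.fwd (nat_lit 2048) (Steps.bwd (nat_lit 1) (Steps.bwd (nat_lit 7) Steps.nil))))))))))))))))) (nat_lit 36) (nat_lit 16),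
  Rule.mk (nat_lit 5) (nat_lit 68) (Steps.fwd (nat_lit 3072) (Steps.bwd (nat_lit 3) (Steps.bwd (nat_lit 4) (Steps.fwd (nat_lit 2560) (Steps.bwd (nat_lit 4) (Steps.bwd (nat_lit 6) Steps.nil)))))) (nat_lit 24) (nat_lit 6),
  Rule.mk (nat_lit 3) (nat_lit 38) (Steps.bwd (nat_lit 1) (Steps.fwd (nat_lit 1536) (Steps.bwd (nat_lit 1) Steps.nil))) (nat_lit 4) (nat_lit 0),
  Rule.mk (nat_lit 6) (nat_lit 158) (Steps.bwd (nat_lit 1) (Steps.fwd (nat_lit 2560) (Steps.fwd (nat_lit 3072) (Steps.bwd (nat_lit 2) (Steps.bwd (nat_lit 5) (Steps.bwd (nat_lit 6) (Steps.fwd (nat_lit 2560) (Steps.fwd (nat_lit 1024) (Steps.bwd (nat_lit 6) (Steps.fwd (nat_lit 2560) (Steps.bwd (nat_lit 2) (Steps.fwd (nat_lit 3072) (Steps.bwd (nat_lit 1) (Steps.fwd (nat_lit 1536) (Steps.fwd (nat_lit 2560) Steps.nil))))))))))))))) (nat_lit 28) (nat_lit 4),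
  Rule.mk (nat_lit 3) (nat_lit 158) (Steps.bwd (nat_lit 2) (Steps.fwd (nat_lit 3072) (Steps.fwd (nat_lit 1024) (Steps.fwd (nat_lit 2560) (Steps.bwd (nat_lit 6) (Steps.fwd (nat_lit 512) (Steps.fwd (nat_lit 2560) (Steps.fwd (nat_lit 3072) (Steps.fwd (nat_lit 2560) (Steps.bwd (nat_lit 1) (Steps.fwd (nat_lit 3072) (Steps.bwd (nat_lit 5) (Steps.bwd (nat_lit 2) (Steps.bwd (nat_lit 6) (Steps.fwd (nat_lit 2560) Steps.nil))))))))))))))) (nat_lit 29) (nat_lit 15),
  Rule.mk (nat_lit 4) (nat_lit 38) (Steps.bwd (nat_lit 7) (Steps.bwd (nat_lit 4) (Steps.bwd (nat_lit 7) Steps.nil))) (nat_lit 34) (nat_lit 1),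
  Rule.mk (nat_lit 6) (nat_lit 178) (Steps.bwd (nat_lit 7) (Steps.fwd (nat_lit 3072) (Steps.bwd (nat_lit 1) (Steps.bwd (nat_lit 4) (Steps.fwd (nat_lit 2560) (Steps.bwd (nat_lit 4) (Steps.bwd (nat_lit 2) (Steps.bwd (nat_lit 5) (Steps.fwd (nat_lit 3072) (Steps.bwd (nat_lit 7) (Steps.fwd (nat_lit 3072) (Steps.fwd (nat_lit 512) (Steps.fwd (nat_lit 2048) (Steps.fwd (nat_lit 2560) (Steps.bwd (nat_lit 4) (Steps.fwd (nat_lit 1024) (Steps.fwd (nat_lit 3584) Steps.nil))))))))))))))))) (nat_lit 36) (nat_lit 16),
  Rule.mk (nat_lit 5) (nat_lit 68) (Steps.fwd (nat_lit 3072) (Steps.fwd (nat_lit 1536) (Steps.fwd (nat_lit 2048) (Steps.fwd (nat_lit 2560) (Steps.fwd (nat_lit 2048) (Steps.bwd (nat_lit 6) Steps.nil)))))) (nat_lit 24) (nat_lit 6),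
  Rule.mk (nat_lit 3) (nat_lit 68) (Steps.fwd (nat_lit 2048) (Steps.fwd (nat_lit 2560) (Steps.bwd (nat_lit 4) (Steps.bwd (nat_lit 6) (Steps.fwd (nat_lit 2560) (Steps.bwd (nat_lit 6) Steps.nil)))))) (nat_lit 24) (nat_lit 1),
  Rule.mk (nat_lit 2) (nat_lit 118) (Steps.fwd (nat_lit 2048) (Steps.fwd (nat_lit 512) (Steps.fwd (nat_lit 3072) (Steps.fwd (nat_lit 1024) (Steps.fwd (nat_lit 2048) (Steps.bwd (nat_lit 1) (Steps.bwd (nat_lit 4) (Steps.bwd (nat_lit 2) (Steps.bwd (nat_lit 6) (Steps.bwd (nat_lit 1) (Steps.bwd (nat_lit 4) Steps.nil))))))))))) (nat_lit 26) (nat_lit 9),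
  Rule.mk (nat_lit 1) (nat_lit 118) (Steps.fwd (nat_lit 2048) (Steps.bwd (nat_lit 1) (Steps.bwd (nat_lit 4) (Steps.bwd (nat_lit 2) (Steps.bwd (nat_lit 6) (Steps.fwd (nat_lit 1024) (Steps.fwd (nat_lit 2048) (Steps.bwd (nat_lit 2) (Steps.fwd (nat_lit 2048) (Steps.bwd (nat_lit 2) (Steps.bwd (nat_lit 6) Steps.nil))))))))))) (nat_lit 26) (nat_lit 1),
  Rule.mk (nat_lit 4) (nat_lit 98) (Steps.bwd (nat_lit 1) (Steps.bwd (nat_lit 4) (Steps.bwd (nat_lit 1) (Steps.fwd (nat_lit 2048) (Steps.bwd (nat_lit 1) (Steps.bwd (nat_lit 4) (Steps.fwd (nat_lit 1024) (Steps.fwd (nat_lit 2048) (Steps.bwd (nat_lit 1) Steps.nil))))))))) (nat_lit 8) (nat_lit 0),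
  Rule.mk (nat_lit 1) (nat_lit 118) (Steps.bwd (nat_lit 4) (Steps.bwd (nat_lit 2) (Steps.fwd (nat_lit 2048) (Steps.bwd (nat_lit 2) (Steps.bwd (nat_lit 6) (Steps.fwd (nat_lit 1024) (Steps.fwd (nat_lit 2048) (Steps.fwd (nat_lit 1024) (Steps.fwd (nat_lit 2048) (Steps.fwd (nat_lit 512) (Steps.bwd (nat_lit 6) Steps.nil))))))))))) (nat_lit 26) (nat_lit 7),
  Rule.mk (nat_lit 6) (nat_lit 178) (Steps.bwd (nat_lit 7) (Steps.bwd (nat_lit 6) (Steps.fwd (nat_lit 1024) (Steps.fwd (nat_lit 2048) (Steps.fwd (nat_lit 2560) (Steps.fwd (nat_lit 2048) (Steps.bwd (nat_lit 2) (Steps.bwd (nat_lit 5) (Steps.fwd (nat_lit 3072) (Steps.fwd (nat_lit 3584) (Steps.fwd (nat_lit 3072) (Steps.bwd (nat_lit 2) (Steps.bwd (nat_lit 4) (Steps.bwd (nat_lit 5) (Steps.bwd (nat_lit 4) (Steps.fwd (nat_lit 1024) (Steps.fwd (nat_lit 3584) Steps.nil))))))))))))))))) (nat_lit 36) (nat_lit 16),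
  Rule.mk (nat_lit 3) (nat_lit 68) (Steps.bwd (nat_lit 4) (Steps.fwd (nat_lit 2560) (Steps.fwd (nat_lit 2048) (Steps.fwd (nat_lit 3072) (Steps.bwd (nat_lit 5) (Steps.bwd (nat_lit 6) Steps.nil)))))) (nat_lit 24) (nat_lit 1),
  Rule.mk (nat_lit 5) (nat_lit 68) (Steps.bwd (nat_lit 6) (Steps.fwd (nat_lit 1536) (Steps.bwd (nat_lit 4) (Steps.bwd (nat_lit 5) (Steps.bwd (nat_lit 4) (Steps.bwd (nat_lit 6) Steps.nil)))))) (nat_lit 24) (nat_lit 6),
  Rule.mk (nat_lit 5) (nat_lit 68) (Steps.bwd (nat_lit 6) (Steps.fwd (nat_lit 1536) (Steps.fwd (nat_lit 2048) (Steps.fwd (nat_lit 2560) (Steps.fwd (nat_lit 2048) (Steps.fwd (nat_lit 3072) Steps.nil)))))) (nat_lit 24) (nat_lit 6),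
  Rule.mk (nat_lit 3) (nat_lit 68) (Steps.fwd (nat_lit 2048) (Steps.fwd (nat_lit 2560) (Steps.fwd (nat_lit 2048) (Steps.bwd (nat_lit 6) (Steps.fwd (nat_lit 2560) (Steps.fwd (nat_lit 3072) Steps.nil)))))) (nat_lit 24) (nat_lit 1),
  Rule.mk (nat_lit 2) (nat_lit 158) (Steps.bwd (nat_lit 6) (Steps.fwd (nat_lit 1024) (Steps.bwd (nat_lit 3) (Steps.fwd (nat_lit 2560) (Steps.bwd (nat_lit 6) (Steps.fwd (nat_lit 1024) (Steps.bwd (nat_lit 5) (Steps.fwd (nat_lit 3072) (Steps.bwd (nat_lit 2) (Steps.bwd (nat_lit 5) (Steps.fwd (nat_lit 3072) (Steps.fwd (nat_lit 2560) (Steps.fwd (nat_lit 1024) (Steps.fwd (nat_lit 3072) (Steps.fwd (nat_lit 2560) Steps.nil))))))))))))))) (nat_lit 28) (nat_lit 15),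
  Rule.mk (nat_lit 6) (nat_lit 178) (Steps.bwd (nat_lit 7) (Steps.bwd (nat_lit 6) (Steps.fwd (nat_lit 1024) (Steps.fwd (nat_lit 2048) (Steps.fwd (nat_lit 2560) (Steps.fwd (nat_lit 2048) (Steps.fwd (nat_lit 512) (Steps.fwd (nat_lit 2560) (Steps.fwd (nat_lit 3072) (Steps.fwd (nat_lit 3584) (Steps.fwd (nat_lit 3072) (Steps.bwd (nat_lit 2) (Steps.fwd (nat_lit 2048) (Steps.fwd (nat_lit 2560) (Steps.fwd (nat_lit 2048) (Steps.fwd (nat_lit 1024) (Steps.fwd (nat_lit 3584) Steps.nil))))))))))))))))) (nat_lit 36) (nat_lit 16),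
  Rule.mk (nat_lit 5) (nat_lit 178) (Steps.fwd (nat_lit 2048) (Steps.fwd (nat_lit 1024) (Steps.bwd (nat_lit 7) (Steps.bwd (nat_lit 6) (Steps.bwd (nat_lit 7) (Steps.fwd (nat_lit 3072) (Steps.bwd (nat_lit 1) (Steps.bwd (nat_lit 4) (Steps.bwd (nat_lit 5) (Steps.bwd (nat_lit 4) (Steps.bwd (nat_lit 2) (Steps.fwd (nat_lit 2560) (Steps.fwd (nat_lit 3072) (Steps.fwd (nat_lit 3584) (Steps.fwd (nat_lit 3072) (Steps.bwd (nat_lit 2) (Steps.fwd (nat_lit 2048) Steps.nil))))))))))))))))) (nat_lit 36) (nat_lit 12),
  Rule.mk (nat_lit 3) (nat_lit 68) (Steps.fwd (nat_lit 2048) (Steps.fwd (nat_lit 2560) (Steps.fwd (nat_lit 2048) (Steps.fwd (nat_lit 3072) (Steps.fwd (nat_lit 2560) (Steps.fwd (nat_lit 3072) Steps.nil)))))) (nat_lit 24) (nat_lit 1)]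
noncomputable def R : List (List (Rule)) := [R_0, R_1, R_2]
def LW : List Word := [[], [0], [1], [2], [4], [6], [8], [10], [0], [1], [2], [3], [4], [5], [6], [7], [8], [9]]
def par : Par := ⟨9, 5, 14, 23, 511, 16383, 8388607⟩
theorem hpar : par.ok := by decide
theorem hR0_0 : lall (R) (fun l => lall l (ruleOK rels LW par)) = true := by decide +kernel
theorem hR0 : lall (R) (fun l => lall l (ruleOK rels LW par)) = true := hR0_0
theorem hR : RulesOK rels LW par R := rulesOK_of rfl hR0
def cols : List (ℕ × ℕ) := [(512, 2), (1536, 3), (2048, 4), (2560, 5), (3072, 6), (3584, 7)]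
theorem hcols : lall cols (colOK rels LW par) = true := by decide +kernel
noncomputable def JS0 : List ℕ := [nat_lit 0x17c0017c6c0800c081a01000018651c4631918c001740f1845e180045c1b465000651c0171c065171906c16c0016c0e0586f190585a034720601706017060720345a1516c5d1684c5c0105b14178601744c5f1a86e1c0150581905c1605c19054701b8660145e1217864174445f17830651805f10014621803c0017c28601905f0117c0a17c0800008610e00860178346017430010085d0b0005c0a17c5d170245e0005e080085d170001805f071740016c185c178020045d16c145c0045c0400400004000040000400004000317003170085b0105b01,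
  nat_lit 0x14042807003351f4022c0041c004d028014cc2201817320600528070042c00c1d00cc418018c023024222f09c082e1e0071d0b424018b083014ac24010a8770107529208032821c032820c03281f80207c9c7f00421262080108c94240007e2406c0004c8c67014040546f040701ec221f47c04888160546e03c6f1dc66010031d016210506d0146d04c02010021cc15200480100c011c8141c80100c011f0001018c78101a8021a811048111a8610047404028601c,
  nat_lit 0x1900c8a4a0048b2252401100894222c16221208a220308c22488012388c2244000220288a24888012243f220080223c894722807221188a07088452348744000882501c080aa08c4e140aa0801c250880010c012208642220850a000850c23086215040000c854021c8621424020143424433218fc0a0248e05891214f8870448408000072242e218853d01c0401c08004833c0b08420c000bc8c3b23400208e88c0b48d04086208e43207032382401b240dc1a23c010008503c9926c4026c3f0f8120f83f2649136,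
  nat_lit 0xb100cad592b4022b2980206960a80055c5e0041a560001a0001b552ec390ec5a0d00f0300025cb60d063178c01701954238002394c010000d2d427094272d40d00001520303115cbf19867198322bc8d22d4400228308b2b4301906530c350dc2d2488a502448f230400022c288d0088b4d2302522c08030088c4b0980422d28012308a49008a92293c8d08c89480048b225388b2203000220288c224880127c8c2244000220288a050884d224a1221308e22c8a1022c4822808030088b4b,
  nat_lit 0xbcc116889210e608059208e621089168c10bda4c036c571845e3808107ce52207f164db158c0680c0bb1585d190823901e200df1945d158da0cd9cb200d8c2400cd4b500d9028008d4b600823660a0012b1942f01cb161128062b0b4ca01568cc0115cb9019903c018c0ba021902d01d8cca01cc6620f8062b0f8052a0c4052c98439010346000c0600d7c34008c0b8008b15e304010e174bc00032261ac0027090063144b3205133468328041b0be26d70b7328d71f8d733067324031acb75b098015a2a00257,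
  nat_lit 0xd1004d101014033446c1b4d28101002340281c8fa3ec6d34002012000033c6c3e8de060de3e86c33dfcce098701301f144f91acce7e004ce1a4680a0cd7d33067330e8cc0b8cc043400713d003417ce6000e617c3417c5e099f05c094340945d1783317801171ece40005b7a02801034384d0004c403504d344030f8000f8033444d790000d00c0e008047811808118020343c00c0800c3c034021180800ddc3b0343b0040b11402034021140b0043b034027600008114490101d0b01d01049335d4440043a7232c00311d0101100233858164e12448d24c1d3b46e1800f334467314000111c844320010f40a0ec3a0303b02cc6184903a8d109c1871108430fc020f8000f8020fc43109c03b0f0e43948d0a4e82385f38c3c02836008c50203b6f02cbe010310b038310010d4090ec60240ec35c23139b8c5000c5023145e238ea21826228e2384c5010c4000c4308070cdb43a0f8c50203000030020c50f83a6c2ec3301034014321688938c840888a374560c8012edac2c2f85537089084e722c5b374be00c330103209c2c6a,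
  nat_lit 0xee1ece704000440e08709c02933e46e104701006f0f4f70ec301d4790d04d1700139a48e9398e59112c0a394e8e6000077a01c082043302ce400800008e402c332040802640010080339cfb0c8e80200601c2f3ec0a02ce38f010e438938e1024e1890000638238e237c30df024df37008de0a000410387a074008d0fd071187f38c140580a02c090400f024e11a8023763003374dc01370001a0240300e01c0901c0e030241a0000062c273f40b01804020060240d02c74090dc36c008a3680136a24db3f83e2c8ae2d03d37cdd0242119867080313b8da883646607c30060d9873647201839054d987364620b856068e8190633661802000050441d3621405008040701e35e10d83a4d6113541c354e803008030080300803008030080c321a8f5429121f82e1dcff400721c4d6350003c86b830b8332a8a42a034425111f5000d0aa290a83e0d534e08d201cd202,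
  nat_lit 0x4000040200002a100402000f73e01e07cfc04c153f419068f83dc0200680f60080501005008f706418068fc050123ec1e3dcf69f3d4043d408f4000f44d004f43e8243f848220461111e3f8240501b3d278f3064f30040000674f201c1801c113ca70f1018f10400493110500c8f29b00026034f305cf39a4686934524275061bc7411c3c1fc430ec3a420f03be641b01cee023b4043b53409190552302f454f53c400048ef9803000030080e00c0100cf101800018ee97010fb0c46f0d1023a800008f001658013bc131ecf2060f21ec133bc0195008353a0000540094]
theorem S0_c : blocks (facts 9 5 14 23 511 16383 8388607 10 1023 8 255 A R 32) 32 JS0 347 = true := by decide +kernel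
theorem S0 : On (Step.{u} rels LW par A) 347 603 :=
  steps_of_blocks hpar hR S0_c (by decide +kernel)
theorem D0_c : allB (defOK 9 14 23 511 8388607 343 A K) 1 2 = true := by decide +kernel
theorem D0 : On (fun r => defOK par.W par.WL par.E par.mW par.mE 343 A K r = true) 256 384 :=
  On.of_allB D0_c
noncomputable def JW0 : List ℕ := [nat_lit 0x6f05f15c3804c94f4a4a14e31ce2ea418e8173300608c21864985e13fa7c2de58533a2016854c4c1511965b13c96a2dc3606da282be3b0770e54c8a3ce39d22e840ceb1773a8a4cc29c33105b4be183370a7c6fa874fc73cc9a6e3a2a10c0a8b31c641509792f4a48dc9df4cca453c1d3324398eba8e3aaa54c79ca5465f8da1e236c784c4a8632ca28cd19e540a40d1294336675512b334c7e0f92aa56eac8d21fc3f47fd5b20040481103208,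
  nat_lit 0x11c8451563344891d232438930c62508f51a0c02403211d92444a1f03987e0f0205248b01588884d1350ea2304522710c2210782e0560c016833496840551381204c4950c424e3251d12c484308908b82528f90d85e0b88502685b4a61243d8e11243f926a1e15e4e44e1370d2884360310981846506516a3304ea474705c93d96b2e248c6d07d15a2504b2614488a44588e1042112415c2bc8986e0d74ca0bc3d1521263f5251764f49f4b8244,
  nat_lit 0x4160700d01e0300850520d04c0a0120230a0138290380a8159098440861181f83a2302f85409e1408cd1a8bc14c2945191b0e81d8392230e01b9072110541001f03d2562c8548a4144905218ba14e2d85092f424120212150580d03421f0d410431a1c0a28302c0360948650d0640cc11c31216]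
theorem W0_c : blocks (rows 9 5 14 23 511 16383 8388607 11 2047 66 A 603 56 cols 21) 21 JW0 0 = true := by decide +kernel
theorem W0 : On (Row.{u} rels LW par A 603 56 cols) 0 63 :=
  rows_of_blocks hpar (by decide) hcols W0_c (by decide +kernel)
theorem idx : Idx.{u} rels [[0], [2], [4], [6], [8], [10]] [[0], [2], [4], [6], [8]] 56 :=
  idx_of_cert hpar hR (K := K) (by decide +kernel) (T := 343) (T' := 384) (by decide) D0
    (subs := [1,3,4,5,6]) (by decide +kernel) (T1 := 347) (by decide) (N := 603) S0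
    (by decide) (n' := 63) (by decide) W0 (by decide +kernel) (by decide +kernel)
end T1
theorem b1 : Bound.{u} rels [[0], [2], [4], [6], [8], [10]] 1451520 := .of_idx T1.idx b2 (by decide)
namespace T0
noncomputable def A_0 : List (ℕ) := [nat_lit 0x1d20742b30e87421d08102015a0562b2880563100802201588562441206062b8bca2f179c5e1430bc7a71e8f063d0f207a3c30787871e03cc0508980c1d203c0a03d81807c1310220f01e42203d09083c121c482428903a70e87487906983a1d08744c213098e2609184c1131f01e63d818c7a3d1cf47a29e8f273c9e4a7914943c0d387824714834a120a20602510c02e212830c170608182d40b426716850a2d110c5a2210b4447070890220a88441138441e707854c150a8c2a152820127048550150a902a1340b85c51708c62e11885c23288c2c211858616078c2209182412404844a1107941e0928242c40b058a1605982c0b182c1640582ca0b058816041810283080206080518140a18280850502900a0510140a10280c80784440f0488220930241c209814a0e03881c06284c0c302850e0601040c10105010208010c080210100410100430101c60703900e03301c02300804078018c0603200c06201808c0200980201100400700000c00001400002000003000002003b9cea742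194e013116c45d3988c260097c9c2148d8a4c261c4e383870ba42f97c23c3920d8711188bc4361b44513614b85c08fc6e3278e441f27849a4d08a84e50d870a281410361b08346a6211d506633108e7609acdc5351a88573598944a2144a27150a8a1f0f9c7e3f318cc67341a08483498b25910c8324190c8e5a2d047c50290c6850d068c331f14a64b3954aa3229bce582c0c92493990c84218ec8462290465610c48c7118c4e160c1c164708bcce22410822c1988865340b086810900821108858650910c44221102542a10c26128f08241114882d1610743a2874404070ac81324184a5740bc5e41e8f4c291e20522430403a31309887a3e20f27b41e8f423c9e4c050f10202920502440303480518082e2540402e80403100416882a2228402a7038b841611a01c16401c16801828e030788121140141280103861309880e06081428204040e050284040838080870081ca02019402022004f0300805000,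
  nat_lit 0x3618d85111b0b862e17085c1b9cb837406c6e41b8dcc3726946e1f10dc7211b8e4c392690721c40e49e51c93463927909e4f313c508278a824f26989a2741344e61389c8270e0c4e28089c2421386c41c0e18381c20701a10e0a061b0904502830a03660d8d44351a9c6a3518d46a51a8690351a906a7519d4ea43a9d4a753398ea7511d4cc3331984663314cc473198cc7331d8c763b10ec7641d8ce73b1d8a763b0cec6909d8d473714906e3590dc5131b8c63371b846e3504d44941a8d0335160c6a3488d65739acd23359aca6b35a0d63f1944b21250c844a252094252928b2325140e4a1f94a26141445430f84902a2810544b30a87660f83501f1f103e6240fcb241f99c6672b8c9041418cd05319a48633188c667219cd02341610682498d06929a4907349a50692ca0b23e39646052c99ca672b94ae482920b05248644190ca0321918641850c8d0e190c98323218c86461905ca321920645a20d0b462d0c505a1994b45a1968a012d1190502b18a03e19407c1280d0c340c20683418d06821a06861a0d04340c38683440d15903e23187c6f41bcac3230c463123148c5629583050c0c4a312aa0aa3b192c9652a89904b2b10964b112c5c42a9bcc552a84aa3318cc863299bc6643794c85321bcde23785c617128c60302160b012c0948492488926441901830603080c0b902e3320ccc8232114c6422848a5338c06670b894e431d88764541147680e914a3b229c762e39588c22b0c44461898623120c43030c060c180c1030181060ce82391ce4723948e47191c4812395c46721108433410884721108a42210c84210908a62198b8c532188a623310c802201010401d0c8026290080720080c403298ca48115c5e1120b062107184221388442510995065329cca652994ca332950265308cc43d2988c4731104c622a0c8822311088822110e44221488613984a872a150a542a20a82418bc5a62a0a461e2918c2522904a4320904241101c82520948567290e8e3a161c582c28b02661604860d,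
  nat_lit 0x7719dcee63b9dca773ba0ee7721dcee23b9d02743a20e87419d0e853a1d0e743a18e87031c0e0438171070381ce05b29c0e63381c42703018b65b216c6c82d96ce5b300cb63d116ce66399cc87336a0e67339ccc05399c84733010c04e4180c07300f02601b189c362138507270e0a4e1b0c9c4c11387011b06ce360f086c3819307062617d04c261098291130ba81c0e08380f04705d197c7a12e9c4a5d2f98ba5d3974be72f9c8a5f390ce27239c8e24391c8c723088e47131c4bc8389c4e712e08bc3f0978d832f1b4a5e1c9cbc5e3178da6369b486d279cda5c19b4d8236934e6c]
noncomputable def A : List (List (ℕ)) := [A_0]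
noncomputable def K_0 : List (ℕ) := [nat_lit 0x123914864101bdd7ac17abbdbedd79a4576d96badd72a7549ed7e6d45aacd66576b85b6e36abc53ea5479550a93339d4c2b34eb3dd6cd73a556a8d2b9f50687349ccf26338ab52e5127a24bad172b4dd2c34d9dd42811b94c522f2f965623d63b2c92352689c5a6f2dabc7e4b64b1532a33f8cc4a2b0985c761d0887c32391888c421b068242a0f0581c0a0000]
noncomputable def K : List (List (ℕ)) := [K_0]
noncomputable def R_0 : List (Rule) := [Rule.mk (nat_lit 2) (nat_lit 39) (Steps.bwd (nat_lit 8) (Steps.bwd (nat_lit 1) (Steps.fwd (nat_lit 4096) Steps.nil))) (nat_lit 40) (nat_lit 3),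
  Rule.mk (nat_lit 6) (nat_lit 39) (Steps.bwd (nat_lit 8) (Steps.fwd (nat_lit 3072) (Steps.fwd (nat_lit 4096) Steps.nil))) (nat_lit 42) (nat_lit 1),
  Rule.mk (nat_lit 6) (nat_lit 39) (Steps.bwd (nat_lit 4) (Steps.fwd (nat_lit 3072) (Steps.fwd (nat_lit 2048) Steps.nil))) (nat_lit 22) (nat_lit 0),
  Rule.mk (nat_lit 2) (nat_lit 39) (Steps.bwd (nat_lit 5) (Steps.fwd (nat_lit 1024) (Steps.fwd (nat_lit 2560) Steps.nil))) (nat_lit 14) (nat_lit 3),
  Rule.mk (nat_lit 4) (nat_lit 89) (Steps.bwd (nat_lit 5) (Steps.bwd (nat_lit 8) (Steps.fwd (nat_lit 2048) (Steps.fwd (nat_lit 2560) (Steps.fwd (nat_lit 3072) (Steps.fwd (nat_lit 2560) (Steps.fwd (nat_lit 4096) (Steps.fwd (nat_lit 2560) Steps.nil)))))))) (nat_lit 46) (nat_lit 7),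
  Rule.mk (nat_lit 3) (nat_lit 109) (Steps.fwd (nat_lit 2048) (Steps.fwd (nat_lit 1024) (Steps.fwd (nat_lit 2048) (Steps.bwd (nat_lit 2) (Steps.fwd (nat_lit 2048) (Steps.fwd (nat_lit 1024) (Steps.fwd (nat_lit 2048) (Steps.bwd (nat_lit 2) (Steps.fwd (nat_lit 2048) (Steps.fwd (nat_lit 1024) Steps.nil)))))))))) (nat_lit 10) (nat_lit 2),
  Rule.mk (nat_lit 0) (nat_lit 49) (Steps.bwd (nat_lit 3) (Steps.fwd (nat_lit 2560) (Steps.fwd (nat_lit 1536) (Steps.bwd (nat_lit 5) Steps.nil)))) (nat_lit 16) (nat_lit 0),
  Rule.mk (nat_lit 3) (nat_lit 29) (Steps.bwd (nat_lit 0) (Steps.bwd (nat_lit 3) Steps.nil)) (nat_lit 52) (nat_lit 0),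
  Rule.mk (nat_lit 6) (nat_lit 69) (Steps.bwd (nat_lit 5) (Steps.fwd (nat_lit 3072) (Steps.bwd (nat_lit 4) (Steps.fwd (nat_lit 2560) (Steps.fwd (nat_lit 2048) (Steps.fwd (nat_lit 1536) Steps.nil)))))) (nat_lit 25) (nat_lit 1),
  Rule.mk (nat_lit 4) (nat_lit 69) (Steps.fwd (nat_lit 3072) (Steps.bwd (nat_lit 5) (Steps.fwd (nat_lit 3072) (Steps.fwd (nat_lit 1536) (Steps.fwd (nat_lit 2048) (Steps.fwd (nat_lit 2560) Steps.nil)))))) (nat_lit 24) (nat_lit 4),
  Rule.mk (nat_lit 3) (nat_lit 69) (Steps.fwd (nat_lit 3072) (Steps.bwd (nat_lit 5) (Steps.fwd (nat_lit 3072) (Steps.fwd (nat_lit 2048) (Steps.fwd (nat_lit 2560) (Steps.fwd (nat_lit 2048) Steps.nil)))))) (nat_lit 25) (nat_lit 0),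
  Rule.mk (nat_lit 3) (nat_lit 69) (Steps.fwd (nat_lit 3072) (Steps.fwd (nat_lit 2560) (Steps.fwd (nat_lit 3072) (Steps.fwd (nat_lit 2048) (Steps.bwd (nat_lit 5) (Steps.fwd (nat_lit 2048) Steps.nil)))))) (nat_lit 25) (nat_lit 0),
  Rule.mk (nat_lit 2) (nat_lit 39) (Steps.bwd (nat_lit 7) (Steps.fwd (nat_lit 1024) (Steps.fwd (nat_lit 3584) Steps.nil))) (nat_lit 32) (nat_lit 3),
  Rule.mk (nat_lit 4) (nat_lit 39) (Steps.bwd (nat_lit 7) (Steps.bwd (nat_lit 4) (Steps.fwd (nat_lit 3584) Steps.nil))) (nat_lit 34) (nat_lit 1),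
  Rule.mk (nat_lit 6) (nat_lit 99) (Steps.bwd (nat_lit 7) (Steps.bwd (nat_lit 4) (Steps.bwd (nat_lit 8) (Steps.fwd (nat_lit 3584) (Steps.fwd (nat_lit 3072) (Steps.fwd (nat_lit 2048) (Steps.fwd (nat_lit 3584) (Steps.fwd (nat_lit 4096) (Steps.fwd (nat_lit 3584) Steps.nil))))))))) (nat_lit 51) (nat_lit 4),
  Rule.mk (nat_lit 2) (nat_lit 39) (Steps.bwd (nat_lit 7) (Steps.bwd (nat_lit 1) (Steps.fwd (nat_lit 3584) Steps.nil))) (nat_lit 32) (nat_lit 3),
  Rule.mk (nat_lit 2) (nat_lit 29) (Steps.bwd (nat_lit 2) (Steps.bwd (nat_lit 2) Steps.nil)) (nat_lit 3) (nat_lit 0),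
  Rule.mk (nat_lit 1) (nat_lit 29) (Steps.bwd (nat_lit 1) (Steps.bwd (nat_lit 1) Steps.nil)) (nat_lit 2) (nat_lit 0),
  Rule.mk (nat_lit 7) (nat_lit 39) (Steps.bwd (nat_lit 1) (Steps.fwd (nat_lit 3584) (Steps.bwd (nat_lit 2) Steps.nil))) (nat_lit 32) (nat_lit 0),
  Rule.mk (nat_lit 3) (nat_lit 39) (Steps.bwd (nat_lit 1) (Steps.fwd (nat_lit 1536) (Steps.bwd (nat_lit 1) Steps.nil))) (nat_lit 4) (nat_lit 0),
  Rule.mk (nat_lit 5) (nat_lit 39) (Steps.bwd (nat_lit 2) (Steps.bwd (nat_lit 5) (Steps.bwd (nat_lit 1) Steps.nil))) (nat_lit 14) (nat_lit 2),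
  Rule.mk (nat_lit 2) (nat_lit 39) (Steps.bwd (nat_lit 3) (Steps.bwd (nat_lit 2) (Steps.fwd (nat_lit 1536) Steps.nil))) (nat_lit 5) (nat_lit 0),
  Rule.mk (nat_lit 5) (nat_lit 39) (Steps.bwd (nat_lit 3) (Steps.fwd (nat_lit 2560) (Steps.bwd (nat_lit 3) Steps.nil))) (nat_lit 16) (nat_lit 0),
  Rule.mk (nat_lit 2) (nat_lit 39) (Steps.fwd (nat_lit 2560) (Steps.bwd (nat_lit 1) (Steps.bwd (nat_lit 5) Steps.nil))) (nat_lit 14) (nat_lit 3),
  Rule.mk (nat_lit 8) (nat_lit 39) (Steps.bwd (nat_lit 2) (Steps.bwd (nat_lit 8) (Steps.bwd (nat_lit 1) Steps.nil))) (nat_lit 40) (nat_lit 2),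
  Rule.mk (nat_lit 4) (nat_lit 39) (Steps.bwd (nat_lit 7) (Steps.fwd (nat_lit 2048) (Steps.fwd (nat_lit 3584) Steps.nil))) (nat_lit 34) (nat_lit 1),
  Rule.mk (nat_lit 8) (nat_lit 89) (Steps.bwd (nat_lit 7) (Steps.bwd (nat_lit 5) (Steps.bwd (nat_lit 8) (Steps.fwd (nat_lit 2560) (Steps.fwd (nat_lit 3584) (Steps.fwd (nat_lit 4096) (Steps.fwd (nat_lit 2560) (Steps.fwd (nat_lit 3584) Steps.nil)))))))) (nat_lit 48) (nat_lit 6),
  Rule.mk (nat_lit 5) (nat_lit 89) (Steps.fwd (nat_lit 4096) (Steps.bwd (nat_lit 7) (Steps.bwd (nat_lit 5) (Steps.bwd (nat_lit 8) (Steps.fwd (nat_lit 2560) (Steps.fwd (nat_lit 3584) (Steps.fwd (nat_lit 4096) (Steps.fwd (nat_lit 3584) Steps.nil)))))))) (nat_lit 49) (nat_lit 6),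
  Rule.mk (nat_lit 6) (nat_lit 69) (Steps.fwd (nat_lit 1536) (Steps.fwd (nat_lit 2048) (Steps.fwd (nat_lit 2560) (Steps.bwd (nat_lit 4) (Steps.fwd (nat_lit 3072) (Steps.bwd (nat_lit 5) Steps.nil)))))) (nat_lit 24) (nat_lit 0),
  Rule.mk (nat_lit 3) (nat_lit 69) (Steps.fwd (nat_lit 3072) (Steps.bwd (nat_lit 5) (Steps.fwd (nat_lit 3072) (Steps.fwd (nat_lit 2048) (Steps.fwd (nat_lit 2560) (Steps.bwd (nat_lit 4) Steps.nil)))))) (nat_lit 25) (nat_lit 0),
  Rule.mk (nat_lit 3) (nat_lit 39) (Steps.fwd (nat_lit 1024) (Steps.fwd (nat_lit 1536) (Steps.fwd (nat_lit 1024) Steps.nil))) (nat_lit 4) (nat_lit 0),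
  Rule.mk (nat_lit 3) (nat_lit 39) (Steps.bwd (nat_lit 5) (Steps.fwd (nat_lit 1536) (Steps.fwd (nat_lit 2560) Steps.nil))) (nat_lit 16) (nat_lit 1),
  Rule.mk (nat_lit 2) (nat_lit 39) (Steps.bwd (nat_lit 8) (Steps.fwd (nat_lit 1024) (Steps.fwd (nat_lit 4096) Steps.nil))) (nat_lit 40) (nat_lit 3),
  Rule.mk (nat_lit 5) (nat_lit 79) (Steps.bwd (nat_lit 8) (Steps.bwd (nat_lit 5) (Steps.bwd (nat_lit 8) (Steps.fwd (nat_lit 2560) (Steps.fwd (nat_lit 4096) (Steps.fwd (nat_lit 2560) (Steps.fwd (nat_lit 4096) Steps.nil))))))) (nat_lit 44) (nat_lit 1),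
  Rule.mk (nat_lit 4) (nat_lit 89) (Steps.fwd (nat_lit 2560) (Steps.bwd (nat_lit 8) (Steps.fwd (nat_lit 2048) (Steps.bwd (nat_lit 5) (Steps.fwd (nat_lit 3072) (Steps.fwd (nat_lit 2560) (Steps.fwd (nat_lit 4096) (Steps.fwd (nat_lit 2560) Steps.nil)))))))) (nat_lit 46) (nat_lit 7),
  Rule.mk (nat_lit 5) (nat_lit 89) (Steps.bwd (nat_lit 8) (Steps.bwd (nat_lit 5) (Steps.bwd (nat_lit 4) (Steps.fwd (nat_lit 2560) (Steps.fwd (nat_lit 4096) (Steps.fwd (nat_lit 2048) (Steps.fwd (nat_lit 2560) (Steps.bwd (nat_lit 6) Steps.nil)))))))) (nat_lit 46) (nat_lit 4),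
  Rule.mk (nat_lit 4) (nat_lit 89) (Steps.fwd (nat_lit 2560) (Steps.bwd (nat_lit 8) (Steps.bwd (nat_lit 5) (Steps.fwd (nat_lit 3072) (Steps.fwd (nat_lit 2560) (Steps.fwd (nat_lit 2048) (Steps.fwd (nat_lit 4096) (Steps.fwd (nat_lit 2560) Steps.nil)))))))) (nat_lit 47) (nat_lit 3),
  Rule.mk (nat_lit 5) (nat_lit 79) (Steps.bwd (nat_lit 8) (Steps.fwd (nat_lit 2560) (Steps.fwd (nat_lit 4096) (Steps.fwd (nat_lit 2560) (Steps.bwd (nat_lit 8) (Steps.bwd (nat_lit 5) (Steps.fwd (nat_lit 4096) Steps.nil))))))) (nat_lit 44) (nat_lit 1),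
  Rule.mk (nat_lit 5) (nat_lit 39) (Steps.bwd (nat_lit 2) (Steps.fwd (nat_lit 2560) (Steps.fwd (nat_lit 1024) Steps.nil))) (nat_lit 14) (nat_lit 2),
  Rule.mk (nat_lit 5) (nat_lit 39) (Steps.fwd (nat_lit 1024) (Steps.fwd (nat_lit 2560) (Steps.bwd (nat_lit 2) Steps.nil))) (nat_lit 14) (nat_lit 0),
  Rule.mk (nat_lit 4) (nat_lit 89) (Steps.fwd (nat_lit 2560) (Steps.bwd (nat_lit 8) (Steps.bwd (nat_lit 4) (Steps.fwd (nat_lit 2560) (Steps.bwd (nat_lit 6) (Steps.bwd (nat_lit 5) (Steps.fwd (nat_lit 4096) (Steps.fwd (nat_lit 2560) Steps.nil)))))))) (nat_lit 46) (nat_lit 7),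
  Rule.mk (nat_lit 3) (nat_lit 69) (Steps.fwd (nat_lit 2048) (Steps.fwd (nat_lit 2560) (Steps.fwd (nat_lit 2048) (Steps.fwd (nat_lit 3072) (Steps.fwd (nat_lit 2560) (Steps.fwd (nat_lit 3072) Steps.nil)))))) (nat_lit 24) (nat_lit 1),
  Rule.mk (nat_lit 3) (nat_lit 69) (Steps.fwd (nat_lit 2048) (Steps.fwd (nat_lit 2560) (Steps.fwd (nat_lit 2048) (Steps.fwd (nat_lit 3072) (Steps.fwd (nat_lit 2560) (Steps.bwd (nat_lit 6) Steps.nil)))))) (nat_lit 24) (nat_lit 1),
  Rule.mk (nat_lit 3) (nat_lit 39) (Steps.bwd (nat_lit 2) (Steps.fwd (nat_lit 1536) (Steps.bwd (nat_lit 2) Steps.nil))) (nat_lit 5) (nat_lit 1),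
  Rule.mk (nat_lit 8) (nat_lit 39) (Steps.bwd (nat_lit 2) (Steps.bwd (nat_lit 8) (Steps.fwd (nat_lit 1024) Steps.nil))) (nat_lit 40) (nat_lit 2),
  Rule.mk (nat_lit 8) (nat_lit 99) (Steps.bwd (nat_lit 7) (Steps.fwd (nat_lit 2048) (Steps.fwd (nat_lit 3072) (Steps.fwd (nat_lit 3584) (Steps.fwd (nat_lit 4096) (Steps.fwd (nat_lit 2048) (Steps.bwd (nat_lit 7) (Steps.bwd (nat_lit 6) (Steps.fwd (nat_lit 3584) Steps.nil))))))))) (nat_lit 50) (nat_lit 9),
  Rule.mk (nat_lit 7) (nat_lit 89) (Steps.bwd (nat_lit 8) (Steps.fwd (nat_lit 2560) (Steps.fwd (nat_lit 3584) (Steps.fwd (nat_lit 4096) (Steps.bwd (nat_lit 7) (Steps.bwd (nat_lit 5) (Steps.fwd (nat_lit 4096) (Steps.fwd (nat_lit 2560) Steps.nil)))))))) (nat_lit 48) (nat_lit 2),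
  Rule.mk (nat_lit 5) (nat_lit 89) (Steps.bwd (nat_lit 7) (Steps.fwd (nat_lit 4096) (Steps.fwd (nat_lit 3584) (Steps.fwd (nat_lit 2560) (Steps.bwd (nat_lit 8) (Steps.fwd (nat_lit 2560) (Steps.fwd (nat_lit 3584) (Steps.fwd (nat_lit 4096) Steps.nil)))))))) (nat_lit 48) (nat_lit 4),
  Rule.mk (nat_lit 6) (nat_lit 69) (Steps.bwd (nat_lit 5) (Steps.fwd (nat_lit 3072) (Steps.fwd (nat_lit 1536) (Steps.bwd (nat_lit 4) (Steps.fwd (nat_lit 2560) (Steps.fwd (nat_lit 2048) Steps.nil)))))) (nat_lit 24) (nat_lit 5),
  Rule.mk (nat_lit 7) (nat_lit 39) (Steps.bwd (nat_lit 2) (Steps.fwd (nat_lit 3584) (Steps.fwd (nat_lit 1024) Steps.nil))) (nat_lit 32) (nat_lit 2),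
  Rule.mk (nat_lit 7) (nat_lit 39) (Steps.fwd (nat_lit 1024) (Steps.fwd (nat_lit 3584) (Steps.bwd (nat_lit 2) Steps.nil))) (nat_lit 32) (nat_lit 0),
  Rule.mk (nat_lit 8) (nat_lit 89) (Steps.bwd (nat_lit 5) (Steps.bwd (nat_lit 7) (Steps.fwd (nat_lit 4096) (Steps.fwd (nat_lit 2560) (Steps.fwd (nat_lit 3584) (Steps.bwd (nat_lit 8) (Steps.fwd (nat_lit 3584) (Steps.fwd (nat_lit 2560) Steps.nil)))))))) (nat_lit 48) (nat_lit 0),
  Rule.mk (nat_lit 7) (nat_lit 89) (Steps.fwd (nat_lit 2560) (Steps.fwd (nat_lit 4096) (Steps.fwd (nat_lit 2560) (Steps.fwd (nat_lit 3584) (Steps.bwd (nat_lit 8) (Steps.fwd (nat_lit 3584) (Steps.fwd (nat_lit 2560) (Steps.fwd (nat_lit 4096) Steps.nil)))))))) (nat_lit 49) (nat_lit 8),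
  Rule.mk (nat_lit 5) (nat_lit 39) (Steps.bwd (nat_lit 2) (Steps.bwd (nat_lit 5) (Steps.fwd (nat_lit 1024) Steps.nil))) (nat_lit 14) (nat_lit 2),
  Rule.mk (nat_lit 7) (nat_lit 39) (Steps.bwd (nat_lit 2) (Steps.bwd (nat_lit 7) (Steps.fwd (nat_lit 1024) Steps.nil))) (nat_lit 32) (nat_lit 2),
  Rule.mk (nat_lit 8) (nat_lit 39) (Steps.bwd (nat_lit 2) (Steps.fwd (nat_lit 4096) (Steps.fwd (nat_lit 1024) Steps.nil))) (nat_lit 40) (nat_lit 2),
  Rule.mk (nat_lit 5) (nat_lit 119) (Steps.bwd (nat_lit 4) (Steps.fwd (nat_lit 512) (Steps.bwd (nat_lit 4) (Steps.fwd (nat_lit 2560) (Steps.fwd (nat_lit 2048) (Steps.bwd (nat_lit 2) (Steps.fwd (nat_lit 2048) (Steps.bwd (nat_lit 5) (Steps.fwd (nat_lit 2048) (Steps.fwd (nat_lit 512) (Steps.fwd (nat_lit 2048) Steps.nil))))))))))) (nat_lit 19) (nat_lit 2),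
  Rule.mk (nat_lit 7) (nat_lit 39) (Steps.bwd (nat_lit 4) (Steps.bwd (nat_lit 7) (Steps.fwd (nat_lit 2048) Steps.nil))) (nat_lit 34) (nat_lit 0),
  Rule.mk (nat_lit 5) (nat_lit 119) (Steps.bwd (nat_lit 4) (Steps.fwd (nat_lit 1024) (Steps.fwd (nat_lit 2048) (Steps.bwd (nat_lit 5) (Steps.fwd (nat_lit 2048) (Steps.fwd (nat_lit 1024) (Steps.fwd (nat_lit 2048) (Steps.fwd (nat_lit 2560) (Steps.bwd (nat_lit 4) (Steps.fwd (nat_lit 1024) (Steps.fwd (nat_lit 2048) Steps.nil))))))))))) (nat_lit 18) (nat_lit 3),
  Rule.mk (nat_lit 5) (nat_lit 69) (Steps.bwd (nat_lit 6) (Steps.fwd (nat_lit 1536) (Steps.fwd (nat_lit 2048) (Steps.fwd (nat_lit 2560) (Steps.bwd (nat_lit 4) (Steps.fwd (nat_lit 3072) Steps.nil)))))) (nat_lit 24) (nat_lit 6),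
  Rule.mk (nat_lit 7) (nat_lit 179) (Steps.bwd (nat_lit 6) (Steps.bwd (nat_lit 1) (Steps.bwd (nat_lit 4) (Steps.fwd (nat_lit 2560) (Steps.fwd (nat_lit 2048) (Steps.bwd (nat_lit 2) (Steps.bwd (nat_lit 5) (Steps.fwd (nat_lit 3072) (Steps.fwd (nat_lit 3584) (Steps.bwd (nat_lit 6) (Steps.bwd (nat_lit 2) (Steps.fwd (nat_lit 2048) (Steps.fwd (nat_lit 2560) (Steps.bwd (nat_lit 4) (Steps.fwd (nat_lit 1024) (Steps.bwd (nat_lit 7) (Steps.fwd (nat_lit 3072) Steps.nil))))))))))))))))) (nat_lit 36) (nat_lit 17),
  Rule.mk (nat_lit 6) (nat_lit 159) (Steps.fwd (nat_lit 2560) (Steps.bwd (nat_lit 2) (Steps.bwd (nat_lit 6) (Steps.bwd (nat_lit 1) (Steps.fwd (nat_lit 1536) (Steps.fwd (nat_lit 2560) (Steps.fwd (nat_lit 3072) (Steps.fwd (nat_lit 1024) (Steps.bwd (nat_lit 5) (Steps.fwd (nat_lit 3072) (Steps.bwd (nat_lit 2) (Steps.fwd (nat_lit 2560) (Steps.bwd (nat_lit 6) (Steps.bwd (nat_lit 5) (Steps.bwd (nat_lit 1) Steps.nil))))))))))))))) (nat_lit 28) (nat_lit 13),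
  Rule.mk (nat_lit 6) (nat_lit 39) (Steps.bwd (nat_lit 8) (Steps.fwd (nat_lit 3072) (Steps.bwd (nat_lit 8) Steps.nil))) (nat_lit 42) (nat_lit 1),
  Rule.mk (nat_lit 6) (nat_lit 39) (Steps.bwd (nat_lit 8) (Steps.bwd (nat_lit 6) (Steps.fwd (nat_lit 4096) Steps.nil))) (nat_lit 42) (nat_lit 1)]
noncomputable def R_1 : List (Rule) := [Rule.mk (nat_lit 7) (nat_lit 39) (Steps.bwd (nat_lit 4) (Steps.fwd (nat_lit 3584) (Steps.fwd (nat_lit 2048) Steps.nil))) (nat_lit 34) (nat_lit 0),
  Rule.mk (nat_lit 2) (nat_lit 119) (Steps.bwd (nat_lit 4) (Steps.bwd (nat_lit 2) (Steps.bwd (nat_lit 6) (Steps.bwd (nat_lit 1) (Steps.bwd (nat_lit 4) (Steps.fwd (nat_lit 1024) (Steps.fwd (nat_lit 2048) (Steps.fwd (nat_lit 512) (Steps.fwd (nat_lit 3072) (Steps.fwd (nat_lit 1024) (Steps.fwd (nat_lit 2048) Steps.nil))))))))))) (nat_lit 26) (nat_lit 9),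
  Rule.mk (nat_lit 1) (nat_lit 39) (Steps.bwd (nat_lit 3) (Steps.fwd (nat_lit 1024) (Steps.fwd (nat_lit 1536) Steps.nil))) (nat_lit 4) (nat_lit 1),
  Rule.mk (nat_lit 6) (nat_lit 69) (Steps.bwd (nat_lit 3) (Steps.bwd (nat_lit 4) (Steps.fwd (nat_lit 2560) (Steps.fwd (nat_lit 2048) (Steps.fwd (nat_lit 3072) (Steps.fwd (nat_lit 2560) Steps.nil)))))) (nat_lit 24) (nat_lit 0),
  Rule.mk (nat_lit 4) (nat_lit 39) (Steps.bwd (nat_lit 6) (Steps.fwd (nat_lit 2048) (Steps.bwd (nat_lit 6) Steps.nil))) (nat_lit 22) (nat_lit 1),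
  Rule.mk (nat_lit 5) (nat_lit 69) (Steps.bwd (nat_lit 6) (Steps.fwd (nat_lit 1536) (Steps.fwd (nat_lit 2048) (Steps.bwd (nat_lit 5) (Steps.bwd (nat_lit 4) (Steps.fwd (nat_lit 3072) Steps.nil)))))) (nat_lit 24) (nat_lit 6),
  Rule.mk (nat_lit 7) (nat_lit 179) (Steps.bwd (nat_lit 6) (Steps.fwd (nat_lit 1024) (Steps.fwd (nat_lit 2048) (Steps.bwd (nat_lit 5) (Steps.fwd (nat_lit 2048) (Steps.bwd (nat_lit 2) (Steps.fwd (nat_lit 2560) (Steps.bwd (nat_lit 6) (Steps.bwd (nat_lit 7) (Steps.fwd (nat_lit 3072) (Steps.fwd (nat_lit 512) (Steps.fwd (nat_lit 2048) (Steps.bwd (nat_lit 5) (Steps.bwd (nat_lit 4) (Steps.bwd (nat_lit 1) (Steps.fwd (nat_lit 3584) (Steps.fwd (nat_lit 3072) Steps.nil))))))))))))))))) (nat_lit 36) (nat_lit 17),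
  Rule.mk (nat_lit 4) (nat_lit 89) (Steps.bwd (nat_lit 8) (Steps.bwd (nat_lit 5) (Steps.bwd (nat_lit 4) (Steps.fwd (nat_lit 2560) (Steps.fwd (nat_lit 4096) (Steps.bwd (nat_lit 5) (Steps.fwd (nat_lit 3072) (Steps.fwd (nat_lit 2560) Steps.nil)))))))) (nat_lit 47) (nat_lit 0),
  Rule.mk (nat_lit 0) (nat_lit 109) (Steps.fwd (nat_lit 2048) (Steps.fwd (nat_lit 3072) (Steps.bwd (nat_lit 7) (Steps.fwd (nat_lit 4096) (Steps.fwd (nat_lit 2048) (Steps.fwd (nat_lit 3584) (Steps.bwd (nat_lit 6) (Steps.bwd (nat_lit 7) (Steps.fwd (nat_lit 4096) (Steps.fwd (nat_lit 3584) Steps.nil)))))))))) (nat_lit 50) (nat_lit 0),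
  Rule.mk (nat_lit 0) (nat_lit 39) (Steps.fwd (nat_lit 1024) (Steps.fwd (nat_lit 0) (Steps.bwd (nat_lit 2) Steps.nil))) (nat_lit 52) (nat_lit 0),
  Rule.mk (nat_lit 4) (nat_lit 29) (Steps.bwd (nat_lit 0) (Steps.fwd (nat_lit 2048) Steps.nil)) (nat_lit 52) (nat_lit 0),
  Rule.mk (nat_lit 0) (nat_lit 39) (Steps.fwd (nat_lit 3072) (Steps.bwd (nat_lit 0) (Steps.fwd (nat_lit 3072) Steps.nil))) (nat_lit 52) (nat_lit 0),
  Rule.mk (nat_lit 0) (nat_lit 39) (Steps.bwd (nat_lit 8) (Steps.fwd (nat_lit 0) (Steps.bwd (nat_lit 8) Steps.nil))) (nat_lit 52) (nat_lit 0),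
  Rule.mk (nat_lit 6) (nat_lit 29) (Steps.bwd (nat_lit 0) (Steps.fwd (nat_lit 3072) Steps.nil)) (nat_lit 52) (nat_lit 0),
  Rule.mk (nat_lit 7) (nat_lit 99) (Steps.bwd (nat_lit 8) (Steps.fwd (nat_lit 3584) (Steps.bwd (nat_lit 6) (Steps.fwd (nat_lit 3584) (Steps.bwd (nat_lit 4) (Steps.bwd (nat_lit 8) (Steps.fwd (nat_lit 3584) (Steps.fwd (nat_lit 3072) (Steps.bwd (nat_lit 4) Steps.nil))))))))) (nat_lit 51) (nat_lit 1),
  Rule.mk (nat_lit 6) (nat_lit 99) (Steps.bwd (nat_lit 4) (Steps.bwd (nat_lit 7) (Steps.fwd (nat_lit 4096) (Steps.fwd (nat_lit 3584) (Steps.bwd (nat_lit 6) (Steps.fwd (nat_lit 3584) (Steps.fwd (nat_lit 2048) (Steps.fwd (nat_lit 4096) (Steps.fwd (nat_lit 3584) Steps.nil))))))))) (nat_lit 51) (nat_lit 9),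
  Rule.mk (nat_lit 8) (nat_lit 39) (Steps.bwd (nat_lit 6) (Steps.fwd (nat_lit 4096) (Steps.bwd (nat_lit 6) Steps.nil))) (nat_lit 42) (nat_lit 0),
  Rule.mk (nat_lit 3) (nat_lit 69) (Steps.bwd (nat_lit 6) (Steps.bwd (nat_lit 5) (Steps.fwd (nat_lit 3072) (Steps.fwd (nat_lit 2048) (Steps.fwd (nat_lit 2560) (Steps.bwd (nat_lit 4) Steps.nil)))))) (nat_lit 25) (nat_lit 0),
  Rule.mk (nat_lit 7) (nat_lit 99) (Steps.bwd (nat_lit 6) (Steps.bwd (nat_lit 4) (Steps.bwd (nat_lit 7) (Steps.bwd (nat_lit 8) (Steps.fwd (nat_lit 3584) (Steps.bwd (nat_lit 6) (Steps.fwd (nat_lit 3584) (Steps.fwd (nat_lit 2048) (Steps.bwd (nat_lit 8) Steps.nil))))))))) (nat_lit 51) (nat_lit 8),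
  Rule.mk (nat_lit 6) (nat_lit 39) (Steps.bwd (nat_lit 4) (Steps.bwd (nat_lit 6) (Steps.bwd (nat_lit 4) Steps.nil))) (nat_lit 22) (nat_lit 0),
  Rule.mk (nat_lit 5) (nat_lit 69) (Steps.bwd (nat_lit 4) (Steps.bwd (nat_lit 6) (Steps.bwd (nat_lit 5) (Steps.fwd (nat_lit 3072) (Steps.bwd (nat_lit 3) (Steps.fwd (nat_lit 2048) Steps.nil)))))) (nat_lit 24) (nat_lit 3),
  Rule.mk (nat_lit 8) (nat_lit 39) (Steps.bwd (nat_lit 6) (Steps.bwd (nat_lit 8) (Steps.fwd (nat_lit 3072) Steps.nil))) (nat_lit 42) (nat_lit 0),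
  Rule.mk (nat_lit 2) (nat_lit 119) (Steps.bwd (nat_lit 4) (Steps.bwd (nat_lit 2) (Steps.fwd (nat_lit 3072) (Steps.fwd (nat_lit 1024) (Steps.fwd (nat_lit 2048) (Steps.fwd (nat_lit 1024) (Steps.fwd (nat_lit 2048) (Steps.bwd (nat_lit 2) (Steps.bwd (nat_lit 6) (Steps.fwd (nat_lit 1024) (Steps.fwd (nat_lit 2048) Steps.nil))))))))))) (nat_lit 26) (nat_lit 9),
  Rule.mk (nat_lit 1) (nat_lit 99) (Steps.bwd (nat_lit 4) (Steps.fwd (nat_lit 1024) (Steps.fwd (nat_lit 2048) (Steps.fwd (nat_lit 1024) (Steps.fwd (nat_lit 2048) (Steps.fwd (nat_lit 1024) (Steps.bwd (nat_lit 4) (Steps.fwd (nat_lit 1024) (Steps.fwd (nat_lit 2048) Steps.nil))))))))) (nat_lit 8) (nat_lit 1),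
  Rule.mk (nat_lit 3) (nat_lit 109) (Steps.bwd (nat_lit 4) (Steps.fwd (nat_lit 1024) (Steps.fwd (nat_lit 2048) (Steps.bwd (nat_lit 2) (Steps.fwd (nat_lit 2048) (Steps.bwd (nat_lit 1) (Steps.bwd (nat_lit 4) (Steps.bwd (nat_lit 2) (Steps.fwd (nat_lit 2048) (Steps.fwd (nat_lit 1024) Steps.nil)))))))))) (nat_lit 10) (nat_lit 2),
  Rule.mk (nat_lit 5) (nat_lit 119) (Steps.bwd (nat_lit 4) (Steps.fwd (nat_lit 1024) (Steps.fwd (nat_lit 2048) (Steps.bwd (nat_lit 5) (Steps.bwd (nat_lit 4) (Steps.fwd (nat_lit 1024) (Steps.fwd (nat_lit 2048) (Steps.fwd (nat_lit 2560) (Steps.fwd (nat_lit 2048) (Steps.fwd (nat_lit 1024) (Steps.fwd (nat_lit 2048) Steps.nil))))))))))) (nat_lit 18) (nat_lit 3),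
  Rule.mk (nat_lit 8) (nat_lit 89) (Steps.bwd (nat_lit 4) (Steps.fwd (nat_lit 2560) (Steps.fwd (nat_lit 3072) (Steps.fwd (nat_lit 2560) (Steps.bwd (nat_lit 8) (Steps.bwd (nat_lit 5) (Steps.fwd (nat_lit 2048) (Steps.fwd (nat_lit 2560) Steps.nil)))))))) (nat_lit 46) (nat_lit 0),
  Rule.mk (nat_lit 8) (nat_lit 89) (Steps.fwd (nat_lit 2560) (Steps.bwd (nat_lit 4) (Steps.fwd (nat_lit 2560) (Steps.bwd (nat_lit 8) (Steps.fwd (nat_lit 2560) (Steps.bwd (nat_lit 6) (Steps.bwd (nat_lit 5) (Steps.fwd (nat_lit 2048) Steps.nil)))))))) (nat_lit 47) (nat_lit 1),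
  Rule.mk (nat_lit 2) (nat_lit 39) (Steps.bwd (nat_lit 5) (Steps.bwd (nat_lit 1) (Steps.fwd (nat_lit 2560) Steps.nil))) (nat_lit 14) (nat_lit 3),
  Rule.mk (nat_lit 6) (nat_lit 69) (Steps.bwd (nat_lit 5) (Steps.fwd (nat_lit 3072) (Steps.bwd (nat_lit 4) (Steps.bwd (nat_lit 5) (Steps.fwd (nat_lit 2048) (Steps.fwd (nat_lit 1536) Steps.nil)))))) (nat_lit 25) (nat_lit 1),
  Rule.mk (nat_lit 8) (nat_lit 89) (Steps.bwd (nat_lit 5) (Steps.bwd (nat_lit 4) (Steps.fwd (nat_lit 2560) (Steps.fwd (nat_lit 4096) (Steps.fwd (nat_lit 2048) (Steps.fwd (nat_lit 2560) (Steps.bwd (nat_lit 6) (Steps.fwd (nat_lit 2560) Steps.nil)))))))) (nat_lit 46) (nat_lit 5),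
  Rule.mk (nat_lit 3) (nat_lit 69) (Steps.bwd (nat_lit 6) (Steps.fwd (nat_lit 2560) (Steps.fwd (nat_lit 3072) (Steps.bwd (nat_lit 4) (Steps.fwd (nat_lit 2560) (Steps.fwd (nat_lit 2048) Steps.nil)))))) (nat_lit 25) (nat_lit 0),
  Rule.mk (nat_lit 6) (nat_lit 39) (Steps.bwd (nat_lit 4) (Steps.fwd (nat_lit 3072) (Steps.bwd (nat_lit 4) Steps.nil))) (nat_lit 22) (nat_lit 0),
  Rule.mk (nat_lit 5) (nat_lit 89) (Steps.bwd (nat_lit 4) (Steps.fwd (nat_lit 4096) (Steps.bwd (nat_lit 5) (Steps.bwd (nat_lit 4) (Steps.fwd (nat_lit 2560) (Steps.fwd (nat_lit 4096) (Steps.bwd (nat_lit 5) (Steps.bwd (nat_lit 6) Steps.nil)))))))) (nat_lit 47) (nat_lit 8),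
  Rule.mk (nat_lit 7) (nat_lit 179) (Steps.fwd (nat_lit 3072) (Steps.fwd (nat_lit 1024) (Steps.fwd (nat_lit 2048) (Steps.fwd (nat_lit 2560) (Steps.bwd (nat_lit 4) (Steps.bwd (nat_lit 2) (Steps.bwd (nat_lit 5) (Steps.fwd (nat_lit 3072) (Steps.fwd (nat_lit 3584) (Steps.fwd (nat_lit 3072) (Steps.bwd (nat_lit 2) (Steps.bwd (nat_lit 4) (Steps.fwd (nat_lit 2560) (Steps.fwd (nat_lit 2048) (Steps.fwd (nat_lit 1024) (Steps.fwd (nat_lit 3584) (Steps.bwd (nat_lit 6) Steps.nil))))))))))))))))) (nat_lit 36) (nat_lit 17),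
  Rule.mk (nat_lit 7) (nat_lit 99) (Steps.fwd (nat_lit 4096) (Steps.fwd (nat_lit 2048) (Steps.fwd (nat_lit 3584) (Steps.fwd (nat_lit 3072) (Steps.bwd (nat_lit 7) (Steps.fwd (nat_lit 4096) (Steps.fwd (nat_lit 3584) (Steps.fwd (nat_lit 2048) (Steps.bwd (nat_lit 6) Steps.nil))))))))) (nat_lit 50) (nat_lit 3),
  Rule.mk (nat_lit 1) (nat_lit 39) (Steps.fwd (nat_lit 3584) (Steps.bwd (nat_lit 2) (Steps.bwd (nat_lit 7) Steps.nil))) (nat_lit 32) (nat_lit 1),
  Rule.mk (nat_lit 1) (nat_lit 99) (Steps.bwd (nat_lit 4) (Steps.fwd (nat_lit 1024) (Steps.fwd (nat_lit 2048) (Steps.fwd (nat_lit 1024) (Steps.fwd (nat_lit 2048) (Steps.bwd (nat_lit 1) (Steps.bwd (nat_lit 4) (Steps.fwd (nat_lit 1024) (Steps.fwd (nat_lit 2048) Steps.nil))))))))) (nat_lit 8) (nat_lit 1),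
  Rule.mk (nat_lit 3) (nat_lit 109) (Steps.bwd (nat_lit 4) (Steps.fwd (nat_lit 1024) (Steps.fwd (nat_lit 2048) (Steps.bwd (nat_lit 2) (Steps.fwd (nat_lit 2048) (Steps.bwd (nat_lit 1) (Steps.bwd (nat_lit 4) (Steps.bwd (nat_lit 2) (Steps.fwd (nat_lit 2048) (Steps.bwd (nat_lit 1) Steps.nil)))))))))) (nat_lit 10) (nat_lit 2),
  Rule.mk (nat_lit 5) (nat_lit 119) (Steps.bwd (nat_lit 4) (Steps.fwd (nat_lit 1024) (Steps.fwd (nat_lit 2048) (Steps.bwd (nat_lit 5) (Steps.fwd (nat_lit 2048) (Steps.fwd (nat_lit 1024) (Steps.bwd (nat_lit 4) (Steps.fwd (nat_lit 2560) (Steps.fwd (nat_lit 2048) (Steps.fwd (nat_lit 1024) (Steps.fwd (nat_lit 2048) Steps.nil))))))))))) (nat_lit 18) (nat_lit 3),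
  Rule.mk (nat_lit 6) (nat_lit 69) (Steps.bwd (nat_lit 5) (Steps.bwd (nat_lit 6) (Steps.bwd (nat_lit 4) (Steps.fwd (nat_lit 2560) (Steps.fwd (nat_lit 2048) (Steps.fwd (nat_lit 1536) Steps.nil)))))) (nat_lit 25) (nat_lit 1),
  Rule.mk (nat_lit 3) (nat_lit 69) (Steps.fwd (nat_lit 3072) (Steps.fwd (nat_lit 2560) (Steps.fwd (nat_lit 3072) (Steps.bwd (nat_lit 4) (Steps.fwd (nat_lit 2560) (Steps.fwd (nat_lit 2048) Steps.nil)))))) (nat_lit 25) (nat_lit 0),
  Rule.mk (nat_lit 3) (nat_lit 69) (Steps.fwd (nat_lit 3072) (Steps.bwd (nat_lit 5) (Steps.bwd (nat_lit 6) (Steps.bwd (nat_lit 4) (Steps.bwd (nat_lit 5) (Steps.fwd (nat_lit 2048) Steps.nil)))))) (nat_lit 25) (nat_lit 0),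
  Rule.mk (nat_lit 8) (nat_lit 39) (Steps.fwd (nat_lit 3072) (Steps.fwd (nat_lit 4096) (Steps.bwd (nat_lit 6) Steps.nil))) (nat_lit 42) (nat_lit 0),
  Rule.mk (nat_lit 5) (nat_lit 69) (Steps.fwd (nat_lit 3072) (Steps.fwd (nat_lit 1536) (Steps.fwd (nat_lit 2048) (Steps.fwd (nat_lit 2560) (Steps.bwd (nat_lit 4) (Steps.bwd (nat_lit 6) Steps.nil)))))) (nat_lit 24) (nat_lit 6),
  Rule.mk (nat_lit 7) (nat_lit 179) (Steps.fwd (nat_lit 3072) (Steps.fwd (nat_lit 1024) (Steps.fwd (nat_lit 2048) (Steps.fwd (nat_lit 2560) (Steps.bwd (nat_lit 4) (Steps.bwd (nat_lit 2) (Steps.bwd (nat_lit 5) (Steps.fwd (nat_lit 3072) (Steps.bwd (nat_lit 7) (Steps.fwd (nat_lit 3072) (Steps.bwd (nat_lit 2) (Steps.fwd (nat_lit 2048) (Steps.fwd (nat_lit 2560) (Steps.fwd (nat_lit 2048) (Steps.fwd (nat_lit 1024) (Steps.bwd (nat_lit 7) (Steps.bwd (nat_lit 6) Steps.nil))))))))))))))))) (nat_lit 36) (nat_lit 17),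
  Rule.mk (nat_lit 7) (nat_lit 99) (Steps.fwd (nat_lit 2048) (Steps.fwd (nat_lit 4096) (Steps.fwd (nat_lit 3584) (Steps.fwd (nat_lit 3072) (Steps.fwd (nat_lit 2048) (Steps.fwd (nat_lit 3584) (Steps.fwd (nat_lit 4096) (Steps.bwd (nat_lit 7) (Steps.bwd (nat_lit 6) Steps.nil))))))))) (nat_lit 51) (nat_lit 5),
  Rule.mk (nat_lit 5) (nat_lit 39) (Steps.bwd (nat_lit 1) (Steps.fwd (nat_lit 2560) (Steps.fwd (nat_lit 512) Steps.nil))) (nat_lit 14) (nat_lit 0),
  Rule.mk (nat_lit 7) (nat_lit 39) (Steps.bwd (nat_lit 1) (Steps.fwd (nat_lit 3584) (Steps.fwd (nat_lit 512) Steps.nil))) (nat_lit 32) (nat_lit 0),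
  Rule.mk (nat_lit 8) (nat_lit 39) (Steps.bwd (nat_lit 1) (Steps.fwd (nat_lit 4096) (Steps.fwd (nat_lit 512) Steps.nil))) (nat_lit 40) (nat_lit 0),
  Rule.mk (nat_lit 6) (nat_lit 159) (Steps.fwd (nat_lit 2560) (Steps.bwd (nat_lit 1) (Steps.fwd (nat_lit 3072) (Steps.fwd (nat_lit 2560) (Steps.bwd (nat_lit 2) (Steps.fwd (nat_lit 3072) (Steps.fwd (nat_lit 1024) (Steps.fwd (nat_lit 1536) (Steps.bwd (nat_lit 5) (Steps.fwd (nat_lit 3072) (Steps.fwd (nat_lit 1024) (Steps.fwd (nat_lit 2560) (Steps.bwd (nat_lit 6) (Steps.bwd (nat_lit 2) (Steps.fwd (nat_lit 2560) Steps.nil))))))))))))))) (nat_lit 28) (nat_lit 10),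
  Rule.mk (nat_lit 3) (nat_lit 159) (Steps.fwd (nat_lit 2560) (Steps.fwd (nat_lit 3072) (Steps.fwd (nat_lit 1024) (Steps.bwd (nat_lit 5) (Steps.fwd (nat_lit 3072) (Steps.bwd (nat_lit 2) (Steps.bwd (nat_lit 5) (Steps.fwd (nat_lit 3072) (Steps.fwd (nat_lit 2560) (Steps.fwd (nat_lit 1024) (Steps.bwd (nat_lit 6) (Steps.fwd (nat_lit 2560) (Steps.bwd (nat_lit 2) (Steps.bwd (nat_lit 6) (Steps.bwd (nat_lit 1) Steps.nil))))))))))))))) (nat_lit 28) (nat_lit 2),
  Rule.mk (nat_lit 5) (nat_lit 69) (Steps.bwd (nat_lit 4) (Steps.fwd (nat_lit 3072) (Steps.bwd (nat_lit 5) (Steps.fwd (nat_lit 3072) (Steps.bwd (nat_lit 3) (Steps.bwd (nat_lit 4) Steps.nil)))))) (nat_lit 24) (nat_lit 3),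
  Rule.mk (nat_lit 3) (nat_lit 69) (Steps.bwd (nat_lit 4) (Steps.fwd (nat_lit 2560) (Steps.fwd (nat_lit 2048) (Steps.fwd (nat_lit 3072) (Steps.fwd (nat_lit 2560) (Steps.bwd (nat_lit 6) Steps.nil)))))) (nat_lit 24) (nat_lit 1),
  Rule.mk (nat_lit 6) (nat_lit 159) (Steps.fwd (nat_lit 2560) (Steps.bwd (nat_lit 2) (Steps.fwd (nat_lit 3072) (Steps.fwd (nat_lit 1024) (Steps.bwd (nat_lit 3) (Steps.fwd (nat_lit 2560) (Steps.fwd (nat_lit 3072) (Steps.fwd (nat_lit 1024) (Steps.fwd (nat_lit 2560) (Steps.fwd (nat_lit 3072) (Steps.bwd (nat_lit 2) (Steps.fwd (nat_lit 2560) (Steps.bwd (nat_lit 6) (Steps.bwd (nat_lit 5) (Steps.fwd (nat_lit 1024) Steps.nil))))))))))))))) (nat_lit 28) (nat_lit 13),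
  Rule.mk (nat_lit 3) (nat_lit 159) (Steps.bwd (nat_lit 2) (Steps.fwd (nat_lit 3072) (Steps.fwd (nat_lit 1024) (Steps.fwd (nat_lit 2560) (Steps.fwd (nat_lit 3072) (Steps.bwd (nat_lit 2) (Steps.fwd (nat_lit 2560) (Steps.fwd (nat_lit 3072) (Steps.fwd (nat_lit 2560) (Steps.fwd (nat_lit 1024) (Steps.bwd (nat_lit 6) (Steps.bwd (nat_lit 5) (Steps.bwd (nat_lit 2) (Steps.bwd (nat_lit 6) (Steps.fwd (nat_lit 2560) Steps.nil))))))))))))))) (nat_lit 29) (nat_lit 15),
  Rule.mk (nat_lit 1) (nat_lit 179) (Steps.bwd (nat_lit 4) (Steps.fwd (nat_lit 2560) (Steps.fwd (nat_lit 2048) (Steps.fwd (nat_lit 512) (Steps.fwd (nat_lit 2560) (Steps.fwd (nat_lit 3072) (Steps.bwd (nat_lit 7) (Steps.bwd (nat_lit 6) (Steps.bwd (nat_lit 2) (Steps.bwd (nat_lit 4) (Steps.bwd (nat_lit 5) (Steps.bwd (nat_lit 4) (Steps.fwd (nat_lit 1024) (Steps.fwd (nat_lit 3584) (Steps.bwd (nat_lit 6) (Steps.fwd (nat_lit 3584) (Steps.bwd (nat_lit 6) Steps.nil))))))))))))))))) (nat_lit 36) (nat_lit 1),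
  Rule.mk (nat_lit 2) (nat_lit 39) (Steps.bwd (nat_lit 8) (Steps.bwd (nat_lit 1) (Steps.bwd (nat_lit 8) Steps.nil))) (nat_lit 40) (nat_lit 3),
  Rule.mk (nat_lit 6) (nat_lit 159) (Steps.bwd (nat_lit 1) (Steps.fwd (nat_lit 2560) (Steps.fwd (nat_lit 3072) (Steps.bwd (nat_lit 2) (Steps.fwd (nat_lit 2560) (Steps.bwd (nat_lit 6) (Steps.fwd (nat_lit 2560) (Steps.bwd (nat_lit 1) (Steps.bwd (nat_lit 6) (Steps.fwd (nat_lit 2560) (Steps.bwd (nat_lit 2) (Steps.bwd (nat_lit 6) (Steps.bwd (nat_lit 1) (Steps.fwd (nat_lit 1536) (Steps.fwd (nat_lit 2560) Steps.nil))))))))))))))) (nat_lit 28) (nat_lit 4),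
  Rule.mk (nat_lit 5) (nat_lit 69) (Steps.bwd (nat_lit 4) (Steps.fwd (nat_lit 3072) (Steps.fwd (nat_lit 2560) (Steps.fwd (nat_lit 3072) (Steps.bwd (nat_lit 3) (Steps.fwd (nat_lit 2048) Steps.nil)))))) (nat_lit 24) (nat_lit 3),
  Rule.mk (nat_lit 8) (nat_lit 89) (Steps.bwd (nat_lit 4) (Steps.fwd (nat_lit 2560) (Steps.fwd (nat_lit 3072) (Steps.fwd (nat_lit 2560) (Steps.fwd (nat_lit 4096) (Steps.fwd (nat_lit 2560) (Steps.fwd (nat_lit 2048) (Steps.bwd (nat_lit 5) Steps.nil)))))))) (nat_lit 46) (nat_lit 0),
  Rule.mk (nat_lit 2) (nat_lit 119) (Steps.bwd (nat_lit 4) (Steps.bwd (nat_lit 2) (Steps.fwd (nat_lit 3072) (Steps.fwd (nat_lit 1024) (Steps.fwd (nat_lit 2048) (Steps.bwd (nat_lit 1) (Steps.bwd (nat_lit 4) (Steps.bwd (nat_lit 2) (Steps.bwd (nat_lit 6) (Steps.fwd (nat_lit 1024) (Steps.fwd (nat_lit 2048) Steps.nil))))))))))) (nat_lit 26) (nat_lit 9),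
  Rule.mk (nat_lit 1) (nat_lit 29) (Steps.bwd (nat_lit 1) (Steps.fwd (nat_lit 1024) Steps.nil)) (nat_lit 2) (nat_lit 0),
  Rule.mk (nat_lit 3) (nat_lit 39) (Steps.bwd (nat_lit 1) (Steps.bwd (nat_lit 3) (Steps.bwd (nat_lit 1) Steps.nil))) (nat_lit 4) (nat_lit 0)]
noncomputable def R_2 : List (Rule) := [Rule.mk (nat_lit 8) (nat_lit 39) (Steps.bwd (nat_lit 1) (Steps.fwd (nat_lit 4096) (Steps.bwd (nat_lit 2) Steps.nil))) (nat_lit 40) (nat_lit 0),
  Rule.mk (nat_lit 4) (nat_lit 99) (Steps.bwd (nat_lit 1) (Steps.bwd (nat_lit 4) (Steps.fwd (nat_lit 1024) (Steps.fwd (nat_lit 2048) (Steps.fwd (nat_lit 1024) (Steps.fwd (nat_lit 2048) (Steps.fwd (nat_lit 1024) (Steps.bwd (nat_lit 4) (Steps.bwd (nat_lit 1) Steps.nil))))))))) (nat_lit 8) (nat_lit 0),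
  Rule.mk (nat_lit 6) (nat_lit 99) (Steps.bwd (nat_lit 7) (Steps.bwd (nat_lit 8) (Steps.fwd (nat_lit 3584) (Steps.fwd (nat_lit 2048) (Steps.fwd (nat_lit 3072) (Steps.bwd (nat_lit 7) (Steps.fwd (nat_lit 4096) (Steps.fwd (nat_lit 2048) (Steps.fwd (nat_lit 3584) Steps.nil))))))))) (nat_lit 50) (nat_lit 7),
  Rule.mk (nat_lit 5) (nat_lit 179) (Steps.bwd (nat_lit 4) (Steps.fwd (nat_lit 1024) (Steps.fwd (nat_lit 3072) (Steps.bwd (nat_lit 7) (Steps.fwd (nat_lit 3072) (Steps.fwd (nat_lit 2560) (Steps.fwd (nat_lit 1024) (Steps.fwd (nat_lit 2048) (Steps.fwd (nat_lit 2560) (Steps.fwd (nat_lit 2048) (Steps.bwd (nat_lit 2) (Steps.bwd (nat_lit 6) (Steps.fwd (nat_lit 3584) (Steps.fwd (nat_lit 3072) (Steps.bwd (nat_lit 7) (Steps.bwd (nat_lit 2) (Steps.fwd (nat_lit 2048) Steps.nil))))))))))))))))) (nat_lit 37) (nat_lit 7),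
  Rule.mk (nat_lit 8) (nat_lit 89) (Steps.bwd (nat_lit 4) (Steps.fwd (nat_lit 2560) (Steps.bwd (nat_lit 6) (Steps.bwd (nat_lit 5) (Steps.fwd (nat_lit 4096) (Steps.fwd (nat_lit 2560) (Steps.fwd (nat_lit 2048) (Steps.bwd (nat_lit 5) Steps.nil)))))))) (nat_lit 46) (nat_lit 0),
  Rule.mk (nat_lit 8) (nat_lit 79) (Steps.bwd (nat_lit 5) (Steps.bwd (nat_lit 8) (Steps.fwd (nat_lit 2560) (Steps.fwd (nat_lit 4096) (Steps.bwd (nat_lit 5) (Steps.fwd (nat_lit 4096) (Steps.fwd (nat_lit 2560) Steps.nil))))))) (nat_lit 44) (nat_lit 0),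
  Rule.mk (nat_lit 7) (nat_lit 99) (Steps.fwd (nat_lit 3072) (Steps.fwd (nat_lit 3584) (Steps.fwd (nat_lit 2048) (Steps.bwd (nat_lit 8) (Steps.fwd (nat_lit 3584) (Steps.fwd (nat_lit 3072) (Steps.bwd (nat_lit 4) (Steps.fwd (nat_lit 3584) (Steps.fwd (nat_lit 4096) Steps.nil))))))))) (nat_lit 51) (nat_lit 3),
  Rule.mk (nat_lit 7) (nat_lit 39) (Steps.fwd (nat_lit 1024) (Steps.bwd (nat_lit 7) (Steps.bwd (nat_lit 2) Steps.nil))) (nat_lit 32) (nat_lit 0),
  Rule.mk (nat_lit 1) (nat_lit 39) (Steps.bwd (nat_lit 5) (Steps.bwd (nat_lit 2) (Steps.fwd (nat_lit 2560) Steps.nil))) (nat_lit 14) (nat_lit 1),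
  Rule.mk (nat_lit 4) (nat_lit 119) (Steps.bwd (nat_lit 2) (Steps.fwd (nat_lit 3072) (Steps.fwd (nat_lit 1024) (Steps.fwd (nat_lit 2048) (Steps.bwd (nat_lit 2) (Steps.fwd (nat_lit 2048) (Steps.fwd (nat_lit 512) (Steps.bwd (nat_lit 6) (Steps.fwd (nat_lit 1024) (Steps.bwd (nat_lit 4) (Steps.fwd (nat_lit 1024) Steps.nil))))))))))) (nat_lit 26) (nat_lit 4),
  Rule.mk (nat_lit 4) (nat_lit 39) (Steps.fwd (nat_lit 3584) (Steps.fwd (nat_lit 2048) (Steps.bwd (nat_lit 7) Steps.nil))) (nat_lit 34) (nat_lit 1),
  Rule.mk (nat_lit 4) (nat_lit 39) (Steps.bwd (nat_lit 6) (Steps.fwd (nat_lit 2048) (Steps.fwd (nat_lit 3072) Steps.nil))) (nat_lit 22) (nat_lit 1),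
  Rule.mk (nat_lit 4) (nat_lit 109) (Steps.bwd (nat_lit 1) (Steps.bwd (nat_lit 3) (Steps.fwd (nat_lit 2048) (Steps.fwd (nat_lit 1024) (Steps.fwd (nat_lit 2048) (Steps.bwd (nat_lit 2) (Steps.bwd (nat_lit 4) (Steps.fwd (nat_lit 1024) (Steps.fwd (nat_lit 2048) (Steps.bwd (nat_lit 2) Steps.nil)))))))))) (nat_lit 10) (nat_lit 0),
  Rule.mk (nat_lit 3) (nat_lit 109) (Steps.bwd (nat_lit 4) (Steps.bwd (nat_lit 1) (Steps.fwd (nat_lit 2048) (Steps.bwd (nat_lit 2) (Steps.fwd (nat_lit 2048) (Steps.fwd (nat_lit 1024) (Steps.bwd (nat_lit 4) (Steps.fwd (nat_lit 512) (Steps.fwd (nat_lit 2048) (Steps.fwd (nat_lit 1024) Steps.nil)))))))))) (nat_lit 10) (nat_lit 2),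
  Rule.mk (nat_lit 3) (nat_lit 109) (Steps.fwd (nat_lit 2048) (Steps.fwd (nat_lit 1024) (Steps.bwd (nat_lit 4) (Steps.fwd (nat_lit 512) (Steps.fwd (nat_lit 2048) (Steps.fwd (nat_lit 1024) (Steps.bwd (nat_lit 4) (Steps.bwd (nat_lit 2) (Steps.fwd (nat_lit 2048) (Steps.fwd (nat_lit 1024) Steps.nil)))))))))) (nat_lit 10) (nat_lit 2),
  Rule.mk (nat_lit 5) (nat_lit 89) (Steps.fwd (nat_lit 3072) (Steps.bwd (nat_lit 5) (Steps.bwd (nat_lit 8) (Steps.fwd (nat_lit 2560) (Steps.fwd (nat_lit 2048) (Steps.fwd (nat_lit 2560) (Steps.fwd (nat_lit 4096) (Steps.bwd (nat_lit 4) Steps.nil)))))))) (nat_lit 46) (nat_lit 2),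
  Rule.mk (nat_lit 3) (nat_lit 109) (Steps.bwd (nat_lit 4) (Steps.fwd (nat_lit 1024) (Steps.fwd (nat_lit 2048) (Steps.bwd (nat_lit 2) (Steps.fwd (nat_lit 2048) (Steps.fwd (nat_lit 1024) (Steps.bwd (nat_lit 4) (Steps.bwd (nat_lit 2) (Steps.bwd (nat_lit 4) (Steps.fwd (nat_lit 1024) Steps.nil)))))))))) (nat_lit 10) (nat_lit 2),
  Rule.mk (nat_lit 3) (nat_lit 109) (Steps.bwd (nat_lit 4) (Steps.fwd (nat_lit 1024) (Steps.fwd (nat_lit 2048) (Steps.bwd (nat_lit 2) (Steps.fwd (nat_lit 2048) (Steps.fwd (nat_lit 1024) (Steps.bwd (nat_lit 4) (Steps.bwd (nat_lit 2) (Steps.fwd (nat_lit 2048) (Steps.fwd (nat_lit 1024) Steps.nil)))))))))) (nat_lit 10) (nat_lit 2),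
  Rule.mk (nat_lit 3) (nat_lit 109) (Steps.fwd (nat_lit 2048) (Steps.fwd (nat_lit 1024) (Steps.bwd (nat_lit 4) (Steps.bwd (nat_lit 2) (Steps.fwd (nat_lit 2048) (Steps.fwd (nat_lit 1024) (Steps.fwd (nat_lit 2048) (Steps.bwd (nat_lit 2) (Steps.bwd (nat_lit 4) (Steps.fwd (nat_lit 1024) Steps.nil)))))))))) (nat_lit 10) (nat_lit 2),
  Rule.mk (nat_lit 1) (nat_lit 39) (Steps.bwd (nat_lit 3) (Steps.bwd (nat_lit 1) (Steps.fwd (nat_lit 1536) Steps.nil))) (nat_lit 4) (nat_lit 1),
  Rule.mk (nat_lit 6) (nat_lit 69) (Steps.bwd (nat_lit 3) (Steps.bwd (nat_lit 4) (Steps.fwd (nat_lit 2560) (Steps.fwd (nat_lit 2048) (Steps.bwd (nat_lit 6) (Steps.fwd (nat_lit 2560) Steps.nil)))))) (nat_lit 24) (nat_lit 0),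
  Rule.mk (nat_lit 4) (nat_lit 109) (Steps.bwd (nat_lit 1) (Steps.bwd (nat_lit 3) (Steps.bwd (nat_lit 4) (Steps.fwd (nat_lit 1024) (Steps.fwd (nat_lit 2048) (Steps.bwd (nat_lit 2) (Steps.fwd (nat_lit 2048) (Steps.bwd (nat_lit 1) (Steps.bwd (nat_lit 4) (Steps.bwd (nat_lit 2) Steps.nil)))))))))) (nat_lit 10) (nat_lit 0),
  Rule.mk (nat_lit 4) (nat_lit 39) (Steps.bwd (nat_lit 7) (Steps.fwd (nat_lit 2048) (Steps.bwd (nat_lit 7) Steps.nil))) (nat_lit 34) (nat_lit 1),
  Rule.mk (nat_lit 8) (nat_lit 99) (Steps.bwd (nat_lit 7) (Steps.fwd (nat_lit 2048) (Steps.bwd (nat_lit 6) (Steps.bwd (nat_lit 7) (Steps.fwd (nat_lit 4096) (Steps.fwd (nat_lit 2048) (Steps.fwd (nat_lit 3584) (Steps.bwd (nat_lit 6) (Steps.fwd (nat_lit 3584) Steps.nil))))))))) (nat_lit 50) (nat_lit 9),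
  Rule.mk (nat_lit 5) (nat_lit 89) (Steps.fwd (nat_lit 3584) (Steps.fwd (nat_lit 4096) (Steps.fwd (nat_lit 3584) (Steps.bwd (nat_lit 5) (Steps.fwd (nat_lit 4096) (Steps.fwd (nat_lit 2560) (Steps.fwd (nat_lit 3584) (Steps.bwd (nat_lit 8) Steps.nil)))))))) (nat_lit 48) (nat_lit 4),
  Rule.mk (nat_lit 3) (nat_lit 39) (Steps.bwd (nat_lit 5) (Steps.bwd (nat_lit 3) (Steps.bwd (nat_lit 5) Steps.nil))) (nat_lit 16) (nat_lit 1),
  Rule.mk (nat_lit 8) (nat_lit 79) (Steps.fwd (nat_lit 2560) (Steps.fwd (nat_lit 4096) (Steps.bwd (nat_lit 5) (Steps.fwd (nat_lit 4096) (Steps.fwd (nat_lit 2560) (Steps.bwd (nat_lit 8) (Steps.bwd (nat_lit 5) Steps.nil))))))) (nat_lit 44) (nat_lit 0),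
  Rule.mk (nat_lit 5) (nat_lit 119) (Steps.fwd (nat_lit 2048) (Steps.fwd (nat_lit 1024) (Steps.bwd (nat_lit 4) (Steps.bwd (nat_lit 5) (Steps.fwd (nat_lit 2048) (Steps.fwd (nat_lit 1024) (Steps.fwd (nat_lit 2048) (Steps.bwd (nat_lit 5) (Steps.bwd (nat_lit 4) (Steps.fwd (nat_lit 1024) (Steps.fwd (nat_lit 2048) Steps.nil))))))))))) (nat_lit 18) (nat_lit 3),
  Rule.mk (nat_lit 5) (nat_lit 179) (Steps.fwd (nat_lit 2048) (Steps.fwd (nat_lit 1024) (Steps.bwd (nat_lit 7) (Steps.bwd (nat_lit 6) (Steps.fwd (nat_lit 3584) (Steps.fwd (nat_lit 3072) (Steps.fwd (nat_lit 1024) (Steps.bwd (nat_lit 4) (Steps.bwd (nat_lit 5) (Steps.fwd (nat_lit 2048) (Steps.bwd (nat_lit 2) (Steps.fwd (nat_lit 2560) (Steps.fwd (nat_lit 3072) (Steps.fwd (nat_lit 3584) (Steps.fwd (nat_lit 3072) (Steps.bwd (nat_lit 2) (Steps.fwd (nat_lit 2048) Steps.nil))))))))))))))))) (nat_lit 36) (nat_lit 12),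
  Rule.mk (nat_lit 8) (nat_lit 39) (Steps.bwd (nat_lit 6) (Steps.fwd (nat_lit 4096) (Steps.fwd (nat_lit 3072) Steps.nil))) (nat_lit 42) (nat_lit 0),
  Rule.mk (nat_lit 6) (nat_lit 69) (Steps.bwd (nat_lit 5) (Steps.fwd (nat_lit 3072) (Steps.fwd (nat_lit 1536) (Steps.fwd (nat_lit 2048) (Steps.bwd (nat_lit 5) (Steps.bwd (nat_lit 4) Steps.nil)))))) (nat_lit 24) (nat_lit 5),
  Rule.mk (nat_lit 8) (nat_lit 89) (Steps.bwd (nat_lit 5) (Steps.fwd (nat_lit 3072) (Steps.fwd (nat_lit 2560) (Steps.bwd (nat_lit 4) (Steps.fwd (nat_lit 4096) (Steps.fwd (nat_lit 2560) (Steps.fwd (nat_lit 2048) (Steps.fwd (nat_lit 2560) Steps.nil)))))))) (nat_lit 47) (nat_lit 5),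
  Rule.mk (nat_lit 7) (nat_lit 99) (Steps.bwd (nat_lit 6) (Steps.bwd (nat_lit 7) (Steps.bwd (nat_lit 8) (Steps.bwd (nat_lit 7) (Steps.bwd (nat_lit 4) (Steps.fwd (nat_lit 3072) (Steps.fwd (nat_lit 3584) (Steps.fwd (nat_lit 4096) (Steps.fwd (nat_lit 2048) Steps.nil))))))))) (nat_lit 50) (nat_lit 6),
  Rule.mk (nat_lit 3) (nat_lit 109) (Steps.fwd (nat_lit 2048) (Steps.bwd (nat_lit 1) (Steps.fwd (nat_lit 2048) (Steps.fwd (nat_lit 512) (Steps.fwd (nat_lit 2048) (Steps.bwd (nat_lit 1) (Steps.fwd (nat_lit 2048) (Steps.fwd (nat_lit 512) (Steps.fwd (nat_lit 2048) (Steps.bwd (nat_lit 1) Steps.nil)))))))))) (nat_lit 10) (nat_lit 2),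
  Rule.mk (nat_lit 8) (nat_lit 89) (Steps.bwd (nat_lit 5) (Steps.fwd (nat_lit 3584) (Steps.bwd (nat_lit 8) (Steps.bwd (nat_lit 7) (Steps.fwd (nat_lit 2560) (Steps.fwd (nat_lit 4096) (Steps.fwd (nat_lit 2560) (Steps.fwd (nat_lit 3584) Steps.nil)))))))) (nat_lit 48) (nat_lit 3),
  Rule.mk (nat_lit 6) (nat_lit 39) (Steps.fwd (nat_lit 4096) (Steps.fwd (nat_lit 3072) (Steps.bwd (nat_lit 8) Steps.nil))) (nat_lit 42) (nat_lit 1),
  Rule.mk (nat_lit 3) (nat_lit 39) (Steps.bwd (nat_lit 5) (Steps.bwd (nat_lit 3) (Steps.fwd (nat_lit 2560) Steps.nil))) (nat_lit 16) (nat_lit 1),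
  Rule.mk (nat_lit 6) (nat_lit 69) (Steps.bwd (nat_lit 5) (Steps.fwd (nat_lit 3072) (Steps.bwd (nat_lit 3) (Steps.bwd (nat_lit 4) (Steps.fwd (nat_lit 2560) (Steps.fwd (nat_lit 2048) Steps.nil)))))) (nat_lit 24) (nat_lit 5),
  Rule.mk (nat_lit 8) (nat_lit 89) (Steps.bwd (nat_lit 5) (Steps.fwd (nat_lit 2048) (Steps.fwd (nat_lit 2560) (Steps.fwd (nat_lit 4096) (Steps.fwd (nat_lit 2048) (Steps.fwd (nat_lit 2560) (Steps.fwd (nat_lit 3072) (Steps.fwd (nat_lit 2560) Steps.nil)))))))) (nat_lit 46) (nat_lit 5),
  Rule.mk (nat_lit 5) (nat_lit 39) (Steps.bwd (nat_lit 1) (Steps.bwd (nat_lit 5) (Steps.bwd (nat_lit 2) Steps.nil))) (nat_lit 14) (nat_lit 0),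
  Rule.mk (nat_lit 6) (nat_lit 159) (Steps.bwd (nat_lit 1) (Steps.bwd (nat_lit 5) (Steps.fwd (nat_lit 3072) (Steps.bwd (nat_lit 2) (Steps.fwd (nat_lit 2560) (Steps.fwd (nat_lit 3072) (Steps.fwd (nat_lit 2560) (Steps.fwd (nat_lit 1024) (Steps.bwd (nat_lit 6) (Steps.fwd (nat_lit 2560) (Steps.bwd (nat_lit 2) (Steps.bwd (nat_lit 6) (Steps.fwd (nat_lit 1024) (Steps.fwd (nat_lit 1536) (Steps.bwd (nat_lit 5) Steps.nil))))))))))))))) (nat_lit 28) (nat_lit 4),
  Rule.mk (nat_lit 4) (nat_lit 69) (Steps.bwd (nat_lit 5) (Steps.fwd (nat_lit 2048) (Steps.bwd (nat_lit 6) (Steps.bwd (nat_lit 5) (Steps.fwd (nat_lit 3072) (Steps.fwd (nat_lit 1536) Steps.nil)))))) (nat_lit 24) (nat_lit 2),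
  Rule.mk (nat_lit 8) (nat_lit 89) (Steps.bwd (nat_lit 7) (Steps.fwd (nat_lit 2560) (Steps.bwd (nat_lit 8) (Steps.fwd (nat_lit 2560) (Steps.fwd (nat_lit 3584) (Steps.fwd (nat_lit 4096) (Steps.bwd (nat_lit 5) (Steps.fwd (nat_lit 3584) Steps.nil)))))))) (nat_lit 48) (nat_lit 6),
  Rule.mk (nat_lit 5) (nat_lit 89) (Steps.bwd (nat_lit 7) (Steps.fwd (nat_lit 4096) (Steps.bwd (nat_lit 7) (Steps.fwd (nat_lit 2560) (Steps.bwd (nat_lit 8) (Steps.bwd (nat_lit 5) (Steps.fwd (nat_lit 3584) (Steps.fwd (nat_lit 4096) Steps.nil)))))))) (nat_lit 48) (nat_lit 4),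
  Rule.mk (nat_lit 6) (nat_lit 99) (Steps.bwd (nat_lit 7) (Steps.fwd (nat_lit 4096) (Steps.bwd (nat_lit 7) (Steps.fwd (nat_lit 2048) (Steps.fwd (nat_lit 3072) (Steps.fwd (nat_lit 3584) (Steps.bwd (nat_lit 8) (Steps.fwd (nat_lit 2048) (Steps.fwd (nat_lit 3584) Steps.nil))))))))) (nat_lit 50) (nat_lit 7),
  Rule.mk (nat_lit 3) (nat_lit 39) (Steps.fwd (nat_lit 2560) (Steps.fwd (nat_lit 1536) (Steps.bwd (nat_lit 5) Steps.nil))) (nat_lit 16) (nat_lit 1),
  Rule.mk (nat_lit 7) (nat_lit 39) (Steps.bwd (nat_lit 4) (Steps.bwd (nat_lit 7) (Steps.bwd (nat_lit 4) Steps.nil))) (nat_lit 34) (nat_lit 0),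
  Rule.mk (nat_lit 5) (nat_lit 69) (Steps.bwd (nat_lit 4) (Steps.fwd (nat_lit 3072) (Steps.fwd (nat_lit 2560) (Steps.fwd (nat_lit 3072) (Steps.fwd (nat_lit 1536) (Steps.fwd (nat_lit 2048) Steps.nil)))))) (nat_lit 24) (nat_lit 3),
  Rule.mk (nat_lit 3) (nat_lit 69) (Steps.bwd (nat_lit 4) (Steps.fwd (nat_lit 2560) (Steps.fwd (nat_lit 2048) (Steps.fwd (nat_lit 3072) (Steps.bwd (nat_lit 5) (Steps.fwd (nat_lit 3072) Steps.nil)))))) (nat_lit 24) (nat_lit 1),
  Rule.mk (nat_lit 8) (nat_lit 99) (Steps.bwd (nat_lit 4) (Steps.bwd (nat_lit 7) (Steps.fwd (nat_lit 3072) (Steps.fwd (nat_lit 3584) (Steps.fwd (nat_lit 4096) (Steps.bwd (nat_lit 7) (Steps.bwd (nat_lit 4) (Steps.fwd (nat_lit 3072) (Steps.bwd (nat_lit 7) Steps.nil))))))))) (nat_lit 50) (nat_lit 4),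
  Rule.mk (nat_lit 2) (nat_lit 179) (Steps.bwd (nat_lit 4) (Steps.fwd (nat_lit 2560) (Steps.fwd (nat_lit 2048) (Steps.fwd (nat_lit 1024) (Steps.fwd (nat_lit 3584) (Steps.fwd (nat_lit 3072) (Steps.bwd (nat_lit 7) (Steps.bwd (nat_lit 6) (Steps.bwd (nat_lit 1) (Steps.bwd (nat_lit 4) (Steps.bwd (nat_lit 5) (Steps.fwd (nat_lit 2048) (Steps.fwd (nat_lit 512) (Steps.fwd (nat_lit 2560) (Steps.fwd (nat_lit 3072) (Steps.bwd (nat_lit 7) (Steps.fwd (nat_lit 3072) Steps.nil))))))))))))))))) (nat_lit 36) (nat_lit 10),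
  Rule.mk (nat_lit 5) (nat_lit 119) (Steps.fwd (nat_lit 2048) (Steps.fwd (nat_lit 1024) (Steps.fwd (nat_lit 2048) (Steps.bwd (nat_lit 5) (Steps.fwd (nat_lit 2048) (Steps.fwd (nat_lit 1024) (Steps.bwd (nat_lit 4) (Steps.fwd (nat_lit 2560) (Steps.fwd (nat_lit 2048) (Steps.fwd (nat_lit 1024) (Steps.bwd (nat_lit 4) Steps.nil))))))))))) (nat_lit 18) (nat_lit 3),
  Rule.mk (nat_lit 5) (nat_lit 69) (Steps.bwd (nat_lit 6) (Steps.bwd (nat_lit 3) (Steps.bwd (nat_lit 4) (Steps.bwd (nat_lit 5) (Steps.fwd (nat_lit 2048) (Steps.fwd (nat_lit 3072) Steps.nil)))))) (nat_lit 24) (nat_lit 6),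
  Rule.mk (nat_lit 5) (nat_lit 69) (Steps.fwd (nat_lit 3072) (Steps.bwd (nat_lit 4) (Steps.bwd (nat_lit 5) (Steps.fwd (nat_lit 2048) (Steps.bwd (nat_lit 3) (Steps.bwd (nat_lit 6) Steps.nil)))))) (nat_lit 25) (nat_lit 2),
  Rule.mk (nat_lit 7) (nat_lit 39) (Steps.bwd (nat_lit 2) (Steps.bwd (nat_lit 7) (Steps.bwd (nat_lit 1) Steps.nil))) (nat_lit 32) (nat_lit 2),
  Rule.mk (nat_lit 7) (nat_lit 179) (Steps.bwd (nat_lit 6) (Steps.fwd (nat_lit 2560) (Steps.fwd (nat_lit 1024) (Steps.bwd (nat_lit 4) (Steps.fwd (nat_lit 2560) (Steps.fwd (nat_lit 2048) (Steps.bwd (nat_lit 2) (Steps.fwd (nat_lit 3072) (Steps.bwd (nat_lit 7) (Steps.bwd (nat_lit 6) (Steps.bwd (nat_lit 7) (Steps.bwd (nat_lit 2) (Steps.bwd (nat_lit 4) (Steps.fwd (nat_lit 2560) (Steps.fwd (nat_lit 2048) (Steps.fwd (nat_lit 1024) (Steps.fwd (nat_lit 3072) Steps.nil))))))))))))))))) (nat_lit 37) (nat_lit 11),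
  Rule.mk (nat_lit 5) (nat_lit 89) (Steps.fwd (nat_lit 3584) (Steps.fwd (nat_lit 4096) (Steps.fwd (nat_lit 3584) (Steps.fwd (nat_lit 2560) (Steps.bwd (nat_lit 8) (Steps.fwd (nat_lit 2560) (Steps.bwd (nat_lit 7) (Steps.fwd (nat_lit 4096) Steps.nil)))))))) (nat_lit 48) (nat_lit 4),
  Rule.mk (nat_lit 8) (nat_lit 99) (Steps.bwd (nat_lit 4) (Steps.bwd (nat_lit 7) (Steps.bwd (nat_lit 6) (Steps.fwd (nat_lit 3584) (Steps.fwd (nat_lit 4096) (Steps.fwd (nat_lit 3584) (Steps.bwd (nat_lit 4) (Steps.fwd (nat_lit 3072) (Steps.bwd (nat_lit 7) Steps.nil))))))))) (nat_lit 50) (nat_lit 4),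
  Rule.mk (nat_lit 2) (nat_lit 119) (Steps.bwd (nat_lit 4) (Steps.bwd (nat_lit 2) (Steps.fwd (nat_lit 3072) (Steps.fwd (nat_lit 1024) (Steps.bwd (nat_lit 4) (Steps.fwd (nat_lit 1024) (Steps.fwd (nat_lit 2048) (Steps.bwd (nat_lit 2) (Steps.bwd (nat_lit 6) (Steps.fwd (nat_lit 1024) (Steps.fwd (nat_lit 2048) Steps.nil))))))))))) (nat_lit 26) (nat_lit 9),
  Rule.mk (nat_lit 4) (nat_lit 119) (Steps.bwd (nat_lit 2) (Steps.bwd (nat_lit 6) (Steps.fwd (nat_lit 1024) (Steps.fwd (nat_lit 2048) (Steps.bwd (nat_lit 2) (Steps.bwd (nat_lit 4) (Steps.bwd (nat_lit 2) (Steps.bwd (nat_lit 6) (Steps.fwd (nat_lit 1024) (Steps.bwd (nat_lit 4) (Steps.fwd (nat_lit 1024) Steps.nil))))))))))) (nat_lit 26) (nat_lit 4),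
  Rule.mk (nat_lit 4) (nat_lit 39) (Steps.bwd (nat_lit 7) (Steps.bwd (nat_lit 4) (Steps.bwd (nat_lit 7) Steps.nil))) (nat_lit 34) (nat_lit 1),
  Rule.mk (nat_lit 5) (nat_lit 89) (Steps.bwd (nat_lit 7) (Steps.fwd (nat_lit 4096) (Steps.fwd (nat_lit 3584) (Steps.bwd (nat_lit 5) (Steps.fwd (nat_lit 4096) (Steps.fwd (nat_lit 2560) (Steps.bwd (nat_lit 7) (Steps.bwd (nat_lit 8) Steps.nil)))))))) (nat_lit 48) (nat_lit 4),
  Rule.mk (nat_lit 8) (nat_lit 99) (Steps.bwd (nat_lit 7) (Steps.bwd (nat_lit 4) (Steps.bwd (nat_lit 6) (Steps.bwd (nat_lit 7) (Steps.bwd (nat_lit 8) (Steps.fwd (nat_lit 2048) (Steps.fwd (nat_lit 3584) (Steps.fwd (nat_lit 3072) (Steps.bwd (nat_lit 7) Steps.nil))))))))) (nat_lit 50) (nat_lit 9),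
  Rule.mk (nat_lit 3) (nat_lit 69) (Steps.fwd (nat_lit 2048) (Steps.bwd (nat_lit 5) (Steps.fwd (nat_lit 2048) (Steps.bwd (nat_lit 6) (Steps.fwd (nat_lit 2560) (Steps.bwd (nat_lit 6) Steps.nil)))))) (nat_lit 24) (nat_lit 1)]
noncomputable def R_3 : List (Rule) := [Rule.mk (nat_lit 3) (nat_lit 39) (Steps.fwd (nat_lit 1024) (Steps.bwd (nat_lit 3) (Steps.fwd (nat_lit 1024) Steps.nil))) (nat_lit 4) (nat_lit 0),
  Rule.mk (nat_lit 8) (nat_lit 99) (Steps.bwd (nat_lit 7) (Steps.fwd (nat_lit 2048) (Steps.fwd (nat_lit 3072) (Steps.fwd (nat_lit 3584) (Steps.fwd (nat_lit 4096) (Steps.bwd (nat_lit 4) (Steps.fwd (nat_lit 3584) (Steps.bwd (nat_lit 6) (Steps.fwd (nat_lit 3584) Steps.nil))))))))) (nat_lit 50) (nat_lit 9),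
  Rule.mk (nat_lit 6) (nat_lit 99) (Steps.bwd (nat_lit 7) (Steps.fwd (nat_lit 4096) (Steps.fwd (nat_lit 3584) (Steps.bwd (nat_lit 4) (Steps.fwd (nat_lit 3072) (Steps.bwd (nat_lit 7) (Steps.fwd (nat_lit 4096) (Steps.fwd (nat_lit 2048) (Steps.bwd (nat_lit 7) Steps.nil))))))))) (nat_lit 50) (nat_lit 7),
  Rule.mk (nat_lit 6) (nat_lit 69) (Steps.bwd (nat_lit 5) (Steps.fwd (nat_lit 3072) (Steps.bwd (nat_lit 3) (Steps.fwd (nat_lit 2048) (Steps.fwd (nat_lit 2560) (Steps.bwd (nat_lit 4) Steps.nil)))))) (nat_lit 24) (nat_lit 5),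
  Rule.mk (nat_lit 4) (nat_lit 69) (Steps.bwd (nat_lit 5) (Steps.fwd (nat_lit 2048) (Steps.fwd (nat_lit 3072) (Steps.fwd (nat_lit 2560) (Steps.bwd (nat_lit 6) (Steps.bwd (nat_lit 3) Steps.nil)))))) (nat_lit 24) (nat_lit 2),
  Rule.mk (nat_lit 8) (nat_lit 89) (Steps.bwd (nat_lit 5) (Steps.fwd (nat_lit 2048) (Steps.bwd (nat_lit 5) (Steps.bwd (nat_lit 8) (Steps.bwd (nat_lit 4) (Steps.bwd (nat_lit 5) (Steps.fwd (nat_lit 3072) (Steps.bwd (nat_lit 5) Steps.nil)))))))) (nat_lit 46) (nat_lit 5),
  Rule.mk (nat_lit 3) (nat_lit 69) (Steps.fwd (nat_lit 3072) (Steps.fwd (nat_lit 2560) (Steps.bwd (nat_lit 6) (Steps.bwd (nat_lit 4) (Steps.fwd (nat_lit 2560) (Steps.bwd (nat_lit 4) Steps.nil)))))) (nat_lit 25) (nat_lit 0),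
  Rule.mk (nat_lit 8) (nat_lit 89) (Steps.bwd (nat_lit 7) (Steps.bwd (nat_lit 5) (Steps.fwd (nat_lit 4096) (Steps.bwd (nat_lit 5) (Steps.bwd (nat_lit 7) (Steps.fwd (nat_lit 4096) (Steps.fwd (nat_lit 2560) (Steps.fwd (nat_lit 3584) Steps.nil)))))))) (nat_lit 48) (nat_lit 6),
  Rule.mk (nat_lit 5) (nat_lit 89) (Steps.bwd (nat_lit 7) (Steps.fwd (nat_lit 4096) (Steps.bwd (nat_lit 7) (Steps.bwd (nat_lit 5) (Steps.bwd (nat_lit 8) (Steps.bwd (nat_lit 5) (Steps.fwd (nat_lit 3584) (Steps.bwd (nat_lit 8) Steps.nil)))))))) (nat_lit 48) (nat_lit 4),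
  Rule.mk (nat_lit 5) (nat_lit 89) (Steps.bwd (nat_lit 4) (Steps.fwd (nat_lit 2560) (Steps.fwd (nat_lit 4096) (Steps.bwd (nat_lit 4) (Steps.fwd (nat_lit 2560) (Steps.fwd (nat_lit 3072) (Steps.bwd (nat_lit 5) (Steps.fwd (nat_lit 4096) Steps.nil)))))))) (nat_lit 46) (nat_lit 6),
  Rule.mk (nat_lit 8) (nat_lit 89) (Steps.bwd (nat_lit 4) (Steps.fwd (nat_lit 2560) (Steps.bwd (nat_lit 6) (Steps.fwd (nat_lit 2560) (Steps.fwd (nat_lit 4096) (Steps.bwd (nat_lit 5) (Steps.fwd (nat_lit 2048) (Steps.bwd (nat_lit 5) Steps.nil)))))))) (nat_lit 46) (nat_lit 0),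
  Rule.mk (nat_lit 2) (nat_lit 119) (Steps.bwd (nat_lit 4) (Steps.fwd (nat_lit 2560) (Steps.fwd (nat_lit 2048) (Steps.bwd (nat_lit 2) (Steps.fwd (nat_lit 2048) (Steps.fwd (nat_lit 2560) (Steps.fwd (nat_lit 2048) (Steps.bwd (nat_lit 2) (Steps.fwd (nat_lit 2048) (Steps.bwd (nat_lit 5) (Steps.bwd (nat_lit 4) Steps.nil))))))))))) (nat_lit 19) (nat_lit 0),
  Rule.mk (nat_lit 1) (nat_lit 179) (Steps.fwd (nat_lit 3584) (Steps.fwd (nat_lit 3072) (Steps.fwd (nat_lit 3584) (Steps.bwd (nat_lit 6) (Steps.fwd (nat_lit 1024) (Steps.fwd (nat_lit 2048) (Steps.fwd (nat_lit 2560) (Steps.fwd (nat_lit 2048) (Steps.bwd (nat_lit 2) (Steps.bwd (nat_lit 5) (Steps.fwd (nat_lit 3072) (Steps.fwd (nat_lit 3584) (Steps.fwd (nat_lit 3072) (Steps.bwd (nat_lit 2) (Steps.bwd (nat_lit 4) (Steps.fwd (nat_lit 2560) (Steps.fwd (nat_lit 2048) Steps.nil))))))))))))))))) (nat_lit 36) (nat_lit 14),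
  Rule.mk (nat_lit 3) (nat_lit 69) (Steps.fwd (nat_lit 2048) (Steps.fwd (nat_lit 2560) (Steps.bwd (nat_lit 4) (Steps.bwd (nat_lit 6) (Steps.bwd (nat_lit 5) (Steps.fwd (nat_lit 3072) Steps.nil)))))) (nat_lit 24) (nat_lit 1),
  Rule.mk (nat_lit 5) (nat_lit 69) (Steps.bwd (nat_lit 6) (Steps.fwd (nat_lit 1536) (Steps.bwd (nat_lit 4) (Steps.bwd (nat_lit 5) (Steps.fwd (nat_lit 2048) (Steps.fwd (nat_lit 3072) Steps.nil)))))) (nat_lit 24) (nat_lit 6),
  Rule.mk (nat_lit 3) (nat_lit 69) (Steps.bwd (nat_lit 6) (Steps.fwd (nat_lit 2560) (Steps.fwd (nat_lit 3072) (Steps.fwd (nat_lit 2048) (Steps.bwd (nat_lit 5) (Steps.fwd (nat_lit 2048) Steps.nil)))))) (nat_lit 25) (nat_lit 0),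
  Rule.mk (nat_lit 7) (nat_lit 99) (Steps.bwd (nat_lit 6) (Steps.bwd (nat_lit 4) (Steps.bwd (nat_lit 7) (Steps.fwd (nat_lit 4096) (Steps.bwd (nat_lit 7) (Steps.fwd (nat_lit 3072) (Steps.fwd (nat_lit 3584) (Steps.fwd (nat_lit 2048) (Steps.fwd (nat_lit 4096) Steps.nil))))))))) (nat_lit 51) (nat_lit 8),
  Rule.mk (nat_lit 2) (nat_lit 159) (Steps.bwd (nat_lit 6) (Steps.fwd (nat_lit 1024) (Steps.fwd (nat_lit 1536) (Steps.fwd (nat_lit 2560) (Steps.fwd (nat_lit 3072) (Steps.fwd (nat_lit 1024) (Steps.bwd (nat_lit 5) (Steps.fwd (nat_lit 3072) (Steps.bwd (nat_lit 2) (Steps.fwd (nat_lit 2560) (Steps.bwd (nat_lit 6) (Steps.bwd (nat_lit 5) (Steps.fwd (nat_lit 1024) (Steps.fwd (nat_lit 3072) (Steps.fwd (nat_lit 2560) Steps.nil))))))))))))))) (nat_lit 28) (nat_lit 15),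
  Rule.mk (nat_lit 3) (nat_lit 69) (Steps.bwd (nat_lit 4) (Steps.fwd (nat_lit 2560) (Steps.fwd (nat_lit 2048) (Steps.fwd (nat_lit 3072) (Steps.bwd (nat_lit 5) (Steps.bwd (nat_lit 6) Steps.nil)))))) (nat_lit 24) (nat_lit 1),
  Rule.mk (nat_lit 8) (nat_lit 89) (Steps.bwd (nat_lit 4) (Steps.fwd (nat_lit 2560) (Steps.fwd (nat_lit 3072) (Steps.bwd (nat_lit 5) (Steps.fwd (nat_lit 4096) (Steps.fwd (nat_lit 2560) (Steps.bwd (nat_lit 4) (Steps.bwd (nat_lit 5) Steps.nil)))))))) (nat_lit 46) (nat_lit 0),
  Rule.mk (nat_lit 1) (nat_lit 99) (Steps.bwd (nat_lit 4) (Steps.fwd (nat_lit 1024) (Steps.fwd (nat_lit 2048) (Steps.fwd (nat_lit 1024) (Steps.bwd (nat_lit 4) (Steps.fwd (nat_lit 1024) (Steps.fwd (nat_lit 2048) (Steps.fwd (nat_lit 1024) (Steps.fwd (nat_lit 2048) Steps.nil))))))))) (nat_lit 8) (nat_lit 1),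
  Rule.mk (nat_lit 3) (nat_lit 39) (Steps.bwd (nat_lit 5) (Steps.fwd (nat_lit 1536) (Steps.bwd (nat_lit 5) Steps.nil))) (nat_lit 16) (nat_lit 1),
  Rule.mk (nat_lit 6) (nat_lit 69) (Steps.bwd (nat_lit 5) (Steps.fwd (nat_lit 3072) (Steps.bwd (nat_lit 3) (Steps.fwd (nat_lit 2048) (Steps.bwd (nat_lit 5) (Steps.bwd (nat_lit 4) Steps.nil)))))) (nat_lit 24) (nat_lit 5),
  Rule.mk (nat_lit 4) (nat_lit 69) (Steps.bwd (nat_lit 5) (Steps.bwd (nat_lit 4) (Steps.fwd (nat_lit 3072) (Steps.bwd (nat_lit 5) (Steps.fwd (nat_lit 3072) (Steps.bwd (nat_lit 3) Steps.nil)))))) (nat_lit 24) (nat_lit 2),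
  Rule.mk (nat_lit 8) (nat_lit 79) (Steps.bwd (nat_lit 5) (Steps.fwd (nat_lit 4096) (Steps.fwd (nat_lit 2560) (Steps.bwd (nat_lit 8) (Steps.bwd (nat_lit 5) (Steps.fwd (nat_lit 4096) (Steps.fwd (nat_lit 2560) Steps.nil))))))) (nat_lit 44) (nat_lit 0),
  Rule.mk (nat_lit 7) (nat_lit 89) (Steps.bwd (nat_lit 5) (Steps.fwd (nat_lit 4096) (Steps.fwd (nat_lit 2560) (Steps.fwd (nat_lit 3584) (Steps.fwd (nat_lit 4096) (Steps.bwd (nat_lit 5) (Steps.fwd (nat_lit 3584) (Steps.bwd (nat_lit 8) Steps.nil)))))))) (nat_lit 48) (nat_lit 7),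
  Rule.mk (nat_lit 4) (nat_lit 99) (Steps.bwd (nat_lit 1) (Steps.bwd (nat_lit 4) (Steps.fwd (nat_lit 1024) (Steps.fwd (nat_lit 2048) (Steps.fwd (nat_lit 1024) (Steps.bwd (nat_lit 4) (Steps.fwd (nat_lit 1024) (Steps.fwd (nat_lit 2048) (Steps.bwd (nat_lit 1) Steps.nil))))))))) (nat_lit 8) (nat_lit 0),
  Rule.mk (nat_lit 6) (nat_lit 159) (Steps.fwd (nat_lit 2560) (Steps.bwd (nat_lit 1) (Steps.bwd (nat_lit 6) (Steps.fwd (nat_lit 2560) (Steps.bwd (nat_lit 2) (Steps.bwd (nat_lit 6) (Steps.fwd (nat_lit 1024) (Steps.fwd (nat_lit 1536) (Steps.fwd (nat_lit 2560) (Steps.fwd (nat_lit 3072) (Steps.fwd (nat_lit 1024) (Steps.bwd (nat_lit 5) (Steps.fwd (nat_lit 3072) (Steps.fwd (nat_lit 512) (Steps.fwd (nat_lit 2560) Steps.nil))))))))))))))) (nat_lit 28) (nat_lit 10),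
  Rule.mk (nat_lit 6) (nat_lit 99) (Steps.bwd (nat_lit 4) (Steps.fwd (nat_lit 3584) (Steps.fwd (nat_lit 4096) (Steps.bwd (nat_lit 7) (Steps.fwd (nat_lit 3072) (Steps.fwd (nat_lit 3584) (Steps.fwd (nat_lit 2048) (Steps.bwd (nat_lit 8) (Steps.fwd (nat_lit 3584) Steps.nil))))))))) (nat_lit 51) (nat_lit 9),
  Rule.mk (nat_lit 5) (nat_lit 119) (Steps.bwd (nat_lit 4) (Steps.bwd (nat_lit 1) (Steps.bwd (nat_lit 4) (Steps.bwd (nat_lit 5) (Steps.bwd (nat_lit 4) (Steps.bwd (nat_lit 1) (Steps.bwd (nat_lit 4) (Steps.bwd (nat_lit 5) (Steps.fwd (nat_lit 2048) (Steps.bwd (nat_lit 1) (Steps.fwd (nat_lit 2048) Steps.nil))))))))))) (nat_lit 18) (nat_lit 3),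
  Rule.mk (nat_lit 2) (nat_lit 119) (Steps.bwd (nat_lit 4) (Steps.fwd (nat_lit 512) (Steps.bwd (nat_lit 6) (Steps.fwd (nat_lit 1024) (Steps.fwd (nat_lit 2048) (Steps.fwd (nat_lit 1024) (Steps.bwd (nat_lit 4) (Steps.bwd (nat_lit 2) (Steps.fwd (nat_lit 3072) (Steps.bwd (nat_lit 1) (Steps.fwd (nat_lit 2048) Steps.nil))))))))))) (nat_lit 26) (nat_lit 9),
  Rule.mk (nat_lit 5) (nat_lit 89) (Steps.bwd (nat_lit 8) (Steps.fwd (nat_lit 2560) (Steps.bwd (nat_lit 4) (Steps.fwd (nat_lit 2560) (Steps.fwd (nat_lit 4096) (Steps.fwd (nat_lit 2048) (Steps.fwd (nat_lit 2560) (Steps.bwd (nat_lit 6) Steps.nil)))))))) (nat_lit 46) (nat_lit 4),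
  Rule.mk (nat_lit 4) (nat_lit 89) (Steps.fwd (nat_lit 2560) (Steps.bwd (nat_lit 8) (Steps.fwd (nat_lit 2560) (Steps.fwd (nat_lit 3072) (Steps.fwd (nat_lit 2560) (Steps.fwd (nat_lit 2048) (Steps.fwd (nat_lit 4096) (Steps.fwd (nat_lit 2560) Steps.nil)))))))) (nat_lit 47) (nat_lit 3),
  Rule.mk (nat_lit 5) (nat_lit 69) (Steps.bwd (nat_lit 6) (Steps.fwd (nat_lit 1536) (Steps.fwd (nat_lit 2048) (Steps.fwd (nat_lit 2560) (Steps.fwd (nat_lit 2048) (Steps.fwd (nat_lit 3072) Steps.nil)))))) (nat_lit 24) (nat_lit 6),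
  Rule.mk (nat_lit 3) (nat_lit 69) (Steps.fwd (nat_lit 2048) (Steps.fwd (nat_lit 2560) (Steps.fwd (nat_lit 2048) (Steps.bwd (nat_lit 6) (Steps.fwd (nat_lit 2560) (Steps.fwd (nat_lit 3072) Steps.nil)))))) (nat_lit 24) (nat_lit 1),
  Rule.mk (nat_lit 7) (nat_lit 99) (Steps.bwd (nat_lit 6) (Steps.fwd (nat_lit 3584) (Steps.fwd (nat_lit 4096) (Steps.bwd (nat_lit 7) (Steps.fwd (nat_lit 2048) (Steps.fwd (nat_lit 3072) (Steps.bwd (nat_lit 7) (Steps.bwd (nat_lit 8) (Steps.fwd (nat_lit 2048) Steps.nil))))))))) (nat_lit 50) (nat_lit 6),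
  Rule.mk (nat_lit 2) (nat_lit 159) (Steps.bwd (nat_lit 6) (Steps.bwd (nat_lit 1) (Steps.bwd (nat_lit 3) (Steps.fwd (nat_lit 2560) (Steps.fwd (nat_lit 3072) (Steps.fwd (nat_lit 1024) (Steps.bwd (nat_lit 5) (Steps.fwd (nat_lit 3072) (Steps.fwd (nat_lit 512) (Steps.bwd (nat_lit 5) (Steps.bwd (nat_lit 6) (Steps.fwd (nat_lit 2560) (Steps.bwd (nat_lit 1) (Steps.fwd (nat_lit 3072) (Steps.fwd (nat_lit 2560) Steps.nil))))))))))))))) (nat_lit 28) (nat_lit 15),
  Rule.mk (nat_lit 6) (nat_lit 119) (Steps.bwd (nat_lit 1) (Steps.bwd (nat_lit 4) (Steps.bwd (nat_lit 1) (Steps.bwd (nat_lit 4) (Steps.bwd (nat_lit 2) (Steps.fwd (nat_lit 3072) (Steps.fwd (nat_lit 1024) (Steps.fwd (nat_lit 2048) (Steps.fwd (nat_lit 512) (Steps.fwd (nat_lit 2048) (Steps.fwd (nat_lit 512) Steps.nil))))))))))) (nat_lit 26) (nat_lit 0),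
  Rule.mk (nat_lit 1) (nat_lit 99) (Steps.bwd (nat_lit 4) (Steps.bwd (nat_lit 1) (Steps.bwd (nat_lit 4) (Steps.bwd (nat_lit 1) (Steps.bwd (nat_lit 4) (Steps.fwd (nat_lit 1024) (Steps.fwd (nat_lit 2048) (Steps.bwd (nat_lit 1) (Steps.fwd (nat_lit 2048) Steps.nil))))))))) (nat_lit 8) (nat_lit 1),
  Rule.mk (nat_lit 1) (nat_lit 39) (Steps.bwd (nat_lit 5) (Steps.fwd (nat_lit 512) (Steps.fwd (nat_lit 2560) Steps.nil))) (nat_lit 14) (nat_lit 1),
  Rule.mk (nat_lit 4) (nat_lit 119) (Steps.bwd (nat_lit 5) (Steps.bwd (nat_lit 4) (Steps.bwd (nat_lit 1) (Steps.bwd (nat_lit 4) (Steps.bwd (nat_lit 5) (Steps.fwd (nat_lit 2048) (Steps.bwd (nat_lit 1) (Steps.bwd (nat_lit 4) (Steps.fwd (nat_lit 2560) (Steps.fwd (nat_lit 2048) (Steps.bwd (nat_lit 1) Steps.nil))))))))))) (nat_lit 18) (nat_lit 2),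
  Rule.mk (nat_lit 6) (nat_lit 159) (Steps.bwd (nat_lit 5) (Steps.fwd (nat_lit 512) (Steps.bwd (nat_lit 6) (Steps.fwd (nat_lit 1024) (Steps.fwd (nat_lit 1536) (Steps.fwd (nat_lit 2560) (Steps.fwd (nat_lit 3072) (Steps.fwd (nat_lit 1024) (Steps.bwd (nat_lit 5) (Steps.bwd (nat_lit 6) (Steps.bwd (nat_lit 2) (Steps.fwd (nat_lit 2560) (Steps.fwd (nat_lit 3072) (Steps.fwd (nat_lit 2560) (Steps.bwd (nat_lit 1) Steps.nil))))))))))))))) (nat_lit 28) (nat_lit 13),
  Rule.mk (nat_lit 2) (nat_lit 119) (Steps.fwd (nat_lit 2048) (Steps.fwd (nat_lit 512) (Steps.bwd (nat_lit 6) (Steps.bwd (nat_lit 1) (Steps.bwd (nat_lit 4) (Steps.fwd (nat_lit 1024) (Steps.fwd (nat_lit 2048) (Steps.bwd (nat_lit 2) (Steps.fwd (nat_lit 3072) (Steps.bwd (nat_lit 1) (Steps.bwd (nat_lit 4) Steps.nil))))))))))) (nat_lit 26) (nat_lit 9),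
  Rule.mk (nat_lit 2) (nat_lit 39) (Steps.bwd (nat_lit 5) (Steps.bwd (nat_lit 1) (Steps.bwd (nat_lit 5) Steps.nil))) (nat_lit 14) (nat_lit 3),
  Rule.mk (nat_lit 1) (nat_lit 39) (Steps.bwd (nat_lit 5) (Steps.bwd (nat_lit 2) (Steps.bwd (nat_lit 5) Steps.nil))) (nat_lit 14) (nat_lit 1),
  Rule.mk (nat_lit 4) (nat_lit 69) (Steps.bwd (nat_lit 5) (Steps.fwd (nat_lit 2048) (Steps.fwd (nat_lit 3072) (Steps.fwd (nat_lit 2560) (Steps.fwd (nat_lit 3072) (Steps.bwd (nat_lit 3) Steps.nil)))))) (nat_lit 24) (nat_lit 2),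
  Rule.mk (nat_lit 6) (nat_lit 69) (Steps.fwd (nat_lit 2048) (Steps.bwd (nat_lit 5) (Steps.fwd (nat_lit 2048) (Steps.bwd (nat_lit 3) (Steps.fwd (nat_lit 3072) (Steps.fwd (nat_lit 2560) Steps.nil)))))) (nat_lit 25) (nat_lit 3),
  Rule.mk (nat_lit 6) (nat_lit 119) (Steps.bwd (nat_lit 1) (Steps.fwd (nat_lit 2048) (Steps.bwd (nat_lit 1) (Steps.bwd (nat_lit 4) (Steps.bwd (nat_lit 2) (Steps.fwd (nat_lit 3072) (Steps.fwd (nat_lit 1024) (Steps.fwd (nat_lit 2048) (Steps.fwd (nat_lit 512) (Steps.bwd (nat_lit 4) (Steps.fwd (nat_lit 512) Steps.nil))))))))))) (nat_lit 26) (nat_lit 0),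
  Rule.mk (nat_lit 4) (nat_lit 109) (Steps.fwd (nat_lit 512) (Steps.fwd (nat_lit 2048) (Steps.bwd (nat_lit 1) (Steps.fwd (nat_lit 1536) (Steps.bwd (nat_lit 4) (Steps.fwd (nat_lit 1024) (Steps.fwd (nat_lit 2048) (Steps.fwd (nat_lit 512) (Steps.bwd (nat_lit 4) (Steps.bwd (nat_lit 1) Steps.nil)))))))))) (nat_lit 10) (nat_lit 9),
  Rule.mk (nat_lit 3) (nat_lit 39) (Steps.bwd (nat_lit 2) (Steps.fwd (nat_lit 1536) (Steps.fwd (nat_lit 512) Steps.nil))) (nat_lit 5) (nat_lit 1),
  Rule.mk (nat_lit 5) (nat_lit 39) (Steps.bwd (nat_lit 2) (Steps.fwd (nat_lit 2560) (Steps.bwd (nat_lit 1) Steps.nil))) (nat_lit 14) (nat_lit 2),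
  Rule.mk (nat_lit 8) (nat_lit 39) (Steps.bwd (nat_lit 2) (Steps.fwd (nat_lit 4096) (Steps.bwd (nat_lit 1) Steps.nil))) (nat_lit 40) (nat_lit 2),
  Rule.mk (nat_lit 4) (nat_lit 99) (Steps.bwd (nat_lit 2) (Steps.fwd (nat_lit 2048) (Steps.fwd (nat_lit 512) (Steps.bwd (nat_lit 4) (Steps.bwd (nat_lit 2) (Steps.fwd (nat_lit 2048) (Steps.fwd (nat_lit 512) (Steps.bwd (nat_lit 4) (Steps.fwd (nat_lit 512) Steps.nil))))))))) (nat_lit 9) (nat_lit 1),
  Rule.mk (nat_lit 6) (nat_lit 159) (Steps.bwd (nat_lit 2) (Steps.fwd (nat_lit 2560) (Steps.fwd (nat_lit 3072) (Steps.bwd (nat_lit 5) (Steps.bwd (nat_lit 1) (Steps.fwd (nat_lit 3072) (Steps.bwd (nat_lit 5) (Steps.bwd (nat_lit 2) (Steps.fwd (nat_lit 3072) (Steps.bwd (nat_lit 1) (Steps.fwd (nat_lit 1536) (Steps.fwd (nat_lit 2560) (Steps.bwd (nat_lit 6) (Steps.bwd (nat_lit 1) (Steps.bwd (nat_lit 5) Steps.nil))))))))))))))) (nat_lit 28) (nat_lit 7),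
  Rule.mk (nat_lit 1) (nat_lit 39) (Steps.bwd (nat_lit 3) (Steps.bwd (nat_lit 1) (Steps.bwd (nat_lit 3) Steps.nil))) (nat_lit 4) (nat_lit 1),
  Rule.mk (nat_lit 2) (nat_lit 39) (Steps.bwd (nat_lit 3) (Steps.fwd (nat_lit 512) (Steps.bwd (nat_lit 3) Steps.nil))) (nat_lit 5) (nat_lit 0),
  Rule.mk (nat_lit 5) (nat_lit 39) (Steps.bwd (nat_lit 3) (Steps.bwd (nat_lit 5) (Steps.fwd (nat_lit 1536) Steps.nil))) (nat_lit 16) (nat_lit 0),
  Rule.mk (nat_lit 6) (nat_lit 69) (Steps.bwd (nat_lit 3) (Steps.fwd (nat_lit 2048) (Steps.bwd (nat_lit 5) (Steps.fwd (nat_lit 2048) (Steps.fwd (nat_lit 3072) (Steps.bwd (nat_lit 5) Steps.nil)))))) (nat_lit 24) (nat_lit 0),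
  Rule.mk (nat_lit 4) (nat_lit 69) (Steps.bwd (nat_lit 3) (Steps.fwd (nat_lit 3072) (Steps.bwd (nat_lit 5) (Steps.fwd (nat_lit 3072) (Steps.fwd (nat_lit 2048) (Steps.bwd (nat_lit 5) Steps.nil)))))) (nat_lit 25) (nat_lit 6),
  Rule.mk (nat_lit 8) (nat_lit 89) (Steps.fwd (nat_lit 2048) (Steps.fwd (nat_lit 2560) (Steps.fwd (nat_lit 3072) (Steps.bwd (nat_lit 5) (Steps.bwd (nat_lit 8) (Steps.bwd (nat_lit 5) (Steps.fwd (nat_lit 2048) (Steps.bwd (nat_lit 5) Steps.nil)))))))) (nat_lit 46) (nat_lit 0),
  Rule.mk (nat_lit 4) (nat_lit 109) (Steps.bwd (nat_lit 1) (Steps.fwd (nat_lit 2048) (Steps.bwd (nat_lit 2) (Steps.fwd (nat_lit 2048) (Steps.fwd (nat_lit 1024) (Steps.fwd (nat_lit 1536) (Steps.bwd (nat_lit 4) (Steps.fwd (nat_lit 1024) (Steps.bwd (nat_lit 4) (Steps.fwd (nat_lit 512) Steps.nil)))))))))) (nat_lit 10) (nat_lit 7),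
  Rule.mk (nat_lit 6) (nat_lit 119) (Steps.bwd (nat_lit 1) (Steps.fwd (nat_lit 2048) (Steps.bwd (nat_lit 2) (Steps.fwd (nat_lit 2048) (Steps.bwd (nat_lit 2) (Steps.fwd (nat_lit 3072) (Steps.fwd (nat_lit 1024) (Steps.bwd (nat_lit 4) (Steps.fwd (nat_lit 1024) (Steps.bwd (nat_lit 4) (Steps.fwd (nat_lit 512) Steps.nil))))))))))) (nat_lit 26) (nat_lit 6),
  Rule.mk (nat_lit 6) (nat_lit 159) (Steps.bwd (nat_lit 5) (Steps.bwd (nat_lit 1) (Steps.bwd (nat_lit 6) (Steps.fwd (nat_lit 2560) (Steps.bwd (nat_lit 2) (Steps.fwd (nat_lit 3072) (Steps.fwd (nat_lit 1024) (Steps.fwd (nat_lit 1536) (Steps.bwd (nat_lit 5) (Steps.bwd (nat_lit 6) (Steps.fwd (nat_lit 1024) (Steps.bwd (nat_lit 5) (Steps.fwd (nat_lit 3072) (Steps.fwd (nat_lit 512) (Steps.fwd (nat_lit 2560) Steps.nil))))))))))))))) (nat_lit 28) (nat_lit 10),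
  Rule.mk (nat_lit 7) (nat_lit 179) (Steps.fwd (nat_lit 3072) (Steps.bwd (nat_lit 5) (Steps.bwd (nat_lit 1) (Steps.fwd (nat_lit 2048) (Steps.fwd (nat_lit 2560) (Steps.bwd (nat_lit 4) (Steps.fwd (nat_lit 512) (Steps.bwd (nat_lit 6) (Steps.bwd (nat_lit 7) (Steps.fwd (nat_lit 3072) (Steps.bwd (nat_lit 7) (Steps.fwd (nat_lit 512) (Steps.bwd (nat_lit 4) (Steps.fwd (nat_lit 2560) (Steps.fwd (nat_lit 2048) (Steps.bwd (nat_lit 1) (Steps.fwd (nat_lit 3072) Steps.nil))))))))))))))))) (nat_lit 37) (nat_lit 11)]
noncomputable def R_4 : List (Rule) := [Rule.mk (nat_lit 4) (nat_lit 109) (Steps.bwd (nat_lit 2) (Steps.fwd (nat_lit 2048) (Steps.fwd (nat_lit 1024) (Steps.fwd (nat_lit 1536) (Steps.fwd (nat_lit 2048) (Steps.fwd (nat_lit 1024) (Steps.bwd (nat_lit 4) (Steps.bwd (nat_lit 2) (Steps.bwd (nat_lit 4) (Steps.fwd (nat_lit 1024) Steps.nil)))))))))) (nat_lit 10) (nat_lit 9),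
  Rule.mk (nat_lit 6) (nat_lit 179) (Steps.bwd (nat_lit 2) (Steps.fwd (nat_lit 2048) (Steps.fwd (nat_lit 2560) (Steps.bwd (nat_lit 4) (Steps.fwd (nat_lit 1024) (Steps.bwd (nat_lit 7) (Steps.fwd (nat_lit 3072) (Steps.bwd (nat_lit 7) (Steps.bwd (nat_lit 6) (Steps.fwd (nat_lit 1024) (Steps.fwd (nat_lit 2048) (Steps.bwd (nat_lit 5) (Steps.fwd (nat_lit 2048) (Steps.fwd (nat_lit 512) (Steps.fwd (nat_lit 2560) (Steps.fwd (nat_lit 3072) (Steps.bwd (nat_lit 7) Steps.nil))))))))))))))))) (nat_lit 36) (nat_lit 9),
  Rule.mk (nat_lit 7) (nat_lit 39) (Steps.bwd (nat_lit 4) (Steps.fwd (nat_lit 3584) (Steps.bwd (nat_lit 4) Steps.nil))) (nat_lit 34) (nat_lit 0),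
  Rule.mk (nat_lit 5) (nat_lit 69) (Steps.bwd (nat_lit 4) (Steps.fwd (nat_lit 3072) (Steps.bwd (nat_lit 5) (Steps.fwd (nat_lit 3072) (Steps.bwd (nat_lit 3) (Steps.fwd (nat_lit 2048) Steps.nil)))))) (nat_lit 24) (nat_lit 3),
  Rule.mk (nat_lit 3) (nat_lit 69) (Steps.bwd (nat_lit 4) (Steps.bwd (nat_lit 5) (Steps.fwd (nat_lit 2048) (Steps.fwd (nat_lit 3072) (Steps.fwd (nat_lit 2560) (Steps.fwd (nat_lit 3072) Steps.nil)))))) (nat_lit 24) (nat_lit 1),
  Rule.mk (nat_lit 1) (nat_lit 99) (Steps.bwd (nat_lit 4) (Steps.fwd (nat_lit 1024) (Steps.fwd (nat_lit 2048) (Steps.fwd (nat_lit 1024) (Steps.fwd (nat_lit 2048) (Steps.fwd (nat_lit 1024) (Steps.bwd (nat_lit 4) (Steps.fwd (nat_lit 1024) (Steps.bwd (nat_lit 4) Steps.nil))))))))) (nat_lit 8) (nat_lit 1),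
  Rule.mk (nat_lit 2) (nat_lit 99) (Steps.bwd (nat_lit 4) (Steps.bwd (nat_lit 2) (Steps.fwd (nat_lit 2048) (Steps.bwd (nat_lit 2) (Steps.fwd (nat_lit 2048) (Steps.fwd (nat_lit 512) (Steps.bwd (nat_lit 4) (Steps.fwd (nat_lit 512) (Steps.fwd (nat_lit 2048) Steps.nil))))))))) (nat_lit 9) (nat_lit 0),
  Rule.mk (nat_lit 4) (nat_lit 99) (Steps.bwd (nat_lit 8) (Steps.fwd (nat_lit 3584) (Steps.fwd (nat_lit 3072) (Steps.bwd (nat_lit 4) (Steps.bwd (nat_lit 7) (Steps.bwd (nat_lit 8) (Steps.fwd (nat_lit 3584) (Steps.fwd (nat_lit 3072) (Steps.fwd (nat_lit 3584) Steps.nil))))))))) (nat_lit 51) (nat_lit 6),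
  Rule.mk (nat_lit 7) (nat_lit 99) (Steps.bwd (nat_lit 8) (Steps.fwd (nat_lit 3584) (Steps.fwd (nat_lit 3072) (Steps.bwd (nat_lit 7) (Steps.fwd (nat_lit 2048) (Steps.bwd (nat_lit 8) (Steps.fwd (nat_lit 3584) (Steps.fwd (nat_lit 3072) (Steps.bwd (nat_lit 4) Steps.nil))))))))) (nat_lit 51) (nat_lit 1),
  Rule.mk (nat_lit 5) (nat_lit 39) (Steps.bwd (nat_lit 1) (Steps.fwd (nat_lit 2560) (Steps.bwd (nat_lit 2) Steps.nil))) (nat_lit 14) (nat_lit 0),
  Rule.mk (nat_lit 6) (nat_lit 69) (Steps.bwd (nat_lit 4) (Steps.fwd (nat_lit 2560) (Steps.fwd (nat_lit 2048) (Steps.fwd (nat_lit 1536) (Steps.fwd (nat_lit 3072) (Steps.bwd (nat_lit 5) Steps.nil)))))) (nat_lit 25) (nat_lit 3),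
  Rule.mk (nat_lit 5) (nat_lit 89) (Steps.bwd (nat_lit 4) (Steps.fwd (nat_lit 2560) (Steps.bwd (nat_lit 8) (Steps.fwd (nat_lit 2048) (Steps.fwd (nat_lit 2560) (Steps.fwd (nat_lit 3072) (Steps.bwd (nat_lit 5) (Steps.bwd (nat_lit 8) Steps.nil)))))))) (nat_lit 46) (nat_lit 6),
  Rule.mk (nat_lit 1) (nat_lit 99) (Steps.bwd (nat_lit 4) (Steps.bwd (nat_lit 1) (Steps.fwd (nat_lit 2048) (Steps.bwd (nat_lit 1) (Steps.fwd (nat_lit 2048) (Steps.fwd (nat_lit 1024) (Steps.bwd (nat_lit 4) (Steps.bwd (nat_lit 1) (Steps.bwd (nat_lit 4) Steps.nil))))))))) (nat_lit 8) (nat_lit 1),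
  Rule.mk (nat_lit 3) (nat_lit 69) (Steps.fwd (nat_lit 2048) (Steps.fwd (nat_lit 2560) (Steps.bwd (nat_lit 4) (Steps.fwd (nat_lit 3072) (Steps.bwd (nat_lit 5) (Steps.bwd (nat_lit 6) Steps.nil)))))) (nat_lit 24) (nat_lit 1),
  Rule.mk (nat_lit 1) (nat_lit 39) (Steps.bwd (nat_lit 7) (Steps.fwd (nat_lit 512) (Steps.bwd (nat_lit 7) Steps.nil))) (nat_lit 32) (nat_lit 1),
  Rule.mk (nat_lit 8) (nat_lit 89) (Steps.bwd (nat_lit 7) (Steps.bwd (nat_lit 5) (Steps.bwd (nat_lit 8) (Steps.bwd (nat_lit 5) (Steps.bwd (nat_lit 7) (Steps.bwd (nat_lit 8) (Steps.bwd (nat_lit 5) (Steps.fwd (nat_lit 3584) Steps.nil)))))))) (nat_lit 48) (nat_lit 6),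
  Rule.mk (nat_lit 2) (nat_lit 39) (Steps.bwd (nat_lit 7) (Steps.fwd (nat_lit 1024) (Steps.bwd (nat_lit 7) Steps.nil))) (nat_lit 32) (nat_lit 3),
  Rule.mk (nat_lit 8) (nat_lit 89) (Steps.bwd (nat_lit 7) (Steps.bwd (nat_lit 5) (Steps.fwd (nat_lit 4096) (Steps.fwd (nat_lit 2560) (Steps.bwd (nat_lit 7) (Steps.fwd (nat_lit 4096) (Steps.bwd (nat_lit 5) (Steps.fwd (nat_lit 3584) Steps.nil)))))))) (nat_lit 48) (nat_lit 6),
  Rule.mk (nat_lit 6) (nat_lit 99) (Steps.bwd (nat_lit 7) (Steps.bwd (nat_lit 8) (Steps.bwd (nat_lit 7) (Steps.fwd (nat_lit 2048) (Steps.fwd (nat_lit 3072) (Steps.fwd (nat_lit 3584) (Steps.fwd (nat_lit 4096) (Steps.fwd (nat_lit 2048) (Steps.fwd (nat_lit 3584) Steps.nil))))))))) (nat_lit 50) (nat_lit 7),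
  Rule.mk (nat_lit 3) (nat_lit 109) (Steps.fwd (nat_lit 2048) (Steps.fwd (nat_lit 1024) (Steps.bwd (nat_lit 4) (Steps.bwd (nat_lit 2) (Steps.fwd (nat_lit 2048) (Steps.fwd (nat_lit 1024) (Steps.bwd (nat_lit 4) (Steps.bwd (nat_lit 2) (Steps.fwd (nat_lit 2048) (Steps.bwd (nat_lit 1) Steps.nil)))))))))) (nat_lit 10) (nat_lit 2),
  Rule.mk (nat_lit 2) (nat_lit 39) (Steps.bwd (nat_lit 5) (Steps.fwd (nat_lit 1024) (Steps.bwd (nat_lit 5) Steps.nil))) (nat_lit 14) (nat_lit 3),
  Rule.mk (nat_lit 7) (nat_lit 89) (Steps.bwd (nat_lit 5) (Steps.fwd (nat_lit 4096) (Steps.fwd (nat_lit 2560) (Steps.fwd (nat_lit 3584) (Steps.bwd (nat_lit 8) (Steps.bwd (nat_lit 5) (Steps.fwd (nat_lit 3584) (Steps.bwd (nat_lit 8) Steps.nil)))))))) (nat_lit 48) (nat_lit 7),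
  Rule.mk (nat_lit 1) (nat_lit 159) (Steps.bwd (nat_lit 5) (Steps.fwd (nat_lit 3072) (Steps.fwd (nat_lit 512) (Steps.fwd (nat_lit 2560) (Steps.fwd (nat_lit 3072) (Steps.bwd (nat_lit 5) (Steps.fwd (nat_lit 1024) (Steps.fwd (nat_lit 3072) (Steps.bwd (nat_lit 5) (Steps.fwd (nat_lit 512) (Steps.bwd (nat_lit 6) (Steps.bwd (nat_lit 5) (Steps.fwd (nat_lit 1536) (Steps.bwd (nat_lit 2) (Steps.fwd (nat_lit 3072) Steps.nil))))))))))))))) (nat_lit 29) (nat_lit 2),
  Rule.mk (nat_lit 3) (nat_lit 39) (Steps.bwd (nat_lit 2) (Steps.bwd (nat_lit 3) (Steps.bwd (nat_lit 2) Steps.nil))) (nat_lit 5) (nat_lit 1),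
  Rule.mk (nat_lit 7) (nat_lit 39) (Steps.bwd (nat_lit 2) (Steps.fwd (nat_lit 3584) (Steps.bwd (nat_lit 1) Steps.nil))) (nat_lit 32) (nat_lit 2),
  Rule.mk (nat_lit 4) (nat_lit 99) (Steps.bwd (nat_lit 2) (Steps.bwd (nat_lit 4) (Steps.bwd (nat_lit 2) (Steps.fwd (nat_lit 2048) (Steps.bwd (nat_lit 2) (Steps.bwd (nat_lit 4) (Steps.bwd (nat_lit 2) (Steps.fwd (nat_lit 2048) (Steps.bwd (nat_lit 2) Steps.nil))))))))) (nat_lit 9) (nat_lit 1),
  Rule.mk (nat_lit 6) (nat_lit 179) (Steps.bwd (nat_lit 2) (Steps.bwd (nat_lit 4) (Steps.bwd (nat_lit 5) (Steps.fwd (nat_lit 2048) (Steps.bwd (nat_lit 1) (Steps.fwd (nat_lit 3584) (Steps.bwd (nat_lit 6) (Steps.fwd (nat_lit 3584) (Steps.fwd (nat_lit 3072) (Steps.fwd (nat_lit 1024) (Steps.bwd (nat_lit 4) (Steps.fwd (nat_lit 2560) (Steps.fwd (nat_lit 2048) (Steps.bwd (nat_lit 2) (Steps.bwd (nat_lit 5) (Steps.fwd (nat_lit 3072) (Steps.bwd (nat_lit 7) Steps.nil))))))))))))))))) (nat_lit 36) (nat_lit 9),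
  Rule.mk (nat_lit 8) (nat_lit 39) (Steps.bwd (nat_lit 1) (Steps.bwd (nat_lit 8) (Steps.bwd (nat_lit 2) Steps.nil))) (nat_lit 40) (nat_lit 0),
  Rule.mk (nat_lit 4) (nat_lit 109) (Steps.bwd (nat_lit 1) (Steps.fwd (nat_lit 2048) (Steps.fwd (nat_lit 512) (Steps.fwd (nat_lit 2048) (Steps.bwd (nat_lit 1) (Steps.bwd (nat_lit 3) (Steps.bwd (nat_lit 4) (Steps.bwd (nat_lit 1) (Steps.bwd (nat_lit 4) (Steps.fwd (nat_lit 512) Steps.nil)))))))))) (nat_lit 10) (nat_lit 7),
  Rule.mk (nat_lit 4) (nat_lit 119) (Steps.bwd (nat_lit 2) (Steps.fwd (nat_lit 2048) (Steps.fwd (nat_lit 2560) (Steps.bwd (nat_lit 4) (Steps.bwd (nat_lit 2) (Steps.fwd (nat_lit 2048) (Steps.bwd (nat_lit 5) (Steps.bwd (nat_lit 4) (Steps.fwd (nat_lit 512) (Steps.fwd (nat_lit 2048) (Steps.bwd (nat_lit 5) Steps.nil))))))))))) (nat_lit 19) (nat_lit 3),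
  Rule.mk (nat_lit 6) (nat_lit 159) (Steps.bwd (nat_lit 2) (Steps.bwd (nat_lit 5) (Steps.bwd (nat_lit 6) (Steps.fwd (nat_lit 2560) (Steps.fwd (nat_lit 1024) (Steps.fwd (nat_lit 3072) (Steps.bwd (nat_lit 5) (Steps.bwd (nat_lit 2) (Steps.fwd (nat_lit 3072) (Steps.fwd (nat_lit 1024) (Steps.fwd (nat_lit 1536) (Steps.bwd (nat_lit 5) (Steps.fwd (nat_lit 3072) (Steps.bwd (nat_lit 1) (Steps.bwd (nat_lit 5) Steps.nil))))))))))))))) (nat_lit 28) (nat_lit 7),
  Rule.mk (nat_lit 2) (nat_lit 29) (Steps.bwd (nat_lit 2) (Steps.fwd (nat_lit 512) Steps.nil)) (nat_lit 3) (nat_lit 0),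
  Rule.mk (nat_lit 3) (nat_lit 39) (Steps.bwd (nat_lit 2) (Steps.bwd (nat_lit 3) (Steps.fwd (nat_lit 512) Steps.nil))) (nat_lit 5) (nat_lit 1),
  Rule.mk (nat_lit 4) (nat_lit 99) (Steps.bwd (nat_lit 2) (Steps.bwd (nat_lit 4) (Steps.fwd (nat_lit 512) (Steps.fwd (nat_lit 2048) (Steps.fwd (nat_lit 512) (Steps.fwd (nat_lit 2048) (Steps.fwd (nat_lit 512) (Steps.bwd (nat_lit 4) (Steps.bwd (nat_lit 2) Steps.nil))))))))) (nat_lit 9) (nat_lit 1),
  Rule.mk (nat_lit 6) (nat_lit 119) (Steps.fwd (nat_lit 1024) (Steps.fwd (nat_lit 2048) (Steps.bwd (nat_lit 1) (Steps.bwd (nat_lit 4) (Steps.fwd (nat_lit 512) (Steps.bwd (nat_lit 6) (Steps.fwd (nat_lit 1024) (Steps.fwd (nat_lit 2048) (Steps.bwd (nat_lit 2) (Steps.bwd (nat_lit 4) (Steps.fwd (nat_lit 512) Steps.nil))))))))))) (nat_lit 26) (nat_lit 0),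
  Rule.mk (nat_lit 3) (nat_lit 39) (Steps.bwd (nat_lit 1) (Steps.fwd (nat_lit 1536) (Steps.fwd (nat_lit 1024) Steps.nil))) (nat_lit 4) (nat_lit 0),
  Rule.mk (nat_lit 8) (nat_lit 39) (Steps.bwd (nat_lit 1) (Steps.bwd (nat_lit 8) (Steps.fwd (nat_lit 512) Steps.nil))) (nat_lit 40) (nat_lit 0),
  Rule.mk (nat_lit 4) (nat_lit 99) (Steps.bwd (nat_lit 1) (Steps.bwd (nat_lit 4) (Steps.bwd (nat_lit 1) (Steps.bwd (nat_lit 4) (Steps.fwd (nat_lit 1024) (Steps.fwd (nat_lit 2048) (Steps.fwd (nat_lit 1024) (Steps.fwd (nat_lit 2048) (Steps.bwd (nat_lit 1) Steps.nil))))))))) (nat_lit 8) (nat_lit 0),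
  Rule.mk (nat_lit 3) (nat_lit 69) (Steps.bwd (nat_lit 4) (Steps.fwd (nat_lit 2560) (Steps.fwd (nat_lit 2048) (Steps.fwd (nat_lit 3072) (Steps.fwd (nat_lit 2560) (Steps.fwd (nat_lit 3072) Steps.nil)))))) (nat_lit 24) (nat_lit 1),
  Rule.mk (nat_lit 8) (nat_lit 89) (Steps.fwd (nat_lit 2560) (Steps.bwd (nat_lit 4) (Steps.fwd (nat_lit 2560) (Steps.fwd (nat_lit 4096) (Steps.fwd (nat_lit 2048) (Steps.fwd (nat_lit 2560) (Steps.fwd (nat_lit 3072) (Steps.fwd (nat_lit 2560) Steps.nil)))))))) (nat_lit 46) (nat_lit 5),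
  Rule.mk (nat_lit 1) (nat_lit 99) (Steps.bwd (nat_lit 4) (Steps.bwd (nat_lit 1) (Steps.fwd (nat_lit 2048) (Steps.fwd (nat_lit 1024) (Steps.bwd (nat_lit 4) (Steps.fwd (nat_lit 1024) (Steps.fwd (nat_lit 2048) (Steps.bwd (nat_lit 1) (Steps.fwd (nat_lit 2048) Steps.nil))))))))) (nat_lit 8) (nat_lit 1),
  Rule.mk (nat_lit 8) (nat_lit 89) (Steps.bwd (nat_lit 7) (Steps.fwd (nat_lit 2560) (Steps.bwd (nat_lit 8) (Steps.fwd (nat_lit 2560) (Steps.fwd (nat_lit 3584) (Steps.fwd (nat_lit 4096) (Steps.fwd (nat_lit 2560) (Steps.fwd (nat_lit 3584) Steps.nil)))))))) (nat_lit 48) (nat_lit 6),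
  Rule.mk (nat_lit 5) (nat_lit 89) (Steps.bwd (nat_lit 7) (Steps.bwd (nat_lit 8) (Steps.fwd (nat_lit 3584) (Steps.fwd (nat_lit 2560) (Steps.fwd (nat_lit 4096) (Steps.fwd (nat_lit 2560) (Steps.fwd (nat_lit 3584) (Steps.fwd (nat_lit 4096) Steps.nil)))))))) (nat_lit 48) (nat_lit 4),
  Rule.mk (nat_lit 6) (nat_lit 99) (Steps.bwd (nat_lit 7) (Steps.bwd (nat_lit 8) (Steps.fwd (nat_lit 3584) (Steps.bwd (nat_lit 4) (Steps.bwd (nat_lit 6) (Steps.fwd (nat_lit 3584) (Steps.fwd (nat_lit 4096) (Steps.fwd (nat_lit 2048) (Steps.fwd (nat_lit 3584) Steps.nil))))))))) (nat_lit 50) (nat_lit 7)]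
noncomputable def R : List (List (Rule)) := [R_0, R_1, R_2, R_3, R_4]
def LW : List Word := [[], [0], [1], [2], [4], [6], [8], [10], [12], [0], [1], [2], [3], [4], [5], [6], [7], [8], [9], [10], [11]]
def par : Par := ⟨9, 5, 14, 23, 511, 16383, 8388607⟩
theorem hpar : par.ok := by decide
theorem hR0_0 : lall (R) (fun l => lall l (ruleOK rels LW par)) = true := by decide +kernel
theorem hR0 : lall (R) (fun l => lall l (ruleOK rels LW par)) = true := hR0_0
theorem hR : RulesOK rels LW par R := rulesOK_of rfl hR0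
def cols : List (ℕ × ℕ) := [(512, 2), (1536, 3), (2048, 4), (2560, 5), (3072, 6), (3584, 7), (4096, 8)]
theorem hcols : lall cols (colOK rels LW par) = true := by decide +kernel
noncomputable def JS0 : List ℕ := [nat_lit 0x9b2801f084a02749000038479384f83c1013e4e11e1b238182383446830468340923c8d0c800460448d24c8c009180a918020008e00830010024585c0a22c8a0b00448914150040723428009164484c8b22024001101122889220204511e070220781c4791a4483c892308807110059100d2288901802220080600043912041100082c862200101c8700014010064310e0290a0921c0004108001084301c01000010000100001000010000c4110a0300a0300e42904052040220408408004080c8200882011020290201,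
  nat_lit 0x2c4032c464020021803217802310001a00040009505c960078005816e30038af2e0a7000a72e0af1794c189560e036558621814c2e2942f294345714e528b4a4030a413804019462c004a2089440e94e0294e0e944262881d28442040160400c0380c2b28c0005c3e0b8060b800018002a008a32b0262b4ae28c0214828008282827c0027c4e501524d8024d9525009800268212a0282a09a0004a0000601134541525393224264202600401000010000100001000010000600097294252942225c001192c5214e1414e5212c22254212544202006020809b000130f8280100800004098780104813004030003a018040180401804018040180406,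
  nat_lit 0xb00082001865f9140e00cba020ba2e4885c0005c10cb82ecbc354da168da354bc2ecb82116e0216e412f4022d806659725b1003b000b61f8886989a6a0aa2a1a82909a698946816e5b0023e2d4012d4645a0025a09cb4330422d8012d443110cf144d113c4e344d2334b41e9665b8065b07c598f0b4324430c4330d0330c443104b31d96a649643a2cc3c2c8745999066998248942499866878590e4c52d4b31680059044b30ecb2109661d964022c83c2c8425901a590e0bd2ccb11b97c049603600c072bc580115c11000ae2f0b6008142d82c1a95a5d96a008265a976568d0040c4ac0204c0204c33,
  nat_lit 0xd4008d1309c4349a6009a210180d007c2e3846113c14340be021a0329c20f19e5e3381e338ba670c6078982f0ca678025c000cd188ec1280f190ce2d99a770dc7a9ee3b9ee7a8dc311985a004cc17ccb000cb1846d184cb2c9942f19600196760d83019458328eb1b0711c0711c0711b0eb328ae679b66515825008ca1f9940180a1019665154c9004c9209a66499054004d13a0040bc53170d2320a60581a058020e18e52000c7318a20018c678b2010566f9ca6714008318e4378050401106cc52782401138100089c048064b368033189a0780406930c200496248006212822358dc2f801000bd04c09300920097a6683e6698808178482f0da360c5048c636c5e370521044410c4114c512f08e5d984071861e17646,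
  nat_lit 0xe9078e9139d2051d2723a00a3a0e273814739c000014e60a1ce728480f0400239407394ec7801679a06019c87538c0438c82730027100ce20005316086220751cc752208616053000033a1fe4210a3a0ee390e83790e42a1826810708047338005380e46f8046f9c4de008de3800c0602c061c202000011bc6f00c47414854310e2388d42c80148f93800637c4a00cdc011be029bc240046d00444004d8149b66d000228366b37001364c2768866d8006c83a6a004d93d0eb070d8349b27909c258f43d8f42589c231b068008d8108d7000d71144d114d7339ac209ae009ae78098221ac6636441354740001c00194d80ecd42080a6b8741c874010006a00864004393ac47110731d0723f07e3f8f73580835469004c6000d6320a40b9a6011a462,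
  nat_lit 0x80100801008010080100801032004b25c979385025e97200833fc953fc347f12c7f03404448fe409fa241fa713f0463f0e0000567d850133e824089f411010fe024fe3fd070e5073e904021f67ca04f80c4f8389ee189ee700000e3d9007d1ea7f004f5088ea171ea3f3d4f73d0428d0147a008f43d42b24cff0d0ff24c2b3d4f43f002220f68e92604014799f42c0c0023c8093c8ec210ec1e922031e27c3c0063c0827d0087780c080240a0646044100004320d05e1801004cf03d85e001f67a0c8900e4622203a3d8f53b40117c0e044f03c4f2100f210844451161ba283a9123aa281b91645044761e089230371c8872207421c3723116224213ac013b9d40f1d432,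
  nat_lit 0x31008030082f0382f00803009240100218234072349201a9223491001241712f4c0150580e4801e01a2a1a450034502047006020064680201002a00108f23000004004fc074fc00004004711600804009180311800a2400235110051121816892220e440054401a02816029b089000890008900089000890000c4380043a30050000545a2c8600000804871385213811a2c8a42c210809943401434990802142cfc860428500c0600c064483c008fe88444001fc6e98a86978d83500483a140ea1c011b001008020023625236000028600105249352c05c2645e42a084920e0220e4e1404f13e4f1404f9388380801a068440d054087498a0a818dc00408228191c8103502255304b48221d2d4c10241a024a2021a,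
  nat_lit 0xd3109020062681081a1027498a9c1705419318504c14c9903897a95311352e448001d800a44ecd25a5775d5620112d51a5800a58204ac014acba0000400004000040000400004a2000ab000ca10abab81e4b9adeae05094a8528089284600a060140401c5d086942812e0a92f2e84249d3e0680c06a792e0002c0f8580185816806168a82a0082a1425600a56270b42e0b12d304c05600700c054a8294b0c14b42e0b53a1484e9384694168030040225214a7001008400f840008014d842900009a0008c0f83c0f88c0011e4c9164612ca49300c86e0123a98080014712e8d8048d840ad48415484af2dcaf4851b0052c020269015a90234954641346528932380823819006020061801e93,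
  nat_lit 0x456041128415600452d7c03296a52f5490054906ac0a48000108c229a0251a0b92c0bc5207629cce11045110ce29c7652176a986e1b0aa1380aa4004a3ae8425bd462a0020000e5196e5b146002e56d3283e01c4032c4b530223317d0f807100ca00d455c288002889e5100f51070a328aa1add7903142138b6000b628274370e8010e09d5b2cc1c8001b86cb32d4365d43d0213f0013f0203d30c385a00801826a10300d2840481c080922f882ba07803a7cb3008120213e01d3e0253e4f564010006087402a78b10e0373000400d3b5800a9da74af4e4014e4060085a00ab9380080d524dd36d480113856adcc0b06ba9b6a38069bab13600c5014452140034d956018000127208270aa004225245633cd8364dd370d936170151394d552a081e9a204514dd335400001a6480,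
  nat_lit 0x1f00d636b2c4002c45d58886081815a8215a898589aa160c61404c14190152c2d40842b001600a560698c2632be61081675a0323b82d0a82f0b4ef3b8320c00657da4c7b20643227401ab02beaf3441805d6463406575a0ae2ba04024032b8cf56c0356d3caf8280d0ba01ab6ce03c05568000ad640bc3120c561556f214841b8350119ab104c2f9d02f84cb12c207008acb300016821058115700356196cbb364d93cbe016012aeca574165740b005563b008ab2aa3a02095250bf36cdd0095564936bdb0c6e1ba02aaaaa32001579671706400d8e6d998beaf8b8ac0022a6c60b0370ec3700d52628841d8841f800a8b10615959538c925cc8f00951619aa5c97461962072a8012a0c20400153c3446806a7945510114e22acc000d6c12b40d53c020054e601343c8f0b4ad02aaeca6a98bf,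
  nat_lit 0x440015f1d0001bebe851c152ddc571dc75dc25f17b73af4002f4035e9c0755da56959569da755c05e9cc012f4549745c286ea2aeeba885c1745bb3ebd394030086443887234a429579722f052af0010000138d77284a4284a55ddc4c5942bb2797527d75460042080400002000ac005d1752640601574001c20007e1a92c4c2e8022e6e0254045c804b8802b888402254025c4955c4ecb812cd4a7ca0282a027cd492cb837d6f254ea6719b669992d1a56416f6f1224805e020020212048adcdd5b4905b48201adab80327e9ac1c050529ac7e832b82da01b70040a82b0a80f01c0a01d6c6dad6092d6722400e5a826b481eb49c000035680a014b39fc065f8651497c0cc0659db45c8421104e1900ab3364095bc2d33566595b0b381e34af402ac8d7,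
  nat_lit 0x2650220a3300801c06332d307a1d0865314a350b4cab280040193651a81746118c6d6dca718c61175a8651937f89cc9b24ec648576a9ab1b0711b1ab6a857649fcc88acd4b54368d6d53522b322fd011a3640260100c04018ca82ccab2cfc00405010070298f7d8000600803010c73e8060158d7c89004b18f80118d62dee0100e24914d5148519444a11e4811424b36c5bd98c11c711b0791b1a312d8a7a82024b12f401198621e6c4884c3bc80210c6d1a0751a06c1b443009e20001e0029006009853930ac2049840fc69190711b871190690fd84780081eb068160c0b0218560c00778000230604b08c13b982019811030200b00ed451825fdd8c00088420c7e28e7ca0a8200400bac01449072e0b52e8e83ace46d1bd4150700d7e75000e2a92da1d2da292e2afebf2fae9,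
  nat_lit 0x6b83e0b819069b3080366b62605016d803e1404add359126ac366ac34a6070d5444060100f0542b0bdb86aa20d4872d4869480e5a8878040281204002d4439ef769b9121b937d346a1a7868140782407b54d4006d343002018030140269616d2000d2105a449da438808f0b470a00cf7690580000602808d202213022d1424040080400c0907425041a18434008340021801067c420000e00290021999e0cb3a7933a32039a0194556c19e018096760e3236edc0f2dc0aad7816ce418096740b0319d66e0a0180a05338043350404c0666606cc00ccc00c010581303c0b034116705b2f4b46f8ad2b0526a9988132ed489ed90e6d90f227b52cbc04166a5965bb2e25b2af2,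
  nat_lit 0x102f0400c7260d8320b71e4cea932e3495c5495c53880e91b890a7152170e48e6b847f711c9708007082372956456110124601c208a2aa06814e1b90e0c881306dc00cb7e10b7e327001c6fa420e37b2000c08519614a0110240e700096fd6151a026f63e01008deb840d8441240091c00de479c6211bb16b748fb7432011fe6e42a10370116e1bd0560548109814156f5b88e80e06b6f1c6d8176d8e2ddb6a120184d71445835947f9334b1264b125491fa58a0c6d63603414cc334cdb3510416da4684955db38c818aa3641500d1a6c63003b601100c06461517f00b030166d90a7f151024036c22e14850dc3680881e01b5f1653c046ba2a03404c8324c9b250c4060180514,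
  nat_lit 0x80001802018a9d11ddec1fc7e7b47f7b1d196000e80eef58f83f3d6e84adcf1d9ea1f47b7a87673e54e70e8e7069cd1d9cd06b9a95c281c06cecc2508b9b2900403005cc49928730019400400004e5a4ee5c9dca49d1d4991d72960e4a48e4905c846dc801b910641b07064188650741b06390e6]
theorem S0_c : blocks (facts 9 5 14 23 511 16383 8388607 10 1023 9 511 A R 32) 32 JS0 385 = true := by decide +kernel
theorem S0 : On (Step.{u} rels LW par A) 385 865 :=
  steps_of_blocks hpar hR S0_c (by decide +kernel)
theorem D0_c : allB (defOK 9 14 23 511 8388607 380 A K) 1 2 = true := by decide +kernel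
theorem D0 : On (fun r => defOK par.W par.WL par.E par.mW par.mE 380 A K r = true) 256 384 :=
  On.of_allB D0_c
noncomputable def JW0 : List ℕ := [nat_lit 0x253b3e5dad897a35c71723a59c7692d211bc39f710d0175b645dcd7652c9c6709f5c9468956e44b9b1f60ac8e45ac27fd24cebb2b3528690c32d943111b6b726e0db9bab82946df1c03846fce1e54b4871cd99b035e71b2425bba268ce91bd3a193d261d74bb758ea9cab89734bb1cbc88732e72534b25d4e4e4539895d24a5cba3702e95bb3a7941289d7cbd76ced1dcca896ceea5d4bf7512d261cb87792f25f3b077f309e03c2788f19e43ca,
  nat_lit 0x24ec404ced5a1e3536aace99ca9792f1819ab378a09f93e2808a49ea2aaca56a9cd674695a0b48b94152e1048ba1681aeb958f2e66392155507d460c01824665df1e5830df7bc3f1fd8fe1ea4006707b210fe1fe1021f644ceb42b850760e91d43486a8d61a8842698d19cd88a908f424448091e48a286546cd0e20a65327e2136c6d4da1ad359695265a1347698d119eb25736b7d99c866f32c5a7b31582e5a354aa95a5ad90b0d645225618f9,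
  nat_lit 0x8910c8024408a10e216730d59ca8526d8e71d14ae8a6151bd43c7fa269b48466c0d942035c56cddc434787a91f1e2476c91132d933283d0648d8dcb716f2da8e2a9a2334e46e98da81f96a526d97330552cca3133492b1395e2c057d1953dc4a598ae563acf8d6b456a96a8205ba0996c2d2fda3a3208e4c7643aab10e3a4389067f4ff4819041def70783f91e43d07b1f3614c3137af58f0c2647a2b8d857d09a0d64eb5d7e4775fcbed53a78,
  nat_lit 0x12424a24e9320224e4a070e209dd3c90e8f023945c8d511a3387b0c112298534a594e45852915a28a2a4cd09a1c2014ca9592c4004b49512e25e2fead149aae8c2ac15926a4e09c9374534d89a4bb41482e594bc1577dc768cb9dc85a5d4e3c245c8b8239a8f8e0b882bc755d0b9e2f2fa5c6f8918a342e28ca1d9ef45ab115d2c68cf19136ac91bc2d46d0e01b8389f98887be2043988a0fe230678cd1a4350683f11b01443d06d7b61bc3a878,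
  nat_lit 0xca196838660bc96183e62e1914b34283a1aa108de53d6c19c8145f5299db46c714f31f53c30fcf642e3f47c0fc4313f8a91502a85451754ac5a89e89d3142c40e8013093b570ab557c63562ad8b341127e5920715618e708b19c484e5b4e31c81d02f4730e11c8fc0750670e01b03906e0e8f64770c31d83546e8e37e8209ee8807b42103f0773e50bcb79f13e87b8fb95c2c5030af40f2c0560a3c3731a6810943442ab58c8c6d33d068be277,
  nat_lit 0xaa14e81a5489e95080c5189c94a81102ca41443246420e98e306544a698a830630c0c1b2926252493123a668c317a8930089412624901490123504a113a28679ca214521686c88902439404884bf41982c600c114130a5dd4829251d165463d02cea795645f8b8a34528660d0134308640aa1a84189812a269f008e7ac2a45a0b6164fa4580ae1122584a0927c223c48043198321f60ca17e2b42805209811c270547a66ea111b83786dcdf1c0,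
  nat_lit 0x58f341402a05c0981892e2604a89912c2684da01bcc2384688c11623e0d01d03c070f3c1b0320b81782c0600b4125eabe513c2884d8a013a18c540aa14c24c5089c7ce1082203e08c1002404a3bd0ccfda0540c80d0493a2704fa0493c28050c2e8bc1702cc5d0be7d6f90610c47dafa0588c1]
theorem W0_c : blocks (rows 9 5 14 23 511 16383 8388607 11 2047 77 A 865 120 cols 18) 18 JW0 0 = true := by decide +kernel
theorem W0 : On (Row.{u} rels LW par A 865 120 cols) 0 126 :=
  rows_of_blocks hpar (by decide) hcols W0_c (by decide +kernel)
theorem idx : Idx.{u} rels [[0], [2], [4], [6], [8], [10], [12]] [[0], [2], [4], [6], [8], [10]] 120 :=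
  idx_of_cert hpar hR (K := K) (by decide +kernel) (T := 380) (T' := 384) (by decide) D0
    (subs := [1,3,4,5,6,7]) (by decide +kernel) (T1 := 385) (by decide) (N := 865) S0
    (by decide) (n' := 126) (by decide) W0 (by decide +kernel) (by decide +kernel)
end T0
theorem b0 : Bound.{u} rels [[0], [2], [4], [6], [8], [10], [12]] 174182400 := .of_idx T0.idx b1 (by decide)
theorem bound : Bound.{u} rels (sg 7) 174182400 := b0
theorem hrel0_0 : lall (rels) (fun r => C.eqW r []) = true := by decide +kernel
theorem hrel0 : lall (rels) (fun r => C.eqW r []) = true := hrel0_0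
theorem hrel : ∀ r ∈ rels, ev C.g r = 1 := CA.H22Link.rels_of hC hrel0
theorem low5 : Low (C.grp (sg 2)) 6 [5] :=
  low_clo hC hlk 5 (by decide) [0,2,0] (m := 6) (CA.H22Link.sg_le _ (j := 0) (by decide)) (by decide +kernel) (by decide +kernel) (low_nil C) (by decide)
theorem low4 : Low (C.grp (sg 3)) 60 [4,5] :=
  low_clo hC hlk 4 (by decide) [4,0,0,4,0,0] (m := 10) (CA.H22Link.sg_le _ (j := 2) (by decide)) (by decide +kernel) (by decide +kernel) low5 (by decide)
theorem low3 : Low (C.grp (sg 4)) 960 [3,4,5] :=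
  low_clo hC hlk 3 (by decide) [6,4,0,6,0,4,0,0] (m := 16) (CA.H22Link.sg_le _ (j := 3) (by decide)) (by decide +kernel) (by decide +kernel) low4 (by decide)
theorem low2 : Low (C.grp (sg 5)) 25920 [2,3,4,5] :=
  low_clo hC hlk 2 (by decide) [8,0,0,4,8,6,4,0,0,4,6] (m := 27) (CA.H22Link.sg_le _ (j := 4) (by decide)) (by decide +kernel) (by decide +kernel) low3 (by decide)
theorem low1 : Low (C.grp (sg 6)) 1451520 [1,2,3,4,5] :=
  low_clo hC hlk 1 (by decide) [10,8,0,10,0,4,8,10,0,8,0,4,8,10] (m := 56) (CA.H22Link.sg_le _ (j := 5) (by decide)) (by decide +kernel) (by decide +kernel) low2 (by decide)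
theorem low0 : Low (C.grp (sg 7)) 174182400 [0,1,2,3,4,5] :=
  low_clo hC hlk 0 (by decide) [12,4,6,10,12,0,0,4,8,0,10,8,0,4,0,10] (m := 120) (CA.H22Link.sg_le _ (j := 6) (by decide)) (by decide +kernel) (by decide +kernel) low1 (by decide)
theorem cb : Nat.card (C.grp gens) = 174182400 ∧ IsBase (C.grp gens) [0,1,2,3,4,5] := CA.H22Link.card_base bound hrel low0
theorem card : Nat.card (C.grp gens) = 174182400 := cb.1
theorem all_mem {w : Word} (hw : ∀ a ∈ w, a < 14) : C.ev w ∈ C.grp gens := CA.H22Link.sg_mem _ (k := 7) hw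
def cs : List Word := [[2,0,3,1], [4,0,5,1], [4,2,5,3], [6,0,7,1], [6,2,7,3], [6,4,7,5], [8,0,9,1], [8,2,9,3], [8,4,9,5], [8,6,9,7], [10,0,11,1], [10,2,11,3], [10,4,11,5], [10,6,11,7], [10,8,11,9], [12,0,13,1], [12,2,13,3], [12,4,13,5], [12,6,13,7], [12,8,13,9], [12,10,13,11]]
namespace Ab
noncomputable def A_0 : List (ℕ) := [nat_lit 0x100000002412e0904a82400e0000002010c080428201080804102000c0000001c0ea0703981c0e207002800000060320180c406001800000030020000000502881406403001000060040000080000100800806404000808130000438000ec000328000a8000218080660001080402200]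
noncomputable def A : List (List (ℕ)) := [A_0]
noncomputable def K_0 : List (ℕ) := [nat_lit 0x21107834160903814060000]
noncomputable def K : List (List (ℕ)) := [K_0]
noncomputable def R_0 : List (Rule) := [Rule.mk (nat_lit 1) (nat_lit 24) (Steps.bwd (nat_lit 1) (Steps.bwd (nat_lit 1) Steps.nil)) (nat_lit 2) (nat_lit 0),
  Rule.mk (nat_lit 2) (nat_lit 33) (Steps.bwd (nat_lit 3) (Steps.fwd (nat_lit 512) (Steps.fwd (nat_lit 1536) Steps.nil))) (nat_lit 5) (nat_lit 0),
  Rule.mk (nat_lit 0) (nat_lit 42) (Steps.fwd (nat_lit 1536) (Steps.fwd (nat_lit 1024) (Steps.bwd (nat_lit 3) (Steps.fwd (nat_lit 512) Steps.nil)))) (nat_lit 52) (nat_lit 0),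
  Rule.mk (nat_lit 0) (nat_lit 42) (Steps.bwd (nat_lit 0) (Steps.bwd (nat_lit 1) (Steps.bwd (nat_lit 0) (Steps.fwd (nat_lit 512) Steps.nil)))) (nat_lit 94) (nat_lit 0),
  Rule.mk (nat_lit 0) (nat_lit 24) (Steps.fwd (nat_lit 0) (Steps.fwd (nat_lit 0) Steps.nil)) (nat_lit 94) (nat_lit 0),
  Rule.mk (nat_lit 0) (nat_lit 33) (Steps.bwd (nat_lit 3) (Steps.fwd (nat_lit 0) (Steps.fwd (nat_lit 1536) Steps.nil))) (nat_lit 94) (nat_lit 0),
  Rule.mk (nat_lit 2) (nat_lit 24) (Steps.bwd (nat_lit 0) (Steps.bwd (nat_lit 1) Steps.nil)) (nat_lit 94) (nat_lit 0),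
  Rule.mk (nat_lit 2) (nat_lit 24) (Steps.bwd (nat_lit 0) (Steps.fwd (nat_lit 1024) Steps.nil)) (nat_lit 94) (nat_lit 0),
  Rule.mk (nat_lit 1) (nat_lit 33) (Steps.bwd (nat_lit 4) (Steps.bwd (nat_lit 2) (Steps.fwd (nat_lit 2048) Steps.nil))) (nat_lit 54) (nat_lit 2),
  Rule.mk (nat_lit 0) (nat_lit 96) (Steps.bwd (nat_lit 1) (Steps.bwd (nat_lit 4) (Steps.fwd (nat_lit 1024) (Steps.fwd (nat_lit 2048) (Steps.bwd (nat_lit 1) (Steps.bwd (nat_lit 4) (Steps.fwd (nat_lit 1024) (Steps.fwd (nat_lit 2048) (Steps.bwd (nat_lit 1) (Steps.bwd (nat_lit 4) Steps.nil)))))))))) (nat_lit 8) (nat_lit 0),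
  Rule.mk (nat_lit 4) (nat_lit 24) (Steps.bwd (nat_lit 0) (Steps.bwd (nat_lit 4) Steps.nil)) (nat_lit 94) (nat_lit 0),
  Rule.mk (nat_lit 0) (nat_lit 105) (Steps.fwd (nat_lit 1024) (Steps.bwd (nat_lit 3) (Steps.fwd (nat_lit 2048) (Steps.fwd (nat_lit 1024) (Steps.fwd (nat_lit 2048) (Steps.bwd (nat_lit 2) (Steps.fwd (nat_lit 2048) (Steps.fwd (nat_lit 1024) (Steps.fwd (nat_lit 2048) (Steps.bwd (nat_lit 2) (Steps.fwd (nat_lit 2048) Steps.nil))))))))))) (nat_lit 10) (nat_lit 0),
  Rule.mk (nat_lit 3) (nat_lit 24) (Steps.bwd (nat_lit 0) (Steps.bwd (nat_lit 3) Steps.nil)) (nat_lit 94) (nat_lit 0),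
  Rule.mk (nat_lit 2) (nat_lit 33) (Steps.bwd (nat_lit 5) (Steps.fwd (nat_lit 1024) (Steps.fwd (nat_lit 2560) Steps.nil))) (nat_lit 14) (nat_lit 3),
  Rule.mk (nat_lit 4) (nat_lit 33) (Steps.bwd (nat_lit 5) (Steps.fwd (nat_lit 2048) (Steps.fwd (nat_lit 2560) Steps.nil))) (nat_lit 62) (nat_lit 0),
  Rule.mk (nat_lit 0) (nat_lit 114) (Steps.fwd (nat_lit 2048) (Steps.fwd (nat_lit 1024) (Steps.fwd (nat_lit 2048) (Steps.bwd (nat_lit 5) (Steps.fwd (nat_lit 2048) (Steps.fwd (nat_lit 1024) (Steps.fwd (nat_lit 2048) (Steps.fwd (nat_lit 2560) (Steps.fwd (nat_lit 2048) (Steps.fwd (nat_lit 1024) (Steps.fwd (nat_lit 2048) (Steps.bwd (nat_lit 5) Steps.nil)))))))))))) (nat_lit 18) (nat_lit 3),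
  Rule.mk (nat_lit 5) (nat_lit 24) (Steps.bwd (nat_lit 0) (Steps.bwd (nat_lit 5) Steps.nil)) (nat_lit 94) (nat_lit 0),
  Rule.mk (nat_lit 1) (nat_lit 33) (Steps.bwd (nat_lit 6) (Steps.bwd (nat_lit 2) (Steps.fwd (nat_lit 3072) Steps.nil))) (nat_lit 64) (nat_lit 2),
  Rule.mk (nat_lit 3) (nat_lit 33) (Steps.bwd (nat_lit 6) (Steps.fwd (nat_lit 1536) (Steps.fwd (nat_lit 3072) Steps.nil))) (nat_lit 66) (nat_lit 0),
  Rule.mk (nat_lit 5) (nat_lit 33) (Steps.bwd (nat_lit 6) (Steps.fwd (nat_lit 2560) (Steps.fwd (nat_lit 3072) Steps.nil))) (nat_lit 70) (nat_lit 0),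
  Rule.mk (nat_lit 0) (nat_lit 150) (Steps.bwd (nat_lit 1) (Steps.fwd (nat_lit 1536) (Steps.fwd (nat_lit 2560) (Steps.bwd (nat_lit 6) (Steps.fwd (nat_lit 1024) (Steps.fwd (nat_lit 2560) (Steps.fwd (nat_lit 3072) (Steps.fwd (nat_lit 512) (Steps.fwd (nat_lit 2560) (Steps.bwd (nat_lit 6) (Steps.fwd (nat_lit 2560) (Steps.fwd (nat_lit 1024) (Steps.fwd (nat_lit 3072) (Steps.fwd (nat_lit 2560) (Steps.fwd (nat_lit 512) (Steps.bwd (nat_lit 6) Steps.nil)))))))))))))))) (nat_lit 28) (nat_lit 0),
  Rule.mk (nat_lit 6) (nat_lit 24) (Steps.bwd (nat_lit 0) (Steps.bwd (nat_lit 6) Steps.nil)) (nat_lit 94) (nat_lit 0),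
  Rule.mk (nat_lit 2) (nat_lit 33) (Steps.bwd (nat_lit 7) (Steps.fwd (nat_lit 1024) (Steps.fwd (nat_lit 3584) Steps.nil))) (nat_lit 32) (nat_lit 3),
  Rule.mk (nat_lit 4) (nat_lit 33) (Steps.bwd (nat_lit 7) (Steps.fwd (nat_lit 2048) (Steps.fwd (nat_lit 3584) Steps.nil))) (nat_lit 34) (nat_lit 1),
  Rule.mk (nat_lit 5) (nat_lit 33) (Steps.bwd (nat_lit 7) (Steps.fwd (nat_lit 2560) (Steps.fwd (nat_lit 3584) Steps.nil))) (nat_lit 78) (nat_lit 0),
  Rule.mk (nat_lit 6) (nat_lit 33) (Steps.bwd (nat_lit 7) (Steps.fwd (nat_lit 3072) (Steps.fwd (nat_lit 3584) Steps.nil))) (nat_lit 80) (nat_lit 0),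
  Rule.mk (nat_lit 0) (nat_lit 168) (Steps.fwd (nat_lit 3072) (Steps.fwd (nat_lit 1024) (Steps.fwd (nat_lit 2048) (Steps.fwd (nat_lit 2560) (Steps.fwd (nat_lit 2048) (Steps.bwd (nat_lit 2) (Steps.fwd (nat_lit 2560) (Steps.fwd (nat_lit 3072) (Steps.bwd (nat_lit 7) (Steps.fwd (nat_lit 3072) (Steps.bwd (nat_lit 2) (Steps.fwd (nat_lit 2048) (Steps.fwd (nat_lit 2560) (Steps.fwd (nat_lit 2048) (Steps.fwd (nat_lit 1024) (Steps.fwd (nat_lit 3584) (Steps.fwd (nat_lit 3072) (Steps.bwd (nat_lit 7) Steps.nil)))))))))))))))))) (nat_lit 36) (nat_lit 17),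
  Rule.mk (nat_lit 7) (nat_lit 24) (Steps.bwd (nat_lit 0) (Steps.bwd (nat_lit 7) Steps.nil)) (nat_lit 94) (nat_lit 0),
  Rule.mk (nat_lit 5) (nat_lit 33) (Steps.bwd (nat_lit 8) (Steps.fwd (nat_lit 2560) (Steps.fwd (nat_lit 4096) Steps.nil))) (nat_lit 88) (nat_lit 0),
  Rule.mk (nat_lit 7) (nat_lit 33) (Steps.bwd (nat_lit 8) (Steps.fwd (nat_lit 3584) (Steps.fwd (nat_lit 4096) Steps.nil))) (nat_lit 92) (nat_lit 0),
  Rule.mk (nat_lit 0) (nat_lit 87) (Steps.fwd (nat_lit 2560) (Steps.fwd (nat_lit 3584) (Steps.bwd (nat_lit 8) (Steps.fwd (nat_lit 2560) (Steps.fwd (nat_lit 3584) (Steps.fwd (nat_lit 4096) (Steps.fwd (nat_lit 3584) (Steps.fwd (nat_lit 2560) (Steps.bwd (nat_lit 8) Steps.nil))))))))) (nat_lit 48) (nat_lit 0),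
  Rule.mk (nat_lit 8) (nat_lit 24) (Steps.bwd (nat_lit 0) (Steps.bwd (nat_lit 8) Steps.nil)) (nat_lit 94) (nat_lit 0)]
noncomputable def R : List (List (Rule)) := [R_0]
def LW : List Word := [[], [0], [1], [2], [4], [6], [8], [10], [12]]
def par : Par := ⟨9, 4, 13, 22, 511, 8191, 4194303⟩
theorem hpar : par.ok := by decide
theorem hR0_0 : lall (R) (fun l => lall l (ruleOK (lapp rels cs) LW par)) = true := by decide +kernel
theorem hR0 : lall (R) (fun l => lall l (ruleOK (lapp rels cs) LW par)) = true := hR0_0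
theorem hR : RulesOK (lapp rels cs) LW par R := rulesOK_of rfl hR0
def cols : List (ℕ × ℕ) := [(512, 2), (1536, 3), (2048, 4), (2560, 5), (3072, 6), (3584, 7), (4096, 8)]
theorem hcols : lall cols (colOK (lapp rels cs) LW par) = true := by decide +kernel
noncomputable def JS0 : List ℕ := [nat_lit 0x3e00803c0100078040d0f00002f874021d78380b0e3a1c00381b0006c260f0483c26040d800020301004040300361a01869a0c81c32c8601818602e0f0bae17002c16010002c0d0185800020b00c1a160000404a85404155028050a26130504d2098011090000200090101004090000200402203089e1003040e09000d00010000400010000400044066038005834000d01034000d01034005030020c240a01201c021c1600050c00008a020002800202810000386070001820401c1]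
theorem S0_c : blocks (facts 9 4 13 22 511 8191 4194303 9 511 6 63 A R 32) 32 JS0 264 = true := by decide +kernel
theorem S0 : On (Step.{u} (lapp rels cs) LW par A) 264 296 :=
  steps_of_blocks hpar hR S0_c (by decide +kernel)
theorem D0_c : allB (defOK 9 13 22 511 4194303 265 A K) 1 2 = true := by decide +kernel
theorem D0 : On (fun r => defOK par.W par.WL par.E par.mW par.mE 265 A K r = true) 256 384 :=
  On.of_allB D0_c
noncomputable def JW0 : List ℕ := [nat_lit 0x20140782a09833]
theorem W0_c : blocks (rows 9 4 13 22 511 8191 4194303 10 1023 70 A 296 1 cols 18) 18 JW0 0 = true := by decide +kernel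
theorem W0 : On (Row.{u} (lapp rels cs) LW par A 296 1 cols) 0 18 :=
  rows_of_blocks hpar (by decide) hcols W0_c (by decide +kernel)
theorem idx : Idx.{u} (lapp rels cs) [[0], [2], [4], [6], [8], [10], [12]] [] 1 :=
  idx_of_cert hpar hR (K := K) (by decide +kernel) (T := 265) (T' := 384) (by decide) D0
    (subs := []) (by decide +kernel) (T1 := 264) (by decide) (N := 296) S0
    (by decide) (n' := 18) (by decide) W0 (by decide +kernel) (by decide +kernel)
end Ab
theorem ab : Bound.{u} (lapp rels cs) (sg 7) 1 := .of_idx Ab.idx (.nil _) (by decide)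
def U_t0 : Net := [(nat_lit 0x515450454101451055554500010050515454454041441055544500010050, nat_lit 1),
  (nat_lit 0x132101000033002211100032022010132102000033012200000022022010, nat_lit 2),
  (nat_lit 0xa080104090e09060d0308030b08040a080004090c0906080308030b0804, nat_lit 4),
  (nat_lit 0xd5004000a600d400bd0004007000040001008200d000cc008200140050, nat_lit 8),
  (nat_lit 0xbaa5000077ab00008538000078a1000008810000845300003880, nat_lit 16),
  (nat_lit 0x31ee00000000a53a4010000000007cc313ce000000004c310000, nat_lit 32),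
  (nat_lit 0x5160ea9750000000000000000000f0c2134c80000000, nat_lit 64),
  (nat_lit 0x4002001010008000000000000000, nat_lit 128),
  (nat_lit 0x40000000100000000000000000008000000000000000, nat_lit 64),
  (nat_lit 0x404200000000ea9740000000000040c2130c0000000080000000, nat_lit 32),
  (nat_lit 0xfaec000035ab00001010000078810000018c0000000000000000, nat_lit 16),
  (nat_lit 0xd5001000a600c400ba0094004000040041008200c0008c00d400a00000, nat_lit 8),
  (nat_lit 0x6080104010009060a010c0b0a090006080004010009060a030c0b0a0900, nat_lit 4),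
  (nat_lit 0x130121000031002221000033011000130122010031002221011123011000, nat_lit 2),
  (nat_lit 0x501450000510451414450000004010501454000450441414440000004010, nat_lit 1)]
def U_t1 : Net := [(nat_lit 0x554000454515501554015000000000554000454515501554015000, nat_lit 1),
  (nat_lit 0x102212021221102031100002010000102212021221102031100002010000, nat_lit 2),
  (nat_lit 0x30602020002010305090709040000030602020002010305090709040000, nat_lit 4),
  (nat_lit 0xb7003e000a00190087002300600000008d00e100e300c5004100420020, nat_lit 8),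
  (nat_lit 0xbf99000078620000239c000002370000fc9c0000e95a0000d000, nat_lit 16),
  (nat_lit 0xf74800000000fffa010d0000000012a71540000000002d400000, nat_lit 32),
  (nat_lit 0x6040a7980001000000000000000030a1014000000000, nat_lit 64),
  (nat_lit 0x1437006614802004080000000000, nat_lit 128),
  (nat_lit 0x2000000000000000, nat_lit 64),
  (nat_lit 0x604000000000a79800010000000010a701400000000000000000, nat_lit 32),
  (nat_lit 0x9799000058620000210c00000237000015810000294000000000, nat_lit 16),
  (nat_lit 0xb7003a001b00080007000200200000000000e000f100c4006000400000, nat_lit 8),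
  (nat_lit 0x600020103000005090409040000000600020103000005090409040000, nat_lit 4),
  (nat_lit 0x102202021221102032200002010000102202021221102032200002010000, nat_lit 2),
  (nat_lit 0x154000454110000004015000000000154000454110000004015000, nat_lit 1)]
def U_t2 : Net := [(nat_lit 0x11110411101400414050400044000011110410101400400050000044, nat_lit 1),
  (nat_lit 0x122232130023020300000002032000122032130001220300220000012, nat_lit 2),
  (nat_lit 0x2060b07000109000807030100000002070a040101080b08040203000000, nat_lit 4),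
  (nat_lit 0x57003d004a00fb005b00c300c20000005200c4004000e9000000010020, nat_lit 8),
  (nat_lit 0xcec5000093c90000d137000001550000198b0000362b0000d200, nat_lit 16),
  (nat_lit 0x532e00000000fef990c5000000004191b03600000000ae420200, nat_lit 32),
  (nat_lit 0xad2f100c00000000000000000c180801680400000, nat_lit 64),
  (nat_lit 0x1041110210818044048002000000, nat_lit 128),
  (nat_lit 0x1200008000000000000000008000000000000000, nat_lit 64),
  (nat_lit 0xa00000000d0f100c000000000418080160000000082400000, nat_lit 32),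
  (nat_lit 0xc285000092890000900500000151000011830000260200000200, nat_lit 16),
  (nat_lit 0x57003d000a00b9005b00c300c2000000100080000000a9000000000000, nat_lit 8),
  (nat_lit 0x603070001090008070301000000000702040101080b08040203000000, nat_lit 4),
  (nat_lit 0x122232130023020300000002020000122032130001220300220000000, nat_lit 2),
  (nat_lit 0x11110411101400414050400044000011110410101400400050000044, nat_lit 1)]
def U_t3 : Net := [(nat_lit 0x100151054011055010514101445100100044054011055010514101445100, nat_lit 1),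
  (nat_lit 0x22002330202002321031012002002022011230202002221131002002002, nat_lit 2),
  (nat_lit 0x9030507000e080c080c000808010408000006000b08090c0c000c080104, nat_lit 4),
  (nat_lit 0xd50054002200a00054001000380041001200c0000600e0004800480030, nat_lit 8),
  (nat_lit 0x7a92000030ae0000a1910000519400000fac0000267900008980, nat_lit 16),
  (nat_lit 0x94da000000007aff7024000000009984e7c00000000076590000, nat_lit 32),
  (nat_lit 0x904aaa9100240000000000000000a984e64000000000, nat_lit 64),
  (nat_lit 0x1024810004002000000000000000, nat_lit 128),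
  (nat_lit 0x10008000000000000000000000002000000000000000, nat_lit 64),
  (nat_lit 0x844a000000002a911024000000008984e6400000000000000000, nat_lit 32),
  (nat_lit 0x3a92000030ae0000a0000000118400000f840000661900000000, nat_lit 16),
  (nat_lit 0x84004000220020005400100030004100100080004400a0000800080000, nat_lit 8),
  (nat_lit 0x9030507000e080c080c000808010008000006000b08090c0c000c080100, nat_lit 4),
  (nat_lit 0x20000310202002321031012002000020010210202002221131002002000, nat_lit 2),
  (nat_lit 0x100151054011055000514100444100100044054011055000514100444100, nat_lit 1)]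
def U_t4 : Net := [(nat_lit 0x105055014415541044151054550040105045001410541000101050150040, nat_lit 1),
  (nat_lit 0x200021010123320121302330302010200111102032120100300330202010, nat_lit 2),
  (nat_lit 0x8050c0c0c06000b070605010900080804040a0e02000b00060501090008, nat_lit 4),
  (nat_lit 0x12000700950082009a009300f70050000100980095001a005100140020, nat_lit 8),
  (nat_lit 0x2ca0000092a60000c0aa0000a27c000084d00000870200009400, nat_lit 16),
  (nat_lit 0x5afb000000006b7b20a9000000008e655bf800000000635e4040, nat_lit 32),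
  (nat_lit 0x6852404b200000000000000000000c01136a00080050, nat_lit 64),
  (nat_lit 0x2801302a084c8008804100e80a00, nat_lit 128),
  (nat_lit 0x28402040000000000000000000000000000000000000, nat_lit 64),
  (nat_lit 0x481b00000000602b2001000000002c011a3a0000000000480000, nat_lit 32),
  (nat_lit 0xa2000022a0000000a80000a27c000004400000021200000000, nat_lit 16),
  (nat_lit 0x12000700350095009a008200e3005000a1001a0015001a004100140000, nat_lit 8),
  (nat_lit 0x8050c0c0c04050f05060400090000080604080c02050f00060400090000, nat_lit 4),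
  (nat_lit 0x200020010123221021202320302000200110102032021000200320202000, nat_lit 2),
  (nat_lit 0x105054014415500044151054550040105044001410500000101050150040, nat_lit 1)]
def U_t5 : Net := [(nat_lit 0x1144005005001041004000140510505144045004041141000500104454, nat_lit 1),
  (nat_lit 0x113002002000000110200200100300001103311321111030111001300, nat_lit 2),
  (nat_lit 0x204000201080108010c02050c020005060b04010d020a09090507060e, nat_lit 4),
  (nat_lit 0xc8009800ba006e004c009b00df003700250073002e004600ed008f0048, nat_lit 8),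
  (nat_lit 0xd9870000a54f0000e18f00002fcc0000860100008c8500007b50, nat_lit 16),
  (nat_lit 0x1d7c00000000b9e1e11300000000868c91fd000000002d8fca00, nat_lit 32),
  (nat_lit 0x1070c40920020000000000000000c21005fc39620200, nat_lit 64),
  (nat_lit 0x6a1b736885625014248308020a00, nat_lit 128),
  (nat_lit 0xc183962020000000000000000000000000000000000, nat_lit 64),
  (nat_lit 0x996900000000e51f2a1200000000e2180dec0000000039600000, nat_lit 32),
  (nat_lit 0xc5110000c8a40000f773000027d40000bc09000004000000c400, nat_lit 16),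
  (nat_lit 0xc000ac008c00b900230052003a003f001f007500e1009100a800690000, nat_lit 8),
  (nat_lit 0x5060b04010d020a09090507060c000204000201080108010c02050c00, nat_lit 4),
  (nat_lit 0x300000103311321111030111301300000112002002000000110200100100, nat_lit 2),
  (nat_lit 0x505144045004041141010500404054001144005005001041014000440110, nat_lit 1)]
def U_t6 : Net := [(nat_lit 0x4005045015000404150450004401004005045014000404144450144441, nat_lit 1),
  (nat_lit 0x30120323120120300030200101100010102123103302100202020303100, nat_lit 2),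
  (nat_lit 0x70e040300090b03040107040a010007060e0b0801030b0c010f0c060100, nat_lit 4),
  (nat_lit 0x75003f00c3000200c700ad009d0085000400d50001004a00aa0002001c, nat_lit 8),
  (nat_lit 0x87bf0000f87e0000f1350000010e0000bbcf0000194d0000b8e2, nat_lit 16),
  (nat_lit 0x7a6800000000fbffdb9a000000000852fd7c00000000f3299802, nat_lit 32),
  (nat_lit 0xa80339d8402000000000000000078d227bc90200000, nat_lit 64),
  (nat_lit 0x28cacf4086fc708c022100200000, nat_lit 128),
  (nat_lit 0x2a808920000400000000000000007000000000000000, nat_lit 64),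
  (nat_lit 0x208800000000f1bda4020000000008d027340000000090240000, nat_lit 32),
  (nat_lit 0x8c3b0000f8f60000799800000ca20000394e0000bbcf00001802, nat_lit 16),
  (nat_lit 0x7800b300e3002800c30005009900810000007d00a900e0002400000000, nat_lit 8),
  (nat_lit 0x7060e0b0801030b0c010f0c060100070e040300090b03040107040a0100, nat_lit 4),
  (nat_lit 0x10102123103302100202020302100030120323120120300030200100100, nat_lit 2),
  (nat_lit 0x4005045014000404144450144440004005045015000404150450004400, nat_lit 1)]
def U_t7 : Net := [(nat_lit 0xff00ff00ff00ff00ff00ff00ff00ff00ff00ff00ff00ff00ff00ff00ff, nat_lit 8),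
  (nat_lit 0xff000000ff000000ff000000ff00, nat_lit 16),
  (nat_lit 0xff00000000000000ff000000, nat_lit 32),
  (nat_lit 0xff00000000000000, nat_lit 64),
  (nat_lit 0xffffffffffffffffffffffffffff, nat_lit 128),
  (nat_lit 0xff000000000000, nat_lit 64),
  (nat_lit 0xff00000000000000ff0000, nat_lit 32),
  (nat_lit 0xff000000ff000000ff000000ff, nat_lit 16)]
def U : Ctx := ⟨240, 8, [U_t0, U_t1, U_t2, U_t3, U_t4, U_t5, U_t6, U_t7]⟩
theorem U_ok : U.ok = true := by decide +kernel
def U_ps : List (Word × ℕ) := [([], 2), ([2,2], 0), ([0,0,0], 0), ([0,2,0,2], 0), ([4,4], 0), ([0,4,0,4,0,4,0,4,0,4], 0), ([0,2,4,0,4,1,4,0,4,1,4], 0), ([6,6], 0), ([0,6,1,6], 0), ([2,6,2,6], 0), ([0,4,6,4,0,4,6,4,0,4,6,4], 0), ([8,8], 0), ([4,8,4,8], 0), ([2,4,6,4,8,6,8], 0), ([0,4,0,4,1,8,0,4,1,4,1,8], 0), ([0,2,6,8,0,6,8,1,6,8,6,0,8,6,1,8], 0), ([10,10], 0), ([0,10,1,10], 0), ([4,10,4,10], 0), ([0,4,6,4,1,6,8,10,8,1,4,6,4,0,10,8,10,8], 0), ([12,12], 0), ([0,12,1,12], 0), ([8,12,8,12], 0), ([6,12,6,12,6,12,6,12], 0), ([4,6,8,6,12,6,4,6,12],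 0), ([6,10,12,6,10,12,10,6,12], 0), ([4,8,10,12,4,10,8,10,12,10], 1)]
theorem U_e_0 : lall (ceq [14] 8 U_ps) (eqP U) = true := by decide +kernel
theorem U_e : lall (ceq [14] 8 U_ps) (eqP U) = true := U_e_0
theorem U_cov : Cov U.g rels (U.ev [14]) 2 := cov_of U_ok U_e 2 2 0 (by decide +kernel) (by decide)
def W_t0 : Net := [(nat_lit 0x105110010550005054154550414441105510010554005054154550414441, nat_lit 1),
  (nat_lit 0x321123123123111023031232000231133000320210022300103310133102, nat_lit 2),
  (nat_lit 0x50700070d0707050b0f03000c02070d0008040a080a0a0d020f070f0c, nat_lit 4),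
  (nat_lit 0x83002e006b007600e100cc004600aa0083009e00ee0095009b0016003c, nat_lit 8),
  (nat_lit 0x6cc2000044480000171f0000a8dd000074a5000088d80000eb0a, nat_lit 16),
  (nat_lit 0xdf880000000088124bfe00000000cedfebdf00000000cf226a00, nat_lit 32),
  (nat_lit 0xd495aed300c00000000000000000f8d2e37f09568000, nat_lit 64),
  (nat_lit 0x78e0f12a5ebf0cf299021e948400, nat_lit 128),
  (nat_lit 0x61004d3492a800000000000000000412000000000000, nat_lit 64),
  (nat_lit 0xb252000000009205e36800000000e4001709000000001f540000, nat_lit 32),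
  (nat_lit 0xf6e10000b635000091800000e08400004088000095a400001802, nat_lit 16),
  (nat_lit 0x4d0001009c0095001e0046006400b2001000e80006000c008600800000, nat_lit 8),
  (nat_lit 0x50a03070b0a0b010106020d06060108070e02050d090005040503060000, nat_lit 4),
  (nat_lit 0x322323321302213322203121021033113200003311110310120212310200, nat_lit 2),
  (nat_lit 0x115444011555140505400415444450115404011555100505400415444450, nat_lit 1)]
def W_t1 : Net := [(nat_lit 0x440140551554015544554454140500440140551554015544554454140500, nat_lit 1),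
  (nat_lit 0x11200112010001202220013333233011200112010001202220013333233, nat_lit 2),
  (nat_lit 0x50b04060c0d010a0c0c080e040a08040a010604050106000600040e0002, nat_lit 4),
  (nat_lit 0x7c00cd00bc00f900da006f00e7008600b30026000200fb0015003b00e8, nat_lit 8),
  (nat_lit 0xf2bc0000e8e7000035c30000ca6c00002214000047910000958c, nat_lit 16),
  (nat_lit 0x763800000000d4203a260000000050f15e7c0000000046dc0884, nat_lit 32),
  (nat_lit 0x12009458400300000000000000000296187810c00884, nat_lit 64),
  (nat_lit 0x1283aeaffa3d0f96eec3a26b0398, nat_lit 128),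
  (nat_lit 0x10000040400500000000000000000200000000000000, nat_lit 64),
  (nat_lit 0x20b800000000140a2842000000001271507c00000000044c0000, nat_lit 32),
  (nat_lit 0x309e0000584a0000aae300004e6b0000a4100000460000001280, nat_lit 16),
  (nat_lit 0xfa00cf00aa0062005100ff00cc00840020004400100059000400080000, nat_lit 8),
  (nat_lit 0xa050102000300040d05000f0f020a0b040402080b0808010f0005050800, nat_lit 4),
  (nat_lit 0x311233112313231232221300000000311233112313231232221300000000, nat_lit 2),
  (nat_lit 0x115415004001540011001101410000115415004001540011001101410000, nat_lit 1)]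
def W_t2 : Net := [(nat_lit 0x505454554405144445401010055115505454554405144445401010055115, nat_lit 1),
  (nat_lit 0x13120313112001001302131230012013120313112011001302021231103, nat_lit 2),
  (nat_lit 0xb04090a0e020001060d05060f0903020d0003070b0c080f04080f07050a, nat_lit 4),
  (nat_lit 0x43005e006c005600de00e30026000d00bf006000a30028001e00c90026, nat_lit 8),
  (nat_lit 0xa9dc0000f9f30000119b0000606800006d5f0000f09300003f7a, nat_lit 16),
  (nat_lit 0x78ef00000000be956ebc0000000015c265df000000009a723e8a, nat_lit 32),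
  (nat_lit 0x2faf28547810000000000000000010853ce3a506008, nat_lit 64),
  (nat_lit 0x577b7de47b55bff16cd4464e8000, nat_lit 128),
  (nat_lit 0x108a2002480100000000000000009641000000000000, nat_lit 64),
  (nat_lit 0x13c1000000005ad7098100000000c7806c5400000000ce470000, nat_lit 32),
  (nat_lit 0x74350000deab00006710000026e800009a4d00005bd500005082, nat_lit 16),
  (nat_lit 0x7700f50067002800020025007d00ad001b008c00a100ff000400530000, nat_lit 8),
  (nat_lit 0x4010e0501050d07050e03040509080d08070c0c0c040e0c070a0c0c0100, nat_lit 4),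
  (nat_lit 0x1121230312303310023021331301001121230312203310022120321200, nat_lit 2),
  (nat_lit 0x50001010150401500554540500400050001010150401500554540500400, nat_lit 1)]
def W_t3 : Net := [(nat_lit 0x541115401545141544111151540045541115401545141544111151540045, nat_lit 1),
  (nat_lit 0x233012232013321333012211020023233012232013321333012211020023, nat_lit 2),
  (nat_lit 0x70909040d04040d06070005010a01020c08010c00010803060400040f, nat_lit 4),
  (nat_lit 0x700a30081006d00220071003b00d900e9001a003b00d3001e00670036, nat_lit 8),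
  (nat_lit 0xa8a900005d580000645f0000bd200000f95d000020db000051fa, nat_lit 16),
  (nat_lit 0xa36300000000e5e57aa00000000011e8f50800000000ef775b82, nat_lit 32),
  (nat_lit 0x670372c82e4e00000000000000000000674d29ce2480, nat_lit 64),
  (nat_lit 0xf7cb7d2f6f3effe518b213128000, nat_lit 128),
  (nat_lit 0x43110218240200000000000000001be1000000000000, nat_lit 64),
  (nat_lit 0x57b40000000041d28acc0000000025ae41c50000000013130000, nat_lit 32),
  (nat_lit 0xe0290000566200001e5a0000fa0400009fe50000a36500000082, nat_lit 16),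
  (nat_lit 0x36008800ba006700900096002a00dd00510005005500e8009800c40000, nat_lit 8),
  (nat_lit 0xa000f06040c040f060008040b04050f050e03050d000a03010d000e0100, nat_lit 4),
  (nat_lit 0x200312202310001000112210322320200312202310001000112210322320, nat_lit 2),
  (nat_lit 0x14440154010414011444404015510014440154010414011444404015510, nat_lit 1)]
def W_t4 : Net := [(nat_lit 0x54000040405141104145510545505054000040405141104145510545505, nat_lit 1),
  (nat_lit 0x1311310232210200032233103233001311310232210200032233103233, nat_lit 2),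
  (nat_lit 0x60e04090a050c0106030409000406060e04090a050c0106030409000406, nat_lit 4),
  (nat_lit 0xa90003003d007400e5005100d3000e000f00e800da007100d300c700fa, nat_lit 8),
  (nat_lit 0x1f7b0000246a0000a2e900007d900000cadd00008db10000eba8, nat_lit 16),
  (nat_lit 0xfa6a00000000dec3f0130000000067a3f01b000000006b377200, nat_lit 32),
  (nat_lit 0xb30ce493402100000000000000000c01ba7d08065400, nat_lit 64),
  (nat_lit 0xf6c078daf87fc3ed69aea82c81c4, nat_lit 128),
  (nat_lit 0x1b0210a660210000000000000000c20c000000000000, nat_lit 64),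
  (nat_lit 0xe5c60000000073b3900100000000240fe60f00000000a00d0000, nat_lit 32),
  (nat_lit 0xfce0000400d0000c0e00000154e00006c410000059e0000a5c8, nat_lit 16),
  (nat_lit 0xe700c60025006200e0007f00f600000060004100e2007c00d500c20000, nat_lit 8),
  (nat_lit 0x1040f030c050e000a040f0604000001040f030c050e000a040f060400, nat_lit 4),
  (nat_lit 0x331011013202213233302200130200331011013202213233302200130200, nat_lit 2),
  (nat_lit 0x501555515150414451410045010050501555515150414451410045010050, nat_lit 1)]
def W_t5 : Net := [(nat_lit 0x541505545144545110014150145015541505545144545110014150145015, nat_lit 1),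
  (nat_lit 0x232203210330200101021311301210333213301221311110030200200301, nat_lit 2),
  (nat_lit 0x509010d070704040f060b080f0e0a0c0c080e0a0004070d030305060d0d, nat_lit 4),
  (nat_lit 0x820047004300df00d300a8004c002000110028007c0054008600e0002e, nat_lit 8),
  (nat_lit 0x855e00009bb900002b6300004e740000699500009ed00000868a, nat_lit 16),
  (nat_lit 0xbbde00000000fd27c1fd00000000cbe8aef400000000ecf4e650, nat_lit 32),
  (nat_lit 0x9375019d28320000000000000000110000eda3150e22, nat_lit 64),
  (nat_lit 0xadd5dd1b6fbeeda7efb812481000, nat_lit 128),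
  (nat_lit 0x400641682a0000000000000000c4a4000000000000, nat_lit 64),
  (nat_lit 0x6a50000000094c8707200000000de0709680000000052d80000, nat_lit 32),
  (nat_lit 0x63d40000e68b000058a90000e9d7000084940000883b00008f52, nat_lit 16),
  (nat_lit 0x1e00d2000b00e00014002c00120035006500c800e80038000200870000, nat_lit 8),
  (nat_lit 0xb020f080008090d000b060801050f0a0c0b0605050105010c040d020000, nat_lit 4),
  (nat_lit 0x331303321330300100122200010011320212231221211000033311000100, nat_lit 2),
  (nat_lit 0x144540105144540454404150401400144540105144540454404150401400, nat_lit 1)]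
def W_t6 : Net := [(nat_lit 0x4040000545044405041411140000004040000545041405101411040000, nat_lit 1),
  (nat_lit 0x222012332111111110000221300200332100230000002101001320311300, nat_lit 2),
  (nat_lit 0x705020c010808040a0c08040808000a05070c090504000e000408040100, nat_lit 4),
  (nat_lit 0xf300f300b60025002400760054009c00c0005500410082004100060004, nat_lit 8),
  (nat_lit 0xf7a00000b5ed0000cdbd0000713b000093c0000094d10000e9b6, nat_lit 16),
  (nat_lit 0xadf3000000000b4c266a00000000adf5d0b90000000082df478a, nat_lit 32),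
  (nat_lit 0xb512201e01100000000000000000dd838c7e018f200a, nat_lit 64),
  (nat_lit 0xe884c93789badd63051f445ad000, nat_lit 128),
  (nat_lit 0x6c1a014800180000000000000000d403000000000000, nat_lit 64),
  (nat_lit 0x982c0000000004446900000000008031c02200000000011b0000, nat_lit 32),
  (nat_lit 0xfca000004d690000c06800007d2b000010d40000c8c40000a486, nat_lit 16),
  (nat_lit 0xe700fe00b6002500640033005100980094004d00410082000000030000, nat_lit 8),
  (nat_lit 0x50704010d0c0006080c000c09000d050204090000040204000c000000, nat_lit 4),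
  (nat_lit 0x332102232000001101001320311300222010330111112110000221300200, nat_lit 2),
  (nat_lit 0x4040000545044405041411140000004040000545041405101411040000, nat_lit 1)]
def W_t7 : Net := [(nat_lit 0xff00ff00ff00ff00ff00ff00ff00ff00ff00ff00ff00ff00ff00ff00ff, nat_lit 8),
  (nat_lit 0xff000000ff000000ff000000ff00, nat_lit 16),
  (nat_lit 0xff00000000000000ff000000, nat_lit 32),
  (nat_lit 0xff00000000000000, nat_lit 64),
  (nat_lit 0xffffffffffffffffffffffffffff, nat_lit 128),
  (nat_lit 0xff000000000000, nat_lit 64),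
  (nat_lit 0xff00000000000000ff0000, nat_lit 32),
  (nat_lit 0xff000000ff000000ff000000ff, nat_lit 16)]
def W : Ctx := ⟨240, 8, [W_t0, W_t1, W_t2, W_t3, W_t4, W_t5, W_t6, W_t7]⟩
theorem W_ok : W.ok = true := by decide +kernel
def W_ps : List (Word × ℕ) := [([], 2), ([2,2], 1), ([0,0,0], 1), ([0,2,0,2], 1), ([4,4], 1), ([0,4,0,4,0,4,0,4,0,4], 1), ([0,2,4,0,4,1,4,0,4,1,4], 0), ([6,6], 1), ([0,6,1,6], 1), ([2,6,2,6], 1), ([0,4,6,4,0,4,6,4,0,4,6,4], 1), ([8,8], 1), ([4,8,4,8], 0), ([2,4,6,4,8,6,8], 1), ([0,4,0,4,1,8,0,4,1,4,1,8], 1), ([0,2,6,8,0,6,8,1,6,8,6,0,8,6,1,8], 0), ([10,10], 1), ([0,10,1,10], 1), ([4,10,4,10], 0), ([0,4,6,4,1,6,8,10,8,1,4,6,4,0,10,8,10,8], 1), ([12,12], 0), ([0,12,1,12], 0), ([8,12,8,12], 0), ([6,12,6,12,6,12,6,12], 1), ([4,6,8,6,12,6,4,6,12], 1), ([6,10,12,6,10,12,10,6,12], 1), ([4,8,10,12,4,10,8,10,12,10], 0)]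
theorem W_e_0 : lall (ceq [14] 8 W_ps) (eqP W) = true := by decide +kernel
theorem W_e : lall (ceq [14] 8 W_ps) (eqP W) = true := W_e_0
theorem W_cov : Cov W.g rels (W.ev [14]) 2 := cov_of W_ok W_e 2 2 0 (by decide +kernel) (by decide)
theorem U_l : ev U.g (cw gens [([10,5], [13], 3)]) = U.ev [14] := Ctx.eq_of_eqW U_ok (v := [14]) (by decide +kernel)
theorem W_l : ev W.g (cw gens [([10,5], [13], 3)]) = 1 := Ctx.eq_of_eqW W_ok (v := []) (by decide +kernel)
theorem U_m : ev U.g (cw gens [([2], [4], 1)]) = 1 := Ctx.eq_of_eqW U_ok (v := []) (by decide +kernel)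
theorem W_m : ev W.g (cw gens [([2], [4], 1)]) = W.ev [14] := Ctx.eq_of_eqW W_ok (v := [14]) (by decide +kernel)
theorem UW_st : St (C.grp gens) (Multiplicative (ZMod 2 × ZMod 2)) :=
  st_two bound rfl card.ge hrel U_cov W_cov _ _ (Ctx.eq_of_eqW hC (v := []) (by decide +kernel)) U_l W_l (Ctx.eq_of_eqW hC (v := []) (by decide +kernel)) U_m W_m
def c2_t : List (List (List ℕ)) := [[[5,6],[1,4],[2,5],[3,6],[4,7],[5,9],[6,9],[7],[8,10,11],[9,11],[10,11],[11]],
  [[],[8,10],[2,7,10,11],[3,7,8,9,10],[4,10,11],[5,8],[6,7,8],[7,11],[8],[9,10],[10],[11]],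
  [[],[],[9],[3,10,11],[4,8],[5,11],[6,9,11],[7,10],[8,11],[9],[10],[11]],
  [[],[],[],[10,11],[4,7,8,10],[5,9,11],[6],[7,10,11],[8,10,11],[9],[10],[11]],
  [[],[],[],[],[11],[5],[6],[7],[8],[9,11],[10],[11]],
  [[],[],[],[],[],[],[6,11],[7,11],[8],[9],[10],[11]],
  [[],[],[],[],[],[],[11],[7,11],[8,11],[9],[10],[11]],
  [[],[],[],[],[],[],[],[],[8],[9],[10],[11]],
  [[],[],[],[],[],[],[],[],[],[9],[10],[11]],
  [[],[],[],[],[],[],[],[],[],[],[10],[11]],
  [[],[],[],[],[],[],[],[],[],[],[],[11]],
  [[],[],[],[],[],[],[],[],[],[],[],[]]]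
noncomputable def c2 : PC := ⟨12, 2, 8, 15, 109, 2, 176, 7, 2047, fun e => nth (nth c2_t [] (Nat.div e 12)) [] (Nat.mod e 12),
  [(0,[7],[4,5,6,9]),
  (0,[2],[0,3,5,6,8,11]),
  (0,[10],[8,9]),
  (1,[7],[5,6,7,9,11]),
  (1,[4],[0,2,3,4,7,9,10]),
  (2,[6],[3,6,7,8,10,11]),
  (2,[4],[1,5,8,10]),
  (2,[5],[2,5,6,8,9]),
  (2,[2],[2,3,7]),
  (2,[11],[10]),
  (3,[6],[0,2,3,8,9,10,11]),
  (3,[11],[11]),
  (0,[9],[5,9,10]),
  (0,[1,3],[0,1,2,4,9,10]),
  (1,[0],[0,4,7]),
  (3,[10],[8,10]),
  (3,[2],[0,3,5,6]),
  (0,[8],[5,8]),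
  (0,[0,3],[2,5,9]),
  (0,[5],[8,11]),
  (0,[11],[11]),
  (3,[7],[4,7,9]),
  (3,[5],[5,8]),
  (2,[7],[7,10]),
  (2,[10],[11]),
  (2,[8],[8]),
  (3,[4],[4,5,10,11]),
  (3,[9],[5,9,10,11]),
  (1,[10],[7,9,10]),
  (2,[9],[9,11]),
  (3,[8],[8,11]),
  (1,[11],[11])]⟩
def c2_A0 : List (List ℕ × List ℕ × ℕ) := [([3],[1,0],nat_lit 0x200000000000000000000000000000000000000000000e000400000000000000000000000000000000000000002000000000000000000000000000000000000000000000000000380000000000000000000000000000000000000000000380000000000000000000000000000000000000000000380000000000000000000000000000000000000000000000000000000000000000000000000000000000001c00380000000001c00000000000000000000000000000000000000000000000000010000000000000000000000000000000000000000000000000000000000000000000000000000000001c0000000000000000000000000000040008001000200000000000000000000000000),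
  ([2],[1,0],nat_lit 0xe000000000000000000000000000000000000000000000000000000000000000000000000000000000000000000001c0000000000000000000000000000000000000000000000000001000000000000000000000000000000000000000000000000000000000000000000000000000000e001c0000001000e000000000000000000000000000000001c0000007000e00000038000000000000000000000000000000000000000000000000000000000000000000000000000000000000000000001000000000000000000000000000000000000000038000000000000000000000200040000000000200000000000000000000000000),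
  ([1],[0,0],nat_lit 0x200000000000000000000000000000000000000000000000000000000000000000000000000000000000000000000000000000000000000000000000000000000000000200000000001000000000000000000000000000000000400000000001000200000000000000000000000000000200000000001000000000000000000000000000000000200000000000000000000000000000000000000000000400000000000000400080010001000000000000000000000000000000000000000000000000000000000000000000000000000000000000000000000000000000000000000000000000000000040008000000000000000000000000000000000000000000000001000000000010000),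
  ([4],[3,0],nat_lit 0x2000000000000000000000000000000000000000000000000000000000000000000000000000000000000000000000000000000000000000000000000000000000000000001c0000007000000000000000000000000000000000e00000000007000000000000000000000000000000000000000000000000000000000000000000000000000000000000000000000000040000000000000000000000000000000000000000e00000000000000000000000000000000000000000000000000000000000000000000000000000000000000000000000000000000000000000000000000040000001000200000000000000000000000000),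
  ([4],[3,3],nat_lit 0x200000000000000000000000000000000000000000000600080000000000000000000000000000000000000000000000000000000000000000000000000000000000000200080000001000000000000000000000000000000000400040000001000200000000000000000000000000000000000000000000000000000000000000000000000000000000000000000000000000000000000000000000000200040000000000000000000000000000000000000000000040000001000200000000002000000000000000000000000000000000000000000000000000000000000000000000000000000000000000000000000000000000000000000000000000000000000000000000000000000),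
  ([2],[0,0],nat_lit 0x400000000000000000000000000000000000000000000000000000000000000000000000000000000000000000600000008000000000000000000000000000000000000000000000000000000000000000000000000000000000000000000000000000000000000000000000000000000200000000000000000000000000000000000000000000200000010000000000080008000000000000000000000000000000000000000000000000000000000000000000000000000000000000000000000000000000000000000000000000000000000040008000000000000000000000000000000000000000000000000000000000000000000000000000000000000000008000000000080000000),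
  ([6],[1,1],nat_lit 0x200000000000000000000000000000000000000000000200000000000000000000000000000000000000000000000000000000000000000000000000000000000000000200080000001000000000000000000000000000000000400080000001000200000000000000000000000000000000040000001000000000000000000000000000000000000000000000000000000000000000000000000000000000000000000000000000000000000000000000000000000000000000000000000000000000000000000000000000000000000000000000000000000000000000000000000000000001000200080000000000000000000000000000000000000000000000000000000000000000000),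
  ([5],[1,0],nat_lit 0xe000000000000000000000000000000000000000000000000000000000000000000000000000000000000000000000000080000000000000000000000000000000000000000000000000000000000000000000000000000000000000000000000000000000000000000000000000000000000000000000000000000000000000000000000000000001c0038007000000000038000000000000000000000000000000000000000000000000000000000000000000000000000000000000000000000000000000000000000000000038000000000000000000000000000000000000000000000001000000000000000000000000000000),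
  ([1],[1,0],nat_lit 0x200000000000000000000000000000000000000000000000000000000000000000000000000000000000000000e00000000000000000000000000000000000000000000000000000000000000000000000000000000000000000000000000000000000000000000000000000000000000000000000000000000000000000000000000000000000e001c0000006000000000000007000000000000000000000000000000000000000000000000000000000000000000000000000000000000000000000000000000000000000000000000000000000000007000000000000000000000040000001000000000000000000000000030000),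
  ([2],[2,1],nat_lit 0xe00000000000000000000000000000000000000000000e001c0000000000000000000000000000000000000000000000000000000000000000000000000000000000000000000000000000000000000000000000000000000000e00000030000000e00000000000000000000000000000000000000000000000000000000000000000000000000000000000000000000000000000000000000000000000000000000000000000000000000000000000000000000000000000000000000000000000000000000000000000e001c0000000000e00000000000000000000000000000000000008000000000000000000000000180000000000000000000000000000000000000000000000000000),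
  ([3],[0,0],nat_lit 0x200000000000000000000000000000000000000000000000000000000000000000000000000000000000000000200000008000000000000000000000000000000000000000000000000000000000000000000000000000000000000000000000000000000000000000000000000000000400000018000000000040000000000000000000000000000000000000000000000000000000000000000000000000000000000000000000000000000000000000000000000000000000000000040008000000000000000000000000000000000000000000000000000000000000000000000000000000000000000000000000000000000000000000000000000000000040000000000400000000000),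
  ([3],[3,0],nat_lit 0xe00000000000000000000000000000000000000000000000000000000000000000000000000000000000000000000000000000000000000000000000000000000000000000000000000000000000000000000000000000000000c001800000000000001c00000000000000000000000000000000000000000000000000000000000000000000000000000000000000000000000000000000000000000000000000000000000001c0000000000000000000000000000000000000000000000000000000000000000000000000000000000000000000000000000000000000000000200040000000000000000000000000c00000000000),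
  ([5],[4,0],nat_lit 0x200000000000000000000000000000000000000000000000000000000000000000000000000000000000000000e00000038000000000000000000000000000000000000000000000000000000000000000000000000000000000000000000000000200000000000000000000000000000000000038000000000000000000000000000000000000000000000000000000000000000000000000000000000000000000000000000000000000000000000000000000000000000000000000000000000000000000000000000000000000000000000000000000000000000000000),
  ([6],[6,1],nat_lit 0xe00000000000000000000000000000000000000000000000000000000000000000000000000000000000000000000000000000000000000000000000000000000000000e00000000007000000000000000000000000000000000c00000000007000e00000000000000000000000000000000000000007000e00000000000000000000000000000000000000000000000000000000000000000000000000000000000000000000000000000000000000000000000000000000000000000000000000000000000000000000000000000000000000000000000000000000000000000200000000000000000180000000000000000000000000000000000000000000000000000000000000000000),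
  ([7],[2,0],nat_lit 0xe000000000000000000000000000000000000000000000000000000000000000000000000000000000000000000000000000000000000000000000000000000000000000000000000000000000000000000000000000000000000000000000000000000000000000000000000000000000001c0000000000e00000000000000000000000000000000000000000000000000000000000000000000000000000000000000000000000000000000000000000000000000000000000000000000000000000000000000000000000000000000000000000000000000000000000000000000040000000000000000000000000000000000000),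
  ([5],[3,3],nat_lit 0x200000000000000000000000000000000000000000000000000000000000000000000000000000000000000000200080008000000000000000000000000000000000000000000000000000000000000000000000000000000000000000000000000000000000000000000000000000000000000000000000000000000000000000000000000000200040000000000000000000000000000000000000000000000000000000000000000000000000000000000000200000008000000000000010000000000000000000000000000000000000000000000000000000000000000000000000000000000000000000000000000000000000000000000000000000000000000000000000000000000),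
  ([8],[0,0],nat_lit 0x200000000000000000000000000000000000000000000200040000000000000000000000000000000000000000000000000000000000000000000000000000000000000000000000000000000000000000000000000000000000000000000000000000000000000000000000000000000000000000007000000000000000000000000000000000000000000007000000000000000000000000000000000000000000000000000000000000000000000000000000000000000000000000000000000000000000000000000000000000000000000000000000000000000000000000000000000000000000000000000000000000000000000200040000002000000000000000000000000000000),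
  ([3],[3,2],nat_lit 0xe00000000000000000000000000000000000000000000e001c0000000000000000000000000000000000000000000000000000000000000000000000000000000000000000000000000000000000000000000000000000000000000000000000000000000000000000000000000000000000000000000000000000000000000000000000000000000000000000000000000000000000000000000000000000000000000000000000000000000000000000000000e001c0000000000000000000000000000000000000000200040000000000000000000000000c00000000000000000000000000000000000000000000000000000000000000000000000000000000000000000000000000000),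
  ([7],[1,0],nat_lit 0xe00000000000000e00000000000000000000000000000000000000000000000000000000000000000000000000000000000000000000000000000000000000000000000000000000000000000000000000000000000000000000200000000000000000000000000000000000000000),
  ([10],[1,0],nat_lit 0xe001c0000000000000000000000000000000000000000000000000000000000000000000000000000000000000000000000000000000000000000000000000000000000e00000000000000000000000000000000000000000000000000000000000000000000000000000000000000),
  ([7],[5,0],nat_lit 0xe00000000000000000000000000000000000000000000000000000000000000000000000000000000000000000000000008000000000000000000000000000000000000000000000000000000000000000000000000000000000000000000000000000000000000000000000000000000000000000000000000000000000000000000000000000000000000000000000000000000000000000000000000000000000000000000000000000000000000000000000000000000000000000000000000000000000000000000200000000000000000000000000000000000000000),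
  ([5],[4,2],nat_lit 0xe00000000000000000000000000000000000000000000000000000000000000000000000000000000000000000000000000000000000000000000000000000000000000000000000001000000000000000000000000000000000e00000000000000000000000000000000000000000000000000000000000000000000000000000000000000000000000000000000000000000000000000000000000000000000000000000000000000000000000000000000000000000000000000000000000000000000000000000),
  ([4],[1,1],nat_lit 0x200000000000000000000000000000000000000000000200040000000000000000000000000000000000000000000000000000000000000000000000000000000000000000000000000000000000000000000000000000000000000000000000000000000000000000000000000000000000000000000000000000000000000000000000000000000000000000000000000000000000000000000000000000040000001000000000000000000000000000000000000000000000000000000000000000000000000000000000000000000000000000000000000000000000000000200040000000000000000000002000000000000000000000000000000000000000000000000000000000000),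
  ([2],[2,0],nat_lit 0xe00000030000000000000038000000000000000000000000000000000000000000000000000000000000000000000000000000000000000000000000000000000000000000000000000000000000038000000000000000000000000000000000000000000000000000000000000000000000000008000000000000000000000000180000000),
  ([4],[2,2],nat_lit 0x200000000000000000000000000000000000000000000000000000000000000000000000000000000000000000000000000000000000000000000000000000000000000400000010001000000000000000000000000000000000000000000000000000000000000000000000000000000000000000000000000000000000000000000000000000000000000000000000000000000000000000000000000000000008000000000000000000000000000000000000000000000000000000000000000000000000000000000000000000001000000000000002000000000000000000000000000000000000000000000000000000000000000000000000000000000000000000000000000000000),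
  ([5],[0,0],nat_lit 0x200000000000000000000000000000000000000000000000000000000000000000000000000000000000000000400000008000000000000000000000000000000000000000000000000000000000000000000000000000000000000000000000000000000000000000000000000000000000000000000000000000000000000000000000000000000000000000000000040000000000000000000000000000000000000000000000000000000000000000000000000000000000000000000000000000000000000000000000000000000000000000000000000000000000000000000000000000000000000000000000000000000000000000000008000000000000010000000000000000000),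
  ([8],[7,0],nat_lit 0xe001c0000000000000000000000000000000000000000000000000000000000000000000000000000000000000000000000000000000000000000000000000000000000000000000000000000000000000000000000000000000000000000000000000000000000000000000000000000000000000000000000000000000000000000000000000000000000000000000000000000000000000000000000000000000000000000000000000000000000000000),
  ([4],[4,1],nat_lit 0xe00000000000000000000000000000000000000000000e001c0000000000000000000000000000000000000000000000000000000000000000000000000000000000000000000000000000000000000000000000000000000000000000000000000000000000000000000000000000000000000000000000000000000000000000000000000000000000000000000000000000000000000000000000000e001c0000000000000000000000000000000000000000000000000000000000000000000000000000000000000000000000000000000000000000000000000000000000200000000000000000000000006000000000000000000000000000000000000000000000000000000000000),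
  ([5],[1,1],nat_lit 0x80000001000000000000000000000000000000000000000000000000000000000000000000000000000000000000000000000000000000000000000000000000000000040000001000000000000000000000000000000000000000000000000000000000000000000000000000000000000000000000000000000000000000000000000000000000000000000000000000000000000000000000000000000000001000000000010000000000000000000000000000000000000000000000000000000000000000),
  ([4],[4,0],nat_lit 0xc00000000000000e00000000000000000000000000000000000000000000000000000000000000000000000000000000000000000000000000000000000000000000000000000000000000e00000000000000000000000000000000000000000000000000000000000000000000000000000000000000000000000000000000000000000000000000000000000000000000000000000000000000000000200000000000000000000000006000000000000000),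
  ([3],[2,2],nat_lit 0x200000000000000000000000000000000000000000000200040000000000000000000000000000000000000000000000000000000000000000000000000000000000000000000000000000000000000000000000000000000000000000000000000000000000000000000000000000000000000000000000000000000000000000000000000000000000000000000000000000000000000000000000000000000000000000000000000000000000000000000000000000008000000000000000000000000000000000000200040000000000000000000000000400000000000000000000000000000000000000000000000000000000000000000000000000000000000000000000000000000),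
  ([4],[4,2],nat_lit 0xc00000000007000000000000000000000000000000000000000000000000000000000000000000000000000000000000000000000000000000000000000000000000000000000000000000000000000000000000000000000000000000000007000000000000000000000000000000000000000000000000000000000000000000000000000000200000000000000000000000006000000000000000000000000000000000000000000000000000000000000000000000000000000000000000000000000000000000),
  ([6],[2,2],nat_lit 0x200000000000000000000000000000000000000000000000000000000000000000000000000000000000000000200000008000000000000000000000000000000000000000000000000000000000000000000000000000000000000000000000000000000000000000000000000000000000000008000000000000000000000000000000000000000000000000000000000000000000000000000000000000000000000000000000000000000000000000000000000000000000000000000000000000000000000000000200000008000000000080000000000000000000000000000000000000000000000000000000000000000000000000000000000000000000000000000000000000000),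
  ([4],[0,0],nat_lit 0x200000000000000000000000000000000000000000000000000000000000000000000000000000000000000000000000000000000000000000000000000000000000000000040008000000000000000000000000000000000000000000000000000000000000000000000000000000000000000000000000000000000000000000000000000000000000000000000000000000000000000000000000000200000000002000000000000000),
  ([7],[0,0],nat_lit 0xe00000000000000000000000000000000000000000000000000000000000000000000000000000000000000000000000000000000000000000000000000000000000000000000000000000000000000000000000000000000000000000000000000000000000000000000000000000000e00000000000000e00000000000000000000000000000000000000000000e00000000000000000000000000000000000000000000000000000000000000000000000000000000000000000000000000000000000000000000000000000000000000000000000000000000000000000000000000000000000000000000000000000000000000000000000000000000400000000000000000000000000),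
  ([8],[8,0],nat_lit 0xe00000000000000000000000000000000000000000000e001c0000000000000000000000000000000000000000000000000000000000000000000000000000000000000e001c0000000000000000000000000000000000000000000000000000000000000000000000000000000000000000000000000000000000000000000000000000000000000000000000000000000000000000000000000000000000000000000000000000000000000000000000000000000000000000000000000000000000000000000000000000000000000000000000000000000000000000000000000000000000000000000000000000000000000000000000000000006000000000000000000000000000000),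
  ([9],[0,0],nat_lit 0x200000000000000000000000000000000000000000000000000000000000000000000000000000000000000000000000000000000000000000000000000000000000000000000000000000000000000000000000000000000000000000000000000000000000000000000000000000000000000038000000000000000000000000000000000000000000038000000000000000000000000000000000000000000000000000000000000000000000000000000000000000000000000000000000000000000000000000000000000000000000000000000000000000000000000000000000000000000000000000000000000000000000000200000010000000000000000000000000000000000),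
  ([10],[0,0],nat_lit 0x2000000000000000000000000000000000000000000000000000000000000000000000000000000000000000000000000000000000000000000000000000000000000000000000000000000000000000000000000000000000000000000000000000000000000000000000000000000000001c00000000000000000000000000000000000000000001c0000000000000000000000000000000000000000000000000000000000000000000000000000000000000000000000000000000000000000000000000000000000000000000000000000000000000000000000000000000000000000000000000000000000000000000000000000200080000000000000000000000000000000000000),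
  ([7],[1,1],nat_lit 0x200000000000000000000000000000000000000000000000000000000000000000000000000000000000000000000000000000000000000000000000000000000000000000000000000000000000000000000000000000000000000040000001000000000000000000000000000000000000000000000000000000000000000000000000000000000000000000000000000000000000000000000000000000000000000000000000000000000000000000000000000000000000000000000000000000000000000000000000000000000000000000000000000000000000000000200000000000000400000000000000000000000000000000000000000000000000000000000000000000000),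
  ([9],[1,1],nat_lit 0x40000000000000000000000000000000000000000000040000000000000000000000000000000000000000000000038000000000000000000000000000000000000000000000000000000000000000000000000000000000000000000000000000000000000000000000000000000000000000000000000000000000000000000000000000000000000000000000000000000000000000000000000000000000000000000000000000000000000000000000000000000000000000000000000000000000000000000000040010000000000000000000000000000000000000000000000000000000000000000000000000000000),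
  ([5],[5,3],nat_lit 0xe00000000000000000000000000000000000000000000000000000000000000000000000000000000000000000e00000038000000000000000000000000000000000000000000000000000000000000000000000000000000000000000000000000000000000000000000000000000000000000000000000000000000000000000000000000000e00000038000000000000000000000000000000000000000000000000000000000000000000000000000000000000000000000000000000030000000000000000000000000000000000000000000000000000000000000000000000000000000000000000000000000000000000000000000000000000000000000000000000000000000000),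
  ([7],[7,3],nat_lit 0xe00000000000000000000000000000000000000000000e001c0000000000000000000000000000000000000000000000000000000000000000000000000000000000000000000000000000000000000000000000000000000000e001c0000000000000000000000000000000000000000000000000000000000000000000000000000000000000000000000000000000000000000000000000000000000000000000000000000000000000000000000000000000000000000000000c00000000000000000000000000000000000000000000000000000000000000000000000000000000000000000000000000000000000000000000000000000000000000000000000000000000000000000),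
  ([8],[8,3],nat_lit 0xe00000000000000000000000000000000000000000000e001c0000000000000000000000000000000000000000000000000000000000000000000000000000000000000e001c0000000000000000000000000000000000000000000000000000000000000000000000000000000000000000000000000000000000000000000000000000000000000000000000000000000000000000000000000000000000000000000000000000000000000000000000000000000000000006000000000000000000000000000000000000000000000000000000000000000000000000000000000000000000000000000000000000000000000000000000000000000000000000000000000000000000000),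
  ([0],[0,0],nat_lit 0x8000000000000000000000000000000000000000000000000000000000000000000000000000000000000000000000000000000000000000000000000000000000000008000000000000000000000000000000000000000000000000000000000000000000000000000000000000000000000000000000000000000000000000000000000000000000000000000000000000000000000000000000000000000000000000000000000000000000000000000000000000000000000000000000000000000000000000000000000000000040008000000000000000000),
  ([6],[3,3],nat_lit 0x200040000000000000000000000000000000000000000000000000000000000000000000000000000000000000000000000000000000000000000000000000000000000000000000000000000080000000000000000000000000000000000000000000000000000000000000000000000000000000000000000000000000000000000000000000000000000000000000000000000000000000000000),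
  ([5],[2,2],nat_lit 0x200000000000000000000000000000000000000000000000000000000000000000000000000000000000000000000000000000000000000000000000000000000000000000000000000000000000000000000000000000000000000000000000000000000000000000000000000000000000000000000000000000000000000000000000000000000000008000000000000000000000000000000000000000000000000000000000000000000000000000000000000000000000000000000000000000000000000000000200000000000000000000010000000000000000000000000000000000000000000000000000000000000000000000000000000000000000000000000000000000000),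
  ([7],[2,2],nat_lit 0x40000000000000000000000000000000000000000000000000000000000000000000000000000000000000000000000000000000000000000000000000000000000000000008000000000000000000000000000000000000000000000000000000000000000000000000000000000000000000000000000000000000000000000000000000000000000000000000000000000000000000000000000000000000000000000000000000000000000000000000000040000000000400000000000000000000000000000000000000000000000000000000000000000000000000000000000000000000000000000000000000000000),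
  ([8],[2,2],nat_lit 0x200000000000000000000000000000000000000000000000000000000000000000000000000000000000000000000000000000000000000000000000000000000000000000000008000000000000000000000000000000000000000000000000000000000000000000000000000000000000000000000000000000000000000000000000000000000000000000000000000000000000000000000000000000000000000000000000000000000000000000000000000000000000000000000000000000000000000000000200000000002000000000000000000000000000000000000000000000000000000000000000000000000000000000000000000000000000000000000000000000000),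
  ([8],[1,1],nat_lit 0x40000000000000000000000000000000000000000000000000000000000000000000000000000000000000000000000000000000000000000000000000000000000000000000000000000000000000000000000000000000000000000000000000000000000000000000000000000000000000000000000000000000000000000000000000000000000000000000000000000000000000000000000000000000002000000000000000000000000000000000000000000000000000000000000000000000000000),
  ([5],[5,0],nat_lit 0x38000000000000000000000000000000000000000000000000000000000000000000000000000000000000000000000000000000000000000000000000000000000000000000000000000000000000000000000000000000000038000000000000000000000000000000000000000000000000000000000000000000000000000000000000000000000000000000000000000000000000000000000000000000000000000000000000000000000000000000000000000000000000000000000000000000000000000000000000000000000030000000000000000000),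
  ([9],[9,0],nat_lit 0xe00000000000000000000000000000000000000000000000000000000000000000000000000000000000000000e00000000000000000000000000000000000000000000000000000000000000000000000000000000000000000000000000000000000000000000000000000000000000000000000000000000000000000000000000000000000000000000000000000000000000000000000000000000000000000000000000000000000000000000000000000000000000000000000000000000000000000000000000000000000000000000000000000000000000000000000000000000000000000000000000000000000000000000000000030000000000000000000000000000000000),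
  ([10],[10,0],nat_lit 0xe00000000000000000000000000000000000000000000e00000000000000000000000000000000000000000000000000000000000000000000000000000000000000000000000000000000000000000000000000000000000000000000000000000000000000000000000000000000000000000000000000000000000000000000000000000000000000000000000000000000000000000000000000000000000000000000000000000000000000000000000000000000000000000000000000000000000000000000000000000000000000000000000000000000000000000000000000000000000000000000000000000000000000000000180000000000000000000000000000000000000),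
  ([5],[5,1],nat_lit 0x7000000000000000000000000000000000000000000000000000000000000000000000000000000000000000000000000000000000000000000000000000000000000007000000000000000000000000000000000000000000000000000000000000000000000000000000000000000000000000000000000000000000000000000000000000000000000000000000000000000000000000000000000000000000000030000000000000000000000000000000000000000000000000000000000000000),
  ([7],[7,1],nat_lit 0xe00000000000000000000000000000000000000000000000000000000000000000000000000000000000000000000000000000000000000000000000000000000000000000000000000000000000000000000000000000000000e00000000000000000000000000000000000000000000000000000000000000000000000000000000000000000000000000000000000000000000000000000000000000000000000000000000000000000000000000000000000000000000000000000000000000000000000000000000000000000000000000000000000000000000000000000000000000000000c00000000000000000000000000000000000000000000000000000000000000000000000),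
  ([9],[9,1],nat_lit 0x1c00000000000000000000000000000000000000000001c0000000000000000000000000000000000000000000000000000000000000000000000000000000000000000000000000000000000000000000000000000000000000000000000000000000000000000000000000000000000000000000000000000000000000000000000000000000000000000000000000000000000000000000000000000000000000000000000000000000000000000000000000000000000000000000000000000000000000000000000000030000000000000000000000000000000000000000000000000000000000000000000000000000000),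
  ([5],[5,2],nat_lit 0xe00000000000000000000000000000000000000000000000000000000000000000000000000000000000000000000000000000000000000000000000000000000000000000000000000000000000000000000000000000000000000000000000000000000000000000000000000000000000000000000000000000000000000000000000000000e00000000000000000000000000000000000000000000000000000000000000000000000000000000000000000000000000000000000000000000000000000000000000000000000000000000000030000000000000000000000000000000000000000000000000000000000000000000000000000000000000000000000000000000000000),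
  ([7],[7,2],nat_lit 0x1c00000000000000000000000000000000000000000000000000000000000000000000000000000000000000000000000000000000000000000000000000000000000001c0000000000000000000000000000000000000000000000000000000000000000000000000000000000000000000000000000000000000000000000000000000000000000000000000000000000000000000000000000000000000000000000000000000000000000000000000000000000000000000c00000000000000000000000000000000000000000000000000000000000000000000000000000000000000000000000000000000000000000000),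
  ([8],[8,2],nat_lit 0xe00000000000000000000000000000000000000000000000000000000000000000000000000000000000000000000000000000000000000000000000000000000000000e00000000000000000000000000000000000000000000000000000000000000000000000000000000000000000000000000000000000000000000000000000000000000000000000000000000000000000000000000000000000000000000000000000000000000000000000000000000000000000000000000000000000000000000000000000000000000006000000000000000000000000000000000000000000000000000000000000000000000000000000000000000000000000000000000000000000000000),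
  ([9],[9,4],nat_lit 0xe00000000000000000000000000000000000000000000000000000000000000000000000000000000000000000e00000000000000000000000000000000000000000000000000000000000000000000000000000000000000000000000000000000000000000000000000000000000000000000000000000000000000000000000000000000000000000000000000000000000000000000000000000000000000030000000000000000000000000000000000000000000000000000000000000000000000000000000000000000000000000000000000000000000000000000000000000000000000000000000000000000000000000000000000000000000000000000000000000000000000),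
  ([7],[7,6],nat_lit 0xe00000000000000000000000000000000000000000000000000000000000000000000000000000000000000000000000000000000000000000000000000000000000000000000000000000000000000000000000000000000000e00000000000000000000000000000000000000000000000000000000000c00000000000000000000000000000000000000000000000000000000000000000000000000000000000000000000000000000000000000000000000000000000000000000000000000000000000000000000000000000000000000000000000000000000000000000000000000000000000000000000000000000000000000000000000000000000000000000000000000000000),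
  ([8],[8,6],nat_lit 0xe00000000000000000000000000000000000000000000000000000000000000000000000000000000000000000000000000000000000000000000000000000000000000e00000000000000000000000000000000000000000000000000000000000000000000000000000000000000000000000000006000000000000000000000000000000000000000000000000000000000000000000000000000000000000000000000000000000000000000000000000000000000000000000000000000000000000000000000000000000000000000000000000000000000000000000000000000000000000000000000000000000000000000000000000000000000000000000000000000000000000),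
  ([1],[1,1],nat_lit 0x40000001000000000000000000000000000000000000000000000000000000000000000000000000000),
  ([3],[3,3],nat_lit 0x200040000000000000000000000000000000000000000000000000000000000000000000000000000000000000000000000000000000000000000000000000000000000000000000000000000000000000000000000000000),
  ([6],[6,3],nat_lit 0x200000000000000000180000000000000000000000000000000000000000000000000000000000000000000000000000000000000000000000000000000000000000000000000000000000000000000000000000000000000),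
  ([10],[2,2],nat_lit 0x1c0000000000000000000000000000000000000000000000000000000000000000000000000000000000000000000000000000000000000000000000000000000000000000000000000000000000000000000000000000000000000000000000000000000000000000000000000000000000000000000000000000000000000000000000000000000000000000000000000000000000000000000000000080000000000000000000000000000000000000000000000000000000000000000000000000000000000000000000000000000000000000000000000000000000),
  ([11],[2,2],nat_lit 0xe00000000000000000000000000000000000000000000000000000000000000000000000000000000000000000000000000000000000000000000000000000000000000000000000000000000000000000000000000000000000000000000000000000000000000000000000000000000000000000000000000000000000000000000000000000000000000000000000000000000000000000000000000400000000000000000000000000000000000000000000000000000000000000000000000000000000000000000000000000000000000000000000000000000000000),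
  ([5],[4,4],nat_lit 0x200000000000000000000000000000000000000000000000000000000000000000010000000000000000000000000000000000000000000000000000000000000000000000000000000000000000000000000000000000000000000000000000000000000000000000000000000000000000000000000000000000000000000000000000000),
  ([6],[4,4],nat_lit 0x200000000000000000000000000000000000000000000000000000000000000000000000000000000000000000000000000000000000080000000000000000000000000000000000000000000000000000000000000000000000000000000000000000000000000000000000000000000000000000000000000000000000000000000000000000000000000000000000000000000000000000000000),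
  ([7],[4,4],nat_lit 0x200000000000000000000000000000000000000000000000000000000000000000000000000000000000000000000000000000000000000000000000000000000000000000000000000000400000000000000000000000000000000000000000000000000000000000000000000000000000000000000000000000000000000000000000000000000000000000000000000000000000000000000000000000000000000000000000000000000000000000000),
  ([8],[4,4],nat_lit 0x200000000000000000000000000000000000000000000000000000000000000000000000000000000000000000000000000000000000000000000000000000000000000000000000000000000000000000000000000000000000000000000002000000000000000000000000000000000000000000000000000000000000000000000000000000000000000000000000000000000000000000000000000000000000000000000000000000000000000000000000000000000000000000000000000000000000000000),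
  ([10],[4,4],nat_lit 0x200000000000000000000000000000000000000000000000000000000000000000000000000000000000000000000000000000000000000000000000000000000000000000000000000000000000000000000000000000000000000000000000000000000000000000000000000000000000000000000000000000000000000000000000000000000080000000000000000000000000000000000000000000000000000000000000000000000000000000000000000000000000000000000000000000000000000000000000000000000000000000000000000000000000000000000000000000000000000000000000000000000000),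
  ([6],[5,5],nat_lit 0x200000000000000000000000000000000000000000000000000000000000000000000000000000000000000000000000000000000000000000000000000000000000000000000000000000000000000000000000000000000000000000000000000000000000000000000000000000000000000000000000000000000000000000000000000000200000000000000000080000000000000000000000000000000000000000000000000000000000000000000000000000000000000000000000000000000000000000000000000000000000000000000000000000000000000000000000000000000000000000000000000000000000000000000000000000000000000000000000000000000),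
  ([7],[5,5],nat_lit 0x200000000000000000000000000000000000000000000000000000000000000000000000000000000000000000000000000000000000000000000000000000000000000000000000000000000000000000000000000000000000000000000000000000000000000000000000000000000000000000000000000000000000000000000000000000200000000000000400000000000000000000000000000000000000000000000000000000000000000000000000000000000000000000000000000000000000000000000000000000000000000000000000000000000000000000000000000000000000000000000000000000000000000000000000000000000000000000000000000000000),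
  ([7],[7,0],nat_lit 0xc00000000000000000000000000),
  ([11],[11,0],nat_lit 0xc00000000000000000000000000000000000000000),
  ([8],[8,1],nat_lit 0x6000000000000000000000000000000000000000000000000000000000000000000000000000),
  ([10],[10,1],nat_lit 0x180000000000000000000000000000000000000000000000000000000000000000000000000000000000),
  ([11],[11,1],nat_lit 0xc00000000000000000000000000000000000000000000000000000000000000000000000000000000000000),
  ([10],[10,2],nat_lit 0x180000000000000000000000000000000000000000000000000000000000000000000000000000000000000000000000000000000000000000000000000000000),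
  ([11],[11,2],nat_lit 0xc00000000000000000000000000000000000000000000000000000000000000000000000000000000000000000000000000000000000000000000000000000000000),
  ([9],[9,3],nat_lit 0x30000000000000000000000000000000000000000000000000000000000000000000000000000000000000000000000000000000000000000000000000000000000000000000000000000000000000000000000000),
  ([10],[10,3],nat_lit 0x180000000000000000000000000000000000000000000000000000000000000000000000000000000000000000000000000000000000000000000000000000000000000000000000000000000000000000000000000000),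
  ([11],[11,3],nat_lit 0xc00000000000000000000000000000000000000000000000000000000000000000000000000000000000000000000000000000000000000000000000000000000000000000000000000000000000000000000000000000000),
  ([5],[5,4],nat_lit 0x30000000000000000000000000000000000000000000000000000000000000000000000000000000000000000000000000000000000000000000000000000000000000000000000000000000000000000000000000000000000000000000000000000000),
  ([7],[7,4],nat_lit 0xc00000000000000000000000000000000000000000000000000000000000000000000000000000000000000000000000000000000000000000000000000000000000000000000000000000000000000000000000000000000000000000000000000000000000000),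
  ([8],[8,4],nat_lit 0x6000000000000000000000000000000000000000000000000000000000000000000000000000000000000000000000000000000000000000000000000000000000000000000000000000000000000000000000000000000000000000000000000000000000000000000),
  ([10],[10,4],nat_lit 0x180000000000000000000000000000000000000000000000000000000000000000000000000000000000000000000000000000000000000000000000000000000000000000000000000000000000000000000000000000000000000000000000000000000000000000000000000),
  ([9],[9,6],nat_lit 0x30000000000000000000000000000000000000000000000000000000000000000000000000000000000000000000000000000000000000000000000000000000000000000000000000000000000000000000000000000000000000000000000000000000000000000000000000000000000000000000000000000000000000000000000000000000000000000000000000000000000000000),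
  ([10],[10,6],nat_lit 0x180000000000000000000000000000000000000000000000000000000000000000000000000000000000000000000000000000000000000000000000000000000000000000000000000000000000000000000000000000000000000000000000000000000000000000000000000000000000000000000000000000000000000000000000000000000000000000000000000000000000000000000),
  ([2],[2,2],nat_lit 0x8000000000000000000000000000000000000000000000000000000000000000000000000000000000000000000000000000000000000000000000000000),
  ([4],[4,4],nat_lit 0x200000000000000000000000000000000000000000000000000000000000000000000000000000000000000000000000000000000000000000000000000000000000000000000000000000000000000000000000000000000000000000000000000000000000000000000000000000),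
  ([6],[6,6],nat_lit 0x200000000000000000000000000000000000000000000000000000000000000000000000000000000000000000000000000000000000000000000000000000000000000000000000000000000000000000000000000000000000000000000000000000000000000000000000000000000000000000000000000000000000000000000000000000000000000000000000000000000000000000000000),
  ([8],[5,5],nat_lit 0x2000000000000000000000000000000000000000000000000000000000000000000000000000000000000000000000000000000000000000000000000000000000000000000000000000000000000000000000000000000000000000000000000000000000000000000000000000000000000000000000000000000000000000),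
  ([9],[5,5],nat_lit 0x10000000000000000000000000000000000000000000000000000000000000000000000000000000000000000000000000000000000000000000000000000000000000000000000000000000000000000000000000000000000000000000000000000000000000000000000000000000000000000000000000000000000000000000),
  ([10],[5,5],nat_lit 0x80000000000000000000000000000000000000000000000000000000000000000000000000000000000000000000000000000000000000000000000000000000000000000000000000000000000000000000000000000000000000000000000000000000000000000000000000000000000000000000000000000000000000000000000),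
  ([11],[5,5],nat_lit 0x400000000000000000000000000000000000000000000000000000000000000000000000000000000000000000000000000000000000000000000000000000000000000000000000000000000000000000000000000000000000000000000000000000000000000000000000000000000000000000000000000000000000000000000000000),
  ([8],[7,7],nat_lit 0x2000000000000000000000000000000000000000000000000000000000000000000000000000000000000000000000000000000000000000000000000000000000000000000000000000000000000000000000000000000000000000000000000000000000000000000000000000000000000000000000000000000000000000000000000000000000000000000000000000000000000000000000000000000000000000000000000000000000),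
  ([9],[7,7],nat_lit 0x10000000000000000000000000000000000000000000000000000000000000000000000000000000000000000000000000000000000000000000000000000000000000000000000000000000000000000000000000000000000000000000000000000000000000000000000000000000000000000000000000000000000000000000000000000000000000000000000000000000000000000000000000000000000000000000000000000000000000),
  ([10],[7,7],nat_lit 0x80000000000000000000000000000000000000000000000000000000000000000000000000000000000000000000000000000000000000000000000000000000000000000000000000000000000000000000000000000000000000000000000000000000000000000000000000000000000000000000000000000000000000000000000000000000000000000000000000000000000000000000000000000000000000000000000000000000000000000),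
  ([11],[7,7],nat_lit 0x400000000000000000000000000000000000000000000000000000000000000000000000000000000000000000000000000000000000000000000000000000000000000000000000000000000000000000000000000000000000000000000000000000000000000000000000000000000000000000000000000000000000000000000000000000000000000000000000000000000000000000000000000000000000000000000000000000000000000000000),
  ([9],[8,8],nat_lit 0x10000000000000000000000000000000000000000000000000000000000000000000000000000000000000000000000000000000000000000000000000000000000000000000000000000000000000000000000000000000000000000000000000000000000000000000000000000000000000000000000000000000000000000000000000000000000000000000000000000000000000000000000000000000000000000000000000000000000000000000000000000000000000000000000000000000000),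
  ([10],[8,8],nat_lit 0x80000000000000000000000000000000000000000000000000000000000000000000000000000000000000000000000000000000000000000000000000000000000000000000000000000000000000000000000000000000000000000000000000000000000000000000000000000000000000000000000000000000000000000000000000000000000000000000000000000000000000000000000000000000000000000000000000000000000000000000000000000000000000000000000000000000000000),
  ([11],[8,8],nat_lit 0x400000000000000000000000000000000000000000000000000000000000000000000000000000000000000000000000000000000000000000000000000000000000000000000000000000000000000000000000000000000000000000000000000000000000000000000000000000000000000000000000000000000000000000000000000000000000000000000000000000000000000000000000000000000000000000000000000000000000000000000000000000000000000000000000000000000000000000),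
  ([10],[9,9],nat_lit 0x80000000000000000000000000000000000000000000000000000000000000000000000000000000000000000000000000000000000000000000000000000000000000000000000000000000000000000000000000000000000000000000000000000000000000000000000000000000000000000000000000000000000000000000000000000000000000000000000000000000000000000000000000000000000000000000000000000000000000000000000000000000000000000000000000000000000000000000000000000000000000000000000000000000000),
  ([11],[9,9],nat_lit 0x400000000000000000000000000000000000000000000000000000000000000000000000000000000000000000000000000000000000000000000000000000000000000000000000000000000000000000000000000000000000000000000000000000000000000000000000000000000000000000000000000000000000000000000000000000000000000000000000000000000000000000000000000000000000000000000000000000000000000000000000000000000000000000000000000000000000000000000000000000000000000000000000000000000000000),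
  ([11],[10,10],nat_lit 0x400000000000000000000000000000000000000000000000000000000000000000000000000000000000000000000000000000000000000000000000000000000000000000000000000000000000000000000000000000000000000000000000000000000000000000000000000000000000000000000000000000000000000000000000000000000000000000000000000000000000000000000000000000000000000000000000000000000000000000000000000000000000000000000000000000000000000000000000000000000000000000000000000000000000000000000000000000000000000000000000000000000000)]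
theorem c2_hA0 : lall c2_A0 c2.relA = true := by decide +kernel
def c2_B0 : List (ℕ × List ℕ × List ℕ × ℕ) := [(0,[0,1],[1,0,2],nat_lit 0x40000000000800000000000000000000000000000000000000000000e001c00000000000000000000000000000000000000008001c0038000000000000000000000000000000000000a000000080000000000000000000000000000000000000001c0038007000e00000000000000000000000000000c001c0030007000c000000000000000000000000000002001c0000007000c00000000000000000000000000000200000000001000000040008000000000000000000000e00000038000000e001c00380070000000000000000000000000000000002000000000000000000000000000000000000000000000000000000000000000000000000000000000380000000001c0038007000000000000000),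
  (1,[3,4],[4,3],nat_lit 0xc000000000000000000000000000000000000000000000001c0000000000000000000000000000000000000000000000030000000000000000000000000000000000000000000000000000000000000000000000000000000000c00040030000000000000000000000000000000000000e000400380000002000000000000000000000000000000000400080000002000000000000000000000000000000000000380000000001c00380000000000000000000000001c0000000000e001c0038000000000000000000000000000038000000e001c0038000000000000000000000000000000000000000000000000000000000000000000e00000038000000e001c0038000000000000000000),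
  (2,[5,6],[6,5],nat_lit 0xe00000000000000000000000000000000000000000000200000000000000000000000000000000000000000000200000000000000000000000000000000000000000000000180038007000000000000000000000000000000000000180038000000e000000000000000000000000000000001c0000000000e00000000000000000000000000000000000038007000e001c0000000000000000000000000000000000000000000040000000000000000000000000000040000001000000000008000000000000000000000000000000000000000000000000000000000000000000e001c0000007000e001c0000000000e00000000000000000000000000000000000000000000000000000000),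
  (2,[7,8],[8,7,9],nat_lit 0x8000000000000000000000000000000000000e000000000000000000000000000000000000000000002000400000000000000000000000000000000000000002001c0038000000000000000000000000000000000000000000000000000000000000000000000000000000000000000008007000000000000000000000000000000000c00000038000000200000000000000000000000000000200000000000000200000000000000000000000000000000000000000000000000000000000000000000000000e000000000070000001c00380000000000000000000000000000380070002001c0000000000200000000000000000000000000000000000000000000000000000000000000000000000000000000000000000000000000000),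
  (2,[7,6],[6,7],nat_lit 0xe00000000000000000000000000000000000000000000e001c0000000000000000000000000000000000000000000000000000000000000000000000000000000000000e001800380070000000000000000000000000000000000001c0000007000e00000000000000000000000000000000000000000000e00000000000000000000000000000e00000038000000e001c00000000000000000000000000000000000000000000000080000000000000000000000000000000000000000000000000000000000000000000000400000010000000000080000000000000000000000000000380070000001c00380000000001c0000000000000000000000000000000000000000000000000000),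
  (3,[10,10],[11],nat_lit 0x200180000000000000000000000000000000000000000400000000000000000000000000000000000000000000e00140000000000000000000000000000000000000000800180030000000000000000000000000000000000000c00140028007000000000000000000000000000000000000000000000000000000000000000000000000000000c000000380000000000000000000000000000000000000000000380000000001c0038000000000000000000000000000000000000000000000000000000000000000000e001c00280070000001c0000000000e000000000000000000000000070000001c0038000000e001c0000000000000000000000000000000000000000000000000000000e001c0038007000000000000000000e001c0000007),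
  (0,[12,13],[13,12,2],nat_lit 0x40000000000c00000000000000000000000000000000000000000000e00000000000000000000000000000000000000000000000000000000000000000000000000000000000000000e000000000000000000000000000000000000000000000000000000000000000000000000000000000000000000000000000000000000000000000000000000000000000000400080000000000000000000000000000000000000001c00000070000000000380000000000000000000000000400080000000000000000000000000000000000000001c00000070000000000380000000000000000000000001c00080000000000000380000000000000000000000001c0038000000000000038000000000000000000),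
  (2,[5,5],[9],nat_lit 0x8000000000000030000000000000000000000800000000000000000000000000000000000000000000a00180000000000000000000000000000000000000000000000000000000000000000000000000000000000000e00000000007000000000000000000000000000000000a001c0000007000e00000000000000000000000000000e001c0000007000e00000000000000000000000000000000000000000000000000000000000000000000000000000000000000000000000000000000000000000000000e001c0000007000e001c0000000000e00000000000000000000000000000000000000000000000000000000000000000000000000000000000000000000000000000000000000000000000000000000000000000000000000),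
  (2,[7,7],[],nat_lit 0xc00000000000000000000000000000a00000000000000000000000000000000000000000000000000000000000000000000000000000000000000000a00000030000000000000000000000000000000000000c00000038007000000000000000000000000000000000000000000000000000000000000000000000000000000e000000300070000001c0000000000000000000000000e000000300070000001c00000000000000000000000000000000000000000000000000000000000000000000000000000000000000000000000000000000000000000000000000380070000001c00380000000001c0000000000000000000000000000000000000000000000000000000000000000000000000000000000000000000000000),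
  (1,[3,14],[14,3],nat_lit 0x38000000000000000000000000000000000000000000000000000000000000000000000000000000000e00000038000000000000000000000000000000000000200000038000000200000000000000000000000000000000000000000000200000000000000000000000000000000000038000000e001c0038000000000000000000000000000000000000000000000000000000000000000000000000000000000000000000000000000000000000000000000000000000000000000000000000000000000000e000000380000000001c0038000000000000000000),
  (3,[15,16],[16,15],nat_lit 0xc00000000000000000000000000000000000000000000c001c0000000000000000000000000000000000000000000000000000000000000000000000000000000000000000000000000000000000000000000000000000000000000000000000000000000000000000000000000000000e001c0000007000000000000000000000000000000000e001c00000070000000000000000000000000000000000000000000000000000000000000000000000000000000000000000070000000000000000000000000000000000000400000000000000000000000000000000000000000000000000000000000000000000000000000000000000001c0000007000000000000000000000000000000),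
  (0,[17,18],[18,17],nat_lit 0x200040000000000000000000000000000000000000000000000000000000000000000000000000000000000000e00000008000000000000000000000000000000000000000000000000000000000000000000000000000000000000000000000000000000000000000000000000000000000000008007000000000000000000000000000000000000000000000000000000000000000000000000000000200040000001000000000000000000000000000000000000000000007000000000038000000000000000000000000000000000000000000000000000000000000000000000000000001000000000000000000000000000000),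
  (0,[17,0],[0,17],nat_lit 0x200000008000000000000000000000000000000000000000000000001000000000000000000000000000000000000000000007000000000000000000000000000000000000000008007000000040000000000000000000000000000000000007000000000038000000000000000000000000000000000000000000000000000000000000000000000000000000000000000000000000000000000000000000000000000000000000000000000000000000000000000000000000000000000000000000000000000000),
  (0,[0,19],[19,0,20],nat_lit 0x1000000000000000000000000000000000000000000000000000000000000000000000000000000200000000000000000000000000000000000000000000000000000000000000000000000000000000000000000000000000000000000000000000000000000000000000000000038000000000000000000000000000000000000000000000000000000000000000000000000000000000200000000001000000000000000000000000000000000200000000001000200000000000000000000000000000200000000001000000000000000000000000000000000000000000000000000000000000000000000000000000000000000000000000000000000000000000000000000000000000000000000000000000000000000000000000000000000000000000000000000000000000000000),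
  (3,[21,22],[22,21,11],nat_lit 0x200000000000000000000000000000000000000000000000000000000000000000000000000000000000000000000000000000000000000000000000000000000000000e00000000000000000000000000000000000000000000e00000038000000000000000000000000000000000000000000000001000000000000000000000000000000000000000000000000000000000000000000000000000000000000038000000000000000000000000000000000000000000000001000000000008000000000000000000000000000000000000000000000000000000000000000000000000000000000000000000000000000000000000000000000000000000000000000000000000000000000000000000000000000000000000000000000000000000),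
  (2,[23,8],[8,23,24],nat_lit 0x10000000000000000000000000000000000000000000000000000000000000000000000000000000000000000000000000000000000000000000000000000000000000000000001c0000000000000000000000000000000000000000000000000000000000000000000000000000000000000000000000000000000000000000000000000000000000e001c0000000000000000000000000000000000000000000000000000000000000000000000000000000000000000000000000000000000000000000000000000000000000000000000000000000000000000000000000000000000000000000000e000000000000000000000000000000001c0000000000000000000000000000000000000000000000000000000000000000000000000000000000000000000000000000000000000000000000000000000),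
  (2,[6,6],[9],nat_lit 0x80000000001800000000000000000000000000000000000000000000000000000000000000000000000001c00000000000000000000000000000000000000000000000000000000000000000000000000000000000000001800000060000000000000000000000000000000000000000000000000000000000000000000000000000000000000000000000000000000000000000000000000000001c00000060000000000380000000000000000000000000000000000000000000000010000000000000000000000000000000000000000000000000000000000000000000000000000000000000000000000000000000000000001c0000007000000000038000000000000038000000000000000000000000000000000000000000000000),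
  (2,[25,8],[8,25,9],nat_lit 0x8000000000000000000000000000000000000e000000000000000000000000000000000000000000000000000000000000000000000000000000000000000000000000000000000000000000000000000000000000000000000000000000000000000000000000000000000000001c0000007000000000000000000000000000000000000000000000000000000000000000000000000000000000000000000000000000000000000000000000000000000000000000000000000000000000000000000000000e00000000007000000000000000000000000000000000000000000000000000000000000000000000000000000000000000000000000000000000000000000000000000000000000000000000000000000000000000000000),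
  (3,[26,26],[11],nat_lit 0x180000000000000000000000000000000000000000000000000000000200000000000000000000000000000000000000000000e00000000000000000000000000000000000000000000e001c0000000000000000000000000000000000000000000000000000000000000000000000000000000000000000000000000000000000000000000000000000000000000000000000000000000000000000000000000000000000000000000000000000000000000000000000000000e001c0000000000000000038000000000000000000000e001c0000000000000000038000000000000000000000000000000000000000000000000000000000000000000000000000000000000000000000000000000000000000000000000000000000000000000000000000000000000000000000000000000000000000000000000000000),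
  (3,[27,27],[],nat_lit 0xc00000000000000000000000000000000000000000000000000000000000000000000000000000000000000000000000000000000e00000000000000000000000000000000000000000000e001c0000000000000000000000000000000000000000e001c0000000000000000000000000000000000000000000000000000000000000000000000000000000000000000000000000000000000000000000000000000000000000000000000000000000000000000000000000000000e001c0038000000000000038000000000000000000000000000000000000000000000000000000000000000000000000000000000000000000000000000000000000000000000000000000000000000000000000000000000000000000000000000000000000000000000000000000000000000000000000000000000000000000000000000),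
  (3,[21,21],[],nat_lit 0x30000000000000000000000000000000000000000000000000000000000000000000000000000000000e00000000000000000000000000000000000000000000000000000000000000000000000000000000000000000e00000038000000000000000000000000000000000000000000000000000000000000000000000000000000000e00000038000000000000000000000000000000000000000000000000000000000000000000000000000000000000000000000000000000000000000000000000000000000000038000000e00000000007000000000000000000000000000000000000000000000000000000000000000000000000000000000000000000000000000000000000000000000000000000000000000000000000000000000000000000000000000000000000000000000000000),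
  (0,[12,12],[],nat_lit 0x60000000000000000000000000000000000000000000000000000000000000000000000000000000000000000000000001c00000000000000000000000000000000000000000001c00000000000000000000000000000000000000000000000000000000000000000000000000000000000000000000000000000000000000000000000000000000000000000000000000000000000000000000000000000000001c0038000000000000038000000000000000000000000000000000000000000000000000000000000000000000000000000000000000000000000000000000000000000000000000000000000000000000000000000000000000000000000000000000000000000000000000000000000000000000000000000000000000000000000000),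
  (1,[28,28],[],nat_lit 0x60000000000000000000000000000000000000000000000000000000000000000000000000000000000000000000000000000000000000000000000000000000000000000000000000000000000000000000000000000000000000000000000000000000001c00380000000000000000000000000000000000000000000000000000000000000000000000000000000000001c0038000000e00000000000000000000000000000000000000000000000000000000000000000000000000000000000000000000000000000000000000000000000000000000000000000000000000000000000000000000000000000000000000000000000000000000000000000000000000000000000000000000000000000000000000000000000000000000000000000000000000000000000000000000000000000000000000000000000000000),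
  (2,[23,23],[],nat_lit 0xc000000000000000000000000000000000000000000000000000000000000000000000000000000000000000000000000000000000000000000000000000000000000000001c00000000000000000000000000000000000000000000000000000000000000000000000000000000000000000000000000000000000000000000000000000000000001c0000000000000000000000000000000000000000000000000000000000000000000000000000000000000000000000000000000000000000000000000000000000000000000000000000000000000000000000000000000000000000000000000000000000000000000000000000000000000000000000000000000000000000000000000000000000000000000000000000000000000000000000000000000000000000000000000000000000000000),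
  (2,[29,29],[],nat_lit 0x30000000000000000000000000000000000000000000000000000000000000000000000000000000000000000000000000000000000000000e00000000000000000000000000000000000000000000000000000000000000000000000000000000000000000e00000000000000000000000000000000000000000000000000000000000000000000000000000000000000000000000000000000000000000000000000000000000000000000000000000000000000000000000000000000000000000000000000000000000000000000000000000000000000000000000000000000000000000000000000000000000000000000000000000000000000000000000000000000000000000000000000000000000000000000000000000000000000000000000000000000000000000000000000000000000000000000000000000000000000),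
  (0,[19,19],[],nat_lit 0xc00000000000000000000000000000000000000000000000000000000000000000000000000e00000000000000000000000000000000000000000000000000000000000000000000000000000000000000000000000000000000000000000000000000000000000000e00000000007000000000000000000000000000000000000000000000000000000000000000000000000000000000000000000000000000000000000000000000000000000000000000000000000008000000000000000000000000000000000000000000000000000000000000000000000000000000000000000000000000000000000000000000000000000000000000000000000000000000000000000000000000000000000000000000000000000000000000000000000000000000000000000000000000000),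
  (0,[17,17],[],nat_lit 0x30000000000000000000000000000000000000000000000000000000000000000000000000000000000000000000000000000000000000000000000000000000000000000000000000000000000000000000000000000000000000000000000000000000000000000000000000000000000000000000000000000000000000000000000000000000000000000000000000000000000000000000000000000000000000000000000000000000000007000000000038000000000000000000000000000000000000000000000000000000000000000000000000000000000000000000000000000000000000000000000000000000000000000000000000000000000000000000000000000000000000000000000000000000000000000000000000000000000000000000000000000),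
  (0,[2,2],[],nat_lit 0x180000000000000000000000000000000000000000000000000000000000040000000000000000000000000000000000000000000000038000000000000000000000000000000000000000000038007000000000000000000000000000000000000000000000000000000000000000000000000000000000000000000000000000000000000000000000000000000000000000000000000000000000000000000000000000000000000000000000000000000000000000000000000000000000000000000000000000000000000000000000000000000000000000000000000000000000000000000000000000000000000000000000000000000000000000000000000000000000000000000000000000000),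
  (3,[22,22],[],nat_lit 0x180000000000000000000000000000000000000000000000000000000000000000000000000000000000000000000000000000000000000000000000000000000000000000000000000000000000000000000000000000000000000000000000000000000000000000000000000000000000000007000000000000000000000000000000000000000000000000000000000000000000000000000000000000000000000000000000000000000000000000000000000000007000000000000000000000000000000000000000000000000000000000000000000000000000000000000000000000000000000000000000000000000000000000000000000000000000000000000000000000000000000000000000000000000000000000000000000000000000000000000000000000000000000000000000),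
  (3,[30,30],[],nat_lit 0x180000000000000000000000000000000000000000000000000000000000000000000000000000000000000000000000000000000000000000000e00000000000000000000000000000000000000000000000000000000000000000000000000000000000000000000000000000000000000000000000000000000000000e00000000000000000000000000000000000000000000000000000000000000000000000000000000000000000000000000000000000000000000000000000000000000000000000000000000000000000000000000000000000000000000000000000000000000000000000000000000000000000000000000000000000000000000000000000000000000000000000000000000000000000000000000000000000000000000000000000000000000000000000000000000000000000000000000000000000000000),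
  (3,[15,15],[],nat_lit 0xc000000000000000000000000000000000000000000000000000000000000000000000000000000000000000000000000000000000000000000000000000000000000000000000000000000000000000000000000000000000000000000000000000001c0000007000000000000000000000000000000000000000000000000000000000000000000000000000000000000000000000000000000000000000000000000000000000000000000000000000000000000000000000000000000000000000000000000000000000000000000000000000000000000000000000000000000000000000000000000000000000000000000000000000000000000000000000000000000000000000000000000000000000000000000000000000000000000000000000000000000),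
  (2,[25,25],[],nat_lit 0x30000000000000000000000000000000000000000000000000000000000000000000000000000000000000000000000000000000000000000000000000000000000000000000000000000000000000000000000000000000000000000000000000000000000000000000000000000000000000000000000000000000000000000000000000000000000000000000000000000000000000000000000000000000000000000000000000000000000000000000000000000000000000000000000000000000000000000000000000000000000000000000000000000000000000000000000000000000000000000000000000000000000000000000000000000000000000000000000000000000000000000000000000000000000000000000000000000000000000000000000000000000000000000000000000000000000),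
  (2,[24,24],[],nat_lit 0x6000000000000000000000000000000000000000000000000000000000000000000000000000000000000000000000e00000000000000000000000000000000000000000000000040000000000000000000000000000000000000000000000000000000000000000000000000000000000000000000000000000000000000000000000000000000000000000000000000000000000000000000000000000000000000000000000000000000000000000000000000000000000000000000000000000000000000000000000000000000000000000000000000000000000000000000000000000000000000000000000000000000000000000000000000000000000000000000000000000000000000000000000000000000000000000000000000000000000000000000000000000000000000000000000000000000),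
  (2,[9,9],[],nat_lit 0x300000000000000000000000000000000000002000000000000000000000000000000000000000000000001c0000000000000000000000000000000000000000000000000000000000000000000000000000000000000000000000000000000000000000000000000000000000000000000000000000000000000000000000000000000000000000000000000000000000000000000000000000000000000000000000000000000000000000000000000000000000000000000000000000000000000000000000000000000000000000000000000000000000000000000000000000000000000000000000000000000000000000000000000000000000000000000000000000000000000000000000000000000000000000000000000000000),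
  (0,[20,20],[],nat_lit 0x6000000000000000000000000000000000000000000000000000000000000000000000000000000000000000000000000000000000000000000000000000000000000000000000000000000000000000000000000000000000000000000000000000000000000000000000000000000000000000000000000000000000000000000000000000000000000000000000000000000000000000000000000000000000000000000000000000000000000000000000000000000000000000000000000000000000000000000000000000000000000000000000000000000000000000000000000000000000000000000000000000000000000000000000000000000000000000000000000000000000000000000000000000000000000000000000000000000000000000000000000000000000000000),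
  (1,[31,31],[],nat_lit 0xc00000000000000000000000000000000000000000000000000000000000000000000000000000000000000000000000000000000000000000000000000000000000000000000000000000000000000000000000000000000000000000000000000000000000000000000000000000000000000000000000000000000000000000000000000000000000000000000000000000000000000000000000000000000000000000000000000000000000000000000000000000000000000000000000000000000000000000000000000000000000000000000000000000000000000000000000000000000000000000000000000000000000000000000000000000000000000000000000000000000000000000000000000000000000000000000000000000000000000000000000000000000000000000000000000000000000000000000000000000000),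
  (3,[11,11],[],nat_lit 0xc00000000000000000000000000000000000000000000000000000000000000000000000000000000000000000000000000000000000000000000000000000000000000000000000000000000000000000000000000000000000000000000000000000000000000000000000000000000000000000000000000000000000000000000000000000000000000000000000000000000000000000000000000000000000000000000000000000000000000000000000000000000000000000000000000000000000000000000000000000000000000000000000000000000000000000000000000000000000000000000000000000000000000000000000000000000000000000000000000000000000000000000000000000000000000000000000000000)]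
theorem c2_hB0 : lall c2_B0 c2.relB = true := by decide +kernel
theorem c2_lin : Lin c2 (2 ^ 2) :=
  ⟨by decide +kernel, c2_A0, c2_B0, _,
  [nat_lit 0xc0000000000400000000003000000000000000000000000000000000000000000000000000040000000000600000018000000000000000000000000000000000000000000000000000000000000000000000000000000000000000000000000000000000000000000000000000000000000000000000000000000000000000000000000000000000000000000000000000000000000000000000000000000000000000000000000000000000000000000000000000000000000000000000000000000000000000000000000000000000000000000000000000000000000000000000000000000000000000000000000000000000000000000000001000000000000000000000000000000000000000000000000000000000000000000000000000000000000000000000000000000000000000000000000000000000000000000000000000002,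
  nat_lit 0x3000600000000001000000080008000000000000000000000000000000000000000000000000000000040000000000000000000000000000000000000000000000000000000000000000000000000000000000000000000000000000000000000000000000000000000000000000000000000000000000000000000000000000000000000000000000000000000000000000000000000000000000000000000000000000000000000000000000000000000000000000000000000000000000000000000000000000000000000000000000000000000000000000000000000000000000000000000000000000000000000000000000000001000000000000000000000000000000000000000000000000000000000000000000000000000000000000000000000000000000000000000000000000000000000000000000000000000000,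
  nat_lit 0xc0000003000200000000000000000080000000000000000000000000000000000000000000080000000000600000010000000000000000000000000000000000000000000000000000000000000000000000000000000000000000000000000000000000000000000000000000000000000000000000000000000000000000000000000000000000000000000000000000000000000000000000000000000000000000000000000000000000000000000000000000000000000000000000000000000000000000000000000000000000000000000000000000000000000000000000000000000000000000000000000000000000000000000000003000000000000000000000000000000000000000000000000000000000000000000000000000000000000000000000000000000000000000000000000000000000000000000000000000003,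
  nat_lit 0xc0000000000000000000000000000000000000000000000000000000000000000000000000000000000000000000008000000000000000000000000000000000000000000000000000000000000000000000000000000000000000000000000000000000000000000000000000000000000000000000000000000000000000000000000000000000000000000000000000000000000000000000000000000000000000000000000000000000000000000000000000000000000000000000000000000000000000000000000000000000000000000000000000000000000000000000000000000000000000000000000000000000000000000000003000000000000000000000000000000000000000000000000000000000000000000000000000000000000000000000000000000000000000000000000000000000000000000000000000000,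
  nat_lit 0x80020000000000000000002000400000000000000000000000000000000000000000000000000000000000000000000000000000000000000000000000000000000000000000000000000000000000000000000000000000000000000000000000000000000000000000000000000000000000000000000000000000000000000000000000000000000000000000000000000000000000000000000000000000000000000000000000000000000000000000000000000000000000000000000000000000000000000000000000000000000000000000000000000000000000000000000000000000000000000000000000000000000000000000000000000000000000000000000000000000000000000000000000000000000000000000000000000000000000000000000000000000000000000000000000000000000000000000000008000,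
  nat_lit 0x180000000000400180000004000800080000000000c00000020000000000000000006000000080000000000c00000030000000000000000000000000000000000000000000000000000000000000000000000000000000000000000000000000000000000000000000000000000000000000000000000000000000000000000000000000000000000000000000000000000000000000000000000000000000000000000000000000000000000000000000000000000000000000000000000000000000000000000000000000000000000000000000000000000000000000000000000000000000000000000000000000000000000000000000000002000000000000000000000000000000000000000000000000000000000000000000000000000000000000000000000000000000000000000000000000000000000000000000e00000000005,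
  nat_lit 0x400080000002000800180000000000400000020000000000000000002000000000000000000000000000000000000000000000000000000000000000000000000000000000000000000000000000000000000000000000000000000000000000000000000000000000000000000000000000000000000000000000000000000000000000000000000000000000000000000000000000000000000000000000000000000000000000000000000000000000000000000000000000000000000000000000000000000000000000000000000000000000000000000000000000000000000000000000000000000000000000000000000000000000000000000000000000000000000000000000000000000000000000000000000000000000000000000000000000000000000000000000000000000000000000000000200000000000,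
  nat_lit 0x80020004000000000000002000800180000000000800000030000000400000000006000000000000000000400000000000000000140000000000000000000000000000000000000000000000000000000000000000000000000000000000000000000000000000000000000000000000000000000000000000000000000000000000000000000000000000000000000000000000000000000000000000000000000000000000000000000000000000000000000000000000000000000000000000000000000000000000000000000000000000000000000000000000000000000000000000000000000000000000000000000000000000000020005000000000000000000000000000000000000000000000000000040000000000000000000000000000000000000000000000000000000000000000000000000000000000000c00000000000,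
  nat_lit 0x40000000000000070000000000000000000000000000000004000000000020000001000000000008000000200000000000c0000000000000000000000000000000000000000000000000000000000000000000000000000000000000000000000000000000000000000000000000000000000000000000000000000000000000000000000000000000000000000000000000000000000000000000000000000000000000000000000000000000000000000000000000000000000000000000000000000000000000000000000000000000000000000000000000000000000000000000000000000000000000000000000000000000008000000000000000000000000000000000000000000000000000000000000000000000000000000000000000000000000000000000000000000000000000000000000000000000400000000006,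
  nat_lit 0x20006000000000000004000400180030000000800000030000000800000000006000000000000000000400000000000000000180000000000000000000000000000000000000000000000000000000000000000000000000000000000000000000000000000000000000000000000000000000000000000000000000000000000000000000000000000000000000000000000000000000000000000000000000000000000000000000000000000000000000000000000000000000000000000000000000000000000000000000000000000000000000000000000000000000000000000000000000000000000000000000000000000000020002000000000000000000000000000000000000000000000000000040000000000000000000000000000000000000000000000000000000000000000000000000000000000000c00000010000,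
  nat_lit 0x180020000000000000000005000800080000000000800000010000000c000000000040000001000000000004000000200000000001800000000000000000000000000000000000000000000000000000000000000000000000000000000000000000000000000000000000000000000000000000000000000000000000000000000000000000000000000000000000000000000000000000000000000000000000000000000000000000000000000000000000000000000000000000000000000000000000000000000000000000000000000000000000000000000000000000000000000000000000000000000000000000000000000000000280040000000000000000000000000000000000000000000000000001c0000000000000000000000000000000000000000000000000000000000000000000000000000000000000800000000006,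
  nat_lit 0x100020000000000000000002000800180000000000800000030000000400000000004000000100000000000c00000020000000000080000000000000000000000000000000000000000000000000000000000000000000000000000000000000000000000000000000000000000000000000000000000000000000000000000000000000000000000000000000000000000000000000000000000000000000000000000000000000000000000000000000000000000000000000000000000000000000000000000000000000000000000000000000000000000000000000000000000000000000000000000000000000000000000000000000018004000000000000000000000000000000000000000000000000000040000000000000000000000000000000000000000000000000000000000000000000000000000000000000800000000002],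
  [(nat_lit 0x40000000000000000000007000000000000007000000000000000,2,nat_lit 0xa64001800000000000000000000000000000000804b2c9f25d6d82860a52101a0b228e2068e248104b2186cb4),
  (nat_lit 0x40038000000000000000000,2,nat_lit 0x1404a675411842e122971926a30002484026026196484182d04)],
  [[0,nat_lit 0x38002e00000406c201060240000000000000000000000000000300020809a6a3e1d08047b453a5325a80265ba532180892892826,nat_lit 0x2f0a8428f40805605a1a61000000000000000000000000000002003a8c0c28179827cc698f57fe8bd276031ecef7f45fba30e4a8,nat_lit 0x50b8438fc0442120002000000000000000000000000000000000024ac0d3426880cb01cb382a816471005eb2592180194186922,nat_lit 0x1fd1524a80004034270c502a0000000000000000000000000000100070407b3dd7b3d829f20e31b370523e7182e05f2369c80addb,nat_lit 0x85152f6d0208008df1c0827000000000000000000000000000008008cc06da81b1d5d6867d2793f0589a0aa60c059756a63d78e6,nat_lit 0x85152f6d0208008df1c0827000000000000000000000000000008008cc06da81b1d5d6867d2793f0589a0aa60c059756a63d78de,nat_lit 0x7548100024000000000000000000000000000018012e00b7024bd3d688b96e041030ea2a397be2c3d21068cc9b0,nat_lit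 0x38000000000e069f0182032000000000000000000000000000038016e007d66c32f4294d9378e999774095c31bde036d904c6536,nat_lit 0x1d51524100204862515b041c00000000000000000000000000002000e30002c91d06c17e6252859927ec3a971b9f613860e088116,nat_lit 0x1d5152410020487f2143042a0000000000000000000000000000300273c08b00e6c15d01f17a44e38d4491d16cc6339ca8ad62d3a,nat_lit 0x4130100024000000000000000000000000000010032cc0e83c443f818ce1e4cc12ed1b923312c92da4800930508],
  [nat_lit 0x2d1d256de0950041d8a1427000000000000000000000000000000034840186d55a17bb63d5b812d230309d9fb3f8bf3e823561ef,nat_lit 0x1d51524a8000201dd704701c000000000000000000000000000008015f40545392dc9ab929359f2a87822705939dbf1122ccc80c8,nat_lit 0x145152f7d0205067bb92305800000000000000000000000000001802884054beb3e04a4a64f03b3a59d83c0e84e5ae4c681c9f5e9,nat_lit 0x38000000000e01270107024000000000000000000000000000018027ac0bf220eaf3706173708b1c00dd2150686665206c929d27,nat_lit 0x1c00000b8020f84456cd4c000000000000000000000000000000080134c0d656120af09b723220509f8786d0f3e52dab4b8de20a0,nat_lit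 0xbd152400020380b55c12c38000000000000000000000000000010008b001aa5b01a5f6d80125a8b09e921bff64f2aceb3a134974,nat_lit 0x1d5152410020484cd9475431000000000000000000000000000020003340a936fc7f8834692f7424d97edd6ae9ea8d2e399ad69f7,nat_lit 0x490010402400000000000000000000000000003801f2806da36fdb47fc726b6491f02e1a7e3670a836536814518,nat_lit 0x16f1d2410020b83f97c96c2c00000000000000000000000000003002e10008e2ba678a57f26cd80bb39d93e7c332a25a3961eecb8,nat_lit 0x4900104024000000000000000000000000000008029d80b6eed9494a4cb226e492901a0a1212b3e812d12834d28,nat_lit 0x127814302b00000000000000000000000000001000fa40e3b34dc6df61bb5d3715a5299dac8b5e09240806821fb],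
  [nat_lit 0xbf152e2da00883ada5f0c2f0000000000000000000000000000300293c0b39bc5b8847a0054529404dc6b64d00979421a82338f0,nat_lit 0x38000000028e01e10006628000000000000000000000000000028015d8017157cb71aa284279bc2a998a029c49f4376db014e5aa,nat_lit 0x1c00000b8020f843a6d11c0f00000000000000000000000000000800528056776e1d0c08adf8c9b7e2926a0172199bcf528bc4265,nat_lit 0x1d5152410020485c5153040e00000000000000000000000000001002dc40ebfedf71046fe5b61471bcb4d7b478a087dc6b85f2906,nat_lit 0x152080b7d000c806985f0c0900000000000000000000000000001803ffc034a58468f4dbf7e3063d37585b9c576cb07f518cd905c,nat_lit 0x16f1d2410020b832b7c94c2c0000000000000000000000000000280287c085f923773a412894590ade4d4be6b17dbd5a4a617ada8,nat_lit 0x1d5152410020483f8153040e0000000000000000000000000000380272c05f77ae1e9d30a28fc5b142c617e935c8105c71e54442e,nat_lit 0x4080100024000000000000000000000000000008029d0054b6ce1fa264c283480ef5bd0b1ea078a936516cb4c34,nat_lit 0x830080016000000000000000000000000000030014980cb0539e9748a9b0564080d2e9b0dec020124da4c0698c,nat_lit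 0x4930080016000000000000000000000000000038019500dfd66d44a7fd2083724af5b20377bae2a4b64a6c8248c],
  [nat_lit 0x10000000038e0236020003800000000000000000000000000000803adc026c4905f1afacd2c8fdef3069c88af68d75b22822888a,nat_lit 0x1c0000010000d068b482481600000000000000000000000000001003bb0099e7a9bb2ac1885a374adfeb4234b13ed2a01045145b4,nat_lit 0x152080b7d000c87ff84f0c2d00000000000000000000000000000801db807f85726f6dcd57c4fd8ee85f227bb85703e482c6154e0,nat_lit 0x20000a6018481a0000000000000000000000000000280331000758ce11e7b3809d7d1c33a654d2c1a89c7fabe2aada6,nat_lit 0x38000000000e02980084016000000000000000000000000000000034dc03031f7a19daff0c8de4bc196db3e6a180980c80c22598,nat_lit 0x38000000020e028800828360000000000000000000000000000200103408021fffd329a1d1dfc48b3739378f138e024496c7252e,nat_lit 0x30002530084406000000000000000000000000000018029d800efff47d92473882b68888b0d33e58b9a4b68b6c025b4,nat_lit 0x20000d90080836000000000000000000000000000010012ac06a787213c6b2afa1844a7ddd9365bc3a8924194d361a0,nat_lit 0x100029a0004c10000000000000000000000000000018029bc0adaa06a57053dc6e16c38dcb503f606064b6926014c34],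
  [nat_lit 0x1c5152010020c8777957241500000000000000000000000000003000998002e69e043f57beee4b55f6a51f42c4a9955c6223af140,nat_lit 0x3f1814702b00000000000000000000000000000000b4c0d987dd34215548d691f5d1d4c5a9593cc592c347d897b,nat_lit 0x66e004100f000000000000000000000000000028004140571fa91e50398b2a3085d06ebfb98430ddd2d02e940dd,nat_lit 0x411018403200000000000000000000000000001000f740c9ae4d06477cc9336998ffdf991e3266be92110504c8c,nat_lit 0x24b0002000000000000000000000000000000018034780cd5cd46be58a58f4e100a750184a015f1700d26104c2e,nat_lit 0x1d5152410020487b2153240e00000000000000000000000000001800a9803cc863ee7760ca34e6721180cbc780edc34ae0a570828,nat_lit 0x7fe814102b0000000000000000000000000000300160400240c42478975083b694ffdb8dc0a4639a128907929c9,nat_lit 0x2018403200000000000000000000000000000002b780229e3f39ca5038b3a39a7f4419252166ff12930434884],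
  [nat_lit 0x12010010480101a36d14404000000000000000000000000000020021f40f113570ec512a8c0bf62ff55eecbcf7fae74d3246c9a0,nat_lit 0x1d51524100204846c143042a000000000000000000000000000018033200df1b626901b2c2d4d903dee8d1aca76f812e288c9ac9a,nat_lit 0x1d5152410020483f8143042a00000000000000000000000000002803a18027efc7ce3eeb29502ee2559909e3ceffc68a79ccf6806,nat_lit 0x1a008001600000000000000000000000000002003d700f1f6adb4aad6d9938f8b33e79b4aa3fcf712014cb0080,nat_lit 0x6ca008001600000000000000000000000000001800d540ed8b994241584223e08b3c29db49aae8c4b6d86d0619c,nat_lit 0x20a018003200000000000000000000000000000800be8054f74bc28f699bc26a1970cb410d0ceac9125865268ac,nat_lit 0x2910080016000000000000000000000000000000026980104d973b291175482808051f4b409c8a21920b4ca28b0],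
  [nat_lit 0x1d7142400480c01cf1430c02000000000000000000000000000018032240de3416e1d7af0183c7fe9eff04471735ceed8a4e7a130,nat_lit 0x1d5152410020483fa153040e000000000000000000000000000030008dc0cba5cd57574e8978053058a913cf6c67cb8ab8e476002,nat_lit 0x1d5152410020487e2143442a000000000000000000000000000000008480c0a2b9d1775dd364a3221b201180c77dedaea0ec50116,nat_lit 0x2c30100024000000000000000000000000000018019440fe878d3009f1712bfad23d22c204b4728036412930114,nat_lit 0x19010002400000000000000000000000000000800da80849b6d28e37639ccb61135700a45b4e2a092512884014,nat_lit 0x8b01800320000000000000000000000000000380028009c3e5a54e016b2c08ad985328152ae0a2c805a6486da4],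
  [nat_lit 0x9208001000080690200602600000000000000000000000000000002d780229a1d73aa607bf781db19e4d36910b6d214d24424912,nat_lit 0x377814102b000000000000000000000000000010009f4063f44f46bb4009243b56ac330dccb7ce04a49306949d9,nat_lit 0x4920000000000000000000000000000000000030016880db0d17a040bc5245e48028008009e0530024824020008,nat_lit 0xcb0002000000000000000000000000000000020026d40313e6004c931c3803481e1155032a84961240b6192d22,nat_lit 0x5900060000000000000000000000000000000200224c0f353e01fc91740801482a134d05f98db21241920b6526],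
  [nat_lit 0x800000100005020848a480000000000000000000000000000003000f28098e60d7f0367713f130193445b7d19b4b2201b0906424,nat_lit 0x69301000240000000000000000000000000000180291c07d8a1f98ca7a6346c4d1588452648239ed1251293492c,nat_lit 0x4110180032000000000000000000000000000000002580124d961c6c24a9090258693d19219ac304801945168b0,nat_lit 0x180104024000000000000000000000000000020012180d368b69f6086a1602c1144a38229829a0800924884804],
  [nat_lit 0x2080492000002d8208000200000000000000000000000000003803bc40fcc3a97a60dffa42f80a5d3481013421e8b0112db60b8,nat_lit 0x69000800160000000000000000000000000000200261c0434858dba5100ac822c8a530d357985128001a0c065b0,nat_lit 0x810100024000000000000000000000000000000000540a33953dfc00033a8a892851b123b32182d80024910510],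
  [nat_lit 0x92080000000d06c128a0822000000000000000000000000000010016d809b291ed360840820968b418c9a419a1828945845b61a4,nat_lit 0x21000800160000000000000000000000000000000225c0333ddc54a13550e83408c9204b729a0044001b0d96c90],
  [nat_lit 0x82080000000904d069a08260000000000000000000000000000200248c06314d04dc11511c5b0da888448761a0a6010d84d16d84]],
  c2_hA0, c2_hB0, rfl, by decide +kernel, by decide +kernel, by decide +kernel, by decide +kernel⟩
def c2_x : List Word := [[4,1,4,10,12,4,1,8,10,0,4,1,4,1,2],
  [0,8,10,12,10,12,4,0,6,10,8,1,8,10,4,6,8,1,8,1,6,4,6,1,4,1,4,0],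
  [0,8,0,4,6,12,10,12,10,8,1,8,10,0,4,6,4,1,8,0,4,1,4,6,0,4,0,4,1,2],
  [4,12,4,1,4,12,8,0,8,1,8,4,1,6,4,6,1,4,1,4],
  [8,0,6,4,10,12,4,8,1,8,10,4,8,1,8,0,4,6,1,4,2],
  [4,0,12,4,12,8,1,4],
  [1,4,10,12,6,8,1,8,10,1,4,6,0,4,0,4,1],
  [12,6,12,0,10,8,10,6,4,0,2],
  [0,4,12,4,1],
  [10,12,4,0,4,12,1,4,6,8,0,8,10,6,4,0],
  [4,1,4,10,12,1,4,6,8,1,8,10,1,6,4,6,0,4,1,4,1,2],
  [1,4,0,4,10,12,0,4,6,8,0,8,10,0,6,4,6,1,4,0,4,2],
  [1,8,12,10,12,0,4,6,10,8,0,8,10,0,8,1,4,1,4,6,1,4,0,4],
  [8,12,10,12,0,4,6,4,1,8,4,0,4,6,1,4,1,4,1],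
  [4,1,4,10,12,8,10,8,0,8,10,4,0,6,8,1,8,0,4,0,4,6,1,4,0,4],
  [4,0,6,4,12,10,8,1,8,10,8,1,8,6,4,6]]
theorem c2_r0 : ∀ i < 12, c2.rowOK (chkW lk [0,1,2,3,4,5] c2_x) (0 + i) = true := by decide +kernel
theorem c2_r : ∀ i < c2.K, c2.rowOK (chkW lk [0,1,2,3,4,5] c2_x) i = true := of_zero (P := fun i => c2.rowOK (chkW lk [0,1,2,3,4,5] c2_x) i = true) (n := 12) (c2_r0)
theorem c2_f : lall c2.F (c2.fusOK (chkW lk [0,1,2,3,4,5] c2_x)) = true := by decide +kernel
theorem c2_low : c2.l ^ c2.K ≤ lowB C [(0, [0,2,4,6,8,18], [[4,6,12,18], [2,4,8,10,12,18], [0,20,22]]),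
  (1, [4,0,2,4,0,4,2,4], [[0], [2]]),
  (2, [2], [[0]]),
  (3, [0], [])] (c2_x.take c2.K) := by decide +kernel
theorem c2_grp : Grp c2 (C.grp gens) :=
  grp_of_ctx hC hlk (cb.2) (ws := c2_x) (fun w h => all_mem ((by decide +kernel : ∀ w ∈ c2_x, ∀ a ∈ w, a < 14) w h)) card (by decide) _ c2_r c2_f (by decide +kernel) c2_low
def c3_t : List (List (List ℕ)) := [[[],[1,3],[2],[3],[4]],
  [[],[4,4],[2,4],[3,4],[4]],
  [[],[],[],[3],[4]],
  [[],[],[],[],[4]],
  [[],[],[],[],[]]]
noncomputable def c3 : PC := ⟨5, 3, 3, 12, 165, 2, 37, 3, 1023, fun e => nth (nth c3_t [] (Nat.div e 5)) [] (Nat.mod e 5),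
  [(0,[1],[0,0,1,1,2,3,3]),
  (0,[4],[4]),
  (0,[3],[3,3,4]),
  (1,[2],[2,2,4,4]),
  (1,[1],[0,1,2,2,3,3,4]),
  (1,[4],[4,4]),
  (1,[3],[3,3,4,4]),
  (2,[2],[4]),
  (2,[0],[2,2,3,3,4,4]),
  (1,[0],[0,0,3]),
  (0,[2],[2,3,4]),
  (0,[0],[0])]⟩
def c3_A0 : List (List ℕ × List ℕ × ℕ) := [([2],[1,0],nat_lit 0x2000000000000000001000000000000000000000000001000000000000),
  ([3],[1,0],nat_lit 0x2000000000000000000000000000000000000000000001000000000000),
  ([3],[2,1],nat_lit 0x1000000000000002000000000000000000000000000000000000000000),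
  ([2,2],[2,1],nat_lit 0x2000000000000000000000000000000000000000000000000000000000000000000000000),
  ([4],[1,0],nat_lit 0x2000000000000000000000000000000000000000000000000000000000),
  ([1],[0,0,0],nat_lit 0x1000000000000000000000000000000000000000000000000000000),
  ([1],[1,1,1],nat_lit 0x2000000000000000000000000000)]
theorem c3_hA0 : lall c3_A0 c3.relA = true := by decide +kernel
def c3_B0 : List (ℕ × List ℕ × List ℕ × ℕ) := [(0,[0,0,0],[1,1],nat_lit 0x2000002000000000000000002000000000000000002000000002002000002000002001000000001),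
  (0,[2,0],[0,2,1],nat_lit 0x1000002000000000000000000000000000001001000000000002000000000000001002000000000),
  (1,[3,4],[4,3,5],nat_lit 0x1000000000000000000000000000000001000000000000002001000000000001000002000000001000001000000),
  (1,[6,4],[4,6,5],nat_lit 0x1000000000000000000000000000000002000000000000001002000000000001002000000000001001000000000),
  (2,[7,8],[8,7],nat_lit 0x1000000000000001000000000000000000000000000000000001000000),
  (1,[3,3,3],[],nat_lit 0x1000000000000000000000000000000000002000000000000000000000000000000000000),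
  (1,[9,9,9],[],nat_lit 0x2000000000000000000000000000000000000000000000000000002),
  (0,[10,11],[11,10],nat_lit 0x2002000000000)]
theorem c3_hB0 : lall c3_B0 c3.relB = true := by decide +kernel
theorem c3_lin : Lin c3 (3 ^ 0) :=
  ⟨by decide +kernel, c3_A0, c3_B0, _,
  [0,
  0,
  0,
  nat_lit 0x1000,
  nat_lit 0x1000000000000000000000000000000000000000000000000000000000000000000000000000000000000000000],
  [],
  [[nat_lit 0x1854c6,0,nat_lit 0x56859,nat_lit 0x48fc1e,87],
  [nat_lit 0xbc7463,nat_lit 0x5b85f,nat_lit 0x49e50b,729],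
  [nat_lit 0x81c0c,5,90],
  [486,81],
  [27]],
  c3_hA0, c3_hB0, rfl, by decide +kernel, by decide +kernel, by decide +kernel, by decide +kernel⟩
def c3_x : List Word := [[8,0,8,1,8,12,10,12,4,0,8,10,0,8,1,8,0,4,6,0,4,0,4,1,2],
  [1,4,1,4,12,4,0,6,10,8,1,8,10,6,4,0,8,4,6,1,4],
  [8,0,8,1,8,12,10,12,8,6,10,8,0,8,10,0,8,4,1,6,4,6,4,1],
  [12,6,12,1,4,6,8,0,8,10,8,1,8,0,4,1,4,6,1,4,1,2],
  [12,6,12,8,10,8,0,8,10,6,8,0,8,1,4,1,4,6,4,0,4,1,2],
  [0,4,8,1,6,4,10,12,4,0,6,8,1,8,10,4,8,0,8,0,4,1,4,6,2],
  [0,4,8,1,6,4,10,12,4,0,6,10,8,1,8,10,4,8,0,8,1,4,6,4,0,4,0,2],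
  [0,4,8,1,6,4,10,12,4,1,8,10,6,4,1,8,1,6,4,6,0]]
theorem c3_r0 : ∀ i < 5, c3.rowOK (chkW lk [0,1,2,3,4,5] c3_x) (0 + i) = true := by decide +kernel
theorem c3_r : ∀ i < c3.K, c3.rowOK (chkW lk [0,1,2,3,4,5] c3_x) i = true := of_zero (P := fun i => c3.rowOK (chkW lk [0,1,2,3,4,5] c3_x) i = true) (n := 5) (c3_r0)
theorem c3_f : lall c3.F (c3.fusOK (chkW lk [0,1,2,3,4,5] c3_x)) = true := by decide +kernel
theorem c3_low : c3.l ^ c3.K ≤ lowB C [(0, [0,2,0,2], [[4,4,6,8], [0,8], [4,6]]),
  (1, [2,4,2,4], [[0]]),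
  (3, [0,0], [])] (c3_x.take c3.K) := by decide +kernel
theorem c3_grp : Grp c3 (C.grp gens) :=
  grp_of_ctx hC hlk (cb.2) (ws := c3_x) (fun w h => all_mem ((by decide +kernel : ∀ w ∈ c3_x, ∀ a ∈ w, a < 14) w h)) card (by decide) _ c3_r c3_f (by decide +kernel) c3_low
def c5_t : List (List (List ℕ)) := [[[],[1]],
  [[],[]]]
noncomputable def c5 : PC := ⟨2, 5, 5, 12, 65, 2, 8, 7, 511, fun e => nth (nth c5_t [] (Nat.div e 2)) [] (Nat.mod e 2),
  [(0,[0],[0,0,1,1,1]),
  (1,[1],[0,1,1]),
  (1,[0],[0,0,0,1,1]),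
  (0,[1],[1,1,1])]⟩
def c5_A0 : List (List ℕ × List ℕ × ℕ) := []
theorem c5_hA0 : lall c5_A0 c5.relA = true := by decide +kernel
def c5_B0 : List (ℕ × List ℕ × List ℕ × ℕ) := [(0,[0,0,0,0,0],[],nat_lit 0x2000000004),
  (1,[1,2],[2,1],nat_lit 0x2000),
  (0,[3,3,3,3,3],[],nat_lit 0x3000000000)]
theorem c5_hB0 : lall c5_B0 c5.relB = true := by decide +kernel
theorem c5_lin : Lin c5 (5 ^ 0) :=
  ⟨by decide +kernel, c5_A0, c5_B0, _,
  [0,
  0],
  [],
  [[26,10],
  [75]],
  c5_hA0, c5_hB0, rfl, by decide +kernel, by decide +kernel, by decide +kernel, by decide +kernel⟩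
def c5_x : List Word := [[12,4,0,4,12,8,0,8,10,8,1,8,10,6,4,1,8,4,0,6,4,6,1,4,0,2],
  [4,6,10,12,10,12,4,8,0,8,10,4,8,0,8,4,1,4,6,0,4,0,4,0,2],
  [4,0,8,0,6,4,10,12,8,10,0,8,1,8,4,1,6,4,6,0,2],
  [1,12,4,1,4,12,10,8,1,8,10,1,4,6,8,1,8,4,6,0,4,0,2]]
theorem c5_r0 : ∀ i < 2, c5.rowOK (chkW lk [0,1,2,3,4,5] c5_x) (0 + i) = true := by decide +kernel
theorem c5_r : ∀ i < c5.K, c5.rowOK (chkW lk [0,1,2,3,4,5] c5_x) i = true := of_zero (P := fun i => c5.rowOK (chkW lk [0,1,2,3,4,5] c5_x) i = true) (n := 2) (c5_r0)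
theorem c5_f : lall c5.F (c5.fusOK (chkW lk [0,1,2,3,4,5] c5_x)) = true := by decide +kernel
theorem c5_low : c5.l ^ c5.K ≤ lowB C [(0, [0,2,0,2,0,2,0,2], [])] (c5_x.take c5.K) := by decide +kernel
theorem c5_grp : Grp c5 (C.grp gens) :=
  grp_of_ctx hC hlk (cb.2) (ws := c5_x) (fun w h => all_mem ((by decide +kernel : ∀ w ∈ c5_x, ∀ a ∈ w, a < 14) w h)) card (by decide) _ c5_r c5_f (by decide +kernel) c5_low
section
open CA.CMat CA.CLink CA.CLink2 CA.CLink3 CA.H28Mat Matrix
def ms : List (Mat × Mat) := [([[0,1,1,0,1,1,1,0],[1,0,1,0,1,1,1,0],[1,1,0,0,1,1,1,0],[0,0,0,0,1,1,1,1],[1,1,1,1,1,0,0,1],[1,1,1,1,0,1,0,1],[1,1,1,1,0,0,1,1],[0,0,0,1,1,1,1,0]], [[1,0,0,1,1,1,1,1],[0,1,0,1,1,1,1,1],[0,0,1,1,1,1,1,1],[1,1,1,0,0,0,0,1],[1,1,1,0,0,1,1,0],[1,1,1,0,1,0,1,0],[1,1,1,0,1,1,0,0],[1,1,1,1,0,0,0,0]]),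
  ([[1,0,0,0,0,0,0,0],[0,1,0,0,0,0,0,0],[0,0,1,0,0,0,0,0],[0,1,0,1,0,0,0,0],[0,1,0,0,1,0,0,0],[1,1,1,1,0,1,0,1],[0,1,0,0,0,0,1,0],[0,1,0,0,0,0,0,1]], [[1,0,0,0,0,0,0,0],[0,1,0,0,0,0,0,0],[0,0,1,0,0,0,0,0],[0,1,0,1,0,0,0,0],[0,1,0,0,1,0,0,0],[1,1,1,1,0,1,0,1],[0,1,0,0,0,0,1,0],[0,1,0,0,0,0,0,1]]),
  ([[1,0,0,0,0,0,0,0],[0,1,0,0,0,0,0,0],[0,1,1,0,0,0,0,0],[0,1,0,1,0,0,0,0],[0,0,0,0,1,0,0,0],[0,1,0,1,0,1,1,1],[0,0,0,0,0,0,1,0],[0,1,0,0,0,0,0,1]], [[1,0,0,0,0,0,0,0],[0,1,0,0,0,0,0,0],[0,1,1,0,0,0,0,0],[0,1,0,1,0,0,0,0],[0,0,0,0,1,0,0,0],[0,1,0,1,0,1,1,1],[0,0,0,0,0,0,1,0],[0,1,0,0,0,0,0,1]]),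
  ([[1,0,0,0,0,0,0,0],[0,1,0,0,0,0,0,0],[0,0,1,0,0,0,0,0],[1,1,0,1,0,0,0,0],[1,0,1,1,1,0,0,1],[0,1,1,1,0,1,0,1],[1,1,0,0,0,0,1,0],[1,1,0,0,0,0,0,1]], [[1,0,0,0,0,0,0,0],[0,1,0,0,0,0,0,0],[0,0,1,0,0,0,0,0],[1,1,0,1,0,0,0,0],[1,0,1,1,1,0,0,1],[0,1,1,1,0,1,0,1],[1,1,0,0,0,0,1,0],[1,1,0,0,0,0,0,1]]),
  ([[1,1,0,0,0,0,0,0],[0,1,0,0,0,0,0,0],[0,1,1,0,0,0,0,0],[0,1,0,1,0,0,0,0],[0,0,0,0,1,0,0,0],[0,1,0,1,1,1,1,1],[0,0,0,0,0,0,1,0],[0,1,0,0,0,0,0,1]], [[1,1,0,0,0,0,0,0],[0,1,0,0,0,0,0,0],[0,1,1,0,0,0,0,0],[0,1,0,1,0,0,0,0],[0,0,0,0,1,0,0,0],[0,1,0,1,1,1,1,1],[0,0,0,0,0,0,1,0],[0,1,0,0,0,0,0,1]]),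
  ([[1,0,0,0,0,0,0,0],[0,1,0,0,0,0,0,0],[0,0,1,0,0,0,0,0],[1,1,0,1,0,0,0,0],[1,1,0,1,1,0,0,1],[1,1,0,1,0,1,0,1],[0,0,0,0,0,0,1,0],[1,1,0,0,0,0,0,1]], [[1,0,0,0,0,0,0,0],[0,1,0,0,0,0,0,0],[0,0,1,0,0,0,0,0],[1,1,0,1,0,0,0,0],[1,1,0,1,1,0,0,1],[1,1,0,1,0,1,0,1],[0,0,0,0,0,0,1,0],[1,1,0,0,0,0,0,1]]),
  ([[0,0,0,1,0,0,1,0],[0,1,0,0,0,0,0,0],[0,0,0,1,1,0,0,0],[0,0,0,1,0,0,0,0],[0,0,1,1,0,0,0,0],[0,0,0,0,0,1,0,0],[1,0,0,1,0,0,0,0],[1,0,1,0,1,0,1,1]], [[0,0,0,1,0,0,1,0],[0,1,0,0,0,0,0,0],[0,0,0,1,1,0,0,0],[0,0,0,1,0,0,0,0],[0,0,1,1,0,0,0,0],[0,0,0,0,0,1,0,0],[1,0,0,1,0,0,0,0],[1,0,1,0,1,0,1,1]])]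
def L : CA.H22Link.Lk := ⟨ms, [[nat_lit 0xd5baef2c10cf634447366c79a2f6f8],
 [nat_lit 0xaf8ebde5812435c9cf5cf3d73529c0],
 [nat_lit 0x35abfa127d4cd8f9a14d84b7c2eba6],
 [nat_lit 0x6ce16cc78b506e56528fd4d67ad59d],
 [nat_lit 0x23764f69379720b1e0e73c9bf712dc],
 [nat_lit 0x876d045cc5fc7ff09d3c1bc48f1eac],
 [nat_lit 0x15b5d4f3e65e832f6e6a29f249a1ae],
 [nat_lit 0xfc7874993a156ab61ecdea919d6c63]],
  [17,72,108,102,97,8,32,15], 85, [[0,1,0,1,0,0,0,1],[0,1,0,1,0,1,0,0],[1,0,0,0,1,1,1,0],[1,0,1,1,1,1,1,0],[1,1,0,1,0,1,1,1],[0,0,1,1,0,1,1,0],[0,1,1,0,0,0,0,0],[1,1,0,0,0,1,1,0]], [1,1,1,1,1,1,1,1], [0,8,10,12,0,4,10,8,0,0,8,4,10,12], [[8,12,6,12,0,13,7,13,9], [8,12,6,12,2,13,7,13,9], [8,12,6,12,4,13,7,13,9], [8,12,6,12,6,13,7,13,9], [8,12,6,12,8,13,7,13,9], [8,12,6,12,10,13,7,13,9]]⟩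
theorem hL : L.ok (arP 2) 8 C 7 [0,1,2,3,4,5] = true := by decide +kernel
theorem hact : allR 7 (actI (arP 2) 8 C L.SL (full C.n) (nz (arP 2)) (lets L.ms) (sg 7)) = true := by decide +kernel
def T : Mat := [[0,0,0,0,1,0,0,0],[0,0,0,0,0,1,0,0],[0,0,0,0,0,0,1,0],[0,0,0,0,0,0,0,1],[0,0,0,0,0,0,0,0],[0,0,0,0,0,0,0,0],[0,0,0,0,0,0,0,0],[0,0,0,0,0,0,0,0]]
theorem hinv : invOK (arP 2) 8 ms = true := by decide +kernel
theorem iso {F : Type u} [Field F] [Fintype F] (hF : Fintype.card F = 2) :
    Nonempty (C.grp gens ≃* POmega F (quadFormPlus 4 F)) := by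
  have hA := (soundF Nat.prime_two hF).1
  let e : Fin 4 ⊕ Fin 4 ≃ Fin 8 := finSumFinEquiv
  have hT : mval (fun a : ℕ => (a : F)) e T = fromBlocks 0 1 0 0 := by
    ext i j
    rcases i with i | i <;> rcases j with j | j <;> fin_cases i <;> fin_cases j <;>
      simp <;> first | exact hA.zero | exact hA.one
  have hρ : Function.Injective ((Units.coeHom _).comp (isometryGroup F (quadFormPlus 4 F)).subtype) :=
    Units.val_injective.comp Subtype.val_injective
  refine CA.H22Link.iso_quot (MonoidHom.comp _ (commutator _).subtype) e hA (hρ.comp Subtype.val_injective) hC hL hact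
    (CA.H22Link.in_comm _ e hA hρ hinv (CA.H22Link.in_O e hA (fun v => hT ▸ CA.CBlk.plus_eq v) hinv (by decide +kernel))
      ab (by decide +kernel) (by decide +kernel)) (by decide) cb ?_
  have h := Cfsg.Agent.S0293.result hF 4 le_rfl
  simp only [Finset.prod_range_succ, Finset.prod_range_zero, Nat.add_one_sub_one] at h
  norm_num at h
  exact h
end
end

/-- Exceptional Schur multiplier: over the field with 2 elements, PΩ⁺₈ (for the form Σ xᵢyᵢ) has Schur multiplier a four-group, the product of two cyclic groups of order 2 (here the Schur multiplier is described through stem extensions, as in the definitions). -/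
theorem result {F : Type*} [Field F] [Fintype F] (hF : Fintype.card F = 2) : Cfsg.HasSchurMultiplier (Cfsg.POmega F (Cfsg.quadFormPlus 4 F)) (Multiplicative (ZMod 2 × ZMod 2)) := by
  obtain ⟨e⟩ := iso hF
  exact congr_left (UW_st.two (bd_all card [2, 3, 5] [7] (by decide +kernel) (by norm_num)
    (bd3 (bd_of c2_lin c2_grp) (bd_of c3_lin c3_grp) (bd_of c5_lin c5_grp)))) e

end Cfsg.Agent.S2098
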