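import Cfsg.Statements.S2135
import Cfsg.Agent.Lib.Spor.J3CG
import Cfsg.Agent.S1623

set_option autoImplicit false
open Cfsg

namespace Cfsg.Agent.S2135

open CA.NatBits CA.OrbBfs CA.CGroup CA.CGConstr CA.CGParts CA.CGCert CA.CGDec CA.H28CG CA.H28Mat CA.CGSim CA.CGNorm
open CA.J3CG CA.CGIso MulAction Cfsg.Spor Subgroup
open scoped Pointwise

set_option maxRecDepth 100000
set_option exponentiation.threshold 5000

section
variable {D : Type*} [Group D] {G : CG D} [Finite D]

/-- commuting involutions generate at most a four-group -/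
theorem rank_two (hi : ∀ {c d : ℕ} {x : D}, G.R c x → G.R d x → c = d) {l : List ℕ} (hl : G.Ok l) {c : ℕ} {z : D}
    (hz : G.R c z) (h : orb G.mul l G.one (fun t _ => t.all fun x _ => !(Nat.beq (G.mul x x) G.one) || Nat.beq x G.one ||
      Nat.beq x c || force (G.mul x c) fun x' => t.all fun y _ => Nat.beq y G.one || Nat.beq y c || Nat.beq y x ||
        Nat.beq y x' || !(Nat.beq (G.mul y y) G.one) || !(Nat.beq (G.mul x y) (G.mul y x))) = true) (E : Set D)
    (hE : ∀ x ∈ E, x ∈ G.gen l ∧ x * x = 1 ∧ ∀ y ∈ E, x * y = y * x) : E.ncard ≤ 4 := by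
  obtain ⟨t, n, h1, -, -, h2⟩ := elts_spec hi hl h
  have key : ∃ x, E ⊆ {1, z, x, x * z} := by
    by_cases h3 : ∃ x ∈ E, x ≠ 1 ∧ x ≠ z
    · obtain ⟨x, hx, h4, h5⟩ := h3
      obtain ⟨a, -, r, h6⟩ := h2 _ h1 x (hE x hx).1
      simp only [Bool.or_eq_true, beq_iff, force_eq, Bool.not_eq_true'] at h6
      rcases h6 with ((h6 | h6) | h6) | h6
      · rw [hi (G.R_mul r r) ((hE x hx).2.1 ▸ G.R_one), Nat.beq_refl] at h6; cases h6
      · exact (h4 (G.R_fun r (h6 ▸ G.R_one))).elim
      · exact (h5 (G.R_fun r (h6 ▸ hz))).elim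
      refine ⟨x, fun y hy => ?_⟩
      obtain ⟨b, -, r', h7⟩ := h2 _ h6 y (hE y hy).1
      simp only [Bool.or_eq_true, beq_iff, Bool.not_eq_true'] at h7
      rcases h7 with ((((h7 | h7) | h7) | h7) | h7) | h7
      · exact .inl (G.R_fun r' (h7 ▸ G.R_one))
      · exact .inr (.inl (G.R_fun r' (h7 ▸ hz)))
      · exact .inr (.inr (.inl (G.R_fun r' (h7 ▸ r))))
      · exact .inr (.inr (.inr (G.R_fun r' (h7 ▸ G.R_mul r hz))))
      · rw [hi (G.R_mul r' r') ((hE y hy).2.1 ▸ G.R_one), Nat.beq_refl] at h7; cases h7
      · rw [hi (G.R_mul r r') ((hE x hx).2.2 y hy ▸ G.R_mul r' r), Nat.beq_refl] at h7; cases h7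
    · refine ⟨1, fun y hy => ?_⟩
      by_cases h4 : y = 1
      · exact .inl h4
      · exact .inr (.inl (not_not.1 fun h5 => h3 ⟨y, hy, h4, h5⟩))
  obtain ⟨x, hx⟩ := key
  refine (Set.ncard_le_ncard hx).trans ((Set.ncard_insert_le _ _).trans ?_)
  have h3 := Set.ncard_insert_le z {x, x * z}
  have h4 := Set.ncard_insert_le x {x * z}
  rw [Set.ncard_singleton] at h4
  omega

theorem disj (hi : ∀ {c d : ℕ} {x : D}, G.R c x → G.R d x → c = d) {l m : List ℕ} (hl : G.Ok l) (hm : G.Ok m) {N : ℕ}
    (h : orb G.mul l G.one (fun t _ => orb G.mul m G.one fun u n => Nat.beq n N && u.all fun c _ =>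
      Nat.beq c G.one || !(t.mem c)) = true) : Nat.card (G.gen m) = N ∧ Disjoint (G.gen l) (G.gen m) := by
  obtain ⟨t, -, h1, -, h2, -⟩ := elts_spec hi hl h
  obtain ⟨u, n, h3, h4, -, h5⟩ := elts_spec hi hm h1
  rw [Bool.and_eq_true, beq_iff] at h3
  refine ⟨h4.trans h3.1, disjoint_def.2 fun {x} hx hx' => ?_⟩
  obtain ⟨c, -, r, h6⟩ := h5 _ h3.2 x hx'
  rw [(h2 c x r).1 hx, Bool.not_true, Bool.or_false, beq_iff] at h6
  exact G.R_fun r (h6 ▸ G.R_one)

omit [Finite D] in
theorem set_S {X : Type*} [MulAction D X] [DecidableEq X] (A : CAct G X) {K : ℕ} (hK : ∀ c x, A.S c x → c < 2 ^ K)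
    {l : List ℕ} (h1 : l.Pairwise (· < ·)) (h2 : ∀ c ∈ l, ∃ x, A.S c x) : ∃ s, (setAct A K l.length hK).S (pack K l) s := by
  classical
  choose f hf using h2
  refine ⟨l.attach.toFinset.image fun c => f c.1 c.2, l, rfl, h1, rfl, fun c hc => ⟨_, hf c hc⟩, fun x => ?_⟩
  simp only [Finset.mem_image, List.mem_toFinset, List.mem_attach, true_and, Subtype.exists]
  exact ⟨fun ⟨c, hc, e⟩ => ⟨c, hc, e ▸ hf c hc⟩, fun ⟨c, hc, e⟩ => ⟨c, hc, A.S_fun (hf c hc) e⟩⟩

theorem hom_of {X : Type*} [MulAction D X] [DecidableEq X] (A : CAct G X) {K : ℕ} (hK : ∀ c x, A.S c x → c < 2 ^ K)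
    {l m : List ℕ} (hl : G.Ok l) (hm : G.Ok m) (ls : List (List ℕ)) {n k N : ℕ} (hn : ls.length = n)
    (h1 : ∀ l ∈ ls, l.length = k ∧ l.Pairwise (· < ·) ∧ ∀ c ∈ l, ∃ x, A.S c x) (L : List (ℕ × List (List ℕ)))
    (h : (permOK (actSet A.act K k) G.mul G.inv G.one l (ls.map (pack K)) L N &&
      allL (ls.map (pack K)) fun c => allL m fun a => Nat.beq (actSet A.act K k a c) c) = true) :
    ∃ φ : G.gen l →* Equiv.Perm (Fin n), N ≤ Nat.card φ.range ∧ (G.gen m).subgroupOf _ ≤ φ.ker := by
  rw [Bool.and_eq_true] at h
  obtain ⟨φ, h3, h4⟩ := perm_range (setAct A K k hK) (ls.map (pack K)) ((List.length_map _).trans hn) (fun c hc => by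
    obtain ⟨l, hl, rfl⟩ := List.mem_map.1 hc
    obtain ⟨rfl, b, c⟩ := h1 l hl
    exact set_S A _ b c) hl rfl L N h.1
  exact ⟨φ, h3, fun g hg => (h4 g).2 fun c hc y hy => (CAct.in_stabilizer hm hy (allL_iff.1 h.2 c hc)).gen_le hg⟩

theorem shape {H Q A : Subgroup D} (hQ : Q ≤ H) (hA : A ≤ H) (h0 : Nat.card H = 1920) (h1 : Nat.card Q = 32)
    (h1' : Nat.card A = 60) (h2 : IsExtraspecial 2 Q) (h2' : Disjoint Q A)
    (hr : ∀ E : Set D, (∀ x ∈ E, x ∈ Q ∧ x * x = 1 ∧ ∀ y ∈ E, x * y = y * x) → E.ncard ≤ 4)
    (φ : H →* Equiv.Perm (Fin 5)) (h3 : 60 ≤ Nat.card φ.range) (h5 : Q.subgroupOf H ≤ φ.ker) :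
    ∃ φ : H →* alternatingGroup (Fin 5), Function.Surjective φ ∧ Nat.card φ.ker = 32 ∧ IsExtraspecial 2 φ.ker ∧
    (∀ E : Subgroup φ.ker, IsElementaryAbelian 2 E → Nat.card E ≤ 2 ^ 2) ∧ ∃ A, φ.ker.IsComplement' A := by
  have h6 := card_le_of_le h5
  have h7 := card_ker_mul φ
  rw [card_subgroupOf hQ, h1] at h6
  rw [h0] at h7
  have h8 : Nat.card φ.ker = 32 := by nlinarith
  have h9 : φ.range = alternatingGroup (Fin 5) := Equiv.Perm.eq_alternatingGroup_of_index_eq_two (by
    have := φ.range.index_mul_card
    rw [Nat.card_perm, Nat.card_fin, show Nat.card φ.range = 60 by rw [h8] at h7; omega] at this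
    norm_num [Nat.factorial] at this
    omega)
  have h10 := eq_of_le_of_card_ge h5 (by rw [h8, card_subgroupOf hQ, h1])
  refine ⟨φ.codRestrict _ fun g => h9 ▸ ⟨g, rfl⟩, fun ⟨a, ha⟩ => ?_, ?_⟩
  · obtain ⟨g, rfl⟩ : a ∈ φ.range := h9 ▸ ha
    exact ⟨g, rfl⟩
  rw [MonoidHom.ker_codRestrict]
  refine ⟨h8, h10 ▸ CA.Fus.extra_equiv (subgroupOfEquivOfLe hQ).symm h2, fun E hE => ?_,
    A.subgroupOf _, isComplement'_of_card_mul_and_disjoint (by rw [h8, card_subgroupOf hA, h1', h0])
      (h10 ▸ disjoint_def.2 fun {x} hx hx' => Subtype.ext (disjoint_def.1 h2' hx hx'))⟩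
  have := hr ((fun x : φ.ker => (x : D)) '' E) (by
    rintro _ ⟨x, hx, rfl⟩
    refine ⟨h10.ge x.2, ?_, ?_⟩
    · have := hE.2 x hx
      rw [sq] at this
      exact congrArg (fun x : φ.ker => (x : D)) this
    · rintro _ ⟨y, hy, rfl⟩
      exact congrArg (fun x : E => (x : D)) (hE.1.is_comm.comm ⟨x, hx⟩ ⟨y, hy⟩))
  exact (Set.ncard_image_of_injective _ (Subtype.val_injective.comp Subtype.val_injective)).ge.trans this

omit [Finite D] in
theorem lift {g z a : D} (hz : z * z = 1) (ha : z * a = a * z) (h3 : a ^ 3 = 1) (e : g * z * g⁻¹ = z * a) : a = 1 := by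
  have e5 : a * a = 1 := by
    calc _ = z * (z * a) * a := by rw [← mul_assoc, hz, one_mul]
      _ = z * (a * z) * a := by rw [ha]
      _ = z * a * (z * a) := by group
      _ = g * (z * z) * g⁻¹ := by rw [← e]; group
      _ = 1 := by rw [hz, mul_one, mul_inv_cancel]
  rwa [pow_succ, sq, e5, one_mul] at h3

theorem transport {Γ H B : Type*} [Group Γ] [Group H] [Group B] [Finite H] (e : Γ ≃* H)
    (h : ∃ φ : H →* B, Function.Surjective φ ∧ Nat.card φ.ker = 32 ∧ IsExtraspecial 2 φ.ker ∧
      (∀ E : Subgroup φ.ker, IsElementaryAbelian 2 E → Nat.card E ≤ 2 ^ 2) ∧ ∃ A, φ.ker.IsComplement' A) :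
    ∃ (Q : Subgroup Γ) (_ : Q.Normal), IsExtraspecial 2 Q ∧ Nat.card Q = 32 ∧
      (∀ E : Subgroup Q, IsElementaryAbelian 2 E → Nat.card E ≤ 2 ^ 2) ∧ (∃ A : Subgroup Γ, Q.IsComplement' A) ∧
      Nonempty (Γ ⧸ Q ≃* B) := by
  obtain ⟨φ, h1, h2, h3, h4, A, h5⟩ := h
  have : Finite Γ := Finite.of_equiv _ e.symm.toEquiv
  have e' : (φ.comp e.toMonoidHom).ker ≃* φ.ker := (e.subgroupMap _).trans (MulEquiv.subgroupCongr (by
    rw [← MonoidHom.comap_ker]; exact map_comap_eq_self_of_surjective e.surjective _))
  refine ⟨_, inferInstance, CA.Fus.extra_equiv e'.symm h3, (Nat.card_congr e'.toEquiv).trans h2, fun E hE => ?_,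
    ⟨A.comap e.toMonoidHom, ?_⟩, quot_of_surj _ (h1.comp e.surjective)⟩
  · have := hE.1
    rw [Nat.card_congr (e'.subgroupMap E).toEquiv]
    refine h4 _ ⟨inferInstance, ?_⟩
    rintro _ ⟨a, ha, rfl⟩
    rw [← map_pow, hE.2 a ha, map_one]
  · refine isComplement'_of_card_mul_and_disjoint ?_ (disjoint_def.2 fun {x} hx hx' =>
      e.map_eq_one_iff.1 (disjoint_def.1 h5.disjoint hx hx'))
    rw [Nat.card_congr e'.toEquiv, Nat.card_congr e.toEquiv, ← h5.card_mul_card]
    exact congrArg _ (Nat.card_congr ((e.subgroupMap _).trans (MulEquiv.subgroupCongr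
      (map_comap_eq_self_of_surjective e.surjective _))).toEquiv)

end

def lQ : List ℕ := [nat_lit 0x4000000100400000000002100000084210000000000000210002108400000000000008000080200000000000000000800000000080200000000001000000000100400004010000100000000000002108400084000000000000084210000008400000000002008000000200000000000000000000000020080200000000000000000040100400000000040000001000010000000021000000840008400000000840000021084000000000020000000802000000000000000000000000000800000000000000000000001084000002100400000000002000000080210000000000000010002100400000000000008400080210000000000000000800000000084010000000001000000002008400084010002100000000000002008400080000000000000084010000000400000000002008400000210000000000000000000000020084010000000000000000042008400000000800000020000010000000001000000040008400000000800000020084000000000001000000042000000000000000000000000000800000000000000000000001,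
  nat_lit 0x210002008400000010840008000004200000008420080000042008001084000040100021004010842000021004000040008421084200802100021000200802000401080210840008421000010840108020000200800008420080200002000000084000040100400004000002000021004000840008401084200802100020000200842000401000010800000420080000000008401000210040100000084000842100021000200002000020080000800000400004210800108420000000802108001084200040000001000200842008021000010840000420004010800008420004000000108000084000042100000084010002000021000210840100001080010800008020084000840108401080200000008000000010840100400000010000008420004200040100001084000042100421084000842000021000210040100021080010800008021084000800108401000010040000401080000000008421000210840100000084000802100020000200002000001080000040000400004210800108420000000802108001084200040000001,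
  nat_lit 0x400000000000000000000210000000000000000002100000000000000000000080000000000000000000000000020000000000000000000000040000000000010000000000000000000008400000000000000000084000000000000000000002000000000000000000000000000800000000000000000000001000000000000000000000000000000000010000000000000000000008400000000000000000084000000000000000000002000000000000000000000000000800000000000000000000001000000000000400000000000000000000210000000000000000002100000000000000000000080000000000000000000000000020000000000000000000000040000000000010000000000000000000008400000000000000000084000000000000000000002000000000000000000000000000800000000000000000000001000000000000000000000000000000000010000000000000000000008400000000000000000084000000000000000000002000000000000000000000000000800000000000000000000001,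
  nat_lit 0x84010802100020004000042008401080000042100021084210000008400000010802008000000200000008401000010042000021080010040008421004000800108421084000002100400004000042000000080210002100021000210842108421000010800008020080200800008401000010842000001080010040008420004000840108421084000042100001000010002000021080000840008400000210800008420084000000008001000200042000000084200842108021000000802000420080010800000001004010000100000004000042108400084000002100021084010840000421000010802008420000210800008401080000840000401084200040100020000210842000421004000800100420004000042100001084210042100021000010002100400000010800008400080210000008401080000040000421084200040100021000210802000421084000802100020000010002000001080000040008400000210840008421084000000008020000200802000000084200842108021000000802000420080010800000001]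
def lA : List ℕ := [nat_lit 0x80010800000401084010000108401000210842008400084200002100001000010002000400080000840008400080000800108000080010040100001084010000108421000010842000400004000000008420004210002100000084000802108021084210002000001080010802008000084210000000420080010042008000000210040108421004000802100420000010842100001080210040008420084210840000421084000042008020000210802000021000000840000021004210800000020000000802108001080010800000401084010000108401000210842008400084200002100001000010002000400080000840008400080000800108000080010040100001084010000108421000010842000400004000000008420004210002100000084000802108021084210002000001080010802008000084210000000420080010042008000000210040108421004000802100420000010842100001080210040008420084210840000421084000042008020000210802000021000000840000021004210800000020000000802108001,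
  nat_lit 0x84210000108401080200002008000084200840100400004000842000001000200002100020004000840000400000200802000420080000040000401004210040100021084200800108021004000002000401084010802100000004200802008000004010002100401004010002108400084000000108400080000042000000084200000100021080210002100000080000040108000080000000100021080210840008021084000800108020000010802000001000010000000400000000800008400000210000000001004210000108401080200002108000084200840100400004000802008000004010842100001004010002108420000010802008000000010000008401004010000008400084200802108021004000002000401080010802100000004000842008001000200842100020004010840000420084210800100000000010002008001084000000008400080000802108420080010000100001080200040108400080200000008400000000000100400000200000000000000000840000021084200800000020000000802000401]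
def ls : List (List ℕ) := [[0x1000000040000000, 0x20000000800000000, 0x21000000840000000], [0x108401004210040000000, 0x2000420080010800000000, 0x2108021084200840000000], [0x108421004210840000000, 0x2000401080010040000000, 0x2108020084200800000000], [0x108400004210000000000, 0x2000400080010000000000, 0x2108000084200000000000], [0x108420004210800000000, 0x2000421080010840000000, 0x2108001084200040000000]]

variable {F : Type*} [Field F] [Fintype F] (hF : Fintype.card F = 4) {ω : F} (hω : ω ^ 2 + ω + 1 = 0)

theorem cardH : Nat.card ((jG hF hω).gen lH) = 1920 ∧ Disjoint ((jG hF hω).gen [cs]) ((jG hF hω).gen lH) :=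
  disj (R_inj hF hω) (fun c hc => (inS hF hω).ok c (List.mem_singleton.1 hc ▸ List.mem_cons_self)) (inH hF hω).ok
    (by rw [jG_mul, jG_one]; decide +kernel)

theorem inQ : (jG hF hω).In lQ ((jG hF hω).gen lH) := jwords hF hω (inH hF hω).ok.in_gen
  [[3, 3, 1, 2, 2, 0], [3, 0, 3, 3, 1, 2], [2, 0, 3, 0, 3, 0], [1, 2, 2, 0]] (by decide +kernel)

theorem inA : (jG hF hω).In lA ((jG hF hω).gen lH) := jwords hF hω (inH hF hω).ok.in_gen [[2, 0, 3, 1, 2], [3, 0, 0, 2, 2, 1]] (by decide +kernel)

theorem hom : ∃ φ : (jG hF hω).gen lH →* Equiv.Perm (Fin 5), 60 ≤ Nat.card φ.range ∧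
    ((jG hF hω).gen lQ).subgroupOf _ ≤ φ.ker := by
  classical
  refine hom_of (jV hF hω) (fun _ _ h => h.1) (inH hF hω).ok (inQ hF hω).ok ls rfl (k := 3) (fun l hl => ?_)
    [(0x21000000840000000000000800000020000000000000001000000040000000, [[0, 0, 3, 1, 2], [0, 0, 3, 1]]), (0x2108021084200840000000080010802000420000000000108401004210040000000, [[3, 0, 3, 3], [1, 3]]), (0x2108020084200800000000080010042000401000000000108421004210840000000, [])] (by rw [jV_act, jG_mul, jG_inv, jG_one]; decide +kernel)
  obtain ⟨a, b, c⟩ := (by decide +kernel : ∀ l ∈ ls, l.length = 3 ∧ l.Pairwise (· < ·) ∧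
    allL l (redV 2 18 5) = true) l hl
  exact ⟨a, b, exS hF hω c⟩

theorem main {z : GL F9 F} (hz : (jG hF hω).R cz z) : ∃ φ : (jG hF hω).gen lH →* alternatingGroup (Fin 5),
    Function.Surjective φ ∧ Nat.card φ.ker = 32 ∧ IsExtraspecial 2 φ.ker ∧
    (∀ E : Subgroup φ.ker, IsElementaryAbelian 2 E → Nat.card E ≤ 2 ^ 2) ∧ ∃ A, φ.ker.IsComplement' A := by
  obtain ⟨h1, h2⟩ := S1623.ex_of (R_inj hF hω) (inQ hF hω).ok hz (N := 32) (by norm_num)
    (by rw [jG_mul, jG_one]; decide +kernel)
  obtain ⟨h3, h4⟩ := disj (R_inj hF hω) (inQ hF hω).ok (inA hF hω).ok (N := 60) (by rw [jG_mul, jG_one]; decide +kernel)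
  obtain ⟨φ, h5, h6⟩ := hom hF hω
  exact shape (inQ hF hω).gen_le (inA hF hω).gen_le (cardH hF hω).1 h1 h3 h2 h4
    (rank_two (R_inj hF hω) (inQ hF hω).ok hz (by rw [jG_mul, jG_one]; decide +kernel)) φ h5 h6

theorem noc (x : GL F9 F) (hx : x ∈ (jG hF hω).gen lH) (hc : ∀ y ∈ threeJ3 F ω, x * y = y * x) : x = 1 := by
  obtain ⟨s, -, hs⟩ := inS hF hω cs List.mem_cons_self
  obtain ⟨a, b⟩ := cs_cent hF hω hs
  have e : zpowers (⟨s, a⟩ : threeJ3 F ω) = center _ := by
    have : Fact (Nat.Prime (Nat.card (center (threeJ3 F ω)))) := ⟨by rw [card_center hF hω]; exact Nat.prime_three⟩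
    have h11 : zpowers (⟨s, a⟩ : threeJ3 F ω) ≤ center _ :=
      zpowers_le.2 (mem_center_iff.2 fun y => Subtype.ext (b y y.2).symm)
    rcases ((zpowers (⟨s, a⟩ : threeJ3 F ω)).subgroupOf (center _)).eq_bot_or_eq_top_of_prime_card with h | h
    · rw [subgroupOf_eq_bot, disjoint_iff, inf_eq_left.2 h11, zpowers_eq_bot] at h
      rw [show s = 1 from congrArg Subtype.val h] at hs
      have := R_inj hF hω hs (jG hF hω).R_one
      rw [jG_one] at this
      exact absurd this (by decide +kernel)
    · exact le_antisymm h11 (subgroupOf_eq_top.1 h)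
  obtain ⟨n, hn⟩ := e.ge (show ⟨x, (inH hF hω).gen_le hx⟩ ∈ center (threeJ3 F ω) from
    mem_center_iff.2 fun y => Subtype.ext (hc y y.2).symm)
  refine disjoint_def.1 (cardH hF hω).2 ?_ hx
  rw [gen_single hs]
  exact ⟨n, congrArg Subtype.val hn⟩

include hF hω in
theorem cube {x : threeJ3 F ω} (h : x ∈ center _) : x ^ 3 = 1 :=
  congrArg Subtype.val (card_center hF hω ▸ pow_card_eq_one' (x := (⟨x, h⟩ : center _)))

theorem cls {z : threeJ3 F ω} (hz : (jG hF hω).R cz z) (x : J3 F ω) (hx : orderOf x = 2) :
    IsConj (QuotientGroup.mk z) x := by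
  obtain ⟨y, rfl⟩ := QuotientGroup.mk_surjective x
  have h1 : (y : J3 F ω) ^ 2 = 1 := hx ▸ pow_orderOf_eq_one _
  have h2 := cube hF hω ((QuotientGroup.eq_one_iff (y ^ 2)).1 h1)
  have h3 : ((y ^ 3 : threeJ3 F ω) : J3 F ω) = y := by
    rw [QuotientGroup.mk_pow, pow_succ, h1, one_mul]
  obtain ⟨r, hr, h4⟩ := clsOK_spec (R_cj hF hω) (R_inj hF hω) (sgJ hF hω).in (inS hF hω)
    ((inP hF hω).mono (inH hF hω).gen_le) Nat.prime_two (a := 7) (j := 1) (m := 1177335) (sgJ hF hω).2.2 (by norm_num)
    (seeds := [([], cz), ([3, 1, 3, 1, 1, 1], cz), ([0, 0, 3, 0, 0, 0, 3, 0, 0, 3, 1], cz)]) (fun c hc => ⟨z, by simp at hc; exact hc ▸ hz⟩)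
    (by rw [jG_mul, jG_inv, jG_one]; decide +kernel) (y ^ 3).2 (fun e => by
      rw [← h3, show y ^ 3 = 1 from Subtype.ext e] at hx
      simp at hx) (by rw [← pow_mul, mul_comm, pow_mul] at h2; exact congrArg Subtype.val h2)
  obtain ⟨k, hk, h5⟩ := h4 z (by simp at hr; exact hr ▸ hz)
  rw [← h3]
  exact (QuotientGroup.mk' _).map_isConj (isConj_iff.2 ⟨⟨k, hk⟩, Subtype.ext h5⟩)

/-- For any field with 4 elements and any element ω of it with ω² + ω + 1 = 0: in the Janko group J₃ (the group generated by explicit 9 × 9 matrices over that field built from ω, taken modulo its centre) all involutions are conjugate, and the centraliser C of an involution has a normal extraspecial subgroup Q of order 32 containing no elementary abelian subgroup of order 8, complemented in C, with C / Q isomorphic to the alternating group of degree 5 (shape 2^{1+4}_-:A₅). -/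
theorem result {F : Type*} [Field F] [Fintype F] (hF : Fintype.card F = 4) (ω : F) (hω : ω ^ 2 + ω + 1 = 0) : (∀ x y : Cfsg.Spor.J3 F ω, orderOf x = 2 → orderOf y = 2 → IsConj x y) ∧ ∃ t : Cfsg.Spor.J3 F ω, orderOf t = 2 ∧ ∃ (Q : Subgroup ↥(Subgroup.centralizer ({t} : Set (Cfsg.Spor.J3 F ω)))) (_ : Q.Normal), Cfsg.IsExtraspecial 2 Q ∧ Nat.card Q = 32 ∧ (∀ E : Subgroup Q, Cfsg.IsElementaryAbelian 2 E → Nat.card E ≤ 2 ^ 2) ∧ (∃ H : Subgroup ↥(Subgroup.centralizer ({t} : Set (Cfsg.Spor.J3 F ω))), Q.IsComplement' H) ∧ Nonempty (↥(Subgroup.centralizer ({t} : Set (Cfsg.Spor.J3 F ω))) ⧸ Q ≃* ↥(alternatingGroup (Fin 5))) := by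
  obtain ⟨z, hK, hz⟩ := okz hF hω cz List.mem_cons_self
  have hH := inH hF hω
  have z2 : orderOf z = 2 := Fr.ordIs hP hz (by decide +kernel)
  have z3 : z * z = 1 := by have := pow_orderOf_eq_one z; rwa [z2, sq] at this
  have hc := cent_gen hH.ok hz (by rw [jG_mul]; decide +kernel)
  let f : (jG hF hω).gen lH →* J3 F ω := (QuotientGroup.mk' _).comp (inclusion hH.gen_le)
  have hf : Function.Injective f := (injective_iff_map_eq_one f).2 fun x hx => Subtype.ext (noc hF hω x x.2 fun y hy =>
    (congrArg Subtype.val (mem_center_iff.1 ((QuotientGroup.eq_one_iff _).1 hx) ⟨y, hy⟩)).symm)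
  have hr : f.range = centralizer {((⟨z, hK⟩ : threeJ3 F ω) : J3 F ω)} := by
    refine le_antisymm ?_ fun x hx => ?_
    · rintro _ ⟨x, rfl⟩
      exact mem_centralizer_singleton_iff.2 (congrArg QuotientGroup.mk
        (show inclusion hH.gen_le x * ⟨z, hK⟩ = ⟨z, hK⟩ * inclusion hH.gen_le x from Subtype.ext (hc x x.2).symm))
    obtain ⟨g, rfl⟩ := QuotientGroup.mk_surjective x
    have e1 : (⟨z, hK⟩ : threeJ3 F ω)⁻¹ * (g * ⟨z, hK⟩ * g⁻¹) ∈ center _ := QuotientGroup.eq.1 (by
      rw [QuotientGroup.mk_mul, QuotientGroup.mk_mul, mem_centralizer_singleton_iff.1 hx, QuotientGroup.mk_inv,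
        mul_inv_cancel_right])
    have e2 := cube hF hω e1
    generalize ha : (⟨z, hK⟩ : threeJ3 F ω)⁻¹ * (g * ⟨z, hK⟩ * g⁻¹) = a at e1 e2
    have e3 : (⟨z, hK⟩ : threeJ3 F ω) * ⟨z, hK⟩ = 1 := Subtype.ext z3
    have e4 := inv_mul_eq_iff_eq_mul.1 ha
    replace e2 := lift e3 (mem_center_iff.1 e1 _) e2 e4
    rw [e2, mul_one] at e4
    obtain ⟨b, hb, h7, h, hh, e⟩ := cent_eq hF hω hz g.2 (congrArg Subtype.val e4)
    refine ⟨⟨h, hh⟩, QuotientGroup.eq.2 (mem_center_iff.2 fun y => Subtype.ext ?_)⟩
    show y * (h⁻¹ * g) = h⁻¹ * g * y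
    rw [e, h7 h (hH.gen_le hh), inv_mul_cancel_left, h7 y y.2]
  refine ⟨fun x y hx hy => (cls hF hω (z := ⟨z, hK⟩) hz x hx).symm.trans (cls hF hω (z := ⟨z, hK⟩) hz y hy),
    ((⟨z, hK⟩ : threeJ3 F ω) : J3 F ω), ?_,
    transport ((MonoidHom.ofInjective hf).trans (MulEquiv.subgroupCongr hr)).symm (main hF hω hz)⟩
  refine orderOf_eq_prime (congrArg QuotientGroup.mk (show (⟨z, hK⟩ : threeJ3 F ω) ^ 2 = 1 from
    Subtype.ext ((sq z).trans z3))) fun h => ?_
  have := cube hF hω ((QuotientGroup.eq_one_iff _).1 h)
  have h7 := orderOf_dvd_of_pow_eq_one (show z ^ 3 = 1 from congrArg Subtype.val this)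
  rw [z2] at h7
  omega

end Cfsg.Agent.S2135
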