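import Cfsg.Statements.S2179
import Cfsg.Agent.Lib.Lie.H12Cent

set_option autoImplicit false
open Cfsg

namespace Cfsg.Agent.S2179

open CA.Chev CA.H12Inv2 CA.H12Cent

theorem closure_x_eq' {D : Lie.ChevalleyDatum} [Good D] {K : Type*} [Field K] (p : ℕ → Prop) (hp : ∀ r, p r → r < D.nroots)
    {q q' : ℕ → Prop} (h : ∀ r, p r ↔ q r ∧ q' r := by intro; rfl) :
    Subgroup.closure {g : GL D.Idx K | ∃ (r : ℕ) (t : K), q r ∧ q' r ∧ (g : Matrix D.Idx D.Idx K) = D.x K r t} =
      (adj D K).X {r | p r.val} := by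
  rw [← closure_x_eq p hp]; simp only [h, and_assoc]

/-- Centralizers of the two remaining classes of involutions in the Chevalley group G of type F₄ over a finite field F of characteristic two (this problem's root numbering for type F₄, from the Chevalley data module: p₁, p₂ short, p₃, p₄ long with indices 33, 27, 25, 24 and negatives 14, 20, 22, 23; U generated by the positive root subgroups). For an element of G with matrix x_47(1)x_44(1) (highest root times highest short root): its centralizer in G is generated by U, X_{−p₂} and X_{−p₃}. For an element of G with matrix x_39(1)x_45(1) (roots (1,2,2,1) and (2,4,2,1), an orthogonal short/long pair): its centralizer in G is generated by X_{p₁}, X_{−p₁}, X_{p₄}, X_{−p₄} and the root subgroups of all positive roots other than p₂ (27), p₃ (25), p₁ + p₂ (34) and p₃ + p₄ (26). -/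
theorem result {F : Type*} [Field F] [Fintype F] [CharP F 2] (w v : GL Cfsg.Lie.chevF4.Idx F) (hw : (w : Matrix Cfsg.Lie.chevF4.Idx Cfsg.Lie.chevF4.Idx F) = Cfsg.Lie.chevF4.x F 47 1 * Cfsg.Lie.chevF4.x F 44 1) (hv : (v : Matrix Cfsg.Lie.chevF4.Idx Cfsg.Lie.chevF4.Idx F) = Cfsg.Lie.chevF4.x F 39 1 * Cfsg.Lie.chevF4.x F 45 1) :
    Cfsg.Lie.chevF4.group F ⊓ Subgroup.centralizer {w} = Cfsg.Lie.chevF4.posUnipotent F ⊔ Cfsg.Lie.chevF4.rootSubgroup F 20 ⊔ Cfsg.Lie.chevF4.rootSubgroup F 22 ∧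
    Cfsg.Lie.chevF4.group F ⊓ Subgroup.centralizer {v} = Cfsg.Lie.chevF4.rootSubgroup F 33 ⊔ Cfsg.Lie.chevF4.rootSubgroup F 14 ⊔ Cfsg.Lie.chevF4.rootSubgroup F 24 ⊔ Cfsg.Lie.chevF4.rootSubgroup F 23 ⊔
      Subgroup.closure {g : GL Cfsg.Lie.chevF4.Idx F | ∃ (r : ℕ) (c : F), Cfsg.Lie.chevF4.IsPosRoot r ∧ r ∉ [27, 25, 34, 26] ∧ (g : Matrix Cfsg.Lie.chevF4.Idx Cfsg.Lie.chevF4.Idx F) = Cfsg.Lie.chevF4.x F r c} := by
  rw [eq_ev [47, 44] (hw.trans (by simp)), eq_ev [39, 45] (hv.trans (by simp)), group_eq, posUnipotent_eq,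
    closure_x_eq' (fun r => Lie.chevF4.IsPosRoot r ∧ r ∉ [27, 25, 34, 26]) (fun r h => h.1.1),
    show {r : Rt Lie.chevF4 | Lie.chevF4.IsPosRoot r ∧ r.val ∉ [27, 25, 34, 26]} =
      RL _ ((List.range' 24 24).filter (· ∉ [27, 25, 34, 26])) by
      ext r; simp only [isPosRoot_iff, Pos, RL, Set.mem_ofPred_eq]; revert r; decide +kernel]
  simp only [root_eq (D := Lie.chevF4) (show 14 < 48 by decide), root_eq (D := Lie.chevF4) (show 20 < 48 by decide),
    root_eq (D := Lie.chevF4) (show 22 < 48 by decide), root_eq (D := Lie.chevF4) (show 23 < 48 by decide),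
    root_eq (D := Lie.chevF4) (show 33 < 48 by decide), root_eq (D := Lie.chevF4) (show 24 < 48 by decide), X_app,
    sup_assoc]
  exact ⟨cent_U _ (fun _ _ h => h) tab_F4 (F := [44]) (B := 2) (μ := [(47, 1), (44, 1)])
    (E := fun i => if i = 0 then [(44, 1)] else [(47, 1)]) (by decide +kernel) (by decide +kernel),
    cent_v _ fun _ _ h => h⟩

end Cfsg.Agent.S2179
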