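import Cfsg.Statements.S2384
import Cfsg.Agent.Lib.Lin.Rcf3

set_option autoImplicit false
open Cfsg

namespace Cfsg.Agent.S2384

open CA.CForm CA.CForm.Form CA.Rcf Polynomial in
/-- In `SL_n(q)`, `q` a power of the prime `p`, the number of conjugacy classes of elements of order prime to `p` (the semisimple classes) is `q^(n-1)`. -/
theorem result {F : Type*} [Field F] [Fintype F] {q : ℕ} (hq : Fintype.card F = q) (p : ℕ) [Fact p.Prime] [CharP F p] (n : ℕ) (hn : 1 ≤ n) :
    Nat.card {c : ConjClasses (Matrix.SpecialLinearGroup (Fin n) F) //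
      ∃ g : Matrix.SpecialLinearGroup (Fin n) F, ConjClasses.mk g = c ∧ (orderOf g).Coprime p} = q ^ (n - 1) := by
  obtain ⟨n, rfl⟩ := Nat.exists_eq_add_of_le' hn
  rw [card_ss_classes p ((glEquiv (ι := Fin (n + 1)) (F := F)).toMonoidHom.comp
    Matrix.SpecialLinearGroup.toGL)
    (glEquiv.injective.comp Matrix.SpecialLinearGroup.toGL_injective)
    (fun g h hg _ H => isConj_SL (isConj_iff_sim.1 H) fun a ha => hg.exists_commute_det (by simp) ha)
    (fun χ => (χ.Monic ∧ χ.natDegree = n + 1) ∧ χ.coeff 0 = (-1) ^ (n + 1))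
    fun χ => ⟨fun h => ?_, ?_⟩,
    card_monic_coeff_zero n (· = (-1) ^ (n + 1)), Nat.card_unique, one_mul,
    Nat.card_eq_fintype_card, hq, Nat.add_sub_cancel]
  · obtain ⟨g, hg⟩ := exists_ss_equiv (V := Fin (n + 1) → F) h.1.1 (by simpa using h.1.2)
      (by simp [h.2])
    obtain ⟨g, rfl⟩ := glEquiv.surjective g
    have := coeff_zero_charpoly (glEquiv g : Module.End F (Fin (n + 1) → F))
    rw [hg.2, h.2, coe_glEquiv, LinearMap.det_toLin'] at this
    obtain ⟨g, rfl⟩ := exists_toGL_eq (g := g) (by simpa using this.symm)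
    exact ⟨g, hg⟩
  · rintro ⟨g, -, rfl⟩
    refine ⟨⟨LinearMap.charpoly_monic _, by simp [LinearMap.charpoly_natDegree]⟩, ?_⟩
    rw [coeff_zero_charpoly]
    rw [MonoidHom.comp_apply, MulEquiv.coe_toMonoidHom, coe_glEquiv, LinearMap.det_toLin']
    simp

end Cfsg.Agent.S2384
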