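import Cfsg.Statements.S2479
import Cfsg.Agent.Lib.Lin.ClsLin
import Cfsg.Agent.S2384

set_option autoImplicit false
open Cfsg

namespace Cfsg.Agent.S2479

open CA.CForm CA.CForm.Form CA.Rcf Module Polynomial in
/-- The number of conjugacy classes of SL(n,q): for F a finite field with q elements, the number k of conjugacy classes of SL(n,F) satisfies q^(n−1) < k and k ≤ (5/2)·q^(n−1) for n ≥ 2, and k ≤ q^(n−1) + 3q^(n−2) for n ≥ 3. -/
theorem result {F : Type*} [Field F] [Fintype F] (n : ℕ) (hn : 2 ≤ n) :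
    Fintype.card F ^ (n - 1) < Nat.card (ConjClasses (Matrix.SpecialLinearGroup (Fin n) F)) ∧ 2 * Nat.card (ConjClasses (Matrix.SpecialLinearGroup (Fin n) F)) ≤ 5 * Fintype.card F ^ (n - 1) ∧
      (3 ≤ n → Nat.card (ConjClasses (Matrix.SpecialLinearGroup (Fin n) F)) ≤ Fintype.card F ^ (n - 1) + 3 * Fintype.card F ^ (n - 2)) := by
  obtain ⟨p, hp⟩ := CharP.exists F
  have := Fact.mk (CharP.char_is_prime F p)
  have h := card_fix_SL_le (F := F) (n := n) (by omega) one_ne_zero one_ne_zero (fun _ _ => one_dvd _)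
    (fun _ => True) (fun _ _ => by rw [one_smul]; exact Sim.refl _) rfl
  rw [← card_classes_eq_subtype, mul_one, Nat.card_eq_fintype_card (α := F)] at h
  refine ⟨?_, h.2.2.2, h.2.2.1⟩
  obtain ⟨n, rfl⟩ := Nat.exists_eq_add_of_le' hn
  let g : Matrix.SpecialLinearGroup (Fin (n + 2)) F :=
    ⟨Matrix.transvection 0 1 1, Matrix.det_transvection_of_ne _ _ zero_ne_one _⟩
  have h1 : ∀ k : ℕ, (g ^ k).1 = Matrix.transvection 0 1 (k : F) := fun k => by
    induction k with
    | zero => simp
    | succ k ih =>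
      rw [pow_succ, Matrix.SpecialLinearGroup.coe_mul, ih]; push_cast
      exact Matrix.transvection_mul_transvection_same _ _ zero_ne_one _ _
  have h2 : orderOf g = p := orderOf_eq_prime (Subtype.ext (by simp [h1])) fun H => by
    simpa [g, Matrix.transvection] using congrArg (·.1 0 1) H
  rw [← S2384.result (F := F) rfl p (n + 2) (by omega)]
  refine Finite.card_subtype_lt (x := ConjClasses.mk g) fun ⟨a, h3, h4⟩ => ?_
  obtain ⟨c, hc⟩ := ConjClasses.mk_eq_mk_iff_isConj.1 h3
  rw [hc.orderOf_eq, h2, Nat.coprime_self] at h4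
  exact this.out.ne_one h4

end Cfsg.Agent.S2479
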