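import Cfsg.Statements.S2480
import Cfsg.Agent.Lib.Lin.SLnCard
import Cfsg.Agent.S2479

set_option autoImplicit false
open Cfsg

namespace Cfsg.Agent.S2480

theorem sum_le {ι : Type*} {s : Finset ι} {f : ι → ℕ} {B : ℕ} (h : ∀ x ∈ s, s.card * f x ≤ B) :
    ∑ x ∈ s, f x ≤ B :=
  (Finset.sum_le_card_nsmul s f (B / s.card) fun x hx => (Nat.le_div_iff_mul_le
    (Finset.card_pos.2 ⟨x, hx⟩)).2 (by rw [mul_comm]; exact h x hx)).trans (Nat.mul_div_le _ _)

theorem num {q n s d k : ℕ} (hq : 2 ≤ q) (hs : 2 ≤ s) (h3 : 3 ≤ n * s) (hd : d ≤ n * s - 1)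
    (hd' : d ≤ q - 2) (h1 : n = 1 → k ≤ 1) (h2 : 2 * k ≤ 5 * q ^ (n - 1)) :
    d * k ≤ 2 * q ^ (n * s - 2) := by
  obtain rfl | rfl | H : n = 0 ∨ n = 1 ∨ 2 ≤ n := by omega
  · omega
  · have := Nat.le_self_pow (show 1 * s - 2 ≠ 0 by omega) q
    have := Nat.mul_le_mul_left d (h1 rfl)
    omega
  by_cases h4 : n * s = 4
  · obtain rfl : n = 2 := by nlinarith
    rw [h4] at hd ⊢
    have : 5 * d ≤ 4 * q := by omega
    norm_num at h2 ⊢
    nlinarith
  · have h5 : n - 1 + 2 ≤ n * s - 2 := by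
      have : n * 2 ≤ n * s := Nat.mul_le_mul_left _ hs
      omega
    have h6 := Nat.pow_le_pow_right (show 0 < q by omega) h5
    have h7 : d ≤ q := by omega
    rw [pow_add] at h6
    have h8 : 5 * d ≤ 4 * q ^ 2 := by nlinarith
    nlinarith [Nat.mul_le_mul h8 h2]

open CA.CForm CA.CForm.Form CA.Rcf Module Polynomial in
/-- The number of conjugacy classes of PSL(n,q): for F a finite field with q elements, n ≥ 2 and d = gcd(n, q − 1), the number k of conjugacy classes of PSL(n,F) satisfies q^(n−1) ≤ d·k ≤ q^(n−1) + 5q^(n−2). -/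
theorem result {F : Type*} [Field F] [Fintype F] (n : ℕ) (hn : 2 ≤ n) :
    Fintype.card F ^ (n - 1) ≤ Nat.gcd n (Fintype.card F - 1) * Nat.card (ConjClasses (Matrix.ProjectiveSpecialLinearGroup (Fin n) F)) ∧
      Nat.gcd n (Fintype.card F - 1) * Nat.card (ConjClasses (Matrix.ProjectiveSpecialLinearGroup (Fin n) F)) ≤ Fintype.card F ^ (n - 1) + 5 * Fintype.card F ^ (n - 2) := by
  classical
  have : Nonempty (Fin n) := ⟨⟨0, by omega⟩⟩
  let G := Matrix.SpecialLinearGroup (Fin n) F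
  have := Fintype.ofFinite (Subgroup.center G)
  have hd : Nat.card (Subgroup.center G) = n.gcd (Fintype.card F - 1) := by
    rw [CA.SLnCard.card_center_SL, Fintype.card_fin, Nat.card_eq_fintype_card]
  have hq : 2 ≤ Fintype.card F := Fintype.one_lt_card
  have h1 := card_classes_quot_center (G := G)
  rw [← Finset.add_sum_erase _ _ (Finset.mem_univ 1), hd] at h1
  simp only [OneMemClass.coe_one, one_mul, IsConj.refl] at h1
  rw [← card_classes_eq_subtype] at h1
  have h2 := S2479.result (F := F) n hn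
  change _ ≤ _ * Nat.card (ConjClasses (G ⧸ Subgroup.center G)) ∧
    _ * Nat.card (ConjClasses (G ⧸ Subgroup.center G)) ≤ _
  rw [h1]
  refine ⟨h2.1.le.trans (Nat.le_add_right _ _), ?_⟩
  have h3 : ∀ z ∈ Finset.univ.erase (1 : Subgroup.center G), ∃ n' s, n = n' * s ∧ 2 ≤ s ∧ ∀ k,
      k = Nat.card {c : ConjClasses G // ∃ g, ConjClasses.mk g = c ∧ IsConj g (z * g)} →
      (n' = 1 → k ≤ 1) ∧ 2 * k ≤ 5 * Fintype.card F ^ (n' - 1) := fun z hz => by
    obtain ⟨r, h4, h5⟩ := Matrix.SpecialLinearGroup.mem_center_iff.1 z.2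
    rw [Fintype.card_fin] at h4
    obtain ⟨n', h6⟩ := orderOf_dvd_of_pow_eq_one h4
    have h7 : orderOf r ≠ 0 := fun H => by rw [H] at h6; omega
    have h8 : orderOf r ≠ 1 := fun H => (Finset.mem_erase.1 hz).1 (Subtype.ext (Subtype.ext (by
      rw [← h5, orderOf_eq_one_iff.1 H, map_one]; rfl)))
    refine ⟨n', orderOf r, by rw [mul_comm]; exact h6, by omega, fun k hk => ?_⟩
    have h9 : r ≠ 0 := fun H => by rw [H, zero_pow (by omega)] at h4; exact zero_ne_one h4
    have h10 := fun k => orderOf_dvd_of_pow_eq_one (x := r) (n := k)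
    generalize orderOf r = s at h6 h7 h10
    rw [mul_comm] at h6
    subst h6
    have := card_fix_SL_le (n := n') (fun H => by rw [H] at hn; omega) h7 h9 h10 _ (fun g hg => by
      obtain ⟨c, hc⟩ := isConj_iff.1 hg
      refine ⟨Matrix.toLin'OfInv (M := c⁻¹.1) (M' := c.1) (congrArg (·.1) (inv_mul_cancel c))
        (congrArg (·.1) (mul_inv_cancel c)), fun v => ?_⟩
      have : (c.1 * g.1).mulVec v = (z.1.1 * g.1 * c.1).mulVec v :=
        congrArg (fun x => x.1.mulVec v) (mul_inv_eq_iff_eq_mul.1 hc)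
      rw [← h5] at this
      simpa [Matrix.toLin'OfInv, ← Matrix.smul_eq_diagonal_mul, Matrix.smul_mulVec] using this) hk
    rw [Nat.card_eq_fintype_card] at this
    exact ⟨this.1, this.2.2.2⟩
  have h4 : (Finset.univ.erase (1 : Subgroup.center G)).card = n.gcd (Fintype.card F - 1) - 1 := by
    rw [Finset.card_erase_of_mem (Finset.mem_univ _), Finset.card_univ, ← hd, Nat.card_eq_fintype_card]
  have h5 := Nat.gcd_le_left (m := n) (Fintype.card F - 1) (by omega)
  have h6 := Nat.gcd_le_right (m := n) (n := Fintype.card F - 1) (by omega)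
  rcases hn.eq_or_lt with rfl | hn
  · have h7 := (card_fix_SL_le (F := F) (n := 2) two_ne_zero one_ne_zero one_ne_zero
      (fun _ _ => one_dvd _) (fun _ => True) (fun _ _ => by rw [one_smul]; exact Sim.refl _) rfl).2.1 rfl
    rw [← card_classes_eq_subtype, Nat.card_eq_fintype_card (α := F)] at h7
    have h8 := Nat.pow_le_pow_left (min_le_left 2 (Fintype.card F - 1)) 2
    refine (add_le_add h7 (sum_le (B := 1) fun z hz => ?_)).trans (by norm_num; omega)
    obtain ⟨n', s, h9, h10, h11⟩ := h3 z hz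
    have := (h11 _ rfl).1 (by rcases n' with _ | _ | _ <;> [omega; rfl; nlinarith])
    exact (Nat.mul_le_mul (show _ ≤ 1 by omega) this).trans le_rfl
  · refine (add_le_add (h2.2.2 hn) (sum_le (B := 2 * Fintype.card F ^ (n - 2)) fun z hz => ?_)).trans
      (by omega)
    obtain ⟨n', s, h9, h10, h11⟩ := h3 z hz
    rw [h4]
    have := num (d := n.gcd (Fintype.card F - 1) - 1) hq h10 (by omega) (by omega) (by omega)
      (h11 _ rfl).1 (h11 _ rfl).2
    rwa [← h9] at this

end Cfsg.Agent.S2480
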