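import Cfsg.Statements.S2216
import Cfsg.Agent.Lib.Char.H7Kcd
import Cfsg.Agent.Lib.Char.H7Kcn
import Cfsg.Agent.S2480
import Cfsg.Agent.S2325
import Cfsg.Agent.S0253
import Cfsg.Agent.S0254
import Cfsg.Agent.Lib.Lin.FieldIso
import Cfsg.Agent.Lib.Lin.SLnCard

set_option autoImplicit false
open Cfsg

namespace Cfsg.Agent.S2216

open CA.H7Kc CA.H7Gr CA.H7OrdB Subgroup Matrix
open scoped MatrixGroups

theorem cls {G H : Type*} [Group G] [Group H] (e : G ≃* H) :
    Nat.card (ConjClasses G) = Nat.card (ConjClasses H) := by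
  refine Nat.card_eq_of_bijective (ConjClasses.map e.toMonoidHom)
    ⟨fun a b h => ?_, ConjClasses.map_surjective e.surjective⟩
  obtain ⟨a, rfl⟩ := ConjClasses.mk_surjective a
  obtain ⟨b, rfl⟩ := ConjClasses.mk_surjective b
  have := e.symm.toMonoidHom.map_isConj (ConjClasses.mk_eq_mk_iff_isConj.1 h)
  exact ConjClasses.mk_eq_mk_iff_isConj.2 (by simpa using this)

theorem cls_le {G : Type*} [Group G] [Finite G] : Nat.card (ConjClasses G) ≤
    Nat.card (center G) * Nat.card (ConjClasses (G ⧸ center G)) := by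
  rw [← Nat.card_prod]
  refine Nat.card_le_card_of_surjective
    (fun p => ConjClasses.mk (p.1.1 * (Quotient.out p.2).out)) fun C => ?_
  obtain ⟨g, rfl⟩ := ConjClasses.mk_surjective C
  have h : IsConj (ConjClasses.mk (g : G ⧸ center G)).out (g : G ⧸ center G) :=
    ConjClasses.mk_eq_mk_iff_isConj.1 (Quotient.out_eq _)
  obtain ⟨c, hc⟩ := isConj_iff.1 h
  obtain ⟨c, rfl⟩ := QuotientGroup.mk_surjective c
  rw [← QuotientGroup.out_eq' (Quotient.out (ConjClasses.mk (g : G ⧸ center G))), ← QuotientGroup.mk_inv,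
    ← QuotientGroup.mk_mul, ← QuotientGroup.mk_mul, QuotientGroup.eq] at hc
  refine ⟨(⟨_, hc⟩, ConjClasses.mk (g : G ⧸ center G)),
    ConjClasses.mk_eq_mk_iff_isConj.2 (isConj_iff.2 ⟨c, ?_⟩)⟩
  dsimp only
  generalize (Quotient.out (ConjClasses.mk (g : G ⧸ center G))).out = y at *
  have h1 := mem_center_iff.1 hc
  rw [← h1 y, ← mul_assoc c, mul_assoc (c * y), ← h1 c⁻¹]
  group

/-- A non-abelian finite simple group with exactly nine conjugacy classes is isomorphic to PSL(2, 8), PSL(2, 13) or the alternating group of degree 7. -/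
theorem result {G : Type*} [Group G] [Finite G] [IsSimpleGroup G] (hG : ¬ IsMulCommutative G)
    (h : Nat.card (ConjClasses G) = 9) :
    (∃ (F : Type) (_ : Field F) (_ : Fintype F), Fintype.card F = 8 ∧
        Nonempty (G ≃* Matrix.ProjectiveSpecialLinearGroup (Fin 2) F)) ∨
      Nonempty (G ≃* Matrix.ProjectiveSpecialLinearGroup (Fin 2) (ZMod 13)) ∨
      Nonempty (G ≃* ↥(alternatingGroup (Fin 7))) := by
  have key : ∀ {H : Type} [Group H], Nonempty (G ≃* H) → Nat.card (ConjClasses H) = 9 := fun ⟨e⟩ =>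
    h ▸ (cls e).symm
  have odd : ∀ (F : Type) [Field F] [Fintype F], Odd (Fintype.card F) →
      Nonempty (G ≃* PSL(2, F)) → Fintype.card F = 13 := fun F _ _ ho e => by
    have h1 := (Cfsg.Agent.S2480.result (F := F) 2 le_rfl).2
    have h2 := Cfsg.Agent.S2325.result ho
    have h3 := cls_le (G := SL(2, F))
    have h4 := CA.SLnCard.card_center_mul_card_PSL (n := Fin 2) (R := F)
    have h5 := CA.SLnCard.card_PSL (F := F) 2 (by decide)
    have h6 : Nat.gcd 2 (Fintype.card F - 1) = 2 :=
      Nat.gcd_eq_left (by obtain ⟨m, hm⟩ := ho; omega)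
    rw [Nat.card_eq_fintype_card (α := F), h6, ← h4] at h5
    rw [h2, ← Nat.eq_of_mul_eq_mul_right Nat.card_pos h5, key e] at h3
    rw [h6, key e] at h1
    obtain ⟨m, hm⟩ := ho
    simp only [Nat.add_one_sub_one, pow_one, Nat.sub_self, pow_zero] at h1
    omega
  have no : ∀ p : ℕ, ∀ [Fact p.Prime], Odd p → p ≠ 13 → ¬ Nonempty (G ≃* PSL(2, ZMod p)) :=
    fun p _ h1 h2 e => h2 ((ZMod.card p).symm.trans (odd _ (by rwa [ZMod.card]) e))
  have hs : 60 ≤ Nat.card G := by
    by_contra e
    have := mem_ords hG (by omega)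
    simp only [ords, List.mem_cons, List.not_mem_nil, or_false] at this
    omega
  by_cases h4 : ∃ x : G, orderOf x = 4 ∧ cc x = 4
  · obtain ⟨x, h1, h2⟩ := h4
    rcases four hG h1 h2 with ⟨F, _, _, ho, -, ⟨e⟩⟩ | e
    · obtain ⟨f⟩ := CA.FieldIso.nonempty_ringEquiv (F := F) (K := ZMod 13) (by
        rw [Nat.card_eq_fintype_card, odd F ho ⟨e⟩, Nat.card_zmod])
      exact .inr (.inl ⟨e.trans (CA.FieldIso.pslEquiv f)⟩)
    · exact .inr (.inr e)
  have hn : Nat.card G < 5616 := by
    by_cases h5 : ∀ x : G, x ≠ 1 → 5 ≤ cc x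
    · obtain ⟨ps, D, h1, h2⟩ := data hG (by omega) h5
      rw [h] at D h1
      refine (nine D Nat.card_pos (by omega)).resolve_right fun ⟨e1, e2, e3⟩ => ?_
      obtain ⟨q, q1, q2⟩ := List.mem_map.1 e2
      obtain ⟨r, r1, r2⟩ := List.mem_map.1 e3
      obtain ⟨x, x1, x2⟩ := h2 q q1
      obtain ⟨y, y1, y2⟩ := h2 r r1
      exact big hG e1 h x1 y1 (x2.trans q2) (y2.trans r2)
    push Not at h5
    obtain ⟨x, x1, x2⟩ := h5
    have x3 : orderOf x ∣ cc x := (CA.H28Syl.CC x).orderOf_dvd_natCard (CA.H28Syl.mem_CC.2 rfl)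
    have x4 : orderOf x ≠ 1 := by simpa using x1
    have x5 : 0 < cc x := Nat.card_pos
    by_cases e : orderOf x = 2
    · have := inv_bd e
      rw [h] at this
      nlinarith
    by_cases e' : cc x = 3
    · have := three hG x1 e'
      omega
    refine absurd ⟨x, ?_⟩ h4
    have := Nat.le_of_dvd x5 x3
    generalize orderOf x = o at *
    generalize cc x = c at *
    interval_cases c <;> interval_cases o <;> omega
  have := Fintype.ofFinite (GaloisField 2 3)
  have := Fintype.ofFinite (GaloisField 2 4)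
  have := Fintype.ofFinite (GaloisField 3 2)
  have c8 : Fintype.card (GaloisField 2 3) = 8 := by
    rw [← Nat.card_eq_fintype_card, GaloisField.card 2 3 (by norm_num)]; rfl
  have c9 : Fintype.card (GaloisField 3 2) = 9 := by
    rw [← Nat.card_eq_fintype_card, GaloisField.card 3 2 (by norm_num)]; rfl
  have c16 : Fintype.card (GaloisField 2 4) = 16 := by
    rw [← Nat.card_eq_fintype_card, GaloisField.card 2 4 (by norm_num)]; rfl
  have : Fact (Nat.Prime 11) := ⟨by norm_num⟩
  have : Fact (Nat.Prime 13) := ⟨by norm_num⟩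
  have m := mem_ords hG (by omega)
  simp only [ords, List.mem_cons, List.not_mem_nil, or_false] at m
  rcases m with e | e | e | e | e | e | e | e | e | e | e
  · obtain ⟨e1⟩ := S0494.result e
    obtain ⟨e2⟩ := S0253.result (ZMod.card 5)
    exact absurd ⟨e1.trans e2.symm⟩ (no 5 (by decide) (by decide))
  · exact absurd (S0495.result e (ZMod.card 7)) (no 7 (by decide) (by decide))
  · obtain ⟨e1⟩ := S0497.result e
    obtain ⟨e2⟩ := S0254.result c9
    have := odd _ (by rw [c9]; decide) ⟨e1.trans e2.symm⟩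
    omega
  · exact .inl ⟨_, _, _, c8, S1011.result e c8⟩
  · exact absurd (S0498.result 11 (by simp) (by rw [e]; rfl) (ZMod.card 11))
      (no 11 (by decide) (by decide))
  · exact .inr (.inl (S0498.result 13 (by simp) (by rw [e]; rfl) (ZMod.card 13)))
  · exact absurd (S1020.result e (ZMod.card 17)) (no 17 (by decide) (by decide))
  · exact .inr (.inr (S0984.result e))
  · exact absurd (S1021.result e (ZMod.card 19)) (no 19 (by decide) (by decide))
  · have h1 := (Cfsg.Agent.S2480.result (F := GaloisField 2 4) 2 le_rfl).1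
    rw [key (S0981.result e c16), c16] at h1
    exact absurd h1 (by decide)
  · omega

end Cfsg.Agent.S2216
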