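import Cfsg.Statements.S2247
import Cfsg.Agent.Lib.Lie.SzSub

set_option autoImplicit false
open Cfsg

namespace Cfsg.Agent.S2247

/-- In the Suzuki group with q = 2^(2m+1), m ≥ 1 (realised as the stabiliser in SL₄ of the Suzuki–Tits ovoid), the normalizer of a Sylow 2-subgroup P is a maximal subgroup and is the only maximal subgroup containing P. -/
theorem result {F : Type*} [Field F] [Fintype F] {m : ℕ} (hm : 1 ≤ m) (hF : Fintype.card F = 2 ^ (2 * m + 1)) (P : Sylow 2 ↥(Cfsg.Sz F m)) :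
    IsCoatom (Subgroup.normalizer ((P : Subgroup ↥(Cfsg.Sz F m)) : Set ↥(Cfsg.Sz F m))) ∧
    ∀ M : Subgroup ↥(Cfsg.Sz F m), IsCoatom M → (P : Subgroup ↥(Cfsg.Sz F m)) ≤ M → M = Subgroup.normalizer ((P : Subgroup ↥(Cfsg.Sz F m)) : Set ↥(Cfsg.Sz F m)) := by
  have : CA.SzBasic.Hyp F m := ⟨hm, hF⟩
  open CA.SzBasic CA.SzGroup CA.SzSub in
  obtain ⟨a, ha⟩ := exists_split P
  obtain ⟨b, hb⟩ : ∃ b : Ov F, b ≠ a := by
    by_cases h : a = inf
    · exact ⟨pt 0 0, h ▸ pt_ne_inf 0 0⟩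
    · exact ⟨inf, fun e => h e.symm⟩
  have h1 := CA.SplitOne2.isCoatom_stabilizer ha.two hb
  rw [ha.normalizer_eq (sylow_ne_bot P)]
  refine ⟨h1, fun M hM hP => ?_⟩
  by_cases h : M ≤ MulAction.stabilizer (G F) a
  · exact (hM.le_iff.1 h).resolve_left h1.1 |>.symm
  · exact absurd (eq_top_of_le ha (sylow_ne_bot P) hP h) hM.1

end Cfsg.Agent.S2247
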