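import Cfsg.Statements.S2259
import Cfsg.Agent.Lib.Lie.SzClass
import Cfsg.Agent.Lib.Lie.SzModel
import Cfsg.Agent.Lib.Lie.TorusNorm
import Cfsg.Agent.S2241

set_option autoImplicit false
open Cfsg

namespace Cfsg.Agent.S2259

open CA.SzBasic CA.SzGroup CA.SzTori CA.SzSub CA.SzClass CA.TorusCount CA.TorusNorm Subgroup MulAction

def Sol {G : Type*} [Group G] (x : G) : Set G := {y | Group.IsSolvable (closure ({x, y} : Set G))}

theorem Sol_equiv {G G' : Type*} [Group G] [Group G'] (e : G ≃* G') (x : G) : (Sol (e x)).ncard = (Sol x).ncard := by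
  rw [← Set.ncard_image_of_injective (Sol x) e.injective]
  congr 1
  ext y
  obtain ⟨y, rfl⟩ := e.surjective y
  rw [e.injective.mem_set_image]
  have h : closure ({e x, e y} : Set G') = (closure {x, y}).map e.toMonoidHom := by
    rw [MonoidHom.map_closure, Set.image_pair]; rfl
  let f := (closure ({x, y} : Set G)).equivMapOfInjective e.toMonoidHom e.injective
  rw [Sol, Sol, Set.mem_setOf_eq, Set.mem_setOf_eq, h]
  exact ⟨fun _ => Group.isSolvable_of_isSolvable_injective (f := f.toMonoidHom) f.injective,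
    fun _ => Group.isSolvable_of_surjective (f := f.toMonoidHom) f.surjective⟩

theorem norm_conj {G : Type*} [Group G] {T : Subgroup G} (hT : CC T) {z g x : G} (hz : z ≠ 1) (h : g * z * g⁻¹ ∈ T) :
    g * x * g⁻¹ ∈ normalizer (T : Set G) ↔ x ∈ normalizer (centralizer {z} : Set G) := by
  rw [hT.cent_eq hz h, ← map_equiv_normalizer_eq]
  exact mem_map_iff_mem (f := (MulAut.conj g).toMonoidHom) (MulAut.conj g).injective

structure Tor {G : Type*} [Group G] (T : Subgroup G) : Prop where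
  cc : CC T
  cyc : IsCyclic T
  ne : T ≠ ⊥
  odd : Odd (Nat.card T)
  pow : ∀ n ∈ normalizer (T : Set G), n ∉ T → n ^ 4 = 1

theorem Tor.sol {G : Type*} [Group G] {T : Subgroup G} (h : Tor T) {x y g : G} (hx : g * x * g⁻¹ ∈ normalizer (T : Set G))
    (hy : g * y * g⁻¹ ∈ normalizer (T : Set G)) : y ∈ Sol x := by
  have := solvable_norm h.cc h.cyc h.ne
  have h1 : closure ({x, y} : Set G) ≤ (normalizer (T : Set G)).comap (MulAut.conj g).toMonoidHom :=
    (closure_le _).2 (Set.pair_subset hx hy)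
  exact Group.isSolvable_of_isSolvable_injective (f := ((MulAut.conj g).toMonoidHom.subgroupComap _).comp (inclusion h1))
    fun a b e => Subtype.ext ((MulAut.conj g).injective (congrArg Subtype.val e))

theorem Tor.disj {G : Type*} [Group G] {T : Subgroup G} (h : Tor T) {x : G} {S : Set G} {n : ℕ} (hc : n.Coprime (Nat.card T))
    (hS : ∀ y ∈ S, orderOf (x * y * x⁻¹ * y⁻¹) ∣ n) : Disjoint S (A T x) := Set.disjoint_left.2 fun y h1 h2 => by
  obtain ⟨h3, g, h4⟩ := comm_mem_cls h.cc h.cyc h.ne h2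
  have := T.orderOf_dvd_natCard h4
  exact h3 (orderOf_eq_one_iff.1 (Nat.eq_one_of_dvd_coprimes hc (hS y h1) ((MulAut.conj g).orderOf_eq _ ▸ this)))

variable {F : Type*} [Field F] [Fintype F] {m : ℕ} [hy : Hyp F m]

theorem tor_H : Tor (H F) := by
  obtain ⟨μ, hμ⟩ := exists_unit_ne_one (F := F)
  refine ⟨cc_H, isCyclic_H, fun h => hμ (D_eq_one.1 (mem_bot.1 (h ▸ D_mem_H μ))), odd_card_H, fun n h1 h2 => ?_⟩
  obtain ⟨κ, rfl⟩ := (mem_normalizer_H.1 h1).resolve_left h2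
  exact (pow_mul _ 2 2).trans (by rw [sq (D κ * J F), DJ_sq, one_pow])

theorem tor_Der {z : G F} (hz : z ∈ Der F) : Tor (centralizer {z}) := by
  have h1 : z ≠ 1 := fun e => one_not_mem_Der (e ▸ hz)
  refine ⟨cc_cent hz, isCyclic_cent hz, fun h => h1 (mem_bot.1 (h ▸ mem_centralizer_singleton_iff.2 rfl)),
    odd_order (F := F) (cent_of_not_cls_U h1 fun h => not_Der_of_U h hz).2.2, fun n h2 h3 => ?_⟩
  exact orderOf_dvd_iff_pow_eq_one.1 ((orderOf_dvd_of_pow_eq_one (pow_eq_one (cc_cent hz) h2 h3)).trans (relIndex_dvd hz))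

theorem sol_of_fix {x y : G F} {a : Ov F} (hx : x • a = a) (hy' : y • a = a) : y ∈ Sol x :=
  CA.Core.isSolvable_of_le ((closure_le _).2 (Set.pair_subset hx hy')) (isSolvable_stab a)

theorem sol_cases {x y : G F} (h : y ∈ Sol x) : (∃ a : Ov F, x • a = a ∧ y • a = a) ∨ ∃ z : G F, z ≠ 1 ∧ (z ∈ Cls (H F) ∨ z ∈ Der F) ∧
    x ∈ normalizer (centralizer {z} : Set (G F)) ∧ y ∈ normalizer (centralizer {z} : Set (G F)) := by
  have hx : x ∈ closure ({x, y} : Set (G F)) := subset_closure (by simp)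
  have hy' : y ∈ closure ({x, y} : Set (G F)) := subset_closure (by simp)
  rcases solvable_cases h with ⟨a, ha⟩ | ⟨z, -, h1, h2, h3⟩
  exacts [.inl ⟨a, ha hx, ha hy'⟩, .inr ⟨z, h1, (cases_elt h1).resolve_left h2, h3 hx, h3 hy'⟩]

theorem sol_odd {x y : G F} (h1 : x ≠ 1) (ho : Odd (orderOf x)) (h : y ∈ Sol x) :
    (∃ a : Ov F, x • a = a ∧ y • a = a) ∨ y ∈ normalizer (centralizer {x} : Set (G F)) := by
  refine (sol_cases h).imp_right fun ⟨z, hz, h2, h3, h4⟩ => ?_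
  obtain ⟨T, g, hT, hg⟩ : ∃ T g, Tor T ∧ g * z * g⁻¹ ∈ T := h2.elim (fun ⟨_, g, h⟩ => ⟨_, g, tor_H, h⟩)
    fun h => ⟨_, 1, tor_Der h, by simp [mem_centralizer_singleton_iff]⟩
  refine (norm_conj hT.cc h1 ?_).1 ((norm_conj hT.cc hz hg).2 h4)
  by_contra h5
  have := orderOf_dvd_of_pow_eq_one (hT.pow _ ((norm_conj hT.cc hz hg).2 h3) h5)
  exact h1 (orderOf_eq_one_iff.1 (Nat.eq_one_of_dvd_coprimes (Nat.Coprime.pow_right 2 (Nat.coprime_two_right.2 ho)) dvd_rfl
    ((MulAut.conj g).orderOf_eq x ▸ this)))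

theorem card_Der' {x : G F} {k : ℕ} (h1 : x ≠ 1) (hk : orderOf x ∣ k)
    (h : k = 2 ^ (2 * m + 1) + 2 ^ (m + 1) + 1 ∨ k = 2 ^ (2 * m + 1) - 2 ^ (m + 1) + 1) : (Sol x).ncard = 4 * k := by
  have hx : x ∈ Der F := mem_Der_of_dvd h1 (mul_orders (F := F) ▸ h.elim (fun e => (e ▸ hk).mul_right _) fun e => (e ▸ hk).mul_left _)
  have hT := tor_Der hx
  have hm : x ∈ centralizer {x} := mem_centralizer_singleton_iff.2 rfl
  have e : Sol x = normalizer (centralizer {x} : Set (G F)) := Set.ext fun y => ⟨fun h => (sol_odd h1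
    (hT.odd.of_dvd_nat (orderOf_dvd_natCard _ hm)) h).resolve_left fun ⟨a, h, _⟩ => hx a h,
    fun h => hT.sol (g := 1) (by simpa using le_normalizer hm) (by simpa using h)⟩
  have h2 : (centralizer {x}).relIndex (normalizer (centralizer {x} : Set (G F))) = 4 := by
    obtain ⟨z, hz, z', hz', -, -, h1, h2, -, h3⟩ := exists_tori (F := F)
    have k : ∀ z ∈ Der F, x ∈ Cls (centralizer {z}) → (centralizer {z}).relIndex (normalizer (centralizer {z} : Set (G F))) = 4 →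
        (centralizer {x}).relIndex (normalizer (centralizer {x} : Set (G F))) = 4 := by
      rintro z hz ⟨h1, g, hg⟩ h
      rwa [(cc_cent hz).cent_eq h1 hg, ← map_equiv_normalizer_eq, relIndex_map_map_of_injective _ _ (MulAut.conj g).injective] at h
    exact (h3 x hx).elim (k z hz · h1) (k z' hz' · h2)
  rw [e, ← Nat.card_coe_set_eq, order_eq_of_not_coprime (F := F) (.inr h) (cent_of_not_cls_U h1 fun h => not_Der_of_U h hx).2.2
    fun hc => h1 (orderOf_eq_one_iff.1 (Nat.eq_one_of_dvd_coprimes hc hk (orderOf_dvd_natCard _ hm))),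
    ← Nat.card_congr (subgroupOfEquivOfLe (le_normalizer (H := centralizer {x}))).toEquiv]
  exact (index_mul_card _).symm.trans (congrArg (· * _) h2)

theorem card_H' {x : G F} (hx : x ∈ H F) (h1 : x ≠ 1) : (Sol x).ncard = 2 * (2 ^ (2 * m + 1)) ^ 2 * (2 ^ (2 * m + 1) - 1) := by
  obtain ⟨μ, rfl⟩ := mem_H.1 hx
  let B : Ov F → Set (G F) := fun a => stabilizer (G F) a
  have e : Sol (D μ) = B inf ∪ B (pt 0 0) ∪ (· * J F) '' H F := Set.ext fun y => ⟨fun h => by
    rcases sol_odd h1 (odd_card_H.of_dvd_nat (orderOf_dvd_natCard _ hx)) h with ⟨a, h2, h3⟩ | h2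
    · rcases D_fix (fun e => h1 (D_eq_one.2 e)) h2 with rfl | rfl
      exacts [.inl (.inl h3), .inl (.inr h3)]
    · rw [cc_H _ hx h1, mem_normalizer_H] at h2
      rcases h2 with ⟨κ, rfl⟩ | ⟨κ, rfl⟩
      exacts [.inl (.inl (D_inf κ)), .inr ⟨_, D_mem_H κ, rfl⟩], by
    rintro ((h | h) | ⟨h, h2, rfl⟩)
    exacts [sol_of_fix (D_inf μ) h, sol_of_fix (D_pt_zero μ) h, tor_H.sol (g := 1) (by simpa using le_normalizer hx)
      (by simpa using mul_mem (le_normalizer h2) J_mem_normalizer_H)]⟩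
  have h2 : (B (pt 0 0)).ncard = (B inf).ncard := by
    rw [← Set.ncard_image_of_injective (B inf) (MulAut.conj (J F)).injective]
    exact congrArg (fun S : Subgroup (G F) => (S : Set (G F)).ncard) (J_inf (F := F) ▸ stabilizer_smul_eq_stabilizer_map_conj _ _)
  rw [e, Set.ncard_union_eq, Set.ncard_image_of_injective _ (mul_left_injective _), ← stab_inf_zero, coe_inf,
    Set.ncard_union_add_ncard_inter, h2, ← two_mul, mul_assoc, ← card_B (F := F)]
  · rfl
  · refine Set.disjoint_right.2 ?_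
    rintro _ ⟨_, ⟨κ, rfl⟩, rfl⟩ (h | h)
    · exact pt_ne_inf (0 : F) 0 (by simpa [B, mul_smul, Dh] using h)
    · exact pt_ne_inf (0 : F) 0 (by simpa [B, mul_smul, Dh] using h.symm)

theorem card_two {x : G F} (hx : x ∈ U F) (h1 : x ≠ 1) {c : ℕ} (hc : Nat.card (centralizer {x}) = c)
    (h : ∀ z ∈ Der F, (centralizer {z}).relIndex (normalizer (centralizer {z} : Set (G F))) = 4 →
      (A (centralizer {z}) x).ncard = c * (Nat.card (centralizer {z}) - 1)) :
    (Sol x).ncard = (2 ^ (2 * m + 1)) ^ 2 * (2 ^ (2 * m + 1) - 1) + (A (H F) x).ncard + c * (2 * 2 ^ (2 * m + 1)) := by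
  obtain ⟨z, hz, z', hz', c1, c2, h2, h3, h4, h5⟩ := exists_tori (F := F)
  have e : Sol x = (stabilizer (G F) (inf : Ov F) : Set (G F)) ∪ A (H F) x ∪ A (centralizer {z}) x ∪ A (centralizer {z'}) x :=
    Set.ext fun y => ⟨fun h => by
      by_cases hc : y ∈ centralizer {x}
      · exact .inl (.inl (.inl (split.le (cent_le_U hx h1 hc))))
      rcases sol_cases h with ⟨a, h6, h7⟩ | ⟨w, h6, h7, h8, h9⟩
      · exact .inl (.inl (.inl (split.eq_of_fix hx h1 h6 ▸ h7 :)))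
      have k : ∀ T, CC T → w ∈ Cls T → y ∈ A T x := fun T hT ⟨_, g, hg⟩ =>
        ⟨hc, g, (norm_conj hT h6 hg).2 h8, (norm_conj hT h6 hg).2 h9⟩
      rcases h7.imp_right (h5 w) with h | h | h
      exacts [.inl (.inl (.inr (k _ cc_H h))), .inl (.inr (k _ (cc_cent hz) h)), .inr (k _ (cc_cent hz') h)], by
    rintro (((h | ⟨-, g, h, h'⟩) | ⟨-, g, h, h'⟩) | ⟨-, g, h, h'⟩)
    exacts [sol_of_fix (split.fix hx) h, tor_H.sol h h', (tor_Der hz).sol h h', (tor_Der hz').sol h h']⟩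
  have k1 : ∀ T, Tor T → Disjoint (stabilizer (G F) (inf : Ov F) : Set (G F)) (A T x) := fun T hT =>
    hT.disj (n := Nat.card (U F)) (by rw [card_U]; exact ((Nat.coprime_two_left.2 hT.odd).pow_left _).pow_left _) fun y h =>
      orderOf_dvd_natCard _ (by simpa [mul_assoc] using mul_mem hx (split.conj_mem y h _ (inv_mem hx)))
  have k2 : ∀ T T', Tor T → Tor T' → (Nat.card T).Coprime (Nat.card T') → Disjoint (A T x) (A T' x) := fun T T' hT hT' hc =>
    hT'.disj hc fun y h => orderOf_dvd_of_cls (comm_mem_cls hT.cc hT.cyc hT.ne h)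
  rw [e, Set.ncard_union_eq, Set.ncard_union_eq, Set.ncard_union_eq (k1 _ tor_H), h z hz h2, h z' hz' h3, c1, c2,
    add_assoc _ (c * _), ← mul_add, ← card_B (F := F)]
  · have : 2 ^ (m + 1) ≤ 2 ^ (2 * m + 1) := Nat.pow_le_pow_right two_pos (by omega)
    congr 2
    omega
  · exact Set.disjoint_union_left.2 ⟨k1 _ (tor_Der hz), k2 _ _ tor_H (tor_Der hz) (card_H (F := F) ▸ c1 ▸ coprime_one (F := F))⟩
  · exact Set.disjoint_union_left.2 ⟨Set.disjoint_union_left.2 ⟨k1 _ (tor_Der hz'), k2 _ _ tor_H (tor_Der hz')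
      (card_H (F := F) ▸ c2 ▸ coprime_two (F := F))⟩, k2 _ _ (tor_Der hz) (tor_Der hz') h4⟩

theorem not_mem {T : Subgroup (G F)} (hT : Tor T) {x : G F} (h : Even (orderOf x)) : x ∉ T := fun h' =>
  Nat.not_odd_iff_even.2 h (hT.odd.of_dvd_nat (orderOf_dvd_natCard _ h'))

theorem conj_inv {x : G F} (h : orderOf x = 2) : IsConj x (T 0 1) := by
  have h2 : x ^ 2 = 1 := h ▸ pow_orderOf_eq_one x
  obtain ⟨h1, g, hg⟩ := mem_cls_U (g := x) (by rintro rfl; simp at h) (n := 1) h2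
  obtain ⟨b, hb⟩ := (sq_eq_one_iff hg).1 (by rw [← sq, conj_pow, h2]; group)
  obtain ⟨μ, hμ⟩ := exists_scale (b := b) (by rintro rfl; exact conj_ne_one h1 g (hb.trans T_zero)) one_ne_zero
  exact (isConj_iff.2 ⟨g, hb⟩).trans (isConj_iff.2 ⟨D μ, by rw [D_conj_T, hμ, mul_zero]⟩)

theorem card_inv {x : G F} (h : orderOf x = 2) : (Sol x).ncard = (2 ^ (2 * m + 1)) ^ 2 * (4 * 2 ^ (2 * m + 1) - 3) := by
  obtain ⟨g, hg⟩ := isConj_iff.1 (conj_inv h)
  rw [← Sol_equiv (MulAut.conj g), MulAut.conj_apply, hg]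
  have h1 : T (0 : F) 1 ≠ 1 := by simp [T_eq_one]
  have hc : centralizer {T (0 : F) 1} = U F := (cent_le_U (T_mem_U _ _) h1).antisymm (by
    rintro _ ⟨a, b, rfl⟩
    exact mem_centralizer_singleton_iff.2 ((T_comm ..).2 (by simp)))
  have k : ∀ S : Subgroup (G F), Tor S → ∀ s ∈ normalizer (S : Set (G F)), orderOf s = 2 →
      (A S (T 0 1)).ncard = (2 ^ (2 * m + 1)) ^ 2 * (Nat.card S - 1) := fun S hS s h2 h3 => by
    obtain ⟨g, hg⟩ := isConj_iff.1 (conj_inv h3)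
    have o : ∀ y : G F, orderOf y = 2 → y * y = 1 := fun y h => by rw [← sq, ← h, pow_orderOf_eq_one]
    rw [← hg, A_conj, card_A hS.cc hS.cyc hS.ne h2 (not_mem hS (h3 ▸ even_two)), CA.H13Count.card_centralizer_eq_of_isConj (conj_inv h3),
      hc, card_U]
    intro y h4 h5
    obtain ⟨c, rfl⟩ := isConj_iff.1 h5
    have h6 := ((MulAut.conj c).orderOf_eq s).trans h3
    exact inv_fusion hS.cc hS.ne h2 (not_mem hS (h3 ▸ even_two)) (o _ h3) h4 (not_mem hS (h6 ▸ even_two)) (o _ h6)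
  rw [card_two (T_mem_U _ _) h1 (hc ▸ card_U) fun z hz hi => by
      obtain ⟨n, h2, h3⟩ := exists_four (cc_cent hz) (tor_Der hz).ne hi (tor_Der hz).odd
      exact k _ (tor_Der hz) _ (pow_mem h2 2) (by rw [orderOf_pow' _ two_ne_zero, h3]; rfl),
    k _ tor_H _ J_mem_normalizer_H (orderOf_eq_prime (by rw [sq, J_mul_J]) J_ne_one), card_H, ← mul_add, ← mul_add]
  have : 2 ^ 1 ≤ 2 ^ (2 * m + 1) := Nat.pow_le_pow_right two_pos (by omega)
  congr 1
  omega

theorem conj_four {x : G F} (h : orderOf x = 4) : IsConj x (T 1 0) ∨ IsConj x⁻¹ (T 1 0) := by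
  obtain ⟨h1, g, a, b, hg⟩ := mem_cls_U (g := x) (by rintro rfl; simp at h) (n := 2) (h ▸ pow_orderOf_eq_one x :)
  obtain ⟨μ, hμ⟩ := exists_scale' (a := a) (by
    rintro rfl
    have := orderOf_dvd_of_pow_eq_one (show (g * x * g⁻¹) ^ 2 = 1 by rw [hg, sq, T_sq]; simp)
    exact absurd (((MulAut.conj g).orderOf_eq x).trans h ▸ this) (by decide)) one_ne_zero
  have h2 : IsConj x (T 1 (th F μ * μ ^ 2 * b)) := (isConj_iff.2 ⟨g, hg⟩).trans (isConj_iff.2 ⟨D μ, by rw [D_conj_T, hμ]⟩)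
  generalize th F μ * μ ^ 2 * b = v at h2
  let L : F →+ F := (th F).toAddMonoidHom + AddMonoidHom.id F
  have k : ∀ v ∈ L.range, IsConj (T 1 v) (T (1 : F) 0) := by
    rintro _ ⟨c, rfl⟩
    refine isConj_iff.2 ⟨T c 0, mul_inv_eq_iff_eq_mul.2 ?_⟩
    simp only [T_mul, T_inj, L]
    exact ⟨add_comm _ _, by simp; linear_combination add_self (th F c)⟩
  have h3 : ∀ c : F, th F c + c = 0 ∨ th F c + c = 1 → c = 0 ∨ c = 1 := fun c h => by
    have h4 : th F (th F c + c) = th F c + c := by rcases h with h | h <;> simp [h]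
    rw [map_add, th_th] at h4
    exact (mul_eq_zero.1 (by linear_combination h4 + add_self c : c * (c + 1) = 0)).imp_right
      fun e => by linear_combination e - add_self (1 : F)
  have h4 : L.range.index = 2 := by
    have h5 := L.range.card_mul_index
    rw [← AddSubgroup.index_ker, ← L.ker.index_mul_card, mul_right_inj' AddSubgroup.index_ne_zero_of_finite] at h5
    rw [h5, Nat.card_eq_two_iff' 0]
    refine ⟨⟨1, by simp [L, add_self]⟩, by simp [Subtype.ext_iff], fun c hc => Subtype.ext ?_⟩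
    exact (h3 c (.inl c.2)).resolve_left fun e => hc (Subtype.ext e)
  by_cases hv : v ∈ L.range
  · exact .inl (h2.trans (k v hv))
  refine .inr (IsConj.trans ?_ (k (v + 1) ((AddSubgroup.add_mem_iff_of_index_two h4).2 (iff_of_false hv ?_))))
  · obtain ⟨c, hc⟩ := isConj_iff.1 h2
    exact isConj_iff.2 ⟨c, by rw [← _root_.conj_inv, hc, T_inv]; simp⟩
  · rintro ⟨c, hc⟩
    rcases h3 c (.inr hc) with rfl | rfl <;> simp [L, add_self] at hc

theorem card_four {x : G F} (h : orderOf x = 4) : (Sol x).ncard = (2 ^ (2 * m + 1)) ^ 2 * (2 ^ (2 * m + 1) + 3) := by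
  obtain ⟨h1, g, a, b, hg⟩ := mem_cls_U (g := x) (by rintro rfl; simp at h) (n := 2) (h ▸ pow_orderOf_eq_one x :)
  have o : ∀ g x : G F, orderOf (g * x * g⁻¹) = orderOf x := fun g => (MulAut.conj g).orderOf_eq
  rw [← o g, hg] at h
  rw [← Sol_equiv (MulAut.conj g), MulAut.conj_apply, hg]
  replace h1 : T a b ≠ 1 := hg ▸ conj_ne_one h1 g
  have ha : a ≠ 0 := by
    rintro rfl
    exact absurd (h ▸ orderOf_dvd_of_pow_eq_one (show T (0 : F) b ^ 2 = 1 by rw [sq, T_sq]; simp)) (by decide)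
  have hc : Nat.card (centralizer {T a b}) = 2 * 2 ^ (2 * m + 1) := by
    rw [← card_F (F := F), ← Nat.card_zmod 2, ← Nat.card_prod]
    refine (Nat.card_congr (Equiv.ofBijective (fun p : ZMod 2 × F => (⟨T (p.1.val * a) p.2, mem_centralizer_singleton_iff.2
      ((T_comm ..).2 (by rw [map_mul, map_natCast]; ring))⟩ : centralizer {T a b})) ⟨?_, ?_⟩)).symm
    · rintro ⟨i, c⟩ ⟨j, d⟩ e
      obtain ⟨e1, e2⟩ := T_inj.1 (congrArg Subtype.val e)
      refine Prod.ext ?_ e2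
      clear o
      fin_cases i <;> fin_cases j <;> first | rfl | simp_all [ZMod.val]
    · rintro ⟨y, hy'⟩
      obtain ⟨c, d, rfl⟩ := cent_le_U (T_mem_U a b) h1 hy'
      obtain ⟨u, rfl⟩ : ∃ u, c = u * a := ⟨c / a, by field_simp⟩
      have h2 : th F u = u := mul_right_cancel₀ (fun e => ha (mul_th_eq_zero e)) (by
        linear_combination (T_comm ..).1 (mem_centralizer_singleton_iff.1 hy') - a * map_mul (th F) u a)
      have h3 : u ^ 2 = u := by rw [← th_th, h2, h2]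
      rcases mul_eq_zero.1 (by linear_combination h3 : u * (u - 1) = 0) with e | e
      exacts [⟨(0, d), by simp [e]⟩, ⟨(1, d), by simp [sub_eq_zero.1 e, ZMod.val_one]⟩]
  have nr : ∀ y : G F, orderOf y = 4 → ¬ IsConj y y⁻¹ := fun y h2 h3 => by
    obtain ⟨P, hP⟩ := exists_sylow_mem (mem_cls_U (g := y) (by rintro rfl; simp at h2) (n := 2) (h2 ▸ pow_orderOf_eq_one y :))
    exact absurd (h2 ▸ (S2241.result hy.hm hy.hF P y hP (by rintro rfl; simp at h2)).1 h3) (by decide)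
  have hA : A (H F) (T a b) = ∅ := Set.eq_empty_of_forall_notMem fun y ⟨_, g, h2, _⟩ => by
    obtain ⟨κ, e⟩ := (mem_normalizer_H.1 h2).resolve_left (not_mem tor_H (by rw [o, h]; decide))
    have := orderOf_dvd_of_pow_eq_one (show (g * T a b * g⁻¹) ^ 2 = 1 by rw [e, sq, DJ_sq])
    exact absurd ((o g _).trans h ▸ this) (by decide)
  rw [card_two (T_mem_U _ _) h1 hc fun z hz hi => ?_, hA, Set.ncard_empty]
  · obtain ⟨k, hk⟩ := Nat.exists_eq_add_one_of_ne_zero (pow_ne_zero (2 * m + 1) two_ne_zero)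
    rw [hk, Nat.add_sub_cancel]; ring
  have hT := tor_Der hz
  obtain ⟨n, h2, h3, h4⟩ : ∃ n ∈ normalizer (centralizer {z} : Set (G F)), orderOf n = 4 ∧ IsConj n (T a b) := by
    obtain ⟨n, h2, h3⟩ := exists_four hT.cc hT.ne hi hT.odd
    have k : ∀ {u v : G F}, IsConj u⁻¹ v → IsConj u v⁻¹ := fun h => by
      obtain ⟨c, rfl⟩ := isConj_iff.1 h
      exact isConj_iff.2 ⟨c, by group⟩
    rcases conj_four h3 with h4 | h4 <;> rcases conj_four h with h5 | h5
    exacts [⟨n, h2, h3, h4.trans h5.symm⟩, ⟨_, inv_mem h2, by simpa, (k (h5.trans (by simpa using h4.symm))).symm⟩,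
      ⟨_, inv_mem h2, by simpa, h4.trans h5.symm⟩, ⟨n, h2, h3, by simpa using k (h4.trans h5.symm)⟩]
  obtain ⟨g, hg⟩ := isConj_iff.1 h4
  rw [← hg, A_conj, card_A hT.cc hT.cyc hT.ne h2 (not_mem hT (by rw [h3]; decide)) fun y h5 h6 =>
    four_fusion hT.cc hi hT.odd h2 h3 h5 h6 (nr n h3), CA.H13Count.card_centralizer_eq_of_isConj h4, hc]

/-- Let G be the Suzuki group Sz(q), q = 2^(2m+1) with 2m + 1 prime and m ≥ 1, realised inside Sp_4(F) for F the field of order q, write r = 2^(m+1) (so r² = 2q), and for x ∈ G call the solubilizer of x the set of y ∈ G such that x and y generate a solvable subgroup. Then the solubilizer of an involution has q²(4q − 3) elements; that of an element of order 4 has q²(q + 3) elements; that of a non-identity element of order dividing q − 1 has 2q²(q − 1) elements; that of a non-identity element of order dividing q + r + 1 has 4(q + r + 1) elements; and that of a non-identity element of order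 dividing q − r + 1 has 4(q − r + 1) elements. -/
theorem result {F : Type*} [Field F] [Fintype F] {m : ℕ} (hm : 1 ≤ m)
    (hp : (2 * m + 1).Prime) (hF : Fintype.card F = 2 ^ (2 * m + 1)) (x : ↥(Cfsg.Lie.Sz F (2 ^ (m + 1)))) :
    (orderOf x = 2 → Nat.card {y : ↥(Cfsg.Lie.Sz F (2 ^ (m + 1))) // Group.IsSolvable ↥(Subgroup.closure ({x, y} : Set (↥(Cfsg.Lie.Sz F (2 ^ (m + 1))))))} = (2 ^ (2 * m + 1)) ^ 2 * (4 * 2 ^ (2 * m + 1) - 3)) ∧
    (orderOf x = 4 → Nat.card {y : ↥(Cfsg.Lie.Sz F (2 ^ (m + 1))) // Group.IsSolvable ↥(Subgroup.closure ({x, y} : Set (↥(Cfsg.Lie.Sz F (2 ^ (m + 1))))))} = (2 ^ (2 * m + 1)) ^ 2 * (2 ^ (2 * m + 1) + 3)) ∧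
    (x ≠ 1 → orderOf x ∣ 2 ^ (2 * m + 1) - 1 →
      Nat.card {y : ↥(Cfsg.Lie.Sz F (2 ^ (m + 1))) // Group.IsSolvable ↥(Subgroup.closure ({x, y} : Set (↥(Cfsg.Lie.Sz F (2 ^ (m + 1))))))} = 2 * (2 ^ (2 * m + 1)) ^ 2 * (2 ^ (2 * m + 1) - 1)) ∧
    (x ≠ 1 → orderOf x ∣ 2 ^ (2 * m + 1) + 2 ^ (m + 1) + 1 → Nat.card {y : ↥(Cfsg.Lie.Sz F (2 ^ (m + 1))) // Group.IsSolvable ↥(Subgroup.closure ({x, y} : Set (↥(Cfsg.Lie.Sz F (2 ^ (m + 1))))))} = 4 * (2 ^ (2 * m + 1) + 2 ^ (m + 1) + 1)) ∧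
    (x ≠ 1 → orderOf x ∣ 2 ^ (2 * m + 1) - 2 ^ (m + 1) + 1 → Nat.card {y : ↥(Cfsg.Lie.Sz F (2 ^ (m + 1))) // Group.IsSolvable ↥(Subgroup.closure ({x, y} : Set (↥(Cfsg.Lie.Sz F (2 ^ (m + 1))))))} = 4 * (2 ^ (2 * m + 1) - 2 ^ (m + 1) + 1)) := by
  haveI : Hyp F m := ⟨hm, hF⟩
  obtain ⟨x, rfl⟩ := (CA.SzModel.szEquiv F).surjective x
  have e : Nat.card _ = (Sol x).ncard := Sol_equiv (CA.SzModel.szEquiv F) x
  rw [MulEquiv.orderOf_eq, Ne, MulEquiv.map_eq_one_iff]
  refine ⟨fun h => e.trans (card_inv h), fun h => e.trans (card_four h), fun h1 h => e.trans ?_,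
    fun h1 h => e.trans (card_Der' h1 h (.inl rfl)), fun h1 h => e.trans (card_Der' h1 h (.inr rfl))⟩
  rcases cases_elt h1 with h2 | ⟨-, g, h2⟩ | h2
  · exact absurd h2 (not_cls_U_of_odd ((odd_order (F := F) (.inl rfl)).of_dvd_nat h))
  · rw [← Sol_equiv (MulAut.conj g), MulAut.conj_apply, card_H' h2 (conj_ne_one h1 g)]
  · exact absurd (orderOf_eq_one_iff.1 (Nat.eq_one_of_dvd_coprimes (coprime_q (F := F)) ((orderOf_dvd_natCard _
      (mem_centralizer_singleton_iff.2 rfl)).trans (card_cent_dvd h2)) (h.mul_left _))) h1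

end Cfsg.Agent.S2259
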