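import Cfsg.Statements.S2271

set_option autoImplicit false
open Cfsg

namespace Cfsg.Agent.S2271

section
open Equiv Equiv.Perm Finset MulAction

theorem cnt {G X : Type*} [Group G] [Fintype G] [Fintype X] [MulAction G X] [IsPretransitive G X]
    [DecidableEq X] (u x : X) :
    Fintype.card X * (univ.filter fun g : G => g • u = x).card = Fintype.card G := by
  classical
  obtain ⟨t, rfl⟩ := exists_smul_eq G u x
  have : (univ.filter fun g : G => g • u = t • u).card = Nat.card (stabilizer G u) := by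
    rw [Nat.card_eq_fintype_card, Fintype.card_subtype]
    exact card_nbij' (fun g => t⁻¹ * g) (fun g => t * g) (fun g h => by simp_all [mul_smul])
      (fun g h => by simp_all [mul_smul]) (fun g _ => by simp) (fun g _ => by simp)
  rw [this, ← Nat.card_eq_fintype_card, ← Nat.card_eq_fintype_card,
    ← index_stabilizer_of_transitive G u, Subgroup.index_mul_card]

variable {n : ℕ}

/-- the number of points where two permutations agree -/
def Ag (c b : Perm (Fin n)) : ℕ := (univ.filter fun x => c x = b x).card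

theorem Ag_conj (t c b : Perm (Fin n)) : Ag (t * c * t⁻¹) (t * b * t⁻¹) = Ag c b :=
  card_nbij' (fun x => t⁻¹ x) (fun x => t x) (fun g h => by simp_all) (fun g h => by simp_all)
    (fun g _ => by simp) (fun g _ => by simp)

theorem fix_eq (a b : Perm (Fin n)) : Nat.card (Function.fixedPoints ⇑(a * b)) = Ag a⁻¹ b := by
  rw [Nat.card_eq_fintype_card, Fintype.card_subtype]
  congr 1
  ext x
  simp [Function.IsFixedPt, Equiv.eq_symm_apply, eq_comm]

theorem quad (hn : 5 ≤ n) {c : Perm (Fin n)} (hc : c ≠ 1) : ∃ i j k l : Fin n,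
    (i ≠ j ∧ i ≠ k ∧ i ≠ l ∧ j ≠ k ∧ j ≠ l ∧ k ≠ l) ∧ c i = j ∧ c j ≠ k ∧ c l ≠ i := by
  obtain ⟨i, hi⟩ : ∃ i, c i ≠ i := by
    by_contra! h
    exact hc (Equiv.ext h)
  obtain ⟨k, hk⟩ : ∃ k, k ∉ ({i, c i, c (c i)} : Finset (Fin n)) := by
    by_contra! h
    have := card_le_three (a := i) (b := c i) (c := c (c i))
    rw [eq_univ_of_forall h] at this
    simp at this; omega
  obtain ⟨l, hl⟩ : ∃ l, l ∉ ({i, c i, k, c⁻¹ i} : Finset (Fin n)) := by
    by_contra! h
    have := card_le_four (a := i) (b := c i) (c := k) (d := c⁻¹ i)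
    rw [eq_univ_of_forall h] at this
    simp at this; omega
  simp only [mem_insert, mem_singleton, not_or] at hk hl
  exact ⟨i, c i, k, l, ⟨hi.symm, Ne.symm hk.1, Ne.symm hl.1, Ne.symm hk.2.1, Ne.symm hl.2.1,
    Ne.symm hl.2.2.1⟩, rfl, Ne.symm hk.2.2, fun h => hl.2.2.2 (by simp [← h])⟩

theorem four {c b : Perm (Fin n)} {i j k l : Fin n}
    (h : i ≠ j ∧ i ≠ k ∧ i ≠ l ∧ j ≠ k ∧ j ≠ l ∧ k ≠ l) (c1 : c i = j) (c2 : c j ≠ k) (c3 : c l ≠ i)
    (b1 : b i = j) (b2 : b j ≠ k) (b3 : b l ≠ i) :
    Ag (swap i k * c * (swap i k)⁻¹) b + Ag (swap j l * c * (swap j l)⁻¹) b <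
      Ag c b + Ag (swap i k * swap j l * c * (swap i k * swap j l)⁻¹) b := by
  obtain ⟨h1, h2, h3, h4, h5, h6⟩ := h
  have hc : ∀ x y, c x = c y → x = y := fun x y h => c.injective h
  have hb : ∀ x y, b x = b y → x = y := fun x y h => b.injective h
  rw [Ag, Ag, Ag, Ag, card_filter, card_filter, card_filter, card_filter, ← sum_add_distrib,
    ← sum_add_distrib]
  refine sum_lt_sum (fun x _ => ?_) ⟨i, mem_univ _, ?_⟩
  · simp only [mul_inv_rev, swap_inv, Perm.mul_apply, swap_apply_def]
    grind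
  · simp only [mul_inv_rev, swap_inv, Perm.mul_apply, swap_apply_def]
    grind

theorem tri {c : Perm (Fin n)} (h : ∀ s : Perm (Fin n), Commute s c → sign s = 1) (hc : c ≠ 1) :
    (∃ u, u ≠ c u ∧ u ≠ c (c u)) ∧ ∀ x y, c x = x → c y = y → x = y := by
  constructor
  · by_contra! H
    obtain ⟨i, hi⟩ : ∃ i, c i ≠ i := by
      by_contra! h
      exact hc (Equiv.ext h)
    have := h (swap i (c i)) (by
      rw [Commute, SemiconjBy, mul_swap_eq_swap_mul, ← H i hi.symm, swap_comm])
    rw [sign_swap hi.symm] at this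
    exact absurd this (by decide)
  · intro x y hx hy
    by_contra hxy
    have := h (swap x y) (by rw [Commute, SemiconjBy, mul_swap_eq_swap_mul, hx, hy])
    rw [sign_swap hxy] at this
    exact absurd this (by decide)

theorem avg (hn : 5 ≤ n) {c b : Perm (Fin n)} (hc : ∀ x y, c x = x → c y = y → x = y)
    (hb : ∀ x y, b x = x → b y = y → x = y) :
    ∃ g : alternatingGroup (Fin n), Ag (g.1 * c * g.1⁻¹) b < 2 := by
  classical
  by_contra! H
  have hm := alternatingGroup.isMultiplyPretransitive (Fin n)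
  have h2 : IsMultiplyPretransitive (alternatingGroup (Fin n)) (Fin n) 2 :=
    isMultiplyPretransitive_of_le (n := Nat.card (Fin n) - 2) (by simp; omega) (by simp)
  have h1 := isPretransitive_of_is_two_pretransitive (G := alternatingGroup (Fin n)) (α := Fin n)
  set N := Fintype.card (alternatingGroup (Fin n)) with hN
  have key : ∀ x u : Fin n, n * (n - 1) * (univ.filter fun g : alternatingGroup (Fin n) =>
      g.1 u = x ∧ g.1 (c u) = b x).card ≤ N + if b x = x ∧ c u = u then (n - 1) * N else 0 := by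
    intro x u
    by_cases e1 : c u = u <;> by_cases e2 : b x = x
    · have := cnt (G := alternatingGroup (Fin n)) u x
      rw [Fintype.card_fin, ← hN] at this
      simp only [e1, e2, and_self, if_true]
      rw [← this]
      show n * (n - 1) * (univ.filter fun g : alternatingGroup (Fin n) => g • u = x).card ≤ _
      nlinarith [Nat.zero_le (n * (univ.filter fun g : alternatingGroup (Fin n) => g • u = x).card)]
    · rw [filter_eq_empty_iff.2 fun g _ h => e2 (by rw [← h.2, e1, h.1])]; simp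
    · rw [filter_eq_empty_iff.2 fun g _ h => e1 (g.1.injective (by rw [h.2, e2, h.1]))]; simp
    · let p : Fin 2 ↪ Fin n := ⟨![u, c u], by
        intro i j; fin_cases i <;> fin_cases j <;> simp [e1, Ne.symm e1]⟩
      let q : Fin 2 ↪ Fin n := ⟨![x, b x], by
        intro i j; fin_cases i <;> fin_cases j <;> simp [e2, Ne.symm e2]⟩
      have := @cnt (alternatingGroup (Fin n)) _ _ _ _ _ ⟨h2.exists_smul_eq⟩ _ p q
      rw [Fintype.card_embedding_eq, Fintype.card_fin, Fintype.card_fin, ← hN] at this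
      simp only [Nat.descFactorial_succ, Nat.descFactorial_zero, Nat.sub_zero, mul_one, zero_add] at this
      rw [if_neg (by simp [e1]), add_zero, ← this, mul_comm n]
      refine Nat.mul_le_mul_left _ (card_le_card fun g hg => ?_)
      simp only [mem_filter, mem_univ, true_and] at hg ⊢
      ext i
      fin_cases i
      · exact congrArg Fin.val hg.1
      · exact congrArg Fin.val hg.2
  have h3 : ∑ g : alternatingGroup (Fin n), Ag (g.1 * c * g.1⁻¹) b = ∑ x, ∑ u,
      (univ.filter fun g : alternatingGroup (Fin n) => g.1 u = x ∧ g.1 (c u) = b x).card := by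
    simp only [Ag, card_filter]
    rw [sum_comm]
    refine sum_congr rfl fun x _ => ?_
    rw [sum_comm]
    refine sum_congr rfl fun g _ => ?_
    rw [sum_eq_single (g.1⁻¹ x) (fun u _ hu => if_neg fun h => hu (by simp [← h.1])) (by simp)]
    exact if_congr (by simp) rfl rfl
  have h4 : N * 2 ≤ ∑ g : alternatingGroup (Fin n), Ag (g.1 * c * g.1⁻¹) b := by
    exact card_nsmul_le_sum univ _ 2 fun g _ => H g
  have h5 : ∑ x : Fin n, ∑ u : Fin n, (if b x = x ∧ c u = u then (n - 1) * N else 0) ≤ (n - 1) * N := by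
    rw [← sum_product', ← sum_filter, sum_const, smul_eq_mul]
    refine mul_le_of_le_one_left' (card_le_one.2 fun x hx y hy => ?_)
    simp only [mem_filter] at hx hy
    exact Prod.ext (hb _ _ hx.2.1 hy.2.1) (hc _ _ hx.2.2 hy.2.2)
  have h6 := sum_le_sum fun x (_ : x ∈ univ) => sum_le_sum fun u (_ : u ∈ univ) => key x u
  simp only [← mul_sum, ← h3, sum_add_distrib, sum_const, card_univ, Fintype.card_fin,
    smul_eq_mul] at h6
  have h7 : 0 < N := Fintype.card_pos
  obtain ⟨m, rfl⟩ : ∃ m, n = m + 5 := ⟨n - 5, by omega⟩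
  have h8 := (Nat.mul_le_mul_left ((m + 5) * (m + 5 - 1)) h4).trans (h6.trans (Nat.add_le_add_left h5 _))
  simp only [show m + 5 - 1 = m + 4 from rfl] at h8
  nlinarith [Nat.zero_le (m * m * N), Nat.zero_le (m * N)]

theorem main (hn : 5 ≤ n) {c b : Perm (Fin n)} (hc : c ≠ 1) (hb : b ≠ 1) :
    ∃ g ∈ alternatingGroup (Fin n), Ag (g * c * g⁻¹) b ≠ Ag c b := by
  by_contra! H
  by_cases h : ∃ s : Perm (Fin n), sign s ≠ 1 ∧ (Commute s c ∨ Commute s b)
  · obtain ⟨s, hs, h⟩ := h
    have H' : ∀ g, Ag (g * c * g⁻¹) b = Ag c b := fun g => by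
      by_cases hg : sign g = 1
      · exact H g hg
      have h1 : sign g * sign s = 1 := by
        rw [(Int.units_eq_one_or _).resolve_left hg, (Int.units_eq_one_or _).resolve_left hs]; rfl
      rcases h with h | h
      · rw [← H (g * s) (by simpa using h1), mul_assoc g s, h.eq]
        congr 1; group
      · rw [← H (s * g) (by simpa [mul_comm] using h1), ← Ag_conj s, h.eq]
        congr 1 <;> group
    obtain ⟨i, j, k, l, h1, c1, c2, c3⟩ := quad hn hc
    obtain ⟨i', j', k', l', h2, b1, b2, b3⟩ := quad hn hb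
    obtain ⟨g, hg⟩ := Equiv.Perm.exists_extending_pair (f := ![i, j, k, l]) (g := ![i', j', k', l'])
      (by intro x y; fin_cases x <;> fin_cases y <;> simp <;> grind)
      (by intro x y; fin_cases x <;> fin_cases y <;> simp <;> grind)
    have g1 : g i = i' := hg 0
    have g2 : g j = j' := hg 1
    have g3 : g k = k' := hg 2
    have g4 : g l = l' := hg 3
    have := four (c := g * c * g⁻¹) h2 (by simp [← g1, ← g2, c1]) (by simp [← g2, ← g3, c2])
      (by simp [← g1, ← g4, c3]) b1 b2 b3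
    have e : ∀ t, t * (g * c * g⁻¹) * t⁻¹ = (t * g) * c * (t * g)⁻¹ := fun t => by group
    simp only [e, H'] at this
    omega
  · push Not at h
    obtain ⟨⟨u, u1, u2⟩, c1⟩ := tri (fun s hs => by_contra fun h1 => (h s h1).1 hs) hc
    obtain ⟨⟨v, v1, v2⟩, b1⟩ := tri (fun s hs => by_contra fun h1 => (h s h1).2 hs) hb
    obtain ⟨t, ht⟩ := avg hn c1 b1
    have hm := alternatingGroup.isMultiplyPretransitive (Fin n)
    have h3 : IsMultiplyPretransitive (alternatingGroup (Fin n)) (Fin n) 3 :=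
      isMultiplyPretransitive_of_le (n := Nat.card (Fin n) - 2) (by simp; omega) (by simp)
    let p : Fin 3 ↪ Fin n := ⟨![u, c u, c (c u)], by
      intro i j; fin_cases i <;> fin_cases j <;> simp [u1, u2, Ne.symm u1, Ne.symm u2]⟩
    let q : Fin 3 ↪ Fin n := ⟨![v, b v, b (b v)], by
      intro i j; fin_cases i <;> fin_cases j <;> simp [v1, v2, Ne.symm v1, Ne.symm v2]⟩
    obtain ⟨g, hg⟩ := exists_smul_eq (alternatingGroup (Fin n)) p q
    have g1 : g.1 u = v := DFunLike.congr_fun hg 0
    have g2 : g.1 (c u) = b v := DFunLike.congr_fun hg 1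
    have g3 : g.1 (c (c u)) = b (b v) := DFunLike.congr_fun hg 2
    rw [H t.1 t.2, ← H g.1 g.2] at ht
    refine ht.not_ge (one_lt_card.2 ⟨v, ?_, b v, ?_, v1⟩)
    · simp only [mem_filter, mem_univ, true_and]
      rw [← g2, ← g1]; simp
    · simp only [mem_filter, mem_univ, true_and]
      rw [← g3, ← g2]; simp

end

/-- Let n ≥ 5 and let a, b be non-identity permutations in the symmetric group S_n. Then the number of fixed points is not constant on the set of products a′b′ with a′ conjugate to a and b′ conjugate to b under the alternating group: there are even permutations g₁, h₁, g₂, h₂ such that (g₁ a g₁⁻¹)(h₁ b h₁⁻¹) and (g₂ a g₂⁻¹)(h₂ b h₂⁻¹) have different numbers of fixed points. -/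
theorem result (n : ℕ) (hn : 5 ≤ n) (a b : Equiv.Perm (Fin n)) (ha : a ≠ 1) (hb : b ≠ 1) :
    ∃ g₁ h₁ g₂ h₂ : Equiv.Perm (Fin n), g₁ ∈ alternatingGroup (Fin n) ∧ h₁ ∈ alternatingGroup (Fin n) ∧ g₂ ∈ alternatingGroup (Fin n) ∧ h₂ ∈ alternatingGroup (Fin n) ∧
      Nat.card (Function.fixedPoints ⇑(g₁ * a * g₁⁻¹ * (h₁ * b * h₁⁻¹))) ≠
        Nat.card (Function.fixedPoints ⇑(g₂ * a * g₂⁻¹ * (h₂ * b * h₂⁻¹))) := by
  obtain ⟨g, hg, h⟩ := main hn (inv_ne_one.2 ha) hb
  refine ⟨g, 1, 1, 1, hg, one_mem _, one_mem _, one_mem _, ?_⟩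
  rw [fix_eq, fix_eq]
  simpa [mul_assoc] using h

end Cfsg.Agent.S2271
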