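import Cfsg.Statements.S2272
import Cfsg.Agent.Lib.Lin.SLTr

set_option autoImplicit false
open Cfsg

namespace Cfsg.Agent.S2272

open Matrix CA.SLTr

variable {F : Type*} [Field F] {ι : Type*} [Fintype ι] [DecidableEq ι]

theorem tr_iff {X Y : SpecialLinearGroup ι F} (h : IsConj (X : ProjectiveSpecialLinearGroup ι F) Y) :
    X.1.trace = 0 ↔ Y.1.trace = 0 := by
  obtain ⟨c, hc⟩ := isConj_iff.1 h
  obtain ⟨c, rfl⟩ := QuotientGroup.mk_surjective c
  obtain ⟨z, hz⟩ := mem_center_iff'.1 (QuotientGroup.eq.1 (show ((c * X * c⁻¹ : SpecialLinearGroup ι F) :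
    ProjectiveSpecialLinearGroup ι F) = Y from hc))
  have h1 : Y.1 = (c * X * c⁻¹).1 * ((c * X * c⁻¹)⁻¹ * Y).1 := by
    rw [← Matrix.SpecialLinearGroup.coe_mul, mul_inv_cancel_left]
  have h2 : (c * X * c⁻¹).1.trace = X.1.trace := by
    rw [Matrix.SpecialLinearGroup.coe_mul, trace_mul_comm, Matrix.SpecialLinearGroup.coe_mul, ← Matrix.mul_assoc,
      ← Matrix.SpecialLinearGroup.coe_mul, inv_mul_cancel]; simp
  rw [h1, hz, Matrix.mul_smul, mul_one, trace_smul, h2, smul_eq_zero, or_iff_right_iff_imp.2]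
  rintro rfl
  cases isEmpty_or_nonempty ι
  · simp [trace]
  · have := ((c * X * c⁻¹)⁻¹ * Y).2
    rw [hz] at this; simp at this

theorem main (h3 : 3 ≤ Fintype.card ι) {A B : SpecialLinearGroup ι F} (hA : ∀ c : F, A.1 ≠ c • 1)
    (hB : ∀ c : F, B.1 ≠ c • 1) (P : Prop) (h : ∀ g : SpecialLinearGroup ι F, P ↔ (g * A * g⁻¹ * B).1.trace = 0) :
    False := by
  obtain ⟨v, v0, hv⟩ := exists_not_eigen hB
  obtain ⟨u, hu⟩ := exists_notMem (W := (F ∙ v) ⊔ F ∙ B.1 *ᵥ v) (by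
    have := finrank_sup_le (F ∙ v) (B.1 *ᵥ v); rw [finrank_span_singleton v0] at this; omega)
  obtain ⟨φ, φ1, φ2⟩ := exists_dot hu
  have φv := φ1 v (Submodule.mem_sup_left (Submodule.mem_span_singleton_self _))
  have φw := φ1 _ (Submodule.mem_sup_right (Submodule.mem_span_singleton_self _))
  have L : ∀ g : SpecialLinearGroup ι F, φ ⬝ᵥ (g * A * g⁻¹).1 *ᵥ B.1 *ᵥ v = φ ⬝ᵥ B.1 *ᵥ (g * A * g⁻¹).1 *ᵥ v := fun g => by
    by_contra hne
    have : ∀ t : F, P ↔ (g * A * g⁻¹ * B).1.trace +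
        t * (φ ⬝ᵥ (g * A * g⁻¹).1 *ᵥ B.1 *ᵥ v - φ ⬝ᵥ B.1 *ᵥ (g * A * g⁻¹).1 *ᵥ v) = 0 := fun t => by
      have h0 : (t • φ) ⬝ᵥ v = 0 := by rw [smul_dotProduct, φv, smul_zero]
      rw [h (tv v _ h0 * g), show tv v _ h0 * g * A * (tv v _ h0 * g)⁻¹ = tv v _ h0 * (g * A * g⁻¹) * (tv v _ h0)⁻¹ by group,
        tv_inv]
      generalize g * A * g⁻¹ = X
      have e : ∀ (ψ : ι → F) (M : Matrix ι ι F), (vecMulVec v ψ * M).trace = ψ ⬝ᵥ M *ᵥ v := fun ψ M => by
        rw [vecMulVec_mul, trace_vecMulVec, dotProduct_comm, dotProduct_mulVec]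
      simp only [Matrix.SpecialLinearGroup.coe_mul, tv_coe, mul_add, add_mul, one_mul, mul_one, trace_add, Matrix.mul_assoc, e]
      rw [trace_mul_comm X.1 (vecMulVec _ _ * _), Matrix.mul_assoc, e]
      simp only [← mulVec_mulVec, vecMulVec_mulVec, smul_dotProduct, neg_dotProduct, φw, smul_eq_mul]
      simp [sub_eq_add_neg, mul_add, add_assoc, add_comm, add_left_comm]
    have hne := sub_ne_zero.2 hne
    generalize φ ⬝ᵥ (g * A * g⁻¹).1 *ᵥ B.1 *ᵥ v - _ = d at this hne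
    generalize (g * A * g⁻¹ * B).1.trace = c at this
    have h2 := (this ((1 - c) / d)).1 ((this (-c / d)).2 (by rw [div_mul_cancel₀ _ hne, add_neg_cancel]))
    rw [div_mul_cancel₀ _ hne, add_sub_cancel] at h2; exact one_ne_zero h2
  obtain ⟨x, x0, hx⟩ := exists_not_eigen hA
  have hvu : v ∉ F ∙ u := fun h => by
    obtain ⟨c, rfl⟩ := Submodule.mem_span_singleton.1 h
    simp [φ2] at φv; simp [φv] at v0
  obtain ⟨g, g1, g2⟩ := exists_pair h3 x0 (y := u) (by rintro rfl; simp at φ2) hx hvu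
  obtain ⟨ψ, ψ1, ψ2⟩ := exists_dot hvu
  obtain ⟨χ, χ1, χ2⟩ := exists_dot (W := (F ∙ v) ⊔ F ∙ u) (v := B.1 *ᵥ v) fun h => by
    obtain ⟨c, hc⟩ := mem_sup_span.1 h
    have := φ1 _ (Submodule.mem_sup_left hc)
    simp [φw, φ2] at this; simp [this, hv] at hc
  have ψu := ψ1 u (Submodule.mem_span_singleton_self _)
  have χv := χ1 v (Submodule.mem_sup_left (Submodule.mem_span_singleton_self _))
  have χu := χ1 u (Submodule.mem_sup_right (Submodule.mem_span_singleton_self _))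
  have hX : (g * A * g⁻¹).1 *ᵥ u = v := by rw [mul_mulVec, mul_mulVec, ← g1, inv_mulVec, g2]
  have L' := fun θ (h : θ ⬝ᵥ u = 0) => L (tv u θ h * g)
  simp only [show ∀ k, k * g * A * (k * g)⁻¹ = k * (g * A * g⁻¹) * k⁻¹ from fun k => by group, tv_inv] at L'
  have L0 := L g
  generalize g * A * g⁻¹ = X at *
  have L1 := L' ψ ψu
  have L2 := L' χ χu
  have L3 := L' (ψ + χ) (by rw [add_dotProduct, ψu, χu, add_zero])
  simp only [mul_mulVec, tv_mulVec, mulVec_add, mulVec_smul, hX, dotProduct_add, dotProduct_smul, neg_dotProduct,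
    add_dotProduct, smul_eq_mul, φv, φw, φ2, ψ2, χv, χ2] at L1 L2 L3
  exact one_ne_zero (α := F) (by linear_combination L1 + L2 - L3 - L0)

/-- Let F be a finite field and d ≥ 3, and let a, b be non-identity elements of PSL_d(F). Then the product of the conjugacy classes of a and b is not a single conjugacy class: there are conjugates a′ of a and b′ of b such that a′b′ is not conjugate to ab. -/
theorem result {F : Type*} [Field F] [Fintype F] (d : ℕ) (hd : 3 ≤ d)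
    (a b : Matrix.ProjectiveSpecialLinearGroup (Fin d) F) (ha : a ≠ 1) (hb : b ≠ 1) :
    ∃ g h : Matrix.ProjectiveSpecialLinearGroup (Fin d) F, ¬ IsConj (a * b) (g * a * g⁻¹ * (h * b * h⁻¹)) := by
  by_contra! H
  obtain ⟨A, rfl⟩ := QuotientGroup.mk_surjective a
  obtain ⟨B, rfl⟩ := QuotientGroup.mk_surjective b
  refine main (by simpa) (A := A) (B := B) (fun c h => ha ((QuotientGroup.eq_one_iff _).2 (mem_center_iff'.2 ⟨c, h⟩)))
    (fun c h => hb ((QuotientGroup.eq_one_iff _).2 (mem_center_iff'.2 ⟨c, h⟩))) _ fun g => tr_iff (X := A * B) ?_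
  simpa using H g 1

end Cfsg.Agent.S2272
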