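import Cfsg.Statements.S2276

set_option autoImplicit false
open Cfsg

namespace Cfsg.Agent.S2276


section Aux
open Equiv Equiv.Perm
open scoped commutatorElement

variable {Ω : Type*} [Fintype Ω] [DecidableEq Ω] {m p : ℕ} {ι : Fin m → Ω} {u w h h' t : Perm Ω}
  {π π' : Perm (Fin m)}

omit [Fintype Ω] [DecidableEq Ω] in
theorem ais (f : Perm Ω) (x : Ω) : f (f⁻¹ x) = x := f.apply_symm_apply x

omit [Fintype Ω] [DecidableEq Ω] in
theorem ias (f : Perm Ω) (x : Ω) : f⁻¹ (f x) = x := f.symm_apply_apply x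

def Ag (ι : Fin m → Ω) (h : Perm Ω) (π : Perm (Fin m)) : Prop := ∀ k, h (ι k) = ι (π k)

theorem Ag.mul (a : Ag ι h π) (b : Ag ι h' π') : Ag ι (h * h') (π * π') := fun k => by
  rw [Perm.mul_apply, b, a, Perm.mul_apply]

theorem Ag.inv (a : Ag ι h π) : Ag ι h⁻¹ π⁻¹ := fun k => by
  rw [inv_eq_iff_eq, a]; simp

theorem Ag.pow (a : Ag ι h π) (n : ℕ) : Ag ι (h ^ n) (π ^ n) := by
  induction n with
  | zero => exact fun k => rfl
  | succ n ih => rw [pow_succ, pow_succ]; exact ih.mul a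

theorem Ag.relabel (a : Ag ι h π) (τ : Perm (Fin m)) : Ag (ι ∘ τ) h (τ⁻¹ * π * τ) := fun k => by
  simp [a (τ k)]

def ev {G : Type*} [Group G] (a b : G) : List Bool → G
  | [] => 1
  | c :: l => (bif c then a else b) * ev a b l

abbrev Rel (π π' : Perm (Fin m)) (y z : List Bool) : Prop :=
  π ≠ 1 ∧ π = ev π π' z * ⁅π, ev π π' y * π * (ev π π' y)⁻¹⁆ * (ev π π' z)⁻¹

theorem nsolv (hι : Function.Injective ι) {H : Subgroup (Perm Ω)} (h1 : h ∈ H) (h2 : h' ∈ H)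
    (a : Ag ι h π) (b : Ag ι h' π') {y z : List Bool} (r : Rel π π' y z) :
    ¬ Group.IsSolvable H := by
  rintro ⟨n, hn⟩
  have e : ∀ l, Ag ι (ev (⟨h, h1⟩ : H) ⟨h', h2⟩ l : H) (ev π π' l) := fun l => by
    induction l with
    | nil => exact fun k => rfl
    | cons c l ih => cases c; exacts [b.mul ih, a.mul ih]
  have key : ∀ n, ∃ x ∈ derivedSeries H n, Ag ι (x : Perm Ω) π := fun n => by
    induction n with
    | zero => exact ⟨⟨h, h1⟩, trivial, a⟩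
    | succ n ih =>
      obtain ⟨x, hx, ha⟩ := ih
      refine ⟨_, (derivedSeries_normal _ _).conj_mem _ (Subgroup.commutator_mem_commutator hx
        ((derivedSeries_normal _ _).conj_mem _ hx (ev (⟨h, h1⟩ : H) ⟨h', h2⟩ y)))
        (ev (⟨h, h1⟩ : H) ⟨h', h2⟩ z), ?_⟩
      rw [r.2]
      have h3 := ((e y).mul ha).mul (e y).inv
      exact ((e z).mul (((ha.mul h3).mul ha.inv).mul h3.inv)).mul (e z).inv
  obtain ⟨x, hx, ha⟩ := key n
  rw [hn, Subgroup.mem_bot] at hx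
  exact r.1 (Equiv.ext fun k => hι (by rw [← ha k, hx]; rfl))

def NP (p : ℕ) (t : Perm Ω) : Prop := ∀ k, t ^ p ^ k ≠ 1

theorem np_pt {e : ℕ} {z : Ω} (h1 : (t ^ e) z = z) (h2 : t z ≠ z) (h3 : e.Coprime p) : NP p t :=
  fun k hk => by
    have h4 : MulAction.period t z ∣ e := MulAction.pow_smul_eq_iff_period_dvd.1 h1
    have h5 : MulAction.period t z ∣ p ^ k :=
      MulAction.pow_smul_eq_iff_period_dvd.1 (by rw [hk]; rfl)
    have h6 := MulAction.pow_smul_eq_iff_period_dvd.2 (Nat.dvd_gcd h4 h5)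
    rw [(h3.pow_right k).gcd_eq_one, pow_one] at h6
    exact h2 h6

theorem np_ag (hι : Function.Injective ι) {q e : ℕ} (a : Ag ι (t ^ q) π) (h1 : π ≠ 1)
    (h2 : π ^ e = 1) (h3 : e.Coprime p) : NP p t := fun k hk => by
  obtain ⟨j, hj⟩ : ∃ j, π j ≠ j := by
    by_contra! h; exact h1 (Equiv.ext h)
  refine np_pt (t := t ^ q) (z := ι j) (by rw [a.pow e, h2]; rfl) (by rw [a]; exact hι.ne hj) h3 k ?_
  rw [← pow_mul, mul_comm, pow_mul, hk, one_pow]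

def Good (p : ℕ) (u w : Perm Ω) : Prop :=
  NP p (u * w) ∧ ∀ H : Subgroup (Perm Ω), u ∈ H → w ∈ H → ¬ Group.IsSolvable H

theorem Good.conj (a : Good p u w) (g : Perm Ω) : Good p (g * u * g⁻¹) (g * w * g⁻¹) := by
  refine ⟨fun k hk => a.1 k ?_, fun H h1 h2 h3 => a.2 (H.map (MulAut.conj g⁻¹).toMonoidHom)
    ⟨_, h1, by simp [mul_assoc]⟩ ⟨_, h2, by simp [mul_assoc]⟩
    (Group.isSolvable_of_surjective (MonoidHom.subgroupMap_surjective _ H))⟩
  rwa [conj_mul, conj_pow, conj_eq_one_iff] at hk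

theorem Good.symm (a : Good p u w) : Good p w u := by
  refine ⟨fun k hk => a.1 k ?_, fun H h1 h2 => a.2 H h2 h1⟩
  rw [show u * w = u * (w * u) * u⁻¹ by group, conj_pow, hk]; group

def Goal (p : ℕ) (u w : Perm Ω) : Prop := ∃ g : Perm Ω, sign g = 1 ∧ Good p u (g * w * g⁻¹)

theorem Goal.symm (a : Goal p u w) : Goal p w u := by
  obtain ⟨g, h1, h2⟩ := a
  refine ⟨g⁻¹, by simpa using h1, ?_⟩
  have := (h2.conj g⁻¹).symm
  rwa [show g⁻¹ * (g * w * g⁻¹) * g⁻¹⁻¹ = w by group] at this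

theorem goal_of {g ζ : Perm Ω} (a : Good p u (g * w * g⁻¹)) (h1 : ζ * u * ζ⁻¹ = u)
    (h2 : sign ζ = -1) : Goal p u w := by
  rcases Int.units_eq_one_or (sign g) with e | e
  · exact ⟨g, e, a⟩
  refine ⟨ζ * g, by rw [Perm.sign_mul, e, h2]; simp, ?_⟩
  have := a.conj ζ
  rwa [h1, show ζ * (g * w * g⁻¹) * ζ⁻¹ = ζ * g * w * (ζ * g)⁻¹ by group] at this

theorem ret {z : Ω} {e : ℕ} (h : ∀ j, 0 < j → j ≤ e → u ((w ^ j) z) = (w ^ j) z) :
    ((u * w) ^ (e + 1)) z = u ((w ^ (e + 1)) z) := by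
  induction e with
  | zero => simp
  | succ e ih =>
    rw [pow_succ' _ (e + 1), Perm.mul_apply, ih fun j a b => h j a (by omega),
      h _ (by omega) le_rfl, pow_succ' w (e + 1)]
    rfl

theorem tw {D : Set Ω} {x0 x1 β γ : Ω} (h0 : x0 ∈ D) (h1 : x1 ∈ D) (ha : w x1 ∉ D) (hb : w⁻¹ x0 ∉ D)
    (hab : w x1 ≠ w⁻¹ x0) (hβ : β ∉ D) (hγ : γ ∉ D) (hne : γ ≠ β) : ∃ σ : Perm Ω,
      (∀ z ∈ D, σ z = z) ∧ (σ * w * σ⁻¹) x1 = γ ∧ (σ * w * σ⁻¹) β = x0 := by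
  obtain ⟨σ, h2, h3, h4⟩ : ∃ σ : Perm Ω, (∀ z ∈ D, σ z = z) ∧ σ (w x1) = γ ∧ σ (w⁻¹ x0) = β := by
    generalize w x1 = a at ha hab
    generalize w⁻¹ x0 = b at hb hab
    refine ⟨swap (swap a γ b) β * swap a γ, fun z hz => ?_, ?_, by simp⟩
    · have : z ≠ a := fun e => ha (e ▸ hz)
      have : z ≠ b := fun e => hb (e ▸ hz)
      have : z ≠ β := fun e => hβ (e ▸ hz)
      have : z ≠ γ := fun e => hγ (e ▸ hz)
      simp only [Perm.mul_apply]
      grind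
    · simp only [Perm.mul_apply]
      grind
  refine ⟨σ, h2, ?_, ?_⟩
  · rw [Perm.mul_apply, Perm.mul_apply, inv_eq_iff_eq.2 (h2 x1 h1).symm, h3]
  · rw [Perm.mul_apply, Perm.mul_apply, inv_eq_iff_eq.2 h4.symm]
    simpa using h2 x0 h0

def RR {α : Type*} [DecidableEq α] (ι : Fin m → α) : List (Fin m × Fin m) → Perm α
  | [] => 1
  | a :: l => swap (ι a.1) (ι a.2) * RR ι l

theorem ag_RR (hι : Function.Injective ι) (l : List (Fin m × Fin m)) :
    Ag ι (RR ι l) (RR id l) := by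
  induction l with
  | nil => exact fun k => rfl
  | cons a l ih => exact Ag.mul (fun k => hι.swap_apply _ _ _) ih

theorem RR_fix (l : List (Fin m × Fin m)) {z : Ω} (hz : ∀ k, z ≠ ι k) : RR ι l z = z := by
  induction l with
  | nil => rfl
  | cons a l ih => rw [RR, Perm.mul_apply, ih, swap_apply_of_ne_of_ne (hz _) (hz _)]

theorem RR_conj {l l' : List (Fin m × Fin m)}
    (H : List.Forall₂ (fun a b => h (ι a.1) = ι b.1 ∧ h (ι a.2) = ι b.2) l l') :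
    h * RR ι l * h⁻¹ = RR ι l' := by
  induction H with
  | nil => simp [RR]
  | cons a _ ih => rw [RR, RR, ← ih, ← a.1, ← a.2, swap_apply_apply, conj_mul]

theorem RR_ext (hι : Function.Injective ι) {l l' : List (Fin m × Fin m)} (H : RR id l = RR id l') :
    RR ι l = RR ι l' := Equiv.ext fun z => by
  by_cases hz : ∃ k, z = ι k
  · obtain ⟨k, rfl⟩ := hz
    rw [ag_RR hι, ag_RR hι, H]
  · push Not at hz
    rw [RR_fix _ hz, RR_fix _ hz]

theorem sign_RR (hι : Function.Injective ι) {l : List (Fin m × Fin m)} (H : ∀ a ∈ l, a.1 ≠ a.2) :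
    sign (RR ι l) = (-1) ^ l.length := by
  induction l with
  | nil => simp [RR]
  | cons a l ih =>
    rw [RR, Perm.sign_mul, sign_swap (hι.ne (H a (by simp))), ih fun b hb => H b (by simp [hb]),
      List.length_cons, pow_succ']

abbrev Sh (s : ℕ) (l l' : List (Fin m × Fin m)) : Prop :=
  List.Forall₂ (fun a b => b.1.val = s + a.1.val ∧ b.2.val = s + a.2.val) l l'

theorem core (hι : Function.Injective ι) {D : Set Ω} (hD : ∀ z, u z ∈ D ↔ z ∈ D)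
    (hιD : ∀ k, ι k ∈ D) (hu : ∀ (s : ℕ) (a b : Fin m), b.val = s + a.val → (u ^ s) (ι a) = ι b)
    {q : ℕ} (P1 : ∀ z ∈ D, (w ^ (q + 1)) (u z) = z) {a b : Fin m} (hab : a.val = 1 + b.val)
    (hc : (∀ z ∈ D, ∀ j, 0 < j → j ≤ q → (w ^ j) z ∉ D ∧ u ((w ^ j) z) = (w ^ j) z) ∨
      ∃ β ∉ D, w (ι a) = u⁻¹ β ∧ w β = ι b) (h2 : Nat.Coprime 2 p)
    (l l1 l2 l3 : List (Fin m × Fin m)) (s e : ℕ) (y z : List Bool) (he : e.Coprime p)
    (H : Sh 1 l l1 ∧ Sh s l l2 ∧ Sh (s + 1) l l3 ∧ RR id l a = a ∧ RR id l b = b ∧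
      (RR id l1 * (RR id l)⁻¹) ^ e = 1 ∧
      Rel (RR id l1 * (RR id l)⁻¹) (RR id l3 * (RR id l2)⁻¹) y z) :
    Good p u (RR ι l * w * (RR ι l)⁻¹) := by
  obtain ⟨s1, s2, s3, ha, hb, h4, hr⟩ := H
  have cj : ∀ {s l'}, Sh s l l' → u ^ s * RR ι l * (u ^ s)⁻¹ = RR ι l' := fun hs =>
    RR_conj (hs.imp fun _ _ c => ⟨hu _ _ _ c.1, hu _ _ _ c.2⟩)
  have fx : ∀ z ∉ D, RR ι l z = z := fun z hz => RR_fix _ fun k e => hz (e ▸ hιD k)
  have fx' : ∀ z ∈ D, (RR ι l)⁻¹ z ∈ D := fun z hz => by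
    by_contra h
    have := fx _ h
    rw [ais] at this
    exact h (this ▸ hz)
  have hD' : ∀ z ∈ D, u⁻¹ z ∈ D := fun z hz => (hD _).1 (by simpa using hz)
  have hD'' : ∀ n : ℕ, ∀ z ∈ D, (u ^ n)⁻¹ z ∈ D := fun n => by
    induction n with
    | zero => exact fun z hz => hz
    | succ n ih => exact fun z hz => by rw [pow_succ, mul_inv_rev]; exact hD' _ (ih z hz)
  have e1 : ∀ z ∈ D, (u * (RR ι l * w * (RR ι l)⁻¹) ^ (q + 1)) z =
      (u * RR ι l * u⁻¹ * (RR ι l)⁻¹) z := fun z hz => by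
    have := P1 _ (hD' _ (fx' z hz))
    rw [ais] at this
    simp only [conj_pow, Perm.mul_apply, this]
  have A1 : Ag ι (u * (RR ι l * w * (RR ι l)⁻¹) ^ (q + 1)) (RR id l1 * (RR id l)⁻¹) := fun k => by
    rw [e1 _ (hιD k), ← ((ag_RR hι l1).mul (ag_RR hι l).inv) k, ← cj s1, pow_one]
  have A2 : Ag ι (u ^ s * (u * (RR ι l * w * (RR ι l)⁻¹) ^ (q + 1)) * (u ^ s)⁻¹)
      (RR id l3 * (RR id l2)⁻¹) := fun k => by
    rw [Perm.mul_apply, Perm.mul_apply, e1 _ (hD'' s _ (hιD k)),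
      ← ((ag_RR hι l3).mul (ag_RR hι l2).inv) k, ← cj s2, ← cj s3, ← Perm.mul_apply,
      ← Perm.mul_apply]
    congr 1
    group
  refine ⟨?_, fun H h1 h3 => nsolv hι (mul_mem h1 (pow_mem h3 _)) (mul_mem (mul_mem (pow_mem h1 _)
    (mul_mem h1 (pow_mem h3 _))) (inv_mem (pow_mem h1 _))) A1 A2 hr⟩
  rcases hc with hc | ⟨β, hβ, h5, h6⟩
  · refine np_ag hι (q := q + 1) (fun k => ?_) hr.1 h4 he
    rw [ret, ← A1 k, Perm.mul_apply]
    intro j h1 h3
    obtain ⟨h5, h6⟩ := hc _ (fx' _ (hιD k)) j h1 h3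
    rw [conj_pow, Perm.mul_apply, Perm.mul_apply, fx _ h5, h6]
  · have h7 : RR ι l (ι a) = ι a := by rw [ag_RR hι, ha]
    have h8 : RR ι l (ι b) = ι b := by rw [ag_RR hι, hb]
    have h9 : (u * (RR ι l * w * (RR ι l)⁻¹)) (ι a) = β := by
      simp only [Perm.mul_apply]
      rw [inv_eq_iff_eq.2 h7.symm, h5, fx _ fun e => hβ (by simpa using (hD _).2 e)]
      simp
    refine np_pt (z := ι a) ?_ (by rw [h9]; exact fun e => hβ (e ▸ hιD a)) h2
    rw [sq, Perm.mul_apply, h9]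
    simp only [Perm.mul_apply]
    rw [inv_eq_iff_eq.2 (fx β hβ).symm, h6, h8, ← hu 1 b a hab, pow_one]

def Per (u : Perm Ω) (x : Ω) (M : ℕ) : Prop := ∀ i j : ℤ, (u ^ i) x = (u ^ j) x ↔ (M : ℤ) ∣ i - j

theorem Per.inj {x : Ω} {M i j : ℕ} (h : Per u x M) (hi : i < M) (hj : j < M)
    (e : (u ^ i) x = (u ^ j) x) : i = j := by
  have := Int.eq_zero_of_abs_lt_dvd ((h i j).1 (by simpa using e)) (by rw [abs_lt]; omega)
  omega

theorem exists_per (hp : p.Prime) {a : ℕ} (h : orderOf u = p ^ (a + 1)) :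
    ∃ x, Per u x (p ^ (a + 1)) := by
  obtain ⟨x, hx⟩ : ∃ x, (u ^ p ^ a) x ≠ x := by
    by_contra! h1
    have := (Nat.pow_dvd_pow_iff_le_right hp.one_lt).1
      (h ▸ orderOf_dvd_of_pow_eq_one (Equiv.ext h1 : u ^ p ^ a = 1))
    omega
  obtain ⟨i, hi, e⟩ := (Nat.dvd_prime_pow hp).1 (h ▸ MulAction.period_dvd_orderOf u x)
  obtain rfl : i = a + 1 := by
    by_contra h2
    exact hx ((MulAction.pow_smul_eq_iff_period_dvd (n := p ^ a)).2
      (by rw [e]; exact pow_dvd_pow p (by omega)))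
  refine ⟨x, fun i j => ?_⟩
  rw [← e, ← MulAction.zpow_smul_eq_iff_period_dvd, sub_eq_neg_add, zpow_add, zpow_neg]
  exact inv_eq_iff_eq.symm

theorem setup {x y : Ω} {M q : ℕ} (hx : Per u x M) (hy : Per w y (M * (q + 1))) (hq : q ≠ 1)
    (hM : 0 < M) {x0 x1 : Ω} (h0 : ∃ k : ℤ, x0 = (u ^ k) x) (h1 : ∃ k : ℤ, x1 = (u ^ k) x) :
    ∃ g : Perm Ω, (∀ z ∈ {z | ∃ k : ℤ, z = (u ^ k) x}, ((g * w * g⁻¹) ^ (q + 1)) (u z) = z) ∧
      ((∀ z ∈ {z | ∃ k : ℤ, z = (u ^ k) x}, ∀ j, 0 < j → j ≤ q →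
        ((g * w * g⁻¹) ^ j) z ∉ {z | ∃ k : ℤ, z = (u ^ k) x} ∧
        u (((g * w * g⁻¹) ^ j) z) = ((g * w * g⁻¹) ^ j) z) ∨
      ∃ β ∉ {z | ∃ k : ℤ, z = (u ^ k) x}, (g * w * g⁻¹) x1 = u⁻¹ β ∧ (g * w * g⁻¹) β = x0) := by
  have hq0 : ((q : ℤ) + 1) ≠ 0 := by omega
  have hy' : ∀ i j : ℤ, (w ^ (-((q + 1) * i))) y = (w ^ (-((q + 1) * j))) y ↔ (M : ℤ) ∣ i - j :=
    fun i j => by
      rw [hy, ← dvd_neg, show -(-((q + 1 : ℤ) * i) - -((q + 1) * j)) = (i - j) * (q + 1) by ring]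
      push_cast
      exact Int.mul_dvd_mul_iff_right hq0
  obtain ⟨g, hg⟩ := Perm.exists_extending_pair (fun k : Fin M => (w ^ (-((q + 1) * (k : ℤ)))) y)
    (fun k => (u ^ (k : ℕ)) x) (fun a b e => Fin.ext (hx.inj a.2 b.2 (by
      simpa using (hx _ _).2 ((hy' _ _).1 e)))) fun a b e => Fin.ext (hx.inj a.2 b.2 e)
  have hg' : ∀ k : ℤ, g ((w ^ (-((q + 1) * k))) y) = (u ^ k) x := fun k => by
    have h2 := Int.emod_nonneg k (show (M : ℤ) ≠ 0 by omega)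
    have h3 := Int.emod_lt_of_pos k (show (0 : ℤ) < M by omega)
    have h4 : (M : ℤ) ∣ k - k % M := Int.dvd_self_sub_emod
    have h5 := hg ⟨(k % M).toNat, by omega⟩
    simp only [← zpow_natCast, Int.toNat_of_nonneg h2] at h5
    rw [(hy' _ _).2 h4, (hx _ _).2 h4, h5]
  set D := {z | ∃ k : ℤ, z = (u ^ k) x}
  have e : ∀ (j : ℕ) (k : ℤ), ((g * w * g⁻¹) ^ j) ((u ^ k) x) = g ((w ^ (j - (q + 1) * k)) y) :=
    fun j k => by
      rw [conj_pow, ← hg', Perm.mul_apply, Perm.mul_apply, ias, sub_eq_add_neg,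
        zpow_add, zpow_natCast, Perm.mul_apply]
  have P1 : ∀ z ∈ D, ((g * w * g⁻¹) ^ (q + 1)) (u z) = z := by
    rintro _ ⟨k, rfl⟩
    rw [← Perm.mul_apply u, ← zpow_one_add, e, ← hg']
    congr 3
    push_cast; ring
  have P2 : ∀ z ∈ D, ∀ j, 0 < j → j ≤ q → ((g * w * g⁻¹) ^ j) z ∉ D := by
    rintro _ ⟨k, rfl⟩ j a b ⟨k', h⟩
    rw [e, ← hg', g.injective.eq_iff, hy] at h
    have h2 : ((q : ℤ) + 1) ∣ j := by
      have h3 : ((q : ℤ) + 1) ∣ j - (q + 1) * k - -((q + 1) * k') :=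
        (Dvd.intro_left (M : ℤ) (by push_cast; rfl)).trans h
      rwa [sub_neg_eq_add, dvd_add_left (dvd_mul_right _ _), dvd_sub_left (dvd_mul_right _ _)] at h3
    have := Int.le_of_dvd (by omega) h2
    omega
  by_cases hc : ∀ z ∈ D, ∀ j, 0 < j → j ≤ q → u (((g * w * g⁻¹) ^ j) z) = ((g * w * g⁻¹) ^ j) z
  · exact ⟨g, P1, Or.inl fun z hz j a b => ⟨P2 z hz j a b, hc z hz j a b⟩⟩
  push Not at hc
  obtain ⟨z, hz, j, a, b, hc⟩ := hc
  have hβ := P2 z hz j a b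
  generalize ((g * w * g⁻¹) ^ j) z = β at hc hβ
  have hb : (g * w * g⁻¹)⁻¹ x0 ∉ D := fun h => P2 _ h 1 one_pos (by omega) (by
    rw [pow_one, ais]; exact h0)
  obtain ⟨σ, h2, h3, h4⟩ := tw (w := g * w * g⁻¹) (γ := u⁻¹ β) h0 h1
    (by simpa using P2 _ h1 1 one_pos (by omega)) hb (fun h => P2 _ h1 2 two_pos (by omega) (by
      rw [sq, Perm.mul_apply, h, ais]; exact h0)) hβ (by
      rintro ⟨k, hk⟩
      exact hβ ⟨1 + k, by rw [zpow_one_add, Perm.mul_apply, ← hk, ais]⟩)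
    fun h => hc (inv_eq_iff_eq.1 h).symm
  rw [show σ * (g * w * g⁻¹) * σ⁻¹ = σ * g * w * (σ * g)⁻¹ by group] at h3 h4
  refine ⟨σ * g, fun z hz => ?_, Or.inr ⟨β, hβ, h3, h4⟩⟩
  have h5 : u z ∈ D := by
    obtain ⟨k, rfl⟩ := hz
    exact ⟨1 + k, by rw [zpow_one_add, Perm.mul_apply]⟩
  rw [show σ * g * w * (σ * g)⁻¹ = σ * (g * w * g⁻¹) * σ⁻¹ by group, conj_pow, Perm.mul_apply,
    Perm.mul_apply, inv_eq_iff_eq.2 (h2 _ h5).symm, P1 z hz, h2 z hz]

theorem big {x y : Ω} {M q : ℕ} (hx : Per u x M) (hy : Per w y (M * (q + 1))) (hq : q ≠ 1)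
    (hp : p.Prime) (hM : 5 ≤ p ∧ 5 ≤ M ∨ p = 3 ∧ 6 ≤ M) : Goal p u w := by
  have hD : ∀ z, u z ∈ {z | ∃ k : ℤ, z = (u ^ k) x} ↔ z ∈ {z | ∃ k : ℤ, z = (u ^ k) x} := fun z =>
    ⟨fun ⟨k, hk⟩ => ⟨-1 + k, by rw [zpow_add, Perm.mul_apply, ← hk]; simp⟩,
      fun ⟨k, hk⟩ => ⟨1 + k, by rw [zpow_one_add, Perm.mul_apply, hk]⟩⟩
  have h2 : Nat.Coprime 2 p := (Nat.coprime_primes Nat.prime_two hp).2 (by omega)
  have gen : ∀ m ≤ M, ∀ a b : Fin m, a.val = 1 + b.val → ∃ (ι : Fin m → Ω) (g : Perm Ω),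
      Function.Injective ι ∧ ∀ (l l1 l2 l3 : List (Fin m × Fin m)) (s e : ℕ) (y z : List Bool),
      e.Coprime p → (Sh 1 l l1 ∧ Sh s l l2 ∧ Sh (s + 1) l l3 ∧ RR id l a = a ∧ RR id l b = b ∧
      (RR id l1 * (RR id l)⁻¹) ^ e = 1 ∧
      Rel (RR id l1 * (RR id l)⁻¹) (RR id l3 * (RR id l2)⁻¹) y z) → (∀ a ∈ l, a.1 ≠ a.2) →
      sign g = (-1) ^ l.length → Goal p u w := by
    intro m hm a b hab
    obtain ⟨g, P1, hc⟩ := setup hx hy hq (by omega) (x0 := (u ^ b.val) x) (x1 := (u ^ a.val) x)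
      ⟨b.val, by simp⟩ ⟨a.val, by simp⟩
    have hι : Function.Injective fun k : Fin m => (u ^ k.val) x := fun a b e =>
      Fin.ext (hx.inj (by omega) (by omega) e)
    refine ⟨_, g, hι, fun l l1 l2 l3 s e y z he H h3 h4 => ⟨RR (fun k : Fin m => (u ^ k.val) x) l * g,
      by rw [Perm.sign_mul, sign_RR hι h3, h4, ← mul_pow]; simp, ?_⟩⟩
    have := core hι hD (fun k => ⟨k.val, by simp⟩)
      (fun s a b e => by rw [e, pow_add, Perm.mul_apply]) P1 hab hc h2 l l1 l2 l3 s e y z he H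
    rwa [show ∀ r : Perm Ω, r * (g * w * g⁻¹) * r⁻¹ = r * g * w * (r * g)⁻¹ from fun r => by group]
      at this
  rcases hM with ⟨h5, hM⟩ | ⟨rfl, hM⟩
  · have h3 : Nat.Coprime 3 p := (Nat.coprime_primes Nat.prime_three hp).2 (by omega)
    obtain ⟨ι, g, hι, H⟩ := gen 5 hM 4 3 rfl
    rcases Int.units_eq_one_or (sign g) with e | e
    · exact H [(0, 1), (1, 2)] [(1, 2), (2, 3)] [(1, 2), (2, 3)] [(2, 3), (3, 4)] 1 3
        [false, true, true, false] [false] h3 (by decide +kernel) (by decide) e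
    · exact H [(0, 1)] [(1, 2)] [(2, 3)] [(3, 4)] 2 3
        [false, true, true, false] [false] h3 (by decide +kernel) (by decide) e
  · obtain ⟨ι, g, hι, H⟩ := gen 6 hM 5 4 rfl
    rcases Int.units_eq_one_or (sign g) with e | e
    · exact H [(0, 1), (2, 3)] [(1, 2), (3, 4)] [(1, 2), (3, 4)] [(2, 3), (4, 5)] 1 5
        [false] [false, false, false] (by decide) (by decide +kernel) (by decide) e
    · exact H [(0, 1), (0, 2), (2, 3)] [(1, 2), (1, 3), (3, 4)] [(1, 2), (1, 3), (3, 4)]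
        [(2, 3), (2, 4), (4, 5)] 1 5 [false] [false, true, false, false, true, true] (by decide)
        (by decide +kernel) (by decide) e

def c6 : Perm (Fin 6) := RR id [(0, 2), (2, 4), (1, 3), (3, 5)]

def t3 (m : ℕ) : Perm (Fin (m + 3)) := RR id [(0, 1), (1, 2)]

theorem model (h3 : u ^ 3 = 1) (h1 : u ≠ 1) :
    (∃ ι : Fin 6 → Ω, Function.Injective ι ∧ Ag ι u c6) ∨ ∀ m, m + 3 ≤ Fintype.card Ω →
      ∃ ι : Fin (m + 3) → Ω, Function.Injective ι ∧ Ag ι u (t3 m) ∧ ∀ z ∉ Set.range ι, u z = z := by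
  obtain ⟨x, hx⟩ : ∃ x, u x ≠ x := by
    by_contra! h; exact h1 (Equiv.ext h)
  have e : ∀ z, u (u (u z)) = z := fun z => by
    rw [← Perm.mul_apply, ← Perm.mul_apply, ← pow_three', h3, Perm.one_apply]
  have inj := u.injective
  by_cases h : ∃ z, u z ≠ z ∧ z ≠ x ∧ z ≠ u x ∧ z ≠ u (u x)
  · obtain ⟨z, a, b, c, d⟩ := h
    refine Or.inl ⟨![x, z, u x, u z, u (u x), u (u z)], ?_, fun k => ?_⟩
    · rw [← List.nodup_ofFn]
      have := e x
      have := e z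
      simp only [List.ofFn_succ, List.ofFn_zero, Matrix.cons_val_zero, Matrix.cons_val_succ,
        List.nodup_cons, List.mem_cons, List.not_mem_nil, or_false, not_or]
      grind
    · fin_cases k
      exacts [rfl, rfl, rfl, rfl, e x, e z]
  push Not at h
  refine Or.inr fun m hm => ?_
  obtain ⟨f⟩ := Function.Embedding.nonempty_of_card_le (α := Fin (m + 3)) (β := Ω) (by simpa)
  obtain ⟨σ, hσ⟩ := Perm.exists_extending_pair (fun i : Fin 3 => f (i.castLE (Nat.le_add_left 3 m)))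
    ![x, u x, u (u x)] (f.injective.comp (Fin.castLE_injective (Nat.le_add_left 3 m))) (by
      rw [← List.nodup_ofFn]
      have := e x
      simp only [List.ofFn_succ, List.ofFn_zero, Matrix.cons_val_zero, Matrix.cons_val_succ,
        List.nodup_cons, List.mem_cons, List.not_mem_nil, or_false, not_or]
      grind)
  have h0 : σ (f 0) = x := hσ 0
  have h1 : σ (f 1) = u x := hσ 1
  have h2 : σ (f 2) = u (u x) := hσ 2
  have hi : Function.Injective fun k => σ (f k) := σ.injective.comp f.injective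
  have fx : ∀ z, z ≠ σ (f 0) → z ≠ σ (f 1) → z ≠ σ (f 2) → u z = z := fun z a b c => by
    by_contra hz
    exact c (h2 ▸ h z hz (h0 ▸ a) (h1 ▸ b))
  have n01 : (0 : Fin (m + 3)) ≠ 1 := by simp
  have n02 : (0 : Fin (m + 3)) ≠ 2 := fun e =>
    absurd (show (0 : ℕ) = 2 from congrArg Fin.val e) (by decide)
  have n12 : (1 : Fin (m + 3)) ≠ 2 := fun e =>
    absurd (show (1 : ℕ) = 2 from congrArg Fin.val e) (by decide)
  refine ⟨_, hi, fun k => ?_, fun z hz => fx z (fun e => hz ⟨0, e.symm⟩) (fun e => hz ⟨1, e.symm⟩)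
    fun e => hz ⟨2, e.symm⟩⟩
  simp only [t3, RR, id, mul_one, Perm.mul_apply]
  by_cases a : k = 0
  · rw [a, swap_apply_of_ne_of_ne n01 n02, swap_apply_left, h0, h1]
  by_cases b : k = 1
  · rw [b, swap_apply_left, swap_apply_of_ne_of_ne n02.symm n12.symm, h1, h2]
  by_cases c : k = 2
  · rw [c, swap_apply_right, swap_apply_right, h2, h0, e]
  rw [swap_apply_of_ne_of_ne b c, swap_apply_of_ne_of_ne a b, fx _ (hi.ne a) (hi.ne b) (hi.ne c)]

theorem goal3 (h3 : u ^ 3 = 1) (h1 : u ≠ 1) (h5 : 5 ≤ Fintype.card Ω)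
    (h : ∃ g : Perm Ω, Good p u (g * w * g⁻¹)) : Goal p u w := by
  obtain ⟨g, hg⟩ := h
  rcases model h3 h1 with ⟨ι, hι, a⟩ | h
  · refine goal_of hg (ζ := RR ι [(0, 1), (2, 3), (4, 5)]) ?_ (by rw [sign_RR hι (by decide)]; rfl)
    have := (RR_conj (l := [(0, 1), (2, 3), (4, 5)]) (l' := [(2, 3), (4, 5), (0, 1)])
      (.cons ⟨a 0, a 1⟩ (.cons ⟨a 2, a 3⟩ (.cons ⟨a 4, a 5⟩ .nil)))).trans
      (RR_ext hι (l' := [(0, 1), (2, 3), (4, 5)]) (by decide))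
    rw [mul_inv_eq_iff_eq_mul] at this ⊢
    exact this.symm
  · obtain ⟨ι, hι, a, -⟩ := h 2 h5
    refine goal_of hg (ζ := RR ι [(3, 4)]) ?_ (by rw [sign_RR hι (by decide)]; rfl)
    have := RR_conj (l := [(3, 4)]) (l' := [(3, 4)]) (.cons ⟨a 3, a 4⟩ .nil)
    rw [mul_inv_eq_iff_eq_mul] at this ⊢
    exact this.symm

theorem small {κ : Fin m → Ω} (hι : Function.Injective ι) (hκ : Function.Injective κ)
    (a : Ag ι u π) (b : Ag κ w π') (l : List (Fin m × Fin m)) (e : ℕ) (y z : List Bool)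
    (H : e.Coprime p ∧ ((RR id l)⁻¹ * π * RR id l * π') ^ e = 1 ∧
      (RR id l)⁻¹ * π * RR id l * π' ≠ 1 ∧ Rel ((RR id l)⁻¹ * π * RR id l) π' y z) :
    ∃ g : Perm Ω, Good p u (g * w * g⁻¹) := by
  have hi := hι.comp (RR id l).injective
  obtain ⟨g, hg⟩ := Perm.exists_extending_pair κ _ hκ hi
  have b' : Ag (ι ∘ RR id l) (g * w * g⁻¹) π' := fun k => by
    rw [← hg, Perm.mul_apply, Perm.mul_apply, ias, b, hg]
  exact ⟨g, np_ag hi (q := 1) (by rw [pow_one]; exact (a.relabel _).mul b') H.2.2.1 H.2.1 H.1,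
    fun K h1 h2 => nsolv hi h1 h2 (a.relabel _) b' H.2.2.2⟩

theorem big3 {ι : Fin 6 → Ω} {π : Perm (Fin 6)} (hι : Function.Injective ι) (a : Ag ι u π) {y : Ω}
    {c : ℕ} (hy : Per w y (3 * 3 ^ (c + 1))) {l l' : List Bool} (hr : Rel π c6 l l')
    (h2 : π 2 = 1) (h0 : π 0 = 3 ∨ ∀ z ∉ Set.range ι, u z = z) :
    ∃ g : Perm Ω, Good 3 u (g * w * g⁻¹) := by
  obtain ⟨q, hq⟩ : ∃ q, 3 ^ (c + 1) = q + 3 := ⟨3 ^ (c + 1) - 3, by
    have := Nat.one_le_pow c 3 (by norm_num); omega⟩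
  have hcop : (q + 1 + 1).Coprime 3 := by
    rw [Nat.coprime_comm, Nat.Prime.coprime_iff_not_dvd Nat.prime_three]; omega
  rw [hq] at hy
  let E : Fin 6 → ℕ := ![0, 1, q + 3, q + 4, 2 * q + 6, 2 * q + 7]
  have hE : ∀ k, E k < 3 * (q + 3) := fun k => by fin_cases k <;> simp [E] <;> omega
  obtain ⟨g, hg⟩ := Perm.exists_extending_pair (fun k => (w ^ E k) y) ι (fun i j e => by
    have := hy.inj (hE i) (hE j) e
    fin_cases i <;> fin_cases j <;> simp [E] at this ⊢ <;> omega) hι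
  have e : ∀ j k, ((g * w * g⁻¹) ^ j) (ι k) = g ((w ^ (j + E k)) y) := fun j k => by
    rw [conj_pow, ← hg, Perm.mul_apply, Perm.mul_apply, ias, pow_add, Perm.mul_apply]
  have e' : ∀ i < 3 * (q + 3), g ((w ^ i) y) ∈ Set.range ι → ∃ k, E k = i := by
    rintro i hi ⟨k, hk⟩
    rw [← hg, g.injective.eq_iff] at hk
    exact ⟨k, hy.inj (hE k) hi hk⟩
  have e3 : ∀ i, (w ^ (3 * (q + 3) + i)) y = (w ^ i) y := fun i => by
    simpa only [zpow_natCast] using (hy (3 * (q + 3) + i : ℕ) i).2 (by push_cast; simp)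
  have b : Ag ι ((g * w * g⁻¹) ^ (q + 3)) c6 := fun k => by
    rw [e, ← hg]
    congr 1
    fin_cases k
    · rfl
    · rfl
    · exact congrArg (fun i => (w ^ i) y) (show q + 3 + (q + 3) = 2 * q + 6 by omega)
    · exact congrArg (fun i => (w ^ i) y) (show q + 3 + (q + 4) = 2 * q + 7 by omega)
    · exact (congrArg (fun i => (w ^ i) y) (show q + 3 + (2 * q + 6) = _ + 0 by omega)).trans (e3 0)
    · exact (congrArg (fun i => (w ^ i) y) (show q + 3 + (2 * q + 7) = _ + 1 by omega)).trans (e3 1)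
  by_cases hm : ∀ z ∉ Set.range ι, u z = z
  · refine ⟨g, ?_, fun K h1 h2 => nsolv hι h1 (pow_mem h2 _) a b hr⟩
    have h3 : ∀ j, 0 < j → j ≤ q + 1 → ((g * w * g⁻¹) ^ j) (ι 1) ∉ Set.range ι := fun j c d h => by
      rw [e] at h
      obtain ⟨k, hk⟩ := e' _ (show j + 1 < _ by omega) h
      fin_cases k <;> simp [E] at hk <;> omega
    have h4 := h3 1 one_pos (by omega)
    rw [pow_one] at h4
    refine np_pt (z := ι 1) ?_ (by rw [Perm.mul_apply, hm _ h4]; exact fun e => h4 ⟨1, e.symm⟩) hcop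
    rw [ret fun j c d => hm _ (h3 j c d), e]
    exact (congrArg u (hg 2)).trans ((a 2).trans (congrArg ι h2))
  have h0 := h0.resolve_right hm
  push Not at hm
  obtain ⟨β, hβ, hm⟩ := hm
  have h3 : (g * w * g⁻¹) (ι 3) = g ((w ^ (1 + (q + 4))) y) := by rw [← pow_one (g * w * g⁻¹), e]; rfl
  have h4 : (g * w * g⁻¹)⁻¹ (ι 0) = g ((w ^ (3 * q + 8)) y) := by
    rw [inv_eq_iff_eq, Perm.mul_apply, Perm.mul_apply, ias, ← Perm.mul_apply w, ← pow_succ', ← hg]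
    exact congrArg g (e3 0).symm
  obtain ⟨σ, h5, h6, h7⟩ := tw (D := Set.range ι) (w := g * w * g⁻¹) (γ := u⁻¹ β) ⟨0, rfl⟩ ⟨3, rfl⟩
    (fun h => by
      obtain ⟨k, hk⟩ := e' _ (by omega) (h3 ▸ h)
      fin_cases k <;> simp [E] at hk <;> omega)
    (fun h => by
      obtain ⟨k, hk⟩ := e' _ (by omega) (h4 ▸ h)
      fin_cases k <;> simp [E] at hk <;> omega)
    (fun h => by
      rw [h3, h4, g.injective.eq_iff] at h
      have := hy.inj (by omega) (by omega) h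
      omega) hβ
    (by rintro ⟨k, hk⟩; exact hβ ⟨π k, by rw [← a, hk, ais]⟩)
    fun h => hm (inv_eq_iff_eq.1 h).symm
  have b' : Ag ι ((σ * (g * w * g⁻¹) * σ⁻¹) ^ (q + 3)) c6 := fun k => by
    rw [conj_pow, Perm.mul_apply, Perm.mul_apply, inv_eq_iff_eq.2 (h5 _ ⟨k, rfl⟩).symm, b,
      h5 _ ⟨_, rfl⟩]
  refine ⟨σ * g, ?_⟩
  rw [show σ * g * w * (σ * g)⁻¹ = σ * (g * w * g⁻¹) * σ⁻¹ by group]
  refine ⟨np_pt (e := 2) (z := ι 3) ?_ ?_ (by decide),
    fun K h1 h2 => nsolv hι h1 (pow_mem h2 _) a b' hr⟩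
  · rw [sq, Perm.mul_apply, Perm.mul_apply u _ (ι 3), h6, ais, Perm.mul_apply u, h7, a, h0]
  · rw [Perm.mul_apply u, h6, ais]
    exact fun e => hβ ⟨3, e.symm⟩

theorem main (hp : p.Prime) (hp3 : 3 ≤ p) (h5 : 5 ≤ Fintype.card Ω) {a b : ℕ}
    (ha : orderOf u = p ^ (a + 1)) (hb : orderOf w = p ^ (a + 1 + b)) : Goal p u w := by
  have hb' : orderOf w = p ^ (a + b + 1) := by rw [hb]; ring
  obtain ⟨x, hx⟩ := exists_per hp ha
  obtain ⟨y, hy⟩ := exists_per hp hb'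
  by_cases h : 5 ≤ p ∧ 5 ≤ p ^ (a + 1) ∨ p = 3 ∧ 6 ≤ p ^ (a + 1)
  · obtain ⟨q, hq⟩ : ∃ q, p ^ b = q + 1 := ⟨p ^ b - 1, by have := Nat.one_le_pow b p hp.pos; omega⟩
    refine big hx (q := q) (by rw [← hq, ← pow_add, show a + 1 + b = a + b + 1 by omega]; exact hy)
      ?_ hp h
    rintro rfl
    have := (Nat.Prime.pow_eq_iff Nat.prime_two).1 hq
    omega
  obtain ⟨rfl, rfl⟩ : p = 3 ∧ a = 0 := by
    have h1 : p ≤ p ^ (a + 1) := Nat.le_self_pow (Nat.succ_ne_zero a) p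
    have h4 : p ≠ 4 := by rintro rfl; exact absurd hp (by decide)
    obtain rfl : p = 3 := by omega
    refine ⟨rfl, ?_⟩
    by_contra h2
    have := Nat.pow_le_pow_right (show 0 < 3 by norm_num) (show 2 ≤ a + 1 by omega)
    omega
  have hu3 : u ^ 3 = 1 := by simpa [ha] using pow_orderOf_eq_one u
  have hu1 : u ≠ 1 := by rintro rfl; simp at ha
  refine goal3 hu3 hu1 h5 ?_
  have six : ∀ κ : Fin 6 → Ω, Function.Injective κ → 3 + 3 ≤ Fintype.card Ω := fun κ h => by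
    simpa using Fintype.card_le_of_injective κ h
  rcases b with - | b
  · have hw3 : w ^ 3 = 1 := by simpa [hb] using pow_orderOf_eq_one w
    have hw1 : w ≠ 1 := by rintro rfl; simp at hb
    rcases model hu3 hu1 with ⟨ι, hι, A⟩ | A <;> rcases model hw3 hw1 with ⟨κ, hκ, B⟩ | B
    · exact small hι hκ A B [(0, 1), (1, 2)] 5 [false, true, true, false] [false]
        (by decide +kernel)
    · obtain ⟨κ, hκ, B, -⟩ := B 3 (six ι hι)
      exact small hι hκ A B [(0, 1)] 4 [false] [false, false, true, false] (by decide +kernel)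
    · obtain ⟨ι, hι, A, -⟩ := A 3 (six κ hκ)
      exact small hι hκ A B [(0, 1)] 4 [false] [false, false, true, false] (by decide +kernel)
    · obtain ⟨ι, hι, A, -⟩ := A 2 h5
      obtain ⟨κ, hκ, B, -⟩ := B 2 h5
      exact small hι hκ A B [(0, 3), (1, 4)] 5 [false, true, true, false] [false]
        (by decide +kernel)
  rw [show 3 ^ (0 + (b + 1) + 1) = 3 * 3 ^ (b + 1) by ring] at hy
  rcases model hu3 hu1 with ⟨ι, hι, A⟩ | A
  · exact big3 (hι.comp (RR id [(0, 1), (1, 2)]).injective) (A.relabel _) hy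
      (l := [false, true, true, false]) (l' := [false]) (by decide +kernel) (by decide)
      (Or.inl (by decide))
  · have := Nat.one_le_pow b 3 (by norm_num)
    obtain ⟨ι, hι, A, h⟩ := A 3 (six (fun k => (w ^ k.val) y) fun i j e =>
      Fin.ext (hy.inj (by omega) (by omega) e))
    exact big3 (hι.comp (RR id [(0, 1)]).injective) (A.relabel _) hy
      (l := [false]) (l' := [false, false, true, false]) (by decide +kernel) (by decide)
      (Or.inr fun z hz => h z (by rwa [(RR id [(0, 1)]).surjective.range_comp] at hz))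

end Aux

/-- Let n ≥ 5, p ≥ 3 a prime, and u, w non-identity elements of p-power order in the alternating group A_n. Then there is g ∈ A_n such that u·(g w g⁻¹) does not have p-power order and ⟨u, g w g⁻¹⟩ is not solvable. -/
theorem result (n : ℕ) (hn : 5 ≤ n) (p : ℕ) (hp : p.Prime) (hp3 : 3 ≤ p) (u w : alternatingGroup (Fin n)) (hu : u ≠ 1) (hw : w ≠ 1)
    (hu' : ∃ k : ℕ, orderOf u = p ^ k) (hw' : ∃ k : ℕ, orderOf w = p ^ k) :
    ∃ g : alternatingGroup (Fin n), (¬ ∃ k : ℕ, orderOf (u * (g * w * g⁻¹)) = p ^ k) ∧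
      ¬ Group.IsSolvable ↥(Subgroup.closure ({u, g * w * g⁻¹} : Set (alternatingGroup (Fin n)))) := by
  obtain ⟨a, ha⟩ := hu'
  obtain ⟨b, hb⟩ := hw'
  rw [← Subgroup.orderOf_coe] at ha hb
  rcases a with - | a
  · exact absurd (Subtype.ext (orderOf_eq_one_iff.1 ha)) hu
  rcases b with - | b
  · exact absurd (Subtype.ext (orderOf_eq_one_iff.1 hb)) hw
  obtain ⟨g, h1, h2, h3⟩ : Goal p u.1 w.1 := by
    rcases le_total a b with h | h
    · obtain ⟨c, rfl⟩ := Nat.exists_eq_add_of_le h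
      exact main hp hp3 (by simpa) ha (b := c) (by rw [hb]; ring)
    · obtain ⟨c, rfl⟩ := Nat.exists_eq_add_of_le h
      exact (main hp hp3 (by simpa) hb (b := c) (by rw [ha]; ring)).symm
  refine ⟨⟨g, h1⟩, fun ⟨k, hk⟩ => h2 k ?_, fun h => h3 (Subgroup.map (alternatingGroup _).subtype
    (Subgroup.closure {u, ⟨g, h1⟩ * w * ⟨g, h1⟩⁻¹}))
    ⟨_, Subgroup.subset_closure (Set.mem_insert _ _), rfl⟩
    ⟨_, Subgroup.subset_closure (Set.mem_insert_of_mem _ rfl), rfl⟩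
    (Group.isSolvable_of_surjective (MonoidHom.subgroupMap_surjective _ _))⟩
  rw [← hk]
  exact congrArg Subtype.val (pow_orderOf_eq_one (u * (⟨g, h1⟩ * w * ⟨g, h1⟩⁻¹)))

end Cfsg.Agent.S2276
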