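import Cfsg.Statements.S2277
import Cfsg.Agent.Lib.Grp.CoprimeAct

set_option autoImplicit false
open Cfsg

namespace Cfsg.Agent.S2277

section
open Subgroup CA.Act CA.CoprimeAct

universe u v

theorem irr0 {A V : Type*} [Group A] [Finite A] [CommGroup V] [Finite V] [MulDistribMulAction A V]
    {p : ℕ} [Fact p.Prime] (hp3 : 3 ≤ p) (hA : IsPGroup p A) {C D : Set A}
    (hC : ∀ H : Subgroup A, C ⊆ H → H = ⊤) (hD : ∀ H : Subgroup A, D ⊆ H → H = ⊤)
    (hf : ∀ a : A, (∀ v : V, a • v = v) → a = 1)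
    (hirr : ∀ W : Subgroup V, (∀ a : A, ∀ x ∈ W, a • x ∈ W) → W = ⊥ ∨ W = ⊤)
    (h : ∀ c ∈ C, ∀ d ∈ D, ∀ x : V, ∃ u v, d • u = u ∧ c • v = v ∧ x = u * v) :
    Subsingleton A := by
  by_contra hA1
  rw [not_subsingleton_iff_nontrivial] at hA1
  have hV : Nontrivial V := by
    by_contra hV
    rw [not_nontrivial_iff_subsingleton] at hV
    obtain ⟨a, ha⟩ := exists_ne (1 : A)
    exact ha (hf a fun v => Subsingleton.elim _ _)
  have fpf : ∀ z ∈ center A, z ≠ 1 → ∀ v : V, z • v = v → v = 1 := fun z hz hz1 v hv => by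
    rcases hirr (fixedBy V z) (fun a x hx => by
      rw [mem_fixedBy] at hx ⊢
      rw [smul_smul, ← mem_center_iff.1 hz a, mul_smul, hx]) with h1 | h1
    · exact mem_bot.1 (h1 ▸ hv)
    · exact absurd (hf z fun v => (h1 ▸ mem_top v : v ∈ fixedBy V z)) hz1
  by_cases hZ : center A = ⊤
  · obtain ⟨c, hc, hc1⟩ : ∃ c ∈ C, c ≠ 1 := by
      by_contra! H
      exact bot_ne_top (hC ⊥ H)
    obtain ⟨d, hd, hd1⟩ : ∃ c ∈ D, c ≠ 1 := by
      by_contra! H
      exact bot_ne_top (hD ⊥ H)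
    obtain ⟨x, hx⟩ := exists_ne (1 : V)
    obtain ⟨u, v, hu, hv, rfl⟩ := h c hc d hd x
    rw [fpf c (hZ ▸ mem_top c) hc1 v hv, fpf d (hZ ▸ mem_top d) hd1 u hu] at hx
    exact hx (mul_one 1)
  have : Nontrivial (A ⧸ center A) := QuotientGroup.nontrivial_iff.2 hZ
  obtain ⟨⟨a, ha⟩, ha1⟩ := @exists_ne _ (hA.to_quotient (center A)).center_nontrivial 1
  obtain ⟨a, rfl⟩ := QuotientGroup.mk_surjective a
  have ha2 : a ∉ center A := fun h => ha1 (Subtype.ext ((QuotientGroup.eq_one_iff a).2 h))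
  have ha3 : ∀ g, a * g * a⁻¹ * g⁻¹ ∈ center A := fun g => by
    rw [← QuotientGroup.eq_one_iff]
    simp [← mem_center_iff.1 ha (g : A ⧸ center A)]
  have cube : ∀ c : A, c * a ≠ a * c → Nat.card (fixedBy V c) ^ 3 ≤ Nat.card V := fun c hc => by
    obtain ⟨s, hs⟩ : ∃ s, s = (a * c * a⁻¹ * c⁻¹)⁻¹ := ⟨_, rfl⟩
    have s1 : s ∈ center A := hs ▸ inv_mem (ha3 c)
    have s2 : s ≠ 1 := fun h => hc (by
      rw [h, eq_comm, inv_eq_one, mul_inv_eq_one, mul_inv_eq_iff_eq_mul] at hs; exact hs.symm)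
    have s3 : s * s ≠ 1 := fun h => s2 (by
      obtain ⟨k, hk⟩ := hA.exists_orderOf_eq_pow s
      have h1 : orderOf s ∣ 2 := orderOf_dvd_of_pow_eq_one (by rwa [pow_two])
      rw [hk] at h1
      rcases k with _ | k
      · simpa using hk
      · have := Nat.le_of_dvd two_pos ((dvd_pow_self p k.succ_ne_zero).trans h1)
        omega)
    have e1 : c * a = s * (a * c) := by
      rw [← mem_center_iff.1 s1, hs]
      have := mem_center_iff.1 (ha3 c) (c * a)
      rw [eq_mul_inv_iff_mul_eq, this]; group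
    have e2 : ∀ (g : A) (v : V), g • s • v = s • g • v := fun g v => by
      rw [smul_smul, mem_center_iff.1 s1, mul_smul]
    have e3 : ∀ v : V, c • a • v = s • a • c • v := fun v => by
      rw [smul_smul, e1, mul_smul, mul_smul]
    let F := fixedBy V c
    let φ := MulDistribMulAction.toMonoidHom V a
    let ψ : F × F × F →* V := F.subtype.coprod ((φ.comp F.subtype).coprod ((φ.comp φ).comp F.subtype))
    have hψ : Function.Injective ψ := (injective_iff_map_eq_one ψ).2 (by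
      rintro ⟨⟨x, hx⟩, ⟨y, hy⟩, ⟨w, hw⟩⟩ E1
      change x * (a • y * a • a • w) = 1 at E1
      rw [mem_fixedBy] at hx hy hw
      have hy' : c • a • y = s • a • y := by rw [e3, hy]
      have hw' : c • a • a • w = s • s • a • a • w := by rw [e3, e3, hw, e2]
      have k : ∀ y w : V, c • y = s • y → c • w = s • s • w → x * (y * w) = 1 →
          x = 1 ∧ y = 1 ∧ w = 1 := fun y w hy hw E1 => by
        have E2 := congrArg (c • ·) E1
        simp only [smul_mul', hx, hy, hw, smul_one] at E2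
        have E3 := congrArg (c • ·) E2
        simp only [smul_mul', hx, e2, hy, hw, smul_one] at E3
        have E4 : y * w = s • y * s • s • w := mul_left_cancel (E1.trans E2.symm)
        have E5 : s • y * s • s • w = s • s • y * s • s • s • s • w := mul_left_cancel (E2.trans E3.symm)
        have E6 := congrArg (s • ·) E4
        simp only [smul_mul'] at E6
        have E7 : s • s • s • w / s • w = 1 := fpf s s1 s2 _ (by
          rw [smul_div', div_eq_div_iff_mul_eq_mul]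
          apply mul_left_cancel (a := s • y * s • s • y)
          calc _ = (s • s • y * s • s • s • s • w) * (s • y * s • w) := by ac_rfl
            _ = (s • y * s • s • w) * (s • s • y * s • s • s • w) := by rw [← E5, E6]
            _ = _ := by ac_rfl)
        have E8 : s • w = 1 := fpf (s * s) (mul_mem s1 s1) s3 _ (by rw [mul_smul]; exact div_eq_one.1 E7)
        obtain rfl : w = 1 := by simpa using congrArg (s⁻¹ • ·) E8
        obtain rfl : y = 1 := fpf s s1 s2 y (by simpa using E4.symm)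
        simpa using E1
      obtain ⟨rfl, k2, k3⟩ := k _ _ hy' hw' E1
      obtain rfl : y = 1 := by simpa using congrArg (a⁻¹ • ·) k2
      obtain rfl : w = 1 := by simpa using congrArg (a⁻¹ • a⁻¹ • ·) k3
      rfl)
    have := Nat.card_le_card_of_injective _ hψ
    rwa [Nat.card_prod, Nat.card_prod, ← pow_three] at this
  have ex : ∀ C : Set A, (∀ H : Subgroup A, C ⊆ H → H = ⊤) → ∃ c ∈ C, c * a ≠ a * c := fun C hC => by
    by_contra! H
    have := hC (centralizer {a}) fun c hc => mem_centralizer_singleton_iff.2 (H c hc)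
    exact ha2 (mem_center_iff.2 fun g => mem_centralizer_singleton_iff.1 (this ▸ mem_top g))
  obtain ⟨c, hc, hc1⟩ := ex C hC
  obtain ⟨d, hd, hd1⟩ := ex D hD
  have h1 := Nat.card_le_card_of_surjective (fun x : fixedBy V d × fixedBy V c => x.1.1 * x.2.1)
    fun x => by
      obtain ⟨u, v, hu, hv, rfl⟩ := h c hc d hd x
      exact ⟨(⟨u, hu⟩, ⟨v, hv⟩), rfl⟩
  rw [Nat.card_prod] at h1
  have h2 := Nat.pow_le_pow_left h1 3
  have h3 := Nat.mul_le_mul (cube d hd1) (cube c hc1)
  have h4 : 1 < Nat.card V := Finite.one_lt_card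
  rw [mul_pow] at h2
  nlinarith [h2.trans h3, Nat.mul_pos (Nat.lt_trans one_pos h4) (Nat.lt_trans one_pos h4)]

theorem main {A : Type u} [Group A] [Finite A] {p : ℕ} [Fact p.Prime] (hp3 : 3 ≤ p)
    (hA : IsPGroup p A) {C D : Set A}
    (hC : ∀ H : Subgroup A, C ⊆ H → H = ⊤) (hD : ∀ H : Subgroup A, D ⊆ H → H = ⊤) (n : ℕ) :
    ∀ (K : Type v) [Group K] [Finite K] [MulDistribMulAction A K], Nat.card K = n →
      (Nat.card A).Coprime (Nat.card K) → (∀ S : Subgroup K, (∀ a : A, ∀ x ∈ S, a • x ∈ S) →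
        ∀ c ∈ C, ∀ d ∈ D, ∀ x ∈ S, ∃ u ∈ S, ∃ v ∈ S, d • u = u ∧ c • v = v ∧ x = u * v) →
      ∀ (a : A) (k : K), a • k = k := by
  induction n using Nat.strong_induction_on with | _ n ih
  intro K _ _ _ hn hcop h
  have sub : ∀ S : Subgroup K, (∀ a : A, ∀ x ∈ S, a • x ∈ S) → S ≠ ⊤ → ∀ a : A, ∀ x ∈ S, a • x = x :=
    fun S hS hS1 a x hx => by
    letI := subAct S hS
    refine congrArg Subtype.val (ih _ (by
      simpa [hn] using CA.SylIn.card_lt_of_lt (lt_top_iff_ne_top.2 hS1)) S rfl (cop_sub hcop S)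
      (fun T hT c hc d hd y hy => ?_) a ⟨x, hx⟩)
    obtain ⟨_, ⟨u, hu, rfl⟩, _, ⟨v, hv, rfl⟩, h1, h2, h3⟩ := h (T.map S.subtype) (by
      rintro a _ ⟨y, hy, rfl⟩; exact ⟨a • y, hT a y hy, rfl⟩) c hc d hd y ⟨y, hy, rfl⟩
    exact ⟨u, hu, v, hv, Subtype.ext h1, Subtype.ext h2, Subtype.ext h3⟩
  by_cases h1 : ∃ N : Subgroup K, N.Normal ∧ (∀ a : A, ∀ x ∈ N, a • x ∈ N) ∧ N ≠ ⊥ ∧ N ≠ ⊤
  · obtain ⟨N, _, hN, h1, h2⟩ := h1
    letI := quotAct N hN
    refine fixed_of_stable (cop_sub hcop N) (sub N hN h2) fun a k => ?_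
    rw [← QuotientGroup.eq, ← quotAct_smul_mk N hN, eq_comm]
    refine ih _ ?_ (K ⧸ N) rfl (hcop.coprime_dvd_right (card_quotient_dvd_card N))
      (fun T hT c hc d hd y hy => ?_) a _
    · rw [← hn, card_eq_card_quotient_mul_card_subgroup N]
      exact lt_mul_of_one_lt_right Nat.card_pos (N.one_lt_card_iff_ne_bot.2 h1)
    · obtain ⟨y, rfl⟩ := QuotientGroup.mk_surjective y
      obtain ⟨u, hu, v, hv, h1, h2, rfl⟩ := h (T.comap (QuotientGroup.mk' N))
        (fun a x hx => hT a _ hx) c hc d hd y hy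
      exact ⟨u, hu, v, hv, congrArg QuotientGroup.mk h1, congrArg QuotientGroup.mk h2, rfl⟩
  push Not at h1
  by_cases h2 : ∃ r : ℕ, r.Prime ∧ IsPGroup r K
  · obtain ⟨r, hr, h2⟩ := h2
    have := Fact.mk hr
    rcases subsingleton_or_nontrivial K with hK | hK
    · exact fun a k => Subsingleton.elim _ _
    have h3 : center K = ⊤ := h1 _ inferInstance (smul_mem_of_characteristic _)
      ((center K).nontrivial_iff_ne_bot.1 h2.center_nontrivial)
    letI : CommGroup K := { (inferInstance : Group K) with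
      mul_comm := fun x y => mem_center_iff.1 (h3 ▸ mem_top y) x }
    let φ := MulDistribMulAction.toMulAut A K
    have key : ∀ C : Set A, (∀ H : Subgroup A, C ⊆ H → H = ⊤) →
        ∀ H : Subgroup φ.range, φ.rangeRestrict '' C ⊆ H → H = ⊤ := fun C hC H hH => by
      have := hC (H.comap φ.rangeRestrict) fun c hc => hH ⟨c, hc, rfl⟩
      rw [eq_top_iff]
      intro x _
      obtain ⟨x, rfl⟩ := φ.rangeRestrict_surjective x
      exact (this ▸ mem_top x : x ∈ H.comap φ.rangeRestrict)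
    have := irr0 (A := φ.range) (V := K) hp3 (hA.of_surjective _ φ.rangeRestrict_surjective)
      (key C hC) (key D hD) (fun a ha => Subtype.ext (MulEquiv.ext ha))
      (fun W hW => or_iff_not_imp_left.2 (h1 W inferInstance fun a => hW (φ.rangeRestrict a))) (by
        rintro _ ⟨c, hc, rfl⟩ _ ⟨d, hd, rfl⟩ x
        obtain ⟨u, -, v, -, h3⟩ := h ⊤ (fun _ _ _ => trivial) c hc d hd x trivial
        exact ⟨u, v, h3⟩)
    exact fun a k => congrArg (fun x : φ.range => x • k) (Subsingleton.elim (φ.rangeRestrict a) 1)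
  · have h3 : (FixedPoints.subgroup A K).index = 1 := by
      by_contra h3
      obtain ⟨r, hr, h4⟩ := Nat.exists_prime_and_dvd h3
      have := Fact.mk hr
      have := hA.isNilpotent
      obtain ⟨P, hP⟩ := exists_sylow hcop (Or.inl inferInstance) r
      have h5 : (P : Subgroup K) ≤ FixedPoints.subgroup A K := fun x hx a =>
        sub P hP (fun h => h2 ⟨r, hr, (h ▸ P.isPGroup').of_equiv topEquiv⟩) a x hx
      exact P.not_dvd_index (h4.trans (index_dvd_of_le h5))
    rw [index_eq_one] at h3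
    exact fun a k => (h3 ▸ mem_top k : k ∈ FixedPoints.subgroup A K) a

end

/-- Let p ≥ 3 be prime and G a finite group with a Sylow p-subgroup P and a normal p-complement N (N normal, of order prime to p, with NP = G). Suppose P is generated by a subset C and also by a subset D, and that ⟨x c x⁻¹, d⟩ is a p-group for all x ∈ N, c ∈ C, d ∈ D. Then P centralizes N, so that G = N × P. -/
theorem result {G : Type*} [Group G] [Finite G] (p : ℕ) [Fact p.Prime] (hp3 : 3 ≤ p) (P : Sylow p G)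
    (N : Subgroup G) [N.Normal] (hN : (Nat.card N).Coprime p) (hNP : N ⊔ (P : Subgroup G) = ⊤)
    (C D : Set G) (hC : Subgroup.closure C = (P : Subgroup G)) (hD : Subgroup.closure D = (P : Subgroup G))
    (h : ∀ x ∈ N, ∀ c ∈ C, ∀ d ∈ D, IsPGroup p ↥(Subgroup.closure ({x * c * x⁻¹, d} : Set G))) :
    ⁅(P : Subgroup G), N⁆ = ⊥ := by
  open Subgroup CA.SylIn in
  have hPN : (P : Subgroup G) ≤ normalizer (N : Set G) := le_normalizer_of_normal
  letI := CA.Act.conjAct hPN
  have key : ∀ C : Set G, closure C = (P : Subgroup G) → ∀ H : Subgroup (P : Subgroup G),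
      (P : Subgroup G).subtype ⁻¹' C ⊆ H → H = ⊤ := fun C hC H hH => by
    have : closure C ≤ H.map (P : Subgroup G).subtype := (closure_le _).2 fun c hc =>
      ⟨⟨c, hC ▸ subset_closure hc⟩, hH hc, rfl⟩
    rw [eq_top_iff]
    intro x _
    obtain ⟨y, hy, h⟩ := this (hC.ge x.2)
    exact Subtype.ext h ▸ hy
  have hcop := CA.Coprime2.coprime_card_of_isPGroup P.isPGroup' hN
  have hdis : Disjoint N (P : Subgroup G) := disjoint_iff.2 (inf_eq_bot_of_coprime hcop)
  have comm : ∀ y ∈ N, ∀ d ∈ (P : Subgroup G), y * d * y⁻¹ ∈ (P : Subgroup G) → d * y * d⁻¹ = y :=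
    fun y hy d hd h => by
    have := disjoint_def.1 hdis (x := y * d * y⁻¹ * d⁻¹) (by
      simpa [mul_assoc] using mul_mem hy (‹N.Normal›.conj_mem _ (inv_mem hy) d)) (mul_mem h (inv_mem hd))
    rw [mul_inv_eq_one, mul_inv_eq_iff_eq_mul] at this
    rw [← this]; group
  have hyp : ∀ S : Subgroup N, (∀ a : (P : Subgroup G), ∀ x ∈ S, a • x ∈ S) →
      ∀ c ∈ (P : Subgroup G).subtype ⁻¹' C, ∀ d ∈ (P : Subgroup G).subtype ⁻¹' D, ∀ x ∈ S,
        ∃ u ∈ S, ∃ v ∈ S, d • u = u ∧ c • v = v ∧ x = u * v := by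
    intro S hS c hc d hd x hx
    have h1 : (P : Subgroup G) ≤ normalizer (S.map N.subtype : Subgroup G) := fun a ha =>
      mem_normalizer_of_forall (by
        rintro _ ⟨y, hy, rfl⟩; exact ⟨_, hS ⟨a, ha⟩ y hy, rfl⟩)
    have h0 : closure ({(x : G) * c * (x : G)⁻¹, (d : G)} : Set G) ≤
        (P : Subgroup G) ⊔ S.map N.subtype := (closure_le _).2 (by
      rintro _ (rfl | rfl)
      · have : (x : G) ∈ (P : Subgroup G) ⊔ S.map N.subtype := mem_sup_right ⟨x, hx, rfl⟩
        exact mul_mem (mul_mem this (mem_sup_left c.2)) (inv_mem this)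
      · exact mem_sup_left d.2)
    have h5 : IsPGroup p (closure ({(x : G) * c * (x : G)⁻¹, (d : G)} : Set G)) :=
      h x x.2 (c : G) hc (d : G) hd
    have h6 : IsSylowIn p (P : Subgroup G) ((P : Subgroup G) ⊔ S.map N.subtype) :=
      isSylowIn_of_le P le_sup_left
    obtain ⟨g, hg, h2⟩ := h6.exists_conj_le h5 h0
    rw [← SetLike.mem_coe, coe_mul_of_left_le_normalizer_right _ _ h1] at hg
    obtain ⟨a, ha, _, ⟨y, hy, rfl⟩, rfl⟩ := hg
    rw [conj_le_iff] at h2
    have h3 : ∀ t ∈ closure ({(x : G) * c * (x : G)⁻¹, (d : G)} : Set G),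
        (y : G) * t * (y : G)⁻¹ ∈ (P : Subgroup G) := fun t ht => by
      have h4 : a⁻¹ * (a * y * t * (a * y)⁻¹) * a ∈ (P : Subgroup G) :=
        mul_mem (mul_mem (inv_mem ha) (h2 t ht)) ha
      rwa [show a⁻¹ * (a * y * t * (a * y)⁻¹) * a = y * t * (y : G)⁻¹ by group] at h4
    refine ⟨y⁻¹, inv_mem hy, y * x, mul_mem hy hx, ?_, Subtype.ext ?_, (inv_mul_cancel_left y x).symm⟩
    · rw [smul_inv', inv_inj]
      exact Subtype.ext (comm y y.2 d d.2 (h3 _ (subset_closure (Or.inr rfl))))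
    · have h4 := h3 _ (subset_closure (Or.inl rfl))
      rw [show (y : G) * (x * c * (x : G)⁻¹) * (y : G)⁻¹ = (y * x : G) * c * (y * x : G)⁻¹ by group] at h4
      exact comm _ (y * x).2 c c.2 h4
  have := main hp3 P.isPGroup' (key C hC) (key D hD) _ N rfl hcop.symm hyp
  rw [commutator_eq_bot_iff_le_centralizer]
  intro a ha k hk
  have h1 : a * k * a⁻¹ = k := congrArg Subtype.val (this ⟨a, ha⟩ ⟨k, hk⟩)
  rw [mul_inv_eq_iff_eq_mul] at h1
  exact h1.symm

end Cfsg.Agent.S2277
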