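import Cfsg.Statements.S2289
import Cfsg.Agent.Lib.Lin.H13Su3
import Cfsg.Agent.S2283

set_option autoImplicit false
open Cfsg

namespace Cfsg.Agent.S2289

/-- Let F be a field with q² elements, q ∉ {2, 3, 5}, and SU_3(q), PSU_3(q) the special unitary group of the standard Hermitian form and its central quotient. Then SU_3(q) has a presentation with 3 generators and at most 23 relations, and PSU_3(q) one with 3 generators and at most 24 relations. -/
theorem result {F : Type*} [Field F] [Fintype F] (q : ℕ) (hF : Fintype.card F = q ^ 2) (h2 : q ≠ 2) (h3 : q ≠ 3) (h5 : q ≠ 5) :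
    (∃ rels : Finset (FreeGroup (Fin 3)), rels.card ≤ 23 ∧ Nonempty (PresentedGroup (↑rels : Set (FreeGroup (Fin 3))) ≃* ↥(Cfsg.SU 3 F q))) ∧ (∃ rels : Finset (FreeGroup (Fin 3)), rels.card ≤ 24 ∧ Nonempty (PresentedGroup (↑rels : Set (FreeGroup (Fin 3))) ≃* Cfsg.PSU 3 F q)) := by
  have q2 := CA.CForm.two_le_of_card_sq hF
  obtain ⟨u, g, -, h⟩ := Cfsg.Agent.S2283.result q (by omega) hF
  have h1 : CA.Prs.Pres 3 23 (Cfsg.SU 3 F q) := ((CA.H13Su.pres_su3' hF h2 h5).two h).succ
  obtain ⟨e⟩ := CA.SU3.nonempty_equiv hF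
  have : IsCyclic (Subgroup.center (Cfsg.SU 3 F q)) := by
    have : Fact (Nat.Prime 3) := ⟨Nat.prime_three⟩
    refine isCyclic_of_card_dvd_prime (p := 3) ?_
    rw [CA.CForm.card_center_congr e, CA.SU3.card_center]
    exact Nat.gcd_dvd_left _ _
  exact ⟨h1, h1.quot_cyc _⟩

end Cfsg.Agent.S2289
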