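import Cfsg.Statements.S2290
import Cfsg.Agent.Lib.Lin.H29Pr3
import Cfsg.Agent.Lib.Lin.H13Pr3
import Cfsg.Agent.S2278
import Cfsg.Agent.S2279

set_option autoImplicit false
open Cfsg

namespace Cfsg.Agent.S2290



/-- For every finite field F with q elements and n ≥ 2, with q ≥ 4 when n = 2, the simple group PSL_n(F) has a presentation with 2 generators and at most 80 relations. -/
theorem result {F : Type*} [Field F] [Fintype F] (n : ℕ) (hn : 2 ≤ n) (h2 : n = 2 → 4 ≤ Fintype.card F) :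
    ∃ rels : Finset (FreeGroup (Fin 2)), rels.card ≤ 80 ∧ Nonempty (PresentedGroup (↑rels : Set (FreeGroup (Fin 2))) ≃* Matrix.ProjectiveSpecialLinearGroup (Fin n) F) := by
  have := CA.Prs.cyc_center_sl (F := F) (n := n)
  have key : ∀ {d r : ℕ}, r ≤ 77 → CA.Prs.Pres d r (Matrix.SpecialLinearGroup (Fin n) F) →
      (∃ a b : Matrix.SpecialLinearGroup (Fin n) F, Subgroup.closure {a, b} = ⊤) →
      CA.Prs.Pres 2 80 (Matrix.ProjectiveSpecialLinearGroup (Fin n) F) := fun h P ⟨_, _, e⟩ =>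
    ((P.two e).quot_cyc _).mono (by omega)
  obtain rfl | rfl | h : n = 2 ∨ n = 3 ∨ 4 ≤ n := by omega
  · exact key (by omega) CA.Prs.pres_sl2.1 (CA.Prs.sl2_two F)
  · exact key (by omega) CA.H13Pr.pres_sl3 (let ⟨_, _, h⟩ := Cfsg.Agent.S2278.result (F := F); ⟨_, _, h.2.2⟩)
  · exact key (by omega) (CA.Prs.pres_sln h) (let ⟨_, _, h⟩ := (Cfsg.Agent.S2279.result (F := F) n h).1; ⟨_, _, h.2.2⟩)

end Cfsg.Agent.S2290
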