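import Cfsg.Statements.S2292
import Cfsg.Agent.Lib.Lin.H25Pr3
import Cfsg.Agent.Lib.Lin.H29Pr3
import Cfsg.Agent.S2411

set_option autoImplicit false
open Cfsg

namespace Cfsg.Agent.S2292

open CA.Prs CA.H25Pr

/-- Let F be a finite field with q elements and m ≥ 2 with (m, q) ≠ (2, 2). Then the simple group PSp_2m(F) has a presentation with 2 generators and at most 80 relations. -/
theorem result {F : Type*} [Field F] [Fintype F] (m : ℕ) (hm : 2 ≤ m) (h22 : ¬ (m = 2 ∧ Fintype.card F = 2)) :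
    ∃ rels : Finset (FreeGroup (Fin 2)), rels.card ≤ 80 ∧ Nonempty (PresentedGroup (↑rels : Set (FreeGroup (Fin 2))) ≃* Cfsg.PSp m F) := by
  obtain ⟨a, b, h⟩ := Cfsg.Agent.S2411.result (F := F) m hm fun e =>
    lt_of_le_of_ne Fintype.one_lt_card fun e' => h22 ⟨e, e'.symm⟩
  refine (Pres.two (d := 10) (r := 59) ?_ h).mono (by omega)
  obtain rfl | rfl | h : m = 2 ∨ m = 3 ∨ 4 ≤ m := by omega
  · exact (pres_psp one_le_two pres_sp4).le (by omega) (by omega)
  · exact (pres_both (r' := 58) le_rfl CA.H13Pr.pres_sl3 (by omega) (by omega)).2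
  · exact (pres_both (r' := 58) (by omega) (pres_sln h) le_rfl (by omega)).2

end Cfsg.Agent.S2292
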