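import Cfsg.Statements.S2295
import Cfsg.Agent.Lib.Lin.H6Pr3
import Cfsg.Agent.Lib.Lin.H25Pr2
import Cfsg.Agent.Lib.Lin.H29Pr3

set_option autoImplicit false
open Cfsg

set_option linter.unusedVariables false
set_option linter.unusedSimpArgs false
set_option linter.style.haveILetI false

namespace Cfsg.Agent.S2295

open CA.Prs CA.H6Pr


/-- Let F be a finite field and n ≥ 4, and let Ω⁺_2n(F) be the commutator subgroup of the orthogonal group of the hyperbolic quadratic form Σ x_i y_i, with PΩ⁺_2n(F) its central quotient. Then Ω⁺_2n(F) has a presentation with 8 generators and at most 31 relations (at most 29 if n = 4 or 5), and PΩ⁺_2n(F) one with 8 generators and at most 32 relations (at most 30 if n = 4 or 5). -/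
theorem result {F : Type*} [Field F] [Fintype F] (n : ℕ) (hn : 4 ≤ n) :
    (∃ rels : Finset (FreeGroup (Fin 8)), rels.card ≤ 31 ∧ Nonempty (PresentedGroup (↑rels : Set (FreeGroup (Fin 8))) ≃* ↥(Cfsg.Omega F (Cfsg.quadFormPlus n F)))) ∧ (∃ rels : Finset (FreeGroup (Fin 8)), rels.card ≤ 32 ∧ Nonempty (PresentedGroup (↑rels : Set (FreeGroup (Fin 8))) ≃* Cfsg.POmega F (Cfsg.quadFormPlus n F))) ∧
    (n ≤ 5 → (∃ rels : Finset (FreeGroup (Fin 8)), rels.card ≤ 29 ∧ Nonempty (PresentedGroup (↑rels : Set (FreeGroup (Fin 8))) ≃* ↥(Cfsg.Omega F (Cfsg.quadFormPlus n F)))) ∧ (∃ rels : Finset (FreeGroup (Fin 8)), rels.card ≤ 30 ∧ Nonempty (PresentedGroup (↑rels : Set (FreeGroup (Fin 8))) ≃* Cfsg.POmega F (Cfsg.quadFormPlus n F)))) := by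
  obtain ⟨m, rfl⟩ : ∃ m, n = m + 2 := ⟨n - 2, by omega⟩
  have key : ∀ {d r}, Pres d r (Matrix.SpecialLinearGroup (Fin (m + 2)) F) → _ := fun h =>
    pres_omega (m := m + 1) (by omega) (pres_spin (by omega) (by omega) h fun a b hab =>
      gens (by omega) (sl2_two F) (CA.H25Pr.sl_two (by omega)) hab)
  have small : m + 2 ≤ 5 → Pres 8 29 (Cfsg.Omega F (Cfsg.quadFormPlus (m + 2) F)) ∧
      Pres 8 30 (Cfsg.POmega F (Cfsg.quadFormPlus (m + 2) F)) := fun h => by
    obtain rfl | rfl : m = 2 ∨ m = 3 := by omega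
    · exact ⟨(key pres_sl4').1.le (by omega) (by simp), (key pres_sl4').2.le (by omega) (by simp)⟩
    · exact ⟨(key pres_sl5').1.le (by omega) (by simp), (key pres_sl5').2.le (by omega) (by simp)⟩
  by_cases h : m + 2 ≤ 5
  · exact ⟨(small h).1.mono (by omega), (small h).2.mono (by omega), small⟩
  · have e : m ≠ 2 := by omega
    exact ⟨(key (pres_sln' hn)).1.le (by omega) (by simp [e]), (key (pres_sln' hn)).2.le (by omega) (by simp [e]), small⟩

end Cfsg.Agent.S2295
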