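import Cfsg.Statements.S2378
import Cfsg.Agent.Lib.Lie.SSSyl
-- import your own Cfsg.Agent.* helpers here

set_option autoImplicit false
open Cfsg

namespace Cfsg.Agent.S2378

open CA.Chev Cfsg.Lie

theorem cyc1 : CycOK 1 1 (getG 0 [-1, 1]) := ⟨[], by decide, fun q => ⟨(1) * q ^ 0, by
  simp [ev_eq, Finset.sum_range_succ, getG_eq]; ring⟩⟩
theorem cyc2 : CycOK 2 1 (getG 0 [1, 1]) := ⟨[1], by decide, fun q => ⟨(1) * q ^ 0, by
  simp [ev_eq, Finset.sum_range_succ, getG_eq]; ring⟩⟩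
theorem cyc3 : CycOK 3 2 (getG 0 [1, 1, 1]) := ⟨[1], by decide, fun q => ⟨(1) * q ^ 0, by
  simp [ev_eq, Finset.sum_range_succ, getG_eq]; ring⟩⟩
theorem cyc4 : CycOK 4 2 (getG 0 [1, 0, 1]) := ⟨[2], by decide, fun q => ⟨(1) * q ^ 0, by
  simp [ev_eq, Finset.sum_range_succ, getG_eq]; ring⟩⟩
theorem cyc5 : CycOK 5 4 (getG 0 [1, 1, 1, 1, 1]) := ⟨[1], by decide, fun q => ⟨(1) * q ^ 0, by
  simp [ev_eq, Finset.sum_range_succ, getG_eq]; ring⟩⟩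
theorem cyc6 : CycOK 6 2 (getG 0 [1, -1, 1]) := ⟨[3, 2], by decide, fun q => ⟨(-1) * q ^ 0 + (1) * q ^ 1, by
  simp [ev_eq, Finset.sum_range_succ, getG_eq]; ring⟩⟩
theorem cyc7 : CycOK 7 6 (getG 0 [1, 1, 1, 1, 1, 1, 1]) := ⟨[1], by decide, fun q => ⟨(1) * q ^ 0, by
  simp [ev_eq, Finset.sum_range_succ, getG_eq]; ring⟩⟩
theorem cyc8 : CycOK 8 4 (getG 0 [1, 0, 0, 0, 1]) := ⟨[4], by decide, fun q => ⟨(1) * q ^ 0, by
  simp [ev_eq, Finset.sum_range_succ, getG_eq]; ring⟩⟩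
theorem cyc9 : CycOK 9 6 (getG 0 [1, 0, 0, 1, 0, 0, 1]) := ⟨[3], by decide, fun q => ⟨(1) * q ^ 0, by
  simp [ev_eq, Finset.sum_range_succ, getG_eq]; ring⟩⟩
theorem cyc10 : CycOK 10 4 (getG 0 [1, -1, 1, -1, 1]) := ⟨[5, 2], by decide, fun q => ⟨(-1) * q ^ 0 + (1) * q ^ 1, by
  simp [ev_eq, Finset.sum_range_succ, getG_eq]; ring⟩⟩
theorem cyc12 : CycOK 12 4 (getG 0 [1, 0, -1, 0, 1]) := ⟨[6, 4], by decide, fun q => ⟨(-1) * q ^ 0 + (1) * q ^ 2, by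
  simp [ev_eq, Finset.sum_range_succ, getG_eq]; ring⟩⟩
theorem cyc14 : CycOK 14 6 (getG 0 [1, -1, 1, -1, 1, -1, 1]) := ⟨[7, 2], by decide, fun q => ⟨(-1) * q ^ 0 + (1) * q ^ 1, by
  simp [ev_eq, Finset.sum_range_succ, getG_eq]; ring⟩⟩
theorem cyc15 : CycOK 15 8 (getG 0 [1, -1, 0, 1, -1, 1, 0, -1, 1]) := ⟨[5, 3], by decide, fun q => ⟨(-1) * q ^ 0 + (1) * q ^ 1, by
  simp [ev_eq, Finset.sum_range_succ, getG_eq]; ring⟩⟩
theorem cyc18 : CycOK 18 6 (getG 0 [1, 0, 0, -1, 0, 0, 1]) := ⟨[9, 6], by decide, fun q => ⟨(-1) * q ^ 0 + (1) * q ^ 3, by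
  simp [ev_eq, Finset.sum_range_succ, getG_eq]; ring⟩⟩
theorem cyc20 : CycOK 20 8 (getG 0 [1, 0, -1, 0, 1, 0, -1, 0, 1]) := ⟨[10, 4], by decide, fun q => ⟨(-1) * q ^ 0 + (1) * q ^ 2, by
  simp [ev_eq, Finset.sum_range_succ, getG_eq]; ring⟩⟩
theorem cyc24 : CycOK 24 8 (getG 0 [1, 0, 0, 0, -1, 0, 0, 0, 1]) := ⟨[12, 8], by decide, fun q => ⟨(-1) * q ^ 0 + (1) * q ^ 4, by
  simp [ev_eq, Finset.sum_range_succ, getG_eq]; ring⟩⟩
theorem cyc30 : CycOK 30 8 (getG 0 [1, 1, 0, -1, -1, -1, 0, 1, 1]) := ⟨[15, 10, 6], by decide, fun q => ⟨(1) * q ^ 0 + (1) * q ^ 1 + (-1) * q ^ 3 + (-1) * q ^ 4 + (-1) * q ^ 5 + (-1) * q ^ 6 + (1) * q ^ 8 + (1) * q ^ 9, by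
  simp [ev_eq, Finset.sum_range_succ, getG_eq]; ring⟩⟩
theorem cB2_1 : SylCert chevB2 8 1 2 := ⟨([] : List (Fin 2)), getN [5, 4], _, _,
  fun j => tb8 (getG [] [[0x1, 0x0, 0x1], [0x100, 0x0, 0x100]] j),
  gM [[2, 1], [2, 2]], 2, by rw [tab_B2]; decide +kernel, by decide, cyc1⟩
theorem cB2_2 : SylCert chevB2 8 2 2 := ⟨([1, 0, 1, 0] : List (Fin 2)), getN [2, 3], _, _,
  fun j => tb8 (getG [] [[0x80, 0x0, 0x1], [0x8000, 0x0, 0x100]] j),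
  gM [[-2, -1], [-2, -2]], 2, by rw [tab_B2]; decide +kernel, by decide, cyc2⟩
theorem cB2_4 : SylCert chevB2 8 4 1 := ⟨([1, 0] : List (Fin 2)), getN [1, 7], _, _,
  fun j => tb8 (getG [] [[0x8000, 0x8080, 0x0, 0x100]] j),
  gM [[0, -1]], 2, by rw [tab_B2]; decide +kernel, by decide, cyc4⟩
theorem cB2 : ∀ e ∈ [2, 4], ∀ d, d ∣ e → SylCert chevB2 [2, 4].prod d ([2, 4].filter (d ∣ ·)).length := fun e he d hd => by
  have : d ∈ [1, 2, 4] := (by decide +kernel : ∀ e ∈ [2, 4], e ≠ 0 ∧ ∀ d ∈ e.divisors, d ∈ [1, 2, 4]) e he |> fun h =>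
    h.2 d (Nat.mem_divisors.2 ⟨hd, h.1⟩)
  simp only [List.mem_cons, List.not_mem_nil, or_false] at this
  rcases this with rfl | rfl | rfl
  exacts [cB2_1, cB2_2, cB2_4]

theorem cG2_1 : SylCert chevG2 12 1 2 := ⟨([] : List (Fin 2)), getN [7, 6], _, _,
  fun j => tb8 (getG [] [[0x1, 0x0, 0x1], [0x100, 0x0, 0x100]] j),
  gM [[2, 1], [3, 2]], 1, by rw [tab_G2]; decide +kernel, by decide, cyc1⟩
theorem cG2_2 : SylCert chevG2 12 2 2 := ⟨([1, 0, 1, 0, 1, 0] : List (Fin 2)), getN [4, 5], _, _,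
  fun j => tb8 (getG [] [[0x80, 0x0, 0x1], [0x8000, 0x0, 0x100]] j),
  gM [[-2, -1], [-3, -2]], 1, by rw [tab_G2]; decide +kernel, by decide, cyc2⟩
theorem cG2_3 : SylCert chevG2 12 3 1 := ⟨([0, 1, 0, 1] : List (Fin 2)), getN [8, 0], _, _,
  fun j => tb8 (getG [] [[0x8000, 0x101, 0x0, 0x100]] j),
  gM [[-1, -1]], 1, by rw [tab_G2]; decide +kernel, by decide, cyc3⟩
theorem cG2_6 : SylCert chevG2 12 6 1 := ⟨([0, 1] : List (Fin 2)), getN [9, 1], _, _,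
  fun j => tb8 (getG [] [[0x8000, 0x201, 0x0, 0x100]] j),
  gM [[1, 0]], 1, by rw [tab_G2]; decide +kernel, by decide, cyc6⟩
theorem cG2 : ∀ e ∈ [2, 6], ∀ d, d ∣ e → SylCert chevG2 [2, 6].prod d ([2, 6].filter (d ∣ ·)).length := fun e he d hd => by
  have : d ∈ [1, 2, 3, 6] := (by decide +kernel : ∀ e ∈ [2, 6], e ≠ 0 ∧ ∀ d ∈ e.divisors, d ∈ [1, 2, 3, 6]) e he |> fun h =>
    h.2 d (Nat.mem_divisors.2 ⟨hd, h.1⟩)
  simp only [List.mem_cons, List.not_mem_nil, or_false] at this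
  rcases this with rfl | rfl | rfl | rfl
  exacts [cG2_1, cG2_2, cG2_3, cG2_6]

theorem cD4_1 : SylCert chevD4 192 1 4 := ⟨([] : List (Fin 4)), getN [18, 14, 13, 12], _, _,
  fun j => tb8 (getG [] [[0x1, 0x0, 0x1], [0x100, 0x0, 0x100], [0x10000, 0x0, 0x10000], [0x1000000, 0x0, 0x1000000]] j),
  gM [[2, 2, 1, 1], [2, 4, 2, 2], [1, 2, 2, 1], [1, 2, 1, 2]], 2, by rw [tab_D4]; decide +kernel, by decide, cyc1⟩
theorem cD4_2 : SylCert chevD4 192 2 4 := ⟨([3, 1, 2, 0, 1, 3, 0, 1, 2, 0, 1, 0] : List (Fin 4)), getN [5, 9, 10, 11], _, _,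
  fun j => tb8 (getG [] [[0x80, 0x0, 0x1], [0x8000, 0x0, 0x100], [0x800000, 0x0, 0x10000], [0x80000000, 0x0, 0x1000000]] j),
  gM [[-2, -2, -1, -1], [-2, -4, -2, -2], [-1, -2, -2, -1], [-1, -2, -1, -2]], 2, by rw [tab_D4]; decide +kernel, by decide, cyc2⟩
theorem cD4_3 : SylCert chevD4 192 3 1 := ⟨([2, 1] : List (Fin 4)), getN [21, 7, 14, 17], _, _,
  fun j => tb8 (getG [] [[0x800000, 0x808000, 0x0, 0x10000]] j),
  gM [[1, 1, 0, 0]], 1, by rw [tab_D4]; decide +kernel, by decide, cyc3⟩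
theorem cD4_4 : SylCert chevD4 192 4 2 := ⟨([2, 0, 1, 3, 0, 1] : List (Fin 4)), getN [12, 6, 23, 5], _, _,
  fun j => tb8 (getG [] [[0x10080, 0x10201, 0x0, 0x800001], [0x80, 0x80000000, 0x0, 0x1]] j),
  gM [[0, 0, 1, 0], [-1, 0, -1, 0]], 2, by rw [tab_D4]; decide +kernel, by decide, cyc4⟩
theorem cD4_6 : SylCert chevD4 192 6 1 := ⟨([2, 1, 3, 0] : List (Fin 4)), getN [2, 22, 14, 6], _, _,
  fun j => tb8 (getG [] [[0x808000, 0x80008080, 0x0, 0x10100]] j),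
  gM [[0, -1, 0, 0]], 1, by rw [tab_D4]; decide +kernel, by decide, cyc6⟩
theorem cD4 : ∀ e ∈ [2, 4, 4, 6], ∀ d, d ∣ e → SylCert chevD4 [2, 4, 4, 6].prod d ([2, 4, 4, 6].filter (d ∣ ·)).length := fun e he d hd => by
  have : d ∈ [1, 2, 3, 4, 6] := (by decide +kernel : ∀ e ∈ [2, 4, 4, 6], e ≠ 0 ∧ ∀ d ∈ e.divisors, d ∈ [1, 2, 3, 4, 6]) e he |> fun h =>
    h.2 d (Nat.mem_divisors.2 ⟨hd, h.1⟩)
  simp only [List.mem_cons, List.not_mem_nil, or_false] at this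
  rcases this with rfl | rfl | rfl | rfl | rfl
  exacts [cD4_1, cD4_2, cD4_3, cD4_4, cD4_6]

theorem cF4_1 : SylCert chevF4 1152 1 4 := ⟨([] : List (Fin 4)), getN [33, 27, 25, 24], _, _,
  fun j => tb8 (getG [] [[0x1, 0x0, 0x1], [0x100, 0x0, 0x100], [0x10000, 0x0, 0x10000], [0x1000000, 0x0, 0x1000000]] j),
  gM [[2, 3, 2, 1], [3, 6, 4, 2], [4, 8, 6, 3], [2, 4, 3, 2]], 1, by rw [tab_F4]; decide +kernel, by decide, cyc1⟩
theorem cF4_2 : SylCert chevF4 1152 2 4 := ⟨([3, 2, 1, 2, 0, 1, 2, 3, 2, 1, 2, 0, 1, 2, 3, 2, 1, 2, 0, 1, 2, 0, 1, 0] : List (Fin 4)), getN [14, 20, 22, 23], _, _,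
  fun j => tb8 (getG [] [[0x80, 0x0, 0x1], [0x8000, 0x0, 0x100], [0x800000, 0x0, 0x10000], [0x80000000, 0x0, 0x1000000]] j),
  gM [[-2, -3, -2, -1], [-3, -6, -4, -2], [-4, -8, -6, -3], [-2, -4, -3, -2]], 1, by rw [tab_F4]; decide +kernel, by decide, cyc2⟩
theorem cF4_3 : SylCert chevF4 1152 3 2 := ⟨([3, 2, 1, 2, 0, 1, 2, 3, 2, 1, 2, 0, 1, 2, 1, 0] : List (Fin 4)), getN [13, 33, 4, 46], _, _,
  fun j => tb8 (getG [] [[0x800000, 0x1010101, 0x0, 0x10000], [0x80, 0x100, 0x0, 0x1]] j),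
  gM [[-2, -4, -3, -1], [0, 1, 1, 1]], 1, by rw [tab_F4]; decide +kernel, by decide, cyc3⟩
theorem cF4_4 : SylCert chevF4 1152 4 2 := ⟨([3, 2, 0, 1, 2, 3, 2, 0, 1, 2, 0, 1] : List (Fin 4)), getN [38, 3, 41, 32], _, _,
  fun j => tb8 (getG [] [[0x800000, 0x808080, 0x0, 0x10000], [0x80000000, 0x80818000, 0x0, 0x1000000]] j),
  gM [[0, 1, 0, 0], [-1, -1, -1, -1]], 1, by rw [tab_F4]; decide +kernel, by decide, cyc4⟩
theorem cF4_6 : SylCert chevF4 1152 6 2 := ⟨([2, 1, 2, 0, 1, 2, 3, 0] : List (Fin 4)), getN [20, 34, 32, 1], _, _,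
  fun j => tb8 (getG [] [[0x8000, 0x80, 0x0, 0x100], [0x10000, 0x1010100, 0x0, 0x800000]] j),
  gM [[-1, -2, -1, 0], [2, 4, 3, 1]], 1, by rw [tab_F4]; decide +kernel, by decide, cyc6⟩
theorem cF4_8 : SylCert chevF4 1152 8 1 := ⟨([2, 1, 2, 3, 1, 0] : List (Fin 4)), getN [10, 35, 31, 15], _, _,
  fun j => tb8 (getG [] [[0x800000, 0x80808000, 0x808080, 0x80800000, 0x0, 0x10000]] j),
  gM [[0, -1, -1, 0]], 1, by rw [tab_F4]; decide +kernel, by decide, cyc8⟩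
theorem cF4_12 : SylCert chevF4 1152 12 1 := ⟨([0, 1, 2, 3] : List (Fin 4)), getN [27, 35, 24, 5], _, _,
  fun j => tb8 (getG [] [[0x80000000, 0x1010101, 0x1010100, 0x10000, 0x0, 0x1000000]] j),
  gM [[1, 2, 1, 0]], 1, by rw [tab_F4]; decide +kernel, by decide, cyc12⟩
theorem cF4 : ∀ e ∈ [2, 6, 8, 12], ∀ d, d ∣ e → SylCert chevF4 [2, 6, 8, 12].prod d ([2, 6, 8, 12].filter (d ∣ ·)).length := fun e he d hd => by
  have : d ∈ [1, 2, 3, 4, 6, 8, 12] := (by decide +kernel : ∀ e ∈ [2, 6, 8, 12], e ≠ 0 ∧ ∀ d ∈ e.divisors, d ∈ [1, 2, 3, 4, 6, 8, 12]) e he |> fun h =>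
    h.2 d (Nat.mem_divisors.2 ⟨hd, h.1⟩)
  simp only [List.mem_cons, List.not_mem_nil, or_false] at this
  rcases this with rfl | rfl | rfl | rfl | rfl | rfl | rfl
  exacts [cF4_1, cF4_2, cF4_3, cF4_4, cF4_6, cF4_8, cF4_12]

theorem cE6_1 : SylCert chevE6 51840 1 6 := ⟨([] : List (Fin 6)), getN [56, 46, 42, 39, 37, 36], _, _,
  fun j => tb8 (getG [] [[0x1, 0x0, 0x1], [0x100, 0x0, 0x100], [0x10000, 0x0, 0x10000], [0x1000000, 0x0, 0x1000000], [0x100000000, 0x0, 0x100000000], [0x10000000000, 0x0, 0x10000000000]] j),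
  gM [[4, 3, 5, 6, 4, 2], [3, 6, 6, 9, 6, 3], [5, 6, 10, 12, 8, 4], [6, 9, 12, 18, 12, 6], [4, 6, 8, 12, 10, 5], [2, 3, 4, 6, 5, 4]], 3, by rw [tab_E6]; decide +kernel, by decide, cyc1⟩
theorem cE6_2 : SylCert chevE6 51840 2 4 := ⟨([4, 3, 2, 1, 3, 4, 3, 2, 1, 3, 2, 1] : List (Fin 6)), getN [67, 25, 29, 32, 34, 55], _, _,
  fun j => tb8 (getG [] [[0x800000, 0x0, 0x10000], [0x80000000, 0x0, 0x1000000], [0x8000000000, 0x0, 0x100000000], [0x8000, 0x0, 0x100]] j),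
  gM [[1, 0, 0, 0, 0, 0], [-2, -1, -2, -2, 0, 2], [-4, -1, -3, -2, 0, 3], [-1, -1, -1, -1, 0, 1]], 1, by rw [tab_E6]; decide +kernel, by decide, cyc2⟩
theorem cE6_3 : SylCert chevE6 51840 3 3 := ⟨([3, 4, 5, 1, 3, 4, 2, 3, 0, 2, 1, 3, 4, 5, 2, 1, 3, 4, 3, 2, 1, 3, 0, 2] : List (Fin 6)), getN [44, 58, 2, 38, 50, 17], _, _,
  fun j => tb8 (getG [] [[0x800080, 0x10101000100, 0x0, 0x10001], [0x100008001, 0x201010000, 0x0, 0x8000000180], [0x80000000, 0x808080000000, 0x0, 0x1000000]] j),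
  gM [[-4, -4, -7, -8, -5, -3], [0, -1, -2, -2, -1, -1], [-3, -4, -5, -8, -4, -1]], 3, by rw [tab_E6]; decide +kernel, by decide, cyc3⟩
theorem cE6_4 : SylCert chevE6 51840 4 2 := ⟨([0, 2, 3, 4, 1, 3, 1, 0] : List (Fin 6)), getN [29, 34, 67, 10, 46, 60], _, _,
  fun j => tb8 (getG [] [[0x1000100, 0x8080808080, 0x0, 0x80008000], [0x80000000, 0x1010101, 0x0, 0x1000000]] j),
  gM [[0, 0, -2, -1, 0, 1], [-1, 1, 2, 1, 0, -1]], 1, by rw [tab_E6]; decide +kernel, by decide, cyc4⟩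
theorem cE6_5 : SylCert chevE6 51840 5 1 := ⟨([0, 2, 1, 3] : List (Fin 6)), getN [42, 58, 47, 10, 62, 36], _, _,
  fun j => tb8 (getG [] [[0x800080, 0x80818080, 0x81818080, 0x80800000, 0x0, 0x10001]] j),
  gM [[-1, 0, -1, -1, -1, 0]], 1, by rw [tab_E6]; decide +kernel, by decide, cyc5⟩
theorem cE6_6 : SylCert chevE6 51840 6 2 := ⟨([0, 2, 1, 3, 4, 5, 3, 4, 2, 1, 3, 2] : List (Fin 6)), getN [69, 49, 11, 23, 64, 10], _, _,
  fun j => tb8 (getG [] [[0x8000000080, 0x808183828180, 0x0, 0x100000001], [0x80800000, 0x10203020101, 0x0, 0x1010000]] j),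
  gM [[-1, 0, -1, 0, 0, 0], [0, 1, -1, 1, 0, 0]], 1, by rw [tab_E6]; decide +kernel, by decide, cyc6⟩
theorem cE6_8 : SylCert chevE6 51840 8 1 := ⟨([4, 5, 2, 1, 3] : List (Fin 6)), getN [57, 44, 48, 20, 52, 33], _, _,
  fun j => tb8 (getG [] [[0x800000000000, 0x10100000000, 0x1010100, 0x101000000, 0x0, 0x10000000000]] j),
  gM [[1, 0, 2, 1, 1, 0]], 1, by rw [tab_E6]; decide +kernel, by decide, cyc8⟩
theorem cE6_9 : SylCert chevE6 51840 9 1 := ⟨([4, 5, 0, 2, 1, 3, 4, 2, 3, 2] : List (Fin 6)), getN [52, 66, 35, 23, 14, 61], _, _,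
  fun j => tb8 (getG [] [[0x80, 0x808080808000, 0x8081808080, 0x808080800080, 0x80808000, 0x8080800080, 0x0, 0x1]] j),
  gM [[-1, 0, 1, 3, 2, 1]], 3, by rw [tab_E6]; decide +kernel, by decide, cyc9⟩
theorem cE6_12 : SylCert chevE6 51840 12 1 := ⟨([5, 4, 2, 3, 1, 0] : List (Fin 6)), getN [14, 19, 60, 46, 43, 37], _, _,
  fun j => tb8 (getG [] [[0x800080000001, 0x8000808080, 0x10000000180, 0x800080008001, 0x0, 0x10001000080]] j),
  gM [[-2, -1, -5, -3, 0, 0]], 1, by rw [tab_E6]; decide +kernel, by decide, cyc12⟩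
theorem cE6 : ∀ e ∈ [2, 5, 6, 8, 9, 12], ∀ d, d ∣ e → SylCert chevE6 [2, 5, 6, 8, 9, 12].prod d ([2, 5, 6, 8, 9, 12].filter (d ∣ ·)).length := fun e he d hd => by
  have : d ∈ [1, 2, 3, 4, 5, 6, 8, 9, 12] := (by decide +kernel : ∀ e ∈ [2, 5, 6, 8, 9, 12], e ≠ 0 ∧ ∀ d ∈ e.divisors, d ∈ [1, 2, 3, 4, 5, 6, 8, 9, 12]) e he |> fun h =>
    h.2 d (Nat.mem_divisors.2 ⟨hd, h.1⟩)
  simp only [List.mem_cons, List.not_mem_nil, or_false] at this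
  rcases this with rfl | rfl | rfl | rfl | rfl | rfl | rfl | rfl | rfl
  exacts [cE6_1, cE6_2, cE6_3, cE6_4, cE6_5, cE6_6, cE6_8, cE6_9, cE6_12]

theorem cE7_1 : SylCert chevE7 2903040 1 7 := ⟨([] : List (Fin 7)), getN [93, 78, 73, 69, 66, 64, 63], _, _,
  fun j => tb8 (getG [] [[0x1, 0x0, 0x1], [0x100, 0x0, 0x100], [0x10000, 0x0, 0x10000], [0x1000000, 0x0, 0x1000000], [0x100000000, 0x0, 0x100000000], [0x10000000000, 0x0, 0x10000000000], [0x1000000000000, 0x0, 0x1000000000000]] j),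
  gM [[4, 4, 6, 8, 6, 4, 2], [4, 7, 8, 12, 9, 6, 3], [6, 8, 12, 16, 12, 8, 4], [8, 12, 16, 24, 18, 12, 6], [6, 9, 12, 18, 15, 10, 5], [4, 6, 8, 12, 10, 8, 4], [2, 3, 4, 6, 5, 4, 3]], 2, by rw [tab_E7]; decide +kernel, by decide, cyc1⟩
theorem cE7_2 : SylCert chevE7 2903040 2 7 := ⟨([6, 5, 4, 3, 2, 1, 3, 4, 5, 6, 0, 2, 3, 4, 5, 1, 3, 4, 2, 3, 0, 2, 1, 3, 4, 5, 6, 0, 2, 3, 4, 5, 1, 3, 4, 2, 3, 0, 2, 1, 3, 4, 5, 1, 3, 4, 2, 3, 0, 2, 1, 3, 4, 2, 3, 0, 2, 1, 3, 0, 2, 1, 0] : List (Fin 7)), getN [32, 47, 52, 56, 59, 61, 62], _, _,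
  fun j => tb8 (getG [] [[0x80, 0x0, 0x1], [0x8000, 0x0, 0x100], [0x800000, 0x0, 0x10000], [0x80000000, 0x0, 0x1000000], [0x8000000000, 0x0, 0x100000000], [0x800000000000, 0x0, 0x10000000000], [0x80000000000000, 0x0, 0x1000000000000]] j),
  gM [[-4, -4, -6, -8, -6, -4, -2], [-4, -7, -8, -12, -9, -6, -3], [-6, -8, -12, -16, -12, -8, -4], [-8, -12, -16, -24, -18, -12, -6], [-6, -9, -12, -18, -15, -10, -5], [-4, -6, -8, -12, -10, -8, -4], [-2, -3, -4, -6, -5, -4, -3]], 2, by rw [tab_E7]; decide +kernel, by decide, cyc2⟩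
theorem cE7_3 : SylCert chevE7 2903040 3 3 := ⟨([0, 2, 3, 4, 5, 1, 3, 4, 2, 3, 0, 2, 1, 3, 4, 5, 3, 2, 1, 3, 4, 2, 3, 1] : List (Fin 7)), getN [76, 41, 79, 66, 55, 24, 125], _, _,
  fun j => tb8 (getG [] [[0x8000000001, 0x10102010001, 0x0, 0x100000080], [0x8000000000, 0x1000000, 0x0, 0x100000000], [0x800001, 0x10100008001, 0x0, 0x10080]] j),
  gM [[12, 16, 23, 33, 27, 21, 17], [-6, -7, -11, -15, -12, -8, -7], [-4, -5, -8, -11, -9, -7, -6]], 1, by rw [tab_E7]; decide +kernel, by decide, cyc3⟩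
theorem cE7_4 : SylCert chevE7 2903040 4 2 := ⟨([2, 1, 3, 4, 5, 3, 4, 2, 1, 3] : List (Fin 7)), getN [100, 81, 76, 35, 87, 42, 86], _, _,
  fun j => tb8 (getG [] [[0x80000000, 0x10202010100, 0x0, 0x1000000], [0x100000000, 0x102010100, 0x0, 0x8000000000]] j),
  gM [[0, 1, 0, 0, 0, 0, 0], [1, 1, 0, 1, 1, 0, 0]], 1, by rw [tab_E7]; decide +kernel, by decide, cyc4⟩
theorem cE7_5 : SylCert chevE7 2903040 5 1 := ⟨([6, 3, 4, 5] : List (Fin 7)), getN [93, 79, 74, 66, 65, 53, 71], _, _,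
  fun j => tb8 (getG [] [[0x8000000000, 0x80808000000000, 0x808000000000, 0x1000000, 0x0, 0x100000000]] j),
  gM [[0, -1, 0, -1, -1, 0, 0]], 1, by rw [tab_E7]; decide +kernel, by decide, cyc5⟩
theorem cE7_6 : SylCert chevE7 2903040 6 3 := ⟨([1, 3, 4, 5, 6, 3, 4, 5, 3, 0, 2, 1, 3, 4, 3, 0, 2, 1, 3, 0, 2] : List (Fin 7)), getN [100, 90, 18, 40, 86, 104, 46], _, _,
  fun j => tb8 (getG [] [[0x800000, 0x1010202020101, 0x0, 0x10000], [0x1000100000000, 0x10000010000, 0x0, 0x80008000000000], [0x1000080808000, 0x10101020101, 0x0, 0x80000001010100]] j),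
  gM [[1, 1, 2, 4, 5, 3, 0], [-1, 0, -1, -1, 0, 0, 0], [0, -1, -1, -2, -2, -1, 0]], 1, by rw [tab_E7]; decide +kernel, by decide, cyc6⟩
theorem cE7_7 : SylCert chevE7 2903040 7 1 := ⟨([5, 6, 0, 2, 3, 4] : List (Fin 7)), getN [73, 99, 69, 67, 28, 98, 60], _, _,
  fun j => tb8 (getG [] [[0x80, 0x800080, 0x80800080, 0x808080800080, 0x80808080800080, 0x8080800080, 0x0, 0x1]] j),
  gM [[1, 2, 3, 4, 3, 2, 1]], 1, by rw [tab_E7]; decide +kernel, by decide, cyc7⟩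
theorem cE7_8 : SylCert chevE7 2903040 8 1 := ⟨([4, 5, 1, 3, 2] : List (Fin 7)), getN [100, 70, 41, 73, 81, 58, 68], _, _,
  fun j => tb8 (getG [] [[0x80008000, 0x8080800000, 0x800000000000, 0x10100000000, 0x0, 0x1000100]] j),
  gM [[1, -1, 0, 0, 0, 0, 0]], 1, by rw [tab_E7]; decide +kernel, by decide, cyc8⟩
theorem cE7_9 : SylCert chevE7 2903040 9 1 := ⟨([0, 2, 3, 4, 5, 3, 4, 1, 3, 1] : List (Fin 7)), getN [73, 61, 106, 25, 99, 30, 98], _, _,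
  fun j => tb8 (getG [] [[0x8080800001, 0x808081008080, 0x10202010102, 0x8000010101, 0x201010000, 0x10103020202, 0x0, 0x101010080]] j),
  gM [[3, 4, 5, 8, 6, 4, 5]], 1, by rw [tab_E7]; decide +kernel, by decide, cyc9⟩
theorem cE7_10 : SylCert chevE7 2903040 10 1 := ⟨([6, 5, 2, 3, 4, 1] : List (Fin 7)), getN [94, 42, 69, 86, 48, 75, 64], _, _,
  fun j => tb8 (getG [] [[0x80800000, 0x80808080008000, 0x808080800000, 0x8080008000, 0x0, 0x1010000]] j),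
  gM [[0, 0, 0, -1, 0, 0, 0]], 1, by rw [tab_E7]; decide +kernel, by decide, cyc10⟩
theorem cE7_12 : SylCert chevE7 2903040 12 1 := ⟨([5, 1, 3, 4, 0, 2] : List (Fin 7)), getN [83, 69, 26, 101, 44, 80, 65], _, _,
  fun j => tb8 (getG [] [[0x8000, 0x80000000, 0x808080800080, 0x8080808000, 0x0, 0x100]] j),
  gM [[-1, -1, -1, -1, 0, 0, 0]], 1, by rw [tab_E7]; decide +kernel, by decide, cyc12⟩
theorem cE7_14 : SylCert chevE7 2903040 14 1 := ⟨([4, 5, 6, 2, 3, 0, 2, 1, 3, 4, 5, 4, 1, 3, 0] : List (Fin 7)), getN [55, 77, 107, 27, 97, 13, 109], _, _,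
  fun j => tb8 (getG [] [[0x80000000, 0x1010102010001, 0x80808080000100, 0x2020202010000, 0x80800001010101, 0x1020202010100, 0x0, 0x1000000]] j),
  gM [[1, -1, 4, 1, 0, 1, -1]], 1, by rw [tab_E7]; decide +kernel, by decide, cyc14⟩
theorem cE7_18 : SylCert chevE7 2903040 18 1 := ⟨([6, 4, 5, 3, 0, 2, 1] : List (Fin 7)), getN [75, 45, 29, 100, 72, 57, 67], _, _,
  fun j => tb8 (getG [] [[0x800000000000, 0x1010100000000, 0x10101000000, 0x10102010101, 0x102020101, 0x1010101010100, 0x0, 0x10000000000]] j),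
  gM [[0, 1, 0, 1, 1, 0, 0]], 1, by rw [tab_E7]; decide +kernel, by decide, cyc18⟩
theorem cE7 : ∀ e ∈ [2, 6, 8, 10, 12, 14, 18], ∀ d, d ∣ e → SylCert chevE7 [2, 6, 8, 10, 12, 14, 18].prod d ([2, 6, 8, 10, 12, 14, 18].filter (d ∣ ·)).length := fun e he d hd => by
  have : d ∈ [1, 2, 3, 4, 5, 6, 7, 8, 9, 10, 12, 14, 18] := (by decide +kernel : ∀ e ∈ [2, 6, 8, 10, 12, 14, 18], e ≠ 0 ∧ ∀ d ∈ e.divisors, d ∈ [1, 2, 3, 4, 5, 6, 7, 8, 9, 10, 12, 14, 18]) e he |> fun h =>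
    h.2 d (Nat.mem_divisors.2 ⟨hd, h.1⟩)
  simp only [List.mem_cons, List.not_mem_nil, or_false] at this
  rcases this with rfl | rfl | rfl | rfl | rfl | rfl | rfl | rfl | rfl | rfl | rfl | rfl | rfl
  exacts [cE7_1, cE7_2, cE7_3, cE7_4, cE7_5, cE7_6, cE7_7, cE7_8, cE7_9, cE7_10, cE7_12, cE7_14, cE7_18]

theorem cE8_1 : SylCert chevE8 696729600 1 8 := ⟨([] : List (Fin 8)), getN [162, 141, 135, 130, 126, 123, 121, 120], _, _,
  fun j => tb8 (getG [] [[0x1, 0x0, 0x1], [0x100, 0x0, 0x100], [0x10000, 0x0, 0x10000], [0x1000000, 0x0, 0x1000000], [0x100000000, 0x0, 0x100000000], [0x10000000000, 0x0, 0x10000000000], [0x1000000000000, 0x0, 0x1000000000000], [0x100000000000000, 0x0, 0x100000000000000]] j),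
  gM [[4, 5, 7, 10, 8, 6, 4, 2], [5, 8, 10, 15, 12, 9, 6, 3], [7, 10, 14, 20, 16, 12, 8, 4], [10, 15, 20, 30, 24, 18, 12, 6], [8, 12, 16, 24, 20, 15, 10, 5], [6, 9, 12, 18, 15, 12, 8, 4], [4, 6, 8, 12, 10, 8, 6, 3], [2, 3, 4, 6, 5, 4, 3, 2]], 1, by rw [tab_E8]; decide +kernel, by decide, cyc1⟩
theorem cE8_2 : SylCert chevE8 696729600 2 8 := ⟨([7, 6, 5, 4, 3, 2, 1, 3, 4, 5, 6, 0, 2, 3, 4, 5, 1, 3, 4, 2, 3, 0, 2, 1, 3, 4, 5, 6, 7, 6, 5, 4, 3, 2, 1, 3, 4, 5, 6, 0, 2, 3, 4, 5, 1, 3, 4, 2, 3, 0, 2, 1, 3, 4, 5, 6, 7, 6, 5, 4, 3, 2, 1, 3, 4, 5, 6, 0, 2, 3, 4, 5, 1, 3, 4, 2, 3, 0, 2, 1, 3, 4, 5, 6, 0, 2, 3, 4, 5, 1, 3, 4, 2, 3, 0, 2, 1, 3, 4, 5, 1, 3, 4, 2, 3, 0, 2, 1, 3, 4, 2, 3, 0, 2, 1, 3, 0, 2, 1, 0] : List (Fin 8)), getN [77, 98, 104, 109, 113, 116, 118, 119], _, _,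
  fun j => tb8 (getG [] [[0x80, 0x0, 0x1], [0x8000, 0x0, 0x100], [0x800000, 0x0, 0x10000], [0x80000000, 0x0, 0x1000000], [0x8000000000, 0x0, 0x100000000], [0x800000000000, 0x0, 0x10000000000], [0x80000000000000, 0x0, 0x1000000000000], [0x8000000000000000, 0x0, 0x100000000000000]] j),
  gM [[-4, -5, -7, -10, -8, -6, -4, -2], [-5, -8, -10, -15, -12, -9, -6, -3], [-7, -10, -14, -20, -16, -12, -8, -4], [-10, -15, -20, -30, -24, -18, -12, -6], [-8, -12, -16, -24, -20, -15, -10, -5], [-6, -9, -12, -18, -15, -12, -8, -4], [-4, -6, -8, -12, -10, -8, -6, -3], [-2, -3, -4, -6, -5, -4, -3, -2]], 1, by rw [tab_E8]; decide +kernel, by decide, cyc2⟩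
theorem cE8_3 : SylCert chevE8 696729600 3 4 := ⟨([4, 2, 3, 0, 2, 1, 3, 4, 5, 6, 7, 6, 5, 4, 3, 2, 1, 3, 4, 5, 6, 0, 2, 3, 4, 5, 1, 3, 4, 2, 3, 0, 2, 1, 3, 4, 5, 6, 7, 2, 1, 3, 4, 5, 6, 0, 2, 3, 4, 5, 1, 3, 4, 2, 3, 0, 2, 1, 3, 4, 5, 6, 4, 2, 3, 0, 2, 1, 3, 4, 5, 2, 3, 4, 3, 0, 2, 1, 3, 1] : List (Fin 8)), getN [157, 35, 177, 40, 222, 79, 67, 181], _, _,
  fun j => tb8 (getG [] [[0x10000808000, 0x8181808080808000, 0x0, 0x800000010100], [0x80, 0x80808181808080, 0x0, 0x1], [0x8000000000, 0x8081828383828180, 0x0, 0x100000000], [0x8080000000010001, 0x1010203030202, 0x0, 0x101000000800080]] j),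
  gM [[0, -2, 0, -1, -1, -1, 0, 0], [-3, -6, -5, -9, -7, -5, -2, -2], [0, 2, 0, 1, 1, 2, 1, 0], [-3, -5, -6, -10, -7, -4, -2, -2]], 1, by rw [tab_E8]; decide +kernel, by decide, cyc3⟩
theorem cE8_4 : SylCert chevE8 696729600 4 4 := ⟨([3, 4, 5, 6, 7, 3, 2, 1, 3, 4, 5, 6, 0, 2, 3, 4, 5, 1, 3, 4, 2, 3, 0, 2, 1, 3, 4, 5, 6, 7, 5, 4, 2, 3, 0, 2, 1, 3, 4, 5, 6, 4, 5, 3, 4, 2, 3, 0, 2, 1, 3, 4, 5, 4, 0, 2, 3, 0, 2, 1] : List (Fin 8)), getN [145, 9, 78, 203, 206, 4, 219, 83], _, _,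
  fun j => tb8 (getG [] [[0x8000000000000000, 0x10202010100, 0x0, 0x100000000000000], [0x8000000180800100, 0x80818000800181, 0x0, 0x100008001018000], [0x800000000000, 0x102030406040302, 0x0, 0x10000000000], [0x8000000000, 0x8080808182818180, 0x0, 0x100000000]] j),
  gM [[0, 0, 2, -1, -1, -1, -1, -1], [0, 0, -1, 0, 0, 0, 0, 0], [-1, -3, -5, -5, -5, -5, -4, -2], [-2, -5, -8, -10, -10, -9, -8, -4]], 1, by rw [tab_E8]; decide +kernel, by decide, cyc4⟩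
theorem cE8_5 : SylCert chevE8 696729600 5 2 := ⟨([6, 7, 4, 5, 6, 0, 2, 3, 4, 5, 1, 3, 4, 2, 3, 0, 2, 1, 3, 4, 5, 6, 7, 4, 3, 2, 1, 3, 4, 5, 6, 4, 5, 3, 4, 2, 3, 0, 2, 1, 3, 4, 5, 4, 2, 1, 3, 2] : List (Fin 8)), getN [218, 195, 81, 63, 209, 5, 227, 71], _, _,
  fun j => tb8 (getG [] [[0x8000000000, 0x8081818282818180, 0x8081828485838281, 0x8081828383828180, 0x0, 0x100000000], [0x80000000, 0x1010101010101, 0x102030404030202, 0x102030303020201, 0x0, 0x1000000]] j),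
  gM [[1, 1, 2, 2, 1, 1, 1, 1], [0, 0, 0, -1, -1, -1, -1, 0]], 1, by rw [tab_E8]; decide +kernel, by decide, cyc5⟩
theorem cE8_6 : SylCert chevE8 696729600 6 4 := ⟨([4, 3, 2, 1, 3, 4, 5, 6, 7, 6, 5, 4, 2, 3, 0, 2, 1, 3, 4, 5, 6, 5, 4, 2, 3, 0, 2, 1, 3, 4, 5, 3, 4, 3, 0, 2, 1, 3, 2, 0] : List (Fin 8)), getN [19, 205, 188, 29, 218, 37, 139, 173], _, _,
  fun j => tb8 (getG [] [[0x8000000000000000, 0x80808080808080, 0x0, 0x100000000000000], [0x80000000, 0x1020304020201, 0x0, 0x1000000], [0x101000001800000, 0x808283808180, 0x0, 0x8080000080010000], [0x80, 0x101020304030202, 0x0, 0x1]] j),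
  gM [[1, 0, 2, 2, 2, 0, 1, 0], [2, 2, 4, 6, 7, 5, 4, 2], [1, 1, 2, 3, 3, 2, 2, 1], [0, 1, 1, 1, 0, -1, 0, 0]], 1, by rw [tab_E8]; decide +kernel, by decide, cyc6⟩
theorem cE8_7 : SylCert chevE8 696729600 7 1 := ⟨([5, 6, 4, 0, 2, 3] : List (Fin 8)), getN [135, 171, 132, 73, 164, 128, 115, 125], _, _,
  fun j => tb8 (getG [] [[0x100800000, 0x800000000001, 0x80800000000000, 0x800000, 0x800080800000, 0x80800000000001, 0x0, 0x8000010000]] j),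
  gM [[-3, 0, -6, -9, -12, -16, -20, -24]], 1, by rw [tab_E8]; decide +kernel, by decide, cyc7⟩
theorem cE8_8 : SylCert chevE8 696729600 8 2 := ⟨([3, 0, 2, 1, 3, 4, 5, 6, 7, 4, 5, 6, 4, 3, 0, 2, 1, 3, 4, 5, 4, 2, 3, 0, 2, 1, 3, 4, 2, 1] : List (Fin 8)), getN [155, 94, 92, 207, 10, 173, 195, 65], _, _,
  fun j => tb8 (getG [] [[0x8000000000000000, 0x102010101, 0x10102010100, 0x10101010101, 0x0, 0x100000000000000], [0x800000, 0x1010100, 0x10101010001, 0x101010101000100, 0x0, 0x10000]] j),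
  gM [[2, 3, 4, 6, 5, 4, 3, 1], [-3, -5, -7, -10, -9, -6, -4, -2]], 1, by rw [tab_E8]; decide +kernel, by decide, cyc8⟩
theorem cE8_9 : SylCert chevE8 696729600 9 1 := ⟨([7, 2, 3, 4, 5, 3, 4, 2, 3, 1, 0] : List (Fin 8)), getN [74, 83, 166, 148, 130, 103, 140, 119], _, _,
  fun j => tb8 (getG [] [[0x800100, 0x818282818080, 0x808182808180, 0x10100800000, 0x808080810080, 0x818181808080, 0x0, 0x18000]] j),
  gM [[-1, 0, -1, -2, -1, -1, -1, 0]], 1, by rw [tab_E8]; decide +kernel, by decide, cyc9⟩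
theorem cE8_10 : SylCert chevE8 696729600 10 2 := ⟨([6, 5, 4, 2, 3, 0, 2, 1, 3, 4, 5, 6, 7, 4, 5, 3, 4, 3, 0, 2, 1, 3, 1, 0] : List (Fin 8)), getN [90, 82, 188, 73, 181, 136, 129, 46], _, _,
  fun j => tb8 (getG [] [[0x8080000080000000, 0x102020204030102, 0x201010100, 0x102030304020202, 0x0, 0x101000001000000], [0x80000000, 0x10102010001, 0x1000101010100, 0x101020202010101, 0x0, 0x1000000]] j),
  gM [[2, 4, 5, 7, 5, 4, 2, 1], [-3, -7, -8, -12, -8, -6, -3, -2]], 1, by rw [tab_E8]; decide +kernel, by decide, cyc10⟩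
theorem cE8_12 : SylCert chevE8 696729600 12 2 := ⟨([1, 3, 4, 5, 6, 7, 2, 3, 4, 5, 6, 3, 0, 2, 1, 3, 4, 5, 4, 2, 3, 0] : List (Fin 8)), getN [83, 206, 160, 84, 154, 32, 175, 135], _, _,
  fun j => tb8 (getG [] [[0x800001, 0x8080828383818100, 0x80808282808080, 0x180808081808080, 0x0, 0x10080], [0x80, 0x10202010100, 0x1010202010101, 0x1010102010101, 0x0, 0x1]] j),
  gM [[-2, -2, -4, -5, -4, -3, -2, -1], [-3, -2, -5, -6, -5, -4, -2, -1]], 1, by rw [tab_E8]; decide +kernel, by decide, cyc12⟩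
theorem cE8_14 : SylCert chevE8 696729600 14 1 := ⟨([4, 5, 6, 4, 2, 3, 0, 2, 1, 3, 4, 3, 0] : List (Fin 8)), getN [107, 165, 156, 102, 68, 191, 111, 129], _, _,
  fun j => tb8 (getG [] [[0x800000, 0x808181008000, 0x80000101000100, 0x1000080008000, 0x80808000800080, 0x8081808000, 0x0, 0x10000]] j),
  gM [[0, 0, -1, -1, -1, -1, 0, 0]], 1, by rw [tab_E8]; decide +kernel, by decide, cyc14⟩
theorem cE8_15 : SylCert chevE8 696729600 15 1 := ⟨([5, 6, 7, 2, 3, 4, 5, 6, 5, 0, 2, 1, 3, 4, 1, 0] : List (Fin 8)), getN [109, 73, 153, 168, 52, 186, 100, 137], _, _,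
  fun j => tb8 (getG [] [[0x80000000, 0x8080808000800080, 0x101008080808000, 0x80800080010001, 0x8080000000800081, 0x1008080808000, 0x80808080000001, 0x80, 0x0, 0x1000000]] j),
  gM [[-1, 0, -2, -2, -1, -1, 0, 0]], 1, by rw [tab_E8]; decide +kernel, by decide, cyc15⟩
theorem cE8_18 : SylCert chevE8 696729600 18 1 := ⟨([7, 4, 5, 6, 5, 3, 2, 1, 0] : List (Fin 8)), getN [74, 96, 162, 148, 134, 117, 112, 128], _, _,
  fun j => tb8 (getG [] [[0x80800000010000, 0x101010100000001, 0x1010000800080, 0x8000000001000000, 0x80800001010100, 0x101010100010001, 0x0, 0x1010000800000]] j),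
  gM [[-1, -1, -1, -1, 0, -1, 0, 0]], 1, by rw [tab_E8]; decide +kernel, by decide, cyc18⟩
theorem cE8_20 : SylCert chevE8 696729600 20 1 := ⟨([1, 3, 4, 5, 6, 7, 4, 5, 6, 1, 3, 4, 5, 3, 2, 0] : List (Fin 8)), getN [63, 128, 162, 153, 122, 105, 131, 96], _, _,
  fun j => tb8 (getG [] [[0x800000, 0x80, 0x1010102020101, 0x10202010101, 0x101010101000100, 0x1010101010000, 0x102020101, 0x101020202010101, 0x0, 0x10000]] j),
  gM [[0, 0, 0, 1, 0, 0, 0, 0]], 1, by rw [tab_E8]; decide +kernel, by decide, cyc20⟩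
theorem cE8_24 : SylCert chevE8 696729600 24 1 := ⟨([7, 5, 6, 3, 4, 2, 3, 2, 1, 0] : List (Fin 8)), getN [73, 86, 164, 144, 135, 134, 114, 124], _, _,
  fun j => tb8 (getG [] [[0x800000, 0x80800080, 0x80008000, 0x1010000, 0x10102020101, 0x101010102010101, 0x1010101000100, 0x100000000, 0x0, 0x10000]] j),
  gM [[0, 0, 0, 1, 1, 1, 0, 0]], 1, by rw [tab_E8]; decide +kernel, by decide, cyc24⟩
theorem cE8_30 : SylCert chevE8 696729600 30 1 := ⟨([5, 6, 7, 3, 4, 0, 2, 1] : List (Fin 8)), getN [136, 97, 75, 175, 107, 133, 120, 114], _, _,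
  fun j => tb8 (getG [] [[0x800000000000, 0x80818080000000, 0x8081818182808080, 0x8080808284828181, 0x808284838281, 0x80818282828180, 0x8081818180808000, 0x8080808000000000, 0x0, 0x10000000000]] j),
  gM [[-1, 0, -2, -1, 0, -1, -1, -1]], 1, by rw [tab_E8]; decide +kernel, by decide, cyc30⟩
theorem cE8 : ∀ e ∈ [2, 8, 12, 14, 18, 20, 24, 30], ∀ d, d ∣ e → SylCert chevE8 [2, 8, 12, 14, 18, 20, 24, 30].prod d ([2, 8, 12, 14, 18, 20, 24, 30].filter (d ∣ ·)).length := fun e he d hd => by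
  have : d ∈ [1, 2, 3, 4, 5, 6, 7, 8, 9, 10, 12, 14, 15, 18, 20, 24, 30] := (by decide +kernel : ∀ e ∈ [2, 8, 12, 14, 18, 20, 24, 30], e ≠ 0 ∧ ∀ d ∈ e.divisors, d ∈ [1, 2, 3, 4, 5, 6, 7, 8, 9, 10, 12, 14, 15, 18, 20, 24, 30]) e he |> fun h =>
    h.2 d (Nat.mem_divisors.2 ⟨hd, h.1⟩)
  simp only [List.mem_cons, List.not_mem_nil, or_false] at this
  rcases this with rfl | rfl | rfl | rfl | rfl | rfl | rfl | rfl | rfl | rfl | rfl | rfl | rfl | rfl | rfl | rfl | rfl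
  exacts [cE8_1, cE8_2, cE8_3, cE8_4, cE8_5, cE8_6, cE8_7, cE8_8, cE8_9, cE8_10, cE8_12, cE8_14, cE8_15, cE8_18, cE8_20, cE8_24, cE8_30]

/-- Sylow subgroups for primes away from the characteristic and the Weyl group. Let `G` be the Chevalley group of type G₂, B₂, D₄, F₄, E₆, E₇ or E₈ over a field with `q` elements, with the degrees of its Weyl group listed beside the type (their product is the order of the Weyl group), and let `r` be a prime dividing the order of `G`, not dividing `q` and not dividing the order of the Weyl group. Let `d` be the multiplicative order of `q` modulo `r`, `a` the number of degrees divisible by `d`, and `m` the `r`-part of the value at `q` of the `d`-th cyclotomic polynomial. Then every Sylow `r`-subgroup of `G` is homocyclic: a direct product of `a` cyclic groups of order `m` (in particular abelian). -/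
theorem result {F : Type*} [Field F] [Fintype F] {q : ℕ} (hq : Fintype.card F = q)
    (c : Cfsg.Lie.ChevalleyDatum × List ℕ)
    (hc : c ∈ [(Cfsg.Lie.chevG2, [2, 6]), (Cfsg.Lie.chevB2, [2, 4]), (Cfsg.Lie.chevD4, [2, 4, 4, 6]), (Cfsg.Lie.chevF4, [2, 6, 8, 12]),
      (Cfsg.Lie.chevE6, [2, 5, 6, 8, 9, 12]), (Cfsg.Lie.chevE7, [2, 6, 8, 10, 12, 14, 18]), (Cfsg.Lie.chevE8, [2, 8, 12, 14, 18, 20, 24, 30])])
    (r : ℕ) [Fact r.Prime] (hrq : ¬ r ∣ q) (hrW : ¬ r ∣ c.2.prod) (hrG : r ∣ Nat.card ↥(c.1.group F)) (P : Sylow r ↥(c.1.group F)) :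
    Nonempty (↥(P : Subgroup ↥(c.1.group F)) ≃*
      (Fin (c.2.filter (fun e => orderOf (q : ZMod r) ∣ e)).length →
        Multiplicative (ZMod (r ^ padicValNat r ((Polynomial.cyclotomic (orderOf (q : ZMod r)) ℤ).eval (q : ℤ)).natAbs)))) := by
  subst hq
  simp only [List.mem_cons, List.not_mem_nil, or_false] at hc
  rcases hc with rfl | rfl | rfl | rfl | rfl | rfl | rfl
  · exact sylow_homocyclic (N := 6) (by simp) (one_dvd _) (by decide) (card_group_G2.trans (by simp [mul_assoc])) cG2 r hrq hrW hrG P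
  · exact sylow_homocyclic (N := 4) (by simp) ((Nat.gcd_dvd_left _ _).trans (by decide)) (by decide) (card_group_B2.trans (by simp [mul_assoc])) cB2 r hrq hrW hrG P
  · exact sylow_homocyclic (N := 12) (by simp) ((pow_dvd_pow_of_dvd (Nat.gcd_dvd_left _ _) 2).trans (by decide)) (by decide) (card_group_D4.trans (by simp [mul_assoc])) cD4 r hrq hrW hrG P
  · exact sylow_homocyclic (N := 24) (by simp) (one_dvd _) (by decide) (card_group_F4.trans (by simp [mul_assoc])) cF4 r hrq hrW hrG P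
  · exact sylow_homocyclic (N := 36) (by simp) ((Nat.gcd_dvd_left _ _).trans (by decide)) (by decide) (card_group_E6.trans (by simp [mul_assoc])) cE6 r hrq hrW hrG P
  · exact sylow_homocyclic (N := 63) (by simp) ((Nat.gcd_dvd_left _ _).trans (by decide)) (by decide) (card_group_E7.trans (by simp [mul_assoc])) cE7 r hrq hrW hrG P
  · exact sylow_homocyclic (N := 120) (by simp) (one_dvd _) (by decide) (card_group_E8.trans (by simp [mul_assoc])) cE8 r hrq hrW hrG P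

end Cfsg.Agent.S2378
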