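import Cfsg.Statements.S2457
import Cfsg.Agent.Lib.Lie.H19SzDat
import Cfsg.Agent.Lib.Lie.SzModel
import Cfsg.Agent.Lib.Char.H19Tab3

set_option autoImplicit false
open Cfsg

namespace Cfsg.Agent.S2457

/-- A strong covering result in the direction of Thompson's conjecture (non-identity elements) for the Suzuki groups: let q = 2^(2m+1) ≥ 8, F the field with q elements and Sz(q) the Suzuki group over F. For every element x of Sz(q) of order greater than 2, every non-identity element of Sz(q) is a product of two conjugates of x. -/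
theorem result {F : Type*} [Field F] [Fintype F] (m : ℕ) (hm : 1 ≤ m) (hF : Fintype.card F = 2 ^ (2 * m + 1))
    (x : Cfsg.Lie.Sz F (2 ^ (m + 1))) (hx2 : 2 < orderOf x) : ∀ g : Cfsg.Lie.Sz F (2 ^ (m + 1)), g ≠ 1 → ∃ u v : Cfsg.Lie.Sz F (2 ^ (m + 1)), g = (u * x * u⁻¹) * (v * x * v⁻¹) := by
  have : CA.SzBasic.Hyp F m := ⟨hm, hF⟩
  have := Fintype.ofFinite (CA.SzBasic.G F)
  obtain ⟨D, hD⟩ := CA.H19SzDat.exists_data (F := F)
  obtain ⟨t⟩ := D.exists_tab
  intro g hg
  obtain ⟨x, rfl⟩ := (CA.SzModel.szEquiv F).surjective x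
  obtain ⟨g, rfl⟩ := (CA.SzModel.szEquiv F).surjective g
  rw [MulEquiv.orderOf_eq] at hx2
  have h1 := t.sum_ne (x := x) (g := g) (by rintro rfl; simp at hx2) (fun h => by
    obtain ⟨c, rfl⟩ := isConj_iff.1 h
    have : orderOf (c * D.s * c⁻¹) ∣ 2 := orderOf_dvd_of_pow_eq_one (by rw [conj_pow, sq, hD]; simp)
    exact absurd (Nat.le_of_dvd two_pos this) (by omega)) (by rintro rfl; simp at hg)
  have h2 := CChar.CharInt.card_class_mul x x g
  have h3 : Nat.card {p : CA.SzBasic.G F × CA.SzBasic.G F // IsConj x p.1 ∧ IsConj x p.2 ∧ p.1 * p.2 = g} ≠ 0 := by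
    rw [← Nat.cast_ne_zero (R := ℂ), h2]
    have a := Subgroup.index_ne_zero_of_finite (H := Subgroup.centralizer {x})
    have b := (Nat.card_pos (α := CA.SzBasic.G F)).ne'
    exact mul_ne_zero (div_ne_zero (by exact_mod_cast mul_ne_zero a a) (by exact_mod_cast b)) h1
  obtain ⟨⟨⟨a, b⟩, h4, h5, h6⟩⟩ := (Nat.card_ne_zero.1 h3).1
  obtain ⟨u, rfl⟩ := isConj_iff.1 h4
  obtain ⟨v, rfl⟩ := isConj_iff.1 h5
  exact ⟨CA.SzModel.szEquiv F u, CA.SzModel.szEquiv F v, by simp [← h6]⟩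

end Cfsg.Agent.S2457
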