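import Cfsg.Statements.S2468
import Cfsg.Agent.Lib.Lin.PSLOrd

set_option autoImplicit false
open Cfsg

namespace Cfsg.Agent.S2468

/-- Adjacency of two odd primes in the prime graph of PSL(n,q): let F be a finite field of characteristic p with q elements, n ≥ 2 with PSL(n,F) simple, and let r ≠ s be odd primes different from p dividing the order of PSL(n,F). Let k and l be the multiplicative orders of q modulo r and modulo s, and suppose 2 ≤ k ≤ l. Then PSL(n,F) has NO element of order r·s if and only if k + l > n and k does not divide l. -/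
theorem result {F : Type*} [Field F] [Fintype F] (p : ℕ) [Fact p.Prime] [CharP F p] (n : ℕ) (hn : 2 ≤ n) (hsmall : n = 2 → 4 ≤ Fintype.card F)
    (r s : ℕ) (hr : r.Prime) (hs : s.Prime) (hr2 : r ≠ 2) (hs2 : s ≠ 2) (hrp : r ≠ p) (hsp : s ≠ p) (hrs : r ≠ s)
    (hrG : r ∣ Nat.card (Matrix.ProjectiveSpecialLinearGroup (Fin n) F)) (hsG : s ∣ Nat.card (Matrix.ProjectiveSpecialLinearGroup (Fin n) F))
    (k l : ℕ) (hk : k = orderOf ((Fintype.card F : ℕ) : ZMod r)) (hl : l = orderOf ((Fintype.card F : ℕ) : ZMod s))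
    (h2k : 2 ≤ k) (hkl : k ≤ l) :
    (r * s ∉ Set.range (orderOf : Matrix.ProjectiveSpecialLinearGroup (Fin n) F → ℕ)) ↔ (n < k + l ∧ ¬ k ∣ l) := by
  open CA.Rcf CA.PSLOrd Polynomial in
  have hF : ∀ t : ℕ, t.Prime → t ≠ p → (t : F) ≠ 0 := fun t ht htp h =>
    htp ((Nat.prime_dvd_prime_iff_eq Fact.out ht).1 ((CharP.cast_eq_zero_iff F p t).1 h)).symm
  have hq : 1 ≤ Fintype.card F := Fintype.card_pos
  have hcop : ∀ t : ℕ, t.Prime → 2 ≤ orderOf ((Fintype.card F : ℕ) : ZMod t) →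
      t.Coprime (Fintype.card F - 1) := fun t ht h2 => (Nat.Prime.coprime_iff_not_dvd ht).2 fun h => by
    have := Nat.le_of_dvd one_pos ((CA.PSLOrd.orderOf_dvd_iff_dvd (k := 1) hq).2 (by simpa using h))
    omega
  have hc : (r * s).Coprime (Fintype.card F - 1) :=
    Nat.Coprime.mul_left (hcop r hr (hk ▸ h2k)) (hcop s hs (by omega))
  have hrs' : r.Coprime s := (Nat.coprime_primes hr hs).2 hrs
  constructor
  · intro H
    by_contra hcon
    apply H
    suffices h : ∃ g : (Fin n → F) ≃ₗ[F] (Fin n → F), orderOf g = r * s by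
      obtain ⟨g, hg⟩ := h
      obtain ⟨x, hx⟩ := CA.PSLOrd.exists_PSL g (hg ▸ hc)
      exact ⟨x, hx.trans hg⟩
    by_cases h1 : k ∣ l
    · have h0 : ((r * s : ℕ) : F) ≠ 0 := by
        rw [Nat.cast_mul]; exact mul_ne_zero (hF r hr hrp) (hF s hs hsp)
      obtain ⟨φ, hφ⟩ := CA.Rcf.exists_mem_cycT (F := F) (CA.Rcf.ne_zero_of_cast h0)
      refine CA.PSLOrd.exists_lin (m := {φ}) (by simpa using CA.Rcf.isPrim_of_mem_cycT hφ)
        (by simpa using CA.Rcf.not_X_dvd_cyc (CA.Rcf.ne_zero_of_cast h0) hφ) ?_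
        (fun M => by simpa using CA.Rcf.cyc_dvd_iff h0 hφ M)
      have h3 := CA.PSLOrd.ord_le_of_dvd hs (hF s hs hsp) hsG
      have h4 : orderOf ((Fintype.card F : ℕ) : ZMod (r * s)) ∣ l := by
        rw [CA.PSLOrd.orderOf_dvd_iff_dvd hq]
        exact hrs'.mul_dvd_of_dvd_of_dvd ((CA.PSLOrd.orderOf_dvd_iff_dvd hq).1 (hk ▸ h1))
          ((CA.PSLOrd.orderOf_dvd_iff_dvd hq).1 (hl ▸ dvd_rfl))
      have h5 := Nat.le_of_dvd (by omega) h4
      simp only [Multiset.map_singleton, Multiset.sum_singleton, CA.Rcf.natDegree_cyc h0 hφ,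
        Nat.card_eq_fintype_card]
      omega
    · obtain ⟨φ, hφ⟩ := CA.Rcf.exists_mem_cycT (F := F) hr.ne_zero
      obtain ⟨ψ, hψ⟩ := CA.Rcf.exists_mem_cycT (F := F) hs.ne_zero
      refine CA.PSLOrd.exists_lin (m := {φ, ψ}) ?_ ?_ ?_ fun M => ?_
      · simp [CA.Rcf.isPrim_of_mem_cycT hφ, CA.Rcf.isPrim_of_mem_cycT hψ]
      · simp [CA.Rcf.not_X_dvd_cyc hr.ne_zero hφ, CA.Rcf.not_X_dvd_cyc hs.ne_zero hψ]
      · simp only [Multiset.insert_eq_cons, Multiset.map_cons, Multiset.sum_cons,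
          Multiset.map_singleton, Multiset.sum_singleton, CA.Rcf.natDegree_cyc (hF r hr hrp) hφ,
          CA.Rcf.natDegree_cyc (hF s hs hsp) hψ, Nat.card_eq_fintype_card]
        rw [← hk, ← hl]
        by_contra h
        exact hcon ⟨by omega, h1⟩
      · simp only [Multiset.insert_eq_cons, Multiset.mem_cons, Multiset.mem_singleton, forall_eq_or_imp,
          forall_eq, CA.Rcf.cyc_dvd_iff (hF r hr hrp) hφ, CA.Rcf.cyc_dvd_iff (hF s hs hsp) hψ]
        exact ⟨fun h => hrs'.mul_dvd_of_dvd_of_dvd h.1 h.2,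
          fun h => ⟨(dvd_mul_right r s).trans h, (dvd_mul_left s r).trans h⟩⟩
  · rintro ⟨h1, h2⟩ ⟨x, hx⟩
    obtain ⟨g, rfl⟩ := QuotientGroup.mk_surjective x
    have hd := hx ▸ CA.PSLOrd.orderOf_mk_dvd g
    obtain ⟨N, e, φ, a1, a2, a3, a4, -⟩ := CA.Rcf.exists_cyc_of_dvd (CA.PSLOrd.lin g) hr (hF r hr hrp)
      (k := 0) (by simpa using (dvd_mul_right r s).trans hd)
    obtain ⟨N', e', ψ, b1, b2, b3, b4, -⟩ := CA.Rcf.exists_cyc_of_dvd (CA.PSLOrd.lin g) hs
      (hF s hs hsp) (k := 0) (by simpa using (dvd_mul_left s r).trans hd)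
    have c1 := CA.PSLOrd.orderOf_dvd_of_dvd (r := r) (by simpa using a4) (Fintype.card F)
    have c2 := CA.PSLOrd.orderOf_dvd_of_dvd (r := s) (by simpa using b4) (Fintype.card F)
    rw [← Nat.card_eq_fintype_card (α := F), ← CA.Rcf.natDegree_cyc a1 a2,
      Nat.card_eq_fintype_card, ← hk] at c1
    rw [← Nat.card_eq_fintype_card (α := F), ← CA.Rcf.natDegree_cyc b1 b2,
      Nat.card_eq_fintype_card, ← hl] at c2
    have d1 := (CA.Rcf.isPrim_of_mem_cycT a2).natDegree_pos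
    have d2 := (CA.Rcf.isPrim_of_mem_cycT b2).natDegree_pos
    by_cases H : φ ^ (e + 1) = ψ ^ (e' + 1)
    · obtain rfl := CA.PSLOrd.eq_of_pow_eq a2 b2 H
      have h5 := Multiset.single_le_sum (fun _ _ => Nat.zero_le _) _
        (Multiset.mem_map_of_mem Polynomial.natDegree b3)
      rw [CA.PSLOrd.coe_lin, CA.PSLOrd.sum_E, (CA.Rcf.mem_cycT.1 b2).2.1.natDegree_pow] at h5
      obtain ⟨j, hj⟩ := c2
      rcases j with _ | _ | j
      · omega
      · exact h2 (by simpa [hj] using c1)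
      · nlinarith
    · have h5 := CA.PSLOrd.add_le_sum Polynomial.natDegree a3 b3 H
      rw [CA.PSLOrd.coe_lin, CA.PSLOrd.sum_E, (CA.Rcf.mem_cycT.1 b2).2.1.natDegree_pow,
        (CA.Rcf.mem_cycT.1 a2).2.1.natDegree_pow] at h5
      have := Nat.le_of_dvd d1 c1
      have := Nat.le_of_dvd d2 c2
      nlinarith

end Cfsg.Agent.S2468
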