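import Cfsg.Statements.S2469
import Cfsg.Agent.Lib.Lin.SpecF

set_option autoImplicit false
open Cfsg

namespace Cfsg.Agent.S2469

open CA.CForm CA.CForm.Form CA.Rcf Module Polynomial in
/-- Adjacency of two odd primes in the prime graph of PSp(2n,q): let F be a finite field of characteristic p with q elements, n ≥ 2 with PSp(2n,F) simple, and let r ≠ s be odd primes different from p dividing the order of PSp(2n,F). Let k, l be the multiplicative orders of q modulo r and s, put η(m) = m for odd m and η(m) = m/2 for even m, and suppose η(k) ≤ η(l). Then PSp(2n,F) has NO element of order r·s if and only if η(k) + η(l) > n and l/k is not an odd integer. -/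
theorem result {F : Type*} [Field F] [Fintype F] (p : ℕ) [Fact p.Prime] [CharP F p] (n : ℕ) (hn : 2 ≤ n) (hsmall : n = 2 → 3 ≤ Fintype.card F)
    (r s : ℕ) (hr : r.Prime) (hs : s.Prime) (hr2 : r ≠ 2) (hs2 : s ≠ 2) (hrp : r ≠ p) (hsp : s ≠ p) (hrs : r ≠ s)
    (hrG : r ∣ Nat.card (Cfsg.PSp n F)) (hsG : s ∣ Nat.card (Cfsg.PSp n F))
    (k l ηk ηl : ℕ) (hk : k = orderOf ((Fintype.card F : ℕ) : ZMod r)) (hl : l = orderOf ((Fintype.card F : ℕ) : ZMod s))
    (hηk : (Odd k ∧ ηk = k) ∨ (Even k ∧ 2 * ηk = k)) (hηl : (Odd l ∧ ηl = l) ∨ (Even l ∧ 2 * ηl = l)) (hkl : ηk ≤ ηl) :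
    (r * s ∉ Set.range (orderOf : Cfsg.PSp n F → ℕ)) ↔ (n < ηk + ηl ∧ ¬ ∃ t : ℕ, Odd t ∧ l = k * t) := by
  rw [← Nat.card_eq_fintype_card] at hk hl
  have he : Eta _ ηk := hk ▸ hηk
  have he' : Eta _ ηl := hl ▸ hηl
  have h0 := he.pos p hr hrp
  have h0' := he'.pos p hs hsp
  have hq : 0 < Nat.card F := Nat.card_pos
  have hc := (Nat.coprime_primes hr hs).2 hrs
  have k1 := he.tor h0 hq hr hr2 odd_one (mul_one _).symm
  have k2 := he'.tor h0' hq hs hs2 odd_one (mul_one _).symm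
  rw [psp_spec p hn, ← not_le, ← not_or, not_iff_not]
  constructor
  · rintro ⟨j, N, S, h1, h2, h3, h4, -⟩
    obtain ⟨t, h5, h6⟩ := exists_tor_of_dvd p hr hrp ((dvd_mul_right _ _).trans h3) h4
    obtain ⟨t', h7, h8⟩ := exists_tor_of_dvd p hs hsp ((dvd_mul_left _ _).trans h3) h4
    have h9 := Nat.le_of_dvd (h1 t h5) (he.dvd hq h6)
    have h10 := he'.dvd hq h8
    refine or_iff_not_imp_left.2 fun H => ?_
    obtain rfl : t = t' := by_contra fun h => by
      obtain ⟨S, rfl⟩ := Multiset.exists_cons_of_mem h5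
      have := le_wt ((Multiset.mem_cons.1 h7).resolve_left (Ne.symm h))
      have := Nat.le_of_dvd (h1 t' h7) h10
      rw [wt_cons] at h2
      omega
    have := le_wt h5
    obtain ⟨a, b⟩ := t
    obtain rfl : ηl = a := Nat.eq_of_dvd_of_lt_two_mul (h1 _ h5).ne' h10 (by omega) |>.symm
    cases b
    · rw [dvd_tor_false hq, ← hk] at h6
      rw [dvd_tor_false hq, ← hl] at h8
      obtain ⟨h11, rfl⟩ := hηl.resolve_right fun h => by have := Nat.le_of_dvd h0' h8; omega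
      obtain ⟨u, rfl⟩ := h6
      exact ⟨u, (Nat.odd_mul.1 h11).2, rfl⟩
    · rw [dvd_tor_true hr hr2, ← hk] at h6
      rw [dvd_tor_true hs hs2, ← hl] at h8
      obtain ⟨-, h11⟩ := hηl.resolve_left fun h => h8.2 (h.2 ▸ dvd_rfl)
      obtain ⟨⟨u, hu⟩, h6⟩ := h6
      exact ⟨u, Nat.not_even_iff_odd.1 fun ⟨v, hv⟩ => h6 ⟨v, by rw [hv, mul_add] at hu; omega⟩,
        h11.symm.trans hu⟩
  rintro (h | ⟨u, h, h'⟩)
  · exact ⟨0, r * s, {(ηk, _), (ηl, _)}, by simp [h0, h0'], by simp [cst]; omega, by simp,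
      hc.mul_dvd_of_dvd_of_dvd (k1.trans (tor_dvd_tl (Multiset.mem_cons_self _ _)))
        (k2.trans (tor_dvd_tl (Multiset.mem_cons_of_mem (Multiset.mem_singleton_self _)))), fun t H => by simpa using congrArg Multiset.card H⟩
  have k3 := hc.mul_dvd_of_dvd_of_dvd (he'.tor h0' hq hr hr2 h (hl ▸ hk ▸ h')) k2
  have := he'.le_of_dvd p hs hsp hn hsG
  exact ⟨0, r * s, {(ηl, _)}, by simpa, by simpa [cst], by simp, tl_singleton ▸ k3, fun t H h _ =>
    Multiset.singleton_inj.1 H ▸ (((Nat.coprime_primes Nat.prime_two hr).2 hr2.symm).mul_right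
      ((Nat.coprime_primes Nat.prime_two hs).2 hs2.symm)).mul_dvd_of_dvd_of_dvd (two_dvd_tor h.2 _) k3⟩

end Cfsg.Agent.S2469
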