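import Cfsg.Statements.S2470
import Cfsg.Agent.S2476
import Cfsg.Agent.S2475

set_option autoImplicit false
open Cfsg

namespace Cfsg.Agent.S2470

/-- Adjacency of an odd prime and the characteristic in the prime graph of PSL(n,q): let F be a finite field of characteristic p with q elements, n ≥ 2 with PSL(n,F) simple, and let r ≠ p be an odd prime dividing the order of PSL(n,F), with k the multiplicative order of q modulo r. Then PSL(n,F) has NO element of order r·p if and only if either k > n − 2, or n = 3, r = 3 and 3 divides q − 1 exactly once. -/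
theorem result {F : Type*} [Field F] [Fintype F] (p : ℕ) [Fact p.Prime] [CharP F p] (n : ℕ) (hn : 2 ≤ n) (hsmall : n = 2 → 4 ≤ Fintype.card F)
    (r : ℕ) (hr : r.Prime) (hr2 : r ≠ 2) (hrp : r ≠ p) (hrG : r ∣ Nat.card (Matrix.ProjectiveSpecialLinearGroup (Fin n) F))
    (k : ℕ) (hk : k = orderOf ((Fintype.card F : ℕ) : ZMod r)) :
    (r * p ∉ Set.range (orderOf : Matrix.ProjectiveSpecialLinearGroup (Fin n) F → ℕ)) ↔
      (n - 2 < k ∨ (n = 3 ∧ r = 3 ∧ 3 ∣ Fintype.card F - 1 ∧ ¬ 9 ∣ Fintype.card F - 1)) := by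
  open Polynomial CA.Rcf CA.PSLOrd Cfsg.Agent.S2476 in
  classical
  have hq : 2 ≤ Fintype.card F := Fintype.one_lt_card
  have hp : p.Prime := Fact.out
  have hF : (r : F) ≠ 0 := fun h =>
    hrp ((Nat.prime_dvd_prime_iff_eq hp hr).1 ((CharP.cast_eq_zero_iff F p r).1 h)).symm
  have hk0 : 0 < k := by rw [hk, ← Nat.card_eq_fintype_card]; exact orderOf_card_pos' hF
  have hpq : p ∣ Fintype.card F := by
    rw [← CharP.cast_eq_zero_iff F p]; exact FiniteField.cast_card_eq_zero F
  have hp1 : ∀ j, j ≠ 0 → ¬p ∣ Fintype.card F ^ j - 1 := fun j hj h =>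
    natCast_ne_zero hj h (CharP.cast_eq_zero F p)
  have hp2 : ¬p ∣ Fintype.card F - 1 := by simpa using hp1 1 one_ne_zero
  have hc : r.Coprime p := (Nat.coprime_primes hr hp).2 hrp
  constructor
  · intro H
    by_contra hcon
    rw [not_or, not_lt] at hcon
    apply H
    rcases Nat.lt_or_ge 1 k with h1 | h1
    · obtain ⟨φ, hφ⟩ := exists_mem_cycT (F := F) hr.ne_zero
      obtain ⟨g, hg⟩ := exists_lin (F := F) (n := n) (m := {φ, (X - C 1) ^ 2}) (t := r * p)
        (by simpa [isPrim_of_mem_cycT hφ] using isPrim_X_sub_one_pow (F := F) one_le_two)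
        (by
          simp only [Multiset.insert_eq_cons, Multiset.mem_cons, Multiset.mem_singleton,
            forall_eq_or_imp, forall_eq, not_X_dvd_cyc hr.ne_zero hφ]
          simp [X_dvd_iff, coeff_zero_eq_eval_zero])
        (by
          simp only [Multiset.insert_eq_cons, Multiset.map_cons, Multiset.map_singleton,
            natDegree_X_sub_C, Multiset.sum_cons, Multiset.sum_singleton,
            (monic_X_sub_C _).natDegree_pow, natDegree_cyc hF hφ, Nat.card_eq_fintype_card, ← hk]
          omega)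
        (fun M => by
          simp only [Multiset.insert_eq_cons, Multiset.mem_cons, Multiset.mem_singleton,
            forall_eq_or_imp, forall_eq, cyc_dvd_iff hF hφ]
          rw [← C_1, C_1, ← C_1 (R := F), sq_dvd p one_ne_zero]
          simp only [one_pow, true_and]
          exact ⟨fun h => hc.mul_dvd_of_dvd_of_dvd h.1 h.2,
            fun h => ⟨(dvd_mul_right _ _).trans h, (dvd_mul_left _ _).trans h⟩⟩)
      obtain ⟨x, hx⟩ := exists_PSL g (by
        rw [hg]
        refine Nat.Coprime.mul_left ((Nat.Prime.coprime_iff_not_dvd hr).2 fun h => ?_)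
          ((Nat.Prime.coprime_iff_not_dvd hp).2 hp2)
        have := Nat.le_of_dvd one_pos ((orderOf_dvd_iff_dvd (k := 1) (x := Fintype.card F)
          (by omega)).2 (by simpa using h))
        omega)
      exact ⟨x, hx.trans hg⟩
    · have h2 : r ∣ Fintype.card F - 1 := by
        simpa using (orderOf_dvd_iff_dvd (k := 1) (x := Fintype.card F) (N := r) (by omega)).1
          (by rw [← hk, show k = 1 by omega])
      rcases Nat.lt_or_ge 3 n with h3 | h3
      · have := Fact.mk hr
        obtain ⟨a, ha⟩ := exists_prime_orderOf_dvd_card (G := Fˣ) r (by rwa [Fintype.card_units])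
        have ha' : ∀ M, (a : F) ^ M = 1 ↔ r ∣ M := fun M => by
          rw [← ha, orderOf_dvd_iff_pow_eq_one, ← Units.val_pow_eq_pow_val, Units.val_eq_one]
        have hl : ∀ b : F, IsPrim (X - C b) := fun b => by simpa using isPrim_X_sub_C_pow b le_rfl
        obtain ⟨j, rfl⟩ : ∃ j, n = 4 + j := ⟨n - 4, by omega⟩
        obtain ⟨g, hg⟩ := exists_SL (F := F) (n := 4 + j)
          (m := (X - C 1) ^ 2 ::ₘ (X - C (a : F)) ::ₘ (X - C (a : F)⁻¹) ::ₘ
            Multiset.replicate j (X - C 1))
          (by
            simp only [Multiset.mem_cons, forall_eq_or_imp, hl, isPrim_X_sub_C_pow _ one_le_two,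
              true_and]
            exact fun d hd => Multiset.eq_of_mem_replicate hd ▸ hl 1)
          (by
            simp only [Multiset.map_cons, Multiset.sum_cons, natDegree_X_sub_C,
              (monic_X_sub_C _).natDegree_pow, Multiset.map_replicate, Multiset.sum_replicate]
            simp; omega)
          (by simp [coeff_zero_eq_eval_zero, pow_add]; norm_num)
        have key : ∀ M, orderOf (QuotientGroup.mk g :
            Matrix.ProjectiveSpecialLinearGroup (Fin (4 + j)) F) ∣ M ↔ r * p ∣ M := fun M => by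
          rw [orderOf_mk_dvd_iff, hg]
          simp only [Multiset.mem_cons, forall_eq_or_imp, lin_dvd, sq_dvd p one_ne_zero, one_pow]
          constructor
          · rintro ⟨c, ⟨rfl, h4⟩, h5, -⟩
            exact hc.mul_dvd_of_dvd_of_dvd ((ha' M).1 h5) h4
          · intro h
            have h5 := (ha' M).2 ((dvd_mul_right _ _).trans h)
            exact ⟨1, ⟨rfl, (dvd_mul_left _ _).trans h⟩, h5, by rw [inv_pow, h5, inv_one],
              fun d hd => Multiset.eq_of_mem_replicate hd ▸ (lin_dvd _ _ _).2 (one_pow M)⟩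
        exact ⟨_, Nat.dvd_antisymm ((key _).2 dvd_rfl) ((key _).1 dvd_rfl)⟩
      · obtain rfl : n = 3 := by omega
        rw [Cfsg.Agent.S2476.result p]
        refine .inr (.inr (.inr (.inl ?_)))
        rw [Nat.mul_div_assoc _ (Nat.gcd_dvd_right _ _), mul_comm]
        refine Nat.mul_dvd_mul_left p ((Nat.dvd_div_iff_mul_dvd (Nat.gcd_dvd_right _ _)).2 ?_)
        by_cases h4 : r = 3
        · subst h4
          rw [Nat.gcd_eq_left h2]
          by_contra h5
          exact hcon.2 ⟨rfl, rfl, h2, h5⟩
        · exact Nat.Coprime.mul_dvd_of_dvd_of_dvd (((Nat.coprime_primes Nat.prime_three hr).2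
            (Ne.symm h4)).coprime_dvd_left (Nat.gcd_dvd_left _ _)) (Nat.gcd_dvd_right _ _) h2
  · rintro H ⟨x, hx⟩
    rcases H with H | ⟨rfl, rfl, h3, h9⟩
    · rcases Nat.lt_or_ge 1 k with h1 | h1
      · have := ord_add_two_le p hr hF x (hx ▸ dvd_mul_right _ _) (hx ▸ dvd_mul_left _ _) (hk ▸ h1)
        omega
      · obtain rfl : n = 2 := by omega
        have h := (Cfsg.Agent.S2475.result p (hsmall rfl)).subset ⟨x, hx⟩
        rcases h with h | h | h
        · have := Nat.le_of_dvd hp.pos h
          nlinarith [hr.two_le, hp.pos]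
        · exact hp2 (((dvd_mul_left _ _).trans h).trans (Nat.div_dvd_of_dvd (Nat.gcd_dvd_right _ _)))
        · refine hp1 2 two_ne_zero (((dvd_mul_left _ _).trans h).trans ((Nat.div_dvd_of_dvd ?_).trans ?_))
          · rw [show Fintype.card F + 1 = 2 + (Fintype.card F - 1) by omega]
            exact dvd_add (Nat.gcd_dvd_left _ _) (Nat.gcd_dvd_right _ _)
          · rw [CA.SLnCard.sq_sub_one]; exact dvd_mul_right _ _
    · have h := (Cfsg.Agent.S2476.result p).subset ⟨x, hx⟩
      rw [Nat.gcd_eq_left h3] at h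
      rcases h with h | h | h | h | ⟨rfl, h⟩
      · refine hp1 3 three_ne_zero (((dvd_mul_left _ _).trans h).trans ((Nat.div_dvd_of_dvd ?_).trans ?_))
        · obtain ⟨t, ht⟩ := h3
          rw [show Fintype.card F = 3 * t + 1 by omega]
          exact ⟨3 * t ^ 2 + 3 * t + 1, by ring⟩
        · rw [← ar4 _ hq]; exact Nat.div_dvd_of_dvd (Nat.sub_one_dvd_pow_sub_one _ _)
      · exact hp1 2 two_ne_zero (((dvd_mul_left _ _).trans h).trans (Nat.div_dvd_of_dvd
          (h3.trans (Nat.sub_one_dvd_pow_sub_one _ _))))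
      · exact hp2 ((dvd_mul_left _ _).trans h)
      · rw [Nat.mul_div_assoc _ h3, mul_comm, Nat.mul_dvd_mul_iff_left hp.pos] at h
        omega
      · omega

end Cfsg.Agent.S2470
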