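import Cfsg.Statements.S2472
import Cfsg.Agent.Lib.Lin.SpecF

set_option autoImplicit false
open Cfsg

namespace Cfsg.Agent.S2472

open CA.CForm CA.CForm.Form CA.Rcf Module Polynomial in
/-- Adjacency of a prime and the characteristic in the prime graph of PSp(2n,q): let F be a finite field of characteristic p with q elements, n ≥ 2 with PSp(2n,F) simple, and let r ≠ p be an odd prime dividing the order of PSp(2n,F), with k the multiplicative order of q modulo r and η(k) = k for odd k, k/2 for even k. Then PSp(2n,F) has NO element of order r·p if and only if η(k) > n − 1. -/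
theorem result {F : Type*} [Field F] [Fintype F] (p : ℕ) [Fact p.Prime] [CharP F p] (n : ℕ) (hn : 2 ≤ n) (hsmall : n = 2 → 3 ≤ Fintype.card F)
    (r : ℕ) (hr : r.Prime) (hr2 : r ≠ 2) (hrp : r ≠ p) (hrG : r ∣ Nat.card (Cfsg.PSp n F))
    (k ηk : ℕ) (hk : k = orderOf ((Fintype.card F : ℕ) : ZMod r)) (hηk : (Odd k ∧ ηk = k) ∨ (Even k ∧ 2 * ηk = k)) :
    (r * p ∉ Set.range (orderOf : Cfsg.PSp n F → ℕ)) ↔ n - 1 < ηk := by
  rw [← Nat.card_eq_fintype_card] at hk
  subst hk
  have he : Eta _ ηk := hηk
  have h0 := he.pos p hr hrp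
  rw [psp_spec p hn, ← not_le, not_iff_not]
  constructor
  · rintro ⟨k, N, S, h1, h2, h3, h4, -⟩
    obtain ⟨t, h5, h6⟩ := exists_tor_of_dvd p hr hrp ((dvd_mul_right _ _).trans h3) h4
    have := Nat.le_of_dvd (h1 t h5) (he.dvd Nat.card_pos h6)
    have := le_wt h5
    rcases k with _ | j
    · exact absurd ((coprime_tl p h1).symm.eq_one_of_dvd
        ((dvd_mul_left _ _).trans (h3.trans ((mul_one N).symm ▸ h4)))) (Fact.out : p.Prime).ne_one
    have := Nat.pow_pos (n := j) (Fact.out : p.Prime).pos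
    simp only [cst] at h2
    omega
  · exact fun h => ⟨1, r, {(ηk, _)}, by simpa, by simp [cst]; omega, by simp,
      tl_singleton ▸ he.tor h0 Nat.card_pos hr hr2 odd_one (mul_one _).symm, by simp⟩

end Cfsg.Agent.S2472
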