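import Cfsg.Statements.S2493
import Cfsg.Agent.S0447

set_option autoImplicit false
open Cfsg

namespace Cfsg.Agent.S2493


section Aux
open Equiv Equiv.Perm Finset CA.SchurAlt CA.SchurCarm

variable {α : Type*} [Fintype α] [DecidableEq α]

theorem card_sq_le {H : Type*} [Group H] [Fintype H] [DecidableEq H] [IsCyclic H] (a : H) :
    #{u : H | u ^ 2 = a} ≤ 2 := by
  rcases (({u : H | u ^ 2 = a} : Finset H)).eq_empty_or_nonempty with h | ⟨v, hv⟩
  · simp [h]
  refine le_trans (card_le_card_of_injOn (fun u => u * v⁻¹) (fun u hu => ?_)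
    fun u _ w _ h => mul_right_cancel h) (IsCyclic.card_pow_eq_one_le (α := H) two_pos)
  simp only [coe_filter, mem_univ, true_and, Set.mem_setOf_eq, mem_filter] at hu hv ⊢
  rw [(show Commute u v⁻¹ from mul_comm' _ _).mul_pow, inv_pow, hu, hv, mul_inv_cancel]

structure Dec (σ s t : Perm α) : Prop where
  hs : s ^ 2 = 1
  ht : t ^ 2 = 1
  eq : σ = s * t
  ss : s.support ⊆ σ.support
  st : t.support ⊆ σ.support
  lt : σ ≠ 1 → #s.support + #t.support < 2 * #σ.support

theorem Dec.swap {σ s t : Perm α} (h : Dec σ s t) : Dec σ (s * t * s⁻¹) s := by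
  refine ⟨by rw [conj_pow, h.ht]; group, h.hs, by rw [h.eq]; group, fun x hx => ?_, h.ss,
    fun e => by rw [card_support_conj, add_comm]; exact h.lt e⟩
  by_contra h1
  have h2 : s x = x := notMem_support.1 fun e => h1 (h.ss e)
  have h3 : t x = x := notMem_support.1 fun e => h1 (h.st e)
  apply mem_support.1 hx
  rw [Perm.mul_apply, Perm.mul_apply, inv_eq_iff_eq.2 h2.symm, h3, h2]

theorem Dec.norm {σ s t : Perm α} (h : Dec σ s t) (h1 : #s.support ≤ #t.support + 2)
    (h2 : #t.support ≤ #s.support + 2) :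
    ∃ s t, Dec σ s t ∧ #t.support ≤ #s.support ∧ #s.support ≤ #t.support + 2 := by
  rcases le_total (#t.support) (#s.support) with h3 | h3
  · exact ⟨s, t, h, h3, h1⟩
  · exact ⟨_, _, h.swap, by rwa [card_support_conj], by rwa [card_support_conj]⟩

theorem dec_cycle {c : Perm α} (hc : c.IsCycle) :
    ∃ s t, Dec c s t ∧ #t.support ≤ #s.support ∧ #s.support ≤ #t.support + 2 := by
  classical
  let e := hc.zpowersEquivSupport
  let s : Perm α := ofSubtype (e.permCongr (Equiv.inv _))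
  let c' : Subgroup.zpowers c := ⟨c, Subgroup.mem_zpowers c⟩
  have h1 : ∀ u, s (e u) = e u⁻¹ := fun u => by simp [s]
  have h2 : ∀ y, y ∉ c.support → s y = y := fun y hy => ofSubtype_apply_of_not_mem _ hy
  have h3 : ∀ u, c (e u) = e (c' * u) := fun u => rfl
  have h4 : ∀ y ∈ c.support, ∃ u, (e u : α) = y := fun y hy =>
    ⟨e.symm ⟨y, hy⟩, by rw [e.apply_symm_apply]⟩
  have hs : s ^ 2 = 1 := by
    ext y
    rw [sq, Perm.mul_apply, Perm.one_apply]
    by_cases hy : y ∈ c.support
    · obtain ⟨u, rfl⟩ := h4 y hy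
      rw [h1, h1, inv_inv]
    · rw [h2 y hy, h2 y hy]
  have ht : (s * c) ^ 2 = 1 := by
    ext y
    simp only [sq, Perm.mul_apply, Perm.one_apply]
    by_cases hy : y ∈ c.support
    · obtain ⟨u, rfl⟩ := h4 y hy
      rw [h3, h1, h3, h1, mul_comm' c' u]
      simp
    · rw [notMem_support.1 hy, h2 y hy, notMem_support.1 hy, h2 y hy]
  have ss : s.support ⊆ c.support := fun y hy => by
    by_contra h; exact mem_support.1 hy (h2 y h)
  have st : (s * c).support ⊆ c.support := (support_mul_le s c).trans (sup_le ss le_rfl)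
  have key : ∀ (r : Perm α) (a : Subgroup.zpowers c), r.support ⊆ c.support →
      (∀ u, r (e u) = e u → u ^ 2 = a) → #c.support ≤ #r.support + 2 := by
    intro r a hr h
    rw [← card_sdiff_add_card_eq_card hr, add_comm]
    refine Nat.add_le_add_left (le_trans (card_le_card (t := image (fun u => (e u : α))
      {u | u ^ 2 = a}) fun y hy => ?_) (card_image_le.trans (card_sq_le a))) _
    obtain ⟨h5, h6⟩ := mem_sdiff.1 hy
    obtain ⟨u, rfl⟩ := h4 y h5
    exact mem_image.2 ⟨u, by simpa using h u (notMem_support.1 h6), rfl⟩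
  have k1 := key s 1 ss fun u hu => by
    rw [h1] at hu
    rw [sq]
    exact inv_eq_iff_mul_eq_one.1 (e.injective (Subtype.ext hu))
  have k2 := key (s * c) c'⁻¹ st fun u hu => by
    rw [Perm.mul_apply, h3, h1] at hu
    rw [sq, eq_inv_iff_mul_eq_one, mul_comm', ← mul_assoc]
    exact inv_eq_iff_mul_eq_one.1 (e.injective (Subtype.ext hu))
  have k3 := card_le_card st
  have k4 : #s.support < #c.support := card_lt_card ⟨ss, fun h =>
    mem_support.1 (h (e 1).2) (by rw [h1, inv_one])⟩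
  refine Dec.norm (s := s) (t := s * c) ⟨hs, ht, by rw [← mul_assoc, ← sq, hs, one_mul], ss, st,
    fun _ => by omega⟩ (by omega) (by omega)

theorem exists_dec (σ : Perm α) :
    ∃ s t, Dec σ s t ∧ #t.support ≤ #s.support ∧ #s.support ≤ #t.support + 2 := by
  induction σ using cycle_induction_on with
  | base_one => exact ⟨1, 1, ⟨by simp, by simp, by simp, by simp, by simp, by simp⟩, by simp, by simp⟩
  | base_cycles σ h => exact dec_cycle h
  | induction_disjoint σ τ hd hc h1 h2 =>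
    obtain ⟨s, t, h1, a1, a2⟩ := h1
    obtain ⟨t', s0, h2, b1, b2⟩ := h2
    have h3 := h2.swap
    have e : #(t' * s0 * t'⁻¹).support = #s0.support := card_support_conj
    generalize t' * s0 * t'⁻¹ = s' at h3 e
    have d1 := hd.mono h1.ss h3.ss
    have d2 := hd.mono h1.st h3.st
    have d3 := hd.mono h1.st h3.ss
    have c1 := d1.card_support_mul
    have c2 := d2.card_support_mul
    have c3 := hd.card_support_mul
    have c4 := h1.lt hc.ne_one
    have c5 := card_le_card h3.ss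
    have c6 := card_le_card h3.st
    refine Dec.norm (s := s * s') (t := t * t') ⟨?_, ?_, ?_, ?_, ?_, fun _ => by omega⟩ (by omega)
      (by omega)
    · rw [d1.commute.mul_pow, h1.hs, h3.hs, one_mul]
    · rw [d2.commute.mul_pow, h1.ht, h3.ht, one_mul]
    · rw [h1.eq, h3.eq, mul_assoc, mul_assoc, ← mul_assoc t, d3.commute.eq, mul_assoc]
    · rw [d1.support_mul, hd.support_mul]; exact union_subset_union h1.ss h3.ss
    · rw [d2.support_mul, hd.support_mul]; exact union_subset_union h1.st h3.st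

theorem inv_data {s : Perm α} (h : s ^ 2 = 1) : ∃ k, #s.support = 2 * k ∧
    s.cycleType = Multiset.replicate k 2 ∧ sign s = (-1) ^ k := by
  haveI : Fact (Nat.Prime 2) := ⟨Nat.prime_two⟩
  have h1 := cycleType_of_pow_prime_eq_one h
  refine ⟨s.cycleType.card, ?_, h1, ?_⟩
  · rw [← sum_cycleType, h1]; simp [mul_comm]
  · rw [sign_of_cycleType, pow_add]
    nth_rewrite 1 [h1]
    simp [pow_mul']

theorem four {s γ : Perm α} (h : s ^ 2 = 1) (h4 : 4 ≤ #s.support) (hd : Perm.Disjoint s γ) :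
    ∃ x y z w, [x, y, z, w].Nodup ∧ (s * γ) x = y ∧ (s * γ) y = x ∧ (s * γ) z = w ∧
      (s * γ) w = z := by
  have h1 : ∀ x, s (s x) = x := fun x => by rw [← Perm.mul_apply, ← sq, h, Perm.one_apply]
  have h2 : ∀ x ∈ s.support, (s * γ) x = s x := fun x hx => by
    rw [Perm.mul_apply, (hd x).resolve_left (mem_support.1 hx)]
  obtain ⟨x, hx⟩ : s.support.Nonempty := card_pos.1 (by omega)
  obtain ⟨z, hz, hz'⟩ := exists_mem_notMem_of_card_lt_card (s := {x, s x}) (t := s.support)
    (lt_of_le_of_lt card_le_two (by omega))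
  have hx' := mem_support.1 hx
  have hz'' := mem_support.1 hz
  simp only [mem_insert, mem_singleton, not_or] at hz'
  refine ⟨x, s x, z, s z, ?_, h2 x hx, by rw [h2 _ (apply_mem_support.2 hx), h1], h2 z hz,
    by rw [h2 _ (apply_mem_support.2 hz), h1]⟩
  have : x ≠ s z := fun e => hz'.2 (by rw [e, h1])
  have : s x ≠ s z := fun e => hz'.1 (s.injective e).symm
  simp only [List.nodup_cons, List.mem_cons, List.not_mem_nil, or_false, not_or, not_false_eq_true,
    List.nodup_nil, and_true]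
  exact ⟨⟨hx'.symm, Ne.symm hz'.1, ‹_›⟩, ⟨Ne.symm hz'.2, ‹_›⟩, hz''.symm⟩

theorem three {s : Perm α} (h : s ^ 2 = 1) {i j : α} (hi : s i = i) (hj : s j ≠ j) :
    ∃ s' γ : Perm α, s' ^ 2 = 1 ∧ #s'.support + 2 = #s.support ∧ Perm.Disjoint s' γ ∧
      γ.IsThreeCycle ∧ s * swap i j = s' * γ := by
  have h1 : ∀ x, s (s x) = x := fun x => by rw [← Perm.mul_apply, ← sq, h, Perm.one_apply]
  have ij : i ≠ j := fun e => hj (e ▸ hi)
  have isj : i ≠ s j := fun e => ij (by rw [← hi, e, h1])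
  have d1 : Perm.Disjoint (s * swap j (s j)) (swap j (s j)) := fun x => by
    by_cases a : x = j
    · left; rw [a, Perm.mul_apply, swap_apply_left, h1]
    by_cases b : x = s j
    · left; rw [b, Perm.mul_apply, swap_apply_right]
    · right; exact swap_apply_of_ne_of_ne a b
  refine ⟨s * swap j (s j), swap j (s j) * swap j i, ?_, ?_, fun x => ?_,
    isThreeCycle_swap_mul_swap_same hj.symm ij.symm isj.symm, ?_⟩
  · rw [sq, mul_assoc, ← mul_assoc (swap _ _), ← mul_assoc s, ← mul_assoc s,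
      mul_swap_eq_swap_mul s j, h1, swap_comm (s j), mul_assoc _ s s, ← sq, h]
    simp
  · rw [← card_support_swap hj.symm, ← d1.card_support_mul, mul_swap_mul_self]
  · by_cases c : x = i
    · left; rw [c, Perm.mul_apply, swap_apply_of_ne_of_ne ij isj, hi]
    by_cases a : x = j
    · left; rw [a, Perm.mul_apply, swap_apply_left, h1]
    by_cases b : x = s j
    · left; rw [b, Perm.mul_apply, swap_apply_right]
    · right; rw [Perm.mul_apply, swap_apply_of_ne_of_ne a c, swap_apply_of_ne_of_ne a b]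
  · rw [← mul_assoc, mul_swap_mul_self, swap_comm]

theorem ext_swap {s : Perm α} (h : s ^ 2 = 1) {p q : α} (hpq : p ≠ q) (hp : p ∉ s.support)
    (hq : q ∉ s.support) : (s * swap p q) ^ 2 = 1 ∧ #(s * swap p q).support = #s.support + 2 ∧
      Commute s (swap p q) := by
  have d : Perm.Disjoint s (swap p q) := by
    rw [disjoint_iff_disjoint_support, support_swap hpq]
    simp [hp, hq, notMem_support.1 hp, notMem_support.1 hq]
  exact ⟨by rw [d.commute.mul_pow, h, one_mul, sq, swap_mul_self],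
    by rw [d.card_support_mul, card_support_swap hpq], d.commute⟩

variable {Γ : Type*} [Group Γ] {τ : Γ →* alternatingGroup α} {L : α → α → α → Γ}

theorem main (hs : Function.Surjective τ) (hc : τ.ker ≤ Subgroup.center Γ) (hL : Lifts τ L)
    (h2 : Nat.card τ.ker = 2) (hns : ∀ f, τ.comp f ≠ MonoidHom.id _) {a b : Perm α}
    (ha : sign a = 1) (hab : IsConj a b⁻¹) {x y z w : α} (hn : [x, y, z, w].Nodup)
    (h1 : a x = y ∧ a y = x ∧ a z = w ∧ a w = z) (g : Γ) (hg : (τ g).1 = a * b) :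
    ∃ u v : Γ, u * v * u⁻¹ * v⁻¹ = g := by
  simp only [List.nodup_cons, List.mem_cons, List.not_mem_nil, or_false, not_or] at hn
  obtain ⟨⟨xy, xz, xw⟩, ⟨yz, yw⟩, zw, -⟩ := hn
  obtain ⟨r, hr, hr'⟩ : ∃ r : Perm α, sign r = 1 ∧ r * a * r⁻¹ = b⁻¹ := by
    obtain ⟨r, hr⟩ := isConj_iff.1 hab
    rcases Int.units_eq_one_or (sign r) with e | e
    · exact ⟨r, e, hr⟩
    refine ⟨r * swap x y, by rw [Perm.sign_mul, e, sign_swap xy]; simp, ?_⟩
    have e2 : swap x y * a = a * swap x y := by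
      rw [mul_swap_eq_swap_mul, h1.1, h1.2.1, swap_comm]
    rw [← hr, mul_assoc r, e2, mul_inv_rev, swap_inv, ← mul_assoc, ← mul_assoc, mul_swap_mul_self]
  obtain ⟨u, hu⟩ := hs ⟨a, mem_alternatingGroup.2 ha⟩
  obtain ⟨v, hv⟩ := hs ⟨r, mem_alternatingGroup.2 hr⟩
  have h3 : (u * v * u⁻¹ * v⁻¹)⁻¹ * g ∈ τ.ker := by
    rw [MonoidHom.mem_ker, map_mul, map_inv, inv_mul_eq_one]
    apply Subtype.ext
    rw [hg, ← inv_inv b, ← hr']
    simp only [map_mul, map_inv, hu, hv, Subgroup.coe_mul, Subgroup.coe_inv]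
    group
  by_cases h4 : (u * v * u⁻¹ * v⁻¹)⁻¹ * g = 1
  · exact ⟨u, v, inv_mul_eq_one.1 h4⟩
  have h5 := (z_ne_one hs hc hL zw (fun z hz => S0447.sq_one h2 hz) hns).2 ⟨x, xz, xw⟩ ⟨y, yz, yw⟩
    fun e => xy (congrArg Subtype.val e)
  have h6 := z_mem hL zw (i := ⟨x, xz, xw⟩) (j := ⟨y, yz, yw⟩) fun e => xy (congrArg Subtype.val e)
  have h7 : u * (L x z w * L y z w) * u⁻¹ = (L x z w * L y z w)⁻¹ := by
    rw [← conj_mul, hL.conj _ _ _ xz zw xw, hL.conj _ _ _ yz zw yw, hu]
    simp only [h1.1, h1.2.1, h1.2.2.1, h1.2.2.2]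
    rw [hL.inv _ _ _ xz zw xw, hL.inv _ _ _ yz zw yw, mul_inv_rev]
  have h8 := S0447.two_eq h2 h3 (inv_mem h6) h4 (inv_ne_one.2 h5)
  simp only at h5 h6 h8
  generalize L x z w * L y z w = c at h6 h7 h8
  refine ⟨u, v * c, ?_⟩
  calc u * (v * c) * u⁻¹ * (v * c)⁻¹ = u * v * (c * (u⁻¹ * c⁻¹ * u) * u⁻¹) * v⁻¹ := by group
    _ = u * v * u⁻¹ * ((c ^ 2)⁻¹ * v⁻¹) := by
      have e : c * (u⁻¹ * c⁻¹ * u) = c ^ 2 := by rw [← h7, sq]; group
      have e2 : c ^ 2 = (c ^ 2)⁻¹ := by
        rw [eq_inv_iff_mul_eq_one, ← sq]; exact S0447.sq_one h2 h6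
      rw [e, ← Subgroup.mem_center_iff.1 (hc h6), ← e2]; group
    _ = g := by
      rw [← Subgroup.mem_center_iff.1 (hc (inv_mem h6)), ← h8]; group

theorem main2 (hs : Function.Surjective τ) (hc : τ.ker ≤ Subgroup.center Γ) (hL : Lifts τ L)
    (h2 : Nat.card τ.ker = 2) (hns : ∀ f, τ.comp f ≠ MonoidHom.id _) {s t : Perm α}
    (h1 : s ^ 2 = 1) (h3 : t ^ 2 = 1) {k : ℕ} (h4 : #s.support = 4 * (k + 1))
    (h5 : #t.support = 4 * (k + 1)) (g : Γ) (hg : (τ g).1 = s * t) :
    ∃ u v : Γ, u * v * u⁻¹ * v⁻¹ = g := by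
  obtain ⟨i, a1, a2, a3⟩ := inv_data h1
  obtain ⟨j, b1, b2, b3⟩ := inv_data h3
  obtain ⟨x, y, z, w, h6, h7⟩ := four h1 (by omega) (disjoint_one_right s)
  rw [mul_one] at h7
  refine main hs hc hL h2 hns ?_ ?_ h6 h7 g hg
  · rw [a3, show i = 2 * (k + 1) by omega, pow_mul]; simp
  · rw [isConj_iff_cycleType_eq, cycleType_inv, a2, b2, show i = j by omega]

end Aux

open Equiv Equiv.Perm Finset CA.SchurAlt CA.SchurCarm in

/-- Let n ≥ 5 and let G be a finite perfect group whose centre has order 2 with G/Z(G) isomorphic to the alternating group of degree n (the double cover of the alternating group). Then every element of G is a commutator. -/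
theorem result {G : Type*} [Group G] [Finite G] (hperf : commutator G = ⊤) {n : ℕ} (hn : 5 ≤ n)
    (hZ : Nat.card (Subgroup.center G) = 2) (e : G ⧸ Subgroup.center G ≃* alternatingGroup (Fin n))
    (g : G) :
    ∃ a b : G, a * b * a⁻¹ * b⁻¹ = g := by
  let τ := e.toMonoidHom.comp (QuotientGroup.mk' (Subgroup.center G))
  have hk : τ.ker = Subgroup.center G := by ext x; simp [τ]
  have hs : Function.Surjective τ := e.surjective.comp (QuotientGroup.mk'_surjective _)
  rw [← hk] at hZ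
  obtain ⟨L, hL⟩ := exists_lifts hs hk.le (k := 4) rfl fun z hz => by
    rw [show 4 = 2 * 2 from rfl, pow_mul, S0447.sq_one hZ hz, one_pow]
  have hns : ∀ f, τ.comp f ≠ MonoidHom.id _ := fun f hf => by
    have h3 := CA.SchurHopf.surj_of_stem ⟨hs, hk.le, hperf ▸ le_top⟩ f (hf ▸ Function.surjective_id)
    have : τ.ker = ⊥ := eq_bot_iff.mpr fun x hx => by
      obtain ⟨a, rfl⟩ := h3 x
      rw [show a = 1 from (DFunLike.congr_fun hf a).symm.trans hx, map_one]; exact Subgroup.one_mem _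
    rw [this] at hZ; simp at hZ
  obtain ⟨s, t, hd, h1, h2⟩ := exists_dec (τ g).1
  obtain ⟨i, a1, a2, a3⟩ := inv_data hd.hs
  obtain ⟨j, b1, b2, b3⟩ := inv_data hd.ht
  obtain rfl : i = j := by
    by_contra h
    have h3 : sign (τ g).1 = 1 := (τ g).2
    rw [hd.eq, Perm.sign_mul, a3, b3, show i = j + 1 by omega, ← pow_add,
      show j + 1 + j = 2 * j + 1 by omega, pow_succ, pow_mul] at h3
    simp at h3
  have dbl : ∀ a b c d : Fin n, [a, b, c, d].Nodup → (swap a b * swap c d) ^ 2 = 1 ∧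
      #(swap a b * swap c d).support = 4 * (0 + 1) := fun a b c d h => by
    have h3 := disjoint_swap_swap h
    simp only [List.nodup_cons, List.mem_cons, List.not_mem_nil, or_false, not_or] at h
    exact ⟨by rw [h3.commute.mul_pow, sq, sq, swap_mul_self, swap_mul_self, one_mul],
      by rw [h3.card_support_mul, card_support_swap h.1.1, card_support_swap h.2.2.1]⟩
  rcases Nat.even_or_odd' i with ⟨k, rfl | rfl⟩
  · rcases k with - | k
    · obtain ⟨h3, h4⟩ := dbl ⟨0, by omega⟩ ⟨1, by omega⟩ ⟨2, by omega⟩ ⟨3, by omega⟩ (by simp)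
      refine main2 hs hk.le hL hZ hns h3 h3 h4 h4 g ?_
      rw [← sq, h3, hd.eq, card_support_eq_zero.1 a1, card_support_eq_zero.1 b1, one_mul]
    · exact main2 hs hk.le hL hZ hns hd.hs hd.ht (k := k) (by omega) (by omega) g hd.eq
  rcases k with - | k
  · by_cases h : _root_.Disjoint s.support t.support
    · obtain ⟨a, b, ab, rfl⟩ := card_support_eq_two.1 a1
      obtain ⟨c, d, cd, rfl⟩ := card_support_eq_two.1 b1
      rw [support_swap ab, support_swap cd] at h
      simp only [disjoint_insert_left, mem_insert, mem_singleton, not_or,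
        disjoint_singleton_left] at h
      obtain ⟨⟨ac, ad⟩, bc, bd⟩ := h
      obtain ⟨h3, h4⟩ := dbl a c b d (by simp [*, Ne.symm bc])
      obtain ⟨h5, h6⟩ := dbl a d b c (by simp [*, Ne.symm bd, Ne.symm cd])
      refine main2 hs hk.le hL hZ hns h3 h5 h4 h6 g (hd.eq.trans ?_)
      ext1 x
      simp only [Perm.mul_apply]
      grind
    · have h3 := card_union_add_card_inter s.support t.support
      have h4 := card_pos.2 (not_disjoint_iff_nonempty_inter.1 h)
      have h5 := card_compl (s.support ∪ t.support)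
      rw [Fintype.card_fin] at h5
      obtain ⟨p, hp, q, hq, pq⟩ := one_lt_card.1 (show 1 < #(s.support ∪ t.support)ᶜ by omega)
      rw [mem_compl, mem_union, not_or] at hp hq
      obtain ⟨c1, c2, -⟩ := ext_swap hd.hs pq hp.1 hq.1
      obtain ⟨d1, d2, d3⟩ := ext_swap hd.ht pq hp.2 hq.2
      refine main2 hs hk.le hL hZ hns c1 d1 (k := 0) (by omega) (by omega) g ?_
      rw [d3.eq, hd.eq, ← mul_assoc, mul_swap_mul_self]
  have h3 : s.support ≠ t.support := fun h => by
    have h4 := card_le_card ((hd.eq ▸ support_mul_le s t).trans (sup_le le_rfl h.ge))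
    have h5 := card_le_card hd.ss
    have h6 := hd.lt fun e => by rw [e, support_one, card_empty] at h5; omega
    omega
  obtain ⟨j, hj, hj'⟩ := not_subset.1 fun h => h3 (eq_of_subset_of_card_le h (by omega))
  obtain ⟨i, hi, hi'⟩ := not_subset.1 fun h => h3 (eq_of_subset_of_card_le h (by omega)).symm
  obtain ⟨s', γ, c1, c2, c3, c4, c5⟩ := three hd.hs (notMem_support.1 hi') (mem_support.1 hj)
  obtain ⟨t', δ, d1, d2, d3, d4, d5⟩ := three hd.ht (notMem_support.1 hj') (mem_support.1 hi)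
  obtain ⟨i', e1, e2, e3⟩ := inv_data c1
  obtain ⟨j', f1, f2, f3⟩ := inv_data d1
  obtain ⟨x, y, z, w, h6, h7⟩ := four c1 (by omega) c3
  refine main hs hk.le hL hZ hns (b := (t' * δ)⁻¹) ?_ ?_ h6 h7 g ?_
  · rw [Perm.sign_mul, e3, c4.sign, show i' = 2 * (k + 1) by omega, pow_mul]; simp
  · rw [inv_inv, isConj_iff_cycleType_eq, c3.cycleType_mul, d3.cycleType_mul, e2, f2, c4.cycleType,
      d4.cycleType, show i' = j' by omega]
  · rw [← c5, ← d5, mul_inv_rev, swap_inv, swap_comm j, ← mul_assoc, mul_swap_mul_self, hd.eq,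
      inv_eq_of_mul_eq_one_right (by rw [← sq, hd.ht])]

end Cfsg.Agent.S2493
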