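import Cfsg.Statements.S2518
import Cfsg.Agent.Lib.Lie.SSG2
import Cfsg.Agent.S2475
-- import your own Cfsg.Agent.* helpers here

set_option autoImplicit false
open Cfsg

namespace Cfsg.Agent.S2518

open CA.Chev Cfsg.Lie

/-- Let F₃ be the field with 3 elements and F₁₃ the field with 13 elements. The Chevalley group G₂(F₃) and PSL(2, F₁₃) have the same prime graph: the same prime divisors of their orders, and for distinct primes r, s an element of order rs in one iff in the other. -/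
theorem result {F : Type*} [Field F] [Fintype F] (hF : Fintype.card F = 3) {E : Type*} [Field E] [Fintype E] (hE : Fintype.card E = 13) :
    ((∀ r : ℕ, r.Prime → (r ∣ Nat.card ↥(Cfsg.Lie.chevG2.group F) ↔ r ∣ Nat.card (Matrix.ProjectiveSpecialLinearGroup (Fin 2) E))) ∧
      (∀ r s : ℕ, r.Prime → s.Prime → r ≠ s → ((∃ x : ↥(Cfsg.Lie.chevG2.group F), orderOf x = r * s) ↔ (∃ y : (Matrix.ProjectiveSpecialLinearGroup (Fin 2) E), orderOf y = r * s)))) := by
  have := Fact.mk Nat.prime_three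
  have := Fact.mk (by decide : Nat.Prime 13)
  have := charP_of_card_eq_prime hF
  have := charP_of_card_eq_prime hE
  have h1 := Set.ext_iff.1 (S2475.result (F := E) 13 (by omega))
  simp only [hE, Set.mem_range, Set.mem_ofPred_eq] at h1
  have h2 : ∀ r : ℕ, r.Prime → (r ∣ Nat.card (Matrix.ProjectiveSpecialLinearGroup (Fin 2) E) ↔ r ∣ 13 ∨ r ∣ 6 ∨ r ∣ 7) :=
    fun r hr => by
    have := Fact.mk hr
    exact ⟨fun h => (h1 r).1 (exists_prime_orderOf_dvd_card' r h), fun h => let ⟨x, hx⟩ := (h1 r).2 h; hx ▸ orderOf_dvd_natCard x⟩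
  refine ⟨fun r hr => ?_, fun r s hr hs h => ?_⟩
  · rw [h2 r hr, ← one_mul (Nat.card _), card_group_G2, Nat.card_eq_fintype_card, hF,
      show 3 ^ 6 * ((3 ^ 2 - 1) * (3 ^ 6 - 1)) = 13 * (6 ^ 6 * 7) by decide, hr.dvd_mul, hr.dvd_mul,
      hr.prime.dvd_pow_iff_dvd (by decide)]
  have h3 : ∀ n ∈ [13, 7, 8, 12, 6, 9], r * s ∣ n → r * s = 6 := fun n hn hd => by
    have h4 : ∀ n ∈ [13, 7, 8, 12, 6, 9], n < 14 ∧ 0 < n := by decide
    have := Nat.le_of_dvd (h4 n hn).2 hd
    exact (by decide : ∀ n ∈ [13, 7, 8, 12, 6, 9], ∀ r < 14, ∀ s < 14, r.Prime → s.Prime → r ≠ s → r * s ∣ n → r * s = 6) n hn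
      r (by nlinarith [hs.pos, h4 n hn]) s (by nlinarith [hr.pos, h4 n hn]) hr hs h hd
  rw [h1]
  refine ⟨fun ⟨x, hx⟩ => ?_, fun h4 => ?_⟩
  · have := G2.ord_dvd 3 hF x
    rw [hx] at this
    rw [show r * s = 6 by
      rcases this with h | h | h | h | h | ⟨-, h⟩ | h
      exacts [h3 _ (by simp) h, h3 _ (by simp) h, h3 _ (by simp) h, h3 _ (by simp) h, h3 _ (by simp) h, h3 _ (by simp) h,
        h3 _ (by simp) (h 2 (by decide))]]
    decide
  · rw [show r * s = 6 by rcases h4 with h | h | h <;> exact h3 _ (by simp) h]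
    exact G2.exists_ord 3 hF _ (by simp)

end Cfsg.Agent.S2518
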