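import Cfsg.Statements.S2649
import Cfsg.Agent.Lib.Spor.Tails4

set_option autoImplicit false
open Cfsg

namespace Cfsg.Agent.S2649

open Cfsg CA.NatBits CA.OrbBfs CA.CGroup CA.CGConstr CA.CGParts CA.CGCert CA.Perm24 CA.Golay
open CA.M24Core CA.M24Sub CA.M24Tools MulAction CA.Tails CA.Tails2 CA.Tails3 CA.Tails4
set_option maxRecDepth 100000

theorem inf_chk : allLt 4096 (fun j => force (enc j) fun c => !(!(tb c 23) &&
    allL Sb fun m => Nat.beq (pc24 (Nat.land m c) % 2) 0) || Nat.beq c 0) = true := by decide +kernel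

theorem eq_zero {x : W} (h : x ∈ golayCode) (h0 : x none = 0) (h1 : ∀ m ∈ Sb, ip m x = 0) : x = 0 := by
  obtain ⟨b, hb, rfl⟩ := exists_wd x
  obtain ⟨j, hj, rfl⟩ := isC_iff.1 ((wd_mem_iff hb).1 h)
  have h2 := allLt_iff.1 inf_chk j hj
  have h3 : tb (enc j) 23 = false := by
    rw [tb_eq, ← Bool.not_eq_true]
    intro h3
    rw [wd, show gE.ix none = 23 from rfl, if_pos h3] at h0
    exact one_ne_zero h0
  rw [force_eq, h3, allL_iff.2 fun m hm => by rw [← cast_eq_zero, ← ip_wd m hb, h1 m hm]] at h2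
  rw [beq_iff.1 (by simpa using h2 : Nat.beq (enc j) 0 = true), wd_zero]

theorem ip_nrm {u : W} (h : u ∈ golayCode) (h0 : u none = 0) (m : ℕ) : ip (nrmC m) u = ip m u := by
  have h1 : ∀ a, ip (Nat.land a 8388607) u = ip a u := fun a => by
    rw [ip_eq, ip_eq]
    refine Finset.sum_congr rfl fun i hi => ?_
    rw [show Nat.land a 8388607 = a &&& (2 ^ 23 - 1) from rfl, Nat.testBit_and, Nat.testBit_two_pow_sub_one]
    by_cases e : i = 23
    · subst e; simp [gpt, h0]
    · rw [decide_eq_true (show i < 23 by have := Finset.mem_range.1 hi; omega), Bool.and_true]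
  rw [nrmC, h1, ip_xor, ip_code (isC_enc m) h, add_zero]

def codeXE {E : Type*} [Group E] (N : Subgroup E) [hN : N.Normal] (φ : E ⧸ N ≃* Spor.M23)
    (ψ : Additive N →+ W) (hinj : Function.Injective ψ)
    (hrange : ∀ w, w ∈ Set.range ψ ↔ (w ∈ golayCode ∧ w none = 0))
    (hψ : ∀ (g : E) (n : N), ψ (Additive.ofMul ⟨g * n * g⁻¹, hN.conj_mem n n.2 g⟩)
        = ψ (Additive.ofMul n) ∘ ⇑(((φ (QuotientGroup.mk g) : Spor.M23) : Equiv.Perm GolayPt)⁻¹)) :
    XE E Sb Vb nrmC where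
  π := piOf N φ
  Rep a u := ∃ n : N, a = n ∧ u = ψ (Additive.ofMul n)
  range := piOf_range N φ
  one := ⟨1, rfl, by simp⟩
  mul := by
    rintro _ _ _ _ ⟨a, rfl, rfl⟩ ⟨b, rfl, rfl⟩
    exact ⟨a * b, rfl, by simp⟩
  cj := by
    rintro g _ _ ⟨a, rfl, rfl⟩
    exact ⟨_, rfl, (hψ g a).symm⟩
  ex {a} h := ⟨_, ⟨a, (piOf_eq_one N φ).1 h⟩, rfl, rfl⟩
  ker := by
    rintro _ _ ⟨a, rfl, -⟩
    exact (piOf_eq_one N φ).2 a.2
  eq := by
    rintro _ _ _ _ ⟨a, rfl, rfl⟩ ⟨b, rfl, rfl⟩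
    refine ⟨fun h m _ => by rw [Subtype.ext h], fun h => ?_⟩
    have h1 := (hrange _).1 ⟨Additive.ofMul a - Additive.ofMul b, rfl⟩
    have h2 := eq_zero h1.1 h1.2 fun m hm => by
      rw [map_sub, CharTwo.sub_eq_add, ip_add, h m hm, CharTwo.add_self_eq_zero]
    rw [map_sub, sub_eq_zero] at h2
    exact congrArg Subtype.val (Additive.ofMul.injective (hinj h2))
  con := by
    rintro _ _ ⟨a, rfl, rfl⟩
    exact ip_nrm ((hrange _).1 ⟨_, rfl⟩).1 ((hrange _).1 ⟨_, rfl⟩).2
  of b hb := by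
    obtain ⟨n, hn⟩ := (hrange (wd b)).2 ⟨(wd_mem_iff (isC_lt (Vb_spec b hb).1)).2 (Vb_spec b hb).1, by
      revert b; decide⟩
    exact ⟨_, n.toMul, rfl, hn.symm⟩

/-- Extensions of the Mathieu group M₂₃ by its code module split. Let E be a finite group with a normal subgroup N, an isomorphism φ from E/N onto M₂₃ = `Spor.M23` (the stabiliser of the extra point `none` in M₂₄ acting on the 24 points `GolayPt`), and an injective additive homomorphism ψ from N onto the set of words of the binary Golay code `golayCode` that vanish at `none` (an 11-dimensional space over the field with two elements), such that conjugation by g ∈ E on N corresponds under ψ to the coordinate permutation w ↦ w ∘ σ⁻¹, σ the permutation φ(gN). Then N has a complement in E: some subgroup H meets N trivially and generates E together with N. (Equivalently, the second cohomology group of M₂₃ with coefficients in this module vanishes.) -/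
theorem result
    {E : Type*} [Group E] [Finite E] (N : Subgroup E) [hN : N.Normal]
    (φ : E ⧸ N ≃* ↥Cfsg.Spor.M23)
    (ψ : Additive ↥N →+ (Cfsg.GolayPt → ZMod 2)) (hinj : Function.Injective ψ)
    (hrange : ∀ w : Cfsg.GolayPt → ZMod 2, w ∈ Set.range ψ ↔ (w ∈ Cfsg.golayCode ∧ w none = 0))
    (hψ : ∀ (g : E) (n : ↥N),
      ψ (Additive.ofMul ⟨g * n * g⁻¹, hN.conj_mem n n.2 g⟩)
        = ψ (Additive.ofMul n) ∘ ⇑(((φ (QuotientGroup.mk g) : ↥Cfsg.Spor.M23) : Equiv.Perm Cfsg.GolayPt)⁻¹)) :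
    ∃ H : Subgroup E, H ⊓ N = ⊥ ∧ H ⊔ N = ⊤ := by
  obtain ⟨l, w, h1, h2⟩ := exists_lifts (codeXE N φ ψ hinj hrange hψ) c0
  obtain ⟨H, hH⟩ := split_of (codeXE N φ ψ hinj hrange hψ) cC h1 h2 (by simp)
  rw [show (codeXE N φ ψ hinj hrange hψ).π.ker = N from piOf_ker N φ] at hH
  exact ⟨H, hH.symm.disjoint.eq_bot, hH.symm.sup_eq_top⟩

end Cfsg.Agent.S2649
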