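import Cfsg.Statements.S2650
import Cfsg.Agent.S2649
import Cfsg.Agent.Lib.Spor.M24Mod

set_option autoImplicit false
open Cfsg

namespace Cfsg.Agent.S2650

open Cfsg CA.NatBits CA.OrbBfs CA.CGroup CA.CGConstr CA.CGParts CA.CGCert CA.Perm24 CA.Golay
open CA.M24Core CA.M24Sub CA.M24Tools MulAction CA.Tails CA.Tails2 CA.Tails3 CA.Tails4
open scoped Pointwise
set_option maxRecDepth 100000

/-- the words vanishing at `none` -/
def V : Submodule (ZMod 2) W := golayCode ⊓ LinearMap.ker (LinearMap.proj (none : GolayPt))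

theorem mem_V {c : W} : c ∈ V ↔ c ∈ golayCode ∧ c none = 0 := Iff.rfl

def sp (u v : W) : ZMod 2 := ∑ p, u p * v p

theorem sp_add_left (u u' v : W) : sp (u + u') v = sp u v + sp u' v := by simp [sp, add_mul, Finset.sum_add_distrib]
theorem sp_add_right (u v v' : W) : sp u (v + v') = sp u v + sp u v' := by simp [sp, mul_add, Finset.sum_add_distrib]
theorem sp_comp (u v : W) (σ : Equiv.Perm GolayPt) : sp (u ∘ σ) (v ∘ σ) = sp u v := Equiv.sum_comp σ fun p => u p * v p

theorem sp_wd (u : W) (m : ℕ) : sp u (wd m) = ip m u := by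
  rw [sp, ip, ds, Enc.ds, Finset.sum_filter]
  exact Finset.sum_congr rfl fun p _ => by simp only [wd]; split_ifs <;> simp

theorem sp_code {u v : W} (hu : u ∈ golayCode) (hv : v ∈ golayCode) : sp u v = 0 := by
  obtain ⟨m, hm, rfl⟩ := exists_wd v
  rw [sp_wd, ip_code ((wd_mem_iff hm).1 hv) hu]

theorem comp_mem (σ : Spor.M23) {c : W} (h : c ∈ V) : c ∘ (σ : Equiv.Perm GolayPt) ∈ V := by
  refine ⟨support_mem_Cw.1 ?_, (congrArg c σ.2.2).trans h.2⟩
  have := CA.M24Mod.supp_smul (σ : Equiv.Perm GolayPt)⁻¹ c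
  rw [show support₂ (c ∘ (σ : Equiv.Perm GolayPt)) = _ from this]
  exact (smul_mem_Cw (⟨σ.1, σ.2.1⟩ : M24)⁻¹).2 (support_mem_Cw.2 h.1)

theorem comp_mem_iff (σ : Spor.M23) {c : W} : c ∘ (σ : Equiv.Perm GolayPt) ∈ V ↔ c ∈ V :=
  ⟨fun h => by simpa [Function.comp_def] using comp_mem σ⁻¹ h, comp_mem σ⟩

abbrev TL := List (ℕ × ℕ × ℕ)

def part : TL → W → W
  | [], _ => 0
  | x :: L, c => c (gpt x.1) • wd x.2.1 + part L c

def tt : TL → W → W
  | [], _ => 0
  | x :: L, c => c (gpt x.1) • (wd x.2.2 + wd x.2.1 * part L c) + tt L c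

def partN : TL → ℕ → ℕ
  | [], _ => 0
  | x :: L, m => Nat.xor (cond (tb m x.1) x.2.1 0) (partN L m)

def ttN : TL → ℕ → ℕ
  | [], _ => 0
  | x :: L, m => Nat.xor (cond (tb m x.1) (Nat.xor x.2.2 (Nat.land x.2.1 (partN L m))) 0) (ttN L m)

theorem wd_cond {p : ℕ} (hp : p < 24) (m a : ℕ) : wd (cond (tb m p) a 0) = wd m (gpt p) • wd a := by
  rw [tb_eq, show wd m (gpt p) = if m.testBit p then 1 else 0 by rw [wd, show gE.ix (gpt p) = p from gE.ix_pt p hp]]
  cases m.testBit p <;> simp [wd_zero]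

theorem wd_land (a b : ℕ) : wd (Nat.land a b) = wd a * wd b := by
  funext p
  simp only [wd, Pi.mul_apply, show Nat.land a b = a &&& b from rfl, Nat.testBit_and]
  cases a.testBit (gE.ix p) <;> cases b.testBit (gE.ix p) <;> simp

theorem part_wd {L : TL} (h : ∀ x ∈ L, x.1 < 24) (m : ℕ) :
    part L (wd m) = wd (partN L m) ∧ tt L (wd m) = wd (ttN L m) := by
  induction L with
  | nil => exact ⟨wd_zero.symm, wd_zero.symm⟩
  | cons x L ih =>
    obtain ⟨h1, h2⟩ := ih fun y hy => h y (List.mem_cons_of_mem _ hy)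
    have := h x List.mem_cons_self
    rw [part, tt, partN, ttN, wd_xor, wd_xor, wd_cond this, wd_cond this, wd_xor, wd_land, h1, h2]
    exact ⟨rfl, rfl⟩

theorem part_add (L : TL) (c d : W) : part L (c + d) = part L c + part L d := by
  induction L with
  | nil => simp [part]
  | cons x L ih => rw [part, part, part, ih, Pi.add_apply, add_smul]; abel

theorem part_mem {L : TL} (h : ∀ x ∈ L, wd x.2.1 ∈ V) (c : W) : part L c ∈ V := by
  induction L with
  | nil => exact V.zero_mem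
  | cons x L ih => exact V.add_mem (V.smul_mem _ (h x List.mem_cons_self)) (ih fun y hy => h y (List.mem_cons_of_mem _ hy))

theorem poly : ∀ a1 a2 a3 a4 a5 a6 a7 a8 a9 : ZMod 2,
    (a1 + a2) * (a3 + a4 * (a5 + a6)) + a7 + (a1 * (a3 + a4 * a5) + a8) + (a2 * (a3 + a4 * a6) + a9) +
        (a1 * a4 + a5) * (a2 * a4 + a6) = a7 + a8 + a9 + a5 * a6 + a1 * a2 * a4 := by decide +kernel

theorem tt_add {L : TL} (h : ∀ x ∈ L, wd x.2.1 ∈ V) (c d : W) :
    tt L (c + d) + tt L c + tt L d + part L c * part L d ∈ golayCode := by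
  induction L with
  | nil => simp [tt, part]
  | cons x L ih =>
    have h1 := golayCode.add_mem (ih fun y hy => h y (List.mem_cons_of_mem _ hy))
      (golayCode.smul_mem (c (gpt x.1) * d (gpt x.1)) (h x List.mem_cons_self).1)
    convert h1 using 1
    funext p
    simp only [tt, part, part_add, Pi.add_apply, Pi.mul_apply, Pi.smul_apply, smul_eq_mul]
    exact poly ..

def L0 : TL := [(12, 5279, 2097152), (13, 10558, 16384), (14, 18147, 0), (15, 36294, 131072), (16, 69395, 262144), (17, 133817, 0), (18, 262637, 0), (19, 525274, 0), (20, 1050548, 4194304), (21, 2101096, 0), (22, 4196943, 0)]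

theorem wd_mem_V {m : ℕ} (h : (isC m && !tb m 23) = true) : wd m ∈ V := by
  rw [Bool.and_eq_true, Bool.not_eq_true', tb_eq] at h
  exact ⟨(wd_mem_iff (isC_lt h.1)).2 h.1, by show wd m none = 0; rw [wd, show gE.ix none = 23 from rfl, h.2]; rfl⟩

theorem L0_lt : ∀ x ∈ L0, x.1 < 24 := by decide
theorem L0_mem : ∀ x ∈ L0, wd x.2.1 ∈ V := fun x hx => wd_mem_V (by revert x; decide +kernel)

def thN (c d : ℕ) : ℕ := pc24 (Nat.land (ttN L0 c) d)

/-- the factor set -/
def th (c d : W) : ZMod 2 := sp (tt L0 c) d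

theorem th_wd (c : ℕ) {d : ℕ} (hd : d < 2 ^ 24) : th (wd c) (wd d) = thN c d := by
  rw [th, (part_wd L0_lt c).2, thN, ← ip_wd _ hd, ← sp_wd]
  exact Finset.sum_congr rfl fun _ _ => mul_comm _ _

theorem chkV : allLt 4096 (fun j => force (enc j) fun c => tb c 23 ||
    Nat.beq (partN L0 c) c && Nat.beq (thN c c % 2) (pc24 c / 4 % 2)) = true := by decide +kernel

theorem V_spec {c : W} (h : c ∈ V) : part L0 c = c ∧ th c c = (hammingNorm c / 4 : ℕ) := by
  obtain ⟨b, hb, rfl⟩ := exists_wd c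
  obtain ⟨j, hj, rfl⟩ := isC_iff.1 ((wd_mem_iff hb).1 h.1)
  have h2 := allLt_iff.1 chkV j hj
  have h3 : tb (enc j) 23 = false := by
    rw [tb_eq, ← Bool.not_eq_true]
    intro h3
    have h0 : wd (enc j) none = 0 := h.2
    rw [wd, show gE.ix none = 23 from rfl, if_pos h3] at h0
    exact one_ne_zero h0
  rw [force_eq, h3, Bool.false_or, Bool.and_eq_true, beq_iff, beq_iff] at h2
  rw [(part_wd L0_lt _).1, h2.1, th_wd _ hb, norm_wd hb, ← ZMod.natCast_mod, h2.2, ZMod.natCast_mod]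
  exact ⟨rfl, rfl⟩

theorem th_add {c c' d : W} (hc : c ∈ V) (hc' : c' ∈ V) (hd : d ∈ V) :
    th (c + c') d = th c d + th c' d + sp (c * c') d := by
  have := sp_code (tt_add L0_mem c c') hd.1
  rw [(V_spec hc).1, (V_spec hc').1, sp_add_left, sp_add_left, sp_add_left] at this
  rw [← CharTwo.add_eq_zero, ← this, th, th, th]
  ring

/-- the difference of the factor set and its image -/
def DD (σ : Equiv.Perm GolayPt) (c d : W) : ZMod 2 := th c d + th (c ∘ σ) (d ∘ σ)

theorem DD_right (σ : Equiv.Perm GolayPt) (c d d' : W) : DD σ c (d + d') = DD σ c d + DD σ c d' := by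
  simp only [DD, th, show (d + d') ∘ σ = d ∘ σ + d' ∘ σ from rfl, sp_add_right]; ring

theorem DD_zero (σ : Equiv.Perm GolayPt) (c : W) : DD σ c 0 = 0 := by simp [DD, th, sp]

theorem DD_left (σ : Spor.M23) {c c' d : W} (hc : c ∈ V) (hc' : c' ∈ V) (hd : d ∈ V) :
    DD σ (c + c') d = DD σ c d + DD σ c' d := by
  rw [DD, DD, DD, show (c + c') ∘ (σ : Equiv.Perm GolayPt) = c ∘ (σ : Equiv.Perm GolayPt) + c' ∘ (σ : Equiv.Perm GolayPt) from rfl,
    th_add hc hc' hd, th_add (comp_mem σ hc) (comp_mem σ hc') (comp_mem σ hd),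
    show c ∘ (σ : Equiv.Perm GolayPt) * c' ∘ (σ : Equiv.Perm GolayPt) = (c * c') ∘ (σ : Equiv.Perm GolayPt) from rfl, sp_comp]
  linear_combination CharTwo.add_self_eq_zero (sp (c * c') d)

theorem DD_self (σ : Spor.M23) {c : W} (hc : c ∈ V) : DD σ c c = 0 := by
  rw [DD, (V_spec hc).2, (V_spec (comp_mem σ hc)).2, ← card_support, ← card_support,
    show support₂ (c ∘ (σ : Equiv.Perm GolayPt)) = _ from CA.M24Mod.supp_smul (σ : Equiv.Perm GolayPt)⁻¹ c,
    Finset.card_smul_finset, CharTwo.add_self_eq_zero]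

theorem DD_symm (σ : Spor.M23) {c d : W} (hc : c ∈ V) (hd : d ∈ V) : DD σ c d = DD σ d c := by
  have := DD_self σ (V.add_mem hc hd)
  rwa [DD_left σ hc hd (V.add_mem hc hd), DD_right, DD_right, DD_self σ hc, DD_self σ hd, zero_add, add_zero,
    CharTwo.add_eq_zero] at this

def qf (σ : Equiv.Perm GolayPt) : TL → W → ZMod 2
  | [], _ => 0
  | x :: L, c => c (gpt x.1) * DD σ (wd x.2.1) (part L c) + qf σ L c

theorem qf_add (σ : Spor.M23) {L : TL} (h : ∀ x ∈ L, wd x.2.1 ∈ V) (c d : W) :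
    qf σ L (c + d) = qf σ L c + qf σ L d + DD σ (part L c) (part L d) := by
  induction L with
  | nil => simp [qf, part, DD_zero]
  | cons x L ih =>
    have h' : ∀ y ∈ L, wd y.2.1 ∈ V := fun y hy => h y (List.mem_cons_of_mem _ hy)
    have hb := h x List.mem_cons_self
    have h1 := part_mem h' c
    have h2 := part_mem h' d
    simp only [qf, part, ih h', part_add, DD_right, Pi.add_apply]
    rcases zmod2_cases (c (gpt x.1)) with e | e <;> rcases zmod2_cases (d (gpt x.1)) with e' | e' <;>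
      simp only [e, e', zero_smul, one_smul, zero_add, DD_zero, DD_left σ hb h1 h2, DD_left σ hb h1 hb, DD_self σ hb,
        DD_symm σ h1 hb] <;>
      generalize DD σ (wd x.2.1) (part L c) = a1 <;> generalize DD σ (wd x.2.1) (part L d) = a2 <;>
      generalize DD σ (part L c) (part L d) = a3 <;> generalize qf σ L c = a4 <;> generalize qf σ L d = a5 <;>
      revert a1 a2 a3 a4 a5 <;> decide

/-- automorphisms of the code loop -/
@[ext] structure PE where
  σ : Spor.M23
  f : W → ZMod 2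
  h0 : ∀ w, w ∉ V → f w = 0
  h : ∀ c ∈ V, ∀ d ∈ V, f (c + d) = f c + f d + DD σ c d

instance : Mul PE := ⟨fun a b => ⟨a.σ * b.σ, fun w => a.f w + b.f (w ∘ (a.σ : Equiv.Perm GolayPt)),
  fun w hw => by rw [a.h0 w hw, b.h0 _ (mt (comp_mem_iff a.σ).1 hw), add_zero], fun c hc d hd => by
    rw [a.h c hc d hd, show (c + d) ∘ (a.σ : Equiv.Perm GolayPt) = c ∘ (a.σ : Equiv.Perm GolayPt) + d ∘ (a.σ : Equiv.Perm GolayPt) from rfl,
      b.h _ (comp_mem a.σ hc) _ (comp_mem a.σ hd)]
    simp only [DD, Subgroup.coe_mul, Equiv.Perm.coe_mul, Function.comp_assoc]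
    linear_combination CharTwo.add_self_eq_zero (th (c ∘ (a.σ : Equiv.Perm GolayPt)) (d ∘ (a.σ : Equiv.Perm GolayPt)))⟩⟩

instance : One PE := ⟨⟨1, 0, fun _ _ => rfl, fun c _ d _ => by simp [DD, CharTwo.add_self_eq_zero]⟩⟩

instance : Inv PE := ⟨fun a => ⟨a.σ⁻¹, fun w => a.f (w ∘ ((a.σ⁻¹ : Spor.M23) : Equiv.Perm GolayPt)),
  fun w hw => a.h0 _ (mt (comp_mem_iff _).1 hw), fun c hc d hd => by
    refine (a.h _ (comp_mem a.σ⁻¹ hc) _ (comp_mem a.σ⁻¹ hd)).trans ?_
    simp [DD, Function.comp_def, add_comm]⟩⟩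

theorem mul_σ (a b : PE) : (a * b).σ = a.σ * b.σ := rfl
theorem mul_f (a b : PE) (w : W) : (a * b).f w = a.f w + b.f (w ∘ (a.σ : Equiv.Perm GolayPt)) := rfl

instance : Group PE := Group.ofLeftAxioms
  (fun _ _ _ => PE.ext (mul_assoc _ _ _) (funext fun _ => add_assoc _ _ _))
  (fun _ => PE.ext (one_mul _) (funext fun _ => zero_add _))
  (fun _ => PE.ext (inv_mul_cancel _) (funext fun _ => CharTwo.add_self_eq_zero _))

instance : Finite PE := Finite.of_injective (fun a : PE => (a.σ, a.f)) fun _ _ h =>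
  PE.ext (congrArg Prod.fst h) (congrArg Prod.snd h)

def pr : PE →* Spor.M23 := ⟨⟨PE.σ, rfl⟩, fun _ _ => rfl⟩

open Classical in
theorem pr_surj : Function.Surjective pr := fun σ =>
  ⟨⟨σ, fun w => if w ∈ V then qf σ L0 w else 0, fun _ h => if_neg h, fun c hc d hd => by
    rw [if_pos hc, if_pos hd, if_pos (V.add_mem hc hd), qf_add σ L0_mem, (V_spec hc).1, (V_spec hd).1]⟩, rfl⟩

open Classical in
noncomputable def lin (u : W) : pr.ker :=
  ⟨⟨1, fun w => if w ∈ V then sp u w else 0, fun _ h => if_neg h, fun c hc d hd => by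
    rw [if_pos hc, if_pos hd, if_pos (V.add_mem hc hd), sp_add_right]; simp [DD, CharTwo.add_self_eq_zero]⟩, rfl⟩

theorem lin_f (u : W) {w : W} (h : w ∈ V) : (lin u : PE).f w = sp u w := if_pos h

theorem pe_ext {a b : PE} (h : a.σ = b.σ) (h' : ∀ w ∈ V, a.f w = b.f w) : a = b :=
  PE.ext h (funext fun w => by
    by_cases hw : w ∈ V
    · exact h' w hw
    · rw [a.h0 w hw, b.h0 w hw])

noncomputable def thM : W →+ Additive pr.ker := AddMonoidHom.mk' (fun u => Additive.ofMul (lin u)) fun u v =>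
  congrArg Additive.ofMul (Subtype.ext (pe_ext (mul_one _).symm fun w hw => by
    show _ = (lin u : PE).f w + (lin v : PE).f w
    rw [lin_f _ hw, lin_f _ hw, lin_f _ hw, sp_add_left]))

theorem f_zero (a : PE) : a.f 0 = 0 := by
  have := a.h 0 V.zero_mem 0 V.zero_mem
  rwa [add_zero, DD_zero, CharTwo.add_self_eq_zero, add_zero] at this

theorem thM_surj : Function.Surjective thM := fun n => by
  have h1 : ∀ c ∈ V, ∀ d ∈ V, n.toMul.1.f (c + d) = n.toMul.1.f c + n.toMul.1.f d := fun c hc d hd => by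
    rw [n.toMul.1.h c hc d hd, show n.toMul.1.σ = 1 from n.toMul.2]; simp [DD, CharTwo.add_self_eq_zero]
  have h2 : ∀ L : TL, (∀ x ∈ L, wd x.2.1 ∈ V) → ∃ u, ∀ c, sp u c = n.toMul.1.f (part L c) := fun L hL => by
    induction L with
    | nil => exact ⟨0, fun c => by simp [sp, part, f_zero]⟩
    | cons x L ih =>
      have h' : ∀ y ∈ L, wd y.2.1 ∈ V := fun y hy => hL y (List.mem_cons_of_mem _ hy)
      obtain ⟨u, hu⟩ := ih h'
      refine ⟨Pi.single (gpt x.1) (n.toMul.1.f (wd x.2.1)) + u, fun c => ?_⟩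
      rw [sp_add_left, hu, part, h1 _ (V.smul_mem _ (hL x List.mem_cons_self)) _ (part_mem h' c)]
      refine congrArg (· + _) ?_
      rw [sp, Finset.sum_eq_single (gpt x.1) (fun p _ hp => by simp [hp]) (by simp), Pi.single_eq_same]
      rcases zmod2_cases (c (gpt x.1)) with e | e <;> simp [e, f_zero]
  obtain ⟨u, hu⟩ := h2 L0 L0_mem
  have h3 : lin u = n.toMul := Subtype.ext (pe_ext (show n.toMul.1.σ = 1 from n.toMul.2).symm fun w hw => by
    rw [lin_f _ hw, hu, (V_spec hw).1])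
  exact ⟨u, congrArg Additive.ofMul h3⟩

theorem thM_ker (w : W) : thM w = 0 ↔ (w ∈ golayCode ∨ w + Pi.single none 1 ∈ golayCode) := by
  constructor
  · refine fun h => (perp_iff w).2 fun m hm => ?_
    have h1 : wd m ∈ V := wd_mem_V (by revert m; decide +kernel)
    rw [← sp_wd, ← lin_f _ h1, show lin w = 1 from h]; rfl
  · refine fun h => congrArg Additive.ofMul (Subtype.ext (pe_ext rfl fun c hc => ?_))
    rw [lin_f _ hc]
    rcases h with h | h
    · exact sp_code h hc.1
    · have := sp_code h hc.1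
      rwa [sp_add_left, show sp (Pi.single none 1) c = 0 by
        rw [sp, Finset.sum_eq_single none (fun p _ hp => by simp [hp]) (by simp), show c none = 0 from hc.2, mul_zero],
        add_zero] at this

theorem thM_conj (g : PE) (w : W) :
    (lin (w ∘ ⇑((g.σ : Equiv.Perm GolayPt)⁻¹)) : PE) = g * lin w * g⁻¹ := by
  rw [eq_mul_inv_iff_mul_eq]
  refine pe_ext ((one_mul _).trans (mul_one _).symm) fun c hc => ?_
  rw [mul_f, mul_f, lin_f _ hc, lin_f _ (comp_mem _ hc), add_comm, ← sp_comp _ _ (g.σ : Equiv.Perm GolayPt)]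
  simp [Function.comp_def, lin]

/-- the masks at which the letter `i` is evaluated -/
noncomputable def tr (i : ℕ) : List ℕ → ℕ → List ℕ
  | [], _ => []
  | j :: x, m => cond (Nat.beq i j) [m] [] ++ force (img24 (inv24 (nth id24 gs j)) m) (tr i x)

def toM (a : PE) : M24 := ⟨a.σ.1, a.σ.2.1⟩

theorem wd_comp {c : ℕ} {a : PE} (h : mG.R c (toM a)) (m : ℕ) :
    wd m ∘ (a.σ : Equiv.Perm GolayPt) = wd (img24 (inv24 c) m) := by
  refine support_inj ?_
  rw [support_wd, ← R_ds (R_inv24 h), ← support_wd]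
  exact CA.M24Mod.supp_smul (a.σ : Equiv.Perm GolayPt)⁻¹ _

theorem ev_f {l : ℕ → PE} (hl : ∀ i, mG.R (nth id24 gs i) (toM (l i))) {x : List ℕ} (hx : ∀ j ∈ x, j < 7) (m : ℕ) :
    (ev l x).f (wd m) = ∑ i ∈ Finset.range 7, ((tr i x m).map fun c => (l i).f (wd c)).sum := by
  induction x generalizing m with
  | nil => simp only [tr, List.map_nil, List.sum_nil, Finset.sum_const_zero]; rfl
  | cons j x ih =>
    rw [show ev l (j :: x) = l j * ev l x by simp [ev], mul_f, wd_comp (hl j), ih fun i hi => hx i (List.mem_cons_of_mem _ hi)]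
    simp only [tr, force_eq, List.map_append, List.sum_append, Finset.sum_add_distrib]
    congr 1
    rw [Finset.sum_eq_single j (fun i _ hi => by rw [Bool.eq_false_iff.2 (mt beq_iff.1 hi)]; rfl)
      fun h => absurd (Finset.mem_range.2 (hx j List.mem_cons_self)) h, beq_iff.2 rfl]
    simp

noncomputable def acc (s : ℕ) : List ℕ → (ℕ → ℕ → Bool) → Bool
  | [], k => k 0 0
  | m :: ms, k => isC m && !tb m 23 && acc s ms fun X n => force (Nat.xor m X) fun X' =>
      force (n + thN m X + thN (img24 s m) (img24 s X)) fun n' => k X' n'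

theorem acc_spec {c : ℕ} {a : PE} (h : mG.R c (toM a)) {ms : List ℕ} {k : ℕ → ℕ → Bool}
    (hk : acc (inv24 c) ms k = true) : ∃ X n, k X n = true ∧ X < 2 ^ 24 ∧ wd X ∈ V ∧
      (ms.map fun m => a.f (wd m)).sum = a.f (wd X) + n := by
  induction ms generalizing k with
  | nil => exact ⟨0, 0, hk, by norm_num, wd_zero ▸ V.zero_mem, by simp [wd_zero, f_zero]⟩
  | cons m ms ih =>
    rw [acc, Bool.and_eq_true] at hk
    obtain ⟨X, n, h1, h2, h3, h4⟩ := ih hk.2
    have h5 := wd_mem_V hk.1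
    rw [force_eq, force_eq] at h1
    refine ⟨_, _, h1, Nat.xor_lt_two_pow (isC_lt (Bool.and_eq_true_iff.1 hk.1).1) h2, wd_xor _ _ ▸ V.add_mem h5 h3, ?_⟩
    rw [List.map_cons, List.sum_cons, h4, wd_xor, a.h _ h5 _ h3, DD, wd_comp h, wd_comp h, th_wd _ h2,
      th_wd _ (mSub_act ▸ (mSub.S_act (R_inv24 h) (sS h2)).1 : img24 (inv24 c) X < 2 ^ 24)]
    push_cast
    generalize a.f (wd m) = a1; generalize a.f (wd X) = a2; generalize (n : ZMod 2) = a3
    generalize (thN m X : ZMod 2) = a4; generalize (thN (img24 (inv24 c) m) (img24 (inv24 c) X) : ZMod 2) = a5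
    revert a1 a2 a3 a4 a5; decide

def zs : List (ℕ × ℕ) := [(0, 6594610), (1, 3719203), (2, 104010), (3, 6379592), (4, 2019456), (5, 1302533), (6, 6053905), (8, 5405696), (9, 5405696)]

noncomputable def msk (i : ℕ) : List ℕ :=
  zs.flatMap fun z => tr i (rs.getD z.1 ([], [])).1 z.2 ++ tr i (rs.getD z.1 ([], [])).2 z.2

theorem chkZ : allLt 7 (fun i => acc (inv24 (nth id24 gs i)) (msk i) fun X n =>
    Nat.beq X 0 && Nat.beq (n % 2) (nth 0 [0, 1, 1, 0, 0, 1, 0] i)) = true := by decide +kernel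

theorem nonsplit (H : Subgroup PE) (h : H ⊓ pr.ker = ⊥) : H ⊔ pr.ker ≠ ⊤ := fun h' => by
  have c := c0
  rw [chk0, Bool.and_eq_true, Bool.and_eq_true] at c
  have h1 := CA.M24Syl.inS0 mPt (ok_of c.1.1) (sPt none) (by rw [mPt_act]; exact c.1.2)
  have h2 : ∀ i, ∃ e ∈ H, mG.R (nth id24 gs i) (toM e) := fun i => by
    rcases nth_mem id24 gs i with e | e
    · exact ⟨1, H.one_mem, by rw [e]; exact R_one⟩
    · obtain ⟨g, hg, hr⟩ := h1 _ e
      obtain ⟨a, ha⟩ := pr_surj ⟨g, g.2, hg⟩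
      obtain ⟨y, hy, n, hn, rfl⟩ := Subgroup.mem_sup_of_normal_right.1 (h'.ge (Subgroup.mem_top a))
      rw [map_mul, show pr n = 1 from hn, mul_one] at ha
      exact ⟨y, hy, by rwa [show toM y = g from Subtype.ext (congrArg (fun y : Spor.M23 => (y : Equiv.Perm GolayPt)) ha)]⟩
  choose l hH hl using h2
  let π : PE →* M24 := ⟨⟨toM, rfl⟩, fun _ _ => rfl⟩
  have h3 : ∀ x, mG.R (evc (nth id24 gs) x) (toM (ev l x)) := fun x => by
    induction x with
    | nil => exact R_one
    | cons a x ih => rw [show ev l (a :: x) = l a * ev l x by simp [ev], evc_cons]; exact R_mul (hl a) ih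
  have h4 : ∀ r < 65, ev l (rs.getD r ([], [])).1 = ev l (rs.getD r ([], [])).2 := fun r hr => by
    rw [← mul_inv_eq_one, ← Subgroup.mem_bot, ← h]
    refine Subgroup.mem_inf.2 ⟨mul_mem (ev_mem fun i _ => hH i) (inv_mem (ev_mem fun i _ => hH i)), ?_⟩
    have := (R_eq_iff (h3 _) (h3 _)).2 (beq_iff.1 (allLt_iff.1 c.2 r hr))
    rw [MonoidHom.mem_ker, map_mul, map_inv, mul_inv_eq_one]
    exact Subtype.ext (congrArg (fun y : M24 => (y : Equiv.Perm GolayPt)) this)
  have h5 : ∀ L : List (ℕ × ℕ), (∀ z ∈ L, z.1 < 65 ∧ (∀ j ∈ (rs.getD z.1 ([], [])).1, j < 7) ∧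
      ∀ j ∈ (rs.getD z.1 ([], [])).2, j < 7) → ∑ i ∈ Finset.range 7, ((L.flatMap fun z =>
        tr i (rs.getD z.1 ([], [])).1 z.2 ++ tr i (rs.getD z.1 ([], [])).2 z.2).map fun c => (l i).f (wd c)).sum = 0 :=
    fun L hL => by
      induction L with
      | nil => simp
      | cons z L ih =>
        obtain ⟨h5, h6, h7⟩ := hL z List.mem_cons_self
        simp only [List.flatMap_cons, List.map_append, List.sum_append, Finset.sum_add_distrib]
        rw [ih fun y hy => hL y (List.mem_cons_of_mem _ hy), ← ev_f hl h6, ← ev_f hl h7, h4 _ h5,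
          CharTwo.add_self_eq_zero, add_zero]
  have h6 := h5 zs (by decide +kernel)
  rw [Finset.sum_congr rfl (g := fun i => (nth 0 [0, 1, 1, 0, 0, 1, 0] i : ZMod 2)) fun i hi => by
    obtain ⟨X, n, h7, -, -, h8⟩ := acc_spec (hl i) (allLt_iff.1 chkZ i (Finset.mem_range.1 hi))
    rw [Bool.and_eq_true, beq_iff, beq_iff] at h7
    rw [← h7.2, ZMod.natCast_mod, ← zero_add (n : ZMod 2), ← f_zero (l i), ← wd_zero, ← h7.1]
    exact h8] at h6
  exact absurd h6 (by decide +kernel)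

/-- A non-split extension of the Mathieu group M₂₃ by its cocode module exists. There is a finite group E with a normal subgroup N, an isomorphism φ from E/N onto M₂₃ = `Spor.M23` (the stabiliser of the extra point `none` in M₂₄ acting on the 24 points `GolayPt`), and a surjective additive homomorphism θ from the binary words on `GolayPt` onto N whose kernel consists of the words of the Golay code `golayCode` and their translates by the unit vector at `none` (so N is elementary abelian of order 2¹¹), such that θ carries the coordinate permutation w ↦ w ∘ σ⁻¹, σ = φ(gN), to conjugation by g on N — and such that N has no complement in E. -/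
theorem result :
    ∃ (E : Type) (_ : Group E) (_ : Finite E) (N : Subgroup E) (_ : N.Normal)
      (φ : E ⧸ N ≃* ↥Cfsg.Spor.M23) (θ : (Cfsg.GolayPt → ZMod 2) →+ Additive ↥N),
      Function.Surjective θ ∧
      (∀ w : Cfsg.GolayPt → ZMod 2, θ w = 0 ↔ (w ∈ Cfsg.golayCode ∨ w + Pi.single none 1 ∈ Cfsg.golayCode)) ∧
      (∀ (g : E) (w : Cfsg.GolayPt → ZMod 2),
        ((θ (w ∘ ⇑(((φ (QuotientGroup.mk g) : ↥Cfsg.Spor.M23) : Equiv.Perm Cfsg.GolayPt)⁻¹))).toMul : E)
          = g * ((θ w).toMul : E) * g⁻¹) ∧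
      ∀ H : Subgroup E, H ⊓ N = ⊥ → H ⊔ N ≠ ⊤ := by
  exact ⟨PE, inferInstance, inferInstance, pr.ker, inferInstance,
    QuotientGroup.quotientKerEquivOfSurjective pr pr_surj, thM, thM_surj, thM_ker, thM_conj, nonsplit⟩

end Cfsg.Agent.S2650
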