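import Cfsg.Statements.S2756
import Cfsg.Agent.Lib.Loc.ZJC3
import Cfsg.Agent.Lib.Loc.AmbIso
import Cfsg.Agent.Lib.Loc.H6Dih

set_option autoImplicit false
open Cfsg

namespace Cfsg.Agent.S2756

open Subgroup

theorem inv_pow {G : Type*} [Group G] {x g : G} (e : g * x * g⁻¹ = x⁻¹) (n : ℕ) :
    g ^ (2 * n + 1) * x * (g ^ (2 * n + 1))⁻¹ = x⁻¹ := by
  have e' : g * x⁻¹ * g⁻¹ = x := by rw [← conj_inv, e, inv_inv]
  induction n with
  | zero => simpa using e
  | succ n ih =>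
    calc _ = g * (g * (g ^ (2 * n + 1) * x * (g ^ (2 * n + 1))⁻¹) * g⁻¹) * g⁻¹ := by
          rw [show 2 * (n + 1) + 1 = 2 * n + 1 + 1 + 1 by ring, pow_succ', pow_succ']; group
      _ = _ := by rw [ih, e', e]

theorem no_inv {G : Type*} [Group G] [Finite G] (h : ∀ P : Sylow 2 G, (P : Subgroup G).Normal)
    {x g : G} (hx : Odd (orderOf x)) (e : g * x * g⁻¹ = x⁻¹) : x = 1 := by
  obtain ⟨P⟩ : Nonempty (Sylow 2 G) := inferInstance
  have := h P
  have hodd : Odd (Nat.card (G ⧸ (P : Subgroup G))) := by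
    rw [← Nat.not_even_iff_odd, even_iff_two_dvd]; exact P.not_dvd_index
  set f := QuotientGroup.mk' (P : Subgroup G)
  obtain ⟨n, hn⟩ := hodd
  have e1 := congrArg f (inv_pow e n)
  rw [map_mul, map_mul, map_inv, map_pow, ← hn, pow_card_eq_one', map_inv] at e1
  have e2 : f x ^ 2 = 1 := by
    rw [sq]; nth_rewrite 1 [show f x = (f x)⁻¹ by simpa using e1]; simp
  have e3 : f x = 1 := by
    have := pow_card_eq_one' (x := f x)
    rwa [hn, pow_succ, pow_mul, e2, one_pow, one_mul] at this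
  have hxP : x ∈ (P : Subgroup G) := (QuotientGroup.eq_one_iff x).1 e3
  obtain ⟨k, hk⟩ := P.isPGroup' ⟨x, hxP⟩
  have hk' : x ^ 2 ^ k = 1 := congrArg Subtype.val hk
  rw [← orderOf_eq_one_iff]
  exact Nat.Coprime.eq_one_of_dvd (Nat.Coprime.pow_right k (Nat.coprime_two_right.2 hx))
    (orderOf_dvd_of_pow_eq_one hk')

theorem sub_closed {G : Type*} [Group G] [Finite G] (h : ∀ P : Sylow 2 G, (P : Subgroup G).Normal)
    (H : Subgroup G) (P : Sylow 2 H) : (P : Subgroup H).Normal := by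
  obtain ⟨Q, hQ⟩ := (P.isPGroup'.map H.subtype).exists_le_sylow
  have := h Q
  have := P.is_maximal' (Q.isPGroup'.comap_subtype (K := H)) (map_le_iff_le_comap.1 hQ)
  rw [← this]
  infer_instance

theorem odd_ord {G : Type*} [Group G] {q : ℕ} [hq : Fact q.Prime] (h2 : q ≠ 2) {T : Subgroup G}
    (hT : IsPGroup q T) {x : G} (hx : x ∈ T) : Odd (orderOf x) := by
  obtain ⟨k, hk⟩ := hT ⟨x, hx⟩
  have hk' : x ^ q ^ k = 1 := congrArg Subtype.val hk
  exact Odd.of_dvd_nat ((hq.out.odd_of_ne_two h2).pow) (orderOf_dvd_of_pow_eq_one hk')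

theorem ca {G : Type*} [Group G] [Finite G] (h : ∀ (q : ℕ) [Fact q.Prime], q ≠ 2 → ∀ T : Sylow q G,
    ∀ x ∈ (T : Subgroup G), x ≠ 1 → ∀ g ∈ normalizer (Cfsg.centerThompsonAOf (T : Subgroup G) : Set G),
    g * x * g⁻¹ ≠ x⁻¹) (P : Sylow 2 G) : (P : Subgroup G).Normal := by
  have hO : pCore 2 G ≤ P := CA.AmbCore.pCore_le_sylow P
  by_contra hn
  have hne : ¬ (P : Subgroup G) ≤ pCore 2 G := fun c => hn (le_antisymm c hO ▸ inferInstance)
  set f := QuotientGroup.mk' (pCore 2 G)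
  have hb : (P : Subgroup G).map f ≠ ⊥ := by
    rwa [Ne, Subgroup.map_eq_bot_iff, QuotientGroup.ker_mk']
  have h2 := P.isPGroup'.map f
  obtain ⟨⟨t, ht0⟩, ht⟩ : ∃ t : (P : Subgroup G).map f, orderOf t = 2 := by
    obtain ⟨n, hn⟩ := IsPGroup.iff_card.1 h2
    refine exists_prime_orderOf_dvd_card' 2 ?_
    rw [hn]
    refine dvd_pow_self 2 ?_
    rintro rfl
    exact hb (eq_bot_of_card_eq _ hn)
  rw [orderOf_mk] at ht
  have htt : t * t = 1 := by have := pow_orderOf_eq_one t; rwa [ht, sq] at this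
  obtain ⟨x, hx1, hxo, e⟩ := CA.AmbIso.exists_inverted htt (by
    rw [CA.AmbCore.pCore_quotient_pCore, mem_bot]; rintro rfl; simp at ht)
  obtain ⟨q, hq, hd⟩ := Nat.exists_prime_and_dvd (mt orderOf_eq_one_iff.1 hx1)
  have := Fact.mk hq
  have hq2 : q ≠ 2 := by rintro rfl; exact (Nat.not_even_iff_odd.2 hxo) (even_iff_two_dvd.2 hd)
  have hy : orderOf (x ^ (orderOf x / q)) = q := orderOf_pow_orderOf_div (orderOf_pos x).ne' hd
  have hs := CA.H6Dih.sec_dihedral (k := 1) hq2 (x := t) (by rw [pow_one, sq, htt]) hy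
    (by rw [← conj_pow, e, _root_.inv_pow])
  obtain ⟨a, R, -, -, ⟨k, ha⟩, hR, hn, u, hu, hc⟩ := CA.H6Dih.exists_of_sec_dihedral hq2
    (hs.of_surjective_top (QuotientGroup.mk'_surjective _))
  obtain ⟨j, y, -, hyo, e'⟩ := CA.H6Dih.exists_inv_prime hR ha hn fun c => hc (by
    rw [mem_bot, mem_centralizer_iff.1 c u hu]; group)
  obtain ⟨T⟩ : Nonempty (Sylow q G) := inferInstance
  have h' := h q hq2 T
  rw [CA.H6J.centerThompsonAOf_eq] at h'
  have := CA.ZJC.no_real (k := 1) hq2 (CA.AmbSyl.sylIn_top T) h'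
    (by rw [pow_one, ← hyo, pow_orderOf_eq_one]) e'
  rw [this, orderOf_one] at hyo
  exact hq.one_lt.ne hyo

theorem bc {G : Type*} [Group G] [Finite G] {q : ℕ} [Fact q.Prime] (h2 : q ≠ 2) (T : Sylow q G)
    (h : ∀ P : Sylow 2 (normalizer (Cfsg.centerThompsonAOf (T : Subgroup G) : Set G)),
      (P : Subgroup (normalizer (Cfsg.centerThompsonAOf (T : Subgroup G) : Set G))).Normal)
    {x : G} (hx : x ∈ (T : Subgroup G)) (h1 : x ≠ 1) {g : G}
    (hg : g ∈ normalizer (Cfsg.centerThompsonAOf (T : Subgroup G) : Set G)) : g * x * g⁻¹ ≠ x⁻¹ := by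
  intro e
  have hxN : x ∈ normalizer (Cfsg.centerThompsonAOf (T : Subgroup G) : Set G) := by
    rw [CA.H6J.centerThompsonAOf_eq]
    exact CA.H6J.normalizer_le_normalizer_Z _ (CA.H6J.le_normalizer_J 0 _ hx)
  have := no_inv h (x := ⟨x, hxN⟩) (g := ⟨g, hg⟩)
    (by rw [orderOf_mk]; exact odd_ord h2 T.isPGroup' hx) (Subtype.ext e)
  exact h1 (congrArg Subtype.val this)

/-- For a finite group G the following are equivalent: (a) G has a normal Sylow 2-subgroup; (b) for every odd prime q dividing the order of G and every Sylow q-subgroup T, the normalizer of Z(J(T)) has a normal Sylow 2-subgroup; (c) for every odd prime q and every Sylow q-subgroup T, no nonidentity element of T is inverted by an element of the normalizer of Z(J(T)). Here J(T) is the Thompson subgroup generated by the abelian subgroups of T of largest order. Stated as the two equivalences (a) ⇔ (b) and (a) ⇔ (c). -/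
theorem result {G : Type*} [Group G] [Finite G] : ((∀ P : Sylow 2 G, (P : Subgroup G).Normal) ↔ ∀ (q : ℕ) [Fact q.Prime], q ≠ 2 → q ∣ Nat.card G → ∀ T : Sylow q G, ∀ P : Sylow 2 ↥(Subgroup.normalizer (Cfsg.centerThompsonAOf (T : Subgroup G) : Set G)), (P : Subgroup ↥(Subgroup.normalizer (Cfsg.centerThompsonAOf (T : Subgroup G) : Set G))).Normal) ∧ ((∀ P : Sylow 2 G, (P : Subgroup G).Normal) ↔ ∀ (q : ℕ) [Fact q.Prime], q ≠ 2 → ∀ T : Sylow q G, ∀ x ∈ (T : Subgroup G), x ≠ 1 → ∀ g ∈ Subgroup.normalizer (Cfsg.centerThompsonAOf (T : Subgroup G) : Set G), g * x * g⁻¹ ≠ x⁻¹) := by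
  refine ⟨⟨fun h q _ _ _ T P => sub_closed h _ P, fun h => ca fun q _ h2 T x hx h1 g hg => ?_⟩,
    fun h q _ h2 T x hx h1 g hg => bc h2 T (sub_closed h _) hx h1 hg, ca⟩
  refine bc h2 T (h q h2 ?_ T) hx h1 hg
  obtain ⟨k, hk⟩ := T.isPGroup' ⟨x, hx⟩
  have hk' : x ^ q ^ k = 1 := congrArg Subtype.val hk
  obtain ⟨j, -, hj⟩ := (Nat.dvd_prime_pow Fact.out).1 (orderOf_dvd_of_pow_eq_one hk')
  refine (dvd_pow_self q ?_).trans (hj ▸ orderOf_dvd_natCard x)
  rintro rfl
  exact h1 (orderOf_eq_one_iff.1 hj)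

end Cfsg.Agent.S2756
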