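import Cfsg.Statements.S2793
import Cfsg.Agent.Lib.Loc.ZJC3

set_option autoImplicit false
open Cfsg

namespace Cfsg.Agent.S2793

open Subgroup CA.Amb CA.AmbSyl CA.AmbCore in
theorem aux {G : Type*} [Group G] [Finite G] {p : ℕ} [hp : Fact p.Prime] {H : Subgroup G} {g c : G}
    (hg : g ∈ H) (hc : orderOf c = p) {k : (ZMod p)ˣ} (hk : orderOf k = p - 1)
    (e : g * c * g⁻¹ = c ^ (k : ZMod p).val) :
    (H ⊓ 𝐂 (zpowers c)).relIndex (H ⊓ 𝐍 (zpowers c)) = p - 1 := by
  have hgN : g ∈ 𝐍 (zpowers c) := mem_normalizer_of_cj_le (by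
    rw [cj_zpowers, e]; exact zpowers_le_of_mem (pow_mem (mem_zpowers c) _))
  let f : ↥(H ⊓ 𝐍 (zpowers c)) →* MulAut (zpowers c) :=
    (zpowers c).normalizerMonoidHom.comp (inclusion inf_le_right)
  have hf : ∀ x, f x = 1 ↔ (x : G) ∈ 𝐂 (zpowers c) := fun x => by
    rw [← MonoidHom.mem_ker, ← MonoidHom.comap_ker, normalizerMonoidHom_ker]; rfl
  have h1 : (H ⊓ 𝐂 (zpowers c)).relIndex (H ⊓ 𝐍 (zpowers c)) = Nat.card f.range := by
    rw [← index_ker, relIndex]
    congr 1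
    ext x
    rw [MonoidHom.mem_ker, hf]
    exact ⟨fun h => h.2, fun h => ⟨x.2.1, h⟩⟩
  have h2 : Nat.card (MulAut (zpowers c)) = p - 1 := by
    rw [IsCyclic.card_mulAut, Nat.card_zpowers, hc, Nat.totient_prime hp.out]
  have h3 : ∀ n : ℕ, g ^ n * c * (g ^ n)⁻¹ = c ^ ((k : ZMod p) ^ n).val := fun n => by
    induction n with
    | zero => simp [ZMod.val_one]
    | succ n ih =>
      calc _ = g * (g ^ n * c * (g ^ n)⁻¹) * g⁻¹ := by rw [pow_succ']; group
        _ = _ := by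
          rw [ih, ← conj_pow, e, ← pow_mul, pow_eq_pow_iff_modEq, hc,
            ← ZMod.natCast_eq_natCast_iff]
          simp [pow_succ']
  have h4 : orderOf (f ⟨g, hg, hgN⟩) = p - 1 := by
    rw [← hk, orderOf_eq_orderOf_iff]
    intro n
    rw [← map_pow, hf, centralizer_zpowers, mem_centralizer_singleton_iff, Units.ext_iff]
    change g ^ n * c = c * g ^ n ↔ _
    rw [← mul_inv_eq_iff_eq_mul, h3]
    nth_rewrite 2 [← pow_one c]
    rw [pow_eq_pow_iff_modEq, hc, ← ZMod.natCast_eq_natCast_iff]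
    simp
  rw [h1]
  refine Nat.dvd_antisymm (h2 ▸ card_subgroup_dvd_card _) ?_
  rw [← h4]
  exact orderOf_dvd_natCard _ ⟨_, rfl⟩

/-- Let p be an odd prime, S a Sylow p-subgroup of the finite group G, J(S) the subgroup generated by the abelian subgroups of S of largest order, and suppose Z(J(S)) does not control strong fusion in G. Put H = N_G(Z(J(S))). Then the group F(p) of upper triangular 3 × 3 matrices (a b c; 0 a⁻¹ d; 0 0 1) over the field with p elements is involved in H, and Z(J(S)) contains a subgroup C of order p with |N_H(C) : C_H(C)| = p − 1. -/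
theorem result {G : Type*} [Group G] [Finite G] {p : ℕ} [Fact p.Prime] (hp : p ≠ 2) (S : Sylow p G) (h : ¬ Cfsg.ControlsStrongFusion p (Cfsg.centerThompsonAOf (S : Subgroup G))) (H : Subgroup G) (hH : H = Subgroup.normalizer ((Cfsg.centerThompsonAOf (S : Subgroup G)) : Set G)) : Cfsg.Involves ↥(Cfsg.fOver (ZMod p)) ↥H ∧ ∃ C : Subgroup G, C ≤ (Cfsg.centerThompsonAOf (S : Subgroup G)) ∧ Nat.card C = p ∧ (H ⊓ Subgroup.centralizer (C : Set G)).relIndex (H ⊓ Subgroup.normalizer (C : Set G)) = p - 1 := by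
  subst hH
  rw [CA.H6J.centerThompsonAOf_eq] at h ⊢
  have hS := CA.AmbSyl.sylIn_top S
  have hc := CA.ZJC.conf_of_not_ctl hp hS le_rfl (CA.H6J.normalizer_le_normalizer_Z _)
    fun c => h (c.csf (inf_le_left.trans (CA.H6J.J_le _ _)))
  refine ⟨CA.H6Stab.involves_iff.2 (CA.H6Stab.sec_top_iff.2 (hc.sec hp)), ?_⟩
  obtain ⟨k, hk⟩ := IsCyclic.exists_ofOrder_eq_natCard (α := (ZMod p)ˣ)
  rw [Nat.card_eq_fintype_card, ZMod.card_units] at hk
  obtain ⟨g, hg, c, h1, h2, h3⟩ := hc.eig le_rfl (CA.H6J.isMulCommutative_Z _) k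
  exact ⟨Subgroup.zpowers c, Subgroup.zpowers_le_of_mem h1, by rw [Nat.card_zpowers, h2],
    aux hg h2 hk h3⟩

end Cfsg.Agent.S2793
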