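import Cfsg.Statements.S2803
import Cfsg.Agent.Lib.Loc.AmbChar
import Cfsg.Agent.Lib.Loc.AmbRed
-- import your own Cfsg.Agent.* helpers here

set_option autoImplicit false
open Cfsg

namespace Cfsg.Agent.S2803

/-- Let L be a finite group and p a prime with C_L(O_p(L)) ≤ O_p(L), T a Sylow p-subgroup, and Y the largest p-reduced normal subgroup of L. Put T_L = C_T(Y) and L_T = N_L(T_L). Then L = L_T · C_L(Y) (elementwise), T_L = O_p(L_T), and Y = Ω₁(Z(T_L)). -/
theorem result {L : Type*} [Group L] [Finite L] {p : ℕ} [Fact p.Prime] (hchar : Subgroup.centralizer (Cfsg.pCore p L : Set L) ≤ Cfsg.pCore p L) (T : Sylow p L) (Y : Subgroup L) (hY : (Cfsg.IsPReducedNormal p Y ∧ ∀ V : Subgroup L, Cfsg.IsPReducedNormal p V → V ≤ Y)) (TL : Subgroup L) (hTL : TL = (T : Subgroup L) ⊓ Subgroup.centralizer (Y : Set L)) : (∀ g : L, ∃ a ∈ Subgroup.normalizer (TL : Set L), ∃ c ∈ Subgroup.centralizer (Y : Set L), g = a * c) ∧ (Cfsg.pCore p ↥(Subgroup.normalizer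 (TL : Set L))).map (Subgroup.normalizer (TL : Set L)).subtype = TL ∧ Y = Cfsg.omegaOne p (TL ⊓ Subgroup.centralizer (TL : Set L)) := by
  open Subgroup Cfsg CA.Amb CA.AmbSyl CA.AmbCore CA.AmbRes CA.AmbChar CA.AmbWC CA.AmbSpe CA.AmbRed in
  (
    have hY' : Y = YL p ⊤ :=
      eq_YL (isPReducedNormal_iff.1 hY.1) fun V hV => hY.2 V (isPReducedNormal_iff.2 hV)
    have h := isPReducedNormal_iff.1 hY.1
    subst hTL
    refine ⟨fun g => ?_, ?_, ?_⟩
    · have h1 := normalizer_sup_cent (sylIn_top T) h.norm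
      rw [top_inf_eq, top_sup_eq] at h1
      obtain ⟨a, ha, c, hc, e⟩ := (mem_sup_of_norm (norm_centralizer (le_top.trans h.norm))).1
        (h1 ▸ mem_top g)
      exact ⟨a, ha, c, hc, e.symm⟩
    · have h1 := h.red.pCoreOf_normalizer (sylIn_top T) h.norm
      rwa [top_inf_eq] at h1
    · rw [hY']; exact YL_eq_OZ (charP_top_iff.2 hchar) (sylIn_top T))

end Cfsg.Agent.S2803
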