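import Cfsg.Statements.S2804
import Cfsg.Agent.Lib.Loc.AmbChar
import Cfsg.Agent.Lib.Loc.AmbRed
-- import your own Cfsg.Agent.* helpers here

set_option autoImplicit false
open Cfsg

namespace Cfsg.Agent.S2804

/-- Let L be a finite group and p a prime with C_L(O_p(L)) ≤ O_p(L), V a p-reduced normal subgroup of L and K a subnormal subgroup of L. Then [V, O^p(K)] is contained in K and is a p-reduced normal subgroup of K, where O^p(K) is the subgroup of K generated by its elements of order prime to p. -/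
theorem result {L : Type*} [Group L] [Finite L] {p : ℕ} [Fact p.Prime] (hchar : Subgroup.centralizer (Cfsg.pCore p L : Set L) ≤ Cfsg.pCore p L) (V : Subgroup L) (hV : Cfsg.IsPReducedNormal p V) (K : Subgroup L) (hK : K.IsSubnormal) : ⁅V, (Cfsg.pResidual p ↥K).map K.subtype⁆ ≤ K ∧ Cfsg.IsPReducedNormal p ((⁅V, (Cfsg.pResidual p ↥K).map K.subtype⁆).subgroupOf K) := by
  open Subgroup Cfsg CA.Amb CA.AmbSyl CA.AmbCore CA.AmbRes CA.AmbChar CA.AmbWC CA.AmbSpe CA.AmbRed in
  (
    have h := isPReducedNormal_iff.1 hV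
    have hs := sn_top_iff.2 hK
    have h1 : ⁅V, pResidualOf p K⁆ ≤ K := ((h.comm_res_le hs).trans inf_le_right).trans (res_le _ _)
    exact ⟨h1, (isPReducedNormal_subgroupOf_iff h1).2 (h.of_sn hs le_rfl
      ((h.comm_res_le hs).trans inf_le_left) h1
      (norm_commutator (le_top.trans h.norm) (norm_res p K)))⟩)

end Cfsg.Agent.S2804
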