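import Cfsg.Statements.S2805
import Cfsg.Agent.Lib.Loc.AmbChar
import Cfsg.Agent.Lib.Loc.AmbRed
-- import your own Cfsg.Agent.* helpers here

set_option autoImplicit false
open Cfsg

namespace Cfsg.Agent.S2805

section Aux
open Subgroup Cfsg CA.Amb CA.AmbSyl CA.AmbCore CA.AmbRes CA.AmbChar CA.AmbWC CA.AmbSpe CA.AmbRed
open scoped commutatorElement

theorem aux {G : Type*} [Group G] [Finite G] {p : ℕ} [Fact p.Prime] {H L T : Subgroup G}
    (hH : CharP p H) (hT : SylIn p T H) (hL : L ≤ H) (hn : H ≤ 𝐍 L) :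
    L ⊓ 𝐂 (OZ p T) ≤ 𝐂 (OZ p (T ⊓ L)) := by
  have hLc := hH.of_norm hL hn
  have hT0 := hT.inf_norm hL hn
  have hD : SylIn p (T ⊓ L) (L ⊓ 𝐂 (OZ p T)) :=
    hT0.mono (le_inf inf_le_right (inf_le_left.trans (le_cent_OZ p T))) inf_le_left
  have hV := ea_OZ p (pCoreOf p L)
  have hVn : H ≤ 𝐍 (OZ p (pCoreOf p L)) := norm_OZ (norm_pCoreOf_of_norm hn)
  have hVT : OZ p (pCoreOf p L) ≤ T := ((OZ_le _ _).trans (pCoreOf_le_syl hT0)).trans inf_le_left
  have h1 := inf_cent_le_of_pg (ea_le_cent hV) (ea_pg hV) ((inf_le_left.trans hL).trans hVn) hD hT.pg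
    (hT.le.trans hVn) (norm_inf (hT.le.trans hn) (norm_centralizer (norm_OZ le_normalizer)))
    (norm_inf le_normalizer (hT.le.trans hn))
    ((le_OZ' (ea_of_le hV (inf_le_left.trans inf_le_left)) ((inf_le_left.trans inf_le_left).trans hVT)
      inf_le_right).trans (cent_symm inf_le_right))
  exact cent_symm ((le_inf (OZ_le_OZ_pCoreOf hLc hT0) (OZ_le_cent _ _)).trans h1)

theorem aux2 {G : Type*} [Group G] [Finite G] {p : ℕ} [Fact p.Prime] {H L T : Subgroup G}
    (hH : CharP p H) (hT : SylIn p T H) (hL : SN H L) :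
    L ⊓ 𝐂 (OZ p T) = L ⊓ 𝐂 (OZ p (T ⊓ L)) := by
  refine le_antisymm (le_inf inf_le_left ?_) (le_inf inf_le_left ?_)
  · induction hL with
    | refl => rw [inf_eq_left.2 hT.le]; exact inf_le_right
    | step A B h1 h2 h3 ih =>
      have := aux (hH.of_sn h2) (h2.sylIn_inf hT) h1 h3
      rw [inf_assoc, inf_eq_right.2 h1] at this
      exact le_trans (le_inf inf_le_left ((inf_le_inf_right _ h1).trans ih)) this
  · have hV := ea_OZ p (pCoreOf p H)
    have hVn : H ≤ 𝐍 (OZ p (pCoreOf p H)) := norm_OZ (norm_pCoreOf p H)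
    have h1 := inf_cent_syl_eq (ea_le_cent hV) (ea_pg hV) (hL.le.trans hVn) (hL.sylIn_inf hT)
    have h2 : OZ p T ≤ OZ p (pCoreOf p H) ⊓ 𝐂 (T ⊓ L) :=
      le_inf (OZ_le_OZ_pCoreOf hH hT) ((OZ_le_cent _ _).trans (centralizer_anti inf_le_left))
    refine cent_symm (h2.trans (h1.le.trans (sup_le ?_ ?_)))
    · have h3 : ⁅OZ p (pCoreOf p H), pResidualOf p L⁆ ≤ OZ p (pCoreOf p H) :=
        commutator_le_left_of_norm (((res_le _ _).trans hL.le).trans hVn)
      refine le_trans (le_OZ' (ea_of_le hV (inf_le_left.trans h3)) (inf_le_left.trans (le_inf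
        (h3.trans ((OZ_le _ _).trans (pCoreOf_le_syl hT))) ?_)) inf_le_right) (cent_symm inf_le_right)
      exact (commutator_le_right_of_norm ((OZ_le _ _).trans (pCoreOf_norm_res hL))).trans (res_le _ _)
    · exact inf_le_right.trans (centralizer_anti inf_le_left)

end Aux

/-- Kieler's Lemma: let H be a finite group of characteristic p (C_H(O_p(H)) ≤ O_p(H)), T a Sylow p-subgroup of H and L a subnormal subgroup of H. Then C_L(Ω₁(Z(T))) = C_L(Ω₁(Z(T ∩ L))), Ω₁(Z(·)) denoting the elements of order dividing p in the centre. -/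
theorem result {H : Type*} [Group H] [Finite H] {p : ℕ} [Fact p.Prime] (hH : Subgroup.centralizer (Cfsg.pCore p H : Set H) ≤ Cfsg.pCore p H) (T : Sylow p H) (L : Subgroup H) (hL : L.IsSubnormal) : L ⊓ Subgroup.centralizer ((Cfsg.omegaOne p ((T : Subgroup H) ⊓ Subgroup.centralizer ((T : Subgroup H) : Set H))) : Set H) = L ⊓ Subgroup.centralizer ((Cfsg.omegaOne p (((T : Subgroup H) ⊓ L) ⊓ Subgroup.centralizer ((((T : Subgroup H) ⊓ L) : Subgroup H) : Set H))) : Set H) := by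
  open Subgroup Cfsg CA.Amb CA.AmbSyl CA.AmbCore CA.AmbRes CA.AmbChar CA.AmbWC CA.AmbSpe CA.AmbRed in
  (
    exact aux2 (charP_top_iff.2 hH) (sylIn_top T) (sn_top_iff.2 hL))

end Cfsg.Agent.S2805
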