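import Cfsg.Statements.S2806
import Cfsg.Agent.Lib.Loc.AmbChar
import Cfsg.Agent.Lib.Loc.AmbM
import Cfsg.Agent.S2805
-- import your own Cfsg.Agent.* helpers here

set_option autoImplicit false
open Cfsg

namespace Cfsg.Agent.S2806

section Aux
open Subgroup Cfsg CA.Amb CA.AmbSyl CA.AmbCore CA.AmbRes CA.AmbChar CA.AmbWC CA.AmbSpe CA.AmbRed CA.AmbFs CA.AmbM
open scoped commutatorElement

theorem aux {G : Type*} [Group G] [Finite G] {p : ℕ} [Fact p.Prime] {H L T : Subgroup G}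
    (hH : LocP p H) (hT : SylIn p T H) (hL : L ≤ H) (hn : H ≤ 𝐍 L) (h1 : T ⊓ L ≠ ⊥) :
    L ⊓ 𝐂 (OZ p T) = L ⊓ 𝐂 (OZ p (T ⊓ L)) := by
  have hnT : T ≤ 𝐍 (T ⊓ L) := norm_inf le_normalizer (hT.le.trans hn)
  have h2 := inf_OZ_ne_bot hT.pg ((OZ_le p _).trans inf_le_left) (norm_OZ hnT)
    (OZ_ne_bot (hT.pg.to_le inf_le_left) h1)
  set Z := OZ p (T ⊓ L) ⊓ OZ p T with hZ
  have h3 := hH.cent' ((isPGroup_OZ p T).to_le inf_le_right)
    (inf_le_right.trans ((OZ_le p T).trans hT.le)) h2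
  have h4 : T ≤ 𝐂 Z := (le_cent_OZ p T).trans (centralizer_anti inf_le_right)
  have h5 := Cfsg.Agent.S2805.aux2 h3 (hT.mono (le_inf hT.le h4) inf_le_left)
    ((SN.of_norm hL hn).inf_right (𝐂 Z))
  rw [← inf_assoc T, inf_eq_left.2 (inf_le_left.trans h4 : T ⊓ L ≤ 𝐂 Z), inf_assoc, inf_assoc,
    inf_eq_right.2 (centralizer_anti inf_le_right : _ ≤ 𝐂 Z),
    inf_eq_right.2 (centralizer_anti inf_le_left : _ ≤ 𝐂 Z)] at h5
  exact h5

theorem aux2 {G : Type*} [Group G] [Finite G] {p : ℕ} [Fact p.Prime] {H L T : Subgroup G}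
    (hH : LocP p H) (hT : SylIn p T H) (hL : SN H L) (h1 : T ⊓ L ≠ ⊥) :
    L ⊓ 𝐂 (OZ p T) = L ⊓ 𝐂 (OZ p (T ⊓ L)) := by
  induction hL with
  | refl => rw [inf_eq_left.2 hT.le]
  | step A B h2 h3 h4 ih =>
    have e : T ⊓ B ⊓ A = T ⊓ A := by rw [inf_assoc, inf_eq_right.2 h2]
    have h5 := aux (hH.of_sn h3) (h3.sylIn_inf hT) h2 h4 (by rwa [e])
    rw [e] at h5
    rw [← h5, ← inf_eq_left.2 h2, inf_assoc, inf_assoc,
      ih fun e => h1 (le_bot_iff.1 (e ▸ inf_le_inf_left _ h2))]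

theorem aux3 {G : Type*} [Group G] [Finite G] {p : ℕ} [Fact p.Prime] {H L T : Subgroup G}
    (hH : LocP p H) (hT : SylIn p T H) (hL : SN H L) :
    pointStabilizer p L (T ⊓ L) = pElementClosure p (L ⊓ 𝐂 (OZ p T)) := by
  change pElementClosure p (L ⊓ 𝐂 (OZ p (T ⊓ L))) = _
  by_cases h1 : T ⊓ L = ⊥
  · have h2 : pElementClosure p L = ⊥ := by
      rw [pec_eq_bot_iff]; exact fun hd => (hL.sylIn_inf hT).ne_bot hd h1
    exact (le_bot_iff.1 ((pec_mono inf_le_left).trans h2.le)).trans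
      (le_bot_iff.1 ((pec_mono inf_le_left).trans h2.le)).symm
  · rw [aux2 hH hT hL h1]

end Aux

/-- Let H be a finite group of local characteristic p, T a Sylow p-subgroup, and L₁, L₂ subnormal subgroups of H generating the subgroup L. Then the point stabilizer of L with respect to T ∩ L is generated by the point stabilizers of L₁ and L₂ with respect to T ∩ L₁ and T ∩ L₂ (point stabilizer of X w.r.t. R: the subgroup generated by the p-elements of X centralizing Ω₁(Z(R))). -/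
theorem result {H : Type*} [Group H] [Finite H] {p : ℕ} [Fact p.Prime] (hH : Cfsg.IsOfLocalCharacteristic p H) (T : Sylow p H) (L₁ L₂ : Subgroup H) (h₁ : L₁.IsSubnormal) (h₂ : L₂.IsSubnormal) : Cfsg.pointStabilizer p (L₁ ⊔ L₂) ((T : Subgroup H) ⊓ (L₁ ⊔ L₂)) = Cfsg.pointStabilizer p L₁ ((T : Subgroup H) ⊓ L₁) ⊔ Cfsg.pointStabilizer p L₂ ((T : Subgroup H) ⊓ L₂) := by
  open Subgroup Cfsg CA.Amb CA.AmbSyl CA.AmbCore CA.AmbRes CA.AmbChar CA.AmbWC CA.AmbSpe CA.AmbRed CA.AmbFs CA.AmbM in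
  open scoped commutatorElement in
  (
    have hH' := (locP_top_iff.1 hH).2
    have hT := sylIn_top T
    have s1 := sn_top_iff.2 h₁
    have s2 := sn_top_iff.2 h₂
    rw [aux3 hH' hT s1, aux3 hH' hT s2, aux3 hH' hT (SN.sup s1 s2)]
    refine le_antisymm (pec_le_iff'.2 fun Q h1 hQ => ?_)
      (sup_le (pec_mono (inf_le_inf_right _ le_sup_left)) (pec_mono (inf_le_inf_right _ le_sup_right)))
    obtain ⟨S, hS, h2⟩ := exists_sylIn_ge hQ (h1.trans inf_le_right)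
    have h3 := hS.of_sylIn_le le_top hT (le_cent_OZ p _)
    refine (le_inf h2 (h1.trans inf_le_left)).trans ((inf_sup_of_sn h3 s1 s2).le.trans (sup_le_sup ?_ ?_)) <;>
    exact le_pec (hS.pg.to_le inf_le_left) (le_inf inf_le_right (inf_le_left.trans hS.le)))

end Cfsg.Agent.S2806
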