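import Cfsg.Statements.S2809
import Cfsg.Agent.Lib.Loc.AmbChar
import Cfsg.Agent.Lib.Loc.AmbWC
-- import your own Cfsg.Agent.* helpers here

set_option autoImplicit false
open Cfsg

namespace Cfsg.Agent.S2809

/-- Let H be a finite group, p a prime, R a p-subgroup of H with C_H(R) ≤ R, and L a subgroup of N_H(R) acting nilpotently on R (some iterated commutator [R, L, …, L] is trivial). Then L is a p-group. -/
theorem result {H : Type*} [Group H] [Finite H] {p : ℕ} [Fact p.Prime] (R : Subgroup H) (hR : IsPGroup p ↥R) (hC : Subgroup.centralizer (R : Set H) ≤ R) (L : Subgroup H) (hL : L ≤ Subgroup.normalizer (R : Set H)) (hnil : ∃ n : ℕ, Cfsg.iterCommutator R L n = ⊥) : IsPGroup p ↥L := by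
  open Subgroup Cfsg CA.Amb CA.AmbSyl CA.AmbCore CA.AmbRes CA.AmbChar CA.AmbWC in
  (
    obtain ⟨n, hn⟩ := hnil
    have key : ∀ m, ⁅R, pResidualOf p L⁆ ≤ iterCommutator R L m := by
      intro m
      induction m with
      | zero => exact commutator_le_left_of_norm ((res_le _ _).trans hL)
      | succ m ih => exact (comm_res_le_of_le hR hL ih).trans (commutator_mono le_rfl (res_le _ _))
    have := key n
    rw [hn, le_bot_iff, commutator_eq_bot_iff'] at this
    exact isPGroup_of_res_le hR (this.trans hC))

end Cfsg.Agent.S2809
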