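import Cfsg.Statements.S2810
import Cfsg.Agent.Lib.Loc.AmbChar
import Cfsg.Agent.Lib.Loc.AmbWC
-- import your own Cfsg.Agent.* helpers here

set_option autoImplicit false
open Cfsg

namespace Cfsg.Agent.S2810

/-- Let H be a finite group of characteristic p and L a subgroup of H centralizing every factor of some H-invariant chain 1 = A₀ ≤ A₁ ≤ … ≤ Aₙ = O_p(H) of normal subgroups (that is, [A_{i+1}, L] ≤ Aᵢ for each i). Then L ≤ O_p(H). -/
theorem result {H : Type*} [Group H] [Finite H] {p : ℕ} [Fact p.Prime] (hchar : Subgroup.centralizer (Cfsg.pCore p H : Set H) ≤ Cfsg.pCore p H) (L : Subgroup H) (n : ℕ) (A : Fin (n + 1) → Subgroup H) (h0 : A 0 = ⊥) (hn : A (Fin.last n) = Cfsg.pCore p H) (hmono : Monotone A) (hnorm : ∀ i, (A i).Normal) (hcent : ∀ i : Fin n, ⁅A i.succ, L⁆ ≤ A i.castSucc) : L ≤ Cfsg.pCore p H := by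
  open Subgroup Cfsg CA.Amb CA.AmbSyl CA.AmbCore CA.AmbRes CA.AmbChar CA.AmbWC in
  (
    have hG := charP_top_iff.2 hchar
    have hO := isPGroup_pCoreOf p (⊤ : Subgroup H)
    have hnn : ncl L ⊤ ≤ 𝐍 (pCoreOf p (⊤ : Subgroup H)) := le_top.trans (norm_pCoreOf p ⊤)
    have key : ∀ i : Fin (n + 1), ⁅pCoreOf p (⊤ : Subgroup H), pResidualOf p (ncl L ⊤)⁆ ≤ A i := by
      intro i
      induction i using Fin.reverseInduction with
      | last => rw [hn, ← pCoreOf_top]; exact commutator_le_left_of_norm ((res_le _ _).trans hnn)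
      | cast i ih =>
        refine (comm_res_le_of_le hO hnn ih).trans ((commutator_mono le_rfl (res_le _ _)).trans ?_)
        haveI := hnorm i.succ
        haveI := hnorm i.castSucc
        rw [commutator_comm]
        exact comm_ncl_le norm_of_normal norm_of_normal norm_of_normal
          (by rw [commutator_comm]; exact hcent i)
    have := key 0
    rw [h0, le_bot_iff, commutator_eq_bot_iff'] at this
    have hP := res_eq_bot_iff.1 (hG.res_eq_bot le_top this)
    rw [← pCoreOf_top]
    exact (le_ncl L ⊤).trans (le_pCoreOf le_top hP (norm_ncl L ⊤)))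

end Cfsg.Agent.S2810
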