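import Cfsg.Statements.S2813
import Cfsg.Agent.Lib.Loc.AmbChar
import Cfsg.Agent.Lib.Loc.AmbWC
-- import your own Cfsg.Agent.* helpers here

set_option autoImplicit false
open Cfsg

namespace Cfsg.Agent.S2813

/-- Let K be a subgroup of the finite group H with O_p(K) = 1 and Y a p-subgroup of N_H(K) with [K, Y, Y] = 1. Then [K, Y] = 1. -/
theorem result {H : Type*} [Group H] [Finite H] {p : ℕ} [Fact p.Prime] (K : Subgroup H) (hO : Cfsg.pCore p ↥K = ⊥) (Y : Subgroup H) (hY : IsPGroup p ↥Y) (hYK : Y ≤ Subgroup.normalizer (K : Set H)) (hq : ⁅⁅K, Y⁆, Y⁆ = ⊥) : ⁅K, Y⁆ = ⊥ := by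
  open Subgroup Cfsg CA.Amb CA.AmbSyl CA.AmbCore CA.AmbRes CA.AmbChar CA.AmbWC in
  (
    have h1 : ncl Y K ≤ 𝐍 Y := by
      rw [ncl_eq_sup, commutator_comm]
      exact sup_le le_normalizer (norm_of_centralizer (commutator_eq_bot_iff_le_centralizer.1 hq))
    have h2 : ncl Y K ≤ pCoreOf p (ncl Y K) :=
      ncl_le (le_pCoreOf (le_ncl Y K) hY h1) (norm_pCoreOf_of_norm (norm_ncl Y K))
    have h3 : ⁅K, Y⁆ ≤ ncl Y K := by rw [ncl_eq_sup, commutator_comm]; exact le_sup_right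
    rw [eq_bot_iff, ← pCoreOf_eq_bot_iff.2 hO]
    exact le_pCoreOf (commutator_le_left_of_norm hYK) ((isPGroup_pCoreOf _ _).to_le (h3.trans h2))
      (norm_comm_left _ _))

end Cfsg.Agent.S2813
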