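import Cfsg.Statements.S2814
import Cfsg.Agent.Lib.Loc.AmbChar
import Cfsg.Agent.Lib.Loc.AmbFs
-- import your own Cfsg.Agent.* helpers here

set_option autoImplicit false
open Cfsg

namespace Cfsg.Agent.S2814

/-- Let A be a subgroup of the finite group H and K the subnormal closure of A (intersection of the subnormal subgroups containing A). Then K is the normal closure of A inside K and N_H(A) ≤ N_H(K); K = A·O^p(K), O^p(K) being generated by the elements of K of order prime to p; and if A is a p-group, O^p(K) = [O^p(K), A]. -/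
theorem result {H : Type*} [Group H] [Finite H] {p : ℕ} [Fact p.Prime] (A : Subgroup H) (K : Subgroup H) (hK : K = Cfsg.subnormalClosure A) : (Subgroup.normalClosure ((A.subgroupOf K : Subgroup ↥K) : Set ↥K)).map K.subtype = K ∧ Subgroup.normalizer (A : Set H) ≤ Subgroup.normalizer (K : Set H) ∧ A ⊔ (Cfsg.pResidual p ↥K).map K.subtype = K ∧ (IsPGroup p ↥A → ⁅(Cfsg.pResidual p ↥K).map K.subtype, A⁆ = (Cfsg.pResidual p ↥K).map K.subtype) := by
  open Subgroup Cfsg CA.Amb CA.AmbSyl CA.AmbCore CA.AmbRes CA.AmbChar CA.AmbWC CA.AmbSpe CA.AmbRed CA.AmbFs in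
  open scoped commutatorElement in
  (
    have hA : A ≤ K := hK ▸ le_sInf fun _ h => h.1
    have hmin : ∀ L : Subgroup H, A ≤ L → SN ⊤ L → K ≤ L := fun L h1 h2 =>
      hK ▸ sInf_le ⟨h1, sn_top_iff.1 h2⟩
    have hs : SN ⊤ K := by
      rw [hK, subnormalClosure, sInf_eq_iInf', sn_top_iff]
      exact CA.Subn.subnormal_iInf fun i => i.2.2
    have h3 : A ⊔ pResidualOf p K = K := le_antisymm (sup_le hA (res_le _ _))
      (hmin _ le_sup_left (hs.trans (sn_of_res_le le_sup_right (sup_le hA (res_le _ _)))))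
    have h1 : ncl A K = K := le_antisymm (ncl_le_of_le hA)
      (hmin _ (le_ncl _ _) (hs.trans (SN.of_norm (ncl_le_of_le hA) (norm_ncl _ _))))
    refine ⟨by rw [map_normalClosure_subgroupOf hA, h1], fun g hg => ?_, h3, fun hp => ?_⟩
    · refine mem_normalizer_of_le_cj (hmin _ ((cj_eq_self hg).ge.trans (cj_mono g hA)) ?_)
      exact hs.conj_norm (norm_of_normal (mem_top g))
    · change ⁅pResidualOf p K, A⁆ = pResidualOf p K
      refine le_antisymm (commutator_le_left_of_norm (hA.trans (norm_res p K))) ?_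
      refine res_le_of_le_sup hp (norm_comm_right _ _) (h1.ge.trans (ncl_le le_sup_left ?_))
      rw [commutator_comm, ← ncl_eq_sup]
      exact h3.ge.trans (sup_le (norm_of_le (le_ncl _ _)) (norm_ncl _ _)))

end Cfsg.Agent.S2814
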