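import Cfsg.Statements.S2815
import Cfsg.Agent.Lib.Loc.AmbChar
import Cfsg.Agent.Lib.Loc.AmbFs
-- import your own Cfsg.Agent.* helpers here

set_option autoImplicit false
open Cfsg

namespace Cfsg.Agent.S2815

/-- Let H be a finite group and p a prime dividing its order with O_p(H) = 1, and suppose K = O^p(H) (generated by the elements of order prime to p) is quasisimple. Then K = F*(H); for every nontrivial p-subgroup Y of H, K = [K, Y] and K lies in the subgroup generated by the K-conjugates of Y; every normal subgroup of H not containing K has order prime to p; and H is p-irreducible. -/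
theorem result {H : Type*} [Group H] [Finite H] {p : ℕ} [Fact p.Prime] (hp : p ∣ Nat.card H) (hO : Cfsg.pCore p H = ⊥) (hq : Cfsg.IsQuasisimple ↥(Cfsg.pResidual p H)) : Cfsg.pResidual p H = Cfsg.generalizedFittingSubgroup H ∧ (∀ Y : Subgroup H, IsPGroup p ↥Y → Y ≠ ⊥ → ⁅Cfsg.pResidual p H, Y⁆ = Cfsg.pResidual p H ∧ Cfsg.pResidual p H ≤ ⨆ k : ↥(Cfsg.pResidual p H), Y.map (MulAut.conj (k : H)).toMonoidHom) ∧ (∀ C : Subgroup H, C.Normal → ¬ Cfsg.pResidual p H ≤ C → (Nat.card ↥C).Coprime p) ∧ Cfsg.IsPIrreducible p H := by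
  open Subgroup Cfsg CA.Amb CA.AmbSyl CA.AmbCore CA.AmbRes CA.AmbChar CA.AmbWC CA.AmbSpe CA.AmbRed CA.AmbFs in
  open scoped commutatorElement in
  (
    have hO' : pCoreOf p (⊤ : Subgroup H) = ⊥ := by rwa [pCoreOf_top]
    have hn : (⊤ : Subgroup H) ≤ 𝐍 (pResidual p H) := by rw [← res_top]; exact norm_res p ⊤
    haveI := normal_iff_top_le.2 hn
    have hK : IsComponent (pResidual p H) := ⟨sn_top_iff.1 (SN.of_norm le_top hn), hq⟩
    have h1 : pResidual p H = generalizedFittingSubgroup H := by
      refine le_antisymm (CA.Fstar.comp_le_fstar hK) ?_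
      have := FS_le_res hO'
      rwa [FS_top, res_top] at this
    have h3 : ∀ C : Subgroup H, C.Normal → ¬ pResidual p H ≤ C → (Nat.card ↥C).Coprime p := by
      intro C hC h
      have h4 := (CA.Comp.comp_le_or_le_centralizer hK
        (sn_top_iff.1 (SN.of_norm le_top norm_of_normal))).resolve_left h
      have h5 : C ≤ FL ⊤ := le_trans (le_inf le_top (by rw [FS_top, ← h1]; exact cent_symm h4))
        (inf_cent_FS_le ⊤)
      exact CA.Core.coprime_card_of_le h5 (coprime_FL hO')
    refine ⟨h1, fun Y hY hY1 => ?_, h3, fun hc => ?_, fun N hN hc => ?_⟩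
    · have h2 : ⁅pResidual p H, Y⁆ = pResidual p H := by
        refine (CA.Quasi.qs_commutator_eq hq norm_of_normal).resolve_right fun h => hY1 ?_
        exact eq_bot_of_cent_FS hO' hY le_top (by rw [FS_top, ← h1]; exact commutator_eq_bot_iff'.1 h)
      refine ⟨h2, ?_⟩
      change _ ≤ ncl Y _
      rw [ncl_eq_sup, commutator_comm, h2]; exact le_sup_right
    · have h4 := isPClosed_iff_syl.1 (isPClosed_top_iff.2 hc)
      exact h4.ne_bot (by rwa [card_top]) hO'
    · by_contra h
      exact hc (isPClosed_of_not_dvd (CA.Fitting.coprime_iff_not_dvd.1 (h3 N hN h))))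

end Cfsg.Agent.S2815
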