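import Cfsg.Statements.S2816
import Cfsg.Agent.Lib.Loc.AmbChar
import Cfsg.Agent.Lib.Loc.AmbFs
-- import your own Cfsg.Agent.* helpers here

set_option autoImplicit false
open Cfsg

namespace Cfsg.Agent.S2816

/-- Let H be a finite group and p a prime with O_p(H) = 1, and Y a p-subgroup of H. Then for every subnormal subgroup K of H containing Y, [F*(H), Y] = [F*(K), Y] = [F*(K), Y, Y]; and if Y₀ ≤ Y with [F*(H), Y, Y₀] = 1 then Y₀ = 1 (in particular [F*(H), Y] = 1 forces Y = 1). -/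
theorem result {H : Type*} [Group H] [Finite H] {p : ℕ} [Fact p.Prime] (hO : Cfsg.pCore p H = ⊥) (Y : Subgroup H) (hY : IsPGroup p ↥Y) : (∀ K : Subgroup H, K.IsSubnormal → Y ≤ K → ⁅Cfsg.generalizedFittingSubgroup H, Y⁆ = ⁅(Cfsg.generalizedFittingSubgroup ↥K).map K.subtype, Y⁆ ∧ ⁅(Cfsg.generalizedFittingSubgroup ↥K).map K.subtype, Y⁆ = ⁅⁅(Cfsg.generalizedFittingSubgroup ↥K).map K.subtype, Y⁆, Y⁆) ∧ (∀ Y₀ : Subgroup H, Y₀ ≤ Y → ⁅⁅Cfsg.generalizedFittingSubgroup H, Y⁆, Y₀⁆ = ⊥ → Y₀ = ⊥) := by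
  open Subgroup Cfsg CA.Amb CA.AmbSyl CA.AmbCore CA.AmbRes CA.AmbChar CA.AmbWC CA.AmbSpe CA.AmbRed CA.AmbFs in
  open scoped commutatorElement in
  (
    have hO' : pCoreOf p (⊤ : Subgroup H) = ⊥ := by rwa [pCoreOf_top]
    rw [← FS_top]
    refine ⟨fun K hK hYK => ?_, fun Y₀ h1 h2 => ?_⟩
    · have hK' := sn_top_iff.2 hK
      refine ⟨le_antisymm ?_ (commutator_mono (SN.FS_le hK') le_rfl),
        (comm_comm_FS' (SN.pCoreOf_eq_bot hK' hO') hY (norm_of_le hYK)).symm⟩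
      rw [← comm_comm_FS' hO' hY norm_of_normal]
      refine commutator_mono ?_ le_rfl
      change _ ≤ FS K
      rw [SN.FS_eq hK']
      exact le_inf (commutator_le_left_of_norm (norm_FS norm_of_normal)) (comm_FS_le_of_sn hO' hY hK' hYK)
    · exact eq_bot_of_comm_comm hO' (hY.to_le h1) le_top
        (le_bot_iff.1 (h2 ▸ commutator_mono (commutator_mono le_rfl h1) le_rfl)))

end Cfsg.Agent.S2816
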