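import Cfsg.Statements.S2817
import Cfsg.Agent.Lib.Loc.AmbChar
import Cfsg.Agent.Lib.Loc.AmbFs
-- import your own Cfsg.Agent.* helpers here

set_option autoImplicit false
open Cfsg

namespace Cfsg.Agent.S2817

/-- Let H be a finite group and p a prime with O_p(H) = 1, Q a p-subgroup of H, L = [F*(H), Q], and F the largest normal subgroup of F*(H) centralized by Q (a normal subgroup of F*(H) centralized by Q and containing every such). Then F = C_{F*(H)}(LQ); L = [L, Q]; L ∩ F ≤ Φ(L); every p-subgroup B of N_H(Q) with [L, B] ≤ F satisfies [L, B] = 1; and C_H(FL) has order prime to p. -/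
theorem result {H : Type*} [Group H] [Finite H] {p : ℕ} [Fact p.Prime] (hO : Cfsg.pCore p H = ⊥) (Q : Subgroup H) (hQ : IsPGroup p ↥Q) (L : Subgroup H) (hL : L = ⁅Cfsg.generalizedFittingSubgroup H, Q⁆) (F : Subgroup H) (hF : F ≤ Cfsg.generalizedFittingSubgroup H ∧ Cfsg.generalizedFittingSubgroup H ≤ Subgroup.normalizer (F : Set H) ∧ Q ≤ Subgroup.centralizer (F : Set H) ∧ ∀ N : Subgroup H, N ≤ Cfsg.generalizedFittingSubgroup H → Cfsg.generalizedFittingSubgroup H ≤ Subgroup.normalizer (N : Set H) → Q ≤ Subgroup.centralizer (N : Set H) → N ≤ F) : F = Cfsg.generalizedFittingSubgroup H ⊓ Subgroup.centralizer ((L ⊔ Q : Subgroup H) : Set H) ∧ ⁅L, Q⁆ = L ∧ L ⊓ F ≤ (frattini ↥L).map L.subtype ∧ (∀ B : Subgroup H, IsPGroup p ↥B → B ≤ Subgroup.normalizer (Q : Set H) → ⁅L, B⁆ ≤ F → ⁅L, B⁆ = ⊥) ∧ (Nat.card ↥(Subgroup.centralizer ((F ⊔ L : Subgroup H) : Set H))).Coprime p := by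
  open Subgroup Cfsg CA.Amb CA.AmbSyl CA.AmbCore CA.AmbRes CA.AmbChar CA.AmbWC CA.AmbSpe CA.AmbRed CA.AmbFs in
  open scoped commutatorElement in
  (
    have hO' : pCoreOf p (⊤ : Subgroup H) = ⊥ := by rwa [pCoreOf_top]
    rw [← FS_top] at hL hF ⊢
    obtain ⟨f1, f2, f3, f4⟩ := hF
    set E := FS (⊤ : Subgroup H) with hE
    have hEn : ∀ A : Subgroup H, A ≤ 𝐍 E := fun A => norm_FS norm_of_normal
    have hLE : L ≤ E := hL ▸ commutator_le_left_of_norm (hEn Q)
    have hEL : E ≤ 𝐍 L := hL ▸ norm_comm_left _ _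
    have hQL : Q ≤ 𝐍 L := hL ▸ norm_comm_right _ _
    have hLsn : SN ⊤ L := (sn_FS ⊤).trans (SN.of_norm hLE hEL)
    have hncl : L ⊔ Q = ncl Q E := by rw [ncl_eq_sup, commutator_comm, ← hL, sup_comm]
    have h1 : F = E ⊓ 𝐂 (L ⊔ Q) := by
      refine le_antisymm (le_inf f1 ?_) (f4 _ inf_le_left ?_ ?_)
      · rw [hncl]; exact cent_symm (ncl_le_cent f2 f3)
      · exact norm_inf le_normalizer (norm_centralizer (hncl ▸ norm_ncl _ _))
      · exact cent_symm (inf_le_right.trans (centralizer_anti le_sup_right))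
    have h2 : ⁅L, Q⁆ = L := by rw [hL]; exact comm_comm_FS' hO' hQ norm_of_normal
    have hFL : F ≤ 𝐂 L := h1.le.trans (inf_le_right.trans (centralizer_anti le_sup_left))
    have h3 : L ⊓ F ≤ Phi L := by
      refine le_Phi_of_cent (le_trans (inf_le_inf_left _ (cent_symm f3)) (inf_cent_le_der hQL ?_ h2))
        (inf_le_right.trans hFL)
      have h4 := FS_eq_self_of_sn hLsn hLE
      have h5 := SN.pCoreOf_eq_bot hLsn hO'
      have h6 : (⁅L, L⁆).relIndex L = (⁅L, L⁆).relIndex (FL L) := by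
        have h7 : L = FL L ⊔ EL L := by rw [sup_comm, ← FS_eq, h4]
        exact (congrArg (⁅L, L⁆).relIndex h7).trans
          (relIndex_sup_left_of_le ((FL_le L).trans (norm_EL le_normalizer))
          ((EL_perfect L).ge.trans (commutator_mono (EL_le L) (EL_le L))))
      rw [h6]
      exact (Nat.Coprime.coprime_dvd_left (relIndex_dvd_card _ _)
        (coprime_card_of_isPGroup hQ (coprime_FL h5))).symm
    refine ⟨h1, h2, h3, fun B hB hBQ h => ?_, ?_⟩
    · have hBL : B ≤ 𝐍 L := hL ▸ norm_commutator (hEn B) hBQ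
      have h4 := comm_sup_cent_sn hO' hLsn hLE hB hBL
      have h5 := eq_of_le_sup_Phi (inf_le_left : L ⊓ 𝐂 B ≤ L) (h4.ge.trans (sup_le
        (le_sup_of_le_right ((le_inf (commutator_le_left_of_norm hBL) h).trans h3)) le_sup_left))
      exact comm_eq_bot_of_le (h5.ge.trans inf_le_right)
    · rw [CA.Fitting.coprime_iff_not_dvd]
      intro hd
      obtain ⟨x, hx, ho⟩ := exists_orderOf_eq_of_dvd hd
      have hQF : Q ≤ 𝐍 F := norm_of_centralizer f3
      have hD : E ⊓ 𝐂 (F ⊔ L) ≤ F ⊔ L := by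
        have hEn' : E ≤ 𝐍 (E ⊓ 𝐂 (F ⊔ L)) := norm_inf le_normalizer (norm_centralizer (norm_sup f2 hEL))
        rw [← comm_sup_cent_sn hO' ((sn_FS ⊤).trans (SN.of_norm inf_le_left hEn')) inf_le_left hQ
          (norm_inf (hEn Q) (norm_centralizer (norm_sup hQF hQL)))]
        refine sup_le (le_sup_of_le_right (hL ▸ commutator_mono inf_le_left le_rfl))
          (le_sup_of_le_left ?_)
        rw [h1, CA.Amb.centralizer_sup L Q]
        exact le_inf (inf_le_left.trans inf_le_left) (le_inf (inf_le_left.trans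
          (inf_le_right.trans (centralizer_anti le_sup_right))) inf_le_right)
      have hx' : zpowers x ≤ 𝐂 (F ⊔ L) := zpowers_le.2 hx
      have h4 : ⁅E, zpowers x⁆ ≤ F ⊔ L := le_trans (le_inf (commutator_le_left_of_norm (hEn _))
        ((commutator_mono le_rfl hx').trans
          (commutator_le_right_of_norm (norm_centralizer (norm_sup f2 hEL))))) hD
      have h5 := eq_bot_of_comm_comm hO' (isPGroup_zpowers_of_orderOf (k := 1) (by rw [pow_one, ho]))
        le_top (comm_eq_bot_of_le' (hx'.trans (centralizer_anti h4)))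
      exact ne_one_of_orderOf ho (zpowers_eq_bot.1 h5))

end Cfsg.Agent.S2817
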