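import Cfsg.Statements.S2818
import Cfsg.Agent.Lib.Loc.AmbChar
import Cfsg.Agent.Lib.Loc.AmbFs
-- import your own Cfsg.Agent.* helpers here

set_option autoImplicit false
open Cfsg

namespace Cfsg.Agent.S2818

/-- Let P be a finite p-subgroup of a group G and H a subgroup of N_G(P) with [P, H] ≤ Ω₁(Z(P)) (the elements of order dividing p in the centre of P). Then H centralizes the Frattini subgroup of P. -/
theorem result {G : Type*} [Group G] [Finite G] {p : ℕ} [Fact p.Prime] (P : Subgroup G) (hP : IsPGroup p ↥P) (H : Subgroup G) (hH : H ≤ Subgroup.normalizer (P : Set G)) (h : ⁅P, H⁆ ≤ Cfsg.omegaOne p (P ⊓ Subgroup.centralizer (P : Set G))) : ⁅(frattini ↥P).map P.subtype, H⁆ = ⊥ := by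
  open Subgroup Cfsg CA.Amb CA.AmbSyl CA.AmbCore CA.AmbRes CA.AmbChar CA.AmbWC CA.AmbSpe CA.AmbRed CA.AmbFs in
  open scoped commutatorElement in
  (
    have h1 : ⁅P, H⁆ ≤ 𝐂 P := h.trans (OZ_le_cent p P)
    refine le_bot_iff.1 (comm_Phi_le Fact.out hH (norm_of_normal) ?_ (comm_eq_bot_of_le h1).le
      fun x hx => (mem_OZ.1 (h hx)).2.2)
    refine three_subgroups norm_of_normal norm_of_normal norm_of_normal (comm_eq_bot_of_le h1).le ?_
    rw [commutator_comm H P]; exact (comm_eq_bot_of_le h1).le)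

end Cfsg.Agent.S2818
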