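import Cfsg.Statements.S2819
import Cfsg.Agent.Lib.Loc.AmbChar
import Cfsg.Agent.Lib.Loc.AmbFs
-- import your own Cfsg.Agent.* helpers here

set_option autoImplicit false
open Cfsg

namespace Cfsg.Agent.S2819

/-- Let P be a finite p-subgroup of a group G, H a subgroup of N_G(P), and Y a subgroup of H centralizing the derived subgroup P' such that [P, Y] is elementary abelian. Then O^p(⟨Y^H⟩), the subgroup of the normal closure of Y in H generated by its elements of order prime to p, centralizes the Frattini subgroup of P. -/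
theorem result {G : Type*} [Group G] [Finite G] {p : ℕ} [Fact p.Prime] (P : Subgroup G) (hP : IsPGroup p ↥P) (H : Subgroup G) (hH : H ≤ Subgroup.normalizer (P : Set G)) (Y : Subgroup G) (hYH : Y ≤ H) (hYc : Y ≤ Subgroup.centralizer ((⁅P, P⁆ : Subgroup G) : Set G)) (hel : Cfsg.IsElementaryAbelian p ⁅P, Y⁆) (NY : Subgroup G) (hNY : NY = (Subgroup.normalClosure ((Y.subgroupOf H : Subgroup ↥H) : Set ↥H)).map H.subtype) : (Cfsg.pResidual p ↥NY).map NY.subtype ≤ Subgroup.centralizer (((frattini ↥P).map P.subtype : Subgroup G) : Set G) := by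
  open Subgroup Cfsg CA.Amb CA.AmbSyl CA.AmbCore CA.AmbRes CA.AmbChar CA.AmbWC CA.AmbSpe CA.AmbRed CA.AmbFs in
  open scoped commutatorElement in
  (
    rw [map_normalClosure_subgroupOf hYH] at hNY
    have hYP := hYH.trans hH
    have hD : H ≤ 𝐍 ⁅P, P⁆ := norm_commutator hH hH
    have hN : NY ≤ H := hNY ▸ ncl_le_of_le hYH
    have h1 : ⁅Phi P, Y⁆ ≤ ⁅P, P⁆ :=
      comm_Phi_le Fact.out hYP (norm_comm_left _ _) ((comm_eq_bot_of_le' hYc).le.trans bot_le)
        (commutator_mono (commutator_le_left_of_norm hYP) le_rfl)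
        fun x hx => by rw [ea_pow hel hx]; exact one_mem _
    have h2 : ⁅NY, Phi P⁆ ≤ ⁅P, P⁆ :=
      hNY ▸ comm_ncl_le (norm_Phi hH) hD (hYH.trans hD) (by rwa [commutator_comm])
    have h3 : NY ≤ 𝐂 ⁅P, P⁆ := hNY ▸ ncl_le_cent hD hYc
    refine res_le_cent_of_comm_le (hP.to_le (Phi_le P)) (hN.trans (norm_Phi hH)) ?_
    rw [commutator_comm] at h2
    exact ((commutator_mono le_rfl (res_le _ _)).trans h2).trans
      (cent_symm ((res_le _ _).trans h3)))

end Cfsg.Agent.S2819
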