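import Cfsg.Statements.S2823
import Cfsg.Agent.Lib.Loc.AmbChar
import Cfsg.Agent.Lib.Loc.AmbRed
-- import your own Cfsg.Agent.* helpers here

set_option autoImplicit false
open Cfsg

namespace Cfsg.Agent.S2823

/-- Let H be a finite group, p a prime, T a Sylow p-subgroup and L a subgroup of characteristic p containing T; let Z_L be the subgroup generated by the Ω₁(Z(S)) over the Sylow p-subgroups S of L and O^p(L) the subgroup generated by the elements of L of order prime to p. Then Z_L = Ω₁(Z(L))·[Z_L, O^p(L)] and [Z_L, L] = [Z_L, O^p(L)]. -/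
theorem result {H : Type*} [Group H] [Finite H] {p : ℕ} [Fact p.Prime] (T : Sylow p H) (L : Subgroup H) (hTL : (T : Subgroup H) ≤ L) (hL : Subgroup.centralizer (Cfsg.pCore p ↥L : Set ↥L) ≤ Cfsg.pCore p ↥L) : Cfsg.sylowCenterClosure p L = (Cfsg.omegaOne p (L ⊓ Subgroup.centralizer ((L : Subgroup H) : Set H))) ⊔ ⁅Cfsg.sylowCenterClosure p L, (Cfsg.pResidual p ↥L).map L.subtype⁆ ∧ ⁅Cfsg.sylowCenterClosure p L, L⁆ = ⁅Cfsg.sylowCenterClosure p L, (Cfsg.pResidual p ↥L).map L.subtype⁆ := by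
  open Subgroup Cfsg CA.Amb CA.AmbSyl CA.AmbCore CA.AmbRes CA.AmbChar CA.AmbWC CA.AmbSpe CA.AmbRed in
  (
    have hc := CA.AmbChar.charP_iff.2 hL
    have hT := sylIn_of_le T hTL
    have h := red_ZL hc
    have hW : ⁅ZL p L, pResidualOf p L⁆ ≤ ZL p L :=
      commutator_le_left_of_norm ((res_le _ _).trans h.norm)
    have hWn : L ≤ 𝐍 ⁅ZL p L, pResidualOf p L⁆ := norm_commutator h.norm (norm_res p L)
    have h1 := inf_cent_syl_eq (ea_le_cent h.ea) h.pg h.norm hT
    have h2 : ZL p L = OZ p L ⊔ ⁅ZL p L, pResidualOf p L⁆ := by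
      refine le_antisymm ?_ (sup_le ?_ hW)
      · refine (ZL_eq hT).le.trans (ncl_le ?_ (norm_sup (norm_OZ le_normalizer) hWn))
        refine (le_inf (OZ_le_ZL hT) (OZ_le_cent _ _)).trans (h1.le.trans (sup_le
          (inf_le_left.trans le_sup_right) (le_trans ?_ le_sup_left)))
        exact le_OZ' (ea_of_le h.ea inf_le_left) (inf_le_left.trans h.le) inf_le_right
      · refine le_trans (le_OZ' (ea_OZ p L) (hT.le_of_norm (isPGroup_OZ p L) (OZ_le p L)
          (hTL.trans (norm_OZ le_normalizer))) ((OZ_le_cent p L).trans (centralizer_anti hTL)))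
          (OZ_le_ZL hT)
    refine ⟨h2, le_antisymm ?_ (commutator_mono le_rfl (res_le _ _))⟩
    refine le_trans (commutator_mono h2.le le_rfl) (comm_sup_le ((OZ_le _ _).trans hWn) le_normalizer ?_
      (commutator_le_left_of_norm hWn))
    rw [comm_eq_bot_of_le (OZ_le_cent p L)]; exact bot_le)

end Cfsg.Agent.S2823
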