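import Cfsg.Statements.S2824
import Cfsg.Agent.Lib.Loc.AmbChar
import Cfsg.Agent.Lib.Loc.AmbRed
-- import your own Cfsg.Agent.* helpers here

set_option autoImplicit false
open Cfsg

namespace Cfsg.Agent.S2824

/-- Let H be a finite group, p a prime, T a Sylow p-subgroup, L and M subgroups of characteristic p containing T, Y_L the largest p-reduced normal subgroup of L and T₀ = C_T(Y_L). If M·C_H(Y_L) = L·C_H(Y_L), then L* := N_M(T₀) has Y_{L*} = Y_L and L·C_H(Y_L) = L*·C_H(Y_L). -/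
theorem result {H : Type*} [Group H] [Finite H] {p : ℕ} [Fact p.Prime] (T : Sylow p H) (L M : Subgroup H) (hTL : (T : Subgroup H) ≤ L) (hTM : (T : Subgroup H) ≤ M) (hL : Subgroup.centralizer (Cfsg.pCore p ↥L : Set ↥L) ≤ Cfsg.pCore p ↥L) (hM : Subgroup.centralizer (Cfsg.pCore p ↥M : Set ↥M) ≤ Cfsg.pCore p ↥M) (T₀ : Subgroup H) (hT₀ : T₀ = (T : Subgroup H) ⊓ Subgroup.centralizer (((Cfsg.largestPReducedOf p L) : Subgroup H) : Set H)) (hfac : M ⊔ Subgroup.centralizer (((Cfsg.largestPReducedOf p L) : Subgroup H) : Set H) = L ⊔ Subgroup.centralizer (((Cfsg.largestPReducedOf p L) : Subgroup H) : Set H)) (Ls : Subgroup H) (hLs : Ls = M ⊓ Subgroup.normalizer ((T₀ : Subgroup H) : Set H)) : (Cfsg.largestPReducedOf p Ls) = (Cfsg.largestPReducedOf p L) ∧ L ⊔ Subgroup.centralizer (((Cfsg.largestPReducedOf p L) : Subgroup H) : Set H) = Ls ⊔ Subgroup.centralizer (((Cfsg.largestPReducedOf p L) : Subgroup H) : Set H) := by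
  open Subgroup Cfsg CA.Amb CA.AmbSyl CA.AmbCore CA.AmbRes CA.AmbChar CA.AmbWC CA.AmbSpe CA.AmbRed in
  (
    have hc := CA.AmbChar.charP_iff.2 hL
    have hc' := CA.AmbChar.charP_iff.2 hM
    have hT := sylIn_of_le T hTL
    have hT' := sylIn_of_le T hTM
    have h := red_YL p L
    subst hT₀ hLs
    have hn : M ≤ 𝐍 (YL p L) :=
      (le_sup_left.trans hfac.le).trans (sup_le h.norm (centralizer_le_normalizer _))
    have hR : Red p (YL p L) M := ⟨(h.le_pCoreOf.trans (pCoreOf_le_syl hT)).trans hTM, hn, h.ea,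
      h.red.of_sup hn h.norm hfac⟩
    have e := normalizer_sup_cent hT' hn
    refine ⟨le_antisymm ?_ ?_, hfac.symm.trans e.symm⟩
    · refine (red_YL p _).le_OZ.trans ?_
      rw [hR.red.pCoreOf_normalizer hT' hn]
      exact (YL_eq_OZ hc hT).ge
    · exact (YL_eq_OZ hc hT).le.trans (hR.red_OZ hT').le_YL)

end Cfsg.Agent.S2824
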