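import Cfsg.Statements.S2825
import Cfsg.Agent.Lib.Loc.AmbChar
import Cfsg.Agent.Lib.Loc.AmbRed
-- import your own Cfsg.Agent.* helpers here

set_option autoImplicit false
open Cfsg

namespace Cfsg.Agent.S2825

/-- Let L be a subnormal subgroup of the finite group H, p a prime, Y_H and Y_L the largest p-reduced normal subgroups. Then Y_H ∩ L = Y_H ∩ Y_L and this subgroup is a p-reduced normal subgroup of L; C_L(Y_L) = C_L(Y_H) = C_L(Y_H ∩ L); and if O^p(H) ≤ L, then [Y_L, L] = 1 if and only if [Y_H, H] = 1. -/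
theorem result {H : Type*} [Group H] [Finite H] {p : ℕ} [Fact p.Prime] (L : Subgroup H) (hL : L.IsSubnormal) : Cfsg.largestPReduced p H ⊓ L = Cfsg.largestPReduced p H ⊓ (Cfsg.largestPReducedOf p L) ∧ Cfsg.IsPReducedNormal p ((Cfsg.largestPReduced p H ⊓ L).subgroupOf L) ∧ L ⊓ Subgroup.centralizer ((Cfsg.largestPReducedOf p L : Subgroup H) : Set H) = L ⊓ Subgroup.centralizer (Cfsg.largestPReduced p H : Set H) ∧ L ⊓ Subgroup.centralizer (Cfsg.largestPReduced p H : Set H) = L ⊓ Subgroup.centralizer ((Cfsg.largestPReduced p H ⊓ L : Subgroup H) : Set H) ∧ (Cfsg.pResidual p H ≤ L → (⁅(Cfsg.largestPReducedOf p L), L⁆ = ⊥ ↔ ⁅Cfsg.largestPReduced p H, (⊤ : Subgroup H)⁆ = ⊥)) := by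
  open Subgroup Cfsg CA.Amb CA.AmbSyl CA.AmbCore CA.AmbRes CA.AmbChar CA.AmbWC CA.AmbSpe CA.AmbRed in
  (
    have hs := sn_top_iff.2 hL
    have h := red_YL p (⊤ : Subgroup H)
    have e := inf_cent_YL (p := p) hs
    rw [YL_top] at h e
    have h5 := (h.comm_res_le hs).trans (inf_le_inf_left _ (res_le p L))
    have h6 : L ≤ 𝐍 (largestPReduced p H ⊓ L) := norm_inf (le_top.trans h.norm) le_normalizer
    have h7 := h.of_sn hs h5 inf_le_left inf_le_right h6
    refine ⟨le_antisymm (le_inf inf_le_left h7.le_YL) (inf_le_inf_left _ (red_YL p L).le),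
      (isPReducedNormal_subgroupOf_iff inf_le_right).2 h7, e,
      (h.inf_cent_eq hs h5 inf_le_left h6).symm, fun hr => ?_⟩
    rw [commutator_eq_bot_iff', commutator_eq_bot_iff']
    constructor
    · intro h8
      refine h.red ⊤ le_rfl le_normalizer ?_
      rw [res_top]
      exact hr.trans ((le_inf le_rfl h8).trans (e.le.trans inf_le_right))
    · intro h8
      exact (le_inf le_rfl (le_top.trans h8)).trans (e.ge.trans inf_le_right))

end Cfsg.Agent.S2825
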