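import Cfsg.Statements.S2826
import Cfsg.Agent.Lib.Loc.AmbChar
import Cfsg.Agent.Lib.Loc.AmbRed
-- import your own Cfsg.Agent.* helpers here

set_option autoImplicit false
open Cfsg

namespace Cfsg.Agent.S2826

/-- Let H be a finite group of characteristic p, T a Sylow p-subgroup, and V a normal elementary abelian p-subgroup of H containing Ω₁(Z(T)). Then C_H(Ω₁(Z(T))) = C_H([V, O^p(H)] ∩ Ω₁(Z(T))), O^p(H) being generated by the elements of order prime to p. -/
theorem result {H : Type*} [Group H] [Finite H] {p : ℕ} [Fact p.Prime] (hH : Subgroup.centralizer (Cfsg.pCore p H : Set H) ≤ Cfsg.pCore p H) (T : Sylow p H) (V : Subgroup H) [V.Normal] (hV : Cfsg.IsElementaryAbelian p V) (hZV : (Cfsg.omegaOne p ((T : Subgroup H) ⊓ Subgroup.centralizer (((T : Subgroup H) : Subgroup H) : Set H))) ≤ V) : Subgroup.centralizer ((Cfsg.omegaOne p ((T : Subgroup H) ⊓ Subgroup.centralizer (((T : Subgroup H) : Subgroup H) : Set H))) : Set H) = Subgroup.centralizer (((⁅V, Cfsg.pResidual p H⁆ ⊓ (Cfsg.omegaOne p ((T :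 Subgroup H) ⊓ Subgroup.centralizer (((T : Subgroup H) : Subgroup H) : Set H)))) : Subgroup H) : Set H) := by
  open Subgroup Cfsg CA.Amb CA.AmbSyl CA.AmbCore CA.AmbRes CA.AmbChar CA.AmbWC CA.AmbSpe CA.AmbRed in
  (
    refine le_antisymm (centralizer_anti inf_le_right) (cent_symm ?_)
    have h1 := inf_cent_syl_eq (ea_le_cent hV) (ea_pg hV) norm_of_normal (sylIn_top T)
    rw [res_top] at h1
    refine (le_inf hZV (OZ_le_cent _ _)).trans (h1.le.trans (sup_le ?_ ?_))
    · have h2 : ⁅V, pResidual p H⁆ ≤ V := commutator_le_left_of_norm norm_of_normal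
      refine le_trans (le_inf inf_le_left (le_OZ' (ea_of_le hV (inf_le_left.trans h2)) ?_ inf_le_right))
        (cent_symm le_rfl)
      exact (inf_le_left.trans h2).trans ((le_pCore inferInstance (ea_pg hV)).trans (pCore_le_sylow T))
    · exact inf_le_right.trans (centralizer_anti le_top))

end Cfsg.Agent.S2826
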