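import Cfsg.Statements.S2827
import Cfsg.Agent.Lib.Loc.AmbChar
import Cfsg.Agent.Lib.Loc.AmbRed
-- import your own Cfsg.Agent.* helpers here

set_option autoImplicit false
open Cfsg

namespace Cfsg.Agent.S2827

/-- Let H be a finite p-irreducible group (not p-closed, and O^p(H) lies in every normal subgroup that is not p-closed) and T a Sylow p-subgroup. Then H is generated by the conjugates of T and H = H'·T; O^p(H) ≤ H'; and for every normal subgroup Y of T not contained in O_p(H), O^p(H) = [O^p(H), Y] and O^p(H) is contained in the normal closure of Y in H. -/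
theorem result {H : Type*} [Group H] [Finite H] {p : ℕ} [Fact p.Prime] (hH : Cfsg.IsPIrreducible p H) (T : Sylow p H) : Subgroup.normalClosure ((T : Subgroup H) : Set H) = ⊤ ∧ commutator H ⊔ (T : Subgroup H) = ⊤ ∧ Cfsg.pResidual p H ≤ commutator H ∧ ∀ Y : Subgroup H, Y ≤ (T : Subgroup H) → (T : Subgroup H) ≤ Subgroup.normalizer (Y : Set H) → ¬ Y ≤ Cfsg.pCore p H → ⁅Cfsg.pResidual p H, Y⁆ = Cfsg.pResidual p H ∧ Cfsg.pResidual p H ≤ Subgroup.normalClosure (Y : Set H) := by
  open Subgroup Cfsg CA.Amb CA.AmbSyl CA.AmbCore CA.AmbRes CA.AmbChar CA.AmbWC CA.AmbSpe CA.AmbRed in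
  (
    have h := pirr_top_iff.2 hH
    have hT := sylIn_top T
    have hTO : ¬ (T : Subgroup H) ≤ pCoreOf p ⊤ := fun e => h.1 (isPClosed_of_syl_le hT e)
    have h1 := h.comm_res hT le_rfl le_normalizer hTO
    rw [res_top] at h1
    have h2 : pResidual p H ≤ commutator H := h1.ge.trans (commutator_mono le_top le_top)
    refine ⟨?_, ?_, h2, fun Y a b c => ?_⟩
    · rw [← ncl_top]
      exact top_le_iff.1 (le_of_syl_of_res hT (le_ncl _ _) (h.res_le_ncl T.2 le_top hTO))
    · exact top_le_iff.1 (le_of_syl_of_res hT le_sup_right (by rw [res_top]; exact h2.trans le_sup_left))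
    · rw [← pCoreOf_top] at c
      rw [← res_top, ← ncl_top]
      exact ⟨h.comm_res hT a b c, h.res_le_ncl (T.2.to_le a) le_top c⟩)

end Cfsg.Agent.S2827
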