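import Cfsg.Statements.S2828
import Cfsg.Agent.Lib.Loc.AmbChar
import Cfsg.Agent.Lib.Loc.AmbRed
-- import your own Cfsg.Agent.* helpers here

set_option autoImplicit false
open Cfsg

namespace Cfsg.Agent.S2828

/-- Let H be a finite group, p a prime and D a normal p-subgroup of H. Then H is p-irreducible if and only if H/D is p-irreducible, and H is strongly p-irreducible if and only if H/D is strongly p-irreducible. -/
theorem result {H : Type*} [Group H] [Finite H] {p : ℕ} [Fact p.Prime] (D : Subgroup H) [D.Normal] (hD : IsPGroup p ↥D) : (Cfsg.IsPIrreducible p H ↔ Cfsg.IsPIrreducible p (H ⧸ D)) ∧ (Cfsg.IsStronglyPIrreducible p H ↔ Cfsg.IsStronglyPIrreducible p (H ⧸ D)) := by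
  open Subgroup Cfsg CA.Amb CA.AmbSyl CA.AmbCore CA.AmbRes CA.AmbChar CA.AmbWC CA.AmbSpe CA.AmbRed in
  (
    set f := QuotientGroup.mk' D with hf
    have hs : Function.Surjective f := QuotientGroup.mk'_surjective D
    have hk : f.ker = D := QuotientGroup.ker_mk' D
    have hc : ∀ N : Subgroup H, IsPClosed p (N.map f) ↔ IsPClosed p N := fun N =>
      ⟨isPClosed_of_map f (hD.to_le (inf_le_right.trans hk.le)), isPClosed_map f⟩
    have hc' : IsPClosed p (H ⧸ D) ↔ IsPClosed p H := by
      rw [← isPClosed_top_iff, ← map_top_of_surjective f hs, hc, isPClosed_top_iff]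
    have hr : ∀ N : Subgroup H, N.Normal → (pResidual p (H ⧸ D) ≤ N.map f ↔ pResidual p H ≤ N) := by
      intro N hN
      rw [← res_top, ← res_top, ← map_top_of_surjective f hs, ← map_res]
      refine ⟨fun h => ?_, map_mono⟩
      rw [map_le_iff_le_comap, comap_map_eq, hk, sup_comm] at h
      have := res_le_of_le_sup hD norm_of_normal h
      rwa [res_res] at this
    have hO : ∀ N : Subgroup H, ⁅N.map f, ⊤⁆ ≤ pCore p (H ⧸ D) ↔ ⁅N, ⊤⁆ ≤ pCore p H := by
      intro N
      rw [← map_top_of_surjective f hs, ← map_commutator, map_le_iff_le_comap,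
        comap_pCore_of_ker hs (by rw [hk]; exact hD)]
    refine ⟨and_congr (by rw [hc']) ⟨fun h N a b => ?_, fun h N a b => ?_⟩,
      and_congr (by rw [hc']) ⟨fun h N a b => ?_, fun h N a b => ?_⟩⟩
    · rw [← map_comap_eq_self_of_surjective hs N] at b ⊢
      exact (hr _ (a.comap f)).2 (h _ (a.comap f) (by rwa [hc] at b))
    · exact (hr _ a).1 (h _ (a.map f hs) (by rwa [hc]))
    · rw [← map_comap_eq_self_of_surjective hs N] at b ⊢
      exact (hr _ (a.comap f)).2 (h _ (a.comap f) (by rwa [hO] at b))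
    · exact (hr _ a).1 (h _ (a.map f hs) (by rwa [hO])))

end Cfsg.Agent.S2828
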