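import Cfsg.Statements.S2829
import Cfsg.Agent.Lib.Loc.AmbChar
import Cfsg.Agent.Lib.Loc.AmbRed
-- import your own Cfsg.Agent.* helpers here

set_option autoImplicit false
open Cfsg

namespace Cfsg.Agent.S2829

/-- Every strongly p-irreducible finite group is p-irreducible. -/
theorem result {H : Type*} [Group H] [Finite H] {p : ℕ} [Fact p.Prime] (hH : Cfsg.IsStronglyPIrreducible p H) : Cfsg.IsPIrreducible p H := by
  open Subgroup Cfsg CA.Amb CA.AmbSyl CA.AmbCore CA.AmbRes CA.AmbChar CA.AmbWC CA.AmbSpe CA.AmbRed in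
  (
    refine ⟨hH.1, fun N a b => hH.2 N a fun c => b ?_⟩
    obtain ⟨T, hT⟩ := exists_sylIn p N
    have h1 : (⊤ : Subgroup H) ≤ 𝐍 (T ⊔ pCore p H) :=
      norm_of_comm_le (comm_sup_le norm_of_normal norm_of_normal
        ((commutator_mono hT.le le_rfl).trans c) (commutator_le_left_of_norm norm_of_normal)) le_sup_right
    have h2 := le_pCoreOf le_top (isPGroup_sup_of_norm hT.pg (isPGroup_pCore p H) norm_of_normal) h1
    exact isPClosed_of_syl_le hT ((le_inf hT.le (le_sup_left.trans h2)).trans (inf_pCoreOf_le le_top)))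

end Cfsg.Agent.S2829
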