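import Cfsg.Statements.S2830
import Cfsg.Agent.Lib.Loc.AmbChar
import Cfsg.Agent.Lib.Loc.AmbRed
-- import your own Cfsg.Agent.* helpers here

set_option autoImplicit false
open Cfsg

namespace Cfsg.Agent.S2830

/-- Let H act by conjugation on the elementary abelian p-subgroup V of a finite group G (H ≤ N(V)), with H p-irreducible and O^p(H) not centralizing V. Then C_H(V) is p-closed and C_T(V) ≤ O_p(H) for every p-subgroup T of H. If in addition O_p(H) centralizes V, then C_T(V) = T ∩ O_p(H) for every p-subgroup T of H, and V is p-reduced for H: O_p(H/C_H(V)) = 1. -/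
theorem result {G : Type*} [Group G] [Finite G] {p : ℕ} [Fact p.Prime] (V H : Subgroup G) (hV : Cfsg.IsElementaryAbelian p V) (hHV : H ≤ Subgroup.normalizer (V : Set G)) (hH : Cfsg.IsPIrreducible p ↥H) (hnc : ¬ (Cfsg.pResidual p ↥H).map H.subtype ≤ Subgroup.centralizer (V : Set G)) [hn : ((Subgroup.centralizer (V : Set G)).subgroupOf H).Normal] : Cfsg.IsPClosed p ↥(H ⊓ Subgroup.centralizer (V : Set G)) ∧ (∀ T : Subgroup G, T ≤ H → IsPGroup p ↥T → T ⊓ Subgroup.centralizer (V : Set G) ≤ Cfsg.pCoreOf p H) ∧ (Cfsg.pCoreOf p H ≤ Subgroup.centralizer (V : Set G) → (∀ T : Subgroup G, T ≤ H → IsPGroup p ↥T → T ⊓ Subgroup.centralizer (V : Set G) = T ⊓ Cfsg.pCoreOf p H) ∧ Cfsg.pCore p (↥H ⧸ (Subgroup.centralizer (V : Set G)).subgroupOf H) = ⊥) := by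
  open Subgroup Cfsg CA.Amb CA.AmbSyl CA.AmbCore CA.AmbRes CA.AmbChar CA.AmbWC CA.AmbSpe CA.AmbRed in
  (
    have h := pirr_iff.1 hH
    have hCn : H ≤ 𝐍 (H ⊓ 𝐂 V) := norm_inf le_normalizer (norm_centralizer hHV)
    have h1 : IsPClosed p ↥(H ⊓ 𝐂 V) := h.isPClosed inf_le_left hCn fun e => hnc (e.trans inf_le_right)
    have h2 : ∀ T : Subgroup G, T ≤ H → IsPGroup p T → T ⊓ 𝐂 V ≤ pCoreOf p H := fun T a b =>
      (isPClosed_iff_le.1 h1 _ (inf_le_inf_right _ a) (b.to_le inf_le_left)).trans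
        (pCoreOf_le_of_norm inf_le_left hCn)
    refine ⟨h1, h2, fun h3 => ⟨fun T a b => le_antisymm (le_inf inf_le_left (h2 T a b))
      (inf_le_inf_left _ h3), redFor_iff_quot.2 fun D a b c => ?_⟩⟩
    have h4 : IsPClosed p D := h.isPClosed a b fun e => hnc (by
      have := res_mono (p := p) e
      rw [res_res] at this
      exact this.trans c)
    exact le_of_syl_of_res (isPClosed_iff_syl.1 h4) ((pCoreOf_le_of_norm a b).trans h3) c)

end Cfsg.Agent.S2830
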