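import Cfsg.Statements.S2832
import Cfsg.Agent.Lib.Loc.AmbChar
import Cfsg.Agent.Lib.Loc.AmbRed
-- import your own Cfsg.Agent.* helpers here

set_option autoImplicit false
open Cfsg

namespace Cfsg.Agent.S2832

/-- Let H be a finite group with Sylow p-subgroup T such that H is T-minimal (generated by the conjugates of T, with T in exactly one maximal subgroup), and let N be a normal subgroup of H. Then either H/N is a p-group or H/N is minimal over the image of T in the same sense. -/
theorem result {H : Type*} [Group H] [Finite H] {p : ℕ} [Fact p.Prime] (T : Sylow p H) (hmin : Cfsg.IsMinimalOver (T : Subgroup H)) (N : Subgroup H) [N.Normal] : IsPGroup p (H ⧸ N) ∨ Cfsg.IsMinimalOver ((T : Subgroup H).map (QuotientGroup.mk' N)) := by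
  open Subgroup Cfsg CA.Amb CA.AmbSyl CA.AmbCore CA.AmbRes CA.AmbChar CA.AmbWC CA.AmbSpe CA.AmbRed in
  (
    obtain ⟨h1, M, h2⟩ := isMinimalOver_iff.1 hmin
    have hs := QuotientGroup.mk'_surjective N
    by_cases h : N ≤ M
    · right
      refine isMinimalOver_iff.2 ⟨?_, M.map (QuotientGroup.mk' N), ?_⟩
      · rw [← map_top_of_surjective _ hs, ← map_ncl, h1]
      · have := h2.map (QuotientGroup.mk' N) (by rw [QuotientGroup.ker_mk']; exact inf_le_right.trans h)
        rwa [map_top_of_surjective _ hs] at this
    · left
      have h3 : (T : Subgroup H) ⊔ N = ⊤ := h2.eq_of_not_le le_sup_left le_top fun e => h (le_sup_right.trans e)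
      have h5 : pResidualOf p (⊤ : Subgroup H) ≤ N :=
        res_le_of_le_sup (sylIn_top T).pg norm_of_normal (le_of_eq h3.symm)
      have h4 := isPGroup_map_of_res_le (QuotientGroup.mk' N) (h5.trans (QuotientGroup.ker_mk' N).ge)
      rw [map_top_of_surjective _ hs] at h4
      exact h4.of_equiv topEquiv)

end Cfsg.Agent.S2832
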