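import Cfsg.Statements.S2833
import Cfsg.Agent.Lib.Loc.AmbChar
import Cfsg.Agent.Lib.Loc.AmbFs
-- import your own Cfsg.Agent.* helpers here

set_option autoImplicit false
open Cfsg

namespace Cfsg.Agent.S2833

/-- Let V be a subgroup of a finite group G normalized by the subgroup L, let X ≤ L and g ∈ L with [V, X, X] = 1 and L generated by X and gXg⁻¹. Put W = [V, L]. Then W = [V, X]·[V, gXg⁻¹], C_W(X) = [V, X], and C_W(L) = [V, X] ∩ [V, gXg⁻¹]. -/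
theorem result {G : Type*} [Group G] [Finite G] (V L : Subgroup G) (hLV : L ≤ Subgroup.normalizer (V : Set G)) (X : Subgroup G) (hX : X ≤ L) (g : G) (hg : g ∈ L) (hq : ⁅⁅V, X⁆, X⁆ = ⊥) (hgen : X ⊔ X.map (MulAut.conj g).toMonoidHom = L) (W : Subgroup G) (hW : W = ⁅V, L⁆) : ⁅V, X⁆ ⊔ ⁅V, X.map (MulAut.conj g).toMonoidHom⁆ = W ∧ W ⊓ Subgroup.centralizer (X : Set G) = ⁅V, X⁆ ∧ W ⊓ Subgroup.centralizer (L : Set G) = ⁅V, X⁆ ⊓ ⁅V, X.map (MulAut.conj g).toMonoidHom⁆ := by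
  open Subgroup Cfsg CA.Amb CA.AmbSyl CA.AmbCore CA.AmbRes CA.AmbChar CA.AmbWC CA.AmbSpe CA.AmbRed CA.AmbFs in
  open scoped commutatorElement in
  (
    change X ⊔ cj g X = L at hgen
    change ⁅V, X⁆ ⊔ ⁅V, cj g X⁆ = W ∧ W ⊓ 𝐂 X = ⁅V, X⁆ ∧ W ⊓ 𝐂 L = ⁅V, X⁆ ⊓ ⁅V, cj g X⁆
    have hgX : cj g X ≤ L := cj_le_of_mem hX hg
    have hA : ⁅V, X⁆ ≤ V := commutator_le_left_of_norm (hX.trans hLV)
    have hB : ⁅V, cj g X⁆ ≤ V := commutator_le_left_of_norm (hgX.trans hLV)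
    have hB' : ⁅V, cj g X⁆ = cj g ⁅V, X⁆ := by rw [cj_commutator, cj_eq_self (hLV hg)]
    have hAc : ⁅V, X⁆ ≤ 𝐂 X := cent_symm (commutator_eq_bot_iff'.1 hq)
    have hBc : ⁅V, cj g X⁆ ≤ 𝐂 (cj g X) := by rw [hB', ← cj_centralizer]; exact cj_mono g hAc
    have hL : 𝐂 L = 𝐂 X ⊓ 𝐂 (cj g X) := by rw [← hgen, CA.Amb.centralizer_sup]
    have h1 : ⁅V, X⁆ ⊔ ⁅V, cj g X⁆ = W := by
      rw [hW]
      refine le_antisymm (sup_le (commutator_mono le_rfl hX) (commutator_mono le_rfl hgX)) ?_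
      rw [← hgen]
      exact comm_sup_le' (norm_of_commutator_le
        ((commutator_mono (sup_le hA hB) le_rfl).trans le_sup_left)) (norm_of_commutator_le
        ((commutator_mono (sup_le hA hB) le_rfl).trans le_sup_right)) le_sup_left le_sup_right
    have h0 : ⁅V, cj g X⁆ ⊓ 𝐂 L = ⁅V, X⁆ ⊓ 𝐂 L := by
      rw [hB', ← cj_eq_self (norm_centralizer le_normalizer hg : g ∈ 𝐍 (𝐂 L)), ← cj_inf,
        cj_eq_self (norm_centralizer le_normalizer hg : g ∈ 𝐍 (𝐂 L))]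
      exact cj_eq_self (norm_of_centralizer (cent_symm inf_le_right) hg)
    have h2 : W ⊓ 𝐂 X = ⁅V, X⁆ := by
      rw [← h1, sup_inf_of_norm (hA.trans (norm_comm_left _ _)) hAc, sup_eq_left]
      exact le_trans (le_inf inf_le_left (hL ▸ le_inf inf_le_right (inf_le_left.trans hBc)))
        (h0.le.trans inf_le_left)
    refine ⟨h1, h2, le_antisymm ?_ ?_⟩
    · have h3 : W ⊓ 𝐂 L ≤ ⁅V, X⁆ := (inf_le_inf_left _ (centralizer_anti hX)).trans h2.le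
      exact le_inf h3 ((le_inf h3 inf_le_right).trans (h0.ge.trans inf_le_left))
    · exact le_inf (inf_le_left.trans (le_sup_left.trans h1.le)) (hL ▸ inf_le_inf hAc hBc))

end Cfsg.Agent.S2833
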