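import Cfsg.Statements.S2835
import Cfsg.Agent.Lib.Loc.AmbChar
import Cfsg.Agent.Lib.Loc.AmbRed
-- import your own Cfsg.Agent.* helpers here

set_option autoImplicit false
open Cfsg

namespace Cfsg.Agent.S2835

/-- Let L be a finite group, L₀ a maximal subgroup, T a Sylow p-subgroup of L₀ and Y ≤ T, and suppose L is Y-minimal (generated by the conjugates of Y, with Y in exactly one maximal subgroup, necessarily L₀). Then N_L(T) ≤ L₀, O_p(L) ≤ L₀ and T is a Sylow p-subgroup of L; N_L(L₀) = L₀; L = ⟨Y, gYg⁻¹⟩ for each g ∈ L outside L₀; and if Y is abelian then Y ∩ gYg⁻¹ = C_Y(L) for each such g. -/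
theorem result {L : Type*} [Group L] [Finite L] {p : ℕ} [Fact p.Prime] (L₀ : Subgroup L) (hL₀ : IsCoatom L₀) (T : Sylow p ↥L₀) (Y : Subgroup L) (hYT : Y ≤ (T : Subgroup ↥L₀).map L₀.subtype) (hmin : Cfsg.IsMinimalOver Y) : Subgroup.normalizer (((T : Subgroup ↥L₀).map L₀.subtype : Subgroup L) : Set L) ≤ L₀ ∧ Cfsg.pCore p L ≤ L₀ ∧ (∃ P : Sylow p L, (P : Subgroup L) = (T : Subgroup ↥L₀).map L₀.subtype) ∧ Subgroup.normalizer (L₀ : Set L) = L₀ ∧ (∀ g : L, g ∉ L₀ → Y ⊔ Y.map (MulAut.conj g).toMonoidHom = ⊤) ∧ (IsMulCommutative ↥Y → ∀ g : L, g ∉ L₀ → Y ⊓ Y.map (MulAut.conj g).toMonoidHom = Y ⊓ Subgroup.center L) := by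
  open Subgroup Cfsg CA.Amb CA.AmbSyl CA.AmbCore CA.AmbRes CA.AmbChar CA.AmbWC CA.AmbSpe CA.AmbRed in
  (
    obtain ⟨h1, M, h2⟩ := isMinimalOver_iff.1 hmin
    have hT := sylIn_sylow T
    obtain rfl : L₀ = M := ((hL₀.le_iff_eq h2.lt.ne).1 (h2.max (hYT.trans hT.le) hL₀.lt_top)).symm
    have h3 : ∀ X, Y ≤ X → X ≤ L₀ → 𝐍 X ≤ L₀ := fun X a b =>
      le_trans (le_inf le_top le_rfl) (h2.inf_normalizer_le h1 a b)
    have h4 := h3 _ hYT hT.le
    have h5 : SylIn p _ ⊤ := sylIn_of_normalizer (hT.mono (le_inf le_top le_normalizer)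
      (inf_le_right.trans h4))
    refine ⟨h4, ?_, ⟨h5.toSylowTop, rfl⟩, le_antisymm (h3 _ h2.le le_rfl) le_normalizer,
      fun g hg => h2.sup_cj h1 (mem_top g) hg, fun hY g hg => le_antisymm (le_inf inf_le_left ?_)
        (le_inf inf_le_left fun x hx => ?_)⟩
    · rw [← pCoreOf_top]; exact (pCoreOf_le_syl h5).trans hT.le
    · have hY' : Y ≤ 𝐂 Y := le_centralizer_iff_isMulCommutative.2 hY
      rw [← CA.Amb.centralizer_top, ← h2.sup_cj h1 (mem_top g) hg, CA.Amb.centralizer_sup]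
      refine inf_le_inf hY' ?_
      rw [← cj_centralizer]; exact cj_mono g hY'
    · rw [mem_cj, mul_assoc, ← mem_center_iff.1 hx.2 g, inv_mul_cancel_left]; exact hx.1)

end Cfsg.Agent.S2835
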