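import Cfsg.Statements.S2836
import Cfsg.Agent.Lib.Loc.AmbChar
import Cfsg.Agent.Lib.Loc.AmbM
-- import your own Cfsg.Agent.* helpers here

set_option autoImplicit false
open Cfsg

namespace Cfsg.Agent.S2836

/-- Let L be a finite group, L₀ a maximal subgroup, T a Sylow p-subgroup of L₀, Y ≤ T, and suppose L is Y-minimal. Let D be the intersection of the conjugates of L₀ (the core of L₀). Then D contains O_p(L) and D/O_p(L) is the Frattini subgroup of L/O_p(L), so D is p-closed; and every normal subgroup N of L contained in L₀ is p-closed with N/O_p(N) a nilpotent group of order prime to p. -/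
theorem result {L : Type*} [Group L] [Finite L] {p : ℕ} [Fact p.Prime] (L₀ : Subgroup L) (hL₀ : IsCoatom L₀) (T : Sylow p ↥L₀) (Y : Subgroup L) (hYT : Y ≤ (T : Subgroup ↥L₀).map L₀.subtype) (hmin : Cfsg.IsMinimalOver Y) : (Cfsg.pCore p L ≤ L₀.normalCore ∧ (L₀.normalCore).map (QuotientGroup.mk' (Cfsg.pCore p L)) = frattini (L ⧸ Cfsg.pCore p L) ∧ Cfsg.IsPClosed p ↥(L₀.normalCore)) ∧ ∀ (N : Subgroup L) [N.Normal], N ≤ L₀ → Cfsg.IsPClosed p ↥N ∧ Group.IsNilpotent (↥N ⧸ Cfsg.pCore p ↥N) ∧ (Nat.card (↥N ⧸ Cfsg.pCore p ↥N)).Coprime p := by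
  open Subgroup Cfsg CA.Amb CA.AmbSyl CA.AmbCore CA.AmbRes CA.AmbChar CA.AmbWC CA.AmbSpe CA.AmbRed CA.AmbFs CA.AmbM in
  open scoped commutatorElement in
  (
    have hT := sylIn_sylow T
    generalize (T : Subgroup L₀).map L₀.subtype = T' at hT hYT
    have hU : UMax Y L₀ ⊤ := umax_of_coatom hmin.2 hL₀ (hYT.trans hT.le)
    have hY := (isMinimalOver_iff.1 hmin).1
    have hcl : ∀ N : Subgroup L, N.Normal → N ≤ L₀ → ⊤ ≤ 𝐍 (T' ⊓ N) := by
      intro N hN h
      have h1 := (hT.inf_norm h norm_of_normal).frattini_sup (L := ⊤) le_top norm_of_normal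
      exact (hU.eq_of_not_le (le_inf le_top (hYT.trans (norm_inf le_normalizer norm_of_normal))) le_top
        fun e => hU.not_le (h1.ge.trans (sup_le h e))).ge.trans inf_le_right
    have hO : pCore p L ≤ L₀ := by
      by_contra hne
      have h1 := hU.eq_of_not_le (le_sup_left : Y ≤ Y ⊔ pCore p L) le_top fun e => hne (le_sup_right.trans e)
      have h2 : IsPGroup p (⊤ : Subgroup L) :=
        h1 ▸ isPGroup_sup_of_norm (hT.pg.to_le hYT) (CA.AmbCore.isPGroup_pCore p L) norm_of_normal
      exact (lt_inf_normalizer h2 hU.lt).not_ge (hU.inf_normalizer_le hY hU.le le_rfl)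
    let f := QuotientGroup.mk' (pCore p L)
    have hf : Function.Surjective f := QuotientGroup.mk'_surjective _
    have hk : f.ker = pCore p L := QuotientGroup.ker_mk' _
    have htop := map_top_of_surjective f hf
    have hTN : ∀ N : Subgroup L, N.Normal → N ≤ L₀ → T' ⊓ N ≤ pCore p L := fun N hN h =>
      CA.AmbCore.le_pCore (normal_iff_top_le.2 (hcl N hN h)) (hT.pg.to_le inf_le_left)
    have hPhi : ∀ N : Subgroup L, N.Normal → N ≤ L₀ → N.map f ≤ frattini (L ⧸ pCore p L) := by
      intro N hN h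
      rw [← Phi_top, ← htop]
      refine map_le_Phi f le_top fun K _ k1 k2 => ?_
      rw [top_inf_eq, hk] at k1
      have k3 := (hTN N hN h).trans k1
      obtain ⟨R, hR, k4⟩ := exists_sylIn_ge (hT.pg.to_le inf_le_left) k3
      have k5 := sylIn_sup (B := K) norm_of_normal (hT.inf_norm h norm_of_normal) hR
        (by rw [sup_eq_left.2 k4]; exact hR.pg)
      rw [sup_eq_left.2 k4, k2] at k5
      obtain ⟨g, -, hg⟩ := k5.exists_le_conj (hT.pg.to_le hYT) le_top
      rw [← cj_eq_top (g := g)]
      by_contra hne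
      have k6 := hU.max' (hg.trans (cj_mono g hR.le)) le_top fun e => hne (top_le_iff.1 e)
      apply hU.not_le
      rw [← cj_top g, ← k2, cj_sup, cj_eq_self_of_normal g N]
      exact sup_le k6 h
    have hcl' : ∀ N : Subgroup L, N.Normal → N ≤ L₀ → IsPClosed p N := fun N hN h =>
      isPClosed_of_syl (hT.inf_norm h norm_of_normal) (le_top.trans (hcl N hN h))
    refine ⟨⟨normal_le_normalCore.2 hO, le_antisymm (hPhi _ inferInstance (normalCore_le _)) ?_,
      hcl' _ inferInstance (normalCore_le _)⟩, fun N hN h => ⟨hcl' N hN h, ?_⟩⟩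
    · rw [← map_comap_eq_self_of_surjective hf (frattini _)]
      refine map_mono (normal_le_normalCore.2 ?_)
      have h1 := (htop ▸ hU.map f (by rw [hk]; exact inf_le_right.trans hO) : UMax _ _ ⊤).isCoatom
      exact (comap_mono (frattini_le_coatom h1)).trans (comap_map_eq_self (hk.le.trans hO)).le
    · have e := quotEquiv f N (pCore p N) (by
        rw [hk, ← subgroupOf_pCoreOf, pCoreOf_eq_inf_of_norm le_top norm_of_normal, pCoreOf_top,
          inf_subgroupOf_left])
      refine ⟨CA.Core.isNilpotent_of_injective e.toMonoidHom e.injective (CA.Core.isNilpotent_of_le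
        ((hPhi N hN h).trans CA.Fitting.frattini_le_fitting) CA.Core.isNilpotent_fitting), ?_⟩
      rw [Nat.card_congr e.toEquiv, CA.Fitting.coprime_iff_not_dvd]
      intro hd
      exact ((hT.inf_norm h norm_of_normal).map f).ne_bot hd
        ((Subgroup.map_eq_bot_iff _).2 ((hTN N hN h).trans hk.ge)))

end Cfsg.Agent.S2836
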