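import Cfsg.Statements.S2837
import Cfsg.Agent.Lib.Loc.AmbChar
import Cfsg.Agent.Lib.Loc.AmbM
-- import your own Cfsg.Agent.* helpers here

set_option autoImplicit false
open Cfsg

namespace Cfsg.Agent.S2837

/-- Let L be a finite group of characteristic p, L₀ a maximal subgroup, Y an elementary abelian p-subgroup of L₀ with L Y-minimal and O_p(L) ≤ N_L(Y). Put A = the normal closure of O_p(L) ∩ Y in L. Then for every g ∈ L outside L₀: Φ(A) = A' = [A ∩ Y, A] = [A ∩ Y, A ∩ gYg⁻¹] ≤ C_Y(L), and Y ∩ gYg⁻¹ = (A ∩ Y) ∩ (A ∩ gYg⁻¹) = C_Y(L) = C_A(L). -/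
theorem result {L : Type*} [Group L] [Finite L] {p : ℕ} [Fact p.Prime] (hchar : Subgroup.centralizer (Cfsg.pCore p L : Set L) ≤ Cfsg.pCore p L) (L₀ : Subgroup L) (hL₀ : IsCoatom L₀) (Y : Subgroup L) (hYL₀ : Y ≤ L₀) (hYel : Cfsg.IsElementaryAbelian p Y) (hmin : Cfsg.IsMinimalOver Y) (hOY : Cfsg.pCore p L ≤ Subgroup.normalizer (Y : Set L)) (A : Subgroup L) (hA : A = Subgroup.normalClosure (((Cfsg.pCore p L ⊓ Y : Subgroup L)) : Set L)) (g : L) (hg : g ∉ L₀) : (frattini ↥A).map A.subtype = ⁅A, A⁆ ∧ ⁅A, A⁆ = ⁅A ⊓ Y, A⁆ ∧ ⁅A ⊓ Y, A⁆ = ⁅A ⊓ Y, A ⊓ Y.map (MulAut.conj g).toMonoidHom⁆ ∧ ⁅A ⊓ Y, A⁆ ≤ Y ⊓ Subgroup.center L ∧ Y ⊓ Y.map (MulAut.conj g).toMonoidHom = Y ⊓ Subgroup.center L ∧ (A ⊓ Y) ⊓ (A ⊓ Y.map (MulAut.conj g).toMonoidHom) = Y ⊓ Subgroup.center L ∧ A ⊓ Subgroup.center L = Y ⊓ Subgroup.center L := by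
  open Subgroup Cfsg CA.Amb CA.AmbSyl CA.AmbCore CA.AmbRes CA.AmbChar CA.AmbWC CA.AmbSpe CA.AmbRed CA.AmbFs CA.AmbM in
  open scoped commutatorElement in
  (
    have hU : UMax Y L₀ ⊤ := umax_of_coatom hmin.2 hL₀ hYL₀
    have hgen := hU.sup_cj (isMinimalOver_iff.1 hmin).1 (mem_top g) hg
    change Phi A = _ ∧ _ ∧ _ = ⁅A ⊓ Y, A ⊓ cj g Y⁆ ∧ _ ∧ Y ⊓ cj g Y = _ ∧ (A ⊓ Y) ⊓ (A ⊓ cj g Y) = _ ∧ _
    rw [← CA.Amb.centralizer_top]
    set O := pCore p L with hO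
    set B := O ⊓ Y with hB
    have hB' : cj g B = O ⊓ cj g Y := by rw [hB, cj_inf, cj_eq_self_of_normal g O]
    have hOY' : O ≤ 𝐍 (cj g Y) := by
      rw [← cj_normalizer, ← cj_eq_self_of_normal g O]; exact cj_mono g hOY
    have hOB : O ≤ 𝐍 B := norm_inf le_normalizer hOY
    have hOB' : O ≤ 𝐍 (cj g B) := hB' ▸ norm_inf le_normalizer hOY'
    have hle : B ⊔ cj g B ≤ O := sup_le inf_le_left (hB'.le.trans inf_le_left)
    have hA' : A = B ⊔ cj g B := by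
      rw [hA, ← ncl_top]
      refine le_antisymm (ncl_le le_sup_left (hgen.ge.trans (sup_le ?_ ?_)))
        (sup_le (le_ncl _ _) (cj_le_ncl _ (mem_top g)))
      · exact norm_of_commutator_le ((commutator_mono hle le_rfl).trans (le_sup_of_le_left
          (le_inf (commutator_le_left _ _) (commutator_le_right_of_norm hOY))))
      · exact norm_of_commutator_le ((commutator_mono hle le_rfl).trans (le_sup_of_le_right
          (hB' ▸ le_inf (commutator_le_left _ _) (commutator_le_right_of_norm hOY'))))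
    have hAO : A ≤ O := hA' ▸ hle
    have e1 : A ⊓ Y = B := le_antisymm (inf_le_inf_right _ hAO) (le_inf (hA' ▸ le_sup_left) inf_le_right)
    have e2 : A ⊓ cj g Y = cj g B := le_antisymm (hB' ▸ inf_le_inf_right _ hAO)
      (le_inf (hA' ▸ le_sup_right) (cj_mono g inf_le_right))
    have hC : 𝐂 (⊤ : Subgroup L) = 𝐂 Y ⊓ 𝐂 (cj g Y) := by rw [← hgen, CA.Amb.centralizer_sup]
    have hYc := ea_le_cent hYel
    have hYc' := ea_le_cent (ea_cj hYel g)
    have hZO : 𝐂 (⊤ : Subgroup L) ≤ O := (centralizer_anti le_top).trans hchar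
    have hZg : cj g (Y ⊓ 𝐂 ⊤) = Y ⊓ 𝐂 ⊤ :=
      cj_eq_self (norm_of_centralizer (cent_symm inf_le_right) (mem_top g))
    have e3 : Y ⊓ cj g Y = Y ⊓ 𝐂 ⊤ := le_antisymm (le_inf inf_le_left (hC ▸ inf_le_inf hYc hYc'))
      (le_inf inf_le_left (hZg.ge.trans (cj_mono g inf_le_left)))
    have e4 : B ⊓ cj g B = Y ⊓ 𝐂 ⊤ := le_antisymm
      ((inf_le_inf inf_le_right (cj_mono g inf_le_right)).trans e3.le)
      (le_inf (le_inf (inf_le_right.trans hZO) inf_le_left)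
        (hZg.ge.trans (cj_mono g (le_inf (inf_le_right.trans hZO) inf_le_left))))
    have hBe : IsElementaryAbelian p B := ea_of_le hYel inf_le_right
    have hBe' := ea_cj hBe g
    have hc : ⁅B, cj g B⁆ ≤ Y ⊓ 𝐂 ⊤ := e4 ▸ le_inf
      (commutator_le_left_of_norm ((hB'.le.trans inf_le_left).trans hOB))
      (commutator_le_right_of_norm (inf_le_left.trans hOB'))
    have hcn : ∀ X : Subgroup L, X ≤ 𝐍 ⁅B, cj g B⁆ := fun X =>
      norm_of_centralizer (cent_symm (hc.trans (inf_le_right.trans (centralizer_anti le_top))))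
    have e5 : ⁅B, A⁆ = ⁅B, cj g B⁆ := by
      rw [hA']
      exact le_antisymm (comm_sup_le' (hcn _) (hcn _) ((comm_eq_bot_of_le (ea_le_cent hBe)).le.trans bot_le)
        le_rfl) (commutator_mono le_rfl le_sup_right)
    have e6 : ⁅A, A⁆ = ⁅B, A⁆ := by
      refine le_antisymm ?_ (commutator_mono (hA' ▸ le_sup_left) le_rfl)
      rw [e5]
      nth_rewrite 1 [hA']
      refine comm_sup_le (hcn _) (hcn _) e5.le ?_
      rw [hA']
      exact comm_sup_le' (hcn _) (hcn _) (commutator_comm _ _).le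
        ((comm_eq_bot_of_le (ea_le_cent hBe')).le.trans bot_le)
    have hAp : IsPGroup p A := (CA.AmbCore.isPGroup_pCore p L).to_le hAO
    have hmem : ∀ x ∈ A, ∃ b ∈ B, ∃ c ∈ cj g B, b * c = x := fun x hx =>
      (mem_sup_of_norm (inf_le_left.trans hOB')).1 (hA' ▸ hx)
    rw [e1, e2]
    refine ⟨le_antisymm ((CA.PGFrattini.map_frattini_le_iff hAp).2 ⟨le_rfl, fun x hx => ?_⟩)
      (CA.PGFrattini.commutator_le_map_frattini hAp), e6, e5, e5 ▸ hc, e3, e4, le_antisymm ?_ ?_⟩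
    · obtain ⟨b, hb, c, hc, rfl⟩ := hmem x hx
      have := mul_pow_mem_der (A := A) (hA' ▸ mem_sup_left hb) (hA' ▸ mem_sup_right hc) p
      rwa [ea_pow hBe hb, ea_pow hBe' hc, one_mul, inv_one, mul_one] at this
    · intro x hx
      obtain ⟨b, hb, c, hc, rfl⟩ := hmem x hx.1
      have h1 : c ∈ 𝐂 (⊤ : Subgroup L) := by
        rw [hC]
        refine mem_inf.2 ⟨?_, hYc' (cj_mono g inf_le_right hc)⟩
        simpa using mul_mem (inv_mem (hYc hb.2)) (centralizer_anti (le_top : Y ≤ ⊤) hx.2)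
      have h2 : c ∈ cj g (Y ⊓ 𝐂 (⊤ : Subgroup L)) := by
        rw [cj_inf, cj_centralizer, cj_top]; exact ⟨cj_mono g inf_le_right hc, h1⟩
      rw [hZg] at h2
      exact ⟨mul_mem hb.2 h2.1, hx.2⟩
    · exact le_inf (e4.ge.trans (inf_le_left.trans (hA' ▸ le_sup_left))) inf_le_right)

end Cfsg.Agent.S2837
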