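import Cfsg.Statements.S2840
import Cfsg.Agent.Lib.Loc.AmbChar
import Cfsg.Agent.Lib.Loc.AmbWC
-- import your own Cfsg.Agent.* helpers here

set_option autoImplicit false
open Cfsg

namespace Cfsg.Agent.S2840

/-- Let Q be a nontrivial p-subgroup of the finite group H that is a weakly closed subgroup and K a subgroup containing Q; let K° be the weak closure of Q in K (generated by the H-conjugates of Q inside K). Then K° is generated by the K-conjugates of Q, and K° is the subnormal closure of Q in K. -/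
theorem result {H : Type*} [Group H] [Finite H] {p : ℕ} [Fact p.Prime] (Q : Subgroup H) (hQp : IsPGroup p ↥Q) (hQ1 : Q ≠ ⊥) (hwc : Cfsg.IsWeaklyClosedSubgroup p Q) (K : Subgroup H) (hQK : Q ≤ K) (Kc : Subgroup H) (hKc : Kc = Cfsg.weakClosure Q K) : Kc = ⨆ k : ↥K, ((Q : Subgroup H).map (MulAut.conj ((k : H) : H)).toMonoidHom) ∧ Kc = (Cfsg.subnormalClosure (Q.subgroupOf K)).map K.subtype := by
  open Subgroup Cfsg CA.Amb CA.AmbSyl CA.AmbCore CA.AmbRes CA.AmbChar CA.AmbWC in
  (
    have h := wc_iff.1 hwc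
    rw [h.weakClosure_eq hQK] at hKc
    subst hKc
    refine ⟨rfl, le_antisymm ?_ ?_⟩
    · rw [← map_subgroupOf_eq_of_le (ncl_le_of_le hQK)]
      refine map_mono (le_sInf fun S hS => ?_)
      have := h.ncl_le_of_sn (sn_map_subtype hS.2)
        ((map_subgroupOf_eq_of_le hQK).ge.trans (map_mono hS.1))
      intro x hx
      obtain ⟨y, hy, e⟩ := this hx
      rwa [← Subtype.ext e]
    · rw [map_le_iff_le_comap]
      exact sInf_le ⟨comap_mono (le_ncl Q K), (normal_subgroupOf_of_norm (norm_ncl Q K)).isSubnormal⟩)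

end Cfsg.Agent.S2840
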