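import Cfsg.Statements.S2841
import Cfsg.Agent.Lib.Loc.AmbChar
import Cfsg.Agent.Lib.Loc.AmbWC
-- import your own Cfsg.Agent.* helpers here

set_option autoImplicit false
open Cfsg

namespace Cfsg.Agent.S2841

/-- Let Q be a nontrivial p-subgroup of the finite group H that is a weakly closed subgroup and N a normal subgroup of H. Then N = N_N(Q)·[N, Q] and [N, Q] = (Q ∩ [N, Q])·[N, Q, Q]. -/
theorem result {H : Type*} [Group H] [Finite H] {p : ℕ} [Fact p.Prime] (Q : Subgroup H) (hQp : IsPGroup p ↥Q) (hQ1 : Q ≠ ⊥) (hwc : Cfsg.IsWeaklyClosedSubgroup p Q) (N' : Subgroup H) [N'.Normal] : (∀ n : H, n ∈ N' → ∃ a ∈ N' ⊓ Subgroup.normalizer ((Q : Subgroup H) : Set H), ∃ b ∈ ⁅N', Q⁆, n = a * b) ∧ (∀ c : H, c ∈ ⁅N', Q⁆ → ∃ a ∈ Q ⊓ ⁅N', Q⁆, ∃ b ∈ ⁅⁅N', Q⁆, Q⁆, c = a * b) := by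
  open Subgroup Cfsg CA.Amb CA.AmbSyl CA.AmbCore CA.AmbRes CA.AmbChar CA.AmbWC in
  (
    have h := wc_iff.1 hwc
    have hQW : Q ≤ 𝐍 ⁅N', Q⁆ := norm_comm_right _ _
    have h1 : ∀ n ∈ N', ∃ a ∈ N' ⊓ 𝐍 Q, ∃ b ∈ ⁅N', Q⁆, n = a * b := by
      intro n hn
      obtain ⟨k, hk, e⟩ := h.frattini (le_ncl Q N') (cj_le_ncl Q (N'.inv_mem hn))
      rw [ncl_eq_sup, commutator_comm, sup_comm, mem_sup_of_norm' hQW] at hk
      obtain ⟨b, hb, q, hq, rfl⟩ := hk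
      refine ⟨n * b, ⟨N'.mul_mem hn (commutator_le_left _ _ hb), ?_⟩, b⁻¹, inv_mem hb, by group⟩
      have := mul_mem (inv_mem e) (inv_mem (le_normalizer hq))
      rwa [show ((b * q)⁻¹ * n⁻¹)⁻¹ * q⁻¹ = n * b by group] at this
    refine ⟨h1, fun c hc => ?_⟩
    have hW : ⁅N', Q⁆ ≤ N' := commutator_le_left _ _
    have h2 : N' ≤ (N' ⊓ 𝐍 Q) ⊔ ⁅N', Q⁆ := fun n hn => by
      obtain ⟨a, ha, b, hb, rfl⟩ := h1 n hn
      exact mul_mem (mem_sup_left ha) (mem_sup_right hb)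
    have hA : N' ⊓ 𝐍 Q ≤ 𝐍 ⁅N', Q⁆ := inf_le_left.trans (norm_comm_left _ _)
    have h3 : ⁅N', Q⁆ ≤ (Q ⊓ ⁅N', Q⁆) ⊔ ⁅⁅N', Q⁆, Q⁆ := by
      refine (commutator_mono h2 le_rfl).trans (comm_sup_le ?_ ?_ ?_ le_sup_right)
      · exact norm_sup (norm_inf inf_le_right hA) (norm_commutator hA inf_le_right)
      · refine norm_of_commutator_le (comm_sup_le (norm_of_le le_sup_left) (norm_of_le le_sup_right) ?_ ?_)
        · rw [commutator_comm]
          exact (commutator_mono le_rfl inf_le_left).trans le_sup_right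
        · exact (commutator_le_left_of_norm (norm_comm_left _ _)).trans le_sup_right
      · exact le_trans (le_inf (commutator_le_right_of_norm inf_le_right)
          (commutator_mono inf_le_left le_rfl)) le_sup_left
    obtain ⟨a, ha, b, hb, e⟩ := (mem_sup_of_norm (inf_le_left.trans (norm_comm_right _ _))).1 (h3 hc)
    exact ⟨a, ha, b, hb, e.symm⟩)

end Cfsg.Agent.S2841
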