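import Cfsg.Statements.S2843
import Cfsg.Agent.Lib.Loc.AmbChar
import Cfsg.Agent.Lib.Loc.AmbWC
-- import your own Cfsg.Agent.* helpers here

set_option autoImplicit false
open Cfsg

namespace Cfsg.Agent.S2843

/-- Let Q be a nontrivial large p-subgroup of the finite group H, Q ≤ L ≤ H, and Y a nontrivial p-subgroup of H normalized by L. Let L° be the weak closure of Q in L (generated by the conjugates of Q inside L). Then L° equals the weak closure of Q in L·C_H(Y), and [L°, C_H(Y)] ≤ O_p(L°); in particular C_H(Y) normalizes L°. -/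
theorem result {H : Type*} [Group H] [Finite H] {p : ℕ} [Fact p.Prime] (Q : Subgroup H) (hQp : IsPGroup p ↥Q) (hQ1 : Q ≠ ⊥) (hL : Cfsg.IsLarge Q) (L : Subgroup H) (hQL : Q ≤ L) (Y : Subgroup H) (hYp : IsPGroup p ↥Y) (hY1 : Y ≠ ⊥) (hLY : L ≤ Subgroup.normalizer ((Y : Subgroup H) : Set H)) : Cfsg.weakClosure Q L = Cfsg.weakClosure Q (L ⊔ Subgroup.centralizer ((Y : Subgroup H) : Set H)) ∧ ⁅Cfsg.weakClosure Q L, Subgroup.centralizer ((Y : Subgroup H) : Set H)⁆ ≤ (Cfsg.pCoreOf p (Cfsg.weakClosure Q L)) ∧ Subgroup.centralizer ((Y : Subgroup H) : Set H) ≤ Subgroup.normalizer (((Cfsg.weakClosure Q L) : Subgroup H) : Set H) := by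
  open Subgroup Cfsg CA.Amb CA.AmbSyl CA.AmbCore CA.AmbRes CA.AmbChar CA.AmbWC in
  (
    have h := large_wc hQp hQ1 hL
    have h1 : ∀ g, cj g Q ≤ L → 𝐂 Y ≤ 𝐍 (cj g Q) := fun g hg =>
      large_cent_le (isPGroup_cj hQp g) (large_conj hL g) hYp hY1 (hg.trans hLY)
    have h2 : 𝐂 Y ≤ 𝐍 (weakClosure Q L) := norm_iSup fun g => h1 g.1 g.2
    have h3 : L ≤ 𝐍 (weakClosure Q L) := le_normalizer.trans (normalizer_le_weakClosure Q L)
    refine ⟨le_antisymm (weakClosure_mono Q le_sup_left) ?_, ?_, h2⟩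
    · rw [h.weakClosure_eq (hQL.trans le_sup_left)]
      exact ncl_le (by simpa [cj_one] using cj_le_weakClosure (Q := Q) (g := 1) (by rwa [cj_one]))
        (sup_le h3 h2)
    · refine comm_iSup_le (fun g => (cj_le_weakClosure g.2).trans (norm_pCoreOf _ _)) fun g => ?_
      have a1 : ⁅cj g.1 Q, 𝐂 Y⁆ ≤ pCoreOf p (𝐂 Y) :=
        le_pCoreOf (commutator_le_right_of_norm (g.2.trans (norm_centralizer hLY)))
          ((isPGroup_cj hQp g.1).to_le (commutator_le_left_of_norm (h1 g.1 g.2))) (norm_comm_right _ _)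
      refine le_trans (le_inf ((commutator_le_left_of_norm (h1 g.1 g.2)).trans
        (cj_le_weakClosure g.2)) a1) ?_
      exact le_pCoreOf inf_le_left ((isPGroup_pCoreOf _ _).to_le inf_le_right)
        (norm_inf le_normalizer (norm_pCoreOf_of_norm
          ((weakClosure_le Q L).trans (norm_centralizer hLY)))))

end Cfsg.Agent.S2843
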