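import Cfsg.Statements.S2844
import Cfsg.Agent.Lib.Loc.AmbChar
import Cfsg.Agent.Lib.Loc.AmbWC
-- import your own Cfsg.Agent.* helpers here

set_option autoImplicit false
open Cfsg

namespace Cfsg.Agent.S2844

/-- Let Q be a nontrivial large p-subgroup of the finite group H and Q• = O_p(N_H(Q)). Then for every g ∈ H outside N_H(Q): C_H(Q) ∩ C_H(gQg⁻¹) = 1, C_H(Q•) ∩ C_H(gQ•g⁻¹) = 1, Z(Q) ∩ Z(gQg⁻¹) = 1 and Z(Q•) ∩ Z(gQ•g⁻¹) = 1; moreover N_H(Q) = N_H(Q•) and Q• is large in H. -/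
theorem result {H : Type*} [Group H] [Finite H] {p : ℕ} [Fact p.Prime] (Q : Subgroup H) (hQp : IsPGroup p ↥Q) (hQ1 : Q ≠ ⊥) (hL : Cfsg.IsLarge Q) (Qb : Subgroup H) (hQb : Qb = Cfsg.largeBullet p Q) : (∀ g : H, g ∉ Subgroup.normalizer ((Q : Subgroup H) : Set H) → Subgroup.centralizer ((Q : Subgroup H) : Set H) ⊓ Subgroup.centralizer ((((Q : Subgroup H).map (MulAut.conj (g : H)).toMonoidHom) : Subgroup H) : Set H) = ⊥ ∧ Subgroup.centralizer ((Qb : Subgroup H) : Set H) ⊓ Subgroup.centralizer ((((Qb : Subgroup H).map (MulAut.conj (g : H)).toMonoidHom) : Subgroup H) : Set H) = ⊥ ∧ (Q ⊓ Subgroup.centralizer ((Q : Subgroup H) : Set H)) ⊓ (((Q : Subgroup H).map (MulAut.conj (g : H)).toMonoidHom) ⊓ Subgroup.centralizer ((((Q : Subgroup H).map (MulAut.conj (g : H)).toMonoidHom) : Subgroup H) : Set H)) = ⊥ ∧ (Qb ⊓ Subgroup.centralizer ((Qb : Subgroup H) : Set H)) ⊓ (((Qb : Subgroup H).map (MulAut.conj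 (g : H)).toMonoidHom) ⊓ Subgroup.centralizer ((((Qb : Subgroup H).map (MulAut.conj (g : H)).toMonoidHom) : Subgroup H) : Set H)) = ⊥) ∧ Subgroup.normalizer ((Q : Subgroup H) : Set H) = Subgroup.normalizer ((Qb : Subgroup H) : Set H) ∧ Cfsg.IsLarge Qb := by
  open Subgroup Cfsg CA.Amb CA.AmbSyl CA.AmbCore CA.AmbRes CA.AmbChar CA.AmbWC in
  (
    have h := large_wc hQp hQ1 hL
    have hQb1 : Q ≤ Qb := hQb ▸ le_pCoreOf le_normalizer hQp le_rfl
    have hQbp : IsPGroup p Qb := hQb ▸ isPGroup_pCoreOf _ _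
    have hN : 𝐍 Q = 𝐍 Qb := le_antisymm (hQb ▸ norm_pCoreOf _ _) (h.normalizer_le hQbp hQb1)
    refine ⟨fun g hg => ?_, hN, (centralizer_anti hQb1).trans (hL.1.trans hQb1),
      fun U h1 h2 => hN ▸ hL.2 U (h1.trans (centralizer_anti hQb1)) h2⟩
    have key : 𝐂 Q ⊓ 𝐂 (cj g Q) = ⊥ := by
      by_contra hne
      refine hg (cj_eq_self_iff.1 (h.eq_of_norm (le_trans ?_ (hL.2 _ inf_le_left hne))))
      exact norm_of_centralizer (cent_symm inf_le_right)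
    have key2 : 𝐂 Qb ⊓ 𝐂 (cj g Qb) = ⊥ := eq_bot_iff.2 (key ▸
      inf_le_inf (centralizer_anti hQb1) (centralizer_anti (cj_mono g hQb1)))
    exact ⟨key, key2, eq_bot_iff.2 (key ▸ inf_le_inf inf_le_right inf_le_right),
      eq_bot_iff.2 (key2 ▸ inf_le_inf inf_le_right inf_le_right)⟩)

end Cfsg.Agent.S2844
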