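import Cfsg.Statements.S2845
import Cfsg.Agent.Lib.Loc.AmbChar
import Cfsg.Agent.Lib.Loc.AmbWC
-- import your own Cfsg.Agent.* helpers here

set_option autoImplicit false
open Cfsg

namespace Cfsg.Agent.S2845

/-- Let Q be a nontrivial large p-subgroup of the finite group H. Then for every subgroup L ≥ Q with O_p(L) ≠ 1, C_H(O_p(L)) is a p-group and L has characteristic p, and either the weak closure L° of Q in L equals Q or C_H(L°) = 1; for every subgroup R of H containing a Sylow p-subgroup of H with O_p(R) ≠ 1, C_H(O_p(R)) ≤ O_p(R); and H has parabolic characteristic p. -/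
theorem result {H : Type*} [Group H] [Finite H] {p : ℕ} [Fact p.Prime] (Q : Subgroup H) (hQp : IsPGroup p ↥Q) (hQ1 : Q ≠ ⊥) (hL : Cfsg.IsLarge Q) : (∀ L : Subgroup H, Q ≤ L → Cfsg.pCore p ↥L ≠ ⊥ → IsPGroup p ↥(Subgroup.centralizer (((Cfsg.pCoreOf p L) : Subgroup H) : Set H)) ∧ Subgroup.centralizer (Cfsg.pCore p ↥L : Set ↥L) ≤ Cfsg.pCore p ↥L ∧ (Cfsg.weakClosure Q L = Q ∨ Subgroup.centralizer (((Cfsg.weakClosure Q L) : Subgroup H) : Set H) = ⊥)) ∧ (∀ R : Subgroup H, Cfsg.IsParabolic p R → Cfsg.pCore p ↥R ≠ ⊥ → Subgroup.centralizer (((Cfsg.pCoreOf p R) : Subgroup H) : Set H) ≤ (Cfsg.pCoreOf p R)) ∧ Cfsg.IsOfParabolicCharacteristic p H := by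
  open Subgroup Cfsg CA.Amb CA.AmbSyl CA.AmbCore CA.AmbRes CA.AmbChar CA.AmbWC in
  (
    have h := large_wc hQp hQ1 hL
    have key : ∀ R : Subgroup H, IsParabolic p R → pCore p R ≠ ⊥ → 𝐂 (pCoreOf p R) ≤ pCoreOf p R :=
      fun R ⟨T, hT⟩ hR => large_parabolic hQp hQ1 hL (sylIn_top T) hT (mt pCoreOf_eq_bot_iff.1 hR)
    refine ⟨fun L hQL hL1 => ⟨(large_cent_pCoreOf hQp hQ1 hL hQL (mt pCoreOf_eq_bot_iff.1 hL1)).2,
      charP_iff.1 (large_charP_of_le hQp hQ1 hL hQL (mt pCoreOf_eq_bot_iff.1 hL1)), ?_⟩, key, ?_⟩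
    · rw [h.weakClosure_eq hQL, or_iff_not_imp_right]
      intro hne
      exact ncl_eq_self ((norm_centralizer (norm_ncl Q L)).trans
        (hL.2 _ (centralizer_anti (le_ncl Q L)) hne))
    · intro R hR hR1 hpar
      refine charP_iff.1 (inf_le_right.trans (key _ hpar fun e => hR1 ?_))
      rw [eq_bot_iff, ← pCoreOf_eq_bot_iff.2 e]
      exact le_pCoreOf le_normalizer hR le_rfl)

end Cfsg.Agent.S2845
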