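import Cfsg.Statements.S2846
import Cfsg.Agent.Lib.Loc.AmbChar
import Cfsg.Agent.Lib.Loc.AmbM
-- import your own Cfsg.Agent.* helpers here

set_option autoImplicit false
open Cfsg

namespace Cfsg.Agent.S2846

/-- Let Q be a nontrivial large p-subgroup of the finite group H, S a Sylow p-subgroup containing Q, and L a subgroup containing S with O_p(L) ≠ 1 and C_H(O_p(L)) ≤ O_p(L). Then there are a subgroup M containing S having the basic property (M ∈ 𝔐_H, writing Y_X for the largest p-reduced normal subgroup of X and 𝓛_H for the set of subgroups X with O_p(X) ≠ 1 and C_H(O_p(X)) ≤ O_p(X): M ∈ 𝓛_H, M·C_H(Y_M) is the only maximal member of 𝓛_H containing M and its largest p-reduced normal subgroup is again Y_M, C_M(Y_M) is p-closed, and the image of C_M(Y_M) in M/O_p(M) lies in the Frattini subgroup of M/O_p(M)) and a subgroup L* with S ≤ L* ≤ M, O_p(L*) ≠ 1, C_H(O_p(L*)) ≤ O_p(L*), such that L·C_H(Y_L) = L*·C_H(Y_L), the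 weak closures of Q in L and in L* agree and lie in that of M, and Y_L = Y_{L*} ≤ Y_M. If moreover Q is not normal in L, then Q is normal in neither L* nor M. -/
theorem result {H : Type*} [Group H] [Finite H] {p : ℕ} [Fact p.Prime] (Q : Subgroup H) (hQp : IsPGroup p ↥Q) (hQ1 : Q ≠ ⊥) (hLg : Cfsg.IsLarge Q) (S : Sylow p H) (hQS : Q ≤ (S : Subgroup H)) (L : Subgroup H) (hSL : (S : Subgroup H) ≤ L) (hL : L ∈ Cfsg.charPSubgroups p H) : ∃ M Ls : Subgroup H, (S : Subgroup H) ≤ M ∧ Cfsg.IsInFrakM p M ∧ (S : Subgroup H) ≤ Ls ∧ Ls ≤ M ∧ Ls ∈ Cfsg.charPSubgroups p H ∧ L ⊔ Subgroup.centralizer (((Cfsg.largestPReducedOf p L) : Subgroup H) : Set H) = Ls ⊔ Subgroup.centralizer (((Cfsg.largestPReducedOf p L) : Subgroup H) : Set H) ∧ Cfsg.weakClosure Q L = Cfsg.weakClosure Q Ls ∧ Cfsg.weakClosure Q Ls ≤ Cfsg.weakClosure Q M ∧ (Cfsg.largestPReducedOf p L) = (Cfsg.largestPReducedOf p Ls) ∧ (Cfsg.largestPReducedOf p Ls) ≤ (Cfsg.largestPReducedOf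 p M) ∧ (¬ L ≤ Subgroup.normalizer ((Q : Subgroup H) : Set H) → ¬ Ls ≤ Subgroup.normalizer ((Q : Subgroup H) : Set H) ∧ ¬ M ≤ Subgroup.normalizer ((Q : Subgroup H) : Set H)) := by
  open Subgroup Cfsg CA.Amb CA.AmbSyl CA.AmbCore CA.AmbRes CA.AmbChar CA.AmbWC CA.AmbSpe CA.AmbRed CA.AmbFs CA.AmbM in
  open scoped commutatorElement in
  (
    have hpar := large_Parab hQp hLg
    have hS := sylIn_top S
    obtain ⟨M, Ls, hM, h1, h2, h3, h4, h5, h6⟩ := exists_FM hpar hS hSL (mem_cL.1 hL).1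
    have hwc := large_wc hQp hQ1 hLg
    have hr := red_YL p L
    have hC : 𝐂 (YL p L) ≤ 𝐍 Q := large_cent_le hQp hLg hr.pg (YL_ne_bot (charP_of_mem_cL hL)
      (hS.mono hSL le_top) fun e => hQ1 (le_bot_iff.1 (e ▸ hQS))) ((hQS.trans hSL).trans hr.norm)
    have h7 : ¬ L ≤ 𝐍 Q → ¬ Ls ≤ 𝐍 Q := fun a b => a (le_sup_left.trans (h6.le.trans (sup_le b hC)))
    refine ⟨M, Ls, hM.le, hM.fm, h1, h2, mem_cL_of_parab hpar hS h1 h3, h6, ?_, weakClosure_mono Q h2, h4,
      h4.ge.trans h5, fun a => ⟨h7 a, fun b => h7 a (h2.trans b)⟩⟩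
    rw [hwc.weakClosure_eq (hQS.trans hSL), hwc.weakClosure_eq (hQS.trans h1),
      ← ncl_sup_of_norm (norm_centralizer hr.norm) hC, h6,
      ncl_sup_of_norm (norm_centralizer (by rw [h4]; exact (red_YL p Ls).norm)) hC])

end Cfsg.Agent.S2846
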