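import Cfsg.Statements.S2850
import Cfsg.Agent.Lib.Loc.AmbChar
import Cfsg.Agent.Lib.Loc.AmbM
-- import your own Cfsg.Agent.* helpers here

set_option autoImplicit false
open Cfsg

namespace Cfsg.Agent.S2850

/-- Standing hypotheses: G a finite group, S a Sylow p-subgroup, Q a nontrivial large p-subgroup of G contained in S (C_G(Q) ≤ Q and N_G(U) ≤ N_G(Q) for all nontrivial U ≤ C_G(Q)), and M a subgroup containing S with the basic property (M ∈ 𝔐_G(S)); Y_M denotes the largest p-reduced normal subgroup of M and M† = M·C_G(Y_M). Suppose Y_M is asymmetric in G. Then N_G(L) ≤ N_G(O_p(M)) ≤ M† for every p-subgroup L containing O_p(M); O_p(M) is a weakly closed subgroup of G; for every subgroup L containing O_p(M), L ∩ M† contains a Sylow p-subgroup of L; and two elements of Y_M conjugate in G are conjugate in M. -/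
theorem result {G : Type*} [Group G] [Finite G] {p : ℕ} [Fact p.Prime] (S : Sylow p G) (Q : Subgroup G) (hQp : IsPGroup p ↥Q) (hQ1 : Q ≠ ⊥) (hQS : Q ≤ (S : Subgroup G)) (hQ : Cfsg.IsLarge Q) (M : Subgroup G) (hSM : (S : Subgroup G) ≤ M) (hM : Cfsg.IsInFrakM p M) (hasym : ¬ Cfsg.IsSymmetricIn (Cfsg.largestPReducedOf p M)) : (∀ L : Subgroup G, IsPGroup p ↥L → (Cfsg.pCoreOf p M) ≤ L → Subgroup.normalizer ((L : Subgroup G) : Set G) ≤ Subgroup.normalizer (((Cfsg.pCoreOf p M) : Subgroup G) : Set G) ∧ Subgroup.normalizer (((Cfsg.pCoreOf p M) : Subgroup G) : Set G) ≤ (M ⊔ Subgroup.centralizer (((Cfsg.largestPReducedOf p M) : Subgroup G) : Set G))) ∧ Cfsg.IsWeaklyClosedSubgroup p (Cfsg.pCoreOf p M) ∧ (∀ L : Subgroup G, (Cfsg.pCoreOf p M) ≤ L → Cfsg.IsParabolic p ((L ⊓ (M ⊔ Subgroup.centralizer (((Cfsg.largestPReducedOf p M) : Subgroup G) : Set G))).subgroupOf L)) ∧ (∀ x ∈ (Cfsg.largestPReducedOf p M), ∀ g : G, g * x * g⁻¹ ∈ (Cfsg.largestPReducedOf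 p M) → ∃ m ∈ M, m * x * m⁻¹ = g * x * g⁻¹) := by
  open Subgroup Cfsg CA.Amb CA.AmbSyl CA.AmbCore CA.AmbRes CA.AmbChar CA.AmbWC CA.AmbSpe CA.AmbRed CA.AmbFs CA.AmbM in
  open scoped commutatorElement in
  (
    have h : FM p (S : Subgroup G) M := ⟨large_Parab hQp hQ, sylIn_top S, hSM, hM⟩
    refine ⟨fun L h1 h2 => ⟨h.normalizer_le hasym h1 h2, h.normalizer_core_le⟩, wc_iff.2 (h.wc hasym),
      fun L h1 => ?_, fun x hx g hg => ?_⟩
    · obtain ⟨T, hT, -, h2⟩ := h.exists_syl hasym h1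
      exact ⟨hT.toSylow, comap_mono (le_inf hT.le h2)⟩
    · have h1 : ∀ y ∈ YL p M, 𝐂 (YL p M) ≤ centralizer {y} := fun y hy => by
        rw [← centralizer_zpowers]; exact centralizer_anti (zpowers_le.2 hy)
      obtain ⟨k, hk, h2⟩ := (h.wc hasym).frattini (h.core_syl.le.trans (h1 x hx)) (g := g⁻¹) (by
        rw [← le_cj_iff, cj_centralizer_singleton]; exact h.core_syl.le.trans (h1 _ hg))
      obtain ⟨m, hm, c, hc, e⟩ := (mem_sup_of_norm (norm_centralizer (red_YL p M).norm)).1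
        (h.normalizer_core_le (inv_mem h2))
      have e2 : g = m * (c * k⁻¹) := by rw [← mul_assoc, e]; group
      have e3 := mem_centralizer_singleton_iff.1 (mul_mem (h1 x hx hc) (inv_mem hk))
      refine ⟨m, hm, ?_⟩
      rw [e2, mul_assoc m _ x, e3]; group)

end Cfsg.Agent.S2850
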