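import Cfsg.Statements.S2851
import Cfsg.Agent.Lib.Loc.AmbChar
import Cfsg.Agent.Lib.Loc.AmbM
-- import your own Cfsg.Agent.* helpers here

set_option autoImplicit false
open Cfsg

namespace Cfsg.Agent.S2851

/-- Standing hypotheses: G a finite group, S a Sylow p-subgroup, Q a nontrivial large p-subgroup of G contained in S, M a subgroup containing S with the basic property (M ∈ 𝔐_G(S)); Y_M the largest p-reduced normal subgroup of M and M† = M·C_G(Y_M). Let F be the preimage in M† of the generalized Fitting subgroup of M†/C_{M†}(Y_M). If Y_M is asymmetric in G and H is a subgroup of characteristic p containing F, then Y_M ≤ Y_H. -/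
theorem result {G : Type*} [Group G] [Finite G] {p : ℕ} [Fact p.Prime] (S : Sylow p G) (Q : Subgroup G) (hQp : IsPGroup p ↥Q) (hQ1 : Q ≠ ⊥) (hQS : Q ≤ (S : Subgroup G)) (hQ : Cfsg.IsLarge Q) (M : Subgroup G) (hSM : (S : Subgroup G) ≤ M) (hM : Cfsg.IsInFrakM p M) (hasym : ¬ Cfsg.IsSymmetricIn (Cfsg.largestPReducedOf p M)) [hn : ((Subgroup.centralizer (((Cfsg.largestPReducedOf p M) : Subgroup G) : Set G)).subgroupOf (M ⊔ Subgroup.centralizer (((Cfsg.largestPReducedOf p M) : Subgroup G) : Set G))).Normal] (F : Subgroup G) (hF : F = ((Cfsg.generalizedFittingSubgroup (↥(M ⊔ Subgroup.centralizer (((Cfsg.largestPReducedOf p M) : Subgroup G) : Set G)) ⧸ (Subgroup.centralizer (((Cfsg.largestPReducedOf p M) : Subgroup G) : Set G)).subgroupOf (M ⊔ Subgroup.centralizer (((Cfsg.largestPReducedOf p M) : Subgroup G) : Set G)))).comap (QuotientGroup.mk' ((Subgroup.centralizer (((Cfsg.largestPReducedOf p M) : Subgroup G) : Set G)).subgroupOf (M ⊔ Subgroup.centralizer (((Cfsg.largestPReducedOf p M) :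 Subgroup G) : Set G))))).map ((M ⊔ Subgroup.centralizer (((Cfsg.largestPReducedOf p M) : Subgroup G) : Set G))).subtype) (H : Subgroup G) (hFH : F ≤ H) (hH : Subgroup.centralizer (Cfsg.pCore p ↥H : Set ↥H) ≤ Cfsg.pCore p ↥H) : (Cfsg.largestPReducedOf p M) ≤ Cfsg.largestPReducedOf p H := by
  open Subgroup Cfsg CA.Amb CA.AmbSyl CA.AmbCore CA.AmbRes CA.AmbChar CA.AmbWC CA.AmbSpe CA.AmbRed CA.AmbFs CA.AmbM in
  open scoped commutatorElement in
  (
    have h : FM p (S : Subgroup G) M := ⟨large_Parab hQp hQ, sylIn_top S, hSM, hM⟩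
    have hr := red_YL p (dag p M)
    rw [h.Y_dag] at hr
    set D := dag p M with hD
    set C := 𝐂 (YL p M) with hC
    have hCD : C ≤ D := le_sup_right
    let f := QuotientGroup.mk' (C.subgroupOf D)
    have hf : Function.Surjective f := QuotientGroup.mk'_surjective _
    have hk : f.ker = C.subgroupOf D := QuotientGroup.ker_mk' _
    have hCF : C ≤ F := by
      rw [hF, ← map_subgroupOf_eq_of_le hCD]; exact map_mono (hk.ge.trans (ker_le_comap _ _))
    have hO : pCoreOf p (⊤ : Subgroup (D ⧸ C.subgroupOf D)) = ⊥ := by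
      rw [pCoreOf_top]; exact redFor_iff_quot.2 hr.red
    have hFD : F ≤ D := hF ▸ map_subtype_le _
    have hFm : (F.subgroupOf D).map f = FS ⊤ := by
      rw [hF, FS_top]
      exact (congrArg (map f) (comap_map_eq_self_of_injective D.subtype_injective _)).trans
        (map_comap_eq_self_of_surjective hf _)
    obtain ⟨T, hT, -, h2⟩ := h.exists_syl hasym (h.core_syl.le.trans (hCF.trans hFH))
    have hred : Red p (YL p M) (H ⊓ D) := by
      refine ⟨le_inf ((ea_le_cent hr.ea).trans (hCF.trans hFH)) hr.le, inf_le_right.trans hr.norm, hr.ea,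
        fun A a1 a2 a3 => ?_⟩
      have a4 : A ≤ D := a1.trans inf_le_right
      have a5 : IsPGroup p ((A.subgroupOf D).map f) :=
        isPGroup_map_of_res_le f (by rw [res_subgroupOf a4, hk]; exact comap_mono a3)
      have a6 : FS (⊤ : Subgroup (D ⧸ C.subgroupOf D)) ≤ 𝐍 ((A.subgroupOf D).map f) :=
        hFm ▸ norm_map f (norm_comap D.subtype ((le_inf hFH hFD).trans a2))
      have a7 : ⁅FS (⊤ : Subgroup (D ⧸ C.subgroupOf D)), (A.subgroupOf D).map f⁆ = ⊥ := by
        refine le_bot_iff.1 (SN.pCoreOf_eq_bot (sn_FS ⊤) hO ▸ le_pCoreOf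
          (commutator_le_left_of_norm (norm_FS norm_of_normal))
          (a5.to_le (commutator_le_right_of_norm a6)) (norm_comm_left _ _))
      have a8 := eq_bot_of_cent_FS hO a5 le_top (commutator_eq_bot_iff'.1 a7)
      rw [Subgroup.map_eq_bot_iff, hk] at a8
      exact fun x hx => a8 (show (⟨x, a4 hx⟩ : D) ∈ A.subgroupOf D from hx)
    exact (le_ncl _ _).trans (hred.ncl (CA.AmbChar.charP_iff.2 hH) hT (le_inf hT.le h2) inf_le_left).le_YL)

end Cfsg.Agent.S2851
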