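import Cfsg.Statements.S2852
import Cfsg.Agent.Lib.Loc.AmbChar
import Cfsg.Agent.Lib.Loc.AmbM
-- import your own Cfsg.Agent.* helpers here

set_option autoImplicit false
open Cfsg

namespace Cfsg.Agent.S2852

/-- Standing hypotheses: G a finite group, S a Sylow p-subgroup, Q a nontrivial large p-subgroup of G contained in S, M a subgroup containing S with the basic property (M ∈ 𝔐_G(S)); Y_M the largest p-reduced normal subgroup of M. If Y_M is char-p-tall and asymmetric in G, then some subgroup H of G lies in ℌ_G(O_p(M)): H has characteristic p, O_p(M) ≤ H, Y_M ≰ O_p(H), and Y_M ≤ O_p(P) for every proper subgroup P of H containing O_p(M). -/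
theorem result {G : Type*} [Group G] [Finite G] {p : ℕ} [Fact p.Prime] (S : Sylow p G) (Q : Subgroup G) (hQp : IsPGroup p ↥Q) (hQ1 : Q ≠ ⊥) (hQS : Q ≤ (S : Subgroup G)) (hQ : Cfsg.IsLarge Q) (M : Subgroup G) (hSM : (S : Subgroup G) ≤ M) (hM : Cfsg.IsInFrakM p M) (htall : Cfsg.IsCharPTall p (Cfsg.largestPReducedOf p M)) (hasym : ¬ Cfsg.IsSymmetricIn (Cfsg.largestPReducedOf p M)) : ∃ H : Subgroup G, Cfsg.IsInFrakH p M H := by
  open Subgroup Cfsg CA.Amb CA.AmbSyl CA.AmbCore CA.AmbRes CA.AmbChar CA.AmbWC CA.AmbSpe CA.AmbRed CA.AmbFs CA.AmbM in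
  open scoped commutatorElement in
  (
    have h : FM p (S : Subgroup G) M := ⟨large_Parab hQp hQ, sylIn_top S, hSM, hM⟩
    obtain ⟨T, L, h1, h2, h3⟩ := htall
    obtain ⟨c, hc, e⟩ := (sylIn_sylow T).exists_conj h.core_syl
    have h4 : ¬ YL p M ≤ pCoreOf p (cj c L) := by
      rwa [← cj_pCoreOf, ← cj_eq_self (norm_of_centralizer le_rfl hc : c ∈ 𝐍 (YL p M)), cj_le_cj]
    obtain ⟨H, ⟨a1, a2, a3⟩, hmin⟩ := WellFounded.has_min (wellFounded_lt (α := Subgroup G))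
      {H | pCoreOf p M ≤ H ∧ H ≤ cj c L ∧ ¬ YL p M ≤ pCoreOf p H} ⟨_, e ▸ cj_mono c h1, le_rfl, h4⟩
    refine ⟨H, CA.AmbChar.charP_iff.1 (WC.charP_of_le (h.wc hasym) (inf_le_right.trans h.cent_le) a1 a2
      ((CA.AmbChar.charP_iff.2 h2).conj c)), a1, a3, fun P b1 b2 => ?_⟩
    by_contra hne
    exact hmin P ⟨b1, b2.le.trans a2, hne⟩ b2)

end Cfsg.Agent.S2852
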