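import Cfsg.Statements.S2853
import Cfsg.Agent.Lib.Loc.AmbChar
import Cfsg.Agent.Lib.Loc.AmbM
-- import your own Cfsg.Agent.* helpers here

set_option autoImplicit false
open Cfsg

namespace Cfsg.Agent.S2853

/-- Standing hypotheses: G a finite group, S a Sylow p-subgroup, Q a nontrivial large p-subgroup of G contained in S, M a subgroup containing S with the basic property (M ∈ 𝔐_G(S)); Y_M the largest p-reduced normal subgroup of M and M† = M·C_G(Y_M). Suppose Y_M is char-p-tall and asymmetric in G and H ∈ ℌ_G(O_p(M)). Then every Sylow p-subgroup of H ∩ M† is a Sylow p-subgroup of H; O_p(H) normalizes O_p(M) and Y_M; O^p(H) = [O^p(H), Y_M] and H = O^p(H)·O_p(M); O^p(H)·Y_M is the normal closure of Y_M in H; and H is the normal closure of O_p(M) in H. Here O^p(H) is the subgroup generated by the elements of H of order prime to p. -/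
theorem result {G : Type*} [Group G] [Finite G] {p : ℕ} [Fact p.Prime] (S : Sylow p G) (Q : Subgroup G) (hQp : IsPGroup p ↥Q) (hQ1 : Q ≠ ⊥) (hQS : Q ≤ (S : Subgroup G)) (hQ : Cfsg.IsLarge Q) (M : Subgroup G) (hSM : (S : Subgroup G) ≤ M) (hM : Cfsg.IsInFrakM p M) (htall : Cfsg.IsCharPTall p (Cfsg.largestPReducedOf p M)) (hasym : ¬ Cfsg.IsSymmetricIn (Cfsg.largestPReducedOf p M)) (H : Subgroup G) (hH : Cfsg.IsInFrakH p M H) (R : Subgroup G) (hR : R = (Cfsg.pResidual p ↥H).map H.subtype) : (∀ T : Sylow p ↥(H ⊓ (M ⊔ Subgroup.centralizer (((Cfsg.largestPReducedOf p M) : Subgroup G) : Set G))), ∃ P : Sylow p ↥H, ((P : Subgroup ↥H).map H.subtype) = (T : Subgroup ↥(H ⊓ (M ⊔ Subgroup.centralizer (((Cfsg.largestPReducedOf p M) : Subgroup G) : Set G)))).map (H ⊓ (M ⊔ Subgroup.centralizer (((Cfsg.largestPReducedOf p M) : Subgroup G) : Set G))).subtype) ∧ Cfsg.pCoreOf p H ≤ Subgroup.normalizer (((Cfsg.pCoreOf p M) : Subgroup G) : Set G) ⊓ Subgroup.normalizer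 (((Cfsg.largestPReducedOf p M) : Subgroup G) : Set G) ∧ ⁅R, (Cfsg.largestPReducedOf p M)⁆ = R ∧ R ⊔ (Cfsg.pCoreOf p M) = H ∧ R ⊔ (Cfsg.largestPReducedOf p M) = (Subgroup.normalClosure ((((Cfsg.largestPReducedOf p M)).subgroupOf H : Subgroup ↥H) : Set ↥H)).map H.subtype ∧ (Subgroup.normalClosure ((((Cfsg.pCoreOf p M)).subgroupOf H : Subgroup ↥H) : Set ↥H)).map H.subtype = H := by
  open Subgroup Cfsg CA.Amb CA.AmbSyl CA.AmbCore CA.AmbRes CA.AmbChar CA.AmbWC CA.AmbSpe CA.AmbRed CA.AmbFs CA.AmbM in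
  open scoped commutatorElement in
  (
    have h : FM p (S : Subgroup G) M := ⟨large_Parab hQp hQ, sylIn_top S, hSM, hM⟩
    obtain ⟨-, a1, a2, a3⟩ := hH
    change R = pResidualOf p H at hR
    have hYO := h.Y_le_core
    have hYH := hYO.trans a1
    have hOY : pCoreOf p M ≤ 𝐍 (YL p M) := norm_of_centralizer h.core_syl.le
    have hRH : R ≤ H := hR ▸ res_le _ _
    have hHR : H ≤ 𝐍 R := hR ▸ norm_res _ _
    have b1 : pCoreOf p H ≤ 𝐍 (pCoreOf p M) :=
      (h.wc hasym).norm_of_norm (isPGroup_pCoreOf p H) (a1.trans (norm_pCoreOf p H))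
    have b2 : R ⊔ pCoreOf p M = H := by
      by_contra hne
      exact a2 ((a3 _ le_sup_right (lt_of_le_of_ne (sup_le hRH a1) hne)).trans
        (sn_of_res_le (hR.ge.trans le_sup_left) (sup_le hRH a1)).pCoreOf_le)
    have hE : H ≤ 𝐍 (ncl (YL p M) R) :=
      b2.ge.trans (sup_le (norm_ncl _ _) (norm_ncl_of_norm hOY (a1.trans hHR)))
    have b3 : ⁅R, YL p M⁆ = R := by
      have c1 : ⁅R, YL p M⁆ ≤ R := commutator_le_left_of_norm (hYH.trans hHR)
      refine le_antisymm c1 ?_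
      have c2 : pCoreOf p M ⊔ ⁅R, YL p M⁆ = H := by
        by_contra hne
        have c3 := a3 _ le_sup_left (lt_of_le_of_ne (sup_le a1 (c1.trans hRH)) hne)
        have c4 : ncl (YL p M) R ≤ pCoreOf p M ⊔ ⁅R, YL p M⁆ := by
          rw [ncl_eq_sup, commutator_comm]; exact sup_le_sup_right hYO _
        exact a2 ((le_inf (le_ncl _ R) c3).trans ((inf_pCoreOf_le c4).trans
          (pCoreOf_le_of_norm (c4.trans (sup_le a1 (c1.trans hRH))) hE)))
      nth_rewrite 1 [hR]
      exact res_le_of_le_sup (isPGroup_pCoreOf p M) (norm_commutator (a1.trans hHR) hOY) c2.ge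
    have b4 : R ⊔ YL p M = ncl (YL p M) H := by
      have c1 : ncl (YL p M) R = R ⊔ YL p M := by rw [ncl_eq_sup, commutator_comm, b3, sup_comm]
      rw [← c1]
      exact le_antisymm (ncl_mono le_rfl hRH) (ncl_le (le_ncl _ _) hE)
    rw [map_normalClosure_subgroupOf hYH, map_normalClosure_subgroupOf a1]
    refine ⟨fun T => ?_, le_inf b1 (b1.trans (h.normalizer_core_le.trans h.dag_eq.ge)), b3, b2, b4,
      le_antisymm (ncl_le_of_le a1) (b2.ge.trans (sup_le
        (le_sup_left.trans (b4.le.trans (ncl_mono hYO le_rfl))) (le_ncl _ _)))⟩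
    obtain ⟨T', hT', -, c2⟩ := h.exists_syl hasym a1
    exact sylIn_iff_exists_sylow.1 ((sylIn_sylow T).of_sylIn_le inf_le_left hT' (le_inf hT'.le c2)))

end Cfsg.Agent.S2853
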