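import Cfsg.Statements.S2854
import Cfsg.Agent.Lib.Loc.AmbChar
import Cfsg.Agent.Lib.Loc.AmbM
-- import your own Cfsg.Agent.* helpers here

set_option autoImplicit false
open Cfsg

namespace Cfsg.Agent.S2854

section Aux
open Subgroup Cfsg CA.Amb CA.AmbSyl CA.AmbCore CA.AmbRes CA.AmbChar CA.AmbWC CA.AmbSpe CA.AmbRed CA.AmbFs CA.AmbM
open scoped commutatorElement

theorem aux {G : Type*} [Group G] [Finite G] {p : ℕ} [Fact p.Prime] {S M H Q' : Subgroup G}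
    (h : FM p S M) (hasym : ¬ IsSymmetricIn (YL p M)) (hH : IsInFrakH p M H) (hQ' : IsPGroup p Q')
    (hHQ : H ≤ 𝐍 Q') : Q' ≤ pCoreOf p (H ⊔ Q') ∧ pCoreOf p (H ⊔ Q') ≤ 𝐍 (pCoreOf p M) ∧
    𝐍 (pCoreOf p M) ≤ 𝐍 (YL p M) ∧ 𝐍 (YL p M) = dag p M ∧
    (H.subgroupOf (H ⊔ Q')).Normal ∧ pResidualOf p H = pResidualOf p (H ⊔ Q') ∧
    IsPIrreducible p ↥(H ⊔ Q') := by
  have a1 : pCoreOf p M ≤ H := hH.2.1
  have a2 : ¬ YL p M ≤ pCoreOf p H := hH.2.2.1
  have a3 : ∀ P, pCoreOf p M ≤ P → P < H → YL p M ≤ pCoreOf p P := hH.2.2.2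
  have hYO := h.Y_le_core
  have hYH := hYO.trans a1
  have hOY : pCoreOf p M ≤ 𝐍 (YL p M) := norm_of_centralizer h.core_syl.le
  have b1 : Q' ≤ pCoreOf p (H ⊔ Q') := le_pCoreOf le_sup_right hQ' (sup_le hHQ le_normalizer)
  have b2 : pCoreOf p (H ⊔ Q') ≤ 𝐍 (pCoreOf p M) := (h.wc hasym).norm_of_norm (isPGroup_pCoreOf p _)
    ((a1.trans le_sup_left).trans (norm_pCoreOf p _))
  have key : ∀ N, N ≤ H → H ≤ 𝐍 N → pCoreOf p M ⊔ N ≠ H → ⁅N, ncl (YL p M) H⁆ ≤ pCoreOf p N := by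
    intro N n1 n2 n3
    have c3 := a3 _ le_sup_left (lt_of_le_of_ne (sup_le a1 n1) n3)
    rw [commutator_comm]
    refine comm_ncl_le n2 (norm_pCoreOf_of_norm n2) (hYH.trans (norm_pCoreOf_of_norm n2)) ?_
    exact (le_inf (commutator_le_right_of_norm (hYH.trans n2)) ((commutator_mono c3 le_rfl).trans
      (commutator_le_left_of_norm (le_sup_right.trans (norm_pCoreOf p _))))).trans
      (inf_pCoreOf_le le_sup_right)
  have b3 : ncl (pCoreOf p M) H = H := by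
    by_contra hne
    exact a2 ((a3 _ (le_ncl _ _) (lt_of_le_of_ne (ncl_le_of_le a1) hne)).trans
      (pCoreOf_le_of_norm (ncl_le_of_le a1) (norm_ncl _ _)))
  have b4 : Q' ≤ 𝐍 H := by
    rw [← b3]
    refine norm_iSup fun x => ?_
    rw [← cj_normalizer, ← cj_eq_self (hHQ x.2)]
    exact cj_mono _ (b1.trans b2)
  have b5 : pResidualOf p H = pResidualOf p (H ⊔ Q') := by rw [sup_comm, res_sup_eq hQ' b4]
  have b6 : pResidualOf p H ≤ ncl (YL p M) H := by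
    by_contra hne
    have c1 := key _ (ncl_le_of_le hYH) (norm_ncl _ _) fun e => hne
      (res_le_of_le_sup (isPGroup_pCoreOf p M) (a1.trans (norm_ncl _ _)) e.ge)
    refine a2 ((le_ncl _ H).trans (le_pCoreOf (ncl_le_of_le hYH) ?_ (norm_ncl _ _)))
    have c2 : ncl (YL p M) H ≤ 𝐍 (YL p M ⊔ pCoreOf p (ncl (YL p M) H)) := norm_of_commutator_le
      ((commutator_mono (sup_le (le_ncl _ _) (pCoreOf_le _ _)) le_rfl).trans (le_sup_of_le_right c1))
    have c3 := le_pCoreOf (sup_le (le_ncl _ _) (pCoreOf_le _ _)) (isPGroup_sup_of_norm (red_YL p M).pg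
      (isPGroup_pCoreOf p _) ((le_ncl _ _).trans (norm_pCoreOf p _))) c2
    exact (isPGroup_pCoreOf p _).to_le (ncl_le (le_sup_left.trans c3)
      (norm_pCoreOf_of_norm (norm_ncl _ _)))
  refine ⟨b1, b2, h.normalizer_core_le.trans h.dag_eq.ge, h.dag_eq,
    normal_subgroupOf_of_norm (sup_le le_normalizer b4), b5, pirr_iff.2 ⟨fun hc => a2 ?_, ?_⟩⟩
  · exact isPClosed_iff_le.1 (isPClosed_of_le hc le_sup_left) _ hYH (red_YL p M).pg
  intro N n1 n2 n3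
  by_contra hne
  apply n3
  have hQN : Q' ≤ 𝐍 N := le_sup_right.trans n2
  set N₁ := H ⊓ (Q' ⊔ N) with hN₁
  have c1 : H ≤ 𝐍 N₁ := norm_inf le_normalizer (norm_sup hHQ (le_sup_left.trans n2))
  have c2 : N₁ ⊔ Q' = Q' ⊔ N := by
    rw [hN₁, ← sup_inf_of_norm' hHQ le_sup_left, inf_eq_right.2 (sup_le le_sup_right n1)]
  have c3 := key N₁ inf_le_left c1 fun e => hne (by
    rw [← b5, ← res_res]
    exact res_le_of_le_sup hQ' hQN ((res_le_of_le_sup (isPGroup_pCoreOf p M) (a1.trans c1) e.ge).trans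
      inf_le_right))
  obtain ⟨T, hT⟩ := exists_sylIn p N₁
  have c4 : N₁ ≤ 𝐍 T := le_of_syl_of_res hT le_normalizer (norm_of_commutator_le
    ((commutator_mono hT.le ((res_mono inf_le_left).trans b6)).trans (c3.trans (pCoreOf_le_syl hT))))
  have c5 := sylIn_sup (inf_le_left.trans hHQ : N₁ ≤ 𝐍 Q') (sylIn_self hQ') hT
    (isPGroup_sup_of_norm hT.pg hQ' (hT.le.trans (inf_le_left.trans hHQ)))
  have c6 : Q' ≤ 𝐍 T := by
    rw [← pCoreOf_eq_of_syl hT c4]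
    exact norm_pCoreOf_of_norm (norm_inf b4 (norm_of_le le_sup_left))
  exact isPClosed_of_le (isPClosed_of_syl c5 (sup_le (norm_sup c4 (inf_le_left.trans hHQ))
    (norm_of_le le_sup_right))) (le_sup_right.trans c2.ge)

end Aux

/-- Standing hypotheses: G a finite group, S a Sylow p-subgroup, Q a nontrivial large p-subgroup of G contained in S, M a subgroup containing S with the basic property (M ∈ 𝔐_G(S)); Y_M the largest p-reduced normal subgroup of M and M† = M·C_G(Y_M). Suppose Y_M is asymmetric in G, H ∈ ℌ_G(O_p(M)), and H ≤ N_G(gQg⁻¹) for some g ∈ G. Then gQg⁻¹ ≤ O_p(H·gQg⁻¹) ≤ N_G(O_p(M)) ≤ N_G(Y_M) = M†; H is normal in H·gQg⁻¹ with O^p(H) = O^p(H·gQg⁻¹); and H·gQg⁻¹ is p-irreducible. -/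
theorem result {G : Type*} [Group G] [Finite G] {p : ℕ} [Fact p.Prime] (S : Sylow p G) (Q : Subgroup G) (hQp : IsPGroup p ↥Q) (hQ1 : Q ≠ ⊥) (hQS : Q ≤ (S : Subgroup G)) (hQ : Cfsg.IsLarge Q) (M : Subgroup G) (hSM : (S : Subgroup G) ≤ M) (hM : Cfsg.IsInFrakM p M) (hasym : ¬ Cfsg.IsSymmetricIn (Cfsg.largestPReducedOf p M)) (H : Subgroup G) (hH : Cfsg.IsInFrakH p M H) (g : G) (hHQ : H ≤ Subgroup.normalizer ((((Q : Subgroup G).map (MulAut.conj (g : G)).toMonoidHom) : Subgroup G) : Set G)) : ((Q : Subgroup G).map (MulAut.conj (g : G)).toMonoidHom) ≤ Cfsg.pCoreOf p (H ⊔ ((Q : Subgroup G).map (MulAut.conj (g : G)).toMonoidHom)) ∧ Cfsg.pCoreOf p (H ⊔ ((Q : Subgroup G).map (MulAut.conj (g : G)).toMonoidHom)) ≤ Subgroup.normalizer (((Cfsg.pCoreOf p M) : Subgroup G) : Set G) ∧ Subgroup.normalizer (((Cfsg.pCoreOf p M) : Subgroup G) : Set G) ≤ Subgroup.normalizer (((Cfsg.largestPReducedOf p M) : Subgroup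 G) : Set G) ∧ Subgroup.normalizer (((Cfsg.largestPReducedOf p M) : Subgroup G) : Set G) = (M ⊔ Subgroup.centralizer (((Cfsg.largestPReducedOf p M) : Subgroup G) : Set G)) ∧ (H.subgroupOf (H ⊔ ((Q : Subgroup G).map (MulAut.conj (g : G)).toMonoidHom))).Normal ∧ (Cfsg.pResidual p ↥H).map H.subtype = (Cfsg.pResidual p ↥(H ⊔ ((Q : Subgroup G).map (MulAut.conj (g : G)).toMonoidHom))).map (H ⊔ ((Q : Subgroup G).map (MulAut.conj (g : G)).toMonoidHom)).subtype ∧ Cfsg.IsPIrreducible p ↥(H ⊔ ((Q : Subgroup G).map (MulAut.conj (g : G)).toMonoidHom)) := by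
  open Subgroup Cfsg CA.Amb CA.AmbSyl CA.AmbCore CA.AmbRes CA.AmbChar CA.AmbWC CA.AmbSpe CA.AmbRed CA.AmbFs CA.AmbM in
  open scoped commutatorElement in
  (
    have h : FM p (S : Subgroup G) M := ⟨large_Parab hQp hQ, sylIn_top S, hSM, hM⟩
    exact aux h hasym hH (isPGroup_cj hQp g) hHQ)

end Cfsg.Agent.S2854
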