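import Cfsg.Statements.S2855
import Cfsg.Agent.Lib.Loc.AmbRed

set_option autoImplicit false
open Cfsg

set_option linter.unusedVariables false
set_option linter.unusedSimpArgs false
set_option linter.style.haveILetI false

namespace Cfsg.Agent.S2855

open CA Subgroup CA.Amb CA.AmbSyl CA.AmbCore CA.AmbRes CA.AmbWC CA.AmbRed CA.AmbChar
open scoped commutatorElement

variable {G : Type*} [Group G] [Finite G] {p : ℕ} [Fact p.Prime] {E O A N : Subgroup G}

theorem spi (h : IsStronglyPIrreducible p E) (hO : IsPGroup p O) (hn : E ≤ 𝐍 O) (h1 : pCoreOf p E ≤ O)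
    (hA : A ≤ E ⊔ O) (hnA : E ⊔ O ≤ 𝐍 A) : ⁅A, E ⊔ O⁆ ≤ O ∨ pResidualOf p (E ⊔ O) ≤ A := by
  have n1 : E ≤ 𝐍 (E ⊓ (A ⊔ O)) := norm_inf le_normalizer (norm_sup (le_sup_left.trans hnA) hn)
  have nO : E ⊔ O ≤ 𝐍 O := sup_le hn le_normalizer
  by_cases e : ⁅(E ⊓ (A ⊔ O)).subgroupOf E, (⊤ : Subgroup E)⁆ ≤ pCore p E
  · left
    have e' := map_mono (f := E.subtype) e
    rw [map_commutator, map_subgroupOf_eq_of_le inf_le_left, map_subtype_top] at e'
    have a1 : A ≤ (E ⊓ (A ⊔ O)) ⊔ O := by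
      rw [← sup_inf_of_norm' hn le_sup_right]; exact le_inf hA le_sup_left
    exact (commutator_mono a1 le_rfl).trans (comm_sup_le (inf_le_left.trans hn) le_normalizer
      (comm_sup_le' hn le_normalizer (e'.trans h1) (commutator_le_right_of_norm (inf_le_left.trans hn)))
      (commutator_le_left_of_norm nO))
  · right
    have e' := map_mono (f := E.subtype) (h.2 _ (normal_subgroupOf_of_norm n1) e)
    rw [map_subgroupOf_eq_of_le inf_le_left] at e'
    obtain ⟨T, hT⟩ := exists_sylIn p E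
    have r1 : pResidualOf p (E ⊔ O) ≤ A ⊔ O := res_le_of_le_sup hT.pg
      (hT.le.trans (norm_sup (le_sup_left.trans hnA) hn)) (sup_le ((syl_sup_res hT).ge.trans
        (sup_le_sup_left (e'.trans inf_le_right) _)) (le_sup_of_le_right le_sup_right))
    rw [← res_res]
    exact res_le_of_le_sup hO (le_sup_right.trans hnA) (r1.trans (sup_comm _ _).le)

theorem key (h0 : ¬ IsPClosed p E) (hO : pCoreOf p E = O)
    (h : ∀ A, A ≤ E → E ≤ 𝐍 A → ⁅A, E⁆ ≤ O ∨ pResidualOf p E ≤ A) :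
    pResidualOf p E ≤ ⁅E, E⁆ ∧ ∀ A, A ≤ 𝐍 E → E ≤ 𝐍 A → ¬ pResidualOf p E ≤ A → ⁅A, E⁆ ≤ O := by
  obtain ⟨T, hT⟩ := exists_sylIn p E
  have oT : O ≤ T := hO ▸ pCoreOf_le_syl hT
  have nO : E ≤ 𝐍 O := hO ▸ norm_pCoreOf _ _
  have k : ∀ Z X, Z ≤ E → ⁅Z, E⁆ ≤ O → X ≤ 𝐍 Z → ⁅X, T⁆ ≤ Z → X ≤ 𝐍 T := fun Z X z1 z2 z3 z4 => by
    have n : T ⊔ Z ≤ 𝐍 T := sup_le le_normalizer (norm_of_commutator_le (by
      rw [commutator_comm]; exact ((commutator_mono le_rfl hT.le).trans z2).trans oT))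
    rw [← pCoreOf_eq_of_syl (hT.mono le_sup_left (sup_le hT.le z1)) n]
    exact norm_pCoreOf_of_norm (norm_of_commutator_le (comm_sup_le (norm_of_le le_sup_left)
      (norm_of_le le_sup_right) (by rw [commutator_comm]; exact z4.trans le_sup_right)
      ((commutator_le_left_of_norm z3).trans le_sup_right)))
  have r : pResidualOf p E ≤ ⁅E, E⁆ := (h _ (comm_le_of_le le_rfl le_rfl) (norm_comm_left _ _)).resolve_left
    fun e => h0 (isPClosed_of_syl hT (k _ E (comm_le_of_le le_rfl le_rfl) e (norm_comm_left _ _)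
      (commutator_mono le_rfl hT.le)))
  refine ⟨r, fun A a1 a2 a3 => ?_⟩
  have b1 := (h (A ⊓ E) inf_le_right (norm_inf a2 le_normalizer)).resolve_right fun e => a3 (e.trans inf_le_left)
  have b2 : ⁅A, E⁆ ≤ A ⊓ E := le_inf (commutator_le_left_of_norm a2) (commutator_le_right_of_norm a1)
  have aO : A ≤ 𝐍 O := hO ▸ norm_pCoreOf_of_norm a1
  have b3 : ⁅⁅E, E⁆, A⁆ ≤ O := three_subgroups nO nO aO
    (by rw [commutator_comm E A]; exact (commutator_mono b2 le_rfl).trans b1) ((commutator_mono b2 le_rfl).trans b1)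
  have b4 := k (A ⊓ E) A inf_le_right b1 (norm_inf le_normalizer a1) ((commutator_mono le_rfl hT.le).trans b2)
  have b5 : T ⊓ A ≤ O := hO ▸ le_pCoreOf (inf_le_left.trans hT.le) (hT.pg.to_le inf_le_left) (by
    have c : T ⊓ A ≤ A ⊓ E := le_inf inf_le_right (inf_le_left.trans hT.le)
    exact norm_of_commutator_le (le_inf (((commutator_mono c le_rfl).trans b1).trans oT)
      ((commutator_mono inf_le_right le_rfl).trans (b2.trans inf_le_left))))
  refine (commutator_mono le_rfl (syl_sup_res hT).ge).trans (comm_sup_le' (hT.le.trans nO)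
    ((res_le _ _).trans nO) (le_trans (le_inf (commutator_le_right_of_norm b4)
      (commutator_le_left_of_norm (hT.le.trans a2))) b5) ?_)
  rw [commutator_comm]
  exact (commutator_mono r le_rfl).trans b3

theorem umax_sup {S : Subgroup G} (h : ∀ T : Sylow p E, IsMinimalOver (T : Subgroup E)) (hO : IsPGroup p O)
    (hn : E ≤ 𝐍 O) (hS : SylIn p S (E ⊔ O)) : E ≤ ncl S (E ⊔ O) ∧ ∃ M, UMax S M (E ⊔ O) := by
  obtain ⟨T₀, h0⟩ := exists_sylIn p E
  have nO : E ⊔ O ≤ 𝐍 O := sup_le hn le_normalizer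
  have oS : O ≤ S := hS.le_of_norm hO le_sup_right (hS.le.trans nO)
  obtain ⟨g, hg, e⟩ := hS.exists_conj_le (isPGroup_sup_of_norm h0.pg hO (h0.le.trans hn))
    (sup_le_sup_right h0.le _)
  obtain ⟨x, hx, y, hy, rfl⟩ := (mem_sup_of_norm hn).1 hg
  rw [← cj_cj, cj_eq_self_of_mem (mem_sup_right hy)] at e
  have hT := h0.conj_mem hx
  have tS : cj x T₀ ≤ S := (cj_mono x le_sup_left).trans e
  have := h hT.toSylow
  rw [SylIn.coe_toSylow, isMinimalOver_subgroupOf_iff hT.le] at this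
  obtain ⟨h1, M, hM⟩ := this
  have d : ∀ X, O ≤ X → X ≤ E ⊔ O → X = (E ⊓ X) ⊔ O := fun X x1 x2 => by
    rw [← sup_inf_of_norm' hn x1, inf_eq_right.2 x2]
  have sT : E ⊓ S = cj x T₀ := hT.max (hS.pg.to_le inf_le_right) (le_inf hT.le tS) inf_le_left
  refine ⟨h1.ge.trans (ncl_mono tS le_sup_left), M ⊔ O, ?_, lt_of_le_of_ne (sup_le_sup_right hM.lt.le _)
    fun e => hM.not_le ?_, fun X x1 x2 => ?_⟩
  · rw [d S oS hS.le, sT]; exact sup_le_sup_right hM.le _
  · have := sup_inf_of_norm (L := E) (hM.lt.le.trans hn) hM.lt.le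
    rw [e, inf_eq_right.2 le_sup_left] at this
    exact this.le.trans (sup_le le_rfl (le_trans (le_inf inf_le_right (inf_le_left.trans oS))
      (sT.le.trans hM.le)))
  · rw [d X (oS.trans x1) x2.le]
    exact sup_le_sup_right (hM.max' (le_inf hT.le (tS.trans x1)) inf_le_left fun e =>
      x2.not_ge (sup_le (e.trans inf_le_right) (oS.trans x1))) _


/-- Let H be a finite group, p a prime, and 𝒦 a nonempty set of subgroups of H permuted transitively by conjugation, with R the subgroup generated by the members of 𝒦. Suppose O^p(H) ≤ R, each E ∈ 𝒦 has E·O_p(H) normal in R·O_p(H), and each E ∈ 𝒦 is p-minimal (generated by the conjugates of a Sylow p-subgroup T_E of E, with T_E in exactly one maximal subgroup of E). Then H is p-minimal in the same sense. If instead each E ∈ 𝒦 is strongly p-irreducible, then H is p-irreducible and, for E, K ∈ 𝒦, either O^p(E·O_p(H)) = O^p(K·O_p(H)) or [E, K] ≤ O_p(H). -/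
theorem result {H : Type*} [Group H] [Finite H] {p : ℕ} [Fact p.Prime] (𝒦 : Set (Subgroup H)) (hne : 𝒦.Nonempty) (hinv : ∀ h : H, ∀ E ∈ 𝒦, E.map (MulAut.conj h).toMonoidHom ∈ 𝒦) (htr : ∀ E ∈ 𝒦, ∀ K ∈ 𝒦, ∃ h : H, K = E.map (MulAut.conj h).toMonoidHom) (hres : Cfsg.pResidual p H ≤ sSup 𝒦) (hnorm : ∀ E ∈ 𝒦, sSup 𝒦 ⊔ Cfsg.pCore p H ≤ Subgroup.normalizer ((E ⊔ Cfsg.pCore p H : Subgroup H) : Set H)) : ((∀ E ∈ 𝒦, ∀ T : Sylow p ↥E, Cfsg.IsMinimalOver (T : Subgroup ↥E)) → ∀ T : Sylow p H, Cfsg.IsMinimalOver (T : Subgroup H)) ∧ ((∀ E ∈ 𝒦, Cfsg.IsStronglyPIrreducible p ↥E) → Cfsg.IsPIrreducible p H ∧ ∀ E ∈ 𝒦, ∀ K ∈ 𝒦, (Cfsg.pResidual p ↥(E ⊔ Cfsg.pCore p H)).map (E ⊔ Cfsg.pCore p H).subtype = (Cfsg.pResidual p ↥(K ⊔ Cfsg.pCore p H)).map (K ⊔ Cfsg.pCore p H).subtype ∨ ⁅E, K⁆ ≤ Cfsg.pCore p H) := by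
  rw [← pCoreOf_top] at hnorm ⊢
  rw [← res_top] at hres
  set O := pCoreOf p (⊤ : Subgroup H) with hOd
  set N := sSup 𝒦 ⊔ O
  have hO : IsPGroup p O := isPGroup_pCoreOf _ _
  have nO : ∀ {X : Subgroup H}, X ≤ 𝐍 O := fun {_} => le_top.trans (norm_pCoreOf _ _)
  have nN : ∀ {X : Subgroup H}, X ≤ 𝐍 N := fun {_} => norm_sup (le_normalizer_iff_cj.2 fun g _ =>
    cj_le_iff.2 (sSup_le fun E hE => cj_le_iff.1 (le_sSup (hinv g E hE)))) nO
  have eN : ∀ E ∈ 𝒦, E ⊔ O ≤ N := fun E hE => sup_le_sup_right (le_sSup hE) _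
  have cO : ∀ (g : H) (E : Subgroup H), cj g (E ⊔ O) = cj g E ⊔ O := fun g E => by
    rw [cj_sup, cj_eq_self (nO (mem_top g))]
  have core : ∀ E ∈ 𝒦, pCoreOf p (E ⊔ O) = O := fun E hE => le_antisymm
    ((pCoreOf_le_of_norm (eN E hE) (hnorm E hE)).trans (pCoreOf_le_of_norm le_top nN))
    (le_pCoreOf le_sup_right hO nO)
  refine ⟨fun h T => ?_, fun h => ?_⟩
  · have hT := sylIn_top T
    generalize hSe : (T : Subgroup H) = S at hT ⊢
    have hs : ∀ E ∈ 𝒦, SylIn p (S ⊓ (E ⊔ O)) (E ⊔ O) := fun E hE =>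
      ((SN.of_norm le_top nN).trans (SN.of_norm (eN E hE) (hnorm E hE))).sylIn_inf hT
    have hu := fun E hE => umax_sup (h E hE) hO nO (hs E hE)
    have gen : ∀ X, S ≤ X → sSup 𝒦 ≤ X → X = ⊤ := fun X x1 x2 =>
      top_le_iff.1 (le_of_syl_of_res hT x1 (hres.trans x2))
    have sN : ∀ g : H, ∃ s ∈ S, ∃ n ∈ N, s * n = g := fun g => (mem_sup_of_norm nN).1
      ((gen (S ⊔ N) le_sup_left (le_sup_of_le_right le_sup_left)).ge (mem_top g))
    set Y := N ⊓ ⨅ M : {M // ∃ E ∈ 𝒦, UMax (S ⊓ (E ⊔ O)) M (E ⊔ O)}, 𝐍 M.1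
    have sY : S ≤ 𝐍 Y := norm_inf nN (le_normalizer_iff_cj.2 fun s hs => le_iInf fun ⟨M, E, hE, u⟩ => by
      have u' := u.conj s⁻¹
      rw [cj_inf, cj_eq_self_of_mem (inv_mem hs), cO] at u'
      refine cj_le_iff.2 ((iInf_le _ ⟨_, _, hinv _ E hE, u'⟩).trans ?_)
      rw [cj_normalizer])
    have fix : ∀ E ∈ 𝒦, ∀ M, UMax (S ⊓ (E ⊔ O)) M (E ⊔ O) → ∀ x ∈ N, cj x (S ⊓ (E ⊔ O)) ≤ M → x ∈ 𝐍 M :=
      fun E hE M u x hx e => by
      have u' := u.conj x
      rw [cj_eq_self (hnorm E hE hx)] at u'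
      obtain ⟨m, hm, e'⟩ := ((hs E hE).mono u.le u.lt.le).exists_conj
        (((hs E hE).conj_norm (hnorm E hE hx)).mono e u.lt.le)
      have u'' := u.conj m
      rw [e', cj_eq_self_of_mem hm, cj_eq_self_of_mem (u.lt.le hm)] at u''
      exact cj_eq_self_iff.1 (u'.unique u'')
    refine isMinimalOver_iff.2 ⟨gen _ (le_ncl _ _) (sSup_le fun E hE => (hu E hE).1.trans
      (ncl_mono inf_le_left le_top)), S ⊔ Y, umax_top_iff.2 ⟨fun e => ?_, le_sup_left, fun X x1 x2 x hx => ?_⟩⟩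
    · obtain ⟨E, hE⟩ := hne
      obtain ⟨a, M, u⟩ := hu E hE
      refine u.not_le (sup_le (a.trans (ncl_le u.le fun x hx => ?_)) (le_trans ?_ u.le))
      · obtain ⟨s, hs', y, hy, rfl⟩ := (mem_sup_of_norm sY).1 (e.ge (mem_top x))
        have h1 : s ∈ N := (N.mul_mem_cancel_right hy.1).1 (eN E hE hx)
        refine mul_mem (fix E hE M u s h1 ?_) (mem_iInf.1 hy.2 ⟨M, E, hE, u⟩)
        rw [cj_inf, cj_eq_self_of_mem hs', cj_eq_self (hnorm E hE h1)]; exact u.le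
      · exact le_inf (pCoreOf_le_syl hT) le_sup_right
    · obtain ⟨s, hs', n, hn, rfl⟩ := sN x
      have h1 : n ∈ X := (mul_mem_cancel_left (x1 hs')).1 hx
      refine mul_mem_sup hs' ⟨hn, mem_iInf.2 fun ⟨M, E, hE, u⟩ => fix E hE M u n hn ?_⟩
      refine le_trans ?_ (u.max' (X := X ⊓ (E ⊔ O)) (inf_le_inf_right _ x1) inf_le_right fun e => x2
        (gen X x1 (sSup_le fun K hK => ?_)))
      · exact cj_le_of_le (inf_le_inf_right _ x1) (norm_inf (norm_of_le inf_le_left)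
          (inf_le_right.trans (hnorm E hE)) (show n ∈ X ⊓ N from ⟨h1, hn⟩))
      · obtain ⟨g, rfl⟩ := htr E hE K hK
        obtain ⟨s, hs', n, hn, rfl⟩ := sN g
        refine (cj_mono _ (le_sup_left : E ≤ E ⊔ O)).trans ?_
        rw [← cj_cj, cj_eq_self (hnorm E hE hn)]
        exact cj_le_of_mem (e.trans inf_le_left) (x1 hs')
  have hk := fun E hE => key (E := E ⊔ O) (fun e => (h E hE).1 (isPClosed_of_le e le_sup_left)) (core E hE)
    fun A a1 a2 => spi (h E hE) hO nO (le_sup_left.trans ((le_pCoreOf (sup_le_sup_right (pCoreOf_le _ _) _)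
      (isPGroup_sup_of_norm (isPGroup_pCoreOf p E) hO nO) (sup_le (norm_sup (norm_pCoreOf _ _) nO)
        (norm_of_le le_sup_right))).trans (core E hE).le)) a1 a2
  refine ⟨pirr_top_iff.1 ⟨fun e => ?_, fun L _ hL hL' => ?_⟩, fun E hE K hK => ?_⟩
  · obtain ⟨E, hE⟩ := hne
    exact (h E hE).1 (isPClosed_of_le e le_top)
  · obtain ⟨S, hS⟩ := exists_sylIn p (⊤ : Subgroup H)
    have gen : ∀ P : Subgroup H, ⊤ ≤ 𝐍 P → (∀ E ∈ 𝒦, pResidualOf p (E ⊔ O) ≤ P) → pResidualOf p ⊤ ≤ P :=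
      fun P p1 p2 => by
      rw [← res_res]
      refine res_le_of_le_sup hS.pg (le_top.trans p1) (hres.trans (sSup_le fun E hE => le_sup_left.trans
        ((syl_sup_res (((SN.of_norm le_top nN).trans (SN.of_norm (eN E hE) (hnorm E hE))).sylIn_inf
          hS)).ge.trans (sup_le_sup inf_le_left (p2 E hE)))))
    by_cases c : ∃ E ∈ 𝒦, pResidualOf p (E ⊔ O) ≤ L ⊓ N
    · obtain ⟨E, hE, c⟩ := c
      refine gen L hL fun K hK => ?_
      obtain ⟨g, rfl⟩ := htr E hE K hK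
      rw [← cO, ← cj_res]
      exact cj_le_of_le (c.trans inf_le_left) (hL (mem_top g))
    push Not at c
    have d1 : ⁅L ⊓ N, N⁆ ≤ O := by
      rw [commutator_comm]
      refine comm_sup_le nO nO ?_ (commutator_le_left_of_norm nO)
      rw [sSup_eq_iSup']
      refine comm_iSup_le (fun _ => nO) fun E => ?_
      rw [commutator_comm]
      exact (commutator_mono le_rfl le_sup_left).trans ((hk E E.2).2 _ (inf_le_right.trans (hnorm E E.2))
        (norm_inf (le_top.trans hL) nN) (c E E.2))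
    have d2 : ⁅L, N⁆ ≤ L ⊓ N := le_inf (commutator_le_left_of_norm (le_top.trans hL))
      (commutator_le_right_of_norm nN)
    have d3 : ⁅⁅N, N⁆, L⁆ ≤ O := three_subgroups nO nO nO
      (by rw [commutator_comm N L]; exact (commutator_mono d2 le_rfl).trans d1) ((commutator_mono d2 le_rfl).trans d1)
    have d4 := gen ⁅N, N⁆ (norm_commutator nN nN) fun E hE => (hk E hE).1.trans
      (commutator_mono (eN E hE) (eN E hE))
    have hT := hS.inf_norm le_top hL
    refine (hL' (isPClosed_of_syl hT ((syl_sup_res hT).ge.trans (sup_le le_normalizer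
      (norm_of_commutator_le (le_inf ?_ (comm_le_of_le inf_le_right (res_le _ _)))))))).elim
    rw [commutator_comm]
    exact ((commutator_mono ((res_mono le_top).trans d4) inf_le_right).trans d3).trans (pCoreOf_le_syl hS)
  · change pResidualOf p (E ⊔ O) = pResidualOf p (K ⊔ O) ∨ _
    by_cases c : pResidualOf p (K ⊔ O) ≤ E ⊔ O
    · left
      obtain ⟨g, rfl⟩ := htr E hE K hK
      refine (eq_of_le_of_card_ge ((res_res p _).ge.trans (res_mono c)) ?_).symm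
      rw [← cO, ← cj_res, card_cj]
    · exact .inr ((commutator_mono le_sup_left le_sup_left).trans ((hk K hK).2 _
        ((eN E hE).trans (hnorm K hK)) ((eN K hK).trans (hnorm E hE)) c))

end Cfsg.Agent.S2855
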