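import Cfsg.Statements.S2859
import Cfsg.Agent.Lib.Loc.AmbWC

set_option autoImplicit false
open Cfsg

set_option linter.unusedVariables false
set_option linter.unusedSimpArgs false
set_option linter.style.haveILetI false

namespace Cfsg.Agent.S2859

open CA Subgroup CA.Amb CA.AmbSyl CA.AmbCore CA.AmbRes CA.AmbWC
open scoped commutatorElement

variable {G : Type*} [Group G] [Finite G] {p : ℕ} [Fact p.Prime] {Q : Subgroup G}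

theorem circ (w : WC p Q) {L : Subgroup G} (hL : Q ≤ L) :
    ⁅pResidualOf p (ncl Q L), Q⁆ = pResidualOf p (ncl Q L) ∧ ncl Q L ≤ Q ⊔ pResidualOf p (ncl Q L) := by
  set N := ncl Q L
  set K := pResidualOf p N
  have n1 : Q ≤ 𝐍 K := (le_ncl Q L).trans (norm_res p N)
  obtain ⟨T, hT, t1⟩ := exists_sylIn_ge w.pg (le_ncl Q L)
  have h1 : N ≤ Q ⊔ ⁅Q, K⁆ := by
    rw [← ncl_eq_sup]
    refine (w.ncl_ncl hL).ge.trans (ncl_le_iff.2 fun g hg => ?_)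
    obtain ⟨k, hk, t, ht, rfl⟩ := (mem_sup_of_norm' (hT.le.trans (norm_res p N))).1
      (((syl_sup_res hT).ge.trans (sup_comm _ _).le) hg)
    rw [← cj_cj, cj_eq_self (w.le_normalizer hT.pg t1 ht)]
    exact cj_le_ncl Q hk
  refine ⟨le_antisymm (commutator_le_left_of_norm n1) ?_,
    h1.trans (sup_le_sup_left (commutator_le_right_of_norm n1) _)⟩
  rw [commutator_comm]
  exact res_le_of_le_sup w.pg (norm_comm_left _ _) h1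

theorem one (w : WC p Q) {H₁ H₂ : Subgroup G} (a1 : H₁ ≤ ncl Q ⊤) (b1 : ncl Q ⊤ ≤ 𝐍 H₁)
    (b2 : ncl Q ⊤ ≤ 𝐍 H₂) (hp : H₁ ⊔ H₂ = ncl Q ⊤) (hc : ⁅H₁, H₂⁆ ≤ 𝐍 Q) {K : Subgroup G}
    (hK : K = pResidualOf p (ncl Q (H₁ ⊔ Q))) :
    (⁅K, Q⁆ = K ∧ ⁅K, H₁⁆ = K ∧ K ≤ ⁅H₁, H₁⁆ ∧ ncl Q ⊤ ≤ 𝐍 K) ∧ ⁅K, H₂⁆ ≤ pCoreOf p (ncl Q ⊤) ∧
      K ≤ H₁ ∧ ⁅Q, H₁⁆ ≤ Q ⊔ K := by
  set Hc := ncl Q ⊤ with hHc
  set O := pCoreOf p Hc
  have a2 : H₂ ≤ Hc := hp ▸ le_sup_right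
  have q1 : Q ≤ Hc := le_ncl _ _
  have nO : Hc ≤ 𝐍 O := norm_pCoreOf _ _
  have oH : O ≤ Hc := pCoreOf_le _ _
  have nD : Hc ≤ 𝐍 ⁅H₁, H₂⁆ := norm_commutator b1 b2
  have dH : ⁅H₁, H₂⁆ ≤ Hc := comm_le_of_le a1 a2
  have tH : (⊤ : Subgroup G) ≤ 𝐍 Hc := norm_ncl _ _
  have d1 : ⁅Q, ⁅H₁, H₂⁆⁆ ≤ O := (le_pCoreOf (commutator_le_right_of_norm (q1.trans nD))
    (w.pg.to_le (commutator_le_left_of_norm hc)) (norm_comm_right _ _)).trans (pCoreOf_le_of_norm dH nD)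
  have d2 : ⁅Hc, ⁅H₁, H₂⁆⁆ ≤ O := by
    have e : Hc = ncl Q Hc := (w.ncl_ncl le_top).symm
    nth_rw 1 [e]
    exact comm_ncl_le nD nO (q1.trans nO) d1
  obtain ⟨c1, c2⟩ := circ w (L := H₁ ⊔ Q) le_sup_right
  rw [← hK] at c1 c2
  have rK : pResidualOf p K = K := by rw [hK, res_res]
  have k1 : K ≤ H₁ := by
    rw [hK]
    exact res_le_of_le_sup w.pg (q1.trans b1) (ncl_le_of_le le_sup_right |>.trans (sup_comm _ _).le)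
  have hO := isPGroup_pCoreOf p Hc
  have n11 : Hc ≤ 𝐍 ⁅H₁, H₁⁆ := norm_commutator b1 b1
  have k2 : K ≤ ⁅H₁, H₁⁆ := by
    have x1 : K ≤ ⁅H₁, H₁⁆ ⊔ ⁅H₁, H₂⁆ := c1.ge.trans ((commutator_mono k1 (q1.trans hp.ge)).trans
      (comm_sup_le' (a1.trans (norm_sup n11 nD)) (a2.trans (norm_sup n11 nD)) le_sup_left le_sup_right))
    have x2 : K ≤ O ⊔ ⁅H₁, H₁⁆ := c1.ge.trans ((commutator_mono x1 le_rfl).trans (comm_sup_le
      ((comm_le_of_le a1 a1).trans (norm_sup nO n11)) (dH.trans (norm_sup nO n11))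
      ((commutator_le_left_of_norm (q1.trans n11)).trans le_sup_right)
      (by rw [commutator_comm]; exact d1.trans le_sup_left)))
    exact rK ▸ res_le_of_le_sup hO (oH.trans n11) x2
  have k3 : ⁅K, H₂⁆ ≤ O := by
    refine (commutator_mono k2 le_rfl).trans (three_subgroups (a1.trans nO) (a1.trans nO) (a2.trans nO) ?_ ?_)
    · rw [commutator_comm]; exact (commutator_mono a1 le_rfl).trans d2
    · rw [commutator_comm, commutator_comm H₂]; exact (commutator_mono a1 le_rfl).trans d2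
  have oQ : O ≤ 𝐍 Q := w.norm_of_norm hO (q1.trans nO)
  have oK : O ≤ 𝐍 K := hK ▸ norm_res_of_norm (norm_ncl_of_norm oQ (norm_sup (oH.trans b1) oQ))
  have h1K : H₁ ≤ 𝐍 K := hK ▸ norm_res_of_norm (le_sup_left.trans (norm_ncl _ _))
  have h2K : H₂ ≤ 𝐍 K := by
    have : H₂ ≤ 𝐍 (O ⊔ K) := norm_of_commutator_le (comm_sup_le (norm_of_le le_sup_left)
      (norm_of_le le_sup_right) ((commutator_le_left_of_norm (a2.trans nO)).trans le_sup_left)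
      (k3.trans le_sup_left))
    have := norm_res_of_norm (p := p) this
    rwa [res_sup_eq hO oK, rK] at this
  have nK : Hc ≤ 𝐍 K := hp ▸ sup_le h1K h2K
  have n1 : Hc ≤ 𝐍 ⁅K, H₁⁆ := norm_commutator nK b1
  refine ⟨⟨c1, le_antisymm (commutator_le_left_of_norm h1K) ?_, k2, nK⟩, k3, k1,
    le_trans (le_trans ?_ (le_sup_right.trans (ncl_eq_sup Q (H₁ ⊔ Q)).ge)) c2⟩
  · refine rK.ge.trans (res_le_of_le_sup hO (oH.trans n1) (c1.ge.trans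
      ((commutator_mono le_rfl (q1.trans hp.ge)).trans (comm_sup_le' (a1.trans (norm_sup nO n1))
        (a2.trans (norm_sup nO n1)) le_sup_right (k3.trans le_sup_left)))))
  · exact commutator_mono le_rfl le_sup_left


/-- Let Q be a nontrivial p-subgroup of the finite group H that is a weakly closed subgroup, H° the weak closure of Q in H (generated by the conjugates of Q) and H_∘ = O^p(H°). Suppose H₁, H₂ are normal subgroups of H° with H° = H₁H₂ and [H₁, H₂] ≤ N_H(Q), and put Kᵢ = O^p of the weak closure of Q in HᵢQ. Then for i = 1, 2: Kᵢ = [Kᵢ, Q] = [Kᵢ, Hᵢ] ≤ Hᵢ′ and Kᵢ is normal in H°; H_∘ = K₁K₂; and [K₁, K₂] ≤ O_p(H°). -/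
theorem result {G : Type*} [Group G] [Finite G] {p : ℕ} [Fact p.Prime] (Q : Subgroup G) (hQp : IsPGroup p ↥Q) (hQ1 : Q ≠ ⊥) (hwc : Cfsg.IsWeaklyClosedSubgroup p Q) (Hc : Subgroup G) (hHc : Hc = Cfsg.weakClosure Q ⊤) (H₁ H₂ : Subgroup G) (hn₁ : H₁ ≤ Hc ∧ Hc ≤ Subgroup.normalizer ((H₁ : Subgroup G) : Set G)) (hn₂ : H₂ ≤ Hc ∧ Hc ≤ Subgroup.normalizer ((H₂ : Subgroup G) : Set G)) (hprod : H₁ ⊔ H₂ = Hc) (hcomm : ⁅H₁, H₂⁆ ≤ Subgroup.normalizer ((Q : Subgroup G) : Set G)) (K₁ K₂ : Subgroup G) (hK₁ : K₁ = ((Cfsg.pResidual p ↥(Cfsg.weakClosure Q (H₁ ⊔ Q))).map ((Cfsg.weakClosure Q (H₁ ⊔ Q))).subtype)) (hK₂ : K₂ = ((Cfsg.pResidual p ↥(Cfsg.weakClosure Q (H₂ ⊔ Q))).map ((Cfsg.weakClosure Q (H₂ ⊔ Q))).subtype)) : (⁅K₁, Q⁆ = K₁ ∧ ⁅K₁, H₁⁆ = K₁ ∧ K₁ ≤ ⁅H₁, H₁⁆ ∧ Hc ≤ Subgroup.normalizer ((K₁ : Subgroup G) : Set G)) ∧ (⁅K₂, Q⁆ = K₂ ∧ ⁅K₂, H₂⁆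 = K₂ ∧ K₂ ≤ ⁅H₂, H₂⁆ ∧ Hc ≤ Subgroup.normalizer ((K₂ : Subgroup G) : Set G)) ∧ K₁ ⊔ K₂ = ((Cfsg.pResidual p ↥Hc).map (Hc).subtype) ∧ ⁅K₁, K₂⁆ ≤ (Cfsg.pCoreOf p Hc) := by
  have w := wc_iff.1 hwc
  rw [w.weakClosure_eq le_top] at hHc
  rw [w.weakClosure_eq le_sup_right] at hK₁ hK₂
  subst hHc
  obtain ⟨a1, a2, a3, a4⟩ := one w hn₁.1 hn₁.2 hn₂.2 hprod hcomm hK₁
  obtain ⟨b1, b2, b3, b4⟩ := one w hn₂.1 hn₂.2 hn₁.2 (sup_comm H₁ H₂ ▸ hprod)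
    (commutator_comm H₁ H₂ ▸ hcomm) hK₂
  refine ⟨a1, b1, le_antisymm (sup_le ?_ ?_) ?_, (commutator_mono le_rfl b3).trans a2⟩
  · rw [hK₁]; exact res_mono (ncl_mono le_rfl le_top)
  · rw [hK₂]; exact res_mono (ncl_mono le_rfl le_top)
  have n := norm_sup a1.2.2.2 b1.2.2.2
  refine res_le_of_le_sup w.pg ((le_ncl _ _).trans n) ((w.ncl_ncl le_top).ge.trans (ncl_le le_sup_left ?_))
  have k : ∀ H K, H ≤ ncl Q ⊤ → K ≤ K₁ ⊔ K₂ → ⁅Q, H⁆ ≤ Q ⊔ K → H ≤ 𝐍 (Q ⊔ (K₁ ⊔ K₂)) := fun H K h1 h2 h3 =>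
    norm_of_commutator_le (comm_sup_le (norm_of_le le_sup_left) (norm_of_le le_sup_right)
      (h3.trans (sup_le_sup_left h2 _)) ((commutator_le_left_of_norm (h1.trans n)).trans le_sup_right))
  exact hprod.ge.trans (sup_le (k _ _ hn₁.1 le_sup_left a4) (k _ _ hn₂.1 le_sup_right b4))

end Cfsg.Agent.S2859
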