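import Cfsg.Statements.S2860
import Cfsg.Agent.S2859
import Cfsg.Agent.Lib.Loc.AmbRed
import Cfsg.Agent.Lib.Grp.Quasi

set_option autoImplicit false
open Cfsg

set_option linter.unusedVariables false
set_option linter.unusedSimpArgs false
set_option linter.style.haveILetI false

namespace Cfsg.Agent.S2860

open CA Subgroup CA.Amb CA.AmbSyl CA.AmbCore CA.AmbRes CA.AmbWC CA.AmbRed CA.Quasi
open scoped commutatorElement

variable {G : Type*} [Group G] {p : ℕ}

theorem comm_subgroupOf {X Y E : Subgroup G} (hX : X ≤ E) (hY : Y ≤ E) :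
    ⁅X, Y⁆.subgroupOf E = ⁅X.subgroupOf E, Y.subgroupOf E⁆ := by
  apply map_injective E.subtype_injective
  rw [map_commutator, map_subgroupOf_eq_of_le hX, map_subgroupOf_eq_of_le hY,
    map_subgroupOf_eq_of_le (comm_le_of_le hX hY)]

theorem le_sub_iff {X Y E : Subgroup G} (hX : X ≤ E) : X.subgroupOf E ≤ Y.subgroupOf E ↔ X ≤ Y :=
  ⟨fun h x hx => h (show (⟨x, hX hx⟩ : E) ∈ X.subgroupOf E from hx), fun h => comap_mono h⟩

theorem qs_quot {K D : Subgroup G} (N : Subgroup K) [N.Normal] (hN : N = D.subgroupOf K) (h1 : ⁅K, K⁆ = K)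
    (h2 : ¬ K ≤ D) (h3 : ∀ H, H ≤ K → K ≤ 𝐍 H → K ⊓ D ≤ H → H = K ∨ ⁅H, K⁆ ≤ D) :
    IsQuasisimple (K ⧸ N) := by
  set f := QuotientGroup.mk' N
  have hf : Function.Surjective f := QuotientGroup.mk'_surjective N
  have t : (⊤ : Subgroup K).map f = ⊤ := map_top_of_surjective f hf
  have e : ⁅(⊤ : Subgroup K), (⊤ : Subgroup K)⁆ = ⊤ := by
    rw [← subgroupOf_self, ← comm_subgroupOf le_rfl le_rfl, h1]
  rw [← qs_top_iff, qs_subgroup_iff]
  refine ⟨t ▸ perfect_map e f, fun h => h2 ?_, fun H _ hn => ?_⟩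
  · rw [← t, Subgroup.map_eq_bot_iff, QuotientGroup.ker_mk', hN, ← subgroupOf_self] at h
    exact (le_sub_iff le_rfl).1 h
  haveI : H.Normal := normal_iff_top_le.2 hn
  refine (h3 ((H.comap f).map K.subtype) (map_subtype_le _) (norm_map_subtype _) fun x hx => ?_).imp
    (fun h => ?_) fun h => ?_
  · refine ⟨⟨x, hx.1⟩, ?_, rfl⟩
    have : f ⟨x, hx.1⟩ = 1 := (QuotientGroup.eq_one_iff _).2 (hN ▸ hx.2)
    simp [this]
  · rw [← map_comap_eq_self_of_surjective hf H, ← t]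
    congr 1
    exact map_injective K.subtype_injective (h.trans (map_subtype_top K).symm)
  · rw [← map_comap_eq_self_of_surjective hf H, ← t, ← commutator_eq_bot_iff', ← map_commutator,
      Subgroup.map_eq_bot_iff, QuotientGroup.ker_mk', commutator_comm]
    refine le_trans ?_ hN.ge
    rw [subgroupOf, ← map_le_iff_le_comap, map_commutator, map_subtype_top]
    exact h


/-- Let Q be a nontrivial large p-subgroup of the finite group H, U a nontrivial elementary abelian p-subgroup of H, and Q ≤ E ≤ N_H(U) with Q not normal in E. Suppose O_p(E/C_E(U)) = 1 and O^p(E)·C_E(U)/C_E(U) is quasisimple. Let E° be the weak closure of Q in E (generated by the conjugates of Q inside E) and E_∘ = O^p(E°). Then O^p(E)·C_E(U) = E_∘·C_E(U); E_∘ is perfect and equals O^p(E_∘); E_∘/C_{E_∘}(U) and E_∘/O_p(E_∘) are quasisimple; and E_∘ = [E_∘, Y] for every p-subgroup Y of E not centralizing U. -/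
theorem result {G : Type*} [Group G] [Finite G] {p : ℕ} [Fact p.Prime] (Q : Subgroup G) (hQp : IsPGroup p ↥Q) (hQ1 : Q ≠ ⊥) (hQ : Cfsg.IsLarge Q) (U : Subgroup G) (hU : Cfsg.IsElementaryAbelian p U) (hU1 : U ≠ ⊥) (E : Subgroup G) (hQE : Q ≤ E) (hEU : E ≤ Subgroup.normalizer ((U : Subgroup G) : Set G)) (hQn : ¬ E ≤ Subgroup.normalizer ((Q : Subgroup G) : Set G)) [hn : ((Subgroup.centralizer ((U : Subgroup G) : Set G)).subgroupOf E).Normal] (hred : Cfsg.pCore p (↥E ⧸ (Subgroup.centralizer ((U : Subgroup G) : Set G)).subgroupOf E) = ⊥) (hqs : Cfsg.IsQuasisimple ↥(((Cfsg.pResidual p ↥E) ⊔ (Subgroup.centralizer ((U : Subgroup G) : Set G)).subgroupOf E).map (QuotientGroup.mk' ((Subgroup.centralizer ((U : Subgroup G) : Set G)).subgroupOf E)))) (Er : Subgroup G) (hEr : Er = ((Cfsg.pResidual p ↥(Cfsg.weakClosure Q E)).map ((Cfsg.weakClosure Q E)).subtype)) [hn2 : ((Subgroup.centralizer ((U : Subgroup G) : Set G)).subgroupOf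 Er).Normal] : ((Cfsg.pResidual p ↥E).map (E).subtype) ⊔ (E ⊓ Subgroup.centralizer ((U : Subgroup G) : Set G)) = Er ⊔ (E ⊓ Subgroup.centralizer ((U : Subgroup G) : Set G)) ∧ ⁅Er, Er⁆ = Er ∧ ((Cfsg.pResidual p ↥Er).map (Er).subtype) = Er ∧ Cfsg.IsQuasisimple (↥Er ⧸ (Subgroup.centralizer ((U : Subgroup G) : Set G)).subgroupOf Er) ∧ Cfsg.IsQuasisimple (↥Er ⧸ Cfsg.pCore p ↥Er) ∧ ∀ Y : Subgroup G, Y ≤ E → IsPGroup p ↥Y → ¬ Y ≤ Subgroup.centralizer ((U : Subgroup G) : Set G) → ⁅Er, Y⁆ = Er := by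
  have w := large_wc hQp hQ1 hQ
  rw [w.weakClosure_eq hQE] at hEr
  change Er = pResidualOf p _ at hEr
  change pResidualOf p E ⊔ _ = _ ∧ _ ∧ pResidualOf p Er = Er ∧ _
  set R := pResidualOf p E
  set C := E ⊓ 𝐂 U with hC
  set O := pCoreOf p E
  set f := QuotientGroup.mk' ((𝐂 U).subgroupOf E)
  have hf : Function.Surjective f := QuotientGroup.mk'_surjective _
  have kf : f.ker = C.subgroupOf E := by rw [QuotientGroup.ker_mk', hC, inf_subgroupOf_left]
  let φ : Subgroup G → Subgroup _ := fun X => (X.subgroupOf E).map f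
  have cE : C ≤ E := inf_le_left
  have f1 : ∀ {X Y}, X ≤ E → Y ≤ E → φ ⁅X, Y⁆ = ⁅φ X, φ Y⁆ := fun hX hY => by
    simp only [φ]; rw [comm_subgroupOf hX hY, map_commutator]
  have f2 : ∀ {X Y}, X ≤ E → Y ≤ E → (φ X ≤ φ Y ↔ X ≤ Y ⊔ C) := fun hX hY => by
    simp only [φ]; rw [Subgroup.map_le_map_iff, kf, ← subgroupOf_sup hY cE, le_sub_iff hX]
  have f3 : ∀ {X}, X ≤ E → (φ X = ⊥ ↔ X ≤ C) := fun hX => by
    simp only [φ]; rw [Subgroup.map_eq_bot_iff, kf, le_sub_iff hX]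
  have f4 : ∀ {X}, X ≤ E → φ (pResidualOf p X) = pResidualOf p (φ X) := fun hX => by
    simp only [φ]; rw [← res_subgroupOf hX, map_res]
  have f5 : ∀ {X Y}, X ≤ E → Y ≤ 𝐍 X → φ Y ≤ 𝐍 (φ X) := fun hX hY =>
    norm_map f (by rw [normalizer_subgroupOf hX]; exact comap_mono hY)
  have fE : φ E = ⊤ := by simp only [φ]; rw [subgroupOf_self, map_top_of_surjective f hf]
  have rE : R ≤ E := res_le _ _
  have hR : IsQuasisimple (φ R) := by
    rw [Subgroup.map_sup, (Subgroup.map_eq_bot_iff _).2 (QuotientGroup.ker_mk' _).ge, sup_bot_eq,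
      ← subgroupOf_res] at hqs
    exact hqs
  have nR : ⊤ ≤ 𝐍 (φ R) := fE ▸ f5 rE (norm_res _ _)
  have cen : ∀ Y, Y ≤ E → IsPGroup p Y → ¬ Y ≤ 𝐂 U → ⁅φ R, φ Y⁆ = φ R := fun Y y1 y2 y3 => by
    refine (qs_commutator_eq hR (le_top.trans nR)).resolve_right fun e => y3 ?_
    refine ((f3 y1).1 ?_).trans inf_le_right
    obtain ⟨T, hT, t1⟩ := exists_sylIn_ge ((isPGroup_subgroupOf y2 E).map f) (commutator_eq_bot_iff'.1 e)
    have r1 : pResidualOf p (𝐂 (φ R)) ≤ φ R := by rw [f4 le_rfl, fE]; exact res_mono le_top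
    have n : 𝐂 (φ R) ≤ 𝐍 T := (syl_sup_res hT).ge.trans (sup_le le_normalizer
      (norm_of_centralizer (r1.trans (cent_symm hT.le))))
    refine le_bot_iff.1 (t1.trans ((le_pCoreOf hT.le hT.pg n).trans
      ((pCoreOf_le_of_norm le_top (norm_centralizer nR)).trans ?_)))
    rw [pCoreOf_top, hred]
  have cQ : C ≤ 𝐍 Q := inf_le_right.trans (large_cent_le hQp hQ (AmbSpe.ea_pg hU) hU1 (hQE.trans hEU))
  have nC : E ≤ 𝐍 C := norm_inf le_normalizer (norm_centralizer hEU)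
  have nO : E ≤ 𝐍 O := norm_pCoreOf _ _
  have oC : O ≤ 𝐂 U := (redFor_iff_quot.1 hred).pCoreOf_le
  have d1 : ⁅Q, C⁆ ≤ O := (le_pCoreOf (commutator_le_right_of_norm (hQE.trans nC))
    (hQp.to_le (commutator_le_left_of_norm cQ)) (norm_comm_right _ _)).trans (pCoreOf_le_of_norm cE nC)
  have d2 : ⁅ncl Q E, C⁆ ≤ O := comm_ncl_le nC nO (hQE.trans nO) d1
  have q1 : ¬ Q ≤ 𝐂 U := fun e => hQn (nO.trans (w.normalizer_le (isPGroup_pCoreOf p E)
    ((le_pCoreOf (le_inf hQE e) hQp cQ).trans (pCoreOf_le_of_norm cE nC))))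
  have nE : ncl Q E ≤ E := ncl_le_of_le hQE
  have kN : Er ≤ ncl Q E := hEr ▸ res_le _ _
  have kE : Er ≤ E := kN.trans nE
  have nK : E ≤ 𝐍 Er := hEr ▸ norm_res_of_norm (norm_ncl _ _)
  have rK : pResidualOf p Er = Er := by rw [hEr, res_res]
  have kR : Er ≤ R := hEr ▸ res_mono nE
  have e1 : φ R = φ Er := by
    refine le_antisymm ?_ (map_mono (comap_mono kR))
    have : φ R ≤ φ (ncl Q E) := by
      rw [← cen Q hQE hQp q1, ← f1 rE hQE]
      exact map_mono (comap_mono ((commutator_mono le_rfl (le_ncl _ _)).trans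
        (commutator_le_right_of_norm (rE.trans (norm_ncl _ _)))))
    rw [hEr, f4 nE, show R = pResidualOf p R from (res_res p E).symm, f4 rE]
    exact res_mono this
  rw [e1] at hR cen
  have c1 := (S2859.circ w hQE).1
  rw [← hEr] at c1
  have oK : Er ⊓ O ≤ pCoreOf p Er := inf_pCoreOf_le kE
  have d3 : ⁅Er ⊓ C, Er⁆ ≤ pCoreOf p Er := le_trans (le_inf (comm_le_of_le inf_le_left le_rfl)
    (by rw [commutator_comm]; exact (commutator_mono kN inf_le_right).trans d2)) oK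
  have n1 : E ≤ 𝐍 ⁅Er, Er⁆ := norm_commutator nK nK
  have pf : ⁅Er, Er⁆ = Er := by
    refine le_antisymm (comm_le_of_le le_rfl le_rfl) (rK.ge.trans (res_le_of_le_sup (isPGroup_pCoreOf p E)
      ((pCoreOf_le _ _).trans n1) (c1.ge.trans ?_)))
    have : Er ≤ ⁅Er, Er⁆ ⊔ C := (f2 kE (comm_le_of_le kE kE)).1 (by rw [f1 kE kE, qs_commutator hR])
    exact (commutator_mono this le_rfl).trans (comm_sup_le ((comm_le_of_le kE kE).trans (norm_sup nO n1))
      (cE.trans (norm_sup nO n1)) ((commutator_le_left_of_norm (hQE.trans n1)).trans le_sup_right)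
      (by rw [commutator_comm]; exact d1.trans le_sup_left))
  have kC : ¬ Er ≤ 𝐂 U := fun e => qs_ne_bot hR ((f3 kE).2 (le_inf kE e))
  have ded : ∀ H, H ≤ Er → Er ≤ 𝐍 H → φ H = φ Er → Er ≤ (Er ⊓ C) ⊔ H := fun H h1 h2 e x hx => by
    obtain ⟨y, hy, z, hz, rfl⟩ := (mem_sup_of_norm ((h1.trans kE).trans nC)).1
      ((f2 kE (h1.trans kE)).1 e.ge hx)
    rw [sup_comm]
    exact mul_mem_sup hy ⟨(mul_mem_cancel_left (h1 hy)).1 hx, hz⟩
  have ded2 : ∀ H, H ≤ Er → Er ≤ 𝐍 H → φ H = φ Er → H = Er := fun H h1 h2 e => by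
    have m : Er ≤ 𝐍 (pCoreOf p Er ⊔ H) := norm_sup (norm_pCoreOf _ _) h2
    refine le_antisymm h1 (rK.ge.trans (res_le_of_le_sup (isPGroup_pCoreOf p Er)
      ((pCoreOf_le _ _).trans h2) (pf.ge.trans ((commutator_mono (ded H h1 h2 e) le_rfl).trans
        (comm_sup_le (inf_le_left.trans m) (h1.trans m) (d3.trans le_sup_left)
          ((commutator_le_left_of_norm h2).trans le_sup_right))))))
  have alt : ∀ H, H ≤ Er → Er ≤ 𝐍 H → H = Er ∨ ⁅H, Er⁆ ≤ C := fun H h1 h2 =>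
    (qs_of_le_normalizer hR (map_mono (comap_mono h1)) (f5 (h1.trans kE) h2)).imp (ded2 H h1 h2) fun e => by
      rw [← f3 (comm_le_of_le (h1.trans kE) kE), f1 (h1.trans kE) kE]
      exact comm_eq_bot_of_le e
  refine ⟨le_antisymm (sup_le ((f2 rE kE).1 e1.le) le_sup_right) (sup_le_sup_right kR _), pf, rK,
    qs_quot _ rfl pf kC fun H h1 h2 _ => (alt H h1 h2).imp id fun e => e.trans inf_le_right,
    qs_quot _ (subgroupOf_pCoreOf p Er).symm pf (fun e => kC (e.trans ((pCoreOf_le_of_norm kE nK).trans oC)))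
      fun H h1 h2 _ => (alt H h1 h2).imp id fun e => ?_, fun Y y1 y2 y3 => ?_⟩
  · have m := norm_pCoreOf p Er
    have x : ⁅⁅H, Er⁆, Er⁆ ≤ pCoreOf p Er :=
      (commutator_mono (le_inf (comm_le_of_le h1 le_rfl) e) le_rfl).trans d3
    have y := three_subgroups m m (h1.trans m) (by rwa [commutator_comm Er H]) x
    rwa [pf, commutator_comm] at y
  · exact ded2 _ (commutator_le_left_of_norm (y1.trans nK)) (norm_comm_left _ _)
      (by rw [f1 kE y1, cen Y y1 y2 y3])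

end Cfsg.Agent.S2860
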