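import Cfsg.Statements.S2861
import Cfsg.Agent.Lib.Loc.H6YM

set_option autoImplicit false
open Cfsg

set_option linter.unusedVariables false
set_option linter.unusedSimpArgs false
set_option linter.style.haveILetI false

namespace Cfsg.Agent.S2861

open CA Subgroup CA.Amb CA.AmbSyl CA.AmbCore CA.AmbRes CA.AmbWC CA.AmbSpe CA.H6YM
open scoped commutatorElement

/-- Standing hypotheses: G a finite group, S a Sylow p-subgroup, Q a nontrivial large p-subgroup of G contained in S, M a subgroup containing S with the basic property (M ∈ 𝔐_G(S)); Y_M the largest p-reduced normal subgroup of M and M† = M·C_G(Y_M). Let L ∈ 𝔏_G(Y_M) (L ∈ 𝔏_G(Y_M): Y_M ≤ L; O_p(L) is the normal closure in L of Y_M ∩ O_p(L) and normalizes Y_M; L is Y_M-minimal of characteristic p with N_L(Y_M) its unique maximal subgroup over Y_M; and L/O_p(L) ≅ SL₂(q) with q = |Y_M : Y_M ∩ O_p(L)|, or p = 2 and L/O_p(L) is a Suzuki group Sz(q) or dihedral of order 2r, r an odd prime) and A = O_p(L). Then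 Y_M·A/A is the unique nontrivial elementary abelian normal p-subgroup of N_L(Y_M)/A. -/
theorem result {G : Type*} [Group G] [Finite G] {p : ℕ} [Fact p.Prime] (S : Sylow p G) (Q : Subgroup G) (hQp : IsPGroup p ↥Q) (hQ1 : Q ≠ ⊥) (hQS : Q ≤ (S : Subgroup G)) (hQ : Cfsg.IsLarge Q) (M : Subgroup G) (hSM : (S : Subgroup G) ≤ M) (hM : Cfsg.IsInFrakM p M) (L : Subgroup G) (hL : Cfsg.IsInFrakL p M L) (NL : Subgroup G) (hNL : NL = L ⊓ Subgroup.normalizer (((Cfsg.largestPReducedOf p M) : Subgroup G) : Set G)) [hn : (((Cfsg.pCoreOf p L)).subgroupOf NL).Normal] : let Ybar : Subgroup (↥NL ⧸ ((Cfsg.pCoreOf p L)).subgroupOf NL) := (((Cfsg.largestPReducedOf p M)).subgroupOf NL).map (QuotientGroup.mk' (((Cfsg.pCoreOf p L)).subgroupOf NL)); Ybar ≠ ⊥ ∧ Ybar.Normal ∧ Cfsg.IsElementaryAbelian p Ybar ∧ ∀ (V : Subgroup (↥NL ⧸ ((Cfsg.pCoreOf p L)).subgroupOf NL)), V.Normal → Cfsg.IsElementaryAbelian p V → V ≠ ⊥ → V = Ybar := by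
  obtain ⟨y, Γ, _, f, hf, hk, r⟩ := ex_rk hL
  have h1 := hL.1
  generalize largestPReducedOf p M = Y at *
  have hl : NL ≤ L := hNL ▸ inf_le_left
  have hY : Y ≤ NL := hNL ▸ le_inf h1 le_normalizer
  set ψ := f.comp (inclusion hl)
  have kψ : (pCoreOf p L).subgroupOf NL = ψ.ker := by
    ext x
    rw [← MonoidHom.comap_ker, hk, mem_comap, ← mem_pCoreOf_iff]; rfl
  set φ := QuotientGroup.lift _ ψ kψ.le
  have iφ : Function.Injective φ := (QuotientGroup.injective_lift_iff _ _ _).2 kψ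
  have m : ∀ X : Subgroup G, X ≤ NL → ((X.subgroupOf NL).map (QuotientGroup.mk' _)).map φ = (X.subgroupOf L).map f :=
    fun X hX => by
      rw [Subgroup.map_map, QuotientGroup.lift_comp_mk', ← Subgroup.map_map]
      congr 1
      apply map_injective L.subtype_injective
      rw [Subgroup.map_map, subtype_comp_inclusion, map_subgroupOf_eq_of_le hX, map_subgroupOf_eq_of_le (hX.trans hl)]
  have t : (⊤ : Subgroup _).map φ = 𝐍 ((Y.subgroupOf L).map f) := by
    rw [← map_top_of_surjective _ (QuotientGroup.mk'_surjective _), ← subgroupOf_self, m _ le_rfl,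
      ← y.map_norm hk hf, normalizer_subgroupOf h1, hNL, inf_subgroupOf_left]
  intro Yb
  have ea := (ea_subgroupOf_iff hY).2 ((ea_subgroupOf_iff h1).1 y.ea)
  refine ⟨fun e => y.not_le ?_, ?_, ea_map _ ea, fun V v1 v2 v3 => map_injective iφ ?_⟩
  · rw [← hk, ← Subgroup.map_eq_bot_iff, ← m Y hY]
    exact (congrArg (Subgroup.map φ) e).trans (Subgroup.map_bot _)
  · exact (normal_subgroupOf_of_norm (hNL ▸ inf_le_right)).map _ (QuotientGroup.mk'_surjective _)
  · rw [m Y hY]
    exact r.un _ (t ▸ map_mono le_top) (t ▸ norm_map φ norm_of_normal) (ea_map _ v2)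
      fun e => v3 ((map_eq_bot_iff_of_injective _ iφ).1 e)

end Cfsg.Agent.S2861
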