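import Cfsg.Statements.S2862
import Cfsg.Agent.Lib.Loc.AmbM
import Cfsg.Agent.Lib.Grp.Hyperfocal

set_option autoImplicit false
open Cfsg

set_option linter.unusedVariables false
set_option linter.unusedSimpArgs false
set_option linter.style.haveILetI false

namespace Cfsg.Agent.S2862

open CA Subgroup CA.Amb CA.AmbSyl CA.AmbCore CA.AmbRes CA.AmbChar CA.AmbWC CA.AmbSpe CA.AmbRed CA.AmbFs CA.AmbM
open scoped commutatorElement

variable {G : Type*} [Group G] [Finite G] {p : ℕ} [Fact p.Prime]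

theorem cnt {B B' D : Subgroup G} {x : G} (hc : Nat.card B' = Nat.card B) (h1 : D ≤ B) (h2 : D ≤ B')
    (h3 : ∀ b ∈ B, ⁅b, x⁆ ∈ B') (h4 : B ≤ 𝐍 D) (h5 : x ∈ 𝐍 D) (h6 : ∀ b ∈ B, ⁅b, x⁆ ∈ D → b ∈ D) {t : G}
    (ht : t ∈ B') : ∃ b ∈ B, ⁅b⁻¹, x⁆⁻¹ * t ∈ D := by
  let f : B ⧸ D.subgroupOf B → B' ⧸ D.subgroupOf B' := fun q => QuotientGroup.mk ⟨_, h3 _ q.out.2⟩
  have i : Function.Injective f := fun q r e => by
    have e1 : ⁅(q.out : G), x⁆⁻¹ * ⁅(r.out : G), x⁆ ∈ D := mem_subgroupOf.1 (QuotientGroup.eq.1 e)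
    rw [← q.out_eq, ← r.out_eq]
    refine QuotientGroup.eq.2 (mem_subgroupOf.2 (h6 ((q.out : G)⁻¹ * r.out) (mul_mem (inv_mem q.out.2) r.out.2) ?_))
    have c := inv_conj_mem_of_mem_normalizer (mul_mem (mul_mem h5 (h4 q.out.2)) (inv_mem h5)) e1
    convert c using 1
    simp only [commutatorElement_def]; group
  have hb := i.bijective_of_nat_card_le (by
    have a := card_mul_relIndex h1
    have b := card_mul_relIndex h2
    rw [hc, ← a] at b
    exact (Nat.eq_of_mul_eq_mul_left Nat.card_pos b).le)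
  obtain ⟨q, e⟩ := hb.2 (QuotientGroup.mk ⟨t, ht⟩)
  exact ⟨_, inv_mem q.out.2, by rw [inv_inv]; exact mem_subgroupOf.1 (QuotientGroup.eq.1 e)⟩

theorem exists_mut {S K : Subgroup G} (h : SN K S) (hn : ¬ K ≤ 𝐍 S) :
    ∃ x ∈ K, x ∉ 𝐍 S ∧ cj x S ≤ 𝐍 S ∧ cj x⁻¹ S ≤ 𝐍 S := by
  obtain ⟨H, h1, ⟨h2, h3⟩, h4⟩ := Finite.exists_le_maximal
    (p := fun H : Subgroup G => Subn.SN H K ∧ H ≤ 𝐍 S) ⟨sn_iff.1 h, le_normalizer⟩
  obtain ⟨N, n1, n2, n3⟩ := h2.exists_step (fun e => hn (e ▸ h3))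
  have : ¬ N ≤ 𝐍 S := fun e => n1.not_ge (h4 ⟨n3, e⟩ n1.le)
  obtain ⟨x, hx, hx'⟩ := SetLike.not_le_iff_exists.1 this
  exact ⟨x, n3.1 hx, hx', (cj_le_of_le h1 (n2 hx)).trans h3, (cj_le_of_le h1 (inv_mem (n2 hx))).trans h3⟩

theorem stab {H J V₁ V₂ : Subgroup G} (cH : CharP p H) (hJ : J ≤ H) (h1 : ⁅pCoreOf p H, J⁆ ≤ V₁)
    (h2 : ⁅V₁, J⁆ ≤ V₂) (h3 : ⁅V₂, J⁆ ≤ ⊥) : IsPGroup p J := by
  have r := res_le p J
  have k := fun W => comm_res_le_of_le (W := W) (isPGroup_pCoreOf p H) (hJ.trans (norm_pCoreOf p H))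
  exact res_eq_bot_iff.1 (cH.res_eq_bot (r.trans hJ) (commutator_eq_bot_iff'.1 (le_bot_iff.1
    ((k _ ((k _ ((commutator_mono le_rfl r).trans h1)).trans ((commutator_mono le_rfl r).trans h2))).trans
      ((commutator_mono le_rfl r).trans h3)))))

theorem umax {Y L : Subgroup G} (hp : IsPGroup p Y) (hYL : Y ≤ L) (hYO : ¬ Y ≤ pCoreOf p L)
    (hm : ∀ X, Y ≤ X → X < L → SN X Y) : ∃ K, UMax Y K L := by
  have h1 : ¬ (Y.subgroupOf L).IsSubnormal := fun e => hYO ((sn_iff.2 ⟨hYL, e⟩).le_pCoreOf hp)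
  obtain ⟨K, k1, k2⟩ := exists_coatom (X := Y.subgroupOf L) fun e => h1 (e ▸ .top)
  obtain ⟨K', k⟩ := unique_coatom_iff_umax.1 ⟨K, ⟨k1, k2⟩, fun K' k => Subn.zipper _ (fun X x1 x2 => by
    have := Subn.SN.subgroupOf (sn_iff.1 (hm (X.map L.subtype) (by rwa [← map_subgroupOf_eq_of_le hYL, map_subtype_le_map_subtype])
      (lt_of_le_of_ne (map_subtype_le _) fun e => x1 (map_injective L.subtype_injective
        (e.trans (map_subtype_top L).symm))))) L
    rwa [subgroupOf, subgroupOf, comap_map_eq_self_of_injective L.subtype_injective] at this) h1 k.1 k1 k.2 k2⟩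
  exact ⟨_, map_subgroupOf_eq_of_le hYL ▸ k.map_subtype⟩


/-- Standing hypotheses: G a finite group, S a Sylow p-subgroup, Q a nontrivial large p-subgroup of G contained in S, M a subgroup containing S with the basic property (M ∈ 𝔐_G(S)); Y_M the largest p-reduced normal subgroup of M and M† = M·C_G(Y_M). Suppose Y_M is char-p-tall and asymmetric in G, H ∈ ℌ_G(O_p(M)), and L is minimal among the subgroups of H containing Y_M with Y_M ≰ O_p(L). Then H = ⟨L, O_p(M)⟩ = ⟨hY_Mh⁻¹, O_p(M)⟩ for every h ∈ L outside N_L(Y_M); L is Y_M-minimal and of characteristic p, with N_L(Y_M) the unique maximal subgroup of L containing Y_M; [V, O^p(L)] ≠ 1 for every noncentral chief factor V/W of H inside O_p(H) (that is, O^p(L) does not act trivially on V/W); and the normal closure of O_p(L) ∩ Y_M in L lies in O_p(H). -/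
theorem result {G : Type*} [Group G] [Finite G] {p : ℕ} [Fact p.Prime] (S : Sylow p G) (Q : Subgroup G) (hQp : IsPGroup p ↥Q) (hQ1 : Q ≠ ⊥) (hQS : Q ≤ (S : Subgroup G)) (hQ : Cfsg.IsLarge Q) (M : Subgroup G) (hSM : (S : Subgroup G) ≤ M) (hM : Cfsg.IsInFrakM p M) (htall : Cfsg.IsCharPTall p (Cfsg.largestPReducedOf p M)) (hasym : ¬ Cfsg.IsSymmetricIn (Cfsg.largestPReducedOf p M)) (H : Subgroup G) (hH : Cfsg.IsInFrakH p M H) (L : Subgroup G) (hLH : L ≤ H) (hYL : (Cfsg.largestPReducedOf p M) ≤ L) (hYO : ¬ (Cfsg.largestPReducedOf p M) ≤ (Cfsg.pCoreOf p L)) (hmin : ∀ L' : Subgroup G, L' ≤ L → (Cfsg.largestPReducedOf p M) ≤ L' → ¬ (Cfsg.largestPReducedOf p M) ≤ (Cfsg.pCoreOf p L') → L' = L) : (L ⊔ (Cfsg.pCoreOf p M) = H ∧ ∀ h ∈ L, h ∉ Subgroup.normalizer (((Cfsg.largestPReducedOf p M) : Subgroup G) : Set G) → (((Cfsg.largestPReducedOf p M) : Subgroup G).map (MulAut.conj (h : G)).toMonoidHom) ⊔ (Cfsg.pCoreOf p M) = H) ∧ (Cfsg.IsMinimalOver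 (((Cfsg.largestPReducedOf p M)).subgroupOf L) ∧ Subgroup.centralizer (Cfsg.pCore p ↥L : Set ↥L) ≤ Cfsg.pCore p ↥L ∧ L ⊓ Subgroup.normalizer (((Cfsg.largestPReducedOf p M) : Subgroup G) : Set G) < L ∧ ∀ X : Subgroup G, (Cfsg.largestPReducedOf p M) ≤ X → X < L → X ≤ L ⊓ Subgroup.normalizer (((Cfsg.largestPReducedOf p M) : Subgroup G) : Set G)) ∧ (∀ V W' : Subgroup G, V ≤ (Cfsg.pCoreOf p H) → H ≤ Subgroup.normalizer ((V : Subgroup G) : Set G) → H ≤ Subgroup.normalizer ((W' : Subgroup G) : Set G) → W' < V → (∀ Z' : Subgroup G, H ≤ Subgroup.normalizer ((Z' : Subgroup G) : Set G) → W' ≤ Z' → Z' ≤ V → Z' = W' ∨ Z' = V) → ¬ ⁅V, H⁆ ≤ W' → ¬ ⁅V, ((Cfsg.pResidual p ↥L).map (L).subtype)⁆ ≤ W') ∧ (Subgroup.normalClosure (((((Cfsg.pCoreOf p L) ⊓ (Cfsg.largestPReducedOf p M)).subgroupOf L : Subgroup ↥L)) : Set ↥L)).map L.subtype ≤ (Cfsg.pCoreOf p H) := by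
  have fm : FM p (S : Subgroup G) M := ⟨large_Parab hQp hQ, sylIn_top S, hSM, hM⟩
  obtain ⟨cH, oH, a2, a3⟩ := hH
  rw [← AmbChar.charP_iff] at cH
  have ea : IsElementaryAbelian p (largestPReducedOf p M) := (red_YL p M).ea
  have yO : largestPReducedOf p M ≤ pCoreOf p M := fm.Y_le_core
  have oC : pCoreOf p M ≤ 𝐂 (largestPReducedOf p M) := fm.core_syl.le
  have nO : 𝐍 (pCoreOf p M) ≤ 𝐍 (largestPReducedOf p M) := fm.normalizer_core_le.trans fm.dag_eq.ge
  have wc := fm.wc hasym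
  clear fm htall hM
  rw [map_normalClosure_subgroupOf (inf_le_right.trans hYL), isMinimalOver_subgroupOf_iff hYL, ← AmbChar.charP_iff]
  change _ ∧ _ ∧ (∀ V W', _ → _ → _ → _ → _ → _ → ¬ ⁅V, pResidualOf p L⁆ ≤ W') ∧ _
  generalize largestPReducedOf p M = Y, pCoreOf p M = O at *
  have hp := ea_pg ea
  have yc := ea_le_cent ea
  have hm : ∀ X, Y ≤ X → X < L → Y ≤ pCoreOf p X := fun X h1 h2 => by_contra fun e => h2.ne (hmin X h2.le h1 e)
  have sn : ∀ X, Y ≤ X → X < L → SN X Y := fun X h1 h2 => (SN.of_norm (pCoreOf_le p X) (norm_pCoreOf p X)).trans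
    (sn_of_isPGroup (isPGroup_pCoreOf p X) (hm X h1 h2))
  obtain ⟨K, um⟩ := umax hp hYL hYO sn
  have nc : ncl Y L = L := by_contra fun e => hYO ((hm _ (le_ncl _ _) (lt_of_le_of_ne (ncl_le_of_le hYL) e)).trans
    (pCoreOf_le_of_norm (ncl_le_of_le hYL) (norm_ncl _ _)))
  have gen : L ⊔ O = H := by_contra fun e => hYO ((le_inf hYL (a3 _ le_sup_right
    (lt_of_le_of_ne (sup_le hLH oH) e))).trans (inf_pCoreOf_le le_sup_left))
  set V := pCoreOf p H with hV
  have vp : IsPGroup p V := isPGroup_pCoreOf p H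
  have nV : H ≤ 𝐍 V := norm_pCoreOf p H
  have vO : V ≤ 𝐍 O := wc.norm_of_norm vp (oH.trans nV)
  have vY := vO.trans nO
  obtain ⟨h, hL, hK⟩ := SetLike.not_le_iff_exists.1 um.not_le
  have yx := um.sup_cj nc hL hK
  have cV := cj_eq_self (nV (hLH hL))
  set X := cj h Y with hX
  have xL : X ≤ L := yx ▸ le_sup_right
  have vX : V ≤ 𝐍 X := by rw [hX, ← cj_normalizer, ← cV]; exact cj_mono h vY
  have xc : X ≤ 𝐂 X := ea_le_cent (ea_cj ea h)
  set D := Y ⊓ 𝐂 L
  have dX : ∀ x ∈ 𝐂 L, x ∈ X ↔ x ∈ Y := fun x hx => by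
    rw [hX, mem_cj, mul_assoc, ← mem_centralizer_sub.1 hx h hL, inv_mul_cancel_left]
  have dc : H ≤ 𝐂 D := gen ▸ sup_le (cent_symm inf_le_right) (oC.trans (centralizer_anti inf_le_left))
  have dV : D ≤ V := le_pCoreOf (inf_le_left.trans (hYL.trans hLH)) (hp.to_le inf_le_left) (norm_of_centralizer dc)
  have cL : 𝐂 Y ⊓ 𝐂 X ≤ 𝐂 L := by rw [← centralizer_sup, yx]
  have vy : ⁅V, Y⁆ ≤ Y ⊓ V := le_inf (commutator_le_right_of_norm vY)
    (commutator_le_left_of_norm ((hYL.trans hLH).trans nV))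
  have vx : ⁅V, X⁆ ≤ X ⊓ V := le_inf (commutator_le_right_of_norm vX)
    (commutator_le_left_of_norm ((xL.trans hLH).trans nV))
  set W := (Y ⊓ V) ⊔ (X ⊓ V)
  have wV : W ≤ V := sup_le inf_le_right inf_le_right
  have y1 : Y ≤ 𝐍 W := norm_of_between (vy.trans le_sup_left) wV
  have x1 : X ≤ 𝐍 W := norm_of_between (vx.trans le_sup_right) wV
  have lW : L ≤ 𝐍 W := yx ▸ sup_le y1 x1
  have vl : ⁅V, L⁆ ≤ W := yx ▸ comm_sup_le' y1 x1 (vy.trans le_sup_left) (vx.trans le_sup_right)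
  have cW : W ⊓ 𝐂 Y ≤ Y := fun w hw => by
    obtain ⟨a, ha, b, hb, rfl⟩ := (mem_sup_of_norm (inf_le_right.trans (norm_inf vX le_normalizer))).1 hw.1
    exact mul_mem ha.1 ((dX b (cL ⟨((𝐂 Y).mul_mem_cancel_left (yc ha.1)).1 hw.2, xc hb.1⟩)).1 hb.1)
  obtain ⟨x, hx, xK⟩ := SetLike.not_le_iff_exists.1 fun e : X ≤ K => um.not_le (yx ▸ sup_le um.le e)
  have nrm : ∀ z ∈ 𝐂 Y, ⁅z, x⁆ ∈ D → z ∈ 𝐂 L := fun z h1 h2 => by
    have w : D ⊔ zpowers z ≤ 𝐂 Y := sup_le (inf_le_left.trans yc) (zpowers_le.2 h1)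
    have n : L ≤ 𝐍 (D ⊔ zpowers z) := (um.eq_of_not_le (X := L ⊓ 𝐍 (D ⊔ zpowers z))
      (le_inf hYL (norm_of_centralizer (cent_symm w))) inf_le_left fun e => xK (e ⟨xL hx,
        mem_normalizer_of_cj_le (by
          rw [cj_sup, cj_zpowers, cj_eq_self (norm_of_centralizer dc (hLH (xL hx)))]
          refine sup_le le_sup_left (zpowers_le.2 ?_)
          simpa [commutatorElement_def, mul_assoc] using mul_mem_sup (inv_mem h2) (mem_zpowers z))⟩)).ge.trans
            inf_le_right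
    exact cent_symm (nc.ge.trans (ncl_le_cent n (cent_symm w))) (mem_sup_right (mem_zpowers z))
  set V₁ := V ⊓ 𝐂 Y
  have v1 : V₁ ≤ (Y ⊓ V) ⊔ (V ⊓ 𝐂 L) := fun z hz => by
    obtain ⟨b, hb, e⟩ := cnt (B := Y ⊓ V) (B' := X ⊓ V) (D := D) (x := x) (by rw [hX, ← cV, ← cj_inf, card_cj, cV])
      (le_inf inf_le_left dV) (le_inf (fun d hd => (dX d hd.2).2 hd.1) dV)
      (fun b hb => vx (commutator_mem_commutator hb.2 hx))
      (norm_of_centralizer ((inf_le_right.trans (pCoreOf_le p H)).trans dc)) (norm_of_centralizer dc (hLH (xL hx)))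
      (fun b hb e => ⟨hb.1, nrm b (yc hb.1) e⟩) (vx (commutator_mem_commutator hz.1 hx))
    have := nrm (b * z) (mul_mem (yc hb.1) hz.2) (by
      have c := conj_mem_of_mem_normalizer (norm_of_centralizer dc (mul_mem (mul_mem (hLH (xL hx))
        (hLH (hYL hb.1))) (inv_mem (hLH (xL hx))))) e
      convert c using 1
      simp only [commutatorElement_def]; group)
    simpa using mul_mem_sup (inv_mem hb) (show b * z ∈ V ⊓ 𝐂 L from ⟨mul_mem hb.2 hz.1, this⟩)
  have vo : ⁅V, O⁆ ≤ V₁ := le_inf (commutator_le_left_of_norm (oH.trans nV)) ((commutator_le_right_of_norm vO).trans oC)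
  have bo : ⁅Y ⊓ V, O⁆ ≤ ⊥ := (comm_eq_bot_of_le' (oC.trans (centralizer_anti inf_le_left))).le
  have b1 : Y ⊓ V ≤ V₁ := le_inf inf_le_right (inf_le_left.trans yc)
  have main : L ⊓ 𝐍 (Y ⊓ V) ≤ 𝐍 Y := fun g hg => by
    set N := L ⊓ 𝐍 (Y ⊓ V)
    have nH : N ≤ H := inf_le_left.trans hLH
    have c0 : ⁅Y ⊓ V, N⁆ ≤ Y ⊓ V := commutator_le_left_of_norm inf_le_right
    have c1 : ⁅V₁, N⁆ ≤ Y ⊓ V := (commutator_mono v1 le_rfl).trans (comm_sup_le le_normalizer
      (norm_of_centralizer (inf_le_right.trans (centralizer_anti (inf_le_left.trans hYL)))) c0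
      ((comm_eq_bot_of_le (inf_le_right.trans (centralizer_anti inf_le_left))).le.trans bot_le))
    have n1 : N ≤ 𝐍 V₁ := norm_of_commutator_le (c1.trans b1)
    have c2 := (commutator_mono (inf_le_left : V₁ ≤ V) le_rfl).trans vo
    have j := stab (J := ⁅N, O⁆) (V₁ := V₁) (V₂ := Y ⊓ V) cH (comm_le_of_le nH oH) ?_ ?_ ?_
    · exact nO (cj_eq_self_iff.1 (wc.eq (isPGroup_sup_of_norm wc.pg j (norm_comm_right _ _)) le_sup_left
        ((cj_le_ncl O hg).trans (by rw [ncl_eq_sup, commutator_comm]))))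
    all_goals rw [commutator_comm]
    · exact three_subgroups n1 (norm_of_commutator_le c2) (norm_inf le_normalizer (norm_centralizer vY))
        ((commutator_mono ((commutator_comm _ _).le.trans vo) le_rfl).trans (c1.trans b1))
        ((commutator_mono (commutator_le_left_of_norm (nH.trans nV)) le_rfl).trans vo)
    · exact three_subgroups inf_le_right (norm_of_commutator_le (bo.trans bot_le))
        (inf_le_left.trans (norm_inf vY le_normalizer))
        ((commutator_mono ((commutator_comm _ _).le.trans c2) le_rfl).trans c1)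
        ((commutator_mono c1 le_rfl).trans (bo.trans bot_le))
    · exact three_subgroups norm_of_normal norm_of_normal norm_of_normal
        ((commutator_mono ((commutator_comm _ _).le.trans bo) le_rfl).trans (commutator_bot_left _).le)
        ((commutator_mono c0 le_rfl).trans bo)
  have kN : K ≤ 𝐍 Y := by_contra fun e => by
    obtain ⟨g, g1, g2, g3, g4⟩ := exists_mut (sn K um.le um.lt) e
    have c := asym_cent hasym (a := g) (b := 1) (by rwa [cj_one]) (by rwa [cj_one, ← cj_normalizer, le_cj_iff])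
    rw [cj_one] at c
    have gL := um.lt.le g1
    exact g2 (main ⟨gL, mem_normalizer_of_cj_le (le_inf ((le_inf (cj_le_of_le le_sup_left (lW gL))
      ((cj_mono g inf_le_left).trans c)).trans cW) (cj_le_of_le inf_le_right (nV (hLH gL))))⟩)
  have nl : L ⊓ 𝐍 Y < L := lt_of_le_of_ne inf_le_left fun e => hYO (le_pCoreOf hYL hp (e.ge.trans inf_le_right))
  obtain rfl : K = L ⊓ 𝐍 Y := le_antisymm (le_inf um.lt.le kN) (um.max (le_inf hYL le_normalizer) nl)
  set A := pCoreOf p L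
  have wA : W ≤ A := le_pCoreOf (sup_le (inf_le_left.trans hYL) (inf_le_left.trans xL)) (vp.to_le wV) lW
  refine ⟨⟨gen, fun k k1 k2 => ?_⟩, ⟨⟨nc, _, um⟩, ?_, nl, um.2.2⟩, fun U W' u1 u2 u3 u4 u5 u6 u7 => ?_, ?_⟩
  · rw [← gen, ← um.sup_cj nc k1 fun e => k2 e.2, sup_comm Y, sup_assoc, sup_eq_right.2 yO]
  · exact AmbChar.charP_iff_isPGroup.2 (stab cH (inf_le_left.trans hLH) ((commutator_mono le_rfl inf_le_left).trans vl)
      (comm_eq_bot_of_le' (inf_le_right.trans (centralizer_anti wA))).le (commutator_bot_left _).le)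
  · have rL := res_le p L
    have l1 : Y ⊔ pResidualOf p L = L := by_contra fun e => hYO (((sn_of_res_le le_sup_right (sup_le hYL rL)).trans (SN.of_norm
      le_sup_left ((um.max le_sup_left (lt_of_le_of_ne (sup_le hYL rL) e)).trans inf_le_right))).le_pCoreOf hp)
    have yH := hYL.trans hLH
    have uH := u1.trans (pCoreOf_le p H)
    have k : ∀ J, J ≤ H → W' ⊔ ⁅U, J⁆ ≤ U := fun J hJ => sup_le u4.le (commutator_le_left_of_norm (hJ.trans u2))
    have k2 : ∀ J, J ≤ H → ⁅U, J⁆ ≤ W' → ⁅U, ncl J H⁆ ≤ W' := fun J hJ e => by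
      rw [commutator_comm] at e ⊢
      exact comm_ncl_le u2 u3 (hJ.trans u3) e
    rcases u5 (W' ⊔ ⁅U, Y⁆) (gen.ge.trans (sup_le (l1.ge.trans (sup_le (norm_of_between le_sup_right (k Y yH))
      (norm_of_between (u7.trans le_sup_left) (k Y yH)))) (norm_sup (oH.trans u3) (norm_commutator (oH.trans u2)
        (norm_of_centralizer oC))))) le_sup_left (k Y yH) with e | e
    · have ul : ⁅U, L⁆ ≤ W' := (commutator_mono le_rfl (nc.ge.trans (ncl_mono le_rfl hLH))).trans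
        (k2 Y yH (le_sup_right.trans e.le))
      rcases u5 (W' ⊔ ⁅U, O⁆) (gen.ge.trans (sup_le (norm_of_between (ul.trans le_sup_left) (k O oH))
        (norm_of_between le_sup_right (k O oH)))) le_sup_left (k O oH) with e | e
      · exact u6 (gen ▸ comm_sup_le' (hLH.trans u3) (oH.trans u3) ul (le_sup_right.trans e.le))
      · exact u4.not_ge (Hyperfocal.le_of_le_sup_commutator (P := O ⊔ U)
          (isPGroup_sup_of_norm wc.pg (vp.to_le u1) (oH.trans u2)).isNilpotent le_sup_right (u4.le.trans le_sup_right)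
          ((sup_le oH uH).trans u3) (e.ge.trans (sup_le_sup_left (commutator_mono le_rfl le_sup_left) _)))
    · refine u6 ((commutator_mono le_rfl (gen.ge.trans (sup_le (nc.ge.trans (ncl_mono yO hLH)) (le_ncl _ _)))).trans
        (k2 O oH ((commutator_mono e.ge le_rfl).trans (comm_sup_le (u4.le.trans (uH.trans u3))
          ((le_sup_right.trans (k Y yH)).trans (uH.trans u3)) (commutator_le_left_of_norm (oH.trans u3)) ?_))))
      exact (commutator_mono (commutator_le_right_of_norm (u1.trans vY)) le_rfl).trans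
        ((comm_eq_bot_of_le' oC).le.trans bot_le)
  · have aL : A ≤ L := pCoreOf_le p L
    have aY : A ≤ 𝐍 Y := le_sup_right.trans ((um.max le_sup_left (lt_of_le_of_ne (sup_le hYL aL) fun e => hYO
      (hYL.trans (pCoreOf_eq_self (e ▸ isPGroup_sup_of_norm hp (isPGroup_pCoreOf p L)
        (hYL.trans (norm_pCoreOf p L)))).ge))).trans inf_le_right)
    have aX : A ≤ 𝐍 X := by
      rw [hX, ← cj_normalizer]; exact (cj_eq_self (norm_pCoreOf p L hL)).ge.trans (cj_mono h aY)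
    have bH : A ⊓ Y ≤ H := inf_le_right.trans (hYL.trans hLH)
    set V₄ := V₁ ⊔ (X ⊓ V)
    have w4 : V₄ ≤ V := sup_le inf_le_left inf_le_right
    have c1 : ⁅V, L⁆ ≤ V₄ := vl.trans (sup_le_sup_right b1 _)
    have c2 := vo.trans (le_sup_left : V₁ ≤ V₄)
    have c : ⁅V, H⁆ ≤ V₄ := gen ▸ comm_sup_le' (norm_of_between c1 w4) (norm_of_between c2 w4) c1 c2
    have nD := norm_of_centralizer dc
    have vH : V ≤ H := pCoreOf_le p H
    refine (ncl_mono le_rfl hLH).trans (le_pCoreOf (ncl_le_of_le bH) (stab (V₁ := V₄) (V₂ := D) cH (ncl_le_of_le bH)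
      ((commutator_mono le_rfl (ncl_le_of_le bH)).trans c) ?_
      (comm_eq_bot_of_le' ((ncl_le_of_le bH).trans dc)).le) (norm_ncl _ _))
    rw [commutator_comm]
    refine comm_ncl_le (norm_of_between c w4) nD (bH.trans nD) (comm_sup_le' (inf_le_left.trans (vH.trans nD))
      (inf_le_right.trans (vH.trans nD)) ((comm_eq_bot_of_le' (inf_le_right.trans (centralizer_anti inf_le_right))).le.trans
        bot_le) ?_)
    have a := (commutator_mono (inf_le_right : A ⊓ Y ≤ Y) (inf_le_right : X ⊓ V ≤ V)).trans (commutator_le_left_of_norm vY)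
    exact le_inf a ((le_inf (a.trans yc) (((commutator_mono inf_le_left inf_le_left).trans
      (commutator_le_right_of_norm aX)).trans xc)).trans cL)

end Cfsg.Agent.S2862
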