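import Cfsg.Statements.S2864
import Cfsg.Agent.Lib.Loc.AmbChar
import Cfsg.Agent.Lib.Loc.AmbM
-- import your own Cfsg.Agent.* helpers here

set_option autoImplicit false
open Cfsg

namespace Cfsg.Agent.S2864

/-- Standing hypotheses: G a finite group, S a Sylow p-subgroup, Q a nontrivial large p-subgroup of G contained in S, M a subgroup containing S with the basic property (M ∈ 𝔐_G(S)); Y_M the largest p-reduced normal subgroup of M and M† = M·C_G(Y_M). Let I be a nontrivial normal p-subgroup of M and Y ≤ O_p(M†); let L be a subgroup of G containing Y and A a normal p-subgroup of L with I ≤ A ≤ M. If [Y, A] ≤ [I, A], then Y ≤ O_p(L). -/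
theorem result {G : Type*} [Group G] [Finite G] {p : ℕ} [Fact p.Prime] (S : Sylow p G) (Q : Subgroup G) (hQp : IsPGroup p ↥Q) (hQ1 : Q ≠ ⊥) (hQS : Q ≤ (S : Subgroup G)) (hQ : Cfsg.IsLarge Q) (M : Subgroup G) (hSM : (S : Subgroup G) ≤ M) (hM : Cfsg.IsInFrakM p M) (I : Subgroup G) (hI1 : I ≠ ⊥) (hIp : IsPGroup p ↥I) (hIM : I ≤ M ∧ M ≤ Subgroup.normalizer ((I : Subgroup G) : Set G)) (Y : Subgroup G) (hY : Y ≤ (Cfsg.pCoreOf p (M ⊔ Subgroup.centralizer (((Cfsg.largestPReducedOf p M) : Subgroup G) : Set G)))) (L : Subgroup G) (hYL : Y ≤ L) (A : Subgroup G) (hAp : IsPGroup p ↥A) (hAL : A ≤ L ∧ L ≤ Subgroup.normalizer ((A : Subgroup G) : Set G)) (hIA : I ≤ A) (hAM : A ≤ M) (hc : ⁅Y, A⁆ ≤ ⁅I, A⁆) : Y ≤ (Cfsg.pCoreOf p L) := by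
  open Subgroup Cfsg CA.Amb CA.AmbSyl CA.AmbCore CA.AmbRes CA.AmbChar CA.AmbWC CA.AmbSpe CA.AmbRed CA.AmbFs CA.AmbM in
  open scoped commutatorElement in
  (
    have h : FM p (S : Subgroup G) M := ⟨large_Parab hQp hQ, sylIn_top S, hSM, hM⟩
    have hYp := (isPGroup_pCoreOf p _).to_le hY
    have hD : ncl Y L ≤ L := ncl_le_of_le hYL
    have h1 : ⁅ncl Y L, A⁆ ≤ ⁅A, A⁆ := comm_ncl_le hAL.2 (norm_commutator hAL.2 hAL.2)
      (hYL.trans (norm_commutator hAL.2 hAL.2)) (hc.trans (commutator_mono hIA le_rfl))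
    have h2 : pResidualOf p (ncl Y L) ≤ 𝐂 A := by
      refine res_le_iff.2 fun g hg hcop => ?_
      refine CA.Coprime2.le_centralizer_of_commutator_le_frattini (A := zpowers g) ?_ (fun a ha k hk => ?_)
        (mem_zpowers g)
      · rw [Nat.card_zpowers]
        exact coprime_card_of_isPGroup (hAp.to_subgroup _) hcop
      · exact CA.PGFrattini.commutator_le_map_frattini hAp
          (h1 (commutator_mem_commutator (zpowers_le.2 hg ha) hk))
    set R := pResidualOf p (ncl Y L) with hR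
    have h3 : R ≤ dag p M := h2.trans ((centralizer_anti hIA).trans ((norm_of_centralizer le_rfl).trans
      (h.normalizer_le_dag hI1 hIp hIM.2)))
    have hYR : Y ≤ 𝐍 R := (le_ncl _ _).trans (norm_res _ _)
    have hs : SN L (Y ⊔ R) := (SN.of_norm hD (norm_ncl _ _)).trans
      (sn_of_res_le le_sup_right (sup_le (le_ncl _ _) (res_le _ _)))
    exact (le_inf le_sup_left hY).trans ((inf_pCoreOf_le (sup_le (hY.trans (pCoreOf_le _ _)) h3)).trans
      hs.pCoreOf_le))

end Cfsg.Agent.S2864
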