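import Cfsg.Statements.S2872
import Cfsg.Agent.Lib.Loc.AmbChar
import Cfsg.Agent.Lib.Loc.AmbTr
import Cfsg.Agent.Lib.Grp.PGBasic
import Cfsg.Agent.Lib.Grp.PGFrattini
-- import your own Cfsg.Agent.* helpers here

set_option autoImplicit false
open Cfsg

namespace Cfsg.Agent.S2872

/-- Let S be a Sylow 2-subgroup of the finite group G. Then G has a proper normal subgroup of 2-power index (O²(G) ≠ G), or Ω₁(Z(S)) is contained in the Frattini subgroup of S, or N_G(S) acts nontrivially on Ω₁(Z(S)) by conjugation. -/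
theorem result {G : Type*} [Group G] [Finite G] (S : Sylow 2 G) : Cfsg.pResidual 2 G ≠ ⊤ ∨ Cfsg.omegaOne 2 ((S : Subgroup G) ⊓ Subgroup.centralizer ((S : Subgroup G) : Set G)) ≤ (frattini ↥(S : Subgroup G)).map (S : Subgroup G).subtype ∨ ∃ g ∈ Subgroup.normalizer ((S : Subgroup G) : Set G), ∃ z ∈ Cfsg.omegaOne 2 ((S : Subgroup G) ⊓ Subgroup.centralizer ((S : Subgroup G) : Set G)), g * z * g⁻¹ ≠ z := by
  open Subgroup Cfsg CA CA.Amb CA.AmbSyl CA.AmbCore CA.AmbRes CA.AmbChar CA.AmbIso CA.AmbTr in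
  open scoped commutatorElement in
  (
    by_contra hc
    push Not at hc
    obtain ⟨h1, h2, h3⟩ := hc
    apply h2
    refine (Subgroup.closure_le _).2 fun z ⟨⟨z1, z2⟩, z3⟩ => ⟨⟨z, z1⟩, PGFrattini.mem_frattini_iff.2 fun M hM => ?_, rfl⟩
    obtain ⟨t, t1, t2⟩ := thompson_extremal h1 (S := S) (M := M.map (S : Subgroup G).subtype)
      (by rw [← Nat.not_even_iff_odd, even_iff_two_dvd]; exact S.not_dvd_index) (map_subtype_le _)
      (by rw [relIndex, subgroupOf, comap_map_eq_self_of_injective (subtype_injective _)]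
          exact PGBasic.index_eq_of_isCoatom S.isPGroup' hM) z3 S.isPGroup' (le_cent_of_mem z2)
    have := h3 t⁻¹ (mem_normalizer_of_cj_le t2) z (Subgroup.subset_closure ⟨⟨z1, z2⟩, z3⟩)
    rw [inv_inv] at this
    rw [this] at t1
    obtain ⟨m, m1, rfl⟩ := t1
    exact m1)

end Cfsg.Agent.S2872
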