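import Cfsg.Statements.S2873
import Cfsg.Agent.Lib.Loc.AmbChar
import Cfsg.Agent.Lib.Loc.AmbTr
import Cfsg.Agent.Lib.Grp.PGBasic
import Cfsg.Agent.Lib.Grp.PGFrattini
import Cfsg.Agent.Lib.Grp.H1Basic
-- import your own Cfsg.Agent.* helpers here

set_option autoImplicit false
open Cfsg

namespace Cfsg.Agent.S2873

/-- Let G be a finite group and r an odd prime such that G ⧸ O₂(G) is dihedral of order 2r, and let R be a Sylow r-subgroup of G with C_{O₂(G)}(R) = 1. Then N_G(R) is dihedral of order 2r; for any involution a of N_G(R), every involution of G outside O₂(G) is conjugate to a; and |C_{O₂(G)}(a)|² = |O₂(G)|. -/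
theorem result {G : Type*} [Group G] [Finite G] {r : ℕ} [Fact r.Prime] (hr : r ≠ 2) [hN : (Cfsg.pCore 2 G).Normal] (hquot : Nonempty (G ⧸ Cfsg.pCore 2 G ≃* DihedralGroup r)) (R : Sylow r G) (hC : Cfsg.pCore 2 G ⊓ Subgroup.centralizer ((R : Subgroup G) : Set G) = ⊥) : Nonempty (↥(Subgroup.normalizer ((R : Subgroup G) : Set G)) ≃* DihedralGroup r) ∧ ∀ a : G, a ∈ Subgroup.normalizer ((R : Subgroup G) : Set G) → orderOf a = 2 → (∀ b : G, orderOf b = 2 → b ∉ Cfsg.pCore 2 G → ∃ g : G, g * a * g⁻¹ = b) ∧ Nat.card ↥(Cfsg.pCore 2 G ⊓ Subgroup.centralizer ({a} : Set G)) ^ 2 = Nat.card ↥(Cfsg.pCore 2 G) := by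
  open Subgroup Cfsg CA CA.Amb CA.AmbSyl CA.AmbCore CA.AmbRes CA.AmbChar CA.AmbIso CA.AmbTr in
  open scoped commutatorElement in
  (
    classical
    obtain ⟨e⟩ := hquot
    have hrp : r.Prime := Fact.out
    have : NeZero r := ⟨hrp.ne_zero⟩
    have hodd : Odd r := hrp.odd_of_ne_two hr
    have h2r : r.Coprime 2 := (Nat.coprime_primes hrp Nat.prime_two).2 hr
    have hQp : IsPGroup 2 (pCore 2 G) := isPGroup_pCore 2 G
    have hinv := @exists_inverted G _ _
    generalize pCore 2 G = Q at *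
    obtain ⟨n, hn⟩ := hQp.exists_card_eq
    have hi : Q.index = 2 * r := by
      rw [index_eq_card, Nat.card_congr e.toEquiv, DihedralGroup.nat_card]
    have hG : Nat.card G = 2 ^ (n + 1) * r := by rw [← Q.card_mul_index, hn, hi]; ring
    have hR : Nat.card R = r := by
      rw [R.card_eq_multiplicity, hG, Nat.factorization_mul (by positivity) hrp.ne_zero, Finsupp.add_apply,
        Nat.factorization_eq_zero_of_not_dvd, hrp.factorization_self, pow_one]
      exact fun h => hr ((Nat.prime_dvd_prime_iff_eq hrp Nat.prime_two).1 (hrp.dvd_of_dvd_pow h))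
    have hx : ∀ x : G, x ≠ 1 → Odd (orderOf x) → ∃ g, cj g R = zpowers x := fun x x1 x2 => by
      have h1 : orderOf x ∣ r := by
        have := orderOf_dvd_natCard x
        rw [hG] at this
        exact (Nat.Coprime.pow_right _ (Nat.coprime_two_right.2 x2)).dvd_of_dvd_mul_left this
      have h2 := (hrp.eq_one_or_self_of_dvd _ h1).resolve_left (by rwa [orderOf_eq_one_iff])
      obtain ⟨g, -, hg⟩ := (sylIn_top R).exists_conj ((sylIn_top R).of_card_le
        (isPGroup_zpowers_of_orderOf (x := x) (k := 1) (by simpa using h2)) le_top (by rw [hR, Nat.card_zpowers, h2]))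
      exact ⟨g, hg⟩
    have hcx : ∀ x : G, x ≠ 1 → Odd (orderOf x) → Q ⊓ centralizer {x} = ⊥ := fun x x1 x2 => by
      obtain ⟨g, hg⟩ := hx x x1 x2
      rw [← centralizer_zpowers, ← hg, ← cj_centralizer, ← cj_eq_self_of_normal g Q, ← cj_inf, hC, cj_bot]
    have hQR : Q ⊓ R = ⊥ := inf_eq_bot_of_coprime (by rw [hn, hR]; exact h2r.symm.pow_left _)
    have hNQ : Q ⊓ 𝐍 (R : Subgroup G) = ⊥ := by
      rw [eq_bot_iff, ← hC]
      refine le_inf inf_le_left (commutator_eq_bot_iff'.1 (eq_bot_iff.2 (hQR ▸ le_inf ?_ ?_)))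
      · exact (commutator_mono le_rfl inf_le_left).trans (commutator_le_right_of_norm norm_of_normal)
      · exact commutator_le_left_of_norm inf_le_right
    have hcQR : Nat.card ↥((R : Subgroup G) ⊔ Q) = r * 2 ^ n := by
      rw [H1Basic.card_sup_of_disjoint _ _ (by rw [inf_comm, hQR]), hR, hn]
    have hn2 : ((R : Subgroup G) ⊔ Q).Normal := normal_of_index_eq_two (by
      have := ((R : Subgroup G) ⊔ Q).card_mul_index
      rw [hcQR, hG] at this
      exact Nat.eq_of_mul_eq_mul_left (mul_pos hrp.pos (by positivity)) (this.trans (by ring)))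
    have hF : Q ⊔ 𝐍 (R : Subgroup G) = ⊤ := by
      have := (sylIn_of_le R le_sup_left).frattini_sup (le_top (a := (R : Subgroup G) ⊔ Q)) norm_of_normal
      rw [eq_top_iff, ← this, top_inf_eq]
      exact sup_le (sup_le (le_normalizer.trans le_sup_right) le_sup_left) le_sup_right
    let f := (QuotientGroup.mk' Q).comp (𝐍 (R : Subgroup G)).subtype
    have hf : Function.Bijective f := by
      refine ⟨(injective_iff_map_eq_one f).2 fun a ha => Subtype.ext (mem_bot.1 ?_), fun q => ?_⟩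
      · rw [← hNQ]; exact ⟨(QuotientGroup.eq_one_iff _).1 ha, a.2⟩
      · induction q using QuotientGroup.induction_on with | _ g =>
        obtain ⟨y, y1, z, z1, rfl⟩ := (mem_sup_of_norm (H := 𝐍 (R : Subgroup G)) norm_of_normal).1
          (by rw [sup_comm, hF]; exact mem_top g)
        exact ⟨⟨y, y1⟩, QuotientGroup.eq.2 (by simpa using z1)⟩
    have hcN : Nat.card (𝐍 (R : Subgroup G)) = 2 * r := by
      rw [Nat.card_eq_of_bijective f hf, ← index_eq_card, hi]
    have hsyl : ∀ a ∈ 𝐍 (R : Subgroup G), orderOf a = 2 → SylIn 2 (zpowers a) (𝐍 (R : Subgroup G)) :=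
      fun a a1 a2 => sylIn_of_not_dvd (zpowers_le.2 a1) (isPGroup_zpowers_of_orderOf (k := 1) a2) (by
        have := card_mul_relIndex (zpowers_le.2 a1)
        rw [Nat.card_zpowers, a2, hcN] at this
        rw [Nat.eq_of_mul_eq_mul_left two_pos this, ← even_iff_two_dvd, Nat.not_even_iff_odd]
        exact hodd)
    refine ⟨⟨(MulEquiv.ofBijective f hf).trans e⟩, fun a a1 a2 => ?_⟩
    have ha2 : a * a = 1 := by rw [← sq, ← a2, pow_orderOf_eq_one]
    have hcj : ∀ b : G, orderOf b = 2 → b ∉ Q → ∃ x : G, x ≠ 1 ∧ Odd (orderOf x) ∧ b * x * b⁻¹ = x⁻¹ ∧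
        ∃ g : G, g * a * g⁻¹ = b := fun b b1 b2 => by
      obtain ⟨x, x1, x2, x3⟩ := hinv (by rw [← sq, ← b1, pow_orderOf_eq_one]) b2
      obtain ⟨g, hg⟩ := hx x x1 x2
      refine ⟨x, x1, x2, x3, ?_⟩
      have b3 : g⁻¹ * b * g⁻¹⁻¹ ∈ 𝐍 (R : Subgroup G) := by
        rw [inv_inv, ← mem_cj, cj_normalizer, hg, ← cj_eq_self_iff, cj_zpowers, x3, zpowers_inv]
      have b4 : orderOf (g⁻¹ * b * g⁻¹⁻¹) = 2 := by
        rw [← b1]; exact (MulAut.conj g⁻¹).orderOf_eq b
      obtain ⟨k, -, hk⟩ := (hsyl a a1 a2).exists_conj (hsyl _ b3 b4)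
      rw [cj_zpowers] at hk
      have b5 : k * a * k⁻¹ ∈ zpowers (g⁻¹ * b * g⁻¹⁻¹) := hk ▸ mem_zpowers _
      rw [mem_zpowers_iff_mem_range_orderOf, b4] at b5
      simp only [Finset.mem_image, Finset.mem_range] at b5
      obtain ⟨i, i1, i2⟩ := b5
      interval_cases i
      · rw [pow_zero, eq_comm, conj_eq_one_iff] at i2
        simp [i2] at a2
      · exact ⟨g * k, by rw [show g * k * a * (g * k)⁻¹ = g * (k * a * k⁻¹) * g⁻¹ by group, ← i2]; group⟩
    refine ⟨fun b b1 b2 => (hcj b b1 b2).choose_spec.2.2.2, ?_⟩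
    obtain ⟨x, x1, x2, x3, -⟩ := hcj a a2 fun h => by
      have : a = 1 := mem_bot.1 (hNQ ▸ ⟨h, a1⟩)
      simp [this] at a2
    have hb : Nat.card ↥(Q ⊓ centralizer {x * a * x⁻¹}) = Nat.card ↥(Q ⊓ centralizer {a}) := by
      rw [← cj_centralizer_singleton, ← card_cj x (Q ⊓ centralizer {a}), cj_inf, cj_eq_self_of_normal x Q]
    have hab : a * (x * a * x⁻¹) = (x ^ 2)⁻¹ := by
      rw [show a * (x * a * x⁻¹) = a * x * a⁻¹ * (a * a) * x⁻¹ by group, x3, ha2]; group
    have hb2 : (x * a * x⁻¹) * (x * a * x⁻¹) = 1 := by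
      rw [show (x * a * x⁻¹) * (x * a * x⁻¹) = x * (a * a) * x⁻¹ by group, ha2]; group
    generalize x * a * x⁻¹ = b at *
    have hxQ : ∀ k, (x ^ 2) ^ 2 ^ k ∉ Q := fun k h => x1 (by
      rw [← pow_mul, ← pow_succ'] at h
      exact PRes.eq_one_of_coprime_of_mem hQp (mem_of_pow_mem_of_coprime
        ((Nat.coprime_two_right.2 x2).pow_right _) h) (Nat.coprime_two_right.2 x2))
    have hy : ∀ y : G, y * x ^ 2 ∈ Q → Q ⊓ centralizer {y} = ⊥ := fun y y1 => by
      obtain ⟨k, hk⟩ := PRes.exists_pow_coprime (p := 2) y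
      refine eq_bot_iff.2 (hcx _ (fun h => hxQ k ?_) (Nat.coprime_two_right.1 hk) ▸ inf_le_inf_left _ fun c hc => ?_)
      · have : ((y⁻¹ : G) : G ⧸ Q) = (x ^ 2 : G) := QuotientGroup.eq.2 (by simpa using y1)
        rw [← QuotientGroup.eq_one_iff, QuotientGroup.mk_pow, ← this, ← QuotientGroup.mk_pow, inv_pow, h]
        simp
      · rw [mem_centralizer_singleton_iff] at hc ⊢
        exact (Commute.pow_right hc _).eq
    refine le_antisymm ?_ ?_
    · rw [sq]
      nth_rw 2 [← hb]
      rw [← Nat.card_prod]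
      refine Nat.card_le_card_of_injective (fun u => ⟨u.1.1 * u.2.1, mul_mem u.1.2.1 u.2.2.1⟩) ?_
      rintro ⟨⟨u, u1, u2⟩, v, v1, v2⟩ ⟨⟨u', u1', u2'⟩, v', v1', v2'⟩ h
      replace h : u * v = u' * v' := congrArg Subtype.val h
      have e1 : u'⁻¹ * u = v' * v⁻¹ := by rw [inv_mul_eq_iff_eq_mul, ← mul_assoc, ← h]; group
      have c1 := mem_centralizer_singleton_iff.1 (Subgroup.mul_mem _ (Subgroup.inv_mem _ u2') u2)
      have c2 := mem_centralizer_singleton_iff.1 (Subgroup.mul_mem _ v2' (Subgroup.inv_mem _ v2))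
      rw [← e1] at c2
      have : u'⁻¹ * u ∈ Q ⊓ centralizer {a * b} := ⟨Q.mul_mem (Q.inv_mem u1') u1,
        mem_centralizer_singleton_iff.2 (Commute.mul_right c1 c2).eq⟩
      rw [hy _ (by rw [hab]; simp), mem_bot, inv_mul_eq_one] at this
      subst this
      simp [mul_left_cancel h]
    · have h1 := card_inf_mul_relIndex (centralizer {a}) Q
      have h2 := card_inf_mul_relIndex (centralizer {b}) Q
      rw [inf_comm] at h1 h2
      rw [hb] at h2
      have hm : ∀ u v : Q, (u * a * (u : G)⁻¹) * (v * b * (v : G)⁻¹) * x ^ 2 ∈ Q := fun u v => by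
        rw [← QuotientGroup.eq_one_iff]
        have := congrArg (QuotientGroup.mk (s := Q)) hab
        simp only [QuotientGroup.mk_mul, QuotientGroup.mk_inv, (QuotientGroup.eq_one_iff _).2 u.2,
          (QuotientGroup.eq_one_iff _).2 v.2, one_mul, inv_one, mul_one] at this ⊢
        rw [this]; simp
      have h3 : (centralizer {a}).relIndex Q * (centralizer {b}).relIndex Q ≤ Nat.card Q := by
        rw [relIndex, relIndex, index_eq_card, index_eq_card, ← Nat.card_prod]
        refine Nat.card_le_card_of_injective (fun u => ⟨_, hm u.1.out u.2.out⟩) ?_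
        rintro ⟨u, v⟩ ⟨u', v'⟩ h
        replace h := mul_right_cancel (congrArg Subtype.val h)
        have hy' := hy _ (hm u.out v.out)
        rw [Prod.mk.injEq, ← u.out_eq', ← v.out_eq', ← u'.out_eq', ← v'.out_eq', QuotientGroup.eq, QuotientGroup.eq]
        dsimp only at h
        generalize u.out = s at *
        generalize v.out = t at *
        generalize u'.out = s' at *
        generalize v'.out = t' at *
        have i1 : ∀ c d g k : G, c * c = 1 → d * d = 1 → (g * c * g⁻¹) * ((g * c * g⁻¹) * (k * d * k⁻¹)) *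
            (g * c * g⁻¹)⁻¹ = ((g * c * g⁻¹) * (k * d * k⁻¹))⁻¹ := fun c d g k hc hd => by
          rw [show (g * c * g⁻¹) * ((g * c * g⁻¹) * (k * d * k⁻¹)) = g * (c * c) * g⁻¹ * (k * d * k⁻¹) by group,
            hc, mul_inv_rev (g * c * g⁻¹), mul_inv_rev (k * d), mul_inv_rev k, inv_eq_of_mul_eq_one_left hd]
          group
        have j1 := i1 a b s t ha2 hb2
        have j2 := i1 a b s' t' ha2 hb2
        rw [← h] at j2
        have : ((s' : G) * a * (s' : G)⁻¹)⁻¹ * (s * a * (s : G)⁻¹) ∈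
            Q ⊓ centralizer {s * a * (s : G)⁻¹ * (t * b * (t : G)⁻¹)} := by
          refine ⟨?_, mem_centralizer_singleton_iff.2 ?_⟩
          · refine QuotientGroup.eq.1 ?_
            simp [(QuotientGroup.eq_one_iff _).2 s.2, (QuotientGroup.eq_one_iff _).2 s'.2]
          · generalize (s : G) * a * (s : G)⁻¹ * (t * b * (t : G)⁻¹) = y at *
            generalize (s : G) * a * (s : G)⁻¹ = c at *
            generalize (s' : G) * a * (s' : G)⁻¹ = d at *
            rw [show d⁻¹ * c * y = d⁻¹ * (c * y * c⁻¹) * c by group, j1, ← j2]; group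
        rw [hy', mem_bot, inv_mul_eq_one] at this
        rw [this] at h
        replace h := mul_left_cancel h
        constructor
        · refine mem_subgroupOf.2 (mem_cent_iff.2 ?_)
          change (s : G)⁻¹ * s' * a * ((s : G)⁻¹ * s')⁻¹ = a
          rw [show (s : G)⁻¹ * s' * a * ((s : G)⁻¹ * s')⁻¹ = (s : G)⁻¹ * (s' * a * (s' : G)⁻¹) * s by group, this]; group
        · refine mem_subgroupOf.2 (mem_cent_iff.2 ?_)
          change (t : G)⁻¹ * t' * b * ((t : G)⁻¹ * t')⁻¹ = b
          rw [show (t : G)⁻¹ * t' * b * ((t : G)⁻¹ * t')⁻¹ = (t : G)⁻¹ * (t' * b * (t' : G)⁻¹) * t by group, ← h]; group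
      have hp : 0 < Nat.card Q := Nat.card_pos
      refine Nat.le_of_mul_le_mul_right ?_ hp
      calc Nat.card Q * Nat.card Q = Nat.card ↥(Q ⊓ centralizer {a}) ^ 2 *
            ((centralizer {a}).relIndex Q * (centralizer {b}).relIndex Q) := by
            nth_rw 2 [← h2]; nth_rw 1 [← h1]; ring
        _ ≤ _ := Nat.mul_le_mul_left _ h3)

end Cfsg.Agent.S2873
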