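import Cfsg.Statements.S2874
import Mathlib


set_option autoImplicit false
open Cfsg

namespace Cfsg.Agent.S2874

open Subgroup

abbrev A4 := alternatingGroup (Fin 4)

def r4 : A4 := ⟨Equiv.swap 0 1 * Equiv.swap 1 2, by rw [Equiv.Perm.mem_alternatingGroup]; decide⟩
def w4 : A4 := ⟨Equiv.swap 0 1 * Equiv.swap 2 3, by rw [Equiv.Perm.mem_alternatingGroup]; decide⟩

theorem a4_facts : r4 * r4 * r4 = 1 ∧ r4 ≠ 1 ∧ w4 * w4 = 1 ∧ w4 ≠ 1 ∧
    w4 * (r4 * w4 * (r4 * r4)) = r4 * r4 * w4 * r4 ∧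
    (r4 * w4 * (r4 * r4)) * w4 = r4 * r4 * w4 * r4 := by
  simp only [Ne, Subtype.ext_iff]
  decide +kernel

theorem a4_gen (x : Equiv.Perm (Fin 4)) : Equiv.Perm.sign x = 1 → ∃ i j : Fin 3, ∃ l : Fin 2,
    x = r4.1 ^ i.1 * w4.1 ^ l.1 * r4.1 ^ j.1 := by
  revert x
  decide +kernel

theorem gens {G : Type*} [Group G] (H : Subgroup G) (h : Nonempty (H ≃* A4)) :
    ∃ r w : G, r * r * r = 1 ∧ r ≠ 1 ∧ w * w = 1 ∧ w ≠ 1 ∧ w * (r * w * (r * r)) = r * r * w * r ∧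
      (r * w * (r * r)) * w = r * r * w * r ∧ H = closure {r, w} := by
  obtain ⟨e⟩ := h
  let f : A4 →* G := H.subtype.comp e.symm.toMonoidHom
  have fi : Function.Injective f := H.subtype_injective.comp e.symm.injective
  obtain ⟨a1, a2, a3, a4, a5, a6⟩ := a4_facts
  refine ⟨f r4, f w4, by simpa using congrArg f a1, fun h => a2 (fi (by simpa using h)),
    by simpa using congrArg f a3, fun h => a4 (fi (by simpa using h)),
    by simpa using congrArg f a5, by simpa using congrArg f a6, le_antisymm (fun x hx => ?_) ?_⟩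
  · obtain ⟨i, j, l, h⟩ := a4_gen (e ⟨x, hx⟩).1 (e ⟨x, hx⟩).2
    have h' : e ⟨x, hx⟩ = r4 ^ i.1 * w4 ^ l.1 * r4 ^ j.1 := Subtype.ext h
    have : x = f (e ⟨x, hx⟩) := by simp [f]
    rw [this, h', map_mul, map_mul, map_pow, map_pow, map_pow]
    exact mul_mem (mul_mem (pow_mem (subset_closure (by simp)) _)
      (pow_mem (subset_closure (by simp)) _)) (pow_mem (subset_closure (by simp)) _)
  · rw [closure_le]
    rintro x (rfl | rfl)
    · exact (e.symm r4).2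
    · exact (e.symm w4).2

variable {R : Type*} [CommRing R]

theorem mul_ap (X Y : GL (Fin 2) R) (i j : Fin 2) : (X * Y) i j = X i 0 * Y 0 j + X i 1 * Y 1 j := by
  simp [Matrix.mul_apply, Fin.sum_univ_two]

theorem gl_ext {X Y : GL (Fin 2) R} (h1 : X 0 0 = Y 0 0) (h2 : X 0 1 = Y 0 1) (h3 : X 1 0 = Y 1 0)
    (h4 : X 1 1 = Y 1 1) : X = Y := by
  ext i j
  fin_cases i <;> fin_cases j <;> assumption

theorem ent {X Y : GL (Fin 2) R} (h : X = Y) : X 0 0 = Y 0 0 ∧ X 0 1 = Y 0 1 ∧ X 1 0 = Y 1 0 ∧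
    X 1 1 = Y 1 1 := by
  subst h; exact ⟨rfl, rfl, rfl, rfl⟩

noncomputable def C (R : Type*) [CommRing R] : GL (Fin 2) R :=
  Matrix.GeneralLinearGroup.mk'' !![0, -1; 1, -1] (by simp)

theorem C_ap : C R 0 0 = 0 ∧ C R 0 1 = -1 ∧ C R 1 0 = 1 ∧ C R 1 1 = -1 := ⟨rfl, rfl, rfl, rfl⟩

theorem one_ap : (1 : GL (Fin 2) R) 0 0 = 1 ∧ (1 : GL (Fin 2) R) 0 1 = 0 ∧
    (1 : GL (Fin 2) R) 1 0 = 0 ∧ (1 : GL (Fin 2) R) 1 1 = 1 := by simp

theorem conjC (hn : IsNilpotent (2 : R)) (hu : ∀ x : R, ∃ y, x = 2 * y ∨ x = 1 + 2 * y)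
    {ρ : GL (Fin 2) R} (h3 : ρ * ρ * ρ = 1) (h1 : ρ ≠ 1) : ∃ g, g * ρ * g⁻¹ = C R := by
  have un : ∀ y : R, IsUnit (1 + 2 * y) := fun y =>
    ((Commute.all _ _).isNilpotent_mul_right hn).isUnit_one_add
  have can : ∀ {x y z : R}, z = 1 + 2 * y → z * x = 0 → x = 0 := fun h e =>
    (h ▸ un _).mul_right_eq_zero.1 e
  have nt : ∀ {x y : R}, 2 * x ≠ 1 + 2 * y := fun {x y} h => h1 (by
    have : (1 : R) = 0 := by
      obtain ⟨n, hn⟩ := (Commute.all _ _).isNilpotent_mul_right (y := x - y) hn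
      rwa [mul_sub, h, add_sub_cancel_right, one_pow] at hn
    haveI := subsingleton_of_zero_eq_one this.symm
    exact Subsingleton.elim _ _)
  obtain ⟨e1, e2, e3, e4⟩ := ent h3
  simp only [mul_ap, one_ap] at e1 e2 e3 e4
  have hρ : ρ 0 0 = 1 → ρ 0 1 = 0 → ρ 1 0 = 0 → ρ 1 1 = 1 → False := fun a b c d =>
    h1 (gl_ext (by simp [a]) (by simp [b]) (by simp [c]) (by simp [d]))
  obtain ⟨a, ha⟩ : ∃ a, ρ 0 0 = a := ⟨_, rfl⟩
  obtain ⟨b, hb⟩ : ∃ a, ρ 0 1 = a := ⟨_, rfl⟩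
  obtain ⟨c, hc⟩ : ∃ a, ρ 1 0 = a := ⟨_, rfl⟩
  obtain ⟨d, hd⟩ : ∃ a, ρ 1 1 = a := ⟨_, rfl⟩
  simp only [ha, hb, hc, hd] at e1 e2 e3 e4 hρ
  have d3 : (a * d - b * c) ^ 3 = 1 := by
    have : (a * d - b * c) ^ 3 = ((a * a + b * c) * a + (a * b + b * d) * c) *
      ((c * a + d * c) * b + (c * b + d * d) * d) - ((a * a + b * c) * b + (a * b + b * d) * d) *
      ((c * a + d * c) * a + (c * b + d * d) * c) := by ring
    rw [this, e1, e2, e4]; ring
  obtain ⟨δ, hδ | hδ⟩ := hu (a * d - b * c)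
  · exact (nt (x := 4 * δ ^ 3) (y := 0) (by rw [hδ] at d3; linear_combination d3)).elim
  obtain ⟨t, ht | ht⟩ := hu (a + d)
  · have s : -((a + d) ^ 2 - (a * d - b * c)) = 1 + 2 * (δ - 2 * t ^ 2) := by rw [ht, hδ]; ring
    have b0 : b = 0 := can s (by linear_combination -e2)
    have c0 : c = 0 := can s (by linear_combination -e3)
    have a0 : a - d = 0 := can s (by linear_combination e4 - e1)
    obtain rfl : a = d := sub_eq_zero.1 a0
    subst b0 c0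
    obtain ⟨y, hy | hy⟩ := hu a
    · exact (nt (x := 2 * y ^ 2) (y := δ) (by rw [hy] at hδ; linear_combination hδ)).elim
    have : a - 1 = 0 := can (z := a ^ 2 + a + 1) (y := 1 + 3 * y + 2 * y ^ 2) (by rw [hy]; ring)
      (by linear_combination e1)
    exact (hρ (sub_eq_zero.1 this) rfl rfl (sub_eq_zero.1 this)).elim
  obtain ⟨y, hy | hy⟩ := hu c
  · obtain ⟨z, hz | hz⟩ := hu a
    · exact (nt (x := z * d - b * y) (y := δ) (by rw [← hδ, hy, hz]; ring)).elim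
    · exact (nt (x := a * (t - z) - b * y) (y := δ) (by
        linear_combination hδ - a * ht + a * hz + b * hy)).elim
  have s : (a + d) ^ 2 - (a * d - b * c) = 0 := can hy (by linear_combination e3)
  have t1 : a + d + 1 = 0 := can (z := (a + d) ^ 2 - (a + d) + 1) (y := t + 2 * t ^ 2)
    (by rw [ht]; ring) (by linear_combination (2 * a + d) * s - e1)
  let P : GL (Fin 2) R := Matrix.GeneralLinearGroup.mk'' !![1, a; 0, c] (by simpa [hy] using un y)
  have hP : P 0 0 = 1 ∧ P 0 1 = a ∧ P 1 0 = 0 ∧ P 1 1 = c := ⟨rfl, rfl, rfl, rfl⟩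
  refine ⟨P⁻¹, ?_⟩
  rw [inv_inv, mul_assoc, inv_mul_eq_iff_eq_mul]
  refine gl_ext ?_ ?_ ?_ ?_ <;> simp only [mul_ap, hP, C_ap, ha, hb, hc, hd]
  · ring
  · linear_combination s - (d - 1) * t1
  · ring
  · linear_combination c * t1

theorem invol (hn : IsNilpotent (2 : R)) {v : GL (Fin 2) R} (h2 : v * v = 1)
    (h3 : v * (C R * v * (C R * C R)) = C R * C R * v * C R)
    (h4 : (C R * v * (C R * C R)) * v = C R * C R * v * C R) :
    2 * v 0 1 = 0 ∧ 2 * v 1 0 = 0 ∧ v 0 0 = 1 + v 0 1 + v 1 0 ∧ v 1 1 = 1 + v 0 1 + v 1 0 := by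
  have u3 : IsUnit (3 : R) := by convert hn.isUnit_one_add using 1; norm_num
  obtain ⟨u, hu⟩ := u3.exists_right_inv
  obtain ⟨e1, e2, e3, e4⟩ := ent h2
  obtain ⟨f1, f2, f3, f4⟩ := ent h3
  obtain ⟨g1, g2, g3, g4⟩ := ent h4
  simp only [mul_ap, one_ap, C_ap] at e1 e2 e3 e4 f1 f2 f3 f4 g1 g2 g3 g4
  generalize v 0 0 = a at *
  generalize v 0 1 = b at *
  generalize v 1 0 = c at *
  generalize v 1 1 = d at *
  obtain ⟨a0, a1, b0, b1, rfl, rfl, rfl, rfl⟩ : ∃ a0 a1 b0 b1, a = a0 - b1 ∧ b = b0 - a1 ∧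
      c = a1 + b0 - b1 ∧ d = a0 - a1 + b1 :=
    ⟨a + (2 * (u * (2 * (c - b) - (a - d))) - (c - b)), u * (2 * (c - b) - (a - d)),
      b + u * (2 * (c - b) - (a - d)), 2 * (u * (2 * (c - b) - (a - d))) - (c - b), by ring, by ring,
      by ring, by linear_combination -(2 * (c - b) - (a - d)) * hu⟩
  have n : b0 ^ 2 - b0 * b1 + b1 ^ 2 = 0 := u3.mul_right_eq_zero.1 (by
    linear_combination (f1 - g1) + 2 * (f4 - g4) + (f3 - g3) - (f2 - g2))
  have i0 : a0 - 1 = 0 := u3.mul_right_eq_zero.1 (by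
    linear_combination (e1 - f1) + 2 * (e4 - f4) + (e3 - f3) - (e2 - f2) - 3 * n)
  have i1 : a1 = 0 := u3.mul_right_eq_zero.1 (by
    linear_combination 2 * (e3 - f3) - 2 * (e2 - f2) - (e1 - f1) + (e4 - f4) + 3 * n)
  obtain rfl : a0 = 1 := sub_eq_zero.1 i0
  subst i1
  refine ⟨by linear_combination e2, by linear_combination e3, by linear_combination -e2, ?_⟩
  linear_combination -e3

theorem cl_conj {G : Type*} [Group G] (c v : G) : closure {c, c * v * c⁻¹} = closure {c, v} := by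
  have h : ∀ S : Set G, c ∈ closure (insert c S) := fun S => subset_closure (by simp)
  refine le_antisymm ((closure_le _).2 ?_) ((closure_le _).2 ?_)
  · rintro x (rfl | rfl)
    · exact h _
    · exact mul_mem (mul_mem (h _) (subset_closure (by simp))) (inv_mem (h _))
  · rintro x (rfl | rfl)
    · exact h _
    · have k : c * x * c⁻¹ ∈ Subgroup.closure {c, c * x * c⁻¹} := subset_closure (by simp)
      have := mul_mem (mul_mem (inv_mem (h {c * x * c⁻¹})) k) (h _)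
      simpa [mul_assoc] using this

theorem normal_form (hn : IsNilpotent (2 : R)) (hu : ∀ x : R, ∃ y, x = 2 * y ∨ x = 1 + 2 * y)
    {e : R} (e2 : 2 * e = 0) (he : ∀ x : R, 2 * x = 0 → x = 0 ∨ x = e)
    (H : Subgroup (GL (Fin 2) R)) (h : Nonempty (H ≃* A4)) :
    ∃ g v : GL (Fin 2) R, v 0 0 = 1 ∧ v 0 1 = e ∧ v 1 0 = e ∧ v 1 1 = 1 ∧
      H.map (MulAut.conj g).toMonoidHom = closure {C R, v} := by
  obtain ⟨r, w, a1, a2, a3, a4, a5, a6, rfl⟩ := gens H h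
  obtain ⟨g, hg⟩ := conjC hn hu a1 a2
  have hg' : MulAut.conj g r = C R := hg
  have m : (closure {r, w}).map (MulAut.conj g).toMonoidHom = closure {C R, MulAut.conj g w} := by
    rw [MonoidHom.map_closure, Set.image_pair, ← hg']; rfl
  have c3 : C R * C R * C R = 1 := by rw [← hg', ← map_mul, ← map_mul, a1, map_one]
  have w1 : MulAut.conj g w ≠ 1 := fun h => a4 ((MulAut.conj g).injective (by rw [h, map_one]))
  obtain ⟨b1, b2, b3, b4⟩ := invol hn (v := MulAut.conj g w) (by rw [← map_mul, a3, map_one])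
    (by simp only [← hg', ← map_mul, a5]) (by simp only [← hg', ← map_mul, a6])
  generalize MulAut.conj g w = v at *
  have ci : (C R)⁻¹ = C R * C R := inv_eq_of_mul_eq_one_left c3
  rcases he _ b1 with h1 | h1 <;> rcases he _ b2 with h2 | h2 <;> rw [h1, h2] at b3 b4
  · exact (w1 (gl_ext (by simp [b3]) (by simp [h1]) (by simp [h2]) (by simp [b4]))).elim
  · refine ⟨g, C R * v * (C R)⁻¹, ?_, ?_, ?_, ?_, by rw [cl_conj, m]⟩ <;>
      simp only [ci, mul_ap, C_ap, h1, h2, b3, b4]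
    all_goals first | ring1 | linear_combination e2 | linear_combination -e2 | linear_combination 2 * e2
  · refine ⟨g, C R * (C R * v * (C R)⁻¹) * (C R)⁻¹, ?_, ?_, ?_, ?_, by rw [cl_conj, cl_conj, m]⟩ <;>
      simp only [ci, mul_ap, C_ap, h1, h2, b3, b4]
    all_goals first | ring1 | linear_combination e2 | linear_combination -e2 | linear_combination 2 * e2
  · exact ⟨g, v, by linear_combination b3 + e2, h1, h2, by linear_combination b4 + e2, m⟩

/-- For k ≥ 2, any two subgroups of GL₂(ℤ/2ᵏℤ) (the automorphism group of the homocyclic group ℤ/2ᵏ × ℤ/2ᵏ) that are isomorphic to the alternating group of degree 4 are conjugate. -/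
theorem result (k : ℕ) (hk : 2 ≤ k) (H₁ H₂ : Subgroup (GL (Fin 2) (ZMod (2 ^ k)))) (h₁ : Nonempty (↥H₁ ≃* ↥(alternatingGroup (Fin 4)))) (h₂ : Nonempty (↥H₂ ≃* ↥(alternatingGroup (Fin 4)))) : ∃ g : GL (Fin 2) (ZMod (2 ^ k)), H₂ = H₁.map (MulAut.conj g).toMonoidHom := by
  obtain ⟨j, rfl⟩ : ∃ j, k = j + 1 := ⟨k - 1, by omega⟩
  have z : (2 : ZMod (2 ^ (j + 1))) ^ (j + 1) = 0 := by exact_mod_cast ZMod.natCast_self (2 ^ (j + 1))
  have hu : ∀ x : ZMod (2 ^ (j + 1)), ∃ y, x = 2 * y ∨ x = 1 + 2 * y := fun x => by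
    obtain ⟨n, rfl⟩ := ZMod.natCast_zmod_surjective x
    obtain ⟨m, rfl | rfl⟩ := Nat.even_or_odd' n
    · exact ⟨m, Or.inl (by push_cast; ring)⟩
    · exact ⟨m, Or.inr (by push_cast; ring)⟩
  have he : ∀ x : ZMod (2 ^ (j + 1)), 2 * x = 0 → x = 0 ∨ x = 2 ^ j := fun x hx => by
    obtain ⟨n, rfl⟩ := ZMod.natCast_zmod_surjective x
    have : 2 ^ (j + 1) ∣ 2 * n := (ZMod.natCast_eq_zero_iff _ _).1 (by exact_mod_cast hx)
    rw [pow_succ'] at this
    obtain ⟨m, rfl⟩ := Nat.dvd_of_mul_dvd_mul_left two_pos this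
    obtain ⟨l, rfl | rfl⟩ := Nat.even_or_odd' m
    · left; push_cast; linear_combination l * z
    · right; push_cast; linear_combination l * z
  have e2 : 2 * (2 : ZMod (2 ^ (j + 1))) ^ j = 0 := by linear_combination z
  obtain ⟨g1, v1, a1, a2, a3, a4, a5⟩ := normal_form ⟨_, z⟩ hu e2 he H₁ h₁
  obtain ⟨g2, v2, b1, b2, b3, b4, b5⟩ := normal_form ⟨_, z⟩ hu e2 he H₂ h₂
  obtain rfl : v1 = v2 := gl_ext (a1.trans b1.symm) (a2.trans b2.symm) (a3.trans b3.symm)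
    (a4.trans b4.symm)
  refine ⟨g2⁻¹ * g1, ?_⟩
  have := congrArg (Subgroup.map (MulAut.conj g2⁻¹).toMonoidHom) (b5.trans a5.symm)
  rw [map_map, map_map] at this
  convert this using 1
  · convert (map_id H₂).symm
    ext x : 1
    simp [mul_assoc]
  · congr 1
    ext x : 1
    simp [mul_assoc]

end Cfsg.Agent.S2874
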