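import Cfsg.Statements.S2879
import Cfsg.Agent.Lib.Grp.Two3
import Cfsg.Agent.Lib.Grp.SL23
import Cfsg.Agent.Lib.Loc.H6PSolv

set_option autoImplicit false
open Cfsg

namespace Cfsg.Agent.S2879


open Subgroup CA.SylIn CA.PRes CA.Two CA.MC2 CA.MC3 CA.Two3 CA.SL23

/-- Let G be a finite solvable group with O(G) = 1 whose Sylow 2-subgroup T is dihedral of order at least 8 or semidihedral, with G ≠ T and Z(T) normal in G. Then G has a normal subgroup isomorphic to SL₂(3). -/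
theorem result {G : Type*} [Group G] [Finite G] (hsol : IsSolvable G) (hO : Cfsg.oddCore G = ⊥) (T : Sylow 2 G) (hT : (∃ n : ℕ, 4 ≤ n ∧ Nonempty (↥(T : Subgroup G) ≃* DihedralGroup n)) ∨ Cfsg.IsQuasiDihedral ↥(T : Subgroup G)) (hne : (T : Subgroup G) ≠ ⊤) (hZ : ((T : Subgroup G) ⊓ Subgroup.centralizer ((T : Subgroup G) : Set G)).Normal) : ∃ U : Subgroup G, U.Normal ∧ Nonempty (↥U ≃* Matrix.SpecialLinearGroup (Fin 2) (ZMod 3)) := by
  have : ∃ (m : ℕ) (ε : ℤ) (a y : G), 1 ≤ m ∧ MC m ε 0 a y ∧ zpowers a ⊔ zpowers y = T := by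
    rcases hT with ⟨n, hn, ⟨e⟩⟩ | hT
    · obtain ⟨m, a, y, rfl, h, e⟩ := exists_of_dihedral' T.isPGroup' (by omega) e
      refine ⟨m, 0, a, y, ?_, h, e⟩
      rcases m with _ | m <;> omega
    · obtain ⟨m, a, y, hm, h, e⟩ := exists_of_qd hT
      exact ⟨m, 1, a, y, by omega, h, e⟩
  obtain ⟨m, ε, a, y, hm, h, hS⟩ := this
  have hC := CA.H6PSolv.centralizer_pCore_le (p := 2) hO (CA.H6PSolv.isPSolvable_of_isSolvable hsol)
  obtain ⟨g, h1, h2, h3⟩ := (isPGroup_or_act hC).resolve_left fun hG =>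
    hne (T.is_maximal' (hG.to_subgroup ⊤) le_top).symm
  have hQ := (CA.Core.isPGroup_pCore.le_sylow_of_normal T).trans hS.ge
  obtain ⟨k, w, hw, hw', e, h4, h5⟩ := h.act_cases hQ h1 h2 h3
  rw [← hS, h.inf_centralizer hm] at hZ
  rcases h5 with ⟨rfl, -⟩ | ⟨hk, h5⟩
  · exact absurd (zpowers_pow_le _ _ (h4 ▸ hZ.conj_mem _ (mem_zpowers _) g)) hw'
  obtain ⟨δ, h', -⟩ := h.out (hQ hw) hw'
  have hδ := h'.sq_eq_z.1 h5
  have hq := sub_q8 h' hk
  change _ = _ ⊔ _ at e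
  have h6 := q8_relIndex_dvd' hq hδ
  obtain ⟨c, v, hr, hc, hv, e'⟩ := exists_rel hq hδ (e ▸ h1) h2 h4
  rw [← e] at h6 e'
  rw [sup_eq_left.2 hC, normalizer_eq_top, relIndex_top_right] at h6
  have h7 : g ^ 3 = 1 := eq_one_of_coprime_of_mem CA.Core.isPGroup_pCore
    (hC (e' ▸ mem_centralizer_sup hr.cube_c hr.cube_w)) (h2.coprime_dvd_left (orderOf_pow_dvd 3))
  have h8 := hr.card_eq h7 hc hv
  have h9 : Nat.card (pCore 2 G) = 8 := e' ▸ (hr.mc hc hv).card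
  refine ⟨zpowers c ⊔ zpowers v ⊔ zpowers g, ?_, ?_⟩
  · have e1 := (zpowers c ⊔ zpowers v ⊔ zpowers g).card_mul_index
    have e2 := (pCore 2 G).card_mul_index
    rw [h8] at e1
    rw [h9, ← e1] at e2
    have := Nat.le_of_dvd (by norm_num) h6
    have h0 := (zpowers c ⊔ zpowers v ⊔ zpowers g).index_ne_zero_of_finite
    rcases (by omega : (zpowers c ⊔ zpowers v ⊔ zpowers g).index = 1 ∨
      (zpowers c ⊔ zpowers v ⊔ zpowers g).index = 2) with h | h
    · rw [index_eq_one.1 h]; infer_instance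
    · exact normal_of_index_eq_two h
  · have hc' : c ∈ zpowers c ⊔ zpowers v ⊔ zpowers g := mem_sup_left (mem_sup_left (mem_zpowers c))
    have hv' : v ∈ zpowers c ⊔ zpowers v ⊔ zpowers g := mem_sup_left (mem_sup_right (mem_zpowers v))
    have hg' : g ∈ zpowers c ⊔ zpowers v ⊔ zpowers g := mem_sup_right (mem_zpowers g)
    refine nonempty_sl23 (c := ⟨c, hc'⟩) (w := ⟨v, hv'⟩) (t := ⟨g, hg'⟩)
      ⟨Subtype.ext hr.c4, Subtype.ext hr.w2, Subtype.ext hr.wc, Subtype.ext hr.tc, Subtype.ext hr.tw⟩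
      (Subtype.ext h7) (by rw [← orderOf_coe, hc]) (fun ⟨i, hi⟩ => hv ⟨i, congrArg Subtype.val hi⟩) ?_
    apply map_injective (subtype_injective _)
    rw [Subgroup.map_sup, Subgroup.map_sup, MonoidHom.map_zpowers, MonoidHom.map_zpowers,
      MonoidHom.map_zpowers, ← MonoidHom.range_eq_map, range_subtype]
    rfl

end Cfsg.Agent.S2879
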