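import Cfsg.Statements.S2880
import Cfsg.Agent.Lib.Grp.H7Ext

set_option autoImplicit false
open Cfsg

namespace Cfsg.Agent.S2880

/-- Let E be an extraspecial 2-group of order 2^(2m+1) of plus type, that is, containing an elementary abelian subgroup of order 2^(m+1) (equivalently, a central product of m dihedral groups of order 8). Then E has exactly 2^(2m) − 2^m elements of order 4. -/
theorem result {E : Type*} [Group E] [Finite E] (m : ℕ) (hm : 1 ≤ m) (hE : Cfsg.IsExtraspecial 2 E) (hcard : Nat.card E = 2 ^ (2 * m + 1)) (hplus : ∃ A : Subgroup E, Cfsg.IsElementaryAbelian 2 A ∧ Nat.card A = 2 ^ (m + 1)) : Nat.card {x : E // orderOf x = 4} = 2 ^ (2 * m) - 2 ^ m := by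
  haveI := Fact.mk Nat.prime_two
  obtain ⟨n, k, c, hz, -, h2, h3, h4⟩ := CA.H7Ext.exists_two hE
  obtain ⟨A, hA, e⟩ := hplus
  obtain rfl : m = n + 1 := by
    have := Nat.pow_right_injective le_rfl (hcard.symm.trans h3); omega
  have h5 := (c.rank h2).2 A hA.2
  rw [e, Nat.pow_le_pow_iff_right one_lt_two] at h5
  obtain ⟨-, h4⟩ := h4.resolve_right (by omega)
  have h6 : ∀ x : E, orderOf x = 4 ↔ ¬ x ^ 2 = 1 := fun x => by
    obtain ⟨a, ha⟩ := c.pow_mem' x
    refine ⟨fun h h' => absurd (h ▸ orderOf_dvd_of_pow_eq_one h') (by decide), fun h => ?_⟩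
    exact orderOf_eq_prime_pow (p := 2) (n := 1) (by simpa using h) (by
      rw [show 2 ^ (1 + 1) = 2 * 2 from rfl, pow_mul, ← ha, c.ζ_pow])
  classical
  cases nonempty_fintype E
  rw [Nat.card_congr (Equiv.subtypeEquivRight h6), Nat.card_eq_fintype_card, Fintype.card_subtype_compl,
    ← Nat.card_eq_fintype_card, ← Nat.card_eq_fintype_card, h4, h3, pow_succ 2 (2 * (n + 1))]
  omega

end Cfsg.Agent.S2880
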