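import Cfsg.Statements.S2881
import Cfsg.Agent.S2880

set_option autoImplicit false
open Cfsg

namespace Cfsg.Agent.S2881

open Subgroup

/-- Let E be an extraspecial 2-group of order 2^(2m+1) of plus type (containing an elementary abelian subgroup of order 2^(m+1)), and let ω be an automorphism of E of order 5 whose fixed points are exactly the centre of E. Then m is divisible by 4. -/
theorem result {E : Type*} [Group E] [Finite E] (m : ℕ) (hm : 1 ≤ m) (hE : Cfsg.IsExtraspecial 2 E) (hcard : Nat.card E = 2 ^ (2 * m + 1)) (hplus : ∃ A : Subgroup E, Cfsg.IsElementaryAbelian 2 A ∧ Nat.card A = 2 ^ (m + 1)) (ω : E ≃* E) (hω : orderOf ω = 5) (hfix : ∀ x : E, ω x = x ↔ x ∈ Subgroup.center E) : 4 ∣ m := by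
  haveI : Fact (Nat.Prime 5) := ⟨by norm_num⟩
  have h1 := Cfsg.Agent.S2880.result m hm hE hcard hplus
  have hP : IsPGroup 5 (zpowers (ω : MulAut E)) := IsPGroup.of_card (n := 1) (by rw [Nat.card_zpowers, hω, pow_one])
  let X : SubMulAction (zpowers (ω : MulAut E)) E :=
    ⟨{x | orderOf x = 4}, fun g x hx => (MulEquiv.orderOf_eq (g : MulAut E) x).trans hx⟩
  haveI : IsEmpty (MulAction.fixedPoints (zpowers (ω : MulAut E)) X) := ⟨fun ⟨⟨x, hx⟩, h⟩ => by
    have h2 := orderOf_dvd_natCard (⟨x, (hfix x).1 (congrArg Subtype.val (h ⟨ω, mem_zpowers _⟩))⟩ : center E)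
    rw [hE.2, ← orderOf_coe, show orderOf x = 4 from hx] at h2
    exact absurd h2 (by decide)⟩
  have h2 := hP.card_modEq_card_fixedPoints X
  rw [show Nat.card X = _ from h1, Nat.card_of_isEmpty, two_mul, pow_add, ← Nat.mul_sub_one] at h2
  have h3 : 5 ∣ 2 ^ m - 1 := (Nat.Coprime.pow_right m (by norm_num)).dvd_of_dvd_mul_left (Nat.modEq_zero_iff_dvd.1 h2)
  have h4 : 2 ^ m % 5 = 1 := ((Nat.modEq_iff_dvd' Nat.one_le_two_pow).2 h3).symm
  rw [← Nat.div_add_mod m 4, pow_add, pow_mul, Nat.mul_mod, Nat.pow_mod] at h4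
  have : m % 4 < 4 := Nat.mod_lt _ (by norm_num)
  apply Nat.dvd_of_mod_eq_zero
  generalize m % 4 = r at *
  interval_cases r <;> simp at h4 ⊢

end Cfsg.Agent.S2881
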