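import Cfsg.Statements.S2882
import Cfsg.Agent.Lib.Spor.M24Syl
import Cfsg.Agent.Lib.Odd.BGPi

set_option autoImplicit false
open Cfsg

namespace Cfsg.Agent.S2882

open CA CA.BG CA.M24Syl Subgroup

/-- In the Mathieu group of degree 24 (realised as the automorphism group of the extended binary Golay code) every Sylow 2-subgroup is self-normalizing. -/
theorem result (S : Sylow 2 ↥Cfsg.M24) : Subgroup.normalizer ((S : Subgroup ↥Cfsg.M24) : Set ↥Cfsg.M24) = (S : Subgroup ↥Cfsg.M24) := by
  have h1 : Syl 2 P24 ⊤ := Syl.mk'' Nat.prime_two le_top (isPi_of_card_eq_pow Nat.prime_two (k := 10) st24c3.card) (by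
    have := P24.card_mul_index
    rw [st24c3.card, M24Core.card_M24] at this
    rw [relIndex_top_right]; omega)
  obtain ⟨g, -, h2⟩ := h1.syl_conj Nat.prime_two (syl_top Nat.prime_two S)
  rw [← h2, ← cj_norm, le_antisymm (fun x hx => selfN24 x trivial hx) le_normalizer]

end Cfsg.Agent.S2882
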