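import Cfsg.Statements.S2911
import Cfsg.Agent.Lib.Loc.AmbChar
import Cfsg.Agent.Lib.Loc.AmbTr
import Cfsg.Agent.Lib.Grp.PGBasic
import Cfsg.Agent.Lib.Grp.PGFrattini
-- import your own Cfsg.Agent.* helpers here

set_option autoImplicit false
open Cfsg

namespace Cfsg.Agent.S2911

/-- A finite group whose Sylow 2-subgroups are isomorphic to the direct product of a group of order 2 and a dihedral group of order 8 has a subgroup of index two. -/
theorem result {G : Type*} [Group G] [Finite G] (S : Sylow 2 G) (hS : Nonempty (↥(S : Subgroup G) ≃* Multiplicative (ZMod 2) × DihedralGroup 4)) : ∃ H : Subgroup G, H.index = 2 := by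
  open Subgroup Cfsg CA CA.Amb CA.AmbSyl CA.AmbCore CA.AmbRes CA.AmbChar CA.AmbIso CA.AmbTr in
  open scoped commutatorElement in
  (
    obtain ⟨e⟩ := hS
    by_contra hc
    push Not at hc
    let f := (MonoidHom.fst _ _).comp e.toMonoidHom
    let c : Multiplicative (ZMod 2) × DihedralGroup 4 := (Multiplicative.ofAdd 1, 1)
    have hc1 : ∀ x, x * c = c * x := by decide
    have hz : ((e.symm c : S) : G) ∈ 𝐂 (S : Subgroup G) := fun x hx => by
      have := congrArg (fun y => ((e.symm y : S) : G)) (hc1 (e ⟨x, hx⟩))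
      simpa using this
    obtain ⟨t, t1, t2⟩ := thompson_extremal (PRes.pResidual_two_eq_top_iff.2 hc) (S := S)
      (M := f.ker.map (S : Subgroup G).subtype) (u := e.symm c)
      (by rw [← Nat.not_even_iff_odd, even_iff_two_dvd]; exact S.not_dvd_index) (map_subtype_le _)
      (by rw [relIndex, subgroupOf, comap_map_eq_self_of_injective (subtype_injective _), index_ker,
            MonoidHom.range_eq_top.2 (fun x => ⟨e.symm (x, 1), by simp [f]⟩), card_top]
          simp)
      (by rw [← Subgroup.coe_pow, ← map_pow, show c ^ 2 = 1 by decide, map_one, coe_one])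
      S.isPGroup' (le_cent_of_mem hz)
    have ht := mem_normalizer_of_cj_le t2
    obtain ⟨m, m1, m2⟩ := t1
    have m3 : (m : G) ∈ 𝐂 (S : Subgroup G) := by
      have := conj_mem_of_mem_normalizer (normalizer_le_normalizer_centralizer _ ht) hz
      rwa [inv_inv, ← m2] at this
    have k : ∀ y : Multiplicative (ZMod 2) × DihedralGroup 4, y.1 = 1 → (∀ x, x * y = y * x) → ∃ x, x * x = y := by
      decide
    obtain ⟨x, hx⟩ := k (e m) m1 fun x => by
      have : e.symm x * m = m * e.symm x := Subtype.ext (m3 _ (e.symm x).2)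
      simpa using congrArg e this
    have k2 : ∀ y, y * y ≠ c := by decide
    apply k2 (e ⟨_, inv_conj_mem_of_mem_normalizer ht (e.symm x).2⟩)
    rw [← map_mul, ← e.eq_symm_apply]
    have : ((e.symm x : S) : G) * e.symm x = t⁻¹ * e.symm c * t := by
      rw [← m2, ← Subgroup.coe_mul, ← map_mul, hx]; simp
    refine Subtype.ext ?_
    change _ * _ = _
    rw [show ∀ a : G, t⁻¹⁻¹ * a * t⁻¹ * (t⁻¹⁻¹ * a * t⁻¹) = t * (a * a) * t⁻¹ from fun a => by group, this]
    group)

end Cfsg.Agent.S2911
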