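import Cfsg.Statements.S4231
import Cfsg.Agent.Lib.Perm.SymIdx

set_option autoImplicit false
open Cfsg

namespace Cfsg.Agent.S4231

open Equiv Equiv.Perm

def y0 : alternatingGroup (Fin 6) :=
  ⟨swap 0 1 * swap 0 2 * (swap 3 4 * swap 3 5), by simp⟩

theorem conj_y0 (y : alternatingGroup (Fin 6)) (h : y.1.cycleType = {3, 3}) : IsConj y0 y := by
  haveI : Fact (Nat.Prime 3) := ⟨Nat.prime_three⟩
  have h0 : y0.1.cycleType = {3, 3} := CA.SymIdx.type_three (by simp)
    (orderOf_eq_prime (by decide) (by decide)) (by rw [← card_support_eq_three_iff]; decide)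
  obtain ⟨ρ, hρ⟩ := isConj_iff.1 (isConj_iff_cycleType_eq.2 (h0.trans h.symm))
  rcases Int.units_eq_one_or (sign ρ) with h1 | h1
  · exact isConj_iff.2 ⟨⟨ρ, h1⟩, Subtype.ext hρ⟩
  · let τ : Perm (Fin 6) := swap 0 3 * swap 1 4 * swap 2 5
    have hτ : τ * y0.1 * τ⁻¹ = y0.1 := by decide
    have hs : sign τ = -1 := by simp [τ]
    refine isConj_iff.2 ⟨⟨ρ * τ, by simp [h1, hs]⟩, Subtype.ext ?_⟩
    show ρ * τ * y0.1 * (ρ * τ)⁻¹ = y.1
    rw [← hρ]
    conv_rhs => rw [← hτ]
    group

theorem sq_three (γ : MulAut (alternatingGroup (Fin 6))) (x : alternatingGroup (Fin 6))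
    (hx : x.1.IsThreeCycle) : (γ (γ x)).1.IsThreeCycle := by
  have ho : ∀ z : alternatingGroup (Fin 6), orderOf (γ z).1 = orderOf z.1 := fun z => by
    rw [Subgroup.orderOf_coe, Subgroup.orderOf_coe, MulEquiv.orderOf_eq]
  have hc : ∀ {a b : alternatingGroup (Fin 6)}, IsConj a b → a.1.IsThreeCycle → b.1.IsThreeCycle :=
    fun h ha => (isConj_iff_cycleType_eq.1 ((Subgroup.subtype _).map_isConj h)).symm.trans ha
  by_cases h1 : (γ x).1.IsThreeCycle
  · exact hc (γ.toMonoidHom.map_isConj (alternatingGroup.isThreeCycle_isConj (by simp) hx h1)) h1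
  by_contra h2
  have e1 := conj_y0 _ (CA.SymIdx.type_three (by simp) ((ho x).trans hx.orderOf) h1)
  have e2 := conj_y0 _ (CA.SymIdx.type_three (by simp) ((ho _).trans ((ho x).trans hx.orderOf)) h2)
  have := γ.symm.toMonoidHom.map_isConj (e1.symm.trans e2)
  simp only [MulEquiv.toMonoidHom_eq_coe, MonoidHom.coe_coe, MulEquiv.symm_apply_apply] at this
  exact h1 (hc this hx)

theorem odd_conj {n : ℕ} (hn : 5 ≤ n) (β : MulAut (alternatingGroup (Fin n)))
    (hβ : Odd (orderOf β)) : ∃ σ : Perm (Fin n), MulAut.conjNormal σ = β := by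
  by_cases h6 : n = 6
  · subst h6
    obtain ⟨k, hk⟩ := hβ
    have e : β = β ^ (k + 1) * β ^ (k + 1) := by
      rw [← pow_add, show k + 1 + (k + 1) = (2 * k + 1) + 1 by ring, ← hk, pow_succ,
        pow_orderOf_eq_one, one_mul]
    refine CA.AutAn.exists_conj_of_three (by simp) β fun x hx => ?_
    rw [e]
    exact sq_three (β ^ (k + 1)) x hx
  · exact CA.AutAn.exists_conj (by simp; omega) (by simpa using h6) β

theorem ab {n : ℕ} (hn : 5 ≤ n) (G : Subgroup (MulAut (alternatingGroup (Fin n)))) {q : ℕ}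
    [hq : Fact q.Prime] (h2 : q ≠ 2) (h3 : n < 3 * q) (Q : Sylow q G) :
    IsMulCommutative (Q : Subgroup G) := by
  obtain ⟨k, hk⟩ := Q.isPGroup'.exists_card_eq
  have hle : (Q : Subgroup G).map G.subtype ≤ (MulAut.conjNormal :
      Perm (Fin n) →* MulAut (alternatingGroup (Fin n))).range := by
    rintro _ ⟨x, hx, rfl⟩
    refine odd_conj hn _ (Odd.of_dvd_nat ((hq.out.odd_of_ne_two h2).pow (n := k)) ?_)
    rw [← hk, Subgroup.coe_subtype, Subgroup.orderOf_coe]
    exact Subgroup.orderOf_dvd_natCard _ hx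
  have hd := Subgroup.card_dvd_of_le hle
  rw [Subgroup.card_subtype, hk] at hd
  replace hd := hd.trans (Subgroup.card_range_dvd _)
  rw [Nat.card_perm, Nat.card_fin, padicValNat_dvd_iff_le (Nat.factorial_ne_zero n),
    ← padicValNat_mul_div_factorial, padicValNat_factorial_mul] at hd
  have h4 : n / q < 3 := Nat.div_lt_of_lt_mul (by omega)
  have h5 : padicValNat q (n / q).factorial = 0 := by
    refine padicValNat.eq_zero_of_not_dvd fun h => ?_
    have := hq.out.dvd_factorial.1 h
    have := hq.out.two_le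
    omega
  have : k = 0 ∨ k = 1 ∨ k = 2 := by omega
  rcases this with rfl | rfl | rfl
  · rw [pow_zero, Subgroup.card_eq_one] at hk
    rw [hk]
    infer_instance
  · haveI := isCyclic_of_prime_card (hk.trans (pow_one q))
    infer_instance
  · exact IsPGroup.isMulCommutative_of_card_eq_prime_sq hk

theorem lt {n : ℕ} (hn : 5 ≤ n) (G : Subgroup (MulAut (alternatingGroup (Fin n))))
    (hG : (MulAut.conj : alternatingGroup (Fin n) →* MulAut (alternatingGroup (Fin n))).range ≤ G)
    {p q : ℕ} (hp : p.Prime) (hq : q.Prime) (hpq : p < q) (h : ∀ g : G, orderOf g ≠ p * q) :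
    n < 3 * q := by
  by_contra hc
  have key : ∀ g : Perm (Fin n), sign g = 1 → orderOf g ≠ p * q := fun g hg ho => by
    refine h ⟨_, hG ⟨⟨g, hg⟩, rfl⟩⟩ ?_
    rw [← Subgroup.orderOf_coe, ← ho,
      ← orderOf_injective _ (CA.AutAn.conjNormal_injective (by simp; omega)) g]
    rfl
  have hcop : p.Coprime q := (Nat.coprime_primes hp hq).2 hpq.ne
  have h2 := hp.two_le
  have hoq : Odd q := hq.odd_of_ne_two (by omega)
  rcases hp.eq_two_or_odd' with rfl | hop
  · obtain ⟨g, hg⟩ := (exists_with_cycleType_iff (Fin n) (m := {2, 2, q})).2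
      ⟨by simp; omega, by simp; omega⟩
    refine key g ?_ ?_
    · rw [sign_of_cycleType, hg]
      refine Even.neg_one_pow ?_
      obtain ⟨k, rfl⟩ := hoq
      exact ⟨k + 4, by simp; ring⟩
    · rw [← lcm_cycleType, hg]
      simp [lcm_eq_nat_lcm, ← Nat.lcm_assoc, hcop.lcm_eq_mul]
  · obtain ⟨g, hg⟩ := (exists_with_cycleType_iff (Fin n) (m := {p, q})).2
      ⟨by simp; omega, by simp; omega⟩
    refine key g ?_ ?_
    · rw [sign_of_cycleType, hg]
      refine Even.neg_one_pow ?_
      obtain ⟨k, rfl⟩ := hoq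
      obtain ⟨j, rfl⟩ := hop
      exact ⟨k + j + 2, by simp; ring⟩
    · rw [← lcm_cycleType, hg]
      simp [lcm_eq_nat_lcm, hcop.lcm_eq_mul]

/-- Let n ≥ 5 and let G be a group of automorphisms of the alternating group of degree n containing all inner automorphisms. If p ≠ q are primes and G has no element of order pq, then every Sylow p-subgroup of G is abelian or every Sylow q-subgroup of G is abelian. -/
theorem result (n : ℕ) (hn : 5 ≤ n) (G : Subgroup (MulAut (alternatingGroup (Fin n))))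
    (hG : (MulAut.conj : alternatingGroup (Fin n) →* MulAut (alternatingGroup (Fin n))).range ≤ G)
    (p q : ℕ) [Fact p.Prime] [Fact q.Prime] (hpq : p ≠ q) (h : ∀ g : G, orderOf g ≠ p * q) :
    (∀ P : Sylow p G, IsMulCommutative (P : Subgroup G)) ∨ (∀ Q : Sylow q G, IsMulCommutative (Q : Subgroup G)) := by
  have hp : p.Prime := Fact.out
  have hq : q.Prime := Fact.out
  have := hp.two_le
  have := hq.two_le
  rcases lt_or_gt_of_ne hpq with h1 | h1
  · exact Or.inr (ab hn G (by omega) (lt hn G hG hp hq h1 h))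
  · exact Or.inl (ab hn G (by omega) (lt hn G hG hq hp h1 (by rwa [mul_comm])))

end Cfsg.Agent.S4231
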