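import Cfsg.Statements.S2930
import Cfsg.Agent.S4231
import Cfsg.Agent.Lib.Perm.PartStab
import Cfsg.Agent.Lib.Perm.HallSn2
import Cfsg.Agent.Lib.Grp.Fstar
import Cfsg.Agent.Lib.Grp.PGBasic

set_option autoImplicit false
open Cfsg

namespace Cfsg.Agent.S2930

open Subgroup Equiv Equiv.Perm CA.PartStab MulAction
open scoped Pointwise

section perm
variable {α : Type} [Fintype α] [DecidableEq α]

theorem viol {ι : Type*} (f : α → ι) {t : Set α} {x y w u : α} (hy : y ∈ t) (hw : w ∈ t) (hu : u ∈ t)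
    (xy : x ≠ y) (h1 : f x = f y) (h2 : f w ≠ f y) (ux : u ≠ x) (uy : u ≠ y) (uw : u ≠ w) :
    ∃ g : alternatingGroup α, (∀ z ∉ t, g.1 z = z) ∧ g.1 ∉ P f := by
  have wy : w ≠ y := fun h => h2 (h ▸ rfl)
  have xw : x ≠ w := fun h => h2 (h ▸ h1)
  refine ⟨⟨swap y u * swap y w, by simp [wy.symm, uy.symm]⟩, fun z hz => ?_, fun h => ?_⟩
  · simp only [mul_apply]
    rw [swap_apply_of_ne_of_ne (x := z), swap_apply_of_ne_of_ne] <;> rintro rfl <;> contradiction
  · have := (h x y).1 h1
    simp only [mul_apply] at this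
    rw [swap_apply_left, swap_apply_of_ne_of_ne wy uw.symm, swap_apply_of_ne_of_ne xy xw,
      swap_apply_of_ne_of_ne xy ux.symm] at this
    exact h2 (this.symm.trans h1)

theorem pick {t : Set α} (h : 4 ≤ t.ncard) (s : Finset α) (hs : s.card ≤ 3) : ∃ u ∈ t, u ∉ s := by
  by_contra! c
  have := Set.ncard_le_ncard (t := (s : Set α)) c
  rw [Set.ncard_coe_finset] at this
  omega

theorem triples {m : ℕ} (hm : Fintype.card α = 3 * m) {T : Subgroup (Perm α)} (hT : IsPGroup 3 T) :
    ∃ f : α → Fin m, (∀ i, Nat.card {x // f x = i} = 3) ∧ T ≤ P f := by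
  haveI := Fact.mk Nat.prime_three
  have q : α ≃ Fin m × Fin 3 := Fintype.equivOfCardEq (by simp [hm, mul_comm])
  let z : Perm α := (q.trans ((Equiv.refl _).prodCongr (Equiv.addRight (1 : Fin 3)))).trans q.symm
  have hz : ∀ x, q (z x) = ((q x).1, (q x).2 + 1) := fun x => by simp [z, Prod.map]
  have z3 : z ^ 3 = 1 := by
    ext x
    refine q.injective ?_
    simp only [pow_succ, pow_zero, one_mul, mul_apply, hz, one_apply]
    exact Prod.ext rfl ((by decide : ∀ a : Fin 3, a + 1 + 1 + 1 = a) _)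
  have sp : z.support = Finset.univ := Finset.eq_univ_of_forall fun x => mem_support.2 fun h => by
    have := hz x
    rw [h] at this
    exact (by decide : ∀ a : Fin 3, a ≠ a + 1) _ (congrArg Prod.snd this)
  have ct := cycleType_of_pow_prime_eq_one z3
  have sm := z.sum_cycleType
  rw [sp, Finset.card_univ, hm, ct, Multiset.sum_replicate, smul_eq_mul] at sm
  rw [show z.cycleType.card = m by omega] at ct
  have cc : Nat.card (centralizer {z}) = 3 ^ m * m.factorial := by
    rw [nat_card_centralizer, ct, hm]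
    by_cases h : m = 0
    · simp [h]
    · simp [h, mul_comm m]
  obtain ⟨g, -, hg⟩ := CA.HallSn.kp Nat.prime_three (H := centralizer {z}) (L := ⊤) (fun h => by
    rw [relIndex_top_right] at h
    have h1 := (centralizer {z}).card_mul_index
    rw [cc, Nat.card_perm, Nat.card_eq_fintype_card, hm] at h1
    have h2 := congrArg (padicValNat 3) h1
    have i0 : (centralizer {z}).index ≠ 0 := FiniteIndex.index_ne_zero
    rw [padicValNat.mul (by positivity) i0, padicValNat.mul (by positivity) (by positivity),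
      padicValNat.prime_pow, padicValNat_factorial_mul] at h2
    have := one_le_padicValNat_of_dvd i0 h
    omega) hT le_top
  have k : ∀ s ∈ centralizer {z}, ∀ x y, (q x).1 = (q y).1 → (q (s x)).1 = (q (s y)).1 :=
    fun s hs x y h => by
      have c : ∀ x, s (z x) = z (s x) := fun x =>
        congrArg (fun σ : Perm α => σ x) (mem_centralizer_singleton_iff.1 hs)
      rcases (by decide : ∀ a b : Fin 3, b = a ∨ b = a + 1 ∨ b = a + 1 + 1) (q x).2 (q y).2 with
        e | e | e
      · rw [q.injective (Prod.ext h e.symm)]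
      · rw [show y = z x from q.injective (by rw [hz]; exact Prod.ext h.symm e), c, hz]
      · rw [show y = z (z x) from q.injective (by rw [hz, hz]; exact Prod.ext h.symm e), c, c, hz, hz]
  refine ⟨fun x => (q (g x)).1, fun i => ?_, fun t ht x y => ⟨fun h => ?_, fun h => ?_⟩⟩
  · refine (Nat.card_congr ((g.trans q).subtypeEquiv (q := fun y => y.1 = i) fun _ => Iff.rfl)).trans ?_
    simp [Fintype.card_subtype, Finset.filter_product_left (p := (· = i)), ← Finset.univ_product_univ,
      Finset.filter_eq']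
  · simpa using k _ (hg t ht) _ _ h
  · simpa using k _ (hg t⁻¹ (inv_mem ht)) _ _ h

theorem main (h5 : 5 ≤ Fintype.card α) {T M : Subgroup (alternatingGroup α)} (hT : IsPGroup 3 T)
    (hM : M ≠ ⊤) (hK : ∀ K, K ≠ ⊤ → T ≤ K → K ≤ M) :
    Fintype.card α = 6 ∨ Fintype.card α = 9 ∨ ∃ a, 2 ≤ a ∧ Fintype.card α = 3 ^ a + 1 := by
  haveI := Fact.mk Nat.prime_three
  have nc := Nat.card_eq_fintype_card (α := α)
  haveI := alternatingGroup.isPretransitive_of_three_le_card α (by omega)
  have co : ∀ K, IsCoatom K → T ≤ K → M = K := fun K h1 h2 =>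
    (h1.le_iff.1 (hK K h1.1 h2)).resolve_left hM
  have st : ∀ b c : α, c ∉ orbit T b → stabilizer (alternatingGroup α) (orbit T b) ≤ M := fun b c hc =>
    hK _ (fun e => by
      obtain ⟨g, rfl⟩ := exists_smul_eq (alternatingGroup α) b c
      exact hc ((mem_stabilizer_set.1 (e.ge (mem_top g)) b).2 (mem_orbit_self b)))
      fun g hg => smul_orbit (⟨g, hg⟩ : T) b
  by_cases h3 : 3 ∣ Fintype.card α
  swap
  · obtain ⟨a, ha⟩ := hT.nonempty_fixed_point_of_prime_not_dvd_card α (nc ▸ h3)
    haveI := alternatingGroup.isPreprimitive_of_three_le_card α (by omega)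
    haveI : Nontrivial α := Fintype.one_lt_card_iff_nontrivial.1 (by omega)
    have e := co _ (IsPreprimitive.isCoatom_stabilizer_of_isPreprimitive _ a) fun g hg => ha ⟨g, hg⟩
    obtain ⟨b, hb⟩ := exists_ne a
    have ab : a ∉ orbit T b := fun h => hb (by
      obtain ⟨g, hg⟩ := mem_orbit_symm.1 h
      exact hg.symm.trans (ha g))
    have o : orbit T b = {a}ᶜ := Set.Subset.antisymm (fun x hx e => ab (e ▸ hx)) fun c hc => by
      by_contra c1
      obtain ⟨g, g1, g2⟩ := alternatingGroup.exists_mem_stabilizer_smul_eq (α := α) (by omega)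
        (t := (orbit T b)ᶜ) a ab c c1
      rw [stabilizer_compl] at g1
      exact hc (g2.symm.trans (e.le (st b a ab g1)))
    obtain ⟨k, hk⟩ := hT.card_orbit b
    rw [o, Nat.card_coe_set_eq, Set.ncard_compl, Set.ncard_singleton, nc] at hk
    refine Or.inr (Or.inr ⟨k, ?_, by omega⟩)
    rcases k with _ | _ | k <;> omega
  obtain ⟨m, hm⟩ := h3
  by_contra! H
  obtain ⟨f, f1, f2⟩ := triples hm (hT.map (alternatingGroup α).subtype)
  have e := co _ (isCoatom_alt (by omega) (by omega) (by omega) f1) fun g hg =>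
    ⟨f2 (mem_map_of_mem _ hg), g.2⟩
  have no : ∀ t : Set α, 4 ≤ t.ncard → (∀ g : alternatingGroup α, (∀ z ∉ t, g.1 z = z) → g ∈ M) →
      False := fun t ht h => by
    obtain ⟨y, hy, -⟩ := pick ht ∅ (by simp)
    obtain ⟨x, x1, x2⟩ := exists_fib f1 (f y) {y} (by simp)
    obtain ⟨w, hw, w1⟩ := pick ht (Finset.univ.filter fun w => f w = f y) (by
      rw [← Fintype.card_subtype, ← Nat.card_eq_fintype_card, f1])
    obtain ⟨u, hu, u1⟩ := pick ht {x, y, w} Finset.card_le_three
    simp only [Finset.mem_insert, Finset.mem_singleton, not_or] at u1 x2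
    obtain ⟨g, g1, g2⟩ := viol f hy hw hu x2 x1 (by simpa using w1) u1.1 u1.2.1 u1.2.2
    exact g2 (e.le (h g g1)).1
  have fx : ∀ (t : Set α) (g : alternatingGroup α), (∀ z ∉ t, g.1 z = z) → ∀ z ∈ t, g.1 z ∈ t :=
    fun t g h z hz => by
      by_contra c
      exact c ((g.1.injective (h _ c)).symm ▸ hz)
  have sb : ∀ (t : Set α) (g : alternatingGroup α), (∀ z ∉ t, g.1 z = z) →
      g ∈ stabilizer (alternatingGroup α) t := fun t g h => mem_stabilizer_set.2 fun z => by
    by_cases c : z ∈ t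
    · exact iff_of_true (fx t g h z c) c
    · exact iff_of_false ((h z c).symm ▸ c : g.1 z ∉ t) c
  obtain ⟨b⟩ : Nonempty α := Fintype.card_pos_iff.1 (by omega)
  have tr : ∀ c, c ∈ orbit T b := fun c => by
    by_contra c1
    have := Set.ncard_add_ncard_compl (orbit T b)
    by_cases h4 : 4 ≤ (orbit T b).ncard
    · exact no _ h4 fun g hg => st b c c1 (sb _ g hg)
    · exact no (orbit T b)ᶜ (by omega) fun g hg => st b c c1 (by
        rw [← stabilizer_compl]; exact sb _ g hg)
  obtain ⟨k, hk⟩ := hT.card_orbit b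
  rw [Nat.card_coe_set_eq, ← index_stabilizer] at hk
  have hk' := index_stabilizer T b
  rw [Set.eq_univ_of_forall tr, Set.ncard_univ, nc, hk] at hk'
  obtain ⟨j, rfl⟩ : ∃ j, k = j + 3 := ⟨k - 3, by rcases k with _ | _ | _ | k <;> omega⟩
  obtain ⟨N, N1, N2⟩ := (eq_top_or_exists_le_coatom (stabilizer T b)).resolve_left fun e => by
    rw [e, index_top] at hk
    have := Nat.one_lt_pow (a := 3) (n := j + 3) (by omega) (by omega)
    omega
  haveI := CA.PGBasic.normal_of_isCoatom hT N1
  have i1 := relIndex_mul_index N2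
  rw [(CA.PGBasic.isCoatom_iff_index_eq hT).1 N1, hk, pow_succ] at i1
  have i2 : (orbit N b).ncard = 3 ^ (j + 2) := by
    rw [← index_stabilizer, ← Nat.eq_of_mul_eq_mul_right three_pos i1]; rfl
  have i3 : 1 ≤ 3 ^ j := Nat.one_le_pow _ _ three_pos
  have i4 : 4 ≤ (orbit N b).ncard := by rw [i2, pow_add]; omega
  let r : α → orbitRel.Quotient N α := Quotient.mk _
  have hr : ∀ x y, r x = r y ↔ x ∈ orbit N y := fun x y => Quotient.eq
  have k1 : ∀ g ∈ T, ∀ x y, r x = r y → r (g.1 x) = r (g.1 y) := fun g hg x y h => by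
    obtain ⟨n, rfl⟩ := (hr _ _).1 h
    refine (hr _ _).2 ⟨⟨_, (inferInstance : N.Normal).conj_mem _ n.2 ⟨g, hg⟩⟩, ?_⟩
    change g.1 (n.1.1.1 (g.1⁻¹ (g.1 y))) = g.1 (n.1.1.1 y)
    simp
  refine no _ i4 fun g hg => hK ((P r).subgroupOf _) (fun e => ?_) (fun g hg x y =>
    ⟨k1 g hg x y, fun h => by simpa using k1 g⁻¹ (inv_mem hg) _ _ h⟩) (mem_of_fix fun x => ?_)
  · obtain ⟨x, x1, x2⟩ := pick i4 {b} (by simp)
    obtain ⟨w, hw⟩ : ∃ w, w ∉ orbit N b := by
      by_contra! c
      rw [Set.eq_univ_of_forall c, Set.ncard_univ, nc, ← hk', pow_succ] at i2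
      have := Nat.one_le_pow (j + 2) _ three_pos
      omega
    obtain ⟨u, -, u1⟩ := pick i4 {x, b, w} Finset.card_le_three
    simp only [Finset.mem_insert, Finset.mem_singleton, not_or] at u1 x2
    obtain ⟨g, -, g2⟩ := viol r (t := Set.univ) trivial trivial trivial x2 ((hr _ _).2 x1)
      (fun h => hw ((hr _ _).1 h)) u1.1 u1.2.1 u1.2.2
    exact g2 (e.ge (mem_top g))
  · by_cases c : x ∈ orbit N b
    · exact ((hr _ _).2 (fx _ g hg x c)).trans ((hr _ _).2 c).symm
    · exact congrArg r (hg x c)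

end perm

/-- Let X be a finite 3-minimal group (a Sylow 3-subgroup is not normal and lies in a unique maximal subgroup) whose generalized Fitting subgroup is isomorphic to an alternating group of degree n ≥ 5. Then X = F*(X), and n = 6, n = 9, or n = 3ᵃ + 1 for some a ≥ 2. -/
theorem result {X : Type*} [Group X] [Finite X] (hX : Cfsg.IsPMinimal 3 X) (n : ℕ) (hn : 5 ≤ n) (hF : Nonempty (↥(Cfsg.generalizedFittingSubgroup X) ≃* ↥(alternatingGroup (Fin n)))) : Cfsg.generalizedFittingSubgroup X = ⊤ ∧ (n = 6 ∨ n = 9 ∨ ∃ a : ℕ, 2 ≤ a ∧ n = 3 ^ a + 1) := by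
  obtain ⟨e⟩ := hF
  haveI := Fact.mk Nat.prime_three
  obtain ⟨S⟩ : Nonempty (Sylow 3 X) := inferInstance
  obtain ⟨hS, M, ⟨M1, M2⟩, M3⟩ := hX S
  have hK : ∀ K, K ≠ ⊤ → (S : Subgroup X) ≤ K → K ≤ M := fun K h1 h2 => by
    obtain ⟨N, N1, N2⟩ := (eq_top_or_exists_le_coatom K).resolve_left h1
    exact M3 N ⟨N1, h2.trans N2⟩ ▸ N2
  have hS' : (S : Subgroup X) ≤ generalizedFittingSubgroup X := fun x hx => by
    obtain ⟨k, hk⟩ := S.isPGroup' ⟨x, hx⟩
    let φ : X →* MulAut (alternatingGroup (Fin n)) :=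
      (MulAut.congr e).toMonoidHom.comp MulAut.conjNormal
    have h1 : φ x ^ 3 ^ k = 1 := by
      rw [← map_pow, show x ^ 3 ^ k = 1 from congrArg Subtype.val hk, map_one]
    have od : Odd (3 ^ k) := Odd.pow (by decide)
    obtain ⟨σ, hσ⟩ := Cfsg.Agent.S4231.odd_conj hn (φ x)
      (od.of_dvd_nat (orderOf_dvd_of_pow_eq_one h1))
    have h2 : σ ^ 3 ^ k = 1 := CA.AutAn.conjNormal_injective (by simp; omega)
      (by rw [map_pow, hσ, h1, map_one])
    have h3 : sign σ = 1 := (Int.units_eq_one_or _).resolve_right fun c => by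
      have := congrArg sign h2
      rw [map_pow, c, od.neg_one_pow, map_one] at this
      exact absurd this (by decide)
    have h4 : ((e.symm ⟨σ, h3⟩ : generalizedFittingSubgroup X) : X)⁻¹ * x ∈
        generalizedFittingSubgroup X := CA.Fstar.centralizer_fstar_le fun y hy => by
      have h5 := DFunLike.congr_fun hσ (e ⟨y, hy⟩)
      have h6 : e.symm ⟨σ, h3⟩ * ⟨y, hy⟩ * (e.symm ⟨σ, h3⟩)⁻¹ = MulAut.conjNormal x ⟨y, hy⟩ := by
        refine e.injective ?_
        rw [map_mul, map_mul, map_inv, e.apply_symm_apply]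
        refine Eq.trans (Subtype.ext rfl) (h5.trans ?_)
        simp [φ]
      generalize e.symm ⟨σ, h3⟩ = a at h6 ⊢
      have h7 : a.1 * y * a.1⁻¹ = x * y * x⁻¹ := congrArg Subtype.val h6
      calc y * (a.1⁻¹ * x) = a.1⁻¹ * (a.1 * y * a.1⁻¹) * x := by group
        _ = _ := by rw [h7]; group
    exact (mul_mem_cancel_left (inv_mem (e.symm ⟨σ, h3⟩).2)).1 h4
  have top : generalizedFittingSubgroup X = ⊤ := by
    by_contra c
    exact M1.1 (top_le_iff.1 ((S.normalizer_sup_eq_top' hS').ge.trans (sup_le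
      (hK _ (fun h => hS (normalizer_eq_top_iff.1 h)) le_normalizer) (hK _ c hS'))))
  refine ⟨top, ?_⟩
  let e' : X ≃* alternatingGroup (Fin n) :=
    (topEquiv.symm.trans (MulEquiv.subgroupCongr top.symm)).trans e
  have := main (α := Fin n) (by simpa) (S.isPGroup'.map e'.toMonoidHom)
    (M := M.map e'.toMonoidHom) (fun h => M1.1 (map_injective e'.injective
      (h.trans (map_top_of_surjective _ e'.surjective).symm))) fun K h1 h2 => by
        rw [← map_comap_eq_self_of_surjective (f := e'.toMonoidHom) e'.surjective K]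
        refine map_mono (hK _ (fun h => h1 ?_) (map_le_iff_le_comap.1 h2))
        rw [← map_comap_eq_self_of_surjective (f := e'.toMonoidHom) e'.surjective K, h,
          map_top_of_surjective _ e'.surjective]
  simpa using this

end Cfsg.Agent.S2930
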