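import Cfsg.Statements.S2933
import Cfsg.Agent.Lib.Grp.H8L34
import Cfsg.Agent.Lib.Grp.Rk3

set_option autoImplicit false
open Cfsg

namespace Cfsg.Agent.S2933

open Subgroup CA.Rk2 CA.Two CA.SmallF
open scoped commutatorElement

section
variable {T : Type*} [Group T] [Finite T] {ρ τ : MulAut T} {V : Subgroup T}

theorem coset (hT : IsPGroup 2 T) (h2 : ∀ x, τ (τ x) = x) {H : Subgroup T} (hH : ∀ x ∈ H, τ x ∈ H) (hne : H ≠ ⊤) :
    ∃ g ∉ H, g⁻¹ * τ g ∈ H := by
  have := Fintype.ofFinite (T ⧸ H)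
  let f : T ⧸ H → T ⧸ H := Quotient.map' τ fun a b h => by
    rw [QuotientGroup.leftRel_apply] at h ⊢
    simpa using hH _ h
  have hf : Function.Involutive f := fun q => by
    obtain ⟨a, rfl⟩ := QuotientGroup.mk_surjective q
    exact congrArg QuotientGroup.mk (h2 a)
  obtain ⟨k, hk⟩ := hT.index H
  obtain ⟨b, h3, h4⟩ := Equiv.Perm.exists_fixed_point_of_prime' (p := 2) (n := 1) (σ := hf.toPerm) (a := ((1 : T) : T ⧸ H)) (by
    rw [← Nat.card_eq_fintype_card, ← index_eq_card, hk]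
    exact dvd_pow_self 2 fun e => hne (index_eq_one.1 (by rw [hk, e, pow_zero]))) (Equiv.ext fun q => hf q)
    (congrArg QuotientGroup.mk (map_one τ))
  obtain ⟨g, rfl⟩ := QuotientGroup.mk_surjective b
  exact ⟨g, fun h => h4 (QuotientGroup.eq.2 (by simpa using h)), QuotientGroup.eq.1 h3.symm⟩

theorem two_le {A B : Subgroup T} (h : A < B) : 2 * Nat.card A ≤ Nat.card B := by
  obtain ⟨k, hk⟩ := card_dvd_of_le h.le
  have h1 : Nat.card A ≠ Nat.card B := fun e => h.ne (eq_of_le_of_card_ge h.le e.ge)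
  have h2 : 0 < Nat.card B := Nat.card_pos
  rw [hk, mul_comm]
  refine Nat.mul_le_mul_left _ ?_
  rcases k with _ | _ | k <;> omega

/-- an orbit together with the identity -/
def O4 (ρ : MulAut T) (y a : T) : Prop := a = 1 ∨ a = y ∨ a = ρ y ∨ a = ρ (ρ y)

theorem O4.comm (hρ : Cub ρ) {y a b : T} (ha : O4 ρ y a) (hb : O4 ρ y b) : a * b = b * a := by
  have c1 := hρ.comm y
  have c2 := hρ.comm (ρ y)
  have c3 := hρ.comm (ρ (ρ y))
  rw [hρ.cube] at c3
  rcases ha with rfl | rfl | rfl | rfl <;> rcases hb with rfl | rfl | rfl | rfl <;> simp [c1, c2, c3]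

theorem main (hT : IsPGroup 2 T) (hρ : Cub ρ) (h6 : ∀ x y : T, ⁅x, y⁆ ∈ center T) (h2 : ∀ x, τ (τ x) = x)
    (hc : ∀ x, τ (ρ x) = ρ (τ x)) (hV : ∀ x, x ∈ V ↔ τ x = x) (kl : IsKleinFour V) (cent : V ≤ center T) {x : T} (hx : x * x = 1)
    (hxV : x ∉ V) : (Nat.card T = 16 ∧ ∀ x : T, x ^ 2 = 1) ∨ ∃ S : Sylow 2 (Matrix.ProjectiveSpecialLinearGroup (Fin 3) F4),
      Nonempty (T ≃* (S : Subgroup (Matrix.ProjectiveSpecialLinearGroup (Fin 3) F4))) := by
  have rV : ∀ v, ρ v ∈ V ↔ v ∈ V := fun v => by rw [hV, hV, hc, EmbeddingLike.apply_eq_iff_eq]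
  have sV : ∀ v ∈ V, v * v = 1 := fun v hv => by rw [← pow_two]; exact klein_sq kl hv
  have cV : ∀ v ∈ V, ∀ g, g * v = v * g := fun v hv g => mem_center_iff.1 (cent hv) g
  have nV : V.Normal := ⟨fun v hv g => by rwa [cV v hv, mul_inv_cancel_right]⟩
  have oV : ∀ z ∈ V, z ≠ 1 → ∀ v ∈ V, O4 ρ z v := fun z hz h1 v hv => by
    have := klein_mem kl hz ((rV z).2 hz) h1 (by simpa using h1) (fun e => h1 (hρ.fpf z e.symm)) hv
    rwa [← inv_eq_of_mul_eq_one_right (sV _ (mul_mem hz ((rV z).2 hz))), ← hρ.rr] at this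
  have top : ∀ H : Subgroup T, (∀ x ∈ H, τ x ∈ H) → V ≤ H → (∀ k ∈ H, τ k = k⁻¹ → ∃ h ∈ H, h⁻¹ * τ h = k) → H = ⊤ :=
    fun H h3 h4 h5 => by_contra fun hne => by
      obtain ⟨g, hg, h7⟩ := coset hT h2 h3 hne
      obtain ⟨h, hh, e⟩ := h5 _ h7 (by simp [h2])
      exact hg (by simpa using mul_mem (h4 ((hV (g * h⁻¹)).2 (by
        rw [map_mul, map_inv, mul_inv_eq_iff_eq_mul, mul_assoc, e, mul_inv_cancel_left]))) hh)
  have hy : ρ x * ρ x = 1 := by rw [← map_mul, hx, map_one]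
  have hxy := (hρ.comm x).symm
  have a1 : ∀ a, x * (x * a) = a := fun a => by rw [← mul_assoc, hx, one_mul]
  have a2 : ∀ a, ρ x * (ρ x * a) = a := fun a => by rw [← mul_assoc, hy, one_mul]
  have a3 : ∀ a, ρ x * (x * a) = x * (ρ x * a) := fun a => by rw [← mul_assoc, hxy, mul_assoc]
  have a4 : ρ (ρ x) = x * ρ x := by rw [hρ.rr, inv_eq_iff_mul_eq_one]; simp [mul_assoc, a1, a2, a3, hy, hx, hxy]
  have sE : ∀ e, O4 ρ x e → e⁻¹ = e := fun e he => inv_eq_of_mul_eq_one_right (by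
    rcases he with h | h | h | h <;> rw [h]
    exacts [mul_one 1, hx, hy, by rw [← map_mul, hy, map_one]])
  let E : Subgroup T :=
    { carrier := {e | O4 ρ x e}
      one_mem' := .inl rfl
      mul_mem' := by
        rintro a b (rfl | rfl | rfl | rfl) (rfl | rfl | rfl | rfl) <;> simp [O4, a4, mul_assoc, a1, a2, a3, hx, hy, hxy]
      inv_mem' := fun {a} ha => by rwa [sE a ha] }
  have xE : x ∈ E := .inr (.inl rfl)
  have yE : ρ x ∈ E := .inr (.inr (.inl rfl))
  have EV : ∀ e ∈ E, e ∈ V → e = 1 := by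
    rintro e (rfl | rfl | rfl | rfl) h
    exacts [rfl, absurd h hxV, absurd ((rV _).1 h) hxV, absurd ((rV _).1 ((rV _).1 h)) hxV]
  have hE : E = closure {a | a ∈ [x, ρ x]} := le_antisymm (by
    have b1 : x ∈ closure {a | a ∈ [x, ρ x]} := subset_closure (by simp)
    have b2 : ρ x ∈ closure {a | a ∈ [x, ρ x]} := subset_closure (by simp)
    rintro e (rfl | rfl | rfl | rfl)
    exacts [one_mem _, b1, b2, a4 ▸ mul_mem b1 b2]) ((closure_le _).2 (by simp [Set.subset_def, xE, yE]))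
  have c16 : Nat.card (V ⊔ E : Subgroup T) = 16 := by
    have k1 := card_le_of_central cent [x, ρ x] (by simp [hx, hy]) (by
      simp [commutatorElement_eq_one_iff_mul_comm.2 hxy, commutatorElement_eq_one_iff_mul_comm.2 hxy.symm])
    have k2 := two_le (lt_of_le_of_ne (le_sup_left (a := V) (b := zpowers x)) fun e => hxV (e.ge (mem_sup_right (mem_zpowers x))))
    have k3 := two_le (lt_of_le_of_ne (sup_le_sup_left (zpowers_le_of_mem xE) V) fun e => by
      obtain ⟨v, hv, w, hw, e1⟩ := mem_sup_of_normal_left.1 (e.ge (mem_sup_right yE))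
      have h3 := EV _ (mul_mem yE (inv_mem (zpowers_le_of_mem xE hw))) (by simpa [← e1] using hv)
      rw [mul_inv_eq_one] at h3
      have h4 : ρ x ∈ zpowers x := h3 ▸ hw
      rcases (mem_zpowers_two (by rw [pow_two, hx])).1 h4 with h | h
      · exact hxV ((rV x).1 (by rw [h]; exact one_mem _))
      · exact hxV (by rw [hρ.fpf x h]; exact one_mem _))
    rw [← hE, klein_card kl] at k1
    rw [klein_card kl] at k2
    simp only [List.length] at k1
    omega
  have yO : ∀ e, O4 ρ x e → O4 ρ (x * τ x) (e⁻¹ * τ e) := fun e he => by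
    rw [sE e he]
    rcases he with rfl | rfl | rfl | rfl <;> simp [O4, hc]
  by_cases h0 : x * τ x ∈ V
  · have h3 : ∀ k ∈ V ⊔ E, k * k = 1 := fun k hk => by
      obtain ⟨v, hv, e, he, rfl⟩ := mem_sup_of_normal_left.1 hk
      rw [mul_assoc, ← mul_assoc e, cV v hv e, mul_assoc, ← mul_assoc v, sV v hv, one_mul, ← mul_inv_cancel e, sE e he]
    have h4 : x * τ x ≠ 1 := fun e => hxV ((hV x).2 (by rw [← inv_eq_of_mul_eq_one_right e, sE x xE]))
    have h5 := top (V ⊔ E) (fun k hk => by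
      obtain ⟨v, hv, e, he, rfl⟩ := mem_sup_of_normal_left.1 hk
      rw [map_mul, (hV v).1 hv, ← mul_inv_cancel_left e (τ e)]
      refine mul_mem (mem_sup_left hv) (mul_mem (mem_sup_right he) (mem_sup_left ?_))
      rcases yO e he with h | h | h | h <;> rw [h] <;> simp only [rV, h0, one_mem]) le_sup_left fun k hk e => by
        rw [inv_eq_of_mul_eq_one_right (h3 k hk), ← hV] at e
        rcases oV _ h0 h4 k e with rfl | rfl | rfl | rfl
        · exact ⟨1, one_mem _, by simp⟩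
        · exact ⟨x, mem_sup_right xE, by rw [sE x xE]⟩
        · exact ⟨ρ x, mem_sup_right yE, by rw [sE _ yE, hc, map_mul]⟩
        · exact ⟨ρ (ρ x), mem_sup_right (.inr (.inr (.inr rfl))), by rw [sE _ (.inr (.inr (.inr rfl))), hc, hc, map_mul, map_mul]⟩
    exact .inl ⟨by rw [← c16, h5, card_top], fun k => by rw [pow_two]; exact h3 k (h5.ge (mem_top k))⟩
  have t1 : τ x * τ x = 1 := by rw [← map_mul, hx, map_one]
  have z1 : ⁅x, τ x⁆ = x * τ x * (x * τ x) := by
    rw [commutatorElement_def, sE x xE, inv_eq_of_mul_eq_one_right t1, mul_assoc]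
  have iy : τ (x * τ x) = (x * τ x)⁻¹ := by rw [map_mul, h2, mul_inv_rev, sE x xE, inv_eq_of_mul_eq_one_right t1]
  have z2 : ⁅x, τ x⁆ ≠ 1 := fun e => h0 ((hV _).2 (by rw [iy, inv_eq_of_mul_eq_one_right (z1 ▸ e)]))
  have z3 : ⁅x, τ x⁆ ∈ V := (hV _).2 (by
    rw [map_commutatorElement, h2, ← commutatorElement_inv, inv_eq_iff_mul_eq_one, ← CA.H8L34.cl h6, hx, commutatorElement_one_left])
  have b1 : ∀ u v : T, ⁅u, ρ v⁆ = ⁅ρ u, v⁆ := fun u v => by
    have cm : ∀ x, ⁅x, ρ x⁆ = 1 := fun x => commutatorElement_eq_one_iff_mul_comm.2 (hρ.comm x)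
    have := cm (u * v)
    rw [map_mul, CA.H8L34.cl h6, CA.H8L34.cr h6, CA.H8L34.cr h6, cm, cm, one_mul, mul_one] at this
    rw [eq_inv_of_mul_eq_one_left this, commutatorElement_inv]
  have b2 : ∀ u v : T, ⁅ρ u, v⁆ = ρ (ρ ⁅u, v⁆) := fun u v => by
    rw [map_commutatorElement, map_commutatorElement, b1, b1, hρ.cube]
  have b3 : ∀ e, O4 ρ x e → ∀ f, O4 ρ x f → ⁅e, τ f⁆ ∈ V := by
    intro e he f hf
    rcases he with h | h | h | h <;> rcases hf with h' | h' | h' | h' <;> rw [h, h'] <;>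
      simp only [hc, b1, b2, rV, z3, map_one, commutatorElement_one_left, commutatorElement_one_right, one_mem]
  let H : Subgroup T :=
    { carrier := {k | ∃ e ∈ E, ∃ f ∈ E, ∃ v ∈ V, k = e * τ f * v}
      one_mem' := ⟨1, one_mem _, 1, one_mem _, 1, one_mem _, by simp⟩
      mul_mem' := by
        rintro _ _ ⟨e, he, f, hf, v, hv, rfl⟩ ⟨e', he', f', hf', v', hv', rfl⟩
        refine ⟨_, mul_mem he he', _, mul_mem hf hf', _, mul_mem (mul_mem (inv_mem (b3 e' he' f hf)) hv) hv', ?_⟩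
        rw [map_mul]
        calc _ = e * (τ f * e') * τ f' * v * v' := by rw [mul_assoc _ v, ← mul_assoc v, ← cV v hv]; group
          _ = e * (⁅e', τ f⁆⁻¹ * (e' * τ f * τ f')) * v * v' := by rw [commutatorElement_def]; group
          _ = _ := by rw [← cV _ (inv_mem (b3 e' he' f hf))]; group
      inv_mem' := by
        rintro _ ⟨e, he, f, hf, v, hv, rfl⟩
        refine ⟨_, inv_mem he, _, inv_mem hf, _, mul_mem (inv_mem (b3 e he f hf)) (inv_mem hv), ?_⟩
        rw [mul_inv_rev, ← cV _ (inv_mem hv), ← mul_assoc, cV _ (inv_mem (b3 e he f hf)), mul_inv_rev, ← map_inv, sE e he, sE f hf,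
          commutatorElement_inv, commutatorElement_def, ← map_inv, sE e he, sE f hf, mul_left_inj, ← sE e he, ← sE f hf, map_inv,
          sE e he]
        nth_rw 4 [← sE f hf]
        nth_rw 3 [← sE e he]
        rw [map_inv]; group }
  have mH : ∀ e ∈ E, ∀ f ∈ E, ∀ v ∈ V, e * τ f * v ∈ H := fun e he f hf v hv => ⟨e, he, f, hf, v, hv, rfl⟩
  have eH : ∀ e ∈ E, e ∈ H := fun e he => by simpa using mH e he 1 (one_mem _) 1 (one_mem _)
  have fH : ∀ e ∈ E, τ e ∈ H := fun e he => by simpa using mH 1 (one_mem _) e he 1 (one_mem _)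
  have vH : V ≤ H := fun e he => by simpa using mH 1 (one_mem _) 1 (one_mem _) e he
  have h5 := top H (by
    rintro _ ⟨e, he, f, hf, v, hv, rfl⟩
    rw [map_mul, map_mul, h2, (hV v).1 hv]
    exact mul_mem (mul_mem (fH e he) (eH f hf)) (vH hv)) vH (by
    rintro _ ⟨e, he, f, hf, v, hv, rfl⟩ h
    rw [map_mul, map_mul, h2, (hV v).1 hv, mul_inv_rev, inv_eq_of_mul_eq_one_right (sV v hv), ← cV v hv, mul_left_inj,
      mul_inv_rev] at h
    obtain rfl : f = e⁻¹ := eq_inv_of_mul_eq_one_left (EV _ (mul_mem hf he) ((hV _).2 (by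
      rw [map_mul, eq_mul_inv_of_mul_eq h, ← mul_assoc, mul_inv_cancel_left, sE e he, sE f hf, O4.comm hρ he hf])))
    obtain ⟨a, ha, h7, h8, h9⟩ : ∃ a, O4 ρ (x * τ x) a ∧ a ∈ H ∧ τ a = a⁻¹ ∧ a * a = v := by
      rcases oV _ z3 z2 v hv with rfl | rfl | rfl | rfl
      · exact ⟨1, .inl rfl, one_mem _, by simp, by simp⟩
      · exact ⟨_, .inr (.inl rfl), mul_mem (eH x xE) (fH x xE), iy, z1.symm⟩
      · exact ⟨_, .inr (.inr (.inl rfl)), by rw [map_mul, ← hc]; exact mul_mem (eH _ yE) (fH _ yE), by rw [hc, iy, map_inv],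
          by rw [← map_mul, z1]⟩
      · exact ⟨_, .inr (.inr (.inr rfl)), by
          rw [map_mul, map_mul, ← hc, ← hc]; exact mul_mem (eH _ (.inr (.inr (.inr rfl)))) (fH _ (.inr (.inr (.inr rfl)))),
          by rw [hc, hc, iy, map_inv, map_inv], by rw [← map_mul, ← map_mul, z1]⟩
    refine ⟨e * a, mul_mem (eH e he) h7, ?_⟩
    have := O4.comm hρ ha (yO e he)
    rw [map_mul, h8, mul_inv_rev, ← inv_eq_of_mul_eq_one_right (sV v hv), ← h9, mul_assoc, ← mul_assoc e⁻¹, ← mul_assoc,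
      inv_mul_eq_iff_eq_mul.2 (eq_mul_inv_of_mul_eq this.symm |>.trans (mul_assoc _ _ _)), sE e he]
    group)
  refine .inr (CA.H8L34.HH.syl ⟨hρ.prod, hρ.fpf, h6, le_antisymm ?_ ?_⟩ z2 hx t1)
  · have k1 := card_le_of_central cent [x, ρ x, τ x, τ (ρ x)] (by simp [hx, hy, ← map_mul]) (by
      have k := fun e he f hf => inv_mem (b3 e he f hf)
      simp only [commutatorElement_inv] at k
      simp [commutatorElement_eq_one_iff_mul_comm.2 hxy, commutatorElement_eq_one_iff_mul_comm.2 hxy.symm, ← map_commutatorElement,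
        b3 _ xE _ xE, b3 _ xE _ yE, b3 _ yE _ xE, b3 _ yE _ yE, k _ xE _ xE, k _ xE _ yE, k _ yE _ xE, k _ yE _ yE])
    rw [klein_card kl] at k1
    refine le_trans ?_ k1
    rw [← card_top, ← h5]
    refine card_le_of_le ?_
    rintro _ ⟨e, he, f, hf, v, hv, rfl⟩
    refine mul_mem (mem_sup_right (mul_mem ?_ ?_)) (mem_sup_left hv)
    · exact closure_mono (by simp) (hE.le he)
    · have := mem_map_of_mem τ.toMonoidHom (hE.le hf)
      rw [map_closure_list] at this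
      exact closure_mono (by simp) this
  · have k1 := (CA.H8L34.κ h6 x).ker.card_mul_index
    have k2 : V ⊔ E ≤ (CA.H8L34.κ h6 x).ker := sup_le (fun v hv => commutatorElement_eq_one_iff_mul_comm.2 (cV v hv x).symm)
      fun e he => commutatorElement_eq_one_iff_mul_comm.2 (O4.comm hρ he xE)
    have k3 : V ≤ (CA.H8L34.κ h6 x).range := fun v hv => by
      have z4 : ⁅τ x, x⁆ = ⁅x, τ x⁆ := by rw [← commutatorElement_inv, inv_eq_of_mul_eq_one_right (sV _ z3)]
      rcases oV _ z3 z2 v hv with rfl | rfl | rfl | rfl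
      · exact one_mem _
      · exact ⟨τ x, z4⟩
      · exact ⟨ρ (ρ (τ x)), (b2 _ _).trans (by rw [b2, hρ.cube, z4])⟩
      · exact ⟨ρ (τ x), (b2 _ _).trans (by rw [z4])⟩
    have k4 := Nat.mul_le_mul (card_le_of_le k2) (card_le_of_le k3)
    rwa [c16, klein_card kl, ← index_ker, k1] at k4

end

/-- Let T be a 2-subgroup of a finite group G, V ≤ Z(T) a four-group, and t, ρ ∈ N_G(V) ∩ N_G(T) elements of order 2 and 3 with t commuting with ρ and with V. If [V, ρ] = V and C_T(t) = V, then T is elementary abelian of order 16, or homocyclic of rank 2 (ℤ/2ⁿ × ℤ/2ⁿ for some n ≥ 1), or isomorphic to a Sylow 2-subgroup of PSL₃(4) or of PSU₃(4). -/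
theorem result {G : Type*} [Group G] [Finite G] (T V : Subgroup G) (hT : IsPGroup 2 ↥T) (hVT : V ≤ T ⊓ Subgroup.centralizer (T : Set G)) (hV : Nat.card ↥V = 4 ∧ ∀ v ∈ V, v ^ 2 = 1) (t ρ : G) (ht : orderOf t = 2) (hρ : orderOf ρ = 3) (htn : t ∈ Subgroup.normalizer (V : Set G) ⊓ Subgroup.normalizer (T : Set G)) (hρn : ρ ∈ Subgroup.normalizer (V : Set G) ⊓ Subgroup.normalizer (T : Set G)) (htρ : t * ρ = ρ * t) (htV : t ∈ Subgroup.centralizer (V : Set G)) (hVρ : ⁅V, Subgroup.zpowers ρ⁆ = V) (hCt : T ⊓ Subgroup.centralizer ({t} : Set G) = V) : (Nat.card ↥T = 16 ∧ ∀ x ∈ T, x ^ 2 = 1) ∨ (∃ n : ℕ, 1 ≤ n ∧ Nonempty (↥T ≃* Multiplicative (ZMod (2 ^ n)) × Multiplicative (ZMod (2 ^ n)))) ∨ (∃ (F : Type) (_ : Field F) (_ : Fintype F), Fintype.card F = 4 ∧ ∀ P : Sylow 2 (Matrix.ProjectiveSpecialLinearGroup (Fin 3) F), Nonempty (↥T ≃* ↥(P : Subgroup (Matrix.ProjectiveSpecialLinearGroup (Fin 3) F)))) ∨ (∃ (F : Type) (_ : Field F) (_ : Fintype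 F), Fintype.card F = 16 ∧ ∀ P : Sylow 2 (Cfsg.PSU 3 F 4), Nonempty (↥T ≃* ↥(P : Subgroup (Cfsg.PSU 3 F 4)))) := by
  let r : MulAut T := T.normalizerMonoidHom ⟨ρ, hρn.2⟩
  let τ : MulAut T := T.normalizerMonoidHom ⟨t, htn.2⟩
  have er : ∀ x : T, (r x : G) = ρ * x * ρ⁻¹ := fun _ => rfl
  have et : ∀ x : T, (τ x : G) = t * x * t⁻¹ := fun _ => rfl
  have hVT' : V ≤ T := hVT.trans inf_le_left
  have h2 : ∀ x, τ (τ x) = x := fun x => Subtype.ext (by
    rw [et, et, show t * (t * x * t⁻¹) * t⁻¹ = t ^ 2 * x * (t ^ 2)⁻¹ by rw [pow_two]; group, ← ht, pow_orderOf_eq_one]; simp)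
  have hc : ∀ x, τ (r x) = r (τ x) := fun x => Subtype.ext (by
    rw [et, er, er, et, show t * (ρ * x * ρ⁻¹) * t⁻¹ = t * ρ * x * (t * ρ)⁻¹ by group, htρ]; group)
  have hW : ∀ x, x ∈ V.subgroupOf T ↔ τ x = x := fun x => by
    rw [mem_subgroupOf, ← hCt, mem_inf, and_iff_right x.2, mem_centralizer_singleton_iff, Subtype.ext_iff, et, mul_inv_eq_iff_eq_mul,
      eq_comm]
  have kl : IsKleinFour (V.subgroupOf T) := isKleinFour_of ((Nat.card_congr (subgroupOfEquivOfLe hVT').toEquiv).trans hV.1)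
    fun x hx => Subtype.ext (hV.2 x hx)
  have cent : V.subgroupOf T ≤ center T := fun x hx => mem_center_iff.2 fun g => Subtype.ext ((hVT hx).2 g g.2)
  have h3 : ∀ z ∈ V.subgroupOf T, r z = z → z = 1 := fun z hz e => by_contra fun h1 => by
    have k1 : zpowers (z : G) ≤ V := zpowers_le_of_mem hz
    have k2 : Nat.card (zpowers (z : G)) = 2 := by
      rw [Nat.card_zpowers]; exact orderOf_eq_prime (hV.2 z hz) (by simpa using h1)
    have k3 : ((zpowers (z : G)).subgroupOf V).index = 2 := by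
      have := ((zpowers (z : G)).subgroupOf V).card_mul_index
      rw [Nat.card_congr (subgroupOfEquivOfLe k1).toEquiv, k2, hV.1] at this
      omega
    have k4 : zpowers ρ ≤ normalizer (zpowers (z : G) : Set G) := zpowers_le_of_mem (centralizer_le_normalizer _ (by
      rw [zpowers_eq_closure, centralizer_closure, mem_centralizer_singleton_iff]
      exact mul_inv_eq_iff_eq_mul.1 (congrArg Subtype.val e)))
    have k5 : ⁅V, zpowers ρ⁆ ≤ zpowers (z : G) := commutator_le.2 fun v hv g hg => by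
      have k6 := (mem_normalizer_iff.1 (zpowers_le_of_mem hρn.1 hg) v⁻¹).1 (inv_mem hv)
      have := (mul_mem_iff_of_index_two k3 (a := ⟨v, hv⟩) (b := ⟨_, k6⟩)).2 (by
        simp only [mem_subgroupOf]
        rw [← mem_normalizer_iff.1 (k4 hg), inv_mem_iff])
      simpa [commutatorElement_def, mul_assoc, mem_subgroupOf] using this
    have := card_le_of_le (hVρ.ge.trans k5)
    omega
  have h4 : ∀ x, r x = x → x = 1 := fun x hx => by_contra fun h1 => by
    let C := r.toMonoidHom.eqLocus (MonoidHom.id T)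
    have := Fintype.ofFinite C
    have : Nontrivial C := ⟨⟨⟨x, hx⟩, 1, fun e => h1 (congrArg Subtype.val e)⟩⟩
    have k1 : ∀ y, τ y ∈ C ↔ y ∈ C := fun y => by
      change r (τ y) = τ y ↔ r y = y
      rw [← hc, EmbeddingLike.apply_eq_iff_eq]
    obtain ⟨b, k2, k3⟩ := Equiv.Perm.exists_fixed_point_of_prime' (p := 2) (n := 1) (σ := Equiv.Perm.subtypePerm τ.toEquiv k1)
      (a := (1 : C)) (by
        rw [← Nat.card_eq_fintype_card]
        exact ((hT.to_subgroup C).card_eq_or_dvd).resolve_left Finite.one_lt_card.ne') (Equiv.ext fun q => Subtype.ext (h2 q))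
      (Subtype.ext (map_one τ))
    exact k3 (Subtype.ext (h3 b ((hW b).2 (congrArg Subtype.val k2)) b.2))
  have h5 : Cub r := ⟨fun x => Subtype.ext (by
    rw [er, er, er, show ρ * (ρ * (ρ * x * ρ⁻¹) * ρ⁻¹) * ρ⁻¹ = ρ ^ 3 * x * (ρ ^ 3)⁻¹ by rw [pow_three]; group, ← hρ, pow_orderOf_eq_one]; simp), h4⟩
  by_cases h : ∀ x : T, x * x = 1 → x ∈ V.subgroupOf T
  · have hO : Om (V.subgroupOf T) := ⟨kl, cent, h⟩
    rcases hO.cases' hT h3 with hab | ⟨r', hr⟩
    · obtain ⟨n, hn, ⟨e⟩⟩ := hO.homocyclic hT hab h3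
      exact .inr (.inl ⟨n, hn, ⟨e.trans (MulEquiv.prodMultiplicative _ _)⟩⟩)
    · have := Fintype.ofFinite (GaloisField 2 4)
      have hF : Fintype.card (GaloisField 2 4) = 16 := by rw [← Nat.card_eq_fintype_card, GaloisField.card 2 4 (by norm_num)]; norm_num
      exact .inr (.inr (.inr ⟨_, inferInstance, this, hF, fun P => CA.Rk3.equiv_sylow hr hF P⟩))
  push Not at h
  obtain ⟨x, hx, hxV⟩ := h
  have h6 : orderOf r = 3 := orderOf_eq_prime h5.pow_three fun e => hxV (by rw [h4 x (by rw [e]; rfl)]; exact one_mem _)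
  rcases main hT h5 (fun a b => by
      have : ⁅commutator T, ⊤⁆ = ⊥ := (Cfsg.Agent.S3779.result Nat.prime_three r h6 h4).2.1 rfl
      rw [commutator_eq_bot_iff_le_centralizer, coe_top, centralizer_univ] at this
      exact this (commutator_mem_commutator (mem_top a) (mem_top b))) h2 hc hW kl cent hx hxV with ⟨k1, k2⟩ | ⟨S, ⟨e⟩⟩
  · exact .inl ⟨k1, fun x hx => congrArg Subtype.val (k2 ⟨x, hx⟩)⟩
  · have : Finite (Matrix.ProjectiveSpecialLinearGroup (Fin 3) F4) := Nat.finite_of_card_ne_zero (CA.H8L34.card_L34 ▸ by decide)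
    exact .inr (.inr (.inl ⟨F4, inferInstance, inferInstance, card_F4, fun P => ⟨e.trans (S.equiv P)⟩⟩))

end Cfsg.Agent.S2933
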