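import Cfsg.Statements.S2934
import Cfsg.Agent.Lib.Odd.BG4a
import Cfsg.Agent.Lib.Grp.Two3
import Cfsg.Agent.Lib.Grp.MC3
import Cfsg.Agent.Lib.Loc.AmbIso
import Cfsg.Agent.Lib.Grp.CoprimeAct

set_option autoImplicit false
open Cfsg

namespace Cfsg.Agent.S2934

open CA Subgroup CA.BG CA.PGFrattini SemidirectProduct
open CA.CoprimeAct (SD le_normalizer_top inr_mul_inl_comm_iff inl_mem_centralizer_singleton_iff inl_mem_centralizer_iff)
open scoped commutatorElement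

section amb
variable {G : Type*} [Group G] [Finite G] {p : ℕ} {W E V T U : Subgroup G} {e x z : G}

structure St (p : ℕ) (W E : Subgroup G) (z : G) : Prop where
  hp : p.Prime
  p2 : p ≠ 2
  hW : IsPi {2} W
  hE : IsPi {p} E
  ab : IsMulCommutative E
  nc : ¬IsCyclic E
  n : E ≤ 𝓝(W)
  f : E ⊓ 𝓒(W) = ⊥
  z2 : orderOf z = 2
  zW : z ∈ 𝓩(W)
  zE : z ∈ 𝓒(E)
  u : ∀ e ∈ E, e ≠ 1 → ∀ x ∈ W ⊓ 𝓒₁(e), x ^ 2 = 1 → x ∈ zpowers z

theorem idx_le (hn : E ≤ 𝓝(T)) (hx : x ∈ T) : 𝓒₁(x).relIndex E ≤ ♯T := by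
  letI := CA.Act.conjAct hn
  have : 𝓒₁(x).subgroupOf E = MulAction.stabilizer E (⟨x, hx⟩ : T) := by
    ext a
    rw [mem_subgroupOf, mem_cent1, MulAction.mem_stabilizer_iff, Subtype.ext_iff,
      CA.Act.coe_conjAct_smul, mul_inv_eq_iff_eq_mul]
  rw [relIndex, this, MulAction.index_stabilizer]
  exact Set.ncard_le_card _

theorem ab_cent (hp : p ≠ 2) (hW : IsPi {2} W) (hE : IsPi {p} E) (ab : IsMulCommutative E)
    (nc : ¬IsCyclic E) (n : E ≤ 𝓝(W))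
    (u : ∀ e ∈ E, e ≠ 1 → ∀ x ∈ W ⊓ 𝓒₁(e), ∀ y ∈ W ⊓ 𝓒₁(e), orderOf x = 2 → orderOf y = 2 → x = y)
    (hV : V ≤ W) (hn : E ≤ 𝓝(V)) (hc : IsMulCommutative V) : E ≤ 𝓒(V) := by
  have c : ∀ X, X ≤ W → (♯X).Coprime ♯E := fun X h => (hW.of_le h).coprime_ne hE hp.symm
  refine coprime_abelian_faithful_Ohm1 hn (c V hV) hc (hW.of_le hV) (cent_symm
    (coprime_abelian_gen_cent1 ab nc (norm_omega 2 hn) (c _ ((omega_le _ _).trans hV))
      fun e he e1 x hx => mem_cent.2 fun f hf => ?_))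
  by_cases x1 : x = 1
  · simp [x1]
  have x2 : orderOf x = 2 := orderOf_eq_prime ((omega_elem hc 2).2 x hx.1) x1
  have hx' : x ∈ W ⊓ 𝓒₁(e) := ⟨hV (omega_le _ _ hx.1), hx.2⟩
  exact mul_inv_eq_iff_eq_mul.1 (u e he e1 _ (conj_mem_of_norm (norm_inf n (norm_cent1
    (le_cent1_iff.2 (comm_iff_le_cent.1 ab he)))) hf hx') x hx'
    (((MulAut.conj f).orderOf_eq x).trans x2) x2)

namespace St
variable (h : St p W E z)
include h

theorem cop (hV : V ≤ W) : (♯V).Coprime ♯E := (h.hW.of_le hV).coprime_ne h.hE h.p2.symm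

theorem cz : ♯(zpowers z) = 2 := by rw [Nat.card_zpowers, h.z2]

theorem cent (hV : V ≤ W) (hn : E ≤ 𝓝(V)) (hc : IsMulCommutative V) : E ≤ 𝓒(V) :=
  ab_cent h.p2 h.hW h.hE h.ab h.nc h.n (fun e he e1 x hx y hy x2 y2 => by
    have k : ∀ x ∈ W ⊓ 𝓒₁(e), orderOf x = 2 → x = z := fun x hx x2 =>
      ((CA.Two.mem_zpowers_two (orderOf_eq_prime_iff.1 h.z2).1).1
        (h.u e he e1 x hx (orderOf_eq_prime_iff.1 x2).1)).resolve_left (orderOf_eq_prime_iff.1 x2).2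
    rw [k x hx x2, k y hy y2]) hV hn hc

theorem nT (he : e ∈ E) : E ≤ 𝓝(W ⊓ 𝓒₁(e)) :=
  norm_inf h.n (norm_cent1 (le_cent1_iff.2 (comm_iff_le_cent.1 h.ab he)))

theorem zT (he : e ∈ E) : zpowers z ≤ W ⊓ 𝓒₁(e) := zpowers_le.2 ⟨h.zW.1, cent_le_cent1 he h.zE⟩

theorem q8 (he : e ∈ E) (e1 : e ≠ 1) (hc : ¬E ≤ 𝓒(W ⊓ 𝓒₁(e))) : ♯(W ⊓ 𝓒₁(e)) = 8 := by
  have cy : ¬IsCyclic ↥(W ⊓ 𝓒₁(e)) := fun c => hc (h.cent inf_le_left (h.nT he) (comm_of_cyclic c))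
  rcases CA.AmbIso.cyc_or_quat_of_rank ((h.hW.inf_left 𝓒₁(e)).isPGroup Nat.prime_two)
    (fun A hA hA' => h.cz ▸ card_le_of_le' fun x hx => h.u e he e1 x (hA hx) (hA'.2 x hx)) with
    c | ⟨-, m, ⟨φ⟩⟩
  · exact (cy c).elim
  obtain ⟨a, y, h1, h2⟩ := CA.MC3.exists_of_quaternion φ
  rcases m with _ | _ | m
  · haveI : IsCyclic (QuaternionGroup (2 ^ 0)) := QuaternionGroup.quaternionGroup_one_isCyclic
    exact (cy (isCyclic_of_surjective φ.symm φ.symm.surjective)).elim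
  · rw [← h2, h1.card]; rfl
  · refine (hc fun f hf => CA.Two.not_act_iff.1 (h2 ▸ CA.Two3.not_act_top h1 (by omega)
      fun _ => by omega) f (h.nT he hf) ?_).elim
    exact (piNat_compl_iff_coprime Nat.prime_two).1 ((h.hE.ne h.p2).orderOf hf)

theorem nW : ¬W ≤ 𝓒₁(e) ∨ e ∉ E ∨ e = 1 := by
  by_contra! c
  exact c.2.2 (mem_bot.1 (h.f ▸ (⟨c.2.1, le_cent1_iff.1 c.1⟩ : e ∈ E ⊓ 𝓒(W))))

theorem nE : ¬E ≤ 𝓒(W) := fun c => h.nc (by
  rw [← inf_eq_left.2 c, h.f]; infer_instance)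

theorem base : p = 3 ∧ W ⊓ 𝓒(E) = zpowers z := by
  obtain ⟨e, he, e1, hc⟩ : ∃ e ∈ E, e ≠ 1 ∧ ¬E ≤ 𝓒(W ⊓ 𝓒₁(e)) := by
    by_contra! c
    exact h.nE (cent_symm (coprime_abelian_gen_cent1 h.ab h.nc h.n (h.cop le_rfl)
      fun e he e1 => cent_symm (c e he e1)))
  have h8 := h.q8 he e1 hc
  have m := CA.BG4.card_modEq_cent h.hp h.hE (h.nT he)
  have e0 : W ⊓ 𝓒₁(e) ⊓ 𝓒(E) = W ⊓ 𝓒(E) := by
    rw [inf_assoc, inf_eq_right.2 (cent_le_cent1 he)]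
  have l1 : zpowers z ≤ W ⊓ 𝓒(E) := zpowers_le.2 ⟨h.zW.1, h.zE⟩
  have l2 : W ⊓ 𝓒(E) < W ⊓ 𝓒₁(e) := lt_of_le_of_ne (inf_le_inf_left _ (cent_le_cent1 he))
    fun c => hc (cent_symm (c ▸ inf_le_right))
  have d1 := card_dvd l1
  have d2 := card_dvd l2.le
  have d3 := card_lt_of_lt l2
  rw [e0, h8] at m
  rw [h.cz] at d1
  rw [h8] at d2 d3
  have m' := (Nat.modEq_iff_dvd' d3.le).1 m.symm
  have : ♯(W ⊓ 𝓒(E)) = 2 := by
    by_contra c
    have : ♯(W ⊓ 𝓒(E)) = 4 := by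
      generalize ♯(W ⊓ 𝓒(E)) = k at *
      interval_cases k <;> omega
    rw [this] at m'
    exact h.p2 ((Nat.prime_dvd_prime_iff_eq h.hp Nat.prime_two).1
      (h.hp.dvd_of_dvd_pow (n := 2) m'))
  rw [this] at m'
  exact ⟨(Nat.prime_dvd_prime_iff_eq h.hp Nat.prime_three).1 (((Nat.Prime.dvd_mul h.hp).1
    (m' : p ∣ 2 * 3)).resolve_left fun c => h.p2 ((Nat.prime_dvd_prime_iff_eq h.hp Nat.prime_two).1 c)),
    (eq_of_le_of_card_eq l1 (h.cz.trans this.symm)).symm⟩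

theorem mod3 (h1 : zpowers z ≤ U) (h2 : U ≤ W) (hn : E ≤ 𝓝(U)) : ♯U % 3 = 2 := by
  have m := CA.BG4.card_modEq_cent h.hp h.hE hn
  have : U ⊓ 𝓒(E) = zpowers z := le_antisymm (h.base.2 ▸ inf_le_inf_right _ h2)
    (le_inf h1 (zpowers_le.2 h.zE))
  rwa [this, h.cz, h.base.1] at m

theorem c8 (he : e ∈ E) (e1 : e ≠ 1) (hx : x ∈ W ⊓ 𝓒₁(e)) (hz : x ∉ zpowers z) :
    ♯(W ⊓ 𝓒₁(e)) = 8 :=
  h.q8 he e1 fun c => hz (h.base.2 ▸ (⟨hx.1, cent_symm c hx⟩ : x ∈ W ⊓ 𝓒(E)))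

theorem le8 (he : e ∈ E) (e1 : e ≠ 1) : ♯(W ⊓ 𝓒₁(e)) ≤ 8 := by
  by_cases c : W ⊓ 𝓒₁(e) ≤ zpowers z
  · exact (card_le_of_le' c).trans (by rw [h.cz]; omega)
  · obtain ⟨x, hx, hz⟩ := SetLike.not_le_iff_exists.1 c
    exact (h.c8 he e1 hx hz).le

theorem same {f : G} (he : e ∈ E) (e1 : e ≠ 1) (hf : f ∈ E) (hx : x ∈ W ⊓ 𝓒₁(e))
    (hx' : x ∈ 𝓒₁(f)) (hz : x ∉ zpowers z) : W ⊓ 𝓒₁(e) ≤ W ⊓ 𝓒₁(f) := by
  have l1 := le_inf (h.zT he) (h.zT hf)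
  have m := h.mod3 l1 (inf_le_left.trans inf_le_left) (norm_inf (h.nT he) (h.nT hf))
  have d1 := card_lt_of_lt (lt_of_le_of_ne l1 fun c => hz (c ▸ ⟨hx, hx.1, hx'⟩))
  have d2 := card_dvd (inf_le_left : W ⊓ 𝓒₁(e) ⊓ (W ⊓ 𝓒₁(f)) ≤ _)
  have h8 := h.c8 he e1 hx hz
  rw [h8] at d2
  rw [h.cz] at d1
  refine inf_eq_left.1 (eq_of_le_of_card_eq inf_le_left (h8 ▸ ?_))
  have := Nat.le_of_dvd (by omega) d2
  generalize ♯(W ⊓ 𝓒₁(e) ⊓ (W ⊓ 𝓒₁(f))) = k at *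
  interval_cases k <;> omega

theorem idx3 (he : e ∈ E) (e1 : e ≠ 1) (hx : x ∈ W ⊓ 𝓒₁(e)) : 𝓒₁(x).relIndex E ∣ 3 := by
  have h1 := (idx_le (h.nT he) hx).trans (h.le8 he e1)
  obtain ⟨k, hk⟩ := (h.hE.relIndex 𝓒₁(x)).exists_pow h.hp (relIndex_ne_zero' _ _)
  rw [hk, h.base.1] at h1
  rw [hk, h.base.1]
  rcases k with _ | _ | k
  · simp
  · simp
  · have := Nat.pow_le_pow_right (n := 3) (by omega) (show 2 ≤ k + 1 + 1 by omega)
    omega

theorem cube (he : e ∈ E) : e ^ 3 = 1 := by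
  refine (h.nW.resolve_left (not_not.2 (coprime_abelian_gen_cent1 h.ab h.nc h.n (h.cop le_rfl)
    fun f hf f1 x hx => mem_cent1_symm.1 ?_))).resolve_left (not_not.2 (pow_mem he 3))
  obtain ⟨k, hk⟩ := h.idx3 hf f1 hx
  haveI := h.ab
  haveI : (𝓒₁(x).subgroupOf E).Normal := inferInstance
  rw [hk, pow_mul]
  exact pow_mem (mem_subgroupOf.1 ((𝓒₁(x).subgroupOf E).pow_index_mem ⟨e, he⟩)) k

theorem ex (hU : ¬W ≤ U) : ∃ e ∈ E, e ≠ 1 ∧ ∃ x ∈ W ⊓ 𝓒₁(e), x ∉ U := by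
  by_contra! c
  exact hU (coprime_abelian_gen_cent1 h.ab h.nc h.n (h.cop le_rfl) c)

theorem two : ∃ e ∈ E, e ≠ 1 ∧ ∃ x ∈ W ⊓ 𝓒₁(e), x ∉ zpowers z ∧
    ∃ f ∈ E, f ≠ 1 ∧ ∃ y ∈ W ⊓ 𝓒₁(f), y ∉ W ⊓ 𝓒₁(e) := by
  obtain ⟨e, he, e1, x, hx, hz⟩ := h.ex (U := zpowers z) fun c =>
    h.nE (cent_symm (c.trans (zpowers_le.2 h.zE)))
  exact ⟨e, he, e1, x, hx, hz, h.ex fun c => by
    rcases h.nW (e := e) with c' | c' | c'
    exacts [c' (c.trans inf_le_right), c' he, e1 c']⟩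

theorem card9 : ♯E = 9 := by
  obtain ⟨e, he, e1, x, hx, hz, f, hf, f1, y, hy, hy'⟩ := h.two
  have b : 𝓒₁(x) ⊓ 𝓒₁(y) ⊓ E = ⊥ := eq_bot_iff.2 fun k hk => by
    by_contra k1
    have k1 : k ≠ 1 := k1
    exact hy' (h.same hk.2 k1 he ⟨hx.1, mem_cent1_symm.1 hk.1.1⟩ hx.2 hz
      ⟨hy.1, mem_cent1_symm.1 hk.1.2⟩)
  have c := card_inf_mul_relIndex (𝓒₁(x) ⊓ 𝓒₁(y)) E
  rw [b, card_bot, one_mul] at c
  have l := (relIndex_inf_le (H := 𝓒₁(x)) (K := 𝓒₁(y)) (L := E)).trans (Nat.mul_le_mul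
    (Nat.le_of_dvd three_pos (h.idx3 he e1 hx)) (Nat.le_of_dvd three_pos (h.idx3 hf f1 hy)))
  obtain ⟨k, hk⟩ := h.hE.exists_card h.hp
  rw [h.base.1] at hk
  rw [c, hk] at l
  rcases k with _ | _ | _ | k
  · exact (h.nc (by rw [card_eq_one.1 hk]; infer_instance)).elim
  · exact (h.nc (isCyclic_of_prime (hk ▸ Nat.prime_three))).elim
  · exact hk
  · have := Nat.pow_le_pow_right (n := 3) (by omega) (show 3 ≤ k + 1 + 1 + 1 by omega)
    omega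

theorem center : 𝓩(W) = zpowers z :=
  le_antisymm (h.base.2 ▸ le_inf inf_le_left (cent_symm (h.cent inf_le_left
    (h.n.trans (norm_center W)) (comm_center W)))) (zpowers_le.2 h.zW)

theorem sq_mem (hx : x ∈ W) : x ^ 2 ∈ zpowers z := by
  obtain ⟨K, h1, -, h3, h4⟩ := exists_critical Nat.prime_two h.hW
  have l : 𝓩(K) ≤ zpowers z := h.base.2 ▸ le_inf (inf_le_left.trans h1.le) (cent_symm
    (h.cent (inf_le_left.trans h1.le) ((h1.le_norm h.n).trans (norm_center K)) (comm_center K)))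
  have c : x ^ 2 ∈ 𝓒(K) := mem_cent.2 fun k hk => by
    have m := l (h3 (commutator_mem_commutator hx hk))
    have m1 : x * ⁅x, k⁆ = ⁅x, k⁆ * x := mem_cent.1 ((zpowers_le.2 h.zW.2) m) x hx
    have m2 : ⁅x, k⁆ * ⁅x, k⁆ = 1 := by
      rcases (CA.Two.mem_zpowers_two (orderOf_eq_prime_iff.1 h.z2).1).1 m with c | c
      · rw [c, one_mul]
      · rw [c, ← sq, (orderOf_eq_prime_iff.1 h.z2).1]
    calc k * x ^ 2 = ⁅x, k⁆ * ⁅x, k⁆ * k * x ^ 2 := by rw [m2, one_mul]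
      _ = ⁅x, k⁆ * x * (k * x) := by rw [commutatorElement_def]; group
      _ = _ := by rw [← m1, commutatorElement_def, sq]; group
  exact l ⟨h4 ⟨pow_mem hx 2, c⟩, c⟩

theorem der : ⁅W, W⁆ ≤ zpowers z := commutator_le.2 fun x hx y hy => by
  have : ⁅x, y⁆ = x ^ 2 * (x⁻¹ * y) ^ 2 * (y ^ 2)⁻¹ := by
    rw [commutatorElement_def, sq, sq, sq]; group
  rw [this]
  exact mul_mem (mul_mem (h.sq_mem hx) (h.sq_mem (mul_mem (inv_mem hx) hy))) (inv_mem (h.sq_mem hy))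

theorem step (he : e ∈ E) (e1 : e ≠ 1) (h1 : zpowers z ≤ U) (h2 : U ≤ W) :
    ♯(U ⊔ W ⊓ 𝓒₁(e)) ≤ 4 * ♯U := by
  have c := card_sup_mul_inf (h2.trans (norm_of_der_le (h.der.trans (h.zT he)) inf_le_left))
  have d := h.cz ▸ card_le_of_le' (le_inf h1 (h.zT he))
  have := h.le8 he e1
  nlinarith

theorem le512 : ♯W ≤ 512 := by
  have tri : ∀ a ∈ E, ∀ x ∈ zpowers a, x = 1 ∨ x = a ∨ x = a ^ 2 := fun a ha x hx => by
    obtain ⟨k, rfl⟩ := mem_powers_iff_mem_zpowers.2 hx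
    simp only
    rw [pow_eq_pow_mod k (h.cube ha)]
    have := Nat.mod_lt k three_pos
    generalize k % 3 = j at *
    interval_cases j <;> simp
  have sq : ∀ a ∈ E, 𝓒₁(a ^ 2) ≤ 𝓒₁(a) := fun a ha x hx => by
    have : a = (a ^ 2) ^ 2 := by rw [← pow_mul, pow_succ, h.cube ha, one_mul]
    rw [this]
    exact mem_cent1_symm.1 (pow_mem (mem_cent1_symm.1 hx) 2)
  have o : ∀ a ∈ E, a ≠ 1 → ♯(zpowers a) = 3 := fun a ha a1 => by
    haveI := Fact.mk Nat.prime_three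
    rw [Nat.card_zpowers, orderOf_eq_prime (h.cube ha) a1]
  obtain ⟨a, ha, a1⟩ := exists_ne_one (X := E) fun c => h.nc (by rw [c]; infer_instance)
  obtain ⟨b, hb, hb'⟩ := SetLike.not_le_iff_exists.1 fun c : E ≤ zpowers a => by
    have := card_le_of_le' c
    rw [h.card9, o a ha a1] at this
    omega
  have b1 : b ≠ 1 := fun c => hb' (c ▸ one_mem _)
  have n : zpowers a ≤ 𝓝(zpowers b) :=
    (zpowers_le.2 ha).trans (norm_of_comm h.ab (zpowers_le.2 hb))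
  have s : zpowers a ⊔ zpowers b = E := eq_of_le_of_card_eq (sup_le (zpowers_le.2 ha)
    (zpowers_le.2 hb)) (by
      rw [card_sup_of_disjoint n (inf_comm (zpowers a) _ ▸ inf_eq_bot_of_prime_not_le
        (o b hb b1 ▸ Nat.prime_three) fun c => hb' (zpowers_le.1 c)), o a ha a1, o b hb b1, h.card9])
  have c : Commute a b := mem_cent.1 (comm_iff_le_cent.1 h.ab hb) a ha
  have ab : a * b ≠ 1 := fun c => hb' (by
    rw [eq_inv_of_mul_eq_one_right c]; exact inv_mem (mem_zpowers a))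
  have ab2 : a * b ^ 2 ≠ 1 := fun c => hb' (by
    rw [← inv_mem_iff, inv_eq_of_mul_eq_one_left ((pow_succ b 2).symm.trans (h.cube hb)),
      eq_inv_of_mul_eq_one_right c]; exact inv_mem (mem_zpowers a))
  have l : W ≤ W ⊓ 𝓒₁(a) ⊔ W ⊓ 𝓒₁(b) ⊔ W ⊓ 𝓒₁(a * b) ⊔ W ⊓ 𝓒₁(a * b ^ 2) := by
    refine coprime_abelian_gen_cent1 h.ab h.nc h.n (h.cop le_rfl) fun e he e1 => ?_
    obtain ⟨x, hx, y, hy, rfl⟩ := (mem_sup_norm n).1 (s.ge he)
    have t1 := inf_le_inf_left W (sq a ha)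
    have t2 := inf_le_inf_left W (sq b hb)
    have t3 := inf_le_inf_left W (sq _ (mul_mem ha hb))
    have t4 := inf_le_inf_left W (sq _ (mul_mem ha (pow_mem hb 2)))
    rw [c.mul_pow] at t3
    rw [(c.pow_right 2).mul_pow, ← pow_mul, pow_succ b, h.cube hb, one_mul] at t4
    rcases tri a ha x hx with rfl | rfl | rfl <;> rcases tri b hb y hy with rfl | rfl | rfl <;>
      try simp only [one_mul, mul_one] at e1 ⊢
    · exact (e1 rfl).elim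
    all_goals order
  have z1 := h.zT ha
  have s1 := h.step hb b1 z1 inf_le_left
  have s2 := h.step (mul_mem ha hb) ab (z1.trans (le_sup_left (b := W ⊓ 𝓒₁(b))))
    (sup_le inf_le_left inf_le_left)
  have s3 := h.step (mul_mem ha (pow_mem hb 2)) ab2 ((z1.trans (le_sup_left (b := W ⊓ 𝓒₁(b)))).trans
    (le_sup_left (b := W ⊓ 𝓒₁(a * b)))) (sup_le (sup_le inf_le_left inf_le_left) inf_le_left)
  have := h.le8 ha a1
  have := card_le_of_le' l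
  omega

theorem cardW : ♯W = 2 ^ 5 ∨ ♯W = 2 ^ 7 ∨ ♯W = 2 ^ 9 := by
  obtain ⟨e, he, e1, x, hx, hz, f, hf, f1, y, hy, hy'⟩ := h.two
  have l := card_lt_of_lt (lt_of_le_of_ne inf_le_left fun c : W ⊓ 𝓒₁(e) = W => hy' (c.ge hy.1))
  rw [h.c8 he e1 hx hz] at l
  have m := h.mod3 (zpowers_le.2 h.zW.1) le_rfl h.n
  have u := h.le512
  obtain ⟨k, hk⟩ := h.hW.exists_card Nat.prime_two
  rw [hk] at l m u ⊢
  have : k ≤ 9 := (Nat.pow_le_pow_iff_right (a := 2) (by omega)).1 u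
  interval_cases k <;> omega

end St

theorem exists_st (hp : p.Prime) (p2 : p ≠ 2) (hW : IsPi {2} W) (hE : IsPi {p} E)
    (ab : IsMulCommutative E) (nc : ¬IsCyclic E) (n : E ≤ 𝓝(W)) (f : E ⊓ 𝓒(W) = ⊥)
    (u : ∀ e ∈ E, e ≠ 1 → ∀ x ∈ W ⊓ 𝓒₁(e), ∀ y ∈ W ⊓ 𝓒₁(e), orderOf x = 2 → orderOf y = 2 → x = y) :
    ∃ z, St p W E z := by
  have W0 : W ≠ ⊥ := fun c => nc (by
    rw [c, cent_bot, inf_top_eq] at f; rw [f]; infer_instance)
  obtain ⟨z, hz, z2⟩ := exists_orderOf_eq Nat.prime_two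
    ((hW.inf_left _).dvd_card (hW.center_ne_bot W0))
  have zE : z ∈ 𝓒(E) := cent_symm (ab_cent p2 hW hE ab nc n u inf_le_left (n.trans (norm_center W))
    (comm_center W)) hz
  refine ⟨z, hp, p2, hW, hE, ab, nc, n, f, z2, hz, zE, fun e he e1 x hx x2 => ?_⟩
  by_cases x1 : x = 1
  · exact x1 ▸ one_mem _
  · rw [u e he e1 x hx z ⟨hz.1, cent_le_cent1 he zE⟩ (orderOf_eq_prime x2 x1) z2]
    exact mem_zpowers z

end amb

/-- Let p be an odd prime, W a finite 2-group and E a non-cyclic abelian p-subgroup of Aut(W) such that, for every nontrivial e ∈ E, the fixed points of e in W contain at most one involution. Then E has order 9, W is extraspecial of order 2⁵, 2⁷ or 2⁹, and the common fixed points of E in W form exactly the centre Z(W). -/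
theorem result {W : Type*} [Group W] [Finite W] (hW : IsPGroup 2 W) {p : ℕ} [Fact p.Prime] (hp : p ≠ 2) (E : Subgroup (MulAut W)) (hE : IsPGroup p ↥E) (hab : IsMulCommutative ↥E) (hnc : ¬ IsCyclic ↥E) (hfix : ∀ e ∈ E, e ≠ 1 → ∀ x y : W, orderOf x = 2 → orderOf y = 2 → e x = x → e y = y → x = y) : Nat.card ↥E = 9 ∧ Cfsg.IsExtraspecial 2 W ∧ (Nat.card W = 2 ^ 5 ∨ Nat.card W = 2 ^ 7 ∨ Nat.card W = 2 ^ 9) ∧ {x : W | ∀ e ∈ E, e x = x} = (Subgroup.center W : Set W) := by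
  haveI : Finite (MulAut W) := Finite.of_injective _ DFunLike.coe_injective
  let i : W →* SD E W := inl
  let j : E →* SD E W := inr
  have ii : Function.Injective i := inl_injective
  have ji : Function.Injective j := inr_injective
  obtain ⟨z, h⟩ := exists_st (W := (⊤ : Subgroup W).map i) (E := (⊤ : Subgroup E).map j) Fact.out hp
    (isPi_of_isPGroup Nat.prime_two ((hW.to_subgroup ⊤).map i))
    (isPi_of_isPGroup Fact.out ((hE.to_subgroup ⊤).map j)) inferInstance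
    (fun c => hnc (isCyclic_of_injective (j.codRestrict _ fun e => mem_map_of_mem j (mem_top e))
      fun a b c => ji (congrArg Subtype.val c))) (le_normalizer_top ⊤)
    (eq_bot_iff.2 <| by
      rintro _ ⟨⟨e, _, rfl⟩, c⟩
      have : e = 1 := Subtype.ext (MulEquiv.ext fun w => inr_mul_inl_comm_iff.1
        (mem_cent.1 c _ (mem_map_of_mem i (mem_top w))).symm)
      rw [this, map_one]; exact one_mem _)
    (by
      rintro _ ⟨e, -, rfl⟩ e1 _ ⟨⟨x, -, rfl⟩, hx⟩ _ ⟨⟨y, -, rfl⟩, hy⟩ x2 y2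
      rw [orderOf_injective i ii] at x2 y2
      rw [hfix e e.2 (fun c => e1 (by rw [show e = 1 from Subtype.ext c, map_one])) x y x2 y2
        (inl_mem_centralizer_singleton_iff.1 hx) (inl_mem_centralizer_singleton_iff.1 hy)])
  have c : ∀ w, w ∈ center W ↔ i w ∈ zpowers z := fun w => by
    rw [← h.center, mem_center_iff]
    refine ⟨fun c => ⟨mem_map_of_mem i (mem_top w), mem_cent.2 ?_⟩, fun c g => ii ?_⟩
    · rintro _ ⟨g, -, rfl⟩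
      rw [← map_mul, c, map_mul]
    · rw [map_mul, map_mul]
      exact mem_cent.1 c.2 _ (mem_map_of_mem i (mem_top g))
  have c2 : ♯(center W) = 2 := by
    rw [← h.cz, ← card_map_of_injective ii]
    congr 2
    ext x
    refine ⟨fun ⟨w, hw, e⟩ => e ▸ (c w).1 hw, fun hx => ?_⟩
    obtain ⟨w, -, rfl⟩ := zpowers_le.2 h.zW.1 hx
    exact mem_map_of_mem i ((c w).2 hx)
  have d1 : commutator W ≤ center W := commutator_le.2 fun x _ y _ => (c _).2 (by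
    rw [map_commutatorElement]
    exact h.der (commutator_mem_commutator (mem_map_of_mem i (mem_top x))
      (mem_map_of_mem i (mem_top y))))
  have d2 : commutator W = center W := (eq_bot_or_eq_of_prime (c2 ▸ Nat.prime_two) d1).resolve_left
    fun b => h.nE (h.cent le_rfl h.n (by
      haveI : IsMulCommutative (⊤ : Subgroup W) := comm_iff_le_cent.2 (comm_eq_bot_iff.1 b)
      infer_instance))
  refine ⟨?_, ⟨⟨hW, le_antisymm ((frattini_le_iff hW).2 ⟨d1, fun x => (c _).2 ?_⟩)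
    (d2 ▸ commutator_le_frattini hW), d2⟩, c2⟩, ?_, ?_⟩
  · rw [← h.card9, card_map_of_injective ji, card_top]
  · rw [map_pow]; exact h.sq_mem (mem_map_of_mem i (mem_top x))
  · have := h.cardW
    rwa [card_map_of_injective ii, card_top] at this
  · ext w
    rw [SetLike.mem_coe, c, ← h.base.2]
    exact ⟨fun c => ⟨mem_map_of_mem i (mem_top w), inl_mem_centralizer_iff.2 fun b _ => c b b.2⟩,
      fun c e he => inl_mem_centralizer_iff.1 c.2 ⟨e, he⟩ (mem_top _)⟩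

end Cfsg.Agent.S2934
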