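import Cfsg.Statements.S2968
import Cfsg.Agent.Lib.Loc.AmbChar
import Cfsg.Agent.Lib.Loc.AmbIso
-- import your own Cfsg.Agent.* helpers here

set_option autoImplicit false
open Cfsg

namespace Cfsg.Agent.S2968

/-- Let G be a finite group, p a prime, P a Sylow p-subgroup of G and x ∈ P an element of p-power order which is isolated in G (the only conjugate of x commuting with x is x itself). Then x lies in the centre of P, and the subgroup generated by x is both strongly closed and weakly closed in P with respect to G. -/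
theorem result {G : Type*} [Group G] [Finite G] {p : ℕ} [Fact p.Prime] (P : Sylow p G) (x : G) (hxP : x ∈ (P : Subgroup G)) (hx : ∃ k : ℕ, orderOf x = p ^ k) (hiso : Cfsg.IsIsolated x) : x ∈ (P : Subgroup G) ⊓ Subgroup.centralizer ((P : Subgroup G) : Set G) ∧ Cfsg.IsStronglyClosed (Subgroup.zpowers x) (P : Subgroup G) ∧ Cfsg.IsWeaklyClosed (Subgroup.zpowers x) (P : Subgroup G) := by
  open Subgroup Cfsg CA.Amb CA.AmbSyl CA.AmbCore CA.AmbRes CA.AmbChar CA.AmbWC CA.AmbSpe CA.AmbRed CA.AmbFs CA.AmbM CA.AmbIso in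
  open scoped commutatorElement in
  (
    obtain ⟨k, hk⟩ := pow_of_orderOf hx
    have hc := Iso.le_cent hiso P.2 hxP
    refine ⟨mem_inf.2 ⟨hxP, mem_cent_of_le hc⟩, ⟨zpowers_le.2 hxP, fun y hy g hg => ?_⟩,
      zpowers_le.2 hxP, fun g hg => ?_⟩
    · obtain ⟨n, rfl⟩ := mem_zpowers_iff.1 hy
      obtain ⟨c, h1, h2⟩ := Iso.exists_conj hiso hk (H := centralizer {g * x ^ n * g⁻¹})
        (mem_cent_symm (hc hg)) (g := g) (mem_cent_iff.2 (by group))
      have h3 := mem_cent_iff.1 h1
      have h4 := mem_cent_iff.1 h2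
      have : c * (g * x ^ n * g⁻¹) * c⁻¹ = (c * g * x * (c * g)⁻¹) ^ n := by rw [conj_zpow]; group
      rw [← h3, this, h4]; exact hy
    · show cj g (zpowers x) = _
      rw [cj_zpowers, Iso.eq hiso P.2 hxP (cj_le_iff'.1 hg x (mem_zpowers x))])

end Cfsg.Agent.S2968
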