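import Cfsg.Statements.S2972
import Cfsg.Agent.Lib.Loc.AmbChar
import Cfsg.Agent.Lib.Loc.AmbIso
-- import your own Cfsg.Agent.* helpers here

set_option autoImplicit false
open Cfsg

namespace Cfsg.Agent.S2972

/-- Let G be a finite group, p a prime and x ∈ G an isolated element of order p (the only conjugate of x commuting with x is x) which is not central modulo the largest normal subgroup of order prime to p, while x is central modulo the largest normal subgroup of order prime to p in every proper subgroup containing x, and the image of x is so in every quotient of G by a nontrivial normal subgroup (a minimal counterexample to the Z*_p statement). Then the derived subgroup G' is a non-abelian simple group and G = G'⟨x⟩. -/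
theorem result {G : Type*} [Group G] [Finite G] {p : ℕ} [Fact p.Prime] (x : G) (hx : orderOf x = p) (hiso : Cfsg.IsIsolated x) (hnz : ¬ Cfsg.InZStar p x) (hmin : ∀ (H : Subgroup G) (hxH : x ∈ H), H ≠ ⊤ → Cfsg.InZStar p (⟨x, hxH⟩ : ↥H)) (hquot : ∀ (N : Subgroup G) [N.Normal], N ≠ ⊥ → Cfsg.InZStar p (QuotientGroup.mk x : G ⧸ N)) : IsSimpleGroup ↥(commutator G) ∧ ¬ IsMulCommutative ↥(commutator G) ∧ commutator G ⊔ Subgroup.zpowers x = ⊤ := by
  open Subgroup Cfsg CA.Amb CA.AmbSyl CA.AmbCore CA.AmbRes CA.AmbChar CA.AmbWC CA.AmbSpe CA.AmbRed CA.AmbFs CA.AmbM CA.AmbIso in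
  open scoped commutatorElement in
  (
    have h : MinZ p x := ⟨hx, hiso, hnz, hmin, hquot⟩
    set D : Subgroup G := ⁅(⊤ : Subgroup G), (⊤ : Subgroup G)⁆ with hD
    have hDn : D.Normal := inferInstance
    have hs : SN ⊤ D := SN.of_norm le_top norm_of_normal
    have key : ∀ n, ∀ K : Subgroup G, Nat.card K ≤ n → K ≤ D → D ≤ 𝐍 K → K ≠ ⊥ → K = D := by
      intro n
      induction n with
      | zero => intro K hK; exact absurd hK (by have := Nat.card_pos (α := K); omega)
      | succ n ih =>
        intro K hK h1 h2 h3
        have hKs : SN ⊤ K := hs.trans (SN.of_norm h1 h2)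
        obtain ⟨T, hT, hxT⟩ := Iso.mem_normalizer hiso h.pow hKs
        have hT1 : T ≠ ⊥ := hT.ne_bot (by
          by_contra e; exact h3 (h.eq_bot hKs (CA.PRes.coprime_iff_not_dvd.2 e)))
        have h4 : K ⊓ cj x K ≠ ⊥ := fun e => hT1 (le_bot_iff.1 ((le_inf hT.le (le_cj_of_cent hT.le hxT)).trans e.le))
        by_cases e : K ≤ cj x K
        · have hn : ⊤ ≤ 𝐍 K := (h.sup_eq_top h.der_ne).ge.trans
            (sup_le h2 (zpowers_le.2 (mem_normalizer_of_le_cj e)))
          haveI := normal_iff_top_le.2 hn
          exact le_antisymm h1 (h.der_le h3)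
        · have h5 : K ⊓ cj x K < K := inf_lt_left.2 e
          have := ih _ (by have := card_lt_of_lt h5; omega) (inf_le_left.trans h1) (norm_inf h2 (by
            rw [← cj_normalizer]; exact (cj_eq_self_of_normal x D).ge.trans (cj_mono x h2))) h4
          exact le_antisymm h1 (this.ge.trans inf_le_left)
    haveI : Nontrivial (_root_.commutator G) := (nontrivial_iff_ne_bot D).2 h.der_ne
    refine ⟨⟨fun N hN => ?_⟩, fun hc => ?_, h.sup_eq_top h.der_ne⟩
    · by_cases e : N = ⊥
      · exact Or.inl e
      · right
        have := key _ (N.map D.subtype) le_rfl (map_subtype_le N) (norm_map_subtype N)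
          fun e' => e ((Subgroup.map_eq_bot_iff_of_injective N D.subtype_injective).1 e')
        exact map_injective D.subtype_injective (this.trans (map_subtype_top D).symm)
    · have h1 := SN.le_FL hs (CA.Core.isNilpotent_of_isMulCommutative hc)
      have := FL_le_sup (p := p) (⊤ : Subgroup G)
      rw [pCoreOf_top, OQ_top, h.pCore, h.core, bot_sup_eq] at this
      exact h.der_ne (le_bot_iff.1 (h1.trans this)))

end Cfsg.Agent.S2972
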