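import Cfsg.Statements.S2975
import Cfsg.Agent.Lib.Loc.AmbChar
import Cfsg.Agent.Lib.Loc.AmbIso
-- import your own Cfsg.Agent.* helpers here

set_option autoImplicit false
open Cfsg

namespace Cfsg.Agent.S2975

/-- Let G be a finite group, p a prime and x ∈ G an isolated element of order p (the only conjugate of x commuting with x is x) which is not central modulo the largest normal subgroup of order prime to p, while x is central modulo the largest normal subgroup of order prime to p in every proper subgroup containing x, and the image of x is so in every quotient of G by a nontrivial normal subgroup (a minimal counterexample to the Z*_p statement). Then for every prime q, every q-subgroup of G that is normalized by x and maximal among the q-subgroups normalized by x is either trivial or a Sylow q-subgroup of G; and C_G(x) permutes the x-invariant Sylow q-subgroups of G transitively by conjugation. -/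
theorem result {G : Type*} [Group G] [Finite G] {p : ℕ} [Fact p.Prime] (x : G) (hx : orderOf x = p) (hiso : Cfsg.IsIsolated x) (hnz : ¬ Cfsg.InZStar p x) (hmin : ∀ (H : Subgroup G) (hxH : x ∈ H), H ≠ ⊤ → Cfsg.InZStar p (⟨x, hxH⟩ : ↥H)) (hquot : ∀ (N : Subgroup G) [N.Normal], N ≠ ⊥ → Cfsg.InZStar p (QuotientGroup.mk x : G ⧸ N)) (q : ℕ) [Fact q.Prime] : (∀ Q : Subgroup G, IsPGroup q ↥Q → x ∈ Subgroup.normalizer (Q : Set G) → (∀ R : Subgroup G, IsPGroup q ↥R → x ∈ Subgroup.normalizer (R : Set G) → Q ≤ R → R = Q) → Q = ⊥ ∨ ∃ S : Sylow q G, (S : Subgroup G) = Q) ∧ (∀ S₁ S₂ : Sylow q G, x ∈ Subgroup.normalizer ((S₁ : Subgroup G) : Set G) → x ∈ Subgroup.normalizer ((S₂ : Subgroup G) : Set G) → ∃ c ∈ Subgroup.centralizer ({x} : Set G), (S₁ : Subgroup G).map (MulAut.conj c).toMonoidHom = (S₂ : Subgroup G)) := by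
  open Subgroup Cfsg CA.Amb CA.AmbSyl CA.AmbCore CA.AmbRes CA.AmbChar CA.AmbWC CA.AmbSpe CA.AmbRed CA.AmbFs CA.AmbM CA.AmbIso in
  open scoped commutatorElement in
  (
    have h : MinZ p x := ⟨hx, hiso, hnz, hmin, hquot⟩
    have hz := isPGroup_zpowers h.pow
    refine ⟨fun Q hQ hxQ hmax => ?_, fun S₁ S₂ h1 h2 => ?_⟩
    · by_cases hq : q = p
      · subst hq
        obtain ⟨S, hS⟩ := (isPGroup_sup_of_norm hz hQ (zpowers_le.2 hxQ)).exists_le_sylow
        exact Or.inr ⟨S, hmax S S.2 (le_normalizer (hS (mem_sup_left (mem_zpowers x)))) (le_sup_right.trans hS)⟩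
      have hqp : q.Coprime p := (Nat.coprime_primes Fact.out Fact.out).2 hq
      refine or_iff_not_imp_left.2 fun hQ1 => sylIn_top_iff.1 (sylIn_of_normalizer ?_)
      rw [top_inf_eq]
      set H := 𝐍 Q with hH
      have hH1 : H ≠ ⊤ := fun e => hQ1 (h.eq_bot (SN.of_norm le_top e.ge)
        (CA.Core.coprime_card_of_isPGroup hQ hqp))
      set K := OQ p H with hK
      have hKn : H ≤ 𝐍 K := norm_OQ le_normalizer
      have hxK : zpowers x ≤ 𝐍 K := zpowers_le.2 (hKn hxQ)
      have e1 : (H ⊓ centralizer {x}) ⊔ K = H := by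
        have := Iso.sup_eq hiso h.pow (sup_le (zpowers_le.2 hxQ) (OQ_le p H))
          (N := zpowers x ⊔ K) (le_normalizer_iff_cj.2 fun g hg => by
            rw [cj_sup, cj_zpowers, cj_eq_self (hKn hg)]
            refine sup_le (zpowers_le.2 ?_) le_sup_right
            have : g * x * g⁻¹ = g * x * g⁻¹ * x⁻¹ * x := by group
            rw [this]
            exact mul_mem (mem_sup_right (comm_mem_OQ (hmin H hxQ hH1) hg)) (mem_sup_left (mem_zpowers x)))
          (mem_sup_left (mem_zpowers x))
        refine le_antisymm (sup_le inf_le_left (OQ_le p H)) (this.ge.trans (sup_le (sup_le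
          (le_sup_left.trans' (zpowers_le.2 (mem_inf.2 ⟨hxQ, self_mem_cent x⟩))) le_sup_right) le_sup_left))
      obtain ⟨T, hT⟩ := exists_sylIn q (H ⊓ centralizer {x})
      have hTK : T ≤ 𝐍 K := (hT.le.trans inf_le_left).trans hKn
      obtain ⟨U, hU, hTU⟩ := exists_sylIn_ge hT.pg (le_sup_left : T ≤ T ⊔ K)
      have h3 := sylIn_sup (inf_le_left.trans hKn) (hU.inf_norm le_sup_right (sup_le hTK le_normalizer)) hT
        (hU.pg.to_le (sup_le hTU inf_le_left))
      rw [e1] at h3
      have hL : T ⊔ K ≤ H := sup_le (hT.le.trans inf_le_left) (OQ_le p H)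
      have hxL : zpowers x ≤ 𝐍 (T ⊔ K) := norm_sup (norm_of_centralizer (zpowers_le.2
        (mem_cent_of_le (hT.le.trans inf_le_right)))) hxK
      obtain ⟨R, hR, hxR⟩ := CA.Coprime2.exists_isSylowIn hxL (by
        rw [Nat.card_zpowers, hx]
        exact (CA.Core.coprime_card_sup hTK (CA.Core.coprime_card_of_isPGroup hT.pg hqp)
          (coprime_OQ p H)).symm) (Or.inl (isSolvable_zpowers x)) q
      have hR' : SylIn q R H := (sylIn_iff.2 hR).of_sylIn_le hL h3
        (sup_le le_sup_left (inf_le_right.trans le_sup_right))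
      rwa [hmax R hR'.pg (hxR (mem_zpowers x)) (hR'.le_of_norm hQ le_normalizer hR'.le)] at hR'
    · obtain ⟨g, -, hg⟩ := (sylIn_top S₁).exists_conj (sylIn_top S₂)
      obtain ⟨c, h3, h4⟩ := Iso.exists_conj hiso h.pow h2 (g := g) (by
        rw [← hg, ← cj_normalizer]; exact conj_mem_cj.2 h1)
      exact ⟨c * g, h4, by show cj _ _ = _; rw [← cj_cj, hg, cj_eq_self h3]⟩)

end Cfsg.Agent.S2975
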