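import Cfsg.Statements.S3192
import Cfsg.Agent.Lib.Cit.CtG6
import Cfsg.Agent.Lib.GW.GW15

set_option autoImplicit false
open Cfsg

namespace Cfsg.Agent.S3192

/-- Simple groups of conjugate type rank three. For a finite group G consider the set of indices of the centralizers of the non-central elements of G. Then G is a non-abelian simple group for which this set has exactly three members if and only if G is isomorphic to PSL(2, 2^m) for some m ≥ 2. -/
theorem result (G : Type*) [Group G] [Finite G] :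
    (IsSimpleGroup G ∧ ¬ IsMulCommutative G ∧
        Set.ncard {m : ℕ | ∃ x : G, x ∉ Subgroup.center G ∧ m = (Subgroup.centralizer ({x} : Set G)).index} = 3) ↔
      ∃ (m : ℕ) (F : Type) (_ : Field F) (_ : Fintype F), 2 ≤ m ∧ Fintype.card F = 2 ^ m ∧
        Nonempty (G ≃* Matrix.ProjectiveSpecialLinearGroup (Fin 2) F) := by
  constructor
  · rintro ⟨hs, hc, h⟩
    have hZ : Subgroup.center G = ⊥ := (hs.eq_bot_or_eq_top_of_normal _ inferInstance).resolve_right
      fun e => hc ⟨⟨fun a b => Subgroup.mem_center_iff.1 (e.ge (Subgroup.mem_top b)) a⟩⟩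
    obtain ⟨F, _, _, ⟨m, h1, h2⟩, e⟩ := (CA.R3.cai_of_three hZ (by
      refine le_of_eq (Eq.trans ?_ h)
      congr 1
      ext n
      constructor
      · rintro ⟨h1, x, rfl⟩
        exact ⟨x, fun e => h1.ne' (CA.H7Ito.ind_one.2 e), rfl⟩
      · rintro ⟨x, h1, rfl⟩
        have := CA.H7Ito.ind_pos x
        have := CA.H7Ito.ind_one.not.2 h1
        exact ⟨by omega, x, rfl⟩) fun e => hc ⟨⟨IsSimpleGroup.comm_iff_isSolvable.2 e⟩⟩).simple hc
    exact ⟨m, F, _, _, h1, h2, e⟩
  rintro ⟨m, F, _, _, h1, h2, ⟨e⟩⟩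
  obtain ⟨h0, h4⟩ := CA.Ca.two_eq ⟨m, h1, h2⟩
  have e' := e.trans (CA.Ca.slE h0).symm
  haveI := CA.GW.psl_simple (F := F) (by rw [← Nat.card_eq_fintype_card]; omega)
  have ns : ∀ x : G, x ∉ Subgroup.center G ↔ CA.Mat2.NS (e' x).1 := fun x => by
    rw [CA.SL2Torus.NS_iff_not_center, ← CA.FieldIso.map_center e', not_iff_not]
    exact (Subgroup.mem_map_iff_mem (f := (e' : G →* Matrix.SpecialLinearGroup (Fin 2) F)) e'.injective).symm
  have cc : ∀ x : G, Nat.card (Subgroup.centralizer ({x} : Set G)) = Nat.card (CA.SL2Torus.C (e' x)) :=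
    fun x => Nat.card_congr (e'.toEquiv.subtypeEquiv fun y => by
      simp only [CA.SL2Torus.mem_C_iff]
      exact ⟨fun h => by simpa using congrArg e' h, fun h => e'.injective (by simpa using h)⟩)
  obtain ⟨u, hu⟩ := CA.SL2Torus.exists_split_SL F h4
  obtain ⟨v, hv⟩ := CA.SL2Torus.exists_aniso_SL F
  have hw : ¬ CA.SL2Torus.SS (CA.SL2Unip.u (1 : F)) := (CA.SL2Torus.not_SS_iff _).2 (Or.inl (by
    simp [Matrix.trace_fin_two]; norm_num))
  have hw' : CA.Mat2.NS (CA.SL2Unip.u (1 : F)).1 := (CA.SL2Torus.NS_iff_ne _).2 (by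
    rw [CA.SL2Unip.neg_eq_self_of_two h0, and_self]
    intro e
    simpa using congrArg (fun g : Matrix.SpecialLinearGroup (Fin 2) F => g.1 0 1) e)
  have id : ∀ x : G, (Subgroup.centralizer ({x} : Set G)).index =
      Nat.card G / Nat.card (CA.SL2Torus.C (e' x)) := fun x => by
    rw [← cc, ← (Subgroup.centralizer ({x} : Set G)).card_mul_index, Nat.mul_div_cancel_left _ Nat.card_pos]
  have dv : ∀ g, Nat.card (CA.SL2Torus.C g) ∣ Nat.card G := fun g => by
    rw [← e'.apply_symm_apply g, ← cc]; exact Subgroup.card_subgroup_dvd_card _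
  have c1 := CA.SL2Torus.card_C_split hu
  have c2 := CA.SL2Torus.card_C_aniso hv
  have c3 := CA.SL2Unip.card_C_of_not_SS_even h0 hw hw'
  have ne : ∀ {a b : ℕ}, a ∣ Nat.card G → b ∣ Nat.card G → a ≠ b → Nat.card G / a ≠ Nat.card G / b :=
    fun {a b} ha hb hab e => hab (Nat.eq_of_mul_eq_mul_right (Nat.div_pos (Nat.le_of_dvd Nat.card_pos hb)
      (Nat.pos_of_dvd_of_pos hb Nat.card_pos)) (by rw [Nat.mul_div_cancel' hb, ← e, Nat.mul_div_cancel' ha]))
  refine ⟨e.isSimpleGroup, fun hc => (ns (e'.symm v)).2 (by simpa using (CA.SL2Torus.SS.of_aniso hv).ns)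
    (Subgroup.mem_center_iff.2 fun g => hc.1.1 _ _), Set.ncard_eq_three.2
    ⟨Nat.card G / (Nat.card F - 1), Nat.card G / (Nat.card F + 1), Nat.card G / Nat.card F,
      ne (c1 ▸ dv u) (c2 ▸ dv v) (by omega), ne (c1 ▸ dv u) (c3 ▸ dv _) (by omega),
      ne (c2 ▸ dv v) (c3 ▸ dv _) (by omega), ?_⟩⟩
  ext n
  constructor
  · rintro ⟨x, hx, rfl⟩
    rw [id]
    by_cases hs : CA.SL2Torus.SS (e' x)
    · rcases hs.card_C with e | e <;> simp [e]
    · simp [CA.SL2Unip.card_C_of_not_SS_even h0 hs ((ns x).1 hx)]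
  · rintro (rfl | rfl | rfl)
    · exact ⟨e'.symm u, (ns _).2 (by simpa using (CA.SL2Torus.SS.of_split hu).ns), by rw [id]; simp [c1]⟩
    · exact ⟨e'.symm v, (ns _).2 (by simpa using (CA.SL2Torus.SS.of_aniso hv).ns), by rw [id]; simp [c2]⟩
    · exact ⟨e'.symm _, (ns _).2 (by rw [e'.apply_symm_apply]; exact hw'), by rw [id, e'.apply_symm_apply, c3]⟩

end Cfsg.Agent.S3192
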