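import Cfsg.Statements.S3927
import Cfsg.Agent.Lib.Grp.H7Zip
import Cfsg.Agent.Lib.Grp.CoprimeAct

set_option autoImplicit false
open Cfsg

namespace Cfsg.Agent.S3927

open Subgroup CA.H7Zip SemidirectProduct
open scoped Pointwise

universe u

theorem key (k n : ℕ) : ∀ (G : Type u) [Group G] [Finite G] (a : G), Nat.card G = n →
    normalClosure (zpowers a : Set G) = ⊤ →
    zpowers a ⊔ closure (Set.range (fun c : G => c * a * c⁻¹ * a⁻¹)^[k]) = ⊤ := by
  induction n using Nat.strong_induction_on with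
  | _ n ih =>
  intro G _ _ a hn hA
  by_contra h
  obtain ⟨M, hM, hle⟩ := (eq_top_or_exists_le_coatom _).resolve_left h
  have lM := le_sup_left.trans hle
  have hu : ∀ K, IsCoatom K → zpowers a ≤ K → K = M := fun K => gzip _ hA hM lM fun H h1 h2 h3 => by
    have ha : a ∈ H := h1 (mem_zpowers a)
    have e : (zpowers a).subgroupOf H = zpowers (⟨a, ha⟩ : H) := by
      ext x
      exact ⟨fun ⟨i, hi⟩ => ⟨i, Subtype.ext hi⟩, fun ⟨i, hi⟩ => ⟨i, congrArg Subtype.val hi⟩⟩
    have := ih _ (by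
      have := CA.PGBasic.card_lt_of_lt (lt_top_iff_ne_top.2 h2)
      rwa [card_top, hn] at this) H ⟨a, ha⟩ rfl (e ▸ h3)
    refine subgroupOf_eq_top.1 (eq_top_iff.2 (this.ge.trans (sup_le (zpowers_le.2 (lM (mem_zpowers a)))
      ((closure_le _).2 ?_))))
    rintro _ ⟨c, rfl⟩
    have : ∀ j, (((fun c : H => c * ⟨a, ha⟩ * c⁻¹ * (⟨a, ha⟩ : H)⁻¹)^[j] c : H) : G) =
        (fun c : G => c * a * c⁻¹ * a⁻¹)^[j] c := fun j => by
      induction j with
      | zero => rfl
      | succ j ih => simp [Function.iterate_succ_apply', ih]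
    exact hle (mem_sup_right (Subgroup.subset_closure ⟨c, (this k).symm⟩))
  have hN : normalizer (M : Set G) = M := (hM.le_iff_eq fun e => hM.1 (by
    have := normalizer_eq_top_iff.1 e
    exact eq_top_iff.2 (hA ▸ normalClosure_le_normal lM))).1 le_normalizer
  obtain ⟨g, hg⟩ : ∃ g, g ∉ M := by
    by_contra e
    push Not at e
    exact hM.1 ((eq_top_iff' _).2 e)
  have : ∀ j, (fun c : G => c * a * c⁻¹ * a⁻¹)^[j] g ∉ M := fun j => by
    induction j with
    | zero => exact hg
    | succ j ih =>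
      rw [Function.iterate_succ_apply']
      intro e
      refine ih (inv_mem_iff.1 (hN ▸ smul_eq_iff.1 (hu _ (coatom_smul _ hM) (zpowers_le.2 ?_))))
      rw [mem_pointwise_smul_iff_inv_smul_mem]
      simpa using (M.mul_mem_cancel_right (inv_mem (lM (mem_zpowers a)))).1 e
  exact this k (hle (mem_sup_right (Subgroup.subset_closure ⟨g, rfl⟩)))

/-- Let G be a finite group and α an automorphism of G with [G, α] = G, that is, the elements g·α(g)⁻¹ generate G. Then for every k ≥ 1 the iterated commutators [g, α, …, α] with k entries α — the values of the k-th iterate of the map c ↦ c·α(c)⁻¹ — also generate G. -/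
theorem result {G : Type*} [Group G] [Finite G] (α : MulAut G) (hG : Subgroup.closure (Set.range (fun c : G => c * (α c)⁻¹)) = ⊤) (k : ℕ) (hk : 1 ≤ k) :
    Subgroup.closure (Set.range ((fun c : G => c * (α c)⁻¹)^[k])) = ⊤ := by
  let a : CA.CoprimeAct.SD (zpowers α) G := inr ⟨α, mem_zpowers α⟩
  have h1 : ∀ g : G, inl g * a * (inl g)⁻¹ * a⁻¹ = inl (g * (α g)⁻¹) := fun g => by
    rw [map_mul, ← map_inv α, mul_assoc, mul_assoc, ← mul_assoc a, ← map_inv,
      CA.CoprimeAct.inr_conj_inl]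
    rfl
  have h2 : ∀ x : zpowers α, (inr x : CA.CoprimeAct.SD (zpowers α) G) ∈ zpowers a := by
    rintro ⟨_, i, rfl⟩
    exact ⟨i, by simp only [a, ← map_zpow]; rfl⟩
  have h3 : ∀ N : Subgroup (CA.CoprimeAct.SD (zpowers α) G), (∀ g : G, inl (g * (α g)⁻¹) ∈ N) →
      ∀ g : G, inl g ∈ N := fun N h g => by
    have : closure (Set.range fun c : G => c * (α c)⁻¹) ≤ N.comap inl :=
      (closure_le _).2 (by rintro _ ⟨c, rfl⟩; exact h c)
    exact this (hG ▸ mem_top g)
  have h4 := key k _ _ a rfl ((eq_top_iff' _).2 fun x => by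
    rw [← inl_left_mul_inr_right x]
    have ha : a ∈ normalClosure (zpowers a : Set _) := subset_normalClosure (mem_zpowers a)
    exact mul_mem (h3 _ (fun g => h1 g ▸ mul_mem (Normal.conj_mem inferInstance _ ha _) (inv_mem ha)) _)
      (subset_normalClosure (h2 _)))
  set E := closure (Set.range (fun c => c * a * c⁻¹ * a⁻¹)^[k]) with hE
  have h5 : ∀ (j : ℕ) (g : G), (fun c => c * a * c⁻¹ * a⁻¹)^[j] (inl g) =
      inl ((fun c : G => c * (α c)⁻¹)^[j] g) := fun j g => by
    induction j with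
    | zero => rfl
    | succ j ih => rw [Function.iterate_succ_apply', Function.iterate_succ_apply', ih, h1]
  have h6 : E ≤ (closure (Set.range (fun c : G => c * (α c)⁻¹)^[k])).map inl := by
    refine (closure_le _).2 ?_
    rintro _ ⟨c, rfl⟩
    refine ⟨_, Subgroup.subset_closure ⟨c.left, rfl⟩, ?_⟩
    obtain ⟨j, rfl⟩ : ∃ j, k = j + 1 := ⟨k - 1, by omega⟩
    rw [← h5, Function.iterate_succ_apply, Function.iterate_succ_apply]
    congr 1
    obtain ⟨i, hi⟩ := h2 c.right
    nth_rw 3 4 [← inl_left_mul_inr_right c]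
    rw [← hi]
    group
  have h7 : a ∈ normalizer (E : Set _) := by
    refine mem_normalizer_fintype fun x hx => ?_
    have : E ≤ E.comap (MulAut.conj a).toMonoidHom := (closure_le _).2 (by
      rintro _ ⟨c, rfl⟩
      refine Subgroup.subset_closure ⟨a * c * a⁻¹, ?_⟩
      clear hk h4 h6 hx hE
      induction k with
      | zero => rfl
      | succ j ih =>
        rw [Function.iterate_succ_apply', Function.iterate_succ_apply', ih]
        simp [mul_assoc])
    exact this hx
  have h8 : E.Normal := normalizer_eq_top_iff.1 (eq_top_iff.2 (h4.ge.trans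
    (sup_le (zpowers_le.2 h7) le_normalizer)))
  suffices h9 : ∀ g : G, inl (g * (α g)⁻¹) ∈ E by
    refine (eq_top_iff' _).2 fun g => ?_
    obtain ⟨y, hy, e⟩ := h6 (h3 E h9 g)
    exact inl_injective e ▸ hy
  intro g
  rw [← h1]
  obtain ⟨_, ⟨i, rfl⟩, y, hy, e⟩ := mem_sup_of_normal_right.1 (h4.ge (mem_top (inl g)))
  rw [← e, show a ^ i * y * a * (a ^ i * y)⁻¹ * a⁻¹ = a ^ i * (y * (a * y⁻¹ * a⁻¹)) * (a ^ i)⁻¹ by group]
  exact h8.conj_mem _ (mul_mem hy (h8.conj_mem _ (inv_mem hy) _)) _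

end Cfsg.Agent.S3927
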