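import Cfsg.Statements.S3264
import Cfsg.Agent.S3927

set_option autoImplicit false
open Cfsg

namespace Cfsg.Agent.S3264

open Subgroup

theorem conn {G : Type*} [Group G] [Finite G] (t : G) (ht : orderOf t = 2)
    (hN : normalClosure (zpowers t : Set G) = ⊤) :
    (SimpleGraph.fromRel fun x y : {x : G // IsConj t x} => Odd (orderOf (x.1 * y.1))).Connected := by
  set Γ := SimpleGraph.fromRel fun x y : {x : G // IsConj t x} => Odd (orderOf (x.1 * y.1))
  have t2 : t * t = 1 := by rw [← pow_two, ← ht, pow_orderOf_eq_one]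
  have ti : t⁻¹ = t := inv_eq_of_mul_eq_one_left t2
  let c : G → {x : G // IsConj t x} → {x : G // IsConj t x} := fun g x =>
    ⟨g * x * g⁻¹, x.2.trans (isConj_iff.2 ⟨g, rfl⟩)⟩
  have oc : ∀ g x y : G, orderOf (g * x * g⁻¹ * (g * y * g⁻¹)) = orderOf (x * y) := fun g x y => by
    rw [show g * x * g⁻¹ * (g * y * g⁻¹) = MulAut.conj g (x * y) by simp [mul_assoc],
      MulEquiv.orderOf_eq]
  let φ : G → Γ →g Γ := fun g => ⟨c g, fun {x y} h => by
    rw [SimpleGraph.fromRel_adj] at h ⊢
    exact ⟨fun e => h.1 (Subtype.ext (by simpa [c] using congrArg Subtype.val e)),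
      by simpa only [c, oc] using h.2⟩⟩
  let t₀ : {x : G // IsConj t x} := ⟨t, IsConj.refl t⟩
  let H : Subgroup G :=
    { carrier := {g | Γ.Reachable t₀ (c g t₀)}
      one_mem' := by
        have : c 1 t₀ = t₀ := Subtype.ext (by simp [c])
        change Γ.Reachable t₀ (c 1 t₀)
        rw [this]
      mul_mem' := fun {a b} ha hb => by
        have : c (a * b) t₀ = c a (c b t₀) := Subtype.ext (by simp [c, mul_assoc])
        change Γ.Reachable t₀ (c (a * b) t₀)
        rw [this]
        exact SimpleGraph.Reachable.trans ha (SimpleGraph.Reachable.map (φ a) hb)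
      inv_mem' := fun {a} ha => by
        have h := SimpleGraph.Reachable.map (φ a⁻¹) ha
        have : φ a⁻¹ (c a t₀) = t₀ := Subtype.ext (by simp [c, φ, mul_assoc])
        rw [this] at h
        exact h.symm }
  have hs : ∀ s : G, Odd (orderOf (t * (s * t * s⁻¹))) → s ∈ H := fun s h => by
    change Γ.Reachable t₀ (c s t₀)
    by_cases e : t₀ = c s t₀
    · rw [← e]
    · exact SimpleGraph.Adj.reachable ((SimpleGraph.fromRel_adj _ _ _).2 ⟨e, Or.inl h⟩)
  have hH : H = ⊤ := by
    refine eq_top_iff.2 ((S3927.key (Nat.card G + 1) _ G t rfl hN).ge.trans (sup_le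
      (zpowers_le.2 (hs t (by simp [t2]))) ((closure_le _).2 ?_)))
    rintro _ ⟨g, rfl⟩
    set r := g * t * g⁻¹ * t⁻¹ with hr
    have h1 : t * r * t⁻¹ = r⁻¹ := by
      rw [hr, ti]
      simp only [mul_inv_rev, ti, inv_inv, mul_assoc, t2, mul_one]
    have h2 : ∀ n : ℕ, t * r ^ n * t⁻¹ = (r ^ n)⁻¹ := fun n => by rw [← conj_pow, h1, inv_pow]
    have h3 : ∀ j, (fun c : G => c * t * c⁻¹ * t⁻¹)^[j + 1] g = r ^ 2 ^ j := fun j => by
      induction j with
      | zero => simp [hr]
      | succ j ih =>
        rw [Function.iterate_succ_apply', ih, pow_succ, pow_mul, pow_two, mul_assoc, mul_assoc,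
          ← mul_assoc t, ← inv_pow, ← conj_pow, ← conj_inv, h1, inv_inv]
    rw [h3]
    refine hs _ ?_
    obtain ⟨e, m, hm, he⟩ := Nat.exists_eq_two_pow_mul_odd (Nat.card_pos (α := G)).ne'
    have h4 : (r ^ 2 ^ Nat.card G) ^ m = 1 := by
      rw [← pow_mul]
      refine orderOf_dvd_iff_pow_eq_one.1 ((orderOf_dvd_natCard r).trans ?_)
      nth_rw 1 [he]
      refine Nat.mul_dvd_mul_right (pow_dvd_pow 2 ?_) m
      have := Nat.lt_two_pow_self (n := e)
      have := hm.pos
      nlinarith
    set s := r ^ 2 ^ Nat.card G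
    have h5 : t * (s * t * s⁻¹) = (s ^ 2)⁻¹ := by
      have := h2 (2 ^ Nat.card G)
      rw [ti] at this
      rw [← mul_assoc, ← mul_assoc, this, pow_two, mul_inv_rev]
    rw [h5, orderOf_inv]
    exact hm.of_dvd_nat ((orderOf_pow_dvd 2).trans (orderOf_dvd_of_pow_eq_one h4))
  have hr : ∀ x, Γ.Reachable t₀ x := fun x => by
    obtain ⟨g, hg⟩ := isConj_iff.1 x.2
    have : g ∈ H := hH ▸ mem_top g
    rwa [show x = c g t₀ from Subtype.ext hg.symm]
  exact (SimpleGraph.connected_iff_exists_forall_reachable _).2 ⟨t₀, hr⟩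

/-- Let G be a non-abelian finite simple group and X a conjugacy class of involutions of G. Form the graph on X in which two distinct involutions are joined when their product has odd order. Then this graph is connected. (By the Baer–Suzuki Theorem the graph has at least one edge; connectedness is the stronger statement.) -/
theorem result {G : Type*} [Group G] [Finite G] [IsSimpleGroup G]
    (hG : ¬ IsMulCommutative G) (t : G) (ht : orderOf t = 2) :
    (SimpleGraph.fromRel fun x y : {x : G // IsConj t x} => Odd (orderOf (x.1 * y.1))).Connected := by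
  refine conn t ht ((IsSimpleGroup.eq_bot_or_eq_top_of_normal _ inferInstance).resolve_left fun e => ?_)
  have : t ∈ normalClosure (zpowers t : Set G) := subset_normalClosure (mem_zpowers t)
  rw [e, mem_bot] at this
  rw [this, orderOf_one] at ht
  omega

end Cfsg.Agent.S3264
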