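import Cfsg.Statements.S3333
import Cfsg.Agent.Lib.Char.H7Exc6

set_option autoImplicit false
open Cfsg

namespace Cfsg.Agent.S3333

open Subgroup CA.H7Exc DihedralGroup

/-- Let G be a finite group with a Sylow 3-subgroup S of order 9 that is its own centralizer, with N_G(S)/S dihedral of order 8, and such that C_G(x) ≤ N_G(S) for every non-identity x in S. Then S is normal in G or G is isomorphic to the symmetric group of degree 6. -/
theorem result {G : Type*} [Group G] [Finite G]
    (P : Sylow 3 G) (S : Subgroup G) (hSP : S = P) (hcard : Nat.card S = 9)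
    (hC : Subgroup.centralizer (S : Set G) = S)
    (eN : Subgroup.normalizer (S : Set G) ⧸ S.subgroupOf (Subgroup.normalizer (S : Set G)) ≃* DihedralGroup 4)
    (hcent : ∀ x ∈ S, x ≠ 1 → Subgroup.centralizer ({x} : Set G) ≤ Subgroup.normalizer (S : Set G)) :
    S.Normal ∨ Nonempty (G ≃* Equiv.Perm (Fin 6)) := by
  subst hSP
  obtain ⟨s, hs, h1, h2⟩ := exists_sec P eN
  have h3 : ∀ t ∈ (P : Subgroup G), t ^ 3 = 1 := fun t ht => by
    by_contra k
    have k1 : orderOf (⟨t, ht⟩ : (P : Subgroup G)) = Nat.card (P : Subgroup G) := by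
      have k2 := orderOf_dvd_natCard (⟨t, ht⟩ : (P : Subgroup G))
      rw [hcard] at k2 ⊢
      obtain ⟨i, hi, e⟩ := (Nat.dvd_prime_pow (m := 2) Nat.prime_three).1 k2
      interval_cases i
      · exact absurd (by rw [show t = 1 from congrArg Subtype.val (orderOf_eq_one_iff.1 e), one_pow]) k
      · exact absurd (congrArg Subtype.val (e ▸ pow_orderOf_eq_one (⟨t, ht⟩ : (P : Subgroup G)))) k
      · exact e
    have := isCyclic_of_orderOf_eq_card _ k1
    let φ := (P : Subgroup G).normalizerMonoidHom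
    have k2 : ∀ x y, φ x * φ y = φ y * φ x := fun x y => by
      have := IsCyclic.mulAutMulEquiv (P : Subgroup G)
      exact this.injective (by rw [map_mul, map_mul, mul_comm])
    have k3 : (⟨s (r 1 * r 1), h1 _⟩ : normalizer ((P : Subgroup G) : Set G)) ∈ φ.ker := by
      rw [show (⟨s (r 1 * r 1), h1 _⟩ : normalizer ((P : Subgroup G) : Set G)) =
        ⟨s (r 1), h1 _⟩ * ⟨s (sr 0), h1 _⟩ * (⟨s (sr 0), h1 _⟩ * ⟨s (r 1), h1 _⟩)⁻¹⁻¹⁻¹ from Subtype.ext (by
          simp only [coe_mul, coe_inv, ← map_mul, ← map_inv]; congr 1), MonoidHom.mem_ker, inv_inv, map_mul,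
          map_inv, map_mul, map_mul, k2, mul_inv_cancel]
    rw [normalizerMonoidHom_ker, hC, mem_subgroupOf] at k3
    have k4 := congrArg Subtype.val (pow_card_eq_one' (x := (⟨_, k3⟩ : (P : Subgroup G))))
    rw [hcard] at k4
    exact absurd (hs ((map_pow s _ 9).trans (k4.trans (map_one s).symm))) (by decide)
  exact (Hy.dih_main ⟨hcard, h3, hcent⟩ s hs hC.le h1 (by rw [h2, hcard, nat_card])).imp normalizer_eq_top_iff.1 id

end Cfsg.Agent.S3333
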