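import Cfsg.Statements.S3362
import Mathlib
import Cfsg.Agent.S0709
import Cfsg.Agent.Lib.Perm.Sharp4

set_option autoImplicit false
open Cfsg

namespace Cfsg.Agent.S3362

def ps : Equiv.Perm (Fin 12) := Equiv.swap (3 : Fin 12) 5 * Equiv.swap (3 : Fin 12) 4 * Equiv.swap (6 : Fin 12) 8 * Equiv.swap (6 : Fin 12) 7 * Equiv.swap (9 : Fin 12) 11 * Equiv.swap (9 : Fin 12) 10
def pt : Equiv.Perm (Fin 12) := Equiv.swap (3 : Fin 12) 9 * Equiv.swap (3 : Fin 12) 6 * Equiv.swap (4 : Fin 12) 10 * Equiv.swap (4 : Fin 12) 7 * Equiv.swap (5 : Fin 12) 11 * Equiv.swap (5 : Fin 12) 8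
def pu : Equiv.Perm (Fin 12) := Equiv.swap (4 : Fin 12) 9 * Equiv.swap (4 : Fin 12) 5 * Equiv.swap (4 : Fin 12) 6 * Equiv.swap (7 : Fin 12) 10 * Equiv.swap (7 : Fin 12) 11 * Equiv.swap (7 : Fin 12) 8
def pv : Equiv.Perm (Fin 12) := Equiv.swap (4 : Fin 12) 11 * Equiv.swap (4 : Fin 12) 5 * Equiv.swap (4 : Fin 12) 7 * Equiv.swap (6 : Fin 12) 8 * Equiv.swap (6 : Fin 12) 9 * Equiv.swap (6 : Fin 12) 10
def pw : Equiv.Perm (Fin 12) := Equiv.swap (4 : Fin 12) 8 * Equiv.swap (4 : Fin 12) 5 * Equiv.swap (4 : Fin 12) 10 * Equiv.swap (6 : Fin 12) 7 * Equiv.swap (6 : Fin 12) 9 * Equiv.swap (6 : Fin 12) 11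
def px₁ : Equiv.Perm (Fin 12) := Equiv.swap (0 : Fin 12) 3 * Equiv.swap (6 : Fin 12) 7 * Equiv.swap (8 : Fin 12) 10 * Equiv.swap (9 : Fin 12) 11
def px₂ : Equiv.Perm (Fin 12) := Equiv.swap (0 : Fin 12) 1 * Equiv.swap (6 : Fin 12) 9 * Equiv.swap (7 : Fin 12) 10 * Equiv.swap (8 : Fin 12) 11
def px₃ : Equiv.Perm (Fin 12) := Equiv.swap (1 : Fin 12) 2 * Equiv.swap (6 : Fin 12) 11 * Equiv.swap (7 : Fin 12) 9 * Equiv.swap (8 : Fin 12) 10

def D (n : ℕ) (i : Fin 12) : Fin 12 := Fin.ofNat 12 ((n >>> (4 * i.val)) % 16)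

def F (a b : Fin 12) : Fin 12 → Fin 12 := D (0x3456789ab210768435a9b21047a36958b210a5689437b2108a395746b21063974a85b210597a8364b2109845a673b2100000000000000000000000000000000000006873549ba210000000000000534867b9a210795b4638a21036958b47a2109487b356a210b7349865a21085b63974a2104b697583a210000000000000000000000000000000000000453786ab9210876543ba9210000000000000b376a54892106b4a3857921058b47a3692103a8b64759210a653b784921074a85b6392100000000000000000000000000000000000003964a75b8210b647593a821065ab734982100000000000009ab345678210435a9b768210a47936b582107b356a9482105796b4a38210000000000000000000000000000000000000849a653b72105b83964a7210a8364b5972103549ba687210000000000000b9a53486721046b8a3957210936b58a472106a5489b3721000000000000000000000000000000000000097583a4b621073b9845a62104a75b8396210ab9453786210543ba987621000000000000089437ba5621038a795b46210b58a479362100000000000000000000000000000000000007a469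38b5210489b376a5210b4638a795210963a74b8521083a4b69752103b7849a652100000000000006789ab345210a9b768435210000000000000000000000000000000000000a385796b42106938b57a421037ba568942105a673b984210b85963a742107593a8b642109ba687354210000000000000867b9a53421000000000000000000000000000000000000056a9487b321095746b8a32108b57a469321064b597a8321049865ab73210a74b85963210786ab9453210ba9876543210000000000000000000000000000000000000000000000000000000000000000000000000000000000000000000000000000000000000000000000000000000000000000000000000000000000000000000000000000000000000000000000000000000000000000000000000000000000000000000000000000000000000000000000000000000000000000000000000000000000000000000000000000000000000000000000000000000000000000000000000000000000000000000000000000000000000000000000000000000000000000000000000000000000000000000000000000000000000000000000000 >>> (48 * (12 * a.val + b.val)))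

def G : Subgroup (Equiv.Perm (Fin 12)) := Subgroup.closure {ps, pt, pu, pv, pw}

def gen : Fin 5 → Equiv.Perm (Fin 12) := ![ps, pt, pu, pv, pw]

def cd : Fin 5 → ℕ := ![0x9ba687354210, 0x543ba9876210, 0xa74b85963210, 0x49865ab73210, 0x95746b8a3210]

def ci : Fin 5 → ℕ := ![0xa9b768435210, 0x876543ba9210, 0x8b57a4693210, 0x56a9487b3210, 0x64b597a83210]

theorem hgen : ∀ k i, gen k i = D (cd k) i := by decide +kernel

theorem hgen' (k : Fin 5) (i : Fin 12) : (gen k)⁻¹ i = D (ci k) i := by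
  rw [Equiv.Perm.inv_eq_iff_eq, hgen]
  revert k i
  decide +kernel

theorem c1 : ∀ n ∈ [cd 0, cd 1, cd 2, cd 3, cd 4, ci 0, ci 1, ci 2, ci 3, ci 4], ∀ a b : Fin 12,
    3 ≤ a → 3 ≤ b → a ≠ b → 3 ≤ D n a ∧ 3 ≤ D n b ∧ ∀ i, D n (F a b i) = F (D n a) (D n b) i := by
  decide +kernel

def evf (w : List (Fin 5)) (i : Fin 12) : Fin 12 := w.foldr (fun k j => D (cd k) j) i

def W : List (List (Fin 5)) := [[], [0], [1], [2], [3], [4], [0, 0], [1, 0], [2, 0], [3, 0], [4, 0], [1, 1], [2, 1], [3, 1], [4, 1], [0, 2], [2, 2], [4, 2], [0, 3], [1, 3], [2, 3], [0, 4], [1, 4], [3, 4], [1, 0, 0], [2, 0, 0], [3, 0, 0], [4, 0, 0], [1, 1, 0], [2, 1, 0], [3, 1, 0], [0, 2, 0], [2, 2, 0], [4, 2, 0], [0, 3, 0], [2, 3, 0], [3, 4, 0], [4, 1, 1], [2, 2, 1], [4, 2, 1], [2, 3, 1], [0, 4, 1], [1, 4, 1], [3, 4, 1], [2, 0, 2], [4, 0, 2], [0, 2, 2], [0, 4, 2], [1, 4, 2], [2, 0, 3], [3, 0, 3], [4, 0, 3], [1, 1, 3], [2, 1, 3], [3,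 1, 3], [4, 1, 3], [0, 2, 3], [3, 0, 4], [3, 1, 4], [4, 1, 4], [1, 3, 4], [1, 1, 0, 0], [4, 2, 0, 0], [2, 3, 0, 0], [2, 3, 1, 0], [2, 0, 2, 0], [0, 4, 2, 0], [1, 4, 2, 0], [2, 0, 3, 0], [3, 4, 1, 1], [3, 0, 4, 1], [3, 1, 4, 1]]

theorem c2 : ∀ a b : Fin 12, 3 ≤ a → 3 ≤ b → a ≠ b → ∃ w ∈ W, evf w 3 = a ∧ evf w 4 = b := by
  decide +kernel

theorem c3 : ∀ a b : Fin 12, 3 ≤ a → 3 ≤ b → a ≠ b → F a b 0 = 0 ∧ F a b 1 = 1 ∧ F a b 2 = 2 := by
  decide +kernel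

theorem mem5 : ps ∈ G ∧ pt ∈ G ∧ pu ∈ G ∧ pv ∈ G ∧ pw ∈ G := by
  refine ⟨?_, ?_, ?_, ?_, ?_⟩ <;> exact Subgroup.subset_closure (by simp)

theorem hF : ∀ f ∈ G, 3 ≤ f 3 ∧ 3 ≤ f 4 ∧ ∀ i, f i = F (f 3) (f 4) i := by
  have key : ∀ (g : Equiv.Perm (Fin 12)),
      ∀ n ∈ [cd 0, cd 1, cd 2, cd 3, cd 4, ci 0, ci 1, ci 2, ci 3, ci 4], (∀ i, g i = D n i) →
      ∀ f : Equiv.Perm (Fin 12), (3 ≤ f 3 ∧ 3 ≤ f 4 ∧ ∀ i, f i = F (f 3) (f 4) i) →
      (3 ≤ (g * f) 3 ∧ 3 ≤ (g * f) 4 ∧ ∀ i, (g * f) i = F ((g * f) 3) ((g * f) 4) i) := by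
    rintro g n hn hg f ⟨h1, h2, h3⟩
    obtain ⟨e1, e2, e3⟩ := c1 n hn _ _ h1 h2 (f.injective.ne (by decide))
    simp only [Equiv.Perm.mul_apply, hg]
    exact ⟨e1, e2, fun i => (congrArg (D n) (h3 i)).trans (e3 i)⟩
  intro f hf
  induction hf using Subgroup.closure_induction_left with
  | one => decide +kernel
  | mul_left x hx y _ ih =>
    rcases hx with rfl | rfl | rfl | rfl | rfl
    exacts [key _ _ (by simp) (hgen 0) y ih, key _ _ (by simp) (hgen 1) y ih,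
      key _ _ (by simp) (hgen 2) y ih, key _ _ (by simp) (hgen 3) y ih,
      key _ _ (by simp) (hgen 4) y ih]
  | inv_mul_cancel x hx y _ ih =>
    rcases hx with rfl | rfl | rfl | rfl | rfl
    exacts [key _ _ (by simp) (hgen' 0) y ih, key _ _ (by simp) (hgen' 1) y ih,
      key _ _ (by simp) (hgen' 2) y ih, key _ _ (by simp) (hgen' 3) y ih,
      key _ _ (by simp) (hgen' 4) y ih]

theorem hfix : ∀ f ∈ G, f 0 = 0 ∧ f 1 = 1 ∧ f 2 = 2 := fun f hf => by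
  obtain ⟨h1, h2, h3⟩ := hF f hf
  rw [h3 0, h3 1, h3 2]
  exact c3 _ _ h1 h2 (f.injective.ne (by decide))

theorem two0 (a b : Fin 12) (ha : 3 ≤ a) (hb : 3 ≤ b) (hab : a ≠ b) : ∃ g ∈ G, g 3 = a ∧ g 4 = b := by
  obtain ⟨w, -, rfl, rfl⟩ := c2 a b ha hb hab
  suffices h : ∃ g ∈ G, ∀ i, g i = evf w i from h.imp fun g hg => ⟨hg.1, hg.2 3, hg.2 4⟩
  clear ha hb hab
  induction w with
  | nil => exact ⟨1, one_mem _, fun _ => rfl⟩
  | cons k w ih =>
    obtain ⟨g, hg, e⟩ := ih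
    refine ⟨gen k * g, mul_mem ?_ hg, fun i => by rw [Equiv.Perm.mul_apply, hgen, e]; rfl⟩
    obtain ⟨h1, h2, h3, h4, h5⟩ := mem5
    fin_cases k
    exacts [h1, h2, h3, h4, h5]

theorem two (a b c d : Fin 12) (ha : 3 ≤ a) (hb : 3 ≤ b) (hc : 3 ≤ c) (hd : 3 ≤ d) (hab : a ≠ b)
    (hcd : c ≠ d) : ∃ g ∈ G, g a = c ∧ g b = d := by
  obtain ⟨g, hg, rfl, rfl⟩ := two0 a b ha hb hab
  obtain ⟨h, hh, rfl, rfl⟩ := two0 c d hc hd hcd
  exact ⟨h * g⁻¹, mul_mem hh (inv_mem hg), by simp, by simp⟩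

def q (i : ℕ) : Fin 12 := [0, 4, 3, 0, 1, 2].getD i 0

def σ (i : ℕ) : Equiv.Perm (Fin 12) := [1, ps * pu * pu, px₁, px₂, px₃].getD i 1

def τ (i : ℕ) : ℕ := [0xba9876543210, 0x867b9a534210, 0x98ba67540213, 0x876ba9543201, 0x687a9b543120].getD i 0xba9876543210

theorem hσ (i : ℕ) (x : Fin 12) : σ i x = D (τ i) x := by
  rcases i with _ | _ | _ | _ | _ | i
  · revert x; decide +kernel
  · have e : σ 1 = gen 0 * gen 2 * gen 2 := rfl
    simp only [zero_add, e, Equiv.Perm.mul_apply, hgen]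
    revert x; decide +kernel
  · revert x; decide +kernel
  · revert x; decide +kernel
  · revert x; decide +kernel
  · have e : σ (i + 1 + 1 + 1 + 1 + 1) = 1 := rfl
    have e' : τ (i + 1 + 1 + 1 + 1 + 1) = 0xba9876543210 := rfl
    rw [e, e']
    revert x; decide +kernel

theorem c5 : ∀ k ∈ [2, 3, 4], ∀ b : Fin 12, 3 < b → (∀ i, i = D (τ k) (D (τ k) i)) ∧
    D (τ k) (F 3 b (D (τ k) 3)) = 3 ∧ 3 < D (τ k) (F 3 b (D (τ k) 4)) ∧
    ∀ i, D (τ k) (F 3 b (D (τ k) i)) = F 3 (D (τ k) (F 3 b (D (τ k) 4))) i := by decide +kernel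

theorem hbot : (⊥ : Subgroup (Equiv.Perm (Fin 12))) =
    G ⊓ MulAction.stabilizer (Equiv.Perm (Fin 12)) (q 1) ⊓
      MulAction.stabilizer (Equiv.Perm (Fin 12)) (q 2) := by
  refine le_antisymm bot_le fun f hf => Equiv.ext fun i => ?_
  have h1 : f 4 = 4 := hf.1.2
  have h2 : f 3 = 3 := hf.2
  rw [(hF f hf.1.1).2.2 i, h1, h2]
  revert i
  decide +kernel

theorem witt : MulAction.IsMultiplyPretransitive ↥(Subgroup.closure ((G : Set (Equiv.Perm (Fin 12))) ∪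
    {x | ∃ i : ℕ, 2 ≤ i ∧ i + 1 ≤ 5 ∧ x = σ i})) (Fin 12) 5 ∧
    Subgroup.closure ((G : Set (Equiv.Perm (Fin 12))) ∪ {x | ∃ i : ℕ, 2 ≤ i ∧ i + 1 ≤ 5 ∧ x = σ i}) ⊓
      fixingSubgroup (Equiv.Perm (Fin 12)) {x | ∃ i : ℕ, 1 ≤ i ∧ i ≤ 5 ∧ x = q i} = ⊥ := by
  refine Cfsg.Agent.S0709.result 5 (by norm_num) q ?_ G ?_ ?_ σ
    (mul_mem (mul_mem mem5.1 mem5.2.2.1) mem5.2.2.1) (by simp only [hσ]; decide +kernel) ?_ ⊥ hbot ?_ ?_ ?_ ?_
  · intro i j h1 h2 h3 h4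
    interval_cases i <;> interval_cases j <;> decide
  · intro g hg i h1 h2
    interval_cases i
    exacts [(hfix g hg).1, (hfix g hg).2.1, (hfix g hg).2.2]
  · intro a b c d h
    have h3 := h 3 le_rfl (by norm_num)
    have h4 := h 4 (by norm_num) (by norm_num)
    have h5 := h 5 (by norm_num) le_rfl
    have k : ∀ a : Fin 12, a ≠ q 3 → a ≠ q 4 → a ≠ q 5 → 3 ≤ a := by decide
    exact two a b c d (k _ h3.1 h4.1 h5.1) (k _ h3.2.1 h4.2.1 h5.2.1) (k _ h3.2.2.1 h4.2.2.1 h5.2.2.1)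
      (k _ h3.2.2.2 h4.2.2.2 h5.2.2.2)
  · intro i h1 h2
    have h3 : i ≤ 4 := by omega
    simp only [hσ]
    refine ⟨?_, ?_, fun j h4 h5 => ?_⟩
    · interval_cases i <;> decide +kernel
    · interval_cases i <;> decide +kernel
    · interval_cases i <;> interval_cases j <;> decide +kernel
  · intro i h1 h2
    have h3 : i ≤ 4 := by omega
    simp only [Subgroup.mem_bot, Equiv.ext_iff, pow_succ, pow_zero, Equiv.Perm.mul_apply,
      Equiv.Perm.one_apply, hσ]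
    interval_cases i <;> decide +kernel
  · intro i h1 h2
    have h3 : i ≤ 3 := by omega
    simp only [Subgroup.mem_bot, Equiv.ext_iff, pow_succ, pow_zero, Equiv.Perm.mul_apply,
      Equiv.Perm.one_apply, hσ]
    interval_cases i <;> decide +kernel
  · intro i j h1 h2 h3
    have h4 : i ≤ 2 := by omega
    have h5 : j ≤ 4 := by omega
    simp only [Subgroup.mem_bot, Equiv.ext_iff, pow_succ, pow_zero, Equiv.Perm.mul_apply,
      Equiv.Perm.one_apply, hσ]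
    interval_cases i <;> interval_cases j <;> decide +kernel
  · intro i h1 h2 g hg
    have h3 : i ≤ 4 := by omega
    have h4 : g 3 = 3 := hg.2
    obtain ⟨-, e2, e3⟩ := hF g hg.1
    rw [h4] at e3
    obtain ⟨k1, k2, k3, k4⟩ := c5 i (by interval_cases i <;> simp) (g 4)
      (lt_of_le_of_ne e2 (h4 ▸ g.injective.ne (by decide)))
    have k5 : ∀ x, (σ i * g * (σ i)⁻¹) x = D (τ i) (F 3 (g 4) (D (τ i) x)) := fun x => by
      rw [Equiv.Perm.mul_apply, Equiv.Perm.mul_apply, hσ, e3,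
        show (σ i)⁻¹ x = D (τ i) x by rw [Equiv.Perm.inv_eq_iff_eq, hσ]; exact k1 x]
    obtain ⟨z, hz, z3, z4⟩ := two0 3 _ le_rfl k3.le k3.ne
    rw [show σ i * g * (σ i)⁻¹ = z from Equiv.ext fun x => by
      rw [k5, k4, (hF z hz).2.2 x, z3, z4]]
    exact ⟨hz, z3⟩

theorem clo_eq : Subgroup.closure ((G : Set (Equiv.Perm (Fin 12))) ∪
    {x | ∃ i : ℕ, 2 ≤ i ∧ i + 1 ≤ 5 ∧ x = σ i}) =
    Subgroup.closure {ps, pt, pu, pv, pw, px₁, px₂, px₃} := by
  refine le_antisymm ((Subgroup.closure_le _).2 ?_) ((Subgroup.closure_le _).2 ?_)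
  · rintro x (hx | ⟨i, h1, h2, rfl⟩)
    · refine Subgroup.closure_mono ?_ hx
      rintro x (rfl | rfl | rfl | rfl | rfl) <;> simp
    · have h3 : i ≤ 4 := by omega
      interval_cases i <;> exact Subgroup.subset_closure (by simp [σ])
  · obtain ⟨h1, h2, h3, h4, h5⟩ := mem5
    rintro x (rfl | rfl | rfl | rfl | rfl | rfl | rfl | rfl) <;> apply Subgroup.subset_closure
    exacts [Or.inl h1, Or.inl h2, Or.inl h3, Or.inl h4, Or.inl h5, Or.inr ⟨2, by simp, by simp, rfl⟩,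
      Or.inr ⟨3, by simp, by simp, rfl⟩, Or.inr ⟨4, by simp, by simp, rfl⟩]

theorem main (M₁₂ M₁₁ : Subgroup (Equiv.Perm (Fin 12)))
    (hM₁₂ : M₁₂ = Subgroup.closure {ps, pt, pu, pv, pw, px₁, px₂, px₃})
    (hM₁₁ : M₁₁ = Subgroup.closure {ps, pt, pu, pv, pw, px₁, px₂}) :
    MulAction.IsMultiplyPretransitive M₁₂ (Fin 12) 5 ∧
    (∀ y : Fin 5 ↪ Fin 12, MulAction.stabilizer M₁₂ y = ⊥) ∧
    Nat.card M₁₂ = 95040 ∧ Nat.card M₁₁ = 7920 ∧
    M₁₁ = M₁₂ ⊓ MulAction.stabilizer (Equiv.Perm (Fin 12)) (2 : Fin 12) := by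
  obtain ⟨h5, hb⟩ := witt
  rw [clo_eq, ← hM₁₂] at h5 hb
  have h1 : ∀ f ∈ M₁₂, f 4 = 4 → f 3 = 3 → f 0 = 0 → f 1 = 1 → f 2 = 2 → f = 1 := by
    intro f hf e1 e2 e3 e4 e5
    refine hb.le ⟨hf, ?_⟩
    rintro ⟨_, i, i1, i2, rfl⟩
    interval_cases i
    exacts [e1, e2, e3, e4, e5]
  have hsh : ∀ y : Fin 5 ↪ Fin 12, MulAction.stabilizer M₁₂ y = ⊥ := by
    refine CA.PermBasic.sharp_iff_fun.2 fun f hf g hg => ?_
    obtain ⟨m, hm⟩ := CA.PermBasic.mpt_iff_fun.1 h5 f ![4, 3, 0, 1, 2] hf (by decide)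
    have k : ∀ i, (m * g * m⁻¹) • ![4, 3, 0, 1, 2] i = (![4, 3, 0, 1, 2] i : Fin 12) := fun i => by
      rw [← hm, mul_smul, inv_smul_smul, mul_smul, hg]
    have := h1 _ (m * g * m⁻¹).2 (k 0) (k 1) (k 2) (k 3) (k 4)
    exact conj_eq_one_iff.1 (Subtype.ext this)
  have hc : Nat.card M₁₂ = 95040 := by
    rw [CA.Sharp4.card_eq_descFactorial h5 hsh (by simp)]
    simp [Nat.descFactorial]
  have hG : G ≤ M₁₁ := by
    rw [hM₁₁]
    refine Subgroup.closure_mono ?_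
    rintro x (rfl | rfl | rfl | rfl | rfl) <;> simp
  have hx1 : px₁ ∈ M₁₁ := hM₁₁ ▸ Subgroup.subset_closure (by simp)
  have hx2 : px₂ ∈ M₁₁ := hM₁₁ ▸ Subgroup.subset_closure (by simp)
  have hle : M₁₁ ≤ M₁₂ ⊓ MulAction.stabilizer (Equiv.Perm (Fin 12)) (2 : Fin 12) := by
    rw [hM₁₁, hM₁₂]
    refine le_inf (Subgroup.closure_mono ?_) ((Subgroup.closure_le _).2 ?_)
    · rintro x (rfl | rfl | rfl | rfl | rfl | rfl | rfl) <;> simp
    · rintro x (rfl | rfl | rfl | rfl | rfl | rfl | rfl) <;>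
        exact MulAction.mem_stabilizer_iff.2 (by decide +kernel)
  have t0 : ∀ a : Fin 12, a ≠ 1 → a ≠ 2 → ∃ m ∈ M₁₁, m a = 0 ∧ m 1 = 1 := by
    intro a a1 a2
    by_cases a0 : a = 0
    · exact ⟨1, one_mem _, a0, rfl⟩
    have ha : 3 ≤ a := by revert a; decide
    obtain ⟨b, hb, hb'⟩ : ∃ b : Fin 12, 3 ≤ b ∧ a ≠ b := by revert a; decide
    obtain ⟨g, hg, e, -⟩ := two a b 3 4 ha hb (by decide) (by decide) hb'
      (by decide)
    refine ⟨px₁ * g, mul_mem hx1 (hG hg), ?_, ?_⟩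
    · rw [Equiv.Perm.mul_apply, e]; decide +kernel
    · rw [Equiv.Perm.mul_apply, (hfix g hg).2.1]; decide +kernel
  have t1 : ∀ a : Fin 12, a ≠ 2 → ∃ m ∈ M₁₁, m a = 1 := by
    intro a a2
    by_cases a1 : a = 1
    · exact ⟨1, one_mem _, a1⟩
    obtain ⟨m, hm, e, -⟩ := t0 a a1 a2
    exact ⟨px₂ * m, mul_mem hx2 hm, by rw [Equiv.Perm.mul_apply, e]; decide +kernel⟩
  have heq : M₁₁ = M₁₂ ⊓ MulAction.stabilizer (Equiv.Perm (Fin 12)) (2 : Fin 12) := by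
    refine le_antisymm hle fun f hf => ?_
    have f2 : f 2 = 2 := hf.2
    obtain ⟨m, hm, e⟩ := t1 (f 1) (f2 ▸ f.injective.ne (by decide))
    have hf' := mul_mem (hle hm) hf
    rw [← Subgroup.mul_mem_cancel_left _ hm]
    rw [← Equiv.Perm.mul_apply] at e
    generalize m * f = f at e hf'
    have f2 : f 2 = 2 := hf'.2
    obtain ⟨m, hm, e0, e1⟩ := t0 (f 0) (e ▸ f.injective.ne (by decide))
      (f2 ▸ f.injective.ne (by decide))
    have hf'' := mul_mem (hle hm) hf'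
    rw [← Subgroup.mul_mem_cancel_left _ hm]
    rw [← e, ← Equiv.Perm.mul_apply, e] at e1
    rw [← Equiv.Perm.mul_apply] at e0
    generalize m * f = f at e0 e1 hf''
    have f2 : f 2 = 2 := hf''.2
    have k : ∀ a : Fin 12, 3 ≤ a → 3 ≤ f a := fun a ha => by
      have k0 : f a ≠ 0 := e0 ▸ f.injective.ne (by rintro rfl; simp at ha)
      have k1 : f a ≠ 1 := e1 ▸ f.injective.ne (by rintro rfl; simp at ha)
      have k2 : f a ≠ 2 := f2 ▸ f.injective.ne (by rintro rfl; simp at ha)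
      revert k0 k1 k2
      generalize f a = b
      revert b
      decide
    obtain ⟨g, hg, g3, g4⟩ := two (f 3) (f 4) 3 4 (k 3 le_rfl) (k 4 (by decide)) le_rfl (by decide)
      (f.injective.ne (by decide)) (by decide)
    rw [← Subgroup.mul_mem_cancel_left _ (hG hg), h1 _ (mul_mem (hle (hG hg)) hf'').1 g4 g3
      (by rw [Equiv.Perm.mul_apply, e0, (hfix g hg).1])
      (by rw [Equiv.Perm.mul_apply, e1, (hfix g hg).2.1])
      (by rw [Equiv.Perm.mul_apply, f2, (hfix g hg).2.2])]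
    exact one_mem _
  refine ⟨h5, hsh, hc, ?_, heq⟩
  have : MulAction.IsPretransitive M₁₂ (Fin 12) :=
    MulAction.is_one_pretransitive_iff.1 (CA.PermBasic.mpt_of_le h5 (by norm_num) (by simp))
  have h2 := CA.PermBasic.card_eq_card_mul_card_stabilizer (G := M₁₂) (2 : Fin 12)
  have h3 : Nat.card (MulAction.stabilizer M₁₂ (2 : Fin 12)) = Nat.card M₁₁ := by
    rw [← Nat.card_congr (Subgroup.subgroupOfEquivOfLe (hle.trans inf_le_left)).toEquiv, heq,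
      Subgroup.inf_subgroupOf_left]
    rfl
  rw [hc, h3, Nat.card_eq_fintype_card (α := Fin 12), Fintype.card_fin] at h2
  omega

/-- An explicit construction of the Mathieu groups of degrees 11 and 12. On the points 0, …, 11 let s = (3 4 5)(6 7 8)(9 10 11), t = (3 6 9)(4 7 10)(5 8 11), u = (4 6 5 9)(7 8 11 10), v = (4 7 5 11)(6 10 9 8), w = (4 10 5 8)(6 11 9 7), x₁ = (0 3)(6 7)(8 10)(9 11), x₂ = (0 1)(6 9)(7 10)(8 11), x₃ = (1 2)(6 11)(7 9)(8 10) (each written as a product of transpositions). Then the group M₁₂ generated by all eight permutations is sharply 5-transitive on the 12 points and has order 95040, and the group M₁₁ generated by the first seven has order 7920 and is the stabilizer of the point 2 in M₁₂. -/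
theorem result
    (s t u v w x₁ x₂ x₃ : Equiv.Perm (Fin 12))
    (hs : s = Equiv.swap (3 : Fin 12) 5 * Equiv.swap (3 : Fin 12) 4 * Equiv.swap (6 : Fin 12) 8 * Equiv.swap (6 : Fin 12) 7 * Equiv.swap (9 : Fin 12) 11 * Equiv.swap (9 : Fin 12) 10) (ht : t = Equiv.swap (3 : Fin 12) 9 * Equiv.swap (3 : Fin 12) 6 * Equiv.swap (4 : Fin 12) 10 * Equiv.swap (4 : Fin 12) 7 * Equiv.swap (5 : Fin 12) 11 * Equiv.swap (5 : Fin 12) 8)
    (hu : u = Equiv.swap (4 : Fin 12) 9 * Equiv.swap (4 : Fin 12) 5 * Equiv.swap (4 : Fin 12) 6 * Equiv.swap (7 : Fin 12) 10 * Equiv.swap (7 : Fin 12) 11 * Equiv.swap (7 : Fin 12) 8) (hv : v = Equiv.swap (4 : Fin 12) 11 * Equiv.swap (4 : Fin 12) 5 * Equiv.swap (4 : Fin 12) 7 * Equiv.swap (6 : Fin 12) 8 * Equiv.swap (6 : Fin 12) 9 * Equiv.swap (6 : Fin 12) 10) (hw : w = Equiv.swap (4 : Fin 12) 8 * Equiv.swap (4 : Fin 12) 5 * Equiv.swap (4 : Fin 12) 10 * Equiv.swap (6 : Fin 12) 7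 * Equiv.swap (6 : Fin 12) 9 * Equiv.swap (6 : Fin 12) 11)
    (hx₁ : x₁ = Equiv.swap (0 : Fin 12) 3 * Equiv.swap (6 : Fin 12) 7 * Equiv.swap (8 : Fin 12) 10 * Equiv.swap (9 : Fin 12) 11) (hx₂ : x₂ = Equiv.swap (0 : Fin 12) 1 * Equiv.swap (6 : Fin 12) 9 * Equiv.swap (7 : Fin 12) 10 * Equiv.swap (8 : Fin 12) 11)
    (hx₃ : x₃ = Equiv.swap (1 : Fin 12) 2 * Equiv.swap (6 : Fin 12) 11 * Equiv.swap (7 : Fin 12) 9 * Equiv.swap (8 : Fin 12) 10)
    (M₁₂ M₁₁ : Subgroup (Equiv.Perm (Fin 12))) (hM₁₂ : M₁₂ = Subgroup.closure {s, t, u, v, w, x₁, x₂, x₃})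
    (hM₁₁ : M₁₁ = Subgroup.closure {s, t, u, v, w, x₁, x₂}) :
    MulAction.IsMultiplyPretransitive M₁₂ (Fin 12) 5 ∧ (∀ y : Fin 5 ↪ Fin 12, MulAction.stabilizer M₁₂ y = ⊥) ∧
    Nat.card M₁₂ = 95040 ∧ Nat.card M₁₁ = 7920 ∧
    M₁₁ = M₁₂ ⊓ MulAction.stabilizer (Equiv.Perm (Fin 12)) (2 : Fin 12) := by
  subst hs ht hu hv hw hx₁ hx₂ hx₃
  exact main M₁₂ M₁₁ hM₁₂ hM₁₁

end Cfsg.Agent.S3362
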