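import Cfsg.Statements.S3438
import Cfsg.Agent.Lib.Grp.H8Aff
import Cfsg.Agent.S2366

set_option autoImplicit false
open Cfsg

namespace Cfsg.Agent.S3438

open Quaternion CA.H8Aff

abbrev K := QuadraticAlgebra (ZMod 7) 6 0
abbrev R := ℍ[K, ⟨6, 0⟩, ⟨6, 0⟩, ⟨0, 1⟩]
def a : Rˣ := ⟨⟨⟨0, 0⟩, ⟨0, 0⟩, ⟨1, 0⟩, ⟨0, 0⟩⟩, ⟨⟨0, 0⟩, ⟨0, 0⟩, ⟨0, 6⟩, ⟨0, 0⟩⟩, by decide +kernel, by decide +kernel⟩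
def b : Rˣ := ⟨⟨⟨0, 0⟩, ⟨0, 1⟩, ⟨0, 0⟩, ⟨0, 0⟩⟩, ⟨⟨0, 1⟩, ⟨0, 1⟩, ⟨0, 0⟩, ⟨0, 0⟩⟩, by decide +kernel, by decide +kernel⟩
def L : List R := [⟨⟨1, 0⟩, ⟨0, 0⟩, ⟨0, 0⟩, ⟨0, 0⟩⟩, ⟨⟨0, 0⟩, ⟨0, 0⟩, ⟨1, 0⟩, ⟨0, 0⟩⟩, ⟨⟨0, 0⟩, ⟨0, 1⟩, ⟨0, 0⟩, ⟨0, 0⟩⟩, ⟨⟨0, 1⟩, ⟨0, 0⟩, ⟨0, 0⟩, ⟨0, 0⟩⟩, ⟨⟨0, 0⟩, ⟨0, 0⟩, ⟨0, 0⟩, ⟨0, 1⟩⟩, ⟨⟨0, 0⟩, ⟨0, 0⟩, ⟨0, 6⟩, ⟨0, 6⟩⟩, ⟨⟨1, 0⟩, ⟨1, 0⟩, ⟨0, 0⟩, ⟨0, 0⟩⟩, ⟨⟨0, 0⟩, ⟨0, 0⟩, ⟨0, 1⟩, ⟨0, 0⟩⟩, ⟨⟨0, 0⟩, ⟨6, 0⟩, ⟨0, 0⟩, ⟨0, 0⟩⟩, ⟨⟨0, 0⟩, ⟨0, 0⟩, ⟨1, 0⟩, ⟨1, 0⟩⟩, ⟨⟨0, 0⟩, ⟨0, 0⟩, ⟨6, 0⟩, ⟨0, 0⟩⟩, ⟨⟨0, 0⟩, ⟨0, 0⟩, ⟨0, 0⟩, ⟨6, 0⟩⟩, ⟨⟨0, 6⟩, ⟨0, 0⟩, ⟨0, 0⟩, ⟨0, 0⟩⟩, ⟨⟨6, 0⟩, ⟨0, 0⟩, ⟨0, 0⟩, ⟨0, 0⟩⟩, ⟨⟨0, 1⟩, ⟨0, 1⟩,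 ⟨0, 0⟩, ⟨0, 0⟩⟩, ⟨⟨0, 0⟩, ⟨0, 6⟩, ⟨0, 0⟩, ⟨0, 0⟩⟩, ⟨⟨0, 0⟩, ⟨0, 0⟩, ⟨0, 6⟩, ⟨0, 0⟩⟩, ⟨⟨0, 0⟩, ⟨0, 0⟩, ⟨0, 0⟩, ⟨0, 6⟩⟩, ⟨⟨0, 0⟩, ⟨0, 0⟩, ⟨0, 1⟩, ⟨0, 1⟩⟩, ⟨⟨0, 0⟩, ⟨1, 0⟩, ⟨0, 0⟩, ⟨0, 0⟩⟩, ⟨⟨6, 0⟩, ⟨6, 0⟩, ⟨0, 0⟩, ⟨0, 0⟩⟩, ⟨⟨0, 0⟩, ⟨0, 0⟩, ⟨0, 0⟩, ⟨1, 0⟩⟩, ⟨⟨0, 0⟩, ⟨0, 0⟩, ⟨6, 0⟩, ⟨6, 0⟩⟩, ⟨⟨0, 6⟩, ⟨0, 6⟩, ⟨0, 0⟩, ⟨0, 0⟩⟩]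
instance : Fact (1 < 7) := ⟨by norm_num⟩

theorem ex : ∃ (H : Type) (_ : Group H) (_ : Fintype H), Group.IsSolvable H ∧
    Set.range (orderOf : H → ℕ) = {d | ∃ n ∈ [7, 8, 12], d ∣ n} :=
  frob (by norm_num) (by decide +kernel) a b L (by decide +kernel) (by decide +kernel)
    ((orderOf_eq_iff (by norm_num)).2 (by decide +kernel))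
    ((orderOf_eq_iff (by norm_num)).2 (by decide +kernel)) (by norm_num) (by norm_num) (by decide +kernel)


/-- There is a finite solvable group with exactly the same set of element orders as the simple group PSU(3,3) (realised over the field with 9 elements). -/
theorem result {F : Type*} [Field F] [Fintype F] (hF : Fintype.card F = 9) :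
    ∃ (H : Type) (_ : Group H) (_ : Fintype H), Group.IsSolvable H ∧ Set.range (orderOf : H → ℕ) = Set.range (orderOf : Cfsg.PSU 3 F 3 → ℕ) := by
  have : Fact (Nat.Prime 3) := ⟨by norm_num⟩
  have : CharP F 3 := charP_of_card_eq_prime_pow (f := 2) hF
  obtain ⟨H, _, _, h, e⟩ := ex
  refine ⟨H, inferInstance, inferInstance, h, ?_⟩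
  rw [e, S2366.result 3 (by norm_num) 3 hF]
  ext d
  norm_num
  exact ⟨fun h => by tauto, fun h => by
    rcases h with ((h | h) | h) | h
    exacts [.inr (.inl (h.trans (by norm_num))), .inr (.inr h), .inr (.inl h), .inl h]⟩

end Cfsg.Agent.S3438
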