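import Cfsg.Statements.S3486
import Cfsg.Agent.Lib.Spor.H28J2s
import Cfsg.Agent.Lib.Spor.H28Mat
-- import your own Cfsg.Agent.* helpers here

set_option autoImplicit false
open Cfsg

namespace Cfsg.Agent.S3486

open CA.NatBits CA.CGroup CA.CGParts CA.CGCert CA.H28CG CA.H28Spec CA.H28Mat

instance : Fact (Nat.Prime 2) := ⟨by norm_num⟩
abbrev V := Fin 6 → ZMod 2
noncomputable def rd : ℕ → ℕ := Nat.land 0x9249
theorem hr : RdOK 2 6 3 rd := rd2_ok (by norm_num) (by decide +kernel)
def e0 : ℕ := nat_lit 0x200001000008000040000200001200001000008000040000200001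
def F : Fr V 2 6 3 := std 2 6 3 (by norm_num)
noncomputable def G : CG (GLp 2 6) := F.cg hr _ 18 108 e0 rfl rfl (by decide +kernel)
def l : List ℕ := [0x201000041001001040009009209208000240008200200241241200, 0x240201040049248200040001000240201040049248200040001, 0x200009249040000040000200001200000200249240040000200001, 0x40008000008009249000200001040008000008009249000200001, 0x249248000008000040000200001040009249008000040000200001]
theorem sg : Sg G l (G.gen l) 20160 :=
  Fr.sg_ss [(0x1, [0x201000041001001040009009209208000240008200200241241200]), (0x8, [0x240201040049248200040001000240201040049248200040001]), (0x208, [0x200009249040000040000200001200000200249240040000200001]), (0x40, [0x40008000008009249000200001040008000008009249000200001]), (0x1040, [0x249248000008000040000200001040009249008000040000200001])] rfl (ok_of_valid hr (by decide +kernel)) (by decide +kernel)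
theorem kil : ∀ g : G.gen l, ∃ m ∈ [7, 8, 10, 12, 15], Kil V g m :=
  Fr.kil_all sg (Fr.base_spec sg [(0x1, [[4], [1, 1, 7, 2, 8, 1]]), (0x8, [[2, 0, 2, 2, 1, 3], [0]]), (0x208, [[1, 2, 0], [2, 0, 3]]), (0x40, [[1, 2]]), (0x1040, [])] (by decide +kernel)) [(0x1, [[4], [1, 1, 7, 2, 8, 1]]), (0x8, [[2, 0, 2, 2, 1, 3], [0]])]
    (.cons [] [[13, 11, 12, 10, 13, 16], [14, 16, 14, 16, 14]] (.cons [] [[16, 14, 16], [14, 16]] (.cons [] [] .nil (.cons [2] [] .nil (.cons [2, 2] [] .nil (.cons [2, 1, 2, 0, 3] [] .nil .nil)))) (.cons [0] [[17, 14, 16, 14, 16], [14, 17, 14, 16, 14]] (.cons [] [] .nil (.cons [3] [] .nil (.cons [2, 2] [] .nil (.cons [0, 3] [] .nil .nil)))) (.cons [0, 0, 0] [[14, 16, 14], [16, 14, 17, 14, 17]] (.cons [] [] .nil (.cons [2] [] .nil (.cons [3] [] .nil (.cons [2, 2] [] .nil (.cons [1, 2, 0, 3] [] .nil (.cons [3, 1, 2, 0, 3] [] .nil .nil)))))) .nil))) .nil) 15 (by decide +kernel)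

/-- The Hall–Janko sporadic group J₂ is not determined by its set of element orders, not even up to finitely many groups: for every bound N there is a finite group of order greater than N with exactly the same set of element orders as J₂. -/
theorem result (N : ℕ) : ∃ (H : Type) (_ : Group H) (_ : Fintype H), N < Fintype.card H ∧ Set.range (orderOf : H → ℕ) = Set.range (orderOf : Cfsg.Spor.J2 → ℕ) := by
  rw [CA.H28Ico.spec_J2, ← spec_aff (by decide) kil (Fr.ordA_spec (by norm_num) sg.in (ws := [(7, 7, 0, [1]), (8, 4, 1, [6, 2]), (10, 5, 0, [4, 6]), (12, 6, 1, [3, 5]), (15, 15, 0, [0, 2])]) (by decide +kernel))]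
  exact unb_aff N

end Cfsg.Agent.S3486
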