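import Cfsg.Statements.S3493
import Cfsg.Agent.Lib.Perm.H2Ons
import Cfsg.Agent.S0205

set_option autoImplicit false
open Cfsg

namespace Cfsg.Agent.S3493

open Subgroup MulAction CA.BG CA.H2Ons CA.PermBasic CA.PermMulti in

/-- An extremely primitive permutation group is of affine type or almost simple. Let a finite group G act faithfully and primitively on a finite set Ω with at least two points, in such a way that every point stabilizer acts primitively on each of its own orbits in Ω (an orbit of size one counts as primitive). Then either G has a non-trivial abelian normal subgroup whose elements other than the identity fix no point (affine type), or G has a non-abelian simple normal subgroup with trivial centralizer (almost simple). -/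
theorem result {G : Type*} [Group G] [Finite G] {Ω : Type*} [Fintype Ω] [MulAction G Ω] [FaithfulSMul G Ω] (hΩ : 2 ≤ Fintype.card Ω) (hprim : MulAction.IsPreprimitive G Ω) (hep : ∀ (α : Ω) (ω : Ω), MulAction.IsPreprimitive (MulAction.stabilizer G α) (MulAction.orbit (MulAction.stabilizer G α) ω)) :
    (∃ N : Subgroup G, N.Normal ∧ N ≠ ⊥ ∧ IsMulCommutative N ∧ ∀ ω : Ω, MulAction.stabilizer N ω = ⊥) ∨ (∃ T : Subgroup G, T.Normal ∧ IsSimpleGroup T ∧ ¬ IsMulCommutative T ∧ Subgroup.centralizer (T : Set G) = ⊥) := by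
  haveI := Fintype.one_lt_card_iff_nontrivial.1 hΩ
  rcases cases (G := G) (Ω := Ω) with ⟨N, h1, h0, h2, -, -, h5⟩ | h | ⟨N, T, h, ht, hc⟩
  · exact .inl ⟨N, h1, h0, h2, h5⟩
  · exact .inr h
  exfalso
  obtain ⟨α⟩ : Nonempty Ω := inferInstance
  haveI := h.nrm
  set H := stabilizer G α with hH
  have mx : ∀ (ω : Ω) (K : Subgroup G), H ⊓ stabilizer G ω ≤ K → ∀ y ∈ H, y ∈ K → y • ω ≠ ω → H ≤ K :=
    fun ω K h1 y h2 h3 h4 => subgroupOf_eq_top.1 (eq_top_of_stabilizer_le (hep α ω) (a := ⟨ω, mem_orbit_self ω⟩)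
      (fun x hx => h1 ⟨x.2, congrArg Subtype.val hx⟩) (g := ⟨y, h2⟩) h3 fun e => h4 (congrArg Subtype.val e))
  have mf : ∀ a t : G, a • t • α = t • α ↔ t⁻¹ * a * t ∈ H := fun a t => by
    rw [hH, mem_stabilizer_iff, mul_smul, mul_smul, inv_smul_eq_iff]
  have hs : ∀ t ∈ T, ∃ u ∈ 𝓒(T), (t * u) • α = α := by
    refine hc.elim (fun hC t _ => star_of_trans hC α t) fun ⟨g, hg⟩ => ?_
    obtain ⟨a, ha, hg⟩ : ∃ a ∈ H, cj a T ≤ 𝓒(T) := by
      obtain ⟨n, hn, a, ha, rfl⟩ := exists_mul_stabilizer N ht α g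
      rw [cj_mul, cj_le_iff, cj_of_mem_norm (inv_mem (norm_cent h.norm hn))] at hg
      exact ⟨a, ha, hg⟩
    have na : ∀ a, cj a T ≤ 𝓒(T) → ∀ t ∈ T, a * t * a⁻¹ = t → t = 1 := fun a ha t ht e =>
      h.cen ht (ha (mem_cj'.2 ⟨t, ht, e⟩))
    by_cases hD : H ⊓ N = ⊥
    · exfalso
      obtain ⟨t, ht, t1⟩ := h.exists_ne
      have cm : ∀ b ∈ H, b • t • α = t • α → b * t * b⁻¹ = t := fun b hb e => by
        have : t⁻¹ * (b * t * b⁻¹) ∈ H ⊓ N := mem_inf.2 ⟨by simpa [mul_assoc] using mul_mem ((mf b t).1 e) (inv_mem hb),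
          mul_mem (inv_mem (h.le ht)) (Normal.conj_mem inferInstance _ (h.le ht) b)⟩
        exact (inv_mul_eq_one.1 (mem_bot.1 (hD ▸ this))).symm
      have h1 : ∀ b ∈ H, b ∈ 𝓝(T) → b * t * b⁻¹ = t := fun b hb hn => cm b hb (by
        by_contra e
        have := mx (t • α) 𝓝(T) (fun c hc => (h.alt c).resolve_right fun e => t1 (na c e t ht (cm c hc.1 hc.2)))
          b hb hn e ha
        rw [cj_of_mem_norm this] at hg
        exact t1 (h.cen ht (hg ht)))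
      have h2 : ∀ b ∈ H, t * (b * t * b⁻¹) = b * t * b⁻¹ * t := fun b hb => (h.alt b).elim
        (fun hn => by rw [h1 b hb hn]) fun e => mem_cent.1 (e (mem_cj'.2 ⟨t, ht, rfl⟩)) t ht
      have h3 := eq_top_of_stabilizer_le hprim (a := α) (H := normalizer {x | ∃ b ∈ H, x = b * t * b⁻¹})
        (fun c hc => mem_normalizer_fintype (by
          rintro _ ⟨b, hb, rfl⟩; exact ⟨c * b, mul_mem hc hb, by group⟩)) (g := t)
        (mem_normalizer_fintype (by
          rintro _ ⟨b, hb, rfl⟩; exact ⟨b, hb, by rw [h2 b hb, mul_inv_cancel_right]⟩))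
        fun e => t1 (mem_bot.1 (hD ▸ (⟨e, h.le ht⟩ : t ∈ H ⊓ N)))
      obtain ⟨s, -, hs⟩ := h.conj ht t1
      obtain ⟨b, hb, e⟩ := (mem_set_normalizer_iff.1 (h3.ge (mem_top s)) t).1 ⟨1, one_mem _, by simp⟩
      exact hs (e ▸ h2 b hb)
    intro t ht
    by_cases e : t ∈ H
    · exact ⟨1, one_mem _, by rwa [mul_one]⟩
    have nD : H ≤ 𝓝(H ⊓ N) := norm_inf (le_norm_self _) (by rw [normalizer_eq_top]; exact le_top)
    obtain ⟨d, hd, hd'⟩ : ∃ d ∈ H ⊓ N, d • t⁻¹ • α ≠ t⁻¹ • α := by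
      by_contra! h1
      haveI := normalizer_eq_top_iff.1 (eq_top_of_stabilizer_le hprim nD (g := t) (mem_norm_of_cj_le (by
        rintro _ ⟨d, hd, rfl⟩
        exact ⟨by simpa using (mf d t⁻¹).1 (h1 d hd), Normal.conj_mem inferInstance _ hd.2 t⟩)) e)
      exact hD (normal_le_stabilizer_eq_bot _ α inf_le_left)
    obtain ⟨n, hn, b, hb, rfl⟩ := (mem_sup_norm' (inf_le_left.trans nD)).1
      (mx (t⁻¹ • α) _ le_sup_right d hd.1 (mem_sup_left hd) hd' ha)
    rw [cj_mul, cj_le_iff, cj_of_mem_norm (inv_mem (norm_cent h.norm hn.2))] at hg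
    exact ⟨_, hg (mem_cj'.2 ⟨t⁻¹, inv_mem ht, rfl⟩), show _ ∈ H by
      simpa [mul_assoc] using mul_mem ((mf b t⁻¹).1 hb.2) (inv_mem hb.1)⟩
  have sr : ∀ t ∈ T, t ∈ H → t = 1 := fun t h1 h2 => h.semireg ht hs h1 h2
  have iv : ∀ t ∈ T, ∀ a ∈ H, a • t • α = t • α → a • t⁻¹ • α = t⁻¹ • α := fun t h1 a ha e => by
    have h2 : t⁻¹ * (a * t * a⁻¹) ∈ H := by simpa [mul_assoc] using mul_mem ((mf a t).1 e) (inv_mem ha)
    have h3 : t * (a * t * a⁻¹) = a * t * a⁻¹ * t := (h.alt a).elim (fun hn => by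
      rw [← inv_mul_eq_one.1 (sr _ (mul_mem (inv_mem h1) (conj_mem_of_mem_norm hn h1)) h2)])
      fun e => mem_cent.1 (e (mem_cj'.2 ⟨t, h1, rfl⟩)) t h1
    rw [mf, show t⁻¹⁻¹ * a * t⁻¹ = t * (t * (a * t * a⁻¹))⁻¹ * t * a by group, h3]
    simpa [mul_assoc] using mul_mem (inv_mem h2) ha
  haveI := h.simple
  haveI := Fact.mk Nat.prime_two
  obtain ⟨a, ha⟩ := exists_prime_orderOf_dvd_card' (G := T) 2 (by
    by_contra e
    haveI := Cfsg.Agent.S0205.result (G := T) (Nat.odd_iff.2 (by omega))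
    exact h.nc ⟨⟨IsSimpleGroup.comm_iff_isSolvable.2 this⟩⟩)
  rw [← orderOf_coe] at ha
  have a2 : (a : G) * a = 1 := by rw [← pow_two, ← ha, pow_orderOf_eq_one]
  obtain ⟨s, hs1, hs2⟩ := h.conj a.2 (by intro e; simp [e] at ha)
  have b2 : s * a * s⁻¹ * (s * a * s⁻¹) = 1 := by rw [conj_mul, a2]; simp
  have bT : s * a * s⁻¹ ∈ T := mul_mem (mul_mem hs1 a.2) (inv_mem hs1)
  generalize s * a * s⁻¹ = b at *
  have tT := mul_mem a.2 bT
  have e1 : (a * b : G)⁻¹ = b * a := by rw [mul_inv_rev, inv_eq_of_mul_eq_one_left a2, inv_eq_of_mul_eq_one_left b2]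
  have e2 : a * (a * b) * (a : G)⁻¹ = (a * b)⁻¹ := by
    rw [e1, ← mul_assoc, a2, one_mul, inv_eq_of_mul_eq_one_left a2]
  rw [← e1] at hs2
  generalize (a * b : G) = t at *
  obtain ⟨u, hu, hd⟩ := hs a a.2
  have e3 : ∀ s ∈ T, ∀ u ∈ 𝓒(T), (s * u) • α = α → (s * u) • t • α = (s * t * s⁻¹) • α := fun s h1 u hu hd => by
    rw [← mul_smul, show s * u * t = s * t * s⁻¹ * (s * u) by rw [mul_assoc, ← mem_cent.1 hu t tT]; group,
      mul_smul, hd]
  have h1 := mx (t • α) 𝓝(H ⊓ stabilizer G (t • α)) (le_norm_self _) _ hd (mem_norm_of_cj_le fun x hx => by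
    have h2 := mem_cj.1 hx
    have h3 : x ∈ H := by simpa [mul_assoc] using mul_mem (mul_mem (show a * u ∈ H from hd) h2.1) (inv_mem hd)
    have h4 : _ • _ = _ := h2.2
    rw [mul_smul, mul_smul, inv_smul_eq_iff, e3 a a.2 u hu hd, e2] at h4
    exact ⟨h3, by simpa using iv _ (inv_mem tT) x h3 h4⟩) (fun e => by
      rw [e3 a a.2 u hu hd, e2, inv_smul_eq_iff, ← mul_smul] at e
      exact hs2 (eq_inv_of_mul_eq_one_left (sr _ (mul_mem tT tT) e.symm)))
  obtain ⟨s, s1, s2⟩ := h.conj tT (by rintro rfl; simp at hs2)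
  obtain ⟨v, hv, v1⟩ := hs t tT
  obtain ⟨w, hw, w1⟩ := hs s s1
  have h2 := conj_mem_of_mem_norm (h1 w1) (show t * v ∈ H ⊓ stabilizer G (t • α) from
    mem_inf.2 ⟨v1, by rw [mem_stabilizer_iff, e3 t tT v hv v1, mul_inv_cancel_right]⟩)
  have e4 : s * w * (t * v) * (s * w)⁻¹ = s * t * s⁻¹ * (w * v * w⁻¹) := by
    rw [mul_assoc s w, ← mul_assoc w, ← mem_cent.1 hw t tT, mul_assoc (s * t),
      mem_cent.1 (mul_mem (mul_mem hw hv) (inv_mem hw)) _ (inv_mem s1)]; group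
  rw [e4] at h2
  have h3 : _ • _ = _ := h2.2
  have t1 : s * t * s⁻¹ ∈ T := mul_mem (mul_mem s1 tT) (inv_mem s1)
  rw [e3 _ t1 _ (mul_mem (mul_mem hw hv) (inv_mem hw)) h2.1, ← inv_smul_eq_iff, ← mul_smul] at h3
  have h4 := sr _ (mul_mem (inv_mem tT) (mul_mem (mul_mem t1 tT) (inv_mem t1))) h3
  exact s2 (by rw [inv_mul_eq_one, eq_mul_inv_iff_mul_eq] at h4; exact h4)

end Cfsg.Agent.S3493
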