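import Cfsg.Statements.S3504

set_option autoImplicit false
open Cfsg

namespace Cfsg.Agent.S3504

open Equiv Equiv.Perm in
theorem ex_ct (n p : ℕ) (hp : p.Prime) (hpn : p ≤ n) :
    ∃ g : Perm (Fin n), orderOf g = p ∧ g.support.card = n / p * p := by
  obtain ⟨g, hg⟩ := (exists_with_cycleType_iff (Fin n) (m := Multiset.replicate (n / p) p)).2
    ⟨by simpa using Nat.div_mul_le_self n p, fun a ha => by
      rw [Multiset.eq_of_mem_replicate ha]; exact hp.two_le⟩
  refine ⟨g, ?_, by rw [← sum_cycleType, hg]; simp⟩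
  rw [← lcm_cycleType, hg]
  apply Nat.dvd_antisymm
  · exact Multiset.lcm_dvd.2 fun a ha => by rw [Multiset.eq_of_mem_replicate ha]
  · exact Multiset.dvd_lcm (Multiset.mem_replicate.2 ⟨(Nat.div_pos hpn hp.pos).ne', rfl⟩)

open Equiv Equiv.Perm in
theorem ct_of {n : ℕ} (g : Perm (Fin n)) (hp : (orderOf g).Prime) (hf : ∀ i, g i ≠ i) :
    orderOf g ∣ n ∧ g.cycleType = Multiset.replicate (n / orderOf g) (orderOf g) := by
  obtain ⟨m, hm⟩ := cycleType_prime_order hp
  have hs : g.support = Finset.univ := by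
    ext i; simp [hf i]
  have h1 : (m + 1) * orderOf g = n := by
    have := sum_cycleType g
    rw [hm, hs] at this
    rw [Multiset.sum_replicate, smul_eq_mul] at this
    simpa using this
  refine ⟨⟨m + 1, by rw [mul_comm]; exact h1.symm⟩, ?_⟩
  rw [hm]
  congr 1
  exact (Nat.div_eq_of_eq_mul_left hp.pos h1.symm).symm

/-- For n ≥ 5, the fixed-point-free permutations of prime order in the symmetric group of degree n form a single conjugacy class if and only if n is a prime power. -/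
theorem result (n : ℕ) (hn : 5 ≤ n) :
    Nat.card {c : ConjClasses (Equiv.Perm (Fin n)) // ∃ g : Equiv.Perm (Fin n), ConjClasses.mk g = c ∧ (orderOf g).Prime ∧ ∀ i : Fin n, g i ≠ i} = 1 ↔ IsPrimePow n := by
  classical
  have key : ∀ p : ℕ, p.Prime → p ∣ n → ∃ g : Equiv.Perm (Fin n), orderOf g = p ∧ ∀ i, g i ≠ i := by
    intro p hp hpn
    obtain ⟨g, hg, hs⟩ := ex_ct n p hp (Nat.le_of_dvd (by omega) hpn)
    refine ⟨g, hg, fun i => ?_⟩
    rw [Nat.div_mul_cancel hpn] at hs
    have : g.support = Finset.univ := Finset.eq_univ_of_card _ (by simpa using hs)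
    exact Equiv.Perm.mem_support.1 (this ▸ Finset.mem_univ i)
  rw [Nat.card_eq_one_iff_unique, isPrimePow_iff_card_primeFactors_eq_one]
  constructor
  · rintro ⟨hs, ⟨c, g, hc, hp, hf⟩⟩
    rw [Finset.card_eq_one]
    refine ⟨orderOf g, ?_⟩
    ext q
    simp only [Nat.mem_primeFactors, Finset.mem_singleton]
    constructor
    · rintro ⟨hq, hqn, -⟩
      obtain ⟨h, hh, hhf⟩ := key q hq hqn
      have := hs.elim ⟨ConjClasses.mk h, h, rfl, hh ▸ hq, hhf⟩ ⟨c, g, hc, hp, hf⟩
      have h2 : ConjClasses.mk h = ConjClasses.mk g := by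
        rw [hc]; exact congrArg Subtype.val this
      have h3 := Equiv.Perm.isConj_iff_cycleType_eq.1 (ConjClasses.mk_eq_mk_iff_isConj.1 h2)
      rw [← hh, ← Equiv.Perm.lcm_cycleType, h3, Equiv.Perm.lcm_cycleType]
    · rintro rfl
      exact ⟨hp, (ct_of g hp hf).1, by omega⟩
  · intro h
    obtain ⟨p, hp⟩ := Finset.card_eq_one.1 h
    have hm : ∀ q, q.Prime → q ∣ n → q = p := fun q hq hqn => by
      have : q ∈ n.primeFactors := Nat.mem_primeFactors.2 ⟨hq, hqn, by omega⟩
      rw [hp] at this; simpa using this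
    have hpp : p ∈ n.primeFactors := by rw [hp]; simp
    rw [Nat.mem_primeFactors] at hpp
    constructor
    · constructor
      rintro ⟨c, g, rfl, hg, hf⟩ ⟨d, h, rfl, hh, hhf⟩
      apply Subtype.ext
      apply ConjClasses.mk_eq_mk_iff_isConj.2
      rw [Equiv.Perm.isConj_iff_cycleType_eq, (ct_of g hg hf).2, (ct_of h hh hhf).2,
        hm _ hg (ct_of g hg hf).1, hm _ hh (ct_of h hh hhf).1]
    · obtain ⟨g, hg, hf⟩ := key p hpp.1 hpp.2.1
      exact ⟨⟨_, g, rfl, hg ▸ hpp.1, hf⟩⟩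

end Cfsg.Agent.S3504
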