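import Cfsg.Statements.S3521
import Cfsg.Agent.Lib.Perm.H2Ext
import Cfsg.Agent.S3494
import Cfsg.Agent.Lib.Perm.PrimSub

set_option autoImplicit false
open Cfsg

namespace Cfsg.Agent.S3521

open Subgroup MulAction CA.BG CA.H2Ext CA.PermBasic CA.PermMulti IsMulCommutative in

/-- Let a finite group G that is not solvable act faithfully and primitively on a finite set with p ^ d points (p prime), with a non-trivial abelian normal subgroup acting regularly (affine type) and with non-trivial point stabilizers each acting primitively on every one of its orbits (an insoluble extremely primitive group of affine type). Then p = 2; and if moreover G is not 2-transitive, then a point stabilizer is almost simple (it has a non-abelian simple normal subgroup with trivial centralizer). -/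
theorem result {G : Type*} [Group G] [Finite G] {Ω : Type*} [Fintype Ω] [MulAction G Ω] [FaithfulSMul G Ω] (p d : ℕ) (hp : p.Prime) (hcard : Fintype.card Ω = p ^ d) (hsol : ¬ Group.IsSolvable G)
    (N : Subgroup G) [N.Normal] (hN : N ≠ ⊥) (hNc : IsMulCommutative N) (hNreg : ∀ ω : Ω, MulAction.stabilizer N ω = ⊥)
    (hprim : MulAction.IsPreprimitive G Ω) (hH : ∀ α : Ω, MulAction.stabilizer G α ≠ ⊥) (hep : ∀ (α : Ω) (ω : Ω), MulAction.IsPreprimitive (MulAction.stabilizer G α) (MulAction.orbit (MulAction.stabilizer G α) ω)) (α : Ω) :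
    p = 2 ∧ (¬ MulAction.IsMultiplyPretransitive G Ω 2 → ∃ T : Subgroup (MulAction.stabilizer G α), T.Normal ∧ IsSimpleGroup T ∧ ¬ IsMulCommutative T ∧ Subgroup.centralizer (T : Set (MulAction.stabilizer G α)) = ⊥) := by
  have ht := normal_pretransitive (X := Ω) N hN
  haveI := (nontrivial_iff_ne_bot N).2 hN
  have inj : ∀ m n : N, (m : G) • α = (n : G) • α → m = n := fun m n e => (inv_mul_eq_one.1 (mem_bot.1 ((hNreg α).le
    (show (n⁻¹ * m) • α = α by rw [mul_smul, inv_smul_eq_iff]; exact e)))).symm
  letI : MulDistribMulAction (stabilizer G α) N :=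
    MulDistribMulAction.compHom N ((MulAut.conjNormal (H := N)).comp (stabilizer G α).subtype)
  have sm : ∀ (x : stabilizer G α) (n : N), ((x • n : N) : G) = x * n * (x : G)⁻¹ := fun _ _ => rfl
  have sa : ∀ (x : stabilizer G α) (n : N), ((x • n : N) : G) • α = x • (n : G) • α := fun x n => by
    rw [sm, mul_smul, mul_smul, show (x : G)⁻¹ • α = α from x⁻¹.2]; rfl
  have hs : ¬ Group.IsSolvable (stabilizer G α) := fun e => by
    haveI : Group.IsSolvable (G ⧸ N) := Group.isSolvable_of_surjective
      (f := (QuotientGroup.mk' N).comp (stabilizer G α).subtype) fun y => by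
        obtain ⟨g, rfl⟩ := QuotientGroup.mk_surjective y
        obtain ⟨n, hn⟩ := ht.exists_smul_eq α (g⁻¹ • α)
        exact ⟨⟨g * n, by rw [mem_stabilizer_iff, mul_smul]; exact smul_eq_iff_eq_inv_smul g |>.2 hn⟩, by simp⟩
    exact hsol (Group.isSolvable_of_ker_le_range N.subtype (QuotientGroup.mk' N) (by simp))
  have h : EP (stabilizer G α) N := ⟨fun v K hK => or_iff_not_imp_left.2 fun e => by
      obtain ⟨y, h1, h2⟩ := SetLike.not_le_iff_exists.1 e
      exact eq_top_of_stabilizer_le (hep α ((v : G) • α)) (a := ⟨_, mem_orbit_self _⟩)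
        (fun x hx => hK (inj _ _ ((sa x v).trans (congrArg Subtype.val hx)))) h1
        fun e => h2 (inj _ _ ((sa y v).trans (congrArg Subtype.val e))),
    fun v hv x hx => S3494.result hprim hH hep α ((v : G) • α) (fun e => hv (inj _ _ (by simpa using e))) x (by
      rintro _ ⟨y, rfl⟩
      simp only
      rw [← sa, ← sa, hx]),
    fun W hW => (CA.PrimSub.invariant_subgroup hprim hH hep N hNc ht (hH α) le_rfl
      (fun a ha m hm => mul_mem (mul_mem ha hm) (inv_mem ha)) (map_subtype_le W) (by
        rintro m hm _ ⟨l, hl, rfl⟩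
        exact ⟨_, hW ⟨m, hm⟩ l hl, rfl⟩)).imp (map_eq_bot_iff_of_injective _ N.subtype_injective).1 fun e =>
          map_injective N.subtype_injective (by rw [e, ← MonoidHom.range_eq_map, range_subtype])⟩
  refine ⟨?_, fun _ => h.main hs⟩
  obtain ⟨v, hv⟩ := exists_ne (1 : N)
  have h1 : orderOf v = 2 := orderOf_eq_prime (by rw [pow_two, h.two hs]) hv
  have h2 := Nat.card_eq_of_bijective (fun n : N => (n : G) • α) ⟨fun m n => inj m n, ht.exists_smul_eq α⟩
  have h3 := orderOf_dvd_natCard v
  rw [h1, h2, Nat.card_eq_fintype_card, hcard] at h3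
  exact ((Nat.prime_dvd_prime_iff_eq Nat.prime_two hp).1 (Nat.prime_two.dvd_of_dvd_pow h3)).symm

end Cfsg.Agent.S3521
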