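import Cfsg.Statements.S3554
import Mathlib
import Cfsg.Agent.Lib.Perm.PermBasic

set_option autoImplicit false
open Cfsg

namespace Cfsg.Agent.S3554

open MulAction CA.PermBasic

/-- Let G act faithfully and transitively on a finite set and suppose G has a non-trivial cyclic normal subgroup. Then some element of G of prime order fixes no point. -/
theorem result {G Ω : Type*} [Group G] [Finite G] [MulAction G Ω] [FaithfulSMul G Ω] [Finite Ω]
    (htrans : MulAction.IsPretransitive G Ω) (C : Subgroup G) (hC : C.Normal) (hC1 : C ≠ ⊥) (hcyc : IsCyclic ↥C) :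
    ∃ g : G, (orderOf g).Prime ∧ ∀ ω : Ω, g • ω ≠ ω := by
  obtain ⟨p, hp, hd⟩ := Nat.exists_prime_and_dvd (n := Nat.card C) (by rwa [Ne, Subgroup.card_eq_one])
  have := Fact.mk hp
  obtain ⟨c, hc⟩ := exists_prime_orderOf_dvd_card' p hd
  refine ⟨c, by rwa [Subgroup.orderOf_coe, hc], fun ω e => ?_⟩
  have h1 : (Subgroup.zpowers c).Characteristic := by
    rw [Subgroup.characteristic_iff_map_le]
    intro φ
    obtain ⟨m, hm⟩ := MonoidHom.map_cyclic φ.toMonoidHom
    rintro _ ⟨x, hx, rfl⟩
    rw [hm]; exact Subgroup.zpow_mem _ hx m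
  have h2 := normal_le_stabilizer_eq_bot ((Subgroup.zpowers c).map C.subtype) ω (by
    rw [MonoidHom.map_zpowers, Subgroup.zpowers_le]; exact e)
  rw [MonoidHom.map_zpowers, Subgroup.zpowers_eq_bot] at h2
  have h3 : c = 1 := Subtype.ext h2
  rw [h3, orderOf_one] at hc
  exact hp.one_lt.ne hc

end Cfsg.Agent.S3554
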