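import Cfsg.Statements.S3555
import Mathlib
import Cfsg.Agent.Lib.Perm.Derange
import Cfsg.Agent.Lib.Grp.Frob
import Cfsg.Agent.Lib.Char.CharBurn

set_option autoImplicit false
open Cfsg

namespace Cfsg.Agent.S3555

open MulAction CA.Derange CA.PermBasic CA.PermMulti
theorem comm_of_sq {G : Type*} [Group G] {x y : G} (hx : x ^ 2 = 1) (hy : y ^ 2 = 1)
    (hxy : (x * y) ^ 2 = 1) : x * y = y * x := by
  rw [sq, mul_eq_one_iff_eq_inv] at hx hy hxy
  rw [hxy, mul_inv_rev, ← hx, ← hy]

/-- Let G act faithfully and transitively on a finite set and suppose every element of G fixing no point is an involution. Then either G is an elementary abelian 2-group, or G is a Frobenius group whose Frobenius kernel is an elementary abelian 2-group: G has a Frobenius complement H, and the elements lying in no conjugate of H, together with the identity, pairwise commute and square to the identity. -/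
theorem result {G Ω : Type*} [Group G] [Finite G] [MulAction G Ω] [FaithfulSMul G Ω] [Finite Ω]
    (htrans : MulAction.IsPretransitive G Ω) (hinv : ∀ g : G, (∀ ω : Ω, g • ω ≠ ω) → orderOf g = 2) :
    (IsMulCommutative G ∧ ∀ g : G, g ^ 2 = 1) ∨
    (∃ H : Subgroup G, Cfsg.IsFrobeniusComplement H ∧
      (∀ x ∈ Cfsg.frobeniusKernel H, x ^ 2 = 1) ∧
      ∀ x ∈ Cfsg.frobeniusKernel H, ∀ y ∈ Cfsg.frobeniusKernel H, x * y = y * x) := by
  classical
  rcases subsingleton_or_nontrivial Ω with hs | hs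
  · have : ∀ g : G, g = 1 := fun g => eq_one_of_forall_smul (X := Ω) fun x => Subsingleton.elim _ _
    exact Or.inl ⟨⟨⟨fun a b => by rw [this a, this b]⟩⟩, fun g => this _⟩
  have := Fintype.ofFinite G
  obtain ⟨a⟩ : Nonempty Ω := inferInstance
  have h1 : Nat.card Ω * Nat.card {g : G // ∀ ω : Ω, g • ω ≠ ω} + Nat.card G ≤
      ∑ g : G, fx Ω (g * g) := by
    rw [← sum_card_fixedBy_of_pretransitive (G := G) (X := Ω),
      Nat.card_eq_fintype_card (α := {g : G // _}), Fintype.card_subtype, mul_comm, ← smul_eq_mul,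
      ← Finset.sum_const, Finset.sum_filter, ← Finset.sum_add_distrib]
    refine Finset.sum_le_sum fun g _ => ?_
    split_ifs with h
    · have : g * g = 1 := by rw [← sq, ← hinv g h, pow_orderOf_eq_one]
      rw [this, fx_one, show Nat.card (fixedBy Ω g) = 0 from fx_eq_zero_iff.2 h]; simp
    · rw [zero_add]
      exact Nat.card_mono (Set.toFinite _) fun x hx => by
        rw [mem_fixedBy] at hx ⊢; rw [mul_smul, hx, hx]
  have h2 : ∀ g : G, g ≠ 1 → ∀ α β : Ω, g • α = α → g • β = β → α = β := fun g hg =>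
    fx_le_one_iff.1 (((sum_sq_le (G := G) (X := Ω)).2 (h1.trans sum_fx_sq_le) g).resolve_right
      fun e => hg (eq_one_of_fx_eq e))
  by_cases h3 : stabilizer G a = ⊥
  · have h4 : ∀ g : G, g ^ 2 = 1 := by
      intro g
      by_cases hg : g = 1
      · simp [hg]
      rw [← hinv g fun ω e => hg ?_, pow_orderOf_eq_one]
      obtain ⟨x, rfl⟩ := exists_smul_eq G a ω
      have : x⁻¹ * g * x ∈ stabilizer G a := by
        rw [mem_stabilizer_iff, mul_smul, mul_smul, e, inv_smul_smul]
      rw [h3, Subgroup.mem_bot] at this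
      simpa [mul_assoc, inv_mul_eq_one] using this
    exact Or.inl ⟨⟨⟨fun a b => comm_of_sq (h4 _) (h4 _) (h4 _)⟩⟩, h4⟩
  have h5 : stabilizer G a ≠ ⊤ := by
    intro e
    obtain ⟨b, hb⟩ := exists_ne a
    obtain ⟨g, hg⟩ := exists_smul_eq G a b
    exact hb (hg.symm.trans (e ▸ Subgroup.mem_top g : g ∈ stabilizer G a))
  have h6 := CA.Frob.isFrob_stabilizer h2 a h3 h5
  have h7 : ∀ x ∈ Cfsg.frobeniusKernel (stabilizer G a), x ^ 2 = 1 := by
    intro x hx
    rcases (CA.Frob.mem_kernel_stabilizer_iff a).1 hx with rfl | hx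
    · simp
    · rw [← hinv x fun ω => by obtain ⟨g, rfl⟩ := exists_smul_eq G a ω; exact hx g,
        pow_orderOf_eq_one]
  refine Or.inr ⟨_, h6, h7, fun x hx y hy => comm_of_sq (h7 x hx) (h7 y hy) (h7 _ ?_)⟩
  obtain ⟨N, hN, -⟩ := CChar.CharBurn.exists_frobeniusKernel h6.2.2
  rw [← hN] at hx hy ⊢
  exact N.mul_mem hx hy

end Cfsg.Agent.S3555
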