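import Cfsg.Statements.S3556
import Cfsg.Agent.Lib.Perm.H2Ons

set_option autoImplicit false
open Cfsg

namespace Cfsg.Agent.S3556

open Subgroup MulAction CA.BG CA.H2Ons in

/-- Let G act faithfully and primitively on a finite set with at least two points, and suppose that for some fixed prime p every element of G fixing no point has order a power of p. Then G is of affine type (it has a regular normal subgroup that is an elementary abelian r-group for some prime r) or almost simple (it has a non-abelian simple normal subgroup with trivial centralizer). -/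
theorem result {G Ω : Type*} [Group G] [Finite G] [MulAction G Ω] [FaithfulSMul G Ω] [Finite Ω]
    (hprim : MulAction.IsPreprimitive G Ω) (hΩ : 2 ≤ Nat.card Ω) (p : ℕ) (hp : p.Prime)
    (hder : ∀ g : G, (∀ ω : Ω, g • ω ≠ ω) → ∃ k : ℕ, orderOf g = p ^ k) :
    (∃ (N : Subgroup G) (r : ℕ), r.Prime ∧ N.Normal ∧ Cfsg.IsElementaryAbelian r N ∧
      MulAction.IsPretransitive N Ω ∧ ∀ a : Ω, MulAction.stabilizer N a = ⊥) ∨
    (∃ T : Subgroup G, T.Normal ∧ IsSimpleGroup ↥T ∧ ¬ IsMulCommutative ↥T ∧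
      Subgroup.centralizer (T : Set G) = ⊥) := by
  haveI := Finite.one_lt_card_iff_nontrivial.1 hΩ
  rcases cases (G := G) (Ω := Ω) with ⟨N, h1, -, h2, ⟨r, hr, h3⟩, h4, h5⟩ | h | ⟨N, T, h, ht, hc⟩
  · exact .inl ⟨N, r, hr, h1, ⟨h2, h3⟩, h4, h5⟩
  · exact .inr h
  exfalso
  haveI := Fact.mk hp
  obtain ⟨α⟩ : Nonempty Ω := inferInstance
  by_cases hs : ∀ t ∈ T, ∃ u ∈ 𝓒(T), (t * u) • α = α
  · refine h.not_pgroup hp (IsPGroup.iff_orderOf.2 fun t => ?_)
    by_cases e : (t : G) = 1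
    · exact ⟨0, by rw [← orderOf_coe, e]; simp⟩
    · rw [← orderOf_coe]; exact hder t fun ω hω => e (h.semireg ht hs t.2 hω)
  obtain ⟨g, hg⟩ := hc.resolve_left fun hC => hs fun t _ => star_of_trans hC α t
  obtain ⟨x, hx⟩ := jordan (P := (𝓒(T) ⊔ (stabilizer G α ⊓ 𝓝(T))).subgroupOf T) (fun e => hs fun t ht => by
    obtain ⟨u, hu, a, ha, e1⟩ := (mem_sup_norm' (inf_le_right.trans (norm_cent le_rfl))).1
      (e.ge (mem_top (⟨t, ht⟩ : T)))
    have e2 : u * a = t := e1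
    refine ⟨u⁻¹, inv_mem hu, ?_⟩
    rw [mem_cent.1 (inv_mem hu) t ht, ← e2, inv_mul_cancel_left]; exact ha.1)
  refine h.not_pgroup hp fun y => ?_
  have hy : g * y * g⁻¹ ∈ 𝓒(T) := hg (mem_cj'.2 ⟨y, y.2, rfl⟩)
  obtain ⟨k, hk⟩ := hder (x * (g * y * g⁻¹)) fun ω hω => by
    obtain ⟨n, rfl⟩ := ht.exists_smul_eq α ω
    obtain ⟨t, ht, c, hc, e⟩ := h.dec' n.2
    have h1 : (n : G)⁻¹ * (g * y * g⁻¹) * n ∈ 𝓒(T) := conj_mem_of_mem_norm' (norm_cent h.norm n.2) hy
    have h2 : ((t⁻¹ * x * t) : G) ∈ T := mul_mem (mul_mem (inv_mem ht) x.2) ht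
    have h3 : (n : G)⁻¹ * x * n = t⁻¹ * x * t := by
      rw [← e, mul_inv_rev, ← mul_assoc, mul_assoc c⁻¹, mul_assoc c⁻¹, mul_assoc c⁻¹, mem_cent.1 hc _ h2,
        inv_mul_cancel_left]
    refine hx ⟨t, ht⟩ (mem_subgroupOf.2 (show t⁻¹ * x * t ∈ _ from ?_))
    refine (mul_mem_cancel_right (mem_sup_left h1)).1 (mem_sup_right ⟨?_, mul_mem (le_normalizer h2)
      (cent_le_norm T h1)⟩)
    rw [← h3, show (n : G)⁻¹ * x * n * ((n : G)⁻¹ * (g * y * g⁻¹) * n) = (n : G)⁻¹ * (x * (g * y * g⁻¹)) * n by group]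
    show _ • α = α
    rw [mul_smul, mul_smul, inv_smul_eq_iff]; exact hω
  have h1 := pow_orderOf_eq_one (x * (g * y * g⁻¹))
  rw [hk, (show Commute (x : G) _ from mem_cent.1 hy x x.2).mul_pow] at h1
  rw [h.cen (pow_mem x.2 _) (eq_inv_of_mul_eq_one_left h1 ▸ inv_mem (pow_mem hy _)), one_mul, conj_pow] at h1
  exact ⟨k, Subtype.ext (by simpa using h1)⟩

end Cfsg.Agent.S3556
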