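import Cfsg.Statements.S3557
import Cfsg.Agent.Lib.Grp.PGBasic
import Mathlib.GroupTheory.Sylow
import Mathlib.GroupTheory.GroupAction.Quotient

set_option autoImplicit false
open Cfsg

namespace Cfsg.Agent.S3557

open Subgroup MulAction
open scoped commutatorElement

section
variable {Q Ω : Type*} [Group Q] [MulAction Q Ω]

theorem mem_core_iff (a : Ω) (x : Q) :
    x ∈ (stabilizer Q a).normalCore ↔ ∀ b ∈ orbit Q a, x • b = b := by
  rw [Subgroup.normalCore, Subgroup.mem_mk]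
  change (∀ b : Q, b * x * b⁻¹ ∈ stabilizer Q a) ↔ _
  constructor
  · rintro h b ⟨g, rfl⟩
    have := h g⁻¹
    rw [mem_stabilizer_iff, inv_inv, mul_smul, mul_smul, inv_smul_eq_iff] at this
    exact this
  · intro h g
    rw [mem_stabilizer_iff, mul_smul, mul_smul, h (g⁻¹ • a) ⟨g⁻¹, rfl⟩, smul_inv_smul]

theorem fpf (a : Ω) (y : Q) (hy : y ∉ (stabilizer Q a).normalCore)
    (hc : ∀ g, ⁅y, g⁆ ∈ (stabilizer Q a).normalCore) : ∀ b ∈ orbit Q a, y • b ≠ b := by
  intro b hb hyb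
  apply hy
  rw [mem_core_iff]
  intro c hc'
  obtain ⟨g, hg⟩ : ∃ g : Q, g • b = c := by
    have : c ∈ orbit Q b := by rw [(orbit_eq_iff.2 hb)]; exact hc'
    exact this
  have h1 := (mem_core_iff a _).1 (hc g) c hc'
  rw [commutatorElement_def, mul_smul, mul_smul, mul_smul, ← hg, inv_smul_smul] at h1
  have h2 : y⁻¹ • b = b := by rw [inv_smul_eq_iff, hyb]
  rw [h2] at h1
  rw [← hg]; exact h1

theorem smul_mem_orbit {a b : Ω} (hb : b ∈ orbit Q a) (g : Q) : g • b ∈ orbit Q a := by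
  obtain ⟨h, rfl⟩ := hb
  exact ⟨g * h, by simp [mul_smul]⟩

theorem iter (a : Ω) (y : Q) (f : Ω → Ω) (hf : ∀ b ∈ orbit Q a, f b = y • b) (n : ℕ) :
    ∀ b ∈ orbit Q a, f^[n] b = y ^ n • b := by
  induction n with
  | zero => simp
  | succ n ih =>
    intro b hb
    rw [Function.iterate_succ_apply', ih b hb, hf _ (smul_mem_orbit hb _), pow_succ', mul_smul]

theorem two_orb [Finite Q] [FaithfulSMul Q Ω] (p : ℕ) [hp : Fact p.Prime] (hQ : IsPGroup p Q) (a0 b0 : Ω)
    (ha : (stabilizer Q a0).index = p ^ 2) (hb : (stabilizer Q b0).index = p ^ 2)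
    (hcov : ∀ ω, ω ∈ orbit Q a0 ∨ ω ∈ orbit Q b0) (hdis : ∀ ω ∈ orbit Q a0, ω ∉ orbit Q b0)
    (hK : (stabilizer Q b0).normalCore ≠ ⊥) :
    ∃ f : Ω → Ω, (∀ a b, ∃ g : Q, f a = g • a ∧ f b = g • b) ∧ (∀ a, f a ≠ a) ∧ ∀ a, f^[p] a = a := by
  classical
  set K1 := (stabilizer Q a0).normalCore with hK1
  set K2 := (stabilizer Q b0).normalCore with hK2
  have h21 : ¬ K2 ≤ K1 := by
    intro h
    apply hK
    rw [eq_bot_iff]
    intro x hx
    rw [mem_bot]
    apply FaithfulSMul.eq_of_smul_eq_smul (α := Ω)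
    intro ω
    rw [one_smul]
    rcases hcov ω with h1 | h1
    · exact (mem_core_iff a0 x).1 (h hx) ω h1
    · exact (mem_core_iff b0 x).1 hx ω h1
  obtain ⟨z, hz2, hz1, hzp, hzc⟩ := CA.PGBasic.exists_layer_pow_top hQ h21
  set T := K2 ⊔ stabilizer Q a0 with hT
  have hlt : stabilizer Q a0 < T := by
    refine lt_of_le_of_ne le_sup_right fun h => h21 ?_
    rw [hK1]
    exact normal_le_normalCore.2 (h ▸ le_sup_left)
  have hTi : T.index = 1 ∨ T.index = p := by
    have h1 : T.index ∣ p ^ 2 := ha ▸ index_dvd_of_le hlt.le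
    obtain ⟨k, hk, hk'⟩ := (Nat.dvd_prime_pow hp.out).1 h1
    interval_cases k
    · left; simpa using hk'
    · right; simpa using hk'
    · exfalso
      have h2 := relIndex_mul_index hlt.le
      rw [hk', ha] at h2
      have h3 : (stabilizer Q a0).relIndex T = 1 := by
        have : 0 < p ^ 2 := pow_pos hp.out.pos 2
        nlinarith
      exact hlt.not_ge (relIndex_eq_one.1 h3)
  haveI hTn : T.Normal := by
    rcases hTi with h | h
    · rw [index_eq_one.1 h]; infer_instance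
    · exact CA.PGBasic.normal_of_index_eq hQ h
  have hT2 : ¬ T ≤ K2 := by
    intro h
    have h1 : p ^ 2 ∣ T.index := hb ▸ index_dvd_of_le (h.trans (normalCore_le _))
    have h2 := hp.out.two_le
    rcases hTi with h | h
    · rw [h] at h1
      have := Nat.le_of_dvd one_pos h1
      nlinarith
    · rw [h] at h1
      have := Nat.le_of_dvd hp.out.pos h1
      nlinarith
  obtain ⟨y, hyT, hy2, hyp, hyc⟩ := CA.PGBasic.exists_layer_pow_top hQ hT2
  have hyk : ∀ a ∈ orbit Q a0, ∃ k ∈ K2, y • a = k • a := by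
    rintro a ⟨h, rfl⟩
    have h1 : h⁻¹ * y * h⁻¹⁻¹ ∈ T := hTn.conj_mem y hyT h⁻¹
    have h2 : (h⁻¹ * y * h⁻¹⁻¹) ∈ ((K2 ⊔ stabilizer Q a0 : Subgroup Q) : Set Q) := h1
    rw [normal_mul] at h2
    obtain ⟨k, hk, s, hs, hks⟩ := h2
    refine ⟨h * k * h⁻¹, (inferInstance : K2.Normal).conj_mem k hk h, ?_⟩
    have h3 : y = h * (k * s) * h⁻¹ := by
      simp only at hks
      rw [hks]; group
    have hs' : s • a0 = a0 := hs
    simp only
    rw [h3, mul_smul, mul_smul, inv_smul_smul, mul_smul, hs', mul_smul, mul_smul, inv_smul_smul]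
  let f : Ω → Ω := fun ω => if ω ∈ orbit Q a0 then z • ω else y • ω
  have hf1 : ∀ b ∈ orbit Q a0, f b = z • b := fun b hb => if_pos hb
  have hf2 : ∀ b ∈ orbit Q b0, f b = y • b := fun b hb => if_neg fun h => hdis b h hb
  have mixed : ∀ a ∈ orbit Q a0, ∀ b ∈ orbit Q b0, ∃ g : Q, f a = g • a ∧ f b = g • b := by
    intro a ha b hb
    obtain ⟨k, hk, hka⟩ := hyk a ha
    refine ⟨z * k⁻¹ * y, ?_, ?_⟩
    · rw [hf1 a ha, mul_smul, mul_smul, hka, inv_smul_smul]
    · rw [hf2 b hb, mul_smul]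
      exact ((mem_core_iff b0 _).1 (K2.mul_mem hz2 (K2.inv_mem hk)) _
        (smul_mem_orbit hb y)).symm
  refine ⟨f, ?_, ?_, ?_⟩
  · intro a b
    rcases hcov a with h1 | h1 <;> rcases hcov b with h2 | h2
    · exact ⟨z, hf1 a h1, hf1 b h2⟩
    · exact mixed a h1 b h2
    · obtain ⟨g, hg1, hg2⟩ := mixed b h2 a h1
      exact ⟨g, hg2, hg1⟩
    · exact ⟨y, hf2 a h1, hf2 b h2⟩
  · intro a
    rcases hcov a with h1 | h1
    · rw [hf1 a h1]; exact fpf a0 z hz1 hzc a h1
    · rw [hf2 a h1]; exact fpf b0 y hy2 hyc a h1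
  · intro a
    rcases hcov a with h1 | h1
    · rw [iter a0 z f hf1 p a h1]; exact (mem_core_iff a0 _).1 hzp a h1
    · rw [iter b0 y f hf2 p a h1]; exact (mem_core_iff b0 _).1 hyp a h1

theorem cent_fpf (a : Ω) (z : Q) (hz : z ∈ center Q) (h1 : z ∉ (stabilizer Q a).normalCore) :
    ∀ b ∈ orbit Q a, z • b ≠ b := by
  refine fpf a z h1 fun g => ?_
  rw [commutatorElement_eq_one_iff_mul_comm.2 (mem_center_iff.1 hz g).symm]
  exact one_mem _

end

/-- Let G act faithfully and transitively on a finite set with 2p² points, p a prime, and suppose G is 2-closed: every permutation of the set which, on each ordered pair of points, agrees with some element of G, is itself induced by an element of G. Then some element of G of prime order fixes no point. -/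
theorem result {G Ω : Type*} [Group G] [Finite G] [MulAction G Ω] [FaithfulSMul G Ω] [Finite Ω]
    (htrans : MulAction.IsPretransitive G Ω) (p : ℕ) (hp : p.Prime) (hcard : Nat.card Ω = 2 * p ^ 2)
    (hcl : ∀ σ : Equiv.Perm Ω, (∀ a b : Ω, ∃ g : G, σ a = g • a ∧ σ b = g • b) → ∃ g : G, ∀ a : Ω, σ a = g • a) :
    ∃ g : G, (orderOf g).Prime ∧ ∀ ω : Ω, g • ω ≠ ω := by
  classical
  haveI : Fact p.Prime := ⟨hp⟩
  obtain ⟨P⟩ : Nonempty (Sylow p G) := inferInstance
  have hP : IsPGroup p (P : Subgroup G) := P.isPGroup'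
  have hp2 : 0 < p ^ 2 := pow_pos hp.pos 2
  have hdvd : ∀ ω : Ω, p ^ 2 ∣ (stabilizer (P : Subgroup G) ω).index := by
    intro ω
    have h1 : (stabilizer G ω).index = 2 * p ^ 2 := by
      rw [index_stabilizer_of_transitive, hcard]
    have h2 : (stabilizer (P : Subgroup G) ω).index = (stabilizer G ω ⊓ P).relIndex P := by
      rw [inf_relIndex_right]; rfl
    have h3 := relIndex_mul_index (inf_le_right : stabilizer G ω ⊓ (P : Subgroup G) ≤ P)
    have h4 : (stabilizer G ω).index ∣ (stabilizer G ω ⊓ (P : Subgroup G)).index :=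
      index_dvd_of_le inf_le_left
    rw [h1, ← h3, ← h2] at h4
    exact (Nat.Coprime.pow_left 2 ((Nat.Prime.coprime_iff_not_dvd hp).2 P.not_dvd_index)).dvd_of_dvd_mul_right
      ((Dvd.intro_left 2 rfl).trans h4)
  have hpos : ∀ ω : Ω, p ^ 2 ≤ (orbit (P : Subgroup G) ω).ncard := by
    intro ω
    rw [← index_stabilizer]
    exact Nat.le_of_dvd (Nat.pos_of_ne_zero index_ne_zero_of_finite) (hdvd ω)
  haveI : Nonempty Ω := by
    have : Nat.card Ω ≠ 0 := by rw [hcard]; omega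
    exact (Nat.card_ne_zero.1 this).1
  obtain ⟨a0⟩ := ‹Nonempty Ω›
  have hPne : (⊤ : Subgroup (P : Subgroup G)) ≠ ⊥ := by
    intro h
    have h1 := hdvd a0
    have h2 : stabilizer (P : Subgroup G) a0 = ⊤ := top_le_iff.1 (h ▸ bot_le)
    rw [h2, index_top] at h1
    have := Nat.le_of_dvd one_pos h1
    nlinarith [hp.two_le]
  obtain ⟨z, -, hzc, hzo⟩ := CA.PGBasic.exists_mem_center_orderOf hP hPne
  have hz1 : z ≠ 1 := by
    rintro rfl
    rw [orderOf_one] at hzo
    exact hp.one_lt.ne hzo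
  have hzo' : (orderOf (z : G)).Prime := by rw [orderOf_coe, hzo]; exact hp
  by_cases htr : ∀ b, b ∈ orbit (P : Subgroup G) a0
  · refine ⟨z, hzo', fun ω => cent_fpf a0 z hzc (fun h => hz1 ?_) ω (htr ω)⟩
    apply FaithfulSMul.eq_of_smul_eq_smul (α := Ω)
    intro b
    rw [one_smul]
    exact (mem_core_iff a0 z).1 h b (htr b)
  push Not at htr
  obtain ⟨b0, hb0⟩ := htr
  have hdis : ∀ ω ∈ orbit (P : Subgroup G) a0, ω ∉ orbit (P : Subgroup G) b0 := by
    intro ω h1 h2
    apply hb0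
    rw [← orbit_eq_iff.2 h1, orbit_eq_iff.2 h2]
    exact mem_orbit_self b0
  have hun : (orbit (P : Subgroup G) a0 ∪ orbit (P : Subgroup G) b0).ncard =
      (orbit (P : Subgroup G) a0).ncard + (orbit (P : Subgroup G) b0).ncard :=
    Set.ncard_union_eq (Set.disjoint_left.2 hdis) (Set.toFinite _) (Set.toFinite _)
  have hle : (orbit (P : Subgroup G) a0 ∪ orbit (P : Subgroup G) b0).ncard ≤ 2 * p ^ 2 := by
    rw [← hcard, ← Set.ncard_univ]
    exact Set.ncard_le_ncard (Set.subset_univ _) (Set.toFinite _)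
  have ha := hpos a0
  have hb := hpos b0
  have ha' : (stabilizer (P : Subgroup G) a0).index = p ^ 2 := by rw [index_stabilizer]; omega
  have hb' : (stabilizer (P : Subgroup G) b0).index = p ^ 2 := by rw [index_stabilizer]; omega
  have hcov : ∀ ω, ω ∈ orbit (P : Subgroup G) a0 ∨ ω ∈ orbit (P : Subgroup G) b0 := by
    have : orbit (P : Subgroup G) a0 ∪ orbit (P : Subgroup G) b0 = Set.univ := by
      apply Set.eq_of_subset_of_ncard_le (Set.subset_univ _) _ (Set.toFinite _)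
      rw [Set.ncard_univ, hcard]; omega
    intro ω
    have h : ω ∈ orbit (P : Subgroup G) a0 ∪ orbit (P : Subgroup G) b0 := this ▸ Set.mem_univ ω
    exact h
  have fin : (∃ f : Ω → Ω, (∀ a b, ∃ g : (P : Subgroup G), f a = g • a ∧ f b = g • b) ∧
      (∀ a, f a ≠ a) ∧ ∀ a, f^[p] a = a) → ∃ g : G, (orderOf g).Prime ∧ ∀ ω : Ω, g • ω ≠ ω := by
    rintro ⟨f, hf1, hf2, hf3⟩
    have hinj : Function.Injective f := by
      intro a b hab
      obtain ⟨g, h1, h2⟩ := hf1 a b
      rw [h1, h2] at hab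
      exact smul_left_cancel g hab
    obtain ⟨g, hg⟩ := hcl (Equiv.ofBijective f (Finite.injective_iff_bijective.1 hinj))
      (fun a b => by
        obtain ⟨g, h1, h2⟩ := hf1 a b
        exact ⟨g, h1, h2⟩)
    have hg' : ∀ a, f a = g • a := hg
    have hg1 : g ≠ 1 := by
      rintro rfl
      exact hf2 a0 (by rw [hg', one_smul])
    have hgp : g ^ p = 1 := by
      apply FaithfulSMul.eq_of_smul_eq_smul (α := Ω)
      intro b
      rw [one_smul, ← iter (Q := G) b g f (fun c _ => hg' c) p b (mem_orbit_self b), hf3]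
    refine ⟨g, by rw [orderOf_eq_prime hgp hg1]; exact hp, fun ω => ?_⟩
    rw [← hg']; exact hf2 ω
  by_cases hK2 : (stabilizer (P : Subgroup G) b0).normalCore = ⊥
  · by_cases hK1 : (stabilizer (P : Subgroup G) a0).normalCore = ⊥
    · refine ⟨z, hzo', fun ω => ?_⟩
      rcases hcov ω with h | h
      · exact cent_fpf a0 z hzc (by rw [hK1, mem_bot]; exact hz1) ω h
      · exact cent_fpf b0 z hzc (by rw [hK2, mem_bot]; exact hz1) ω h
    · exact fin (two_orb p hP b0 a0 hb' ha' (fun ω => (hcov ω).symm) (fun ω h1 h2 => hdis ω h2 h1) hK1)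
  · exact fin (two_orb p hP a0 b0 ha' hb' hcov hdis hK2)

end Cfsg.Agent.S3557
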