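import Cfsg.Statements.S3573
import Cfsg.Agent.S3504

set_option autoImplicit false
open Cfsg

namespace Cfsg.Agent.S3573

open Equiv Equiv.Perm in
theorem inv_sub {n : ℕ} (σ : Perm (Fin n)) (hp : (orderOf σ).Prime) (j : ℕ)
    (hj : j * orderOf σ ≤ σ.support.card) :
    ∃ s : Finset (Fin n), s ⊆ σ.support ∧ s.card = j * orderOf σ ∧ ∀ x, σ x ∈ s ↔ x ∈ s := by
  induction j with
  | zero => exact ⟨∅, by simp, by simp, by simp⟩
  | succ j ih =>
    have hpos := hp.pos
    obtain ⟨s, hs, hc, hi⟩ := ih (by nlinarith)
    obtain ⟨x, hx, hxs⟩ : ∃ x ∈ σ.support, x ∉ s := by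
      by_contra! h
      have := Finset.card_le_card h
      nlinarith
    have hx' : σ x ≠ x := mem_support.1 hx
    have hcyc : (σ.cycleOf x).support.card = orderOf σ := by
      obtain ⟨m, hm⟩ := cycleType_prime_order hp
      have : (σ.cycleOf x).support.card ∈ σ.cycleType := by
        rw [cycleType_def]
        exact Multiset.mem_map.2 ⟨σ.cycleOf x, by
          simpa using (cycleOf_mem_cycleFactorsFinset_iff.2 hx), rfl⟩
      rw [hm] at this
      exact Multiset.eq_of_mem_replicate this
    have hpw : ∀ (i : ℕ) y, (σ ^ i) y ∈ s ↔ y ∈ s := by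
      intro i
      induction i with
      | zero => simp
      | succ i ih2 => intro y; rw [pow_succ', Perm.mul_apply, hi, ih2]
    have hd : Disjoint s (σ.cycleOf x).support := by
      rw [Finset.disjoint_right]
      intro y hy hys
      rw [mem_support_cycleOf_iff' hx'] at hy
      obtain ⟨i, -, hi2⟩ := hy.exists_pow_eq'
      exact hxs ((hpw i x).1 (hi2 ▸ hys))
    refine ⟨s ∪ (σ.cycleOf x).support, Finset.union_subset hs (support_cycleOf_le σ x), ?_, ?_⟩
    · rw [Finset.card_union_of_disjoint hd, hc, hcyc]; ring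
    · intro y
      simp only [Finset.mem_union, hi, mem_support_cycleOf_iff' hx', sameCycle_apply_right]

open Equiv Equiv.Perm in
theorem main (n k r : ℕ) (hkn : k ≤ n) (hr : r.Prime) (hrn : r ≤ n) :
    (∀ σ : Perm (Fin n), orderOf σ = r → ∃ s : Finset (Fin n), s.card = k ∧ s.image σ = s) ↔
      k % r ≤ n % r := by
  haveI : Fact r.Prime := ⟨hr⟩
  constructor
  · intro h
    obtain ⟨g, hg, hs⟩ := S3504.ex_ct n r hr hrn
    obtain ⟨s, hsk, hsi⟩ := h g hg
    have hinv : ∀ x, g x ∈ s ↔ x ∈ s := by
      intro x
      constructor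
      · intro hx
        rw [← hsi, Finset.mem_image] at hx
        obtain ⟨y, hy, hyx⟩ := hx
        exact g.injective hyx ▸ hy
      · intro hx
        rw [← hsi]; exact Finset.mem_image_of_mem _ hx
    let τ : Perm {x // x ∈ s} := g.subtypePerm hinv
    have hτ : τ ^ r ^ 1 = 1 := by
      rw [pow_one, subtypePerm_pow]
      ext x
      simp [← hg, pow_orderOf_eq_one]
    have h1 := card_compl_support_modEq hτ
    have h2 : τ.supportᶜ.card ≤ g.supportᶜ.card := by
      apply Finset.card_le_card_of_injOn Subtype.val
      · intro x hx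
        simp only [Finset.coe_compl, Set.mem_compl_iff, Finset.mem_coe, mem_support, not_not] at hx ⊢
        exact congrArg Subtype.val hx
      · exact Subtype.val_injective.injOn
    have h3 : g.supportᶜ.card = n % r := by
      rw [Finset.card_compl, hs, Fintype.card_fin]
      have := Nat.div_add_mod n r
      rw [mul_comm] at this
      omega
    rw [Fintype.card_coe, hsk] at h1
    rw [h3] at h2
    have h4 := Nat.mod_lt n hr.pos
    unfold Nat.ModEq at h1
    rw [← h1, Nat.mod_eq_of_lt (by omega)]
    exact h2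
  · intro h σ hσ
    have hp : (orderOf σ).Prime := hσ ▸ hr
    obtain ⟨m, hm⟩ := cycleType_prime_order hp
    have hsup : σ.support.card = (m + 1) * r := by
      rw [← sum_cycleType, hm, Multiset.sum_replicate, smul_eq_mul, hσ]
    have hle : (m + 1) * r ≤ n := by
      rw [← hsup]; simpa using Finset.card_le_univ σ.support
    obtain ⟨j, i, hj, hi, hk⟩ : ∃ j i, j ≤ m + 1 ∧ i ≤ n - (m + 1) * r ∧ k = j * r + i := by
      by_cases hc : k / r ≤ m + 1
      · refine ⟨k / r, k % r, hc, ?_, by rw [mul_comm]; exact (Nat.div_add_mod k r).symm⟩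
        have h1 : m + 1 ≤ n / r := (Nat.le_div_iff_mul_le hr.pos).2 hle
        have h2 := Nat.div_add_mod n r
        have h3 : (m + 1) * r ≤ r * (n / r) := by nlinarith
        omega
      · have h1 : (m + 1) * r ≤ k := by
          have := Nat.div_mul_le_self k r
          nlinarith
        exact ⟨m + 1, k - (m + 1) * r, le_rfl, by omega, by omega⟩
    obtain ⟨s, hs, hc, hinv⟩ := inv_sub σ hp j (by rw [hsup, hσ]; exact Nat.mul_le_mul_right _ hj)
    obtain ⟨t, ht, htc⟩ := Finset.exists_subset_card_eq (s := σ.supportᶜ) (n := i) (by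
      rw [Finset.card_compl, hsup, Fintype.card_fin]; exact hi)
    have hd : Disjoint s t := by
      rw [Finset.disjoint_left]
      intro x hx hxt
      exact (Finset.mem_compl.1 (ht hxt)) (hs hx)
    refine ⟨s ∪ t, by rw [Finset.card_union_of_disjoint hd, hc, htc, hσ, hk], ?_⟩
    apply Finset.eq_of_subset_of_card_le
    · intro y hy
      obtain ⟨x, hx, rfl⟩ := Finset.mem_image.1 hy
      rcases Finset.mem_union.1 hx with h1 | h1
      · exact Finset.mem_union_left _ ((hinv x).2 h1)
      · have : σ x = x := by simpa using ht h1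
        rw [this]; exact Finset.mem_union_right _ h1
    · rw [Finset.card_image_of_injective _ σ.injective]

/-- Let 1 ≤ k with 2k < n and consider the symmetric group of degree n acting on the k-subsets of an n-set. Let r be a prime dividing the number C(n,k) of k-subsets. If r is odd, then every permutation of order r fixes some k-subset if and only if r ≤ k and the remainder of k modulo r is at most the remainder of n modulo r. If r = 2, then every involution fixes some k-subset if and only if k is even or n is odd. -/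
theorem result (n k : ℕ) (hk : 1 ≤ k) (hkn : 2 * k < n) (r : ℕ) (hr : r.Prime) (hrd : r ∣ Nat.choose n k) :
    (r ≠ 2 → ((∀ σ : Equiv.Perm (Fin n), orderOf σ = r → ∃ s : Finset (Fin n), s.card = k ∧ s.image σ = s) ↔
      (r ≤ k ∧ k % r ≤ n % r))) ∧
    (r = 2 → ((∀ σ : Equiv.Perm (Fin n), orderOf σ = 2 → ∃ s : Finset (Fin n), s.card = k ∧ s.image σ = s) ↔
      (Even k ∨ Odd n))) := by
  haveI : Fact r.Prime := ⟨hr⟩
  have hrn : r ≤ n := by
    have h1 : r ∣ n.factorial := hrd.trans ⟨k.factorial * (n - k).factorial, by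
      rw [← mul_assoc, Nat.choose_mul_factorial_mul_factorial (by omega)]⟩
    exact (hr.dvd_factorial).1 h1
  have hm := main n k r (by omega) hr hrn
  constructor
  · intro _
    rw [hm]
    refine ⟨fun h => ⟨?_, h⟩, fun h => h.2⟩
    by_contra hlt
    have hlt : k < r := by omega
    have h1 := Choose.choose_modEq_choose_mod_mul_choose_div_nat (n := n) (k := k) (p := r)
    rw [Nat.div_eq_of_lt hlt, Nat.choose_zero_right, mul_one] at h1
    have h2 : r ∣ (n % r).choose (k % r) := (h1.dvd_iff dvd_rfl).1 hrd
    have h3 : r ∣ (n % r).factorial := h2.trans ⟨(k % r).factorial * (n % r - k % r).factorial, by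
      rw [← mul_assoc, Nat.choose_mul_factorial_mul_factorial h]⟩
    have := (hr.dvd_factorial).1 h3
    have := Nat.mod_lt n hr.pos
    omega
  · rintro rfl
    rw [hm, Nat.even_iff, Nat.odd_iff]
    omega

end Cfsg.Agent.S3573
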