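import Cfsg.Statements.S3643
import Cfsg.Agent.Lib.Block.H7Deg12
import Cfsg.Agent.Lib.Block.BlkCov
import Cfsg.Agent.Lib.Spor.M24Sub
import Cfsg.Agent.Lib.Grp.SchurHopf
import Cfsg.Agent.S2034
import Cfsg.Agent.S2060
import Cfsg.Agent.S0228

set_option autoImplicit false
open Cfsg

namespace Cfsg.Agent.S3643

open Subgroup CA.H28Syl CA.H7Deg12 CA.M24Sub CChar.CharInt CChar.CharKer CChar.CharProd
open CChar.CharFun

theorem split {G : Type*} [Group G] [Finite G] (L : Subgroup G) [L.Normal]
    (e : L ≃* ↥Cfsg.Spor.M11) : centralizer (L : Set G) ⊔ L = ⊤ := by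
  refine eq_top_iff.2 fun g _ => ?_
  have h1 : Cfsg.Inn ↥Cfsg.Spor.M11 = ⊤ := index_eq_one.1 Cfsg.Agent.S2060.result
  obtain ⟨m, hm⟩ : MulAut.congr e (MulAut.conjNormal g) ∈ Cfsg.Inn ↥Cfsg.Spor.M11 := h1 ▸ mem_top _
  have h2 : ∀ l : L, ((e.symm m : L) : G) * l * ((e.symm m : L) : G)⁻¹ = g * l * g⁻¹ := fun l => by
    have h3 := congrArg (fun f : MulAut ↥Cfsg.Spor.M11 => ((e.symm (f (e l)) : L) : G)) hm
    simpa using h3
  rw [← mul_mem_cancel_left (mem_sup_right (inv_mem (e.symm m).2))]
  refine mem_sup_left fun l hl => ?_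
  have h3 := h2 ⟨l, hl⟩
  calc l * (((e.symm m : L) : G)⁻¹ * g) =
      ((e.symm m : L) : G)⁻¹ * (((e.symm m : L) : G) * l * ((e.symm m : L) : G)⁻¹) * g := by group
    _ = _ := by rw [h3]; group

/-- Let G be a finite group of the same order as the Mathieu group M₁₂ whose character degree graph equals that of M₁₂ (same primes dividing some irreducible complex character degree, same pairs of distinct primes whose product divides some degree). Then G is isomorphic to M₁₂ or to the direct product of the alternating group of degree 4 with M₁₁. -/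
theorem result {G : Type*} [Group G] [Finite G] (hcard : Nat.card G = Nat.card ↥Cfsg.Spor.M12) (hΔ : Cfsg.degreePrimes G = Cfsg.degreePrimes ↥Cfsg.Spor.M12 ∧ Cfsg.degreeGraph G = Cfsg.degreeGraph ↥Cfsg.Spor.M12) :
    Nonempty (G ≃* ↥Cfsg.Spor.M12) ∨ Nonempty (G ≃* alternatingGroup (Fin 4) × ↥Cfsg.Spor.M11) := by
  have := simple_M12
  have := simple_M11
  rw [card_M12] at hcard
  have key : ∀ p q : ℕ, p ≠ q → p.Prime → q.Prime →
      (∃ χ : IrrCharacter ↥Cfsg.Spor.M12, p * q ∣ charDegree χ.1) →
      ∃ χ : IrrCharacter G, p * q ∣ charDegree χ.1 := fun p q h1 h2 h3 ⟨χ, h4⟩ => by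
    obtain ⟨-, -, -, _, ⟨ψ, rfl⟩, h5⟩ : (degreeGraph G).Adj p q :=
      hΔ.2 ▸ ⟨h1, h2, h3, _, ⟨χ, rfl⟩, h4⟩
    exact ⟨ψ, h5⟩
  obtain ⟨χ, hχ⟩ := key 5 11 (by decide) (by decide) (by decide) (deg55 card_M12).1
  obtain ⟨χ', hχ'⟩ := key 3 11 (by decide) (by decide) (by decide) (deg55 card_M12).2
  obtain ⟨x, hx⟩ := exists_isSylGen (G := G) (p := 11) (by rw [hcard]; decide) (by rw [hcard]; decide)
  have hN := normal_cases hx hcard.dvd
  have hI := hx.not_dvd_index_of_le (H := normalClosure {x})
    (zpowers_le.2 (subset_normalClosure rfl))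
  have hn : (normalClosure ({x} : Set G)).Normal := inferInstance
  generalize normalClosure ({x} : Set G) = L at hN hI hn
  obtain ⟨θ, hθ⟩ := CA.H12Cover.exists_under L χ
  have h1 : 11 ∣ charDegree θ.1 :=
    (CA.BlkCov.not_dvd_degree_iff (by decide) hI hθ).1 (Dvd.dvd.trans (by decide) hχ)
  have h2 := degree_sq_le_index θ.2 (center_le_charCenter θ.2) (irr_apply_one_eq θ.2)
  have h3 := degree_dvd_index_center θ.2 (irr_apply_one_eq θ.2)
  have h0 := charDegree_pos θ.2
  obtain ⟨s1, s2, s3⟩ := simple_quot hN fun e => by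
    rw [e, index_top] at h3
    have := Nat.le_of_dvd one_pos (h1.trans h3)
    omega
  have h4 := card_mul_index L
  have h5 := card_mul_index (center L)
  rw [hcard] at h4
  rcases ord_simple s2 (h1.trans h3) ((index_dvd_card _).trans (Dvd.intro _ h4)) with e | e | e
  · have e' : (center L).index = 660 := e
    have h6 : 5 ∣ charDegree θ.1 := (CA.BlkCov.not_dvd_degree_iff (by decide) (fun h => by
      rw [← h5, e'] at h4
      obtain ⟨k, hk⟩ := h
      rw [hk] at h4
      have : 25 ∣ 95040 := ⟨Nat.card (center L) * 132 * k, by rw [← h4]; ring⟩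
      omega) hθ).1 (Dvd.dvd.trans (by decide) hχ)
    have := Nat.pow_le_pow_left (Nat.le_of_dvd h0
      (Nat.Coprime.mul_dvd_of_dvd_of_dvd (by decide) h6 h1)) 2
    omega
  · obtain ⟨f⟩ := CA.H28M11.uniq e card_M11
    have k1 : (f.toMonoidHom.comp (QuotientGroup.mk' (center L))).ker = center L := by
      ext g; simp
    obtain ⟨π, hπ⟩ := CA.SchurHopf.surj_stem Cfsg.Agent.S2034.result
      (ψ := f.toMonoidHom.comp (QuotientGroup.mk' (center L)))
      ⟨f.surjective.comp (QuotientGroup.mk'_surjective _), k1.le, s3 ▸ le_top⟩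
    have k2 : (f.toMonoidHom.comp (QuotientGroup.mk' (center L))).ker = ⊥ :=
      eq_bot_iff.2 fun g hg => by
        obtain ⟨a, ha⟩ := hπ ⟨g, hg⟩
        rw [Subsingleton.elim a 1, map_one] at ha
        exact (congrArg Subtype.val ha).symm
    let f' := MulEquiv.ofBijective (f.toMonoidHom.comp (QuotientGroup.mk' (center L)))
      ⟨(MonoidHom.ker_eq_bot_iff _).1 k2, f.surjective.comp (QuotientGroup.mk'_surjective _)⟩
    have k3 := split L f'
    have k4 : ∀ a ∈ centralizer (L : Set G), ∀ b ∈ L, a * b = b * a := fun a ha b hb => (ha b hb).symm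
    let F := MulEquiv.ofBijective ((centralizer (L : Set G)).subtype.noncommCoprod L.subtype
      fun a b => k4 a a.2 b b.2) ⟨(MonoidHom.noncommCoprod_injective _ _ _).2
        ⟨subtype_injective _, subtype_injective _, by
          rw [range_subtype, range_subtype, disjoint_def]
          intro g g1 g2
          have : (⟨g, g2⟩ : L) ∈ center L := mem_center_iff.2 fun l => Subtype.ext (g1 l l.2)
          rw [← k1, k2] at this
          exact congrArg Subtype.val (mem_bot.1 this)⟩, MonoidHom.range_eq_top.1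
        ((MonoidHom.noncommCoprod_range _ _ _).trans (by rw [range_subtype, range_subtype, k3]))⟩
    have k5 : Nat.card L = 7920 := (Nat.card_congr f'.toEquiv).trans card_M11
    have k6 : Nat.card (centralizer (L : Set G)) = 12 := by
      have := Nat.card_congr F.toEquiv
      rw [Nat.card_prod, k5, hcard] at this
      omega
    obtain ⟨φ, ψ, p1, p2, p3⟩ := exists_irr_mul_of_commute k4 k3 χ'.2
    have p4 : charDegree χ'.1 = charDegree φ * charDegree ψ := charDegree_eq (by
      simpa [irr_apply_one_eq p1, irr_apply_one_eq p2] using p3 1 1)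
    have p5 := degree_sq_le_index p1 (center_le_charCenter p1) (irr_apply_one_eq p1)
    have p6 := card_mul_index (center (centralizer (L : Set G)))
    have p7 := charDegree_pos p1
    have p8 := Nat.card_pos (α := center (centralizer (L : Set G)))
    rw [k6] at p6
    have p9 : charDegree φ < 4 := by nlinarith
    rw [p4] at hχ'
    have : IsSimpleGroup L := f'.isSimpleGroup
    have p10 : 11 ∣ charDegree ψ := ((Nat.Prime.dvd_mul (by decide)).1
      (Dvd.dvd.trans (by decide) hχ')).resolve_left fun e => by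
        have := Nat.le_of_dvd p7 e; omega
    have p11 : charDegree φ = 3 := by
      have := ((Nat.Prime.dvd_mul Nat.prime_three).1 (Dvd.dvd.trans (by decide) hχ')).resolve_right
        (not33 k5 ⟨ψ, p2⟩ p10)
      omega
    obtain ⟨E⟩ := Cfsg.Agent.S0228.result k6 fun z hz h => by
      have := Subgroup.orderOf_dvd_natCard _ h
      have := Nat.le_of_dvd p8 (hz ▸ this)
      rw [p11] at p5
      nlinarith
    exact Or.inr ⟨F.symm.trans (E.prodCongr f')⟩
  · obtain ⟨f⟩ := CA.H7M12.uniq e card_M12
    have e' : (center L).index = 95040 := e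
    have k1 : Nat.card L = 95040 := le_antisymm (hcard ▸ card_le_card_group L)
      (e' ▸ Nat.le_of_dvd Nat.card_pos (index_dvd_card _))
    obtain rfl := eq_top_of_card_eq L (k1.trans hcard.symm)
    exact Or.inl ⟨topEquiv.symm.trans (MulEquiv.ofBijective
      (f.toMonoidHom.comp (QuotientGroup.mk' _)) ((Nat.bijective_iff_surjective_and_card _).2
        ⟨f.surjective.comp (QuotientGroup.mk'_surjective _), k1.trans card_M12.symm⟩))⟩

end Cfsg.Agent.S3643
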