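import Cfsg.Statements.S3668
import Cfsg.Agent.Lib.Block.H7Gr2

set_option autoImplicit false
open Cfsg

namespace Cfsg.Agent.S3668

open Subgroup CA.H7Gr CA.H7OrdB CA.H7L33 CChar.CharInt CChar.CharFun CA.H28Sol

theorem step {S G : Type*} [Group S] [Finite S] [IsSimpleGroup S] [Group G] [Finite G]
    (hΓ : Cfsg.degreePrimes G = Cfsg.degreePrimes S) {n : ℕ} (p q B : ℕ) [hp : Fact p.Prime]
    (hq : q.Prime) (P : List Pat) (hS : Nat.card S = n) (hG : Nat.card G = n) (h0 : p ∣ n)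
    (h0' : ¬ p ^ 2 ∣ n) (h1 : ¬ n.Prime) (h : checkS P (fun _ => true) n p B = true)
    (hP : ∀ s ∈ P, n = p * (s.2.1 * s.1) ∧ n ≠ sq p s ∧ (q = p ∨ ∃ z ∈ s.2.2.2, q ∣ z.natAbs))
    (h2 : ∀ d ∈ n.divisors, d % p = 1 % p → d = 1 ∨
      d = q ^ 3 ∨ ∃ a ∈ [2, 3, 5, 7], ∃ b ∈ [2, 3, 5, 7], a ≠ b ∧ a ∣ d ∧ b ∣ d)
    (h3 : ¬ q ^ 4 ∣ n) (h4 : n < 6000) : ∃ L : Subgroup G, Nice p L ∧ (center L).index ∈ ords ∧
      p ∣ (center L).index ∧ (center L).index ∣ n := by
  have key : ∀ r : ℕ, r.Prime → (∃ χ : IrrCharacter S, r ∣ charDegree χ.1) →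
      ∃ χ : IrrCharacter G, r ∣ charDegree χ.1 := fun r hr ⟨χ, h⟩ => by
    obtain ⟨-, _, ⟨ψ, rfl⟩, h5⟩ : r ∈ degreePrimes G := hΓ ▸ ⟨hr, _, ⟨χ, rfl⟩, h⟩
    exact ⟨ψ, h5⟩
  have h5 : n ≠ 0 := hS ▸ Nat.card_pos.ne'
  obtain ⟨a, b⟩ := rho hS h0 h0' h1 h hP
  obtain ⟨L, N⟩ := exists_nice hG h0 h0' (pw h5 hq h2) h3 (key q hq b) (key p hp.out a)
  have h6 : (center L).index ∣ n := hG ▸ (index_dvd_card _).trans (card_subgroup_dvd_card L)
  have := N.simple
  exact ⟨L, N, mem_ords N.nc ((Nat.le_of_dvd (Nat.pos_of_ne_zero h5) h6).trans_lt h4), N.dvd, h6⟩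

theorem good {S G : Type*} [Group S] [Finite S] [IsSimpleGroup S] [Group G] [Finite G]
    (hΓ : Cfsg.degreePrimes G = Cfsg.degreePrimes S) {n : ℕ} (p q B : ℕ) [hp : Fact p.Prime]
    (hq : q.Prime) (P : List Pat) (hS : Nat.card S = n) (hG : Nat.card G = n) (h1 : ¬ n.Prime)
    (h : p ∣ n ∧ ¬ p ^ 2 ∣ n ∧ checkS P (fun _ => true) n p B = true ∧
    (∀ s ∈ P, n = p * (s.2.1 * s.1) ∧ n ≠ sq p s ∧ (q = p ∨ ∃ z ∈ s.2.2.2, q ∣ z.natAbs)) ∧
    (∀ d ∈ n.divisors, d % p = 1 % p → d = 1 ∨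
      d = q ^ 3 ∨ ∃ a ∈ [2, 3, 5, 7], ∃ b ∈ [2, 3, 5, 7], a ≠ b ∧ a ∣ d ∧ b ∣ d) ∧
    ¬ q ^ 4 ∣ n ∧ n < 6000 ∧ ∀ m ∈ ords, p ∣ m → m ∣ n → m = n) : IsSimpleGroup G := by
  obtain ⟨a1, a2, a3, a4, a5, a6, a7, a8⟩ := h
  obtain ⟨L, N, b1, b2, b3⟩ := step hΓ p q B hq P hS hG a1 a2 h1 a3 a4 a5 a6 a7
  exact N.simple_of ((a8 _ b1 b2 b3).trans hG.symm)

set_option synthInstance.maxSize 4000 in

/-- The character degree graph of a finite group has as vertices the primes dividing some irreducible complex character degree, two distinct primes being joined when their product divides some irreducible character degree; two groups have the same character degree graph when they have the same vertices and the same joined pairs. Let S be a finite non-abelian simple group of order less than 6000. If a finite group G has the same order as S and the same character degree graph as S, then G is isomorphic to S. -/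
theorem result {S : Type*} [Group S] [Finite S] [IsSimpleGroup S] (hS : ¬ IsMulCommutative S)
    (hlt : Nat.card S < 6000) {G : Type*} [Group G] [Finite G] (hcard : Nat.card G = Nat.card S) (hΓ : Cfsg.degreePrimes G = Cfsg.degreePrimes S ∧ Cfsg.degreeGraph G = Cfsg.degreeGraph S) :
    Nonempty (G ≃* S) := by
  have m := mem_ords hS hlt
  suffices IsSimpleGroup G from uniq hcard m
  have k1 : ∀ p q : ℕ, p ≠ q → p.Prime → q.Prime → ((∃ χ : IrrCharacter G, p * q ∣ charDegree χ.1) ↔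
      ∃ χ : IrrCharacter S, p * q ∣ charDegree χ.1) := fun p q h1 h2 h3 => by
    constructor
    · rintro ⟨χ, h4⟩
      obtain ⟨-, -, -, _, ⟨ψ, rfl⟩, h5⟩ : (degreeGraph S).Adj p q :=
        hΓ.2 ▸ ⟨h1, h2, h3, _, ⟨χ, rfl⟩, h4⟩
      exact ⟨ψ, h5⟩
    · rintro ⟨χ, h4⟩
      obtain ⟨-, -, -, _, ⟨ψ, rfl⟩, h5⟩ : (degreeGraph G).Adj p q :=
        hΓ.2 ▸ ⟨h1, h2, h3, _, ⟨χ, rfl⟩, h4⟩
      exact ⟨ψ, h5⟩
  have k2 := k1 2 3 (by decide) (by decide) (by decide)
  simp only [ords, List.mem_cons, List.not_mem_nil, or_false] at m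
  rcases m with e | e | e | e | e | e | e | e | e | e | e <;> rw [e] at hcard
  · exact good hΓ.1 5 5 8 (by norm_num) [(6, 2, -3, [-4])] e hcard (by norm_num) (by decide +kernel)
  · exact good hΓ.1 7 2 13 (by norm_num) [(8, 3, 3, [-6, 8])] e hcard (by norm_num)
      (by decide +kernel)
  · obtain ⟨L, N, b1, b2, b3⟩ := step hΓ.1 5 5 19 (by norm_num) [(36, 2, -8, [-9])] e hcard
      (by decide) (by decide) (by norm_num) (by decide +kernel) (by decide +kernel)
      (by decide +kernel) (by decide) (by decide)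
    rcases (by decide : ∀ m ∈ ords, 5 ∣ m → m ∣ 360 → m = 60 ∨ m = 360) _ b1 b2 b3 with h | h
    · exact (no360 hcard N h ((k1 2 5 (by decide) (by decide) (by decide)).2 (i360 e).1)
        fun χ h => (k2.1 ⟨χ, h⟩).elim (i360 e).2).elim
    · exact N.simple_of (h.trans hcard.symm)
  · obtain ⟨L, N, b1, b2, b3⟩ := step hΓ.1 7 2 23 (by norm_num) [(36, 2, 9, [8])] e hcard
      (by decide) (by decide) (by norm_num) (by decide +kernel) (by decide +kernel)
      (by decide +kernel) (by decide) (by decide)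
    rcases (by decide : ∀ m ∈ ords, 7 ∣ m → m ∣ 504 → m = 168 ∨ m = 504) _ b1 b2 b3 with h | h
    · have := N.simple
      have := N.normal
      obtain ⟨ψ, hψ⟩ := i168 (G := L ⧸ center L) h
      obtain ⟨χ, hχ⟩ := CA.H12Cover.exists_over (H := L) ⟨_, CChar.CharKer.irr_inflate ψ.2⟩
      exact ((k2.1 ⟨χ, hψ.trans (CA.BlkCov.degree_dvd_of_over hχ)⟩).elim (i504 e)).elim
    · exact N.simple_of (h.trans hcard.symm)
  · exact good hΓ.1 11 11 26 (by norm_num) [(12, 5, 5, [-10, -10, 12, 12])] e hcard (by norm_num)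
      (by decide +kernel)
  · exact good hΓ.1 13 13 34 (by norm_num) [(14, 6, -7, [-12, -12, -12, 14, 14])] e hcard
      (by norm_num) (by decide +kernel)
  · exact good hΓ.1 17 17 50 (by norm_num) [(18, 8, -9, [-16, -16, -16, -16, 18, 18, 18])] e hcard
      (by norm_num) (by decide +kernel)
  · obtain ⟨L, N, b1, b2, b3⟩ := step hΓ.1 7 2 51 (by norm_num)
      [(120, 3, 10, [-6, 15]), (120, 3, 24, [8, 15])] e hcard
      (by decide) (by decide) (by norm_num) (by decide +kernel) (by decide +kernel)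
      (by decide +kernel) (by decide) (by decide)
    obtain ⟨L', N', c1, c2, c3⟩ := step hΓ.1 5 5 51 (by norm_num)
      [(126, 4, 9, [-14, -14, 36]), (126, 4, 14, [6, -14, 21]), (126, 4, 14, [-9, -14, 36]),
        (126, 4, -6, [-14, -14, 21]), (126, 4, -21, [6, -14, -14]), (126, 4, -36, [-9, -14, -14])]
      e hcard (by decide) (by decide) (by norm_num) (by decide +kernel) (by decide +kernel)
      (by decide +kernel) (by decide) (by decide)
    have h1 := (by decide : ∀ m ∈ ords, 7 ∣ m → 168 ≤ m) _ b1 b2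
    have h2 := (by decide : ∀ m ∈ ords, 60 ≤ m) _ c1
    have h3 := Nat.mul_le_mul h1 h2
    obtain rfl : L = L' := le_antisymm (N.eq N' (by omega)) (N'.eq N (by rw [mul_comm]; omega))
    exact N.simple_of (((by decide : ∀ m ∈ ords, 7 ∣ m → 5 ∣ m → m = 2520) _ b1 b2 c2).trans
      hcard.symm)
  · exact good hΓ.1 19 19 59 (by norm_num) [(20, 9, 9, [-18, -18, -18, -18, 20, 20, 20, 20])] e hcard
      (by norm_num) (by decide +kernel)
  · exact good hΓ.1 17 17 64 (by norm_num) [(120, 2, -15, [-16])] e hcard (by norm_num)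
      (by decide +kernel)
  · exact good hΓ.1 13 3 75 (by norm_num) [(144, 3, 16, [-12, 27])] e hcard (by norm_num)
      (by decide +kernel)

end Cfsg.Agent.S3668
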