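import Cfsg.Statements.S3669
import Cfsg.Agent.S4812
import Cfsg.Agent.S0252
import Cfsg.Agent.S3378
import Cfsg.Agent.S0169
import Cfsg.Agent.Lib.Grp.H1Hall
import Cfsg.Agent.Lib.Grp.H28Aut

set_option autoImplicit false
open Cfsg

namespace Cfsg.Agent.S3669

open Subgroup

theorem syl5 {G : Type*} [Group G] [Finite G] [Fact (Nat.Prime 5)] (P : Sylow 5 G) (H : Subgroup G)
    (h : H ≤ normalizer (P : Set G)) (hi : H.index ≤ 5) : (P : Subgroup G).Normal := by
  refine CA.H28Aut.normal_of_card_sylow ?_ P
  have h1 := card_sylow_modEq_one 5 G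
  have h2 := Nat.le_of_dvd (Nat.pos_of_ne_zero index_ne_zero_of_finite) (index_dvd_of_le h)
  rw [← P.card_eq_index_normalizer] at h2
  unfold Nat.ModEq at h1
  omega

/-- The character degree graph of a finite group has as vertices the primes dividing some irreducible complex character degree, two distinct primes being joined when their product divides some irreducible character degree; two groups have the same character degree graph when they have the same vertices and the same joined pairs. A finite group of order 60 with the same character degree graph as the alternating group A₅ (whose character degrees are 1, 3, 4, 5, so the graph has vertices 2, 3, 5 and no edges) is isomorphic to A₅. -/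
theorem result {G : Type*} [Group G] [Finite G] (hcard : Nat.card G = 60)
    (hΓ : Cfsg.degreePrimes G = Cfsg.degreePrimes (alternatingGroup (Fin 5)) ∧ Cfsg.degreeGraph G = Cfsg.degreeGraph (alternatingGroup (Fin 5))) : Nonempty (G ≃* alternatingGroup (Fin 5)) := by
  by_contra hn
  have : Fact (Nat.Prime 5) := ⟨by norm_num⟩
  have hs : Group.IsSolvable G := by_contra fun hs => hn (S3378.a5 hcard hs)
  have : Fintype (GaloisField 2 2) := Fintype.ofFinite _
  have c4 : Fintype.card (GaloisField 2 2) = 4 := by
    rw [← Nat.card_eq_fintype_card, GaloisField.card 2 2 (by norm_num)]; rfl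
  have h5 : 5 ∈ degreePrimes G := by
    rw [hΓ.1, (S4812.result (GaloisField 2 2) 4 c4 le_rfl
      (Or.inl ((S0252.result c4).map MulEquiv.symm))).1]
    exact ⟨by norm_num, by norm_num⟩
  obtain ⟨-, _, ⟨⟨_, n, ρ, hρ, rfl⟩, rfl⟩, hd⟩ := h5
  obtain ⟨H, h1, h2⟩ := CA.H1Hall.exists_hall (G := G) {3, 5}
  have e := H.card_mul_index
  rw [hcard] at e
  have hH : Nat.card H = 15 ∧ H.index = 4 := by
    have a := h1 2 Nat.prime_two
    have b := h2 3 Nat.prime_three (by simp)
    have c := h2 5 (by norm_num) (by simp)
    simp only [Set.mem_insert_iff, Set.mem_singleton_iff] at a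
    have : H.index ≤ 60 := Nat.le_of_dvd (by norm_num) (Dvd.intro_left _ e)
    generalize H.index = i at *
    generalize Nat.card H = k at *
    interval_cases i <;> omega
  obtain ⟨Q⟩ : Nonempty (Sylow 5 H) := inferInstance
  have cQ : Nat.card Q = 5 := by
    rw [Q.card_eq_multiplicity, hH.1]; decide +kernel
  have nQ : (Q : Subgroup H).Normal := syl5 Q Q le_normalizer (by
    have := (Q : Subgroup H).card_mul_index
    rw [cQ, hH.1] at this; omega)
  have cP : Nat.card ((Q : Subgroup H).map H.subtype) = 5 := by
    rw [card_map_of_injective H.subtype_injective, cQ]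
  let P : Sylow 5 G := Sylow.ofCard ((Q : Subgroup H).map H.subtype) (by
    rw [cP, hcard]; decide +kernel)
  have nP : (P : Subgroup G).Normal := syl5 P H (by
    have := le_normalizer_map (H := (Q : Subgroup H)) H.subtype
    rwa [normalizer_eq_top, ← MonoidHom.range_eq_map, range_subtype] at this) (by omega)
  have cP' : Nat.card (P : Subgroup G) = 5 := cP
  have : IsCyclic (P : Subgroup G) := isCyclic_of_prime_card cP'
  have hd2 := S0169.result ρ (P : Subgroup G) fun a ha b hb =>
    congrArg Subtype.val (IsCyclic.commGroup.mul_comm (⟨a, ha⟩ : (P : Subgroup G)) ⟨b, hb⟩)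
  have e2 := (P : Subgroup G).card_mul_index
  rw [cP', hcard] at e2
  have : charDegree ρ.character = Module.finrank ℂ (Fin n → ℂ) := by
    simp [charDegree]
  rw [this] at hd
  have := hd.trans hd2
  omega

end Cfsg.Agent.S3669
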