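import Cfsg.Statements.S3680
import Mathlib
import Cfsg.Agent.Lib.Perm.ONS
import Cfsg.Agent.Lib.Perm.PrimFit
import Cfsg.Agent.Lib.Grp.Subn

set_option autoImplicit false
open Cfsg

namespace Cfsg.Agent.S3680

open MulAction CA.PermBasic CA.PermMulti in

/-- The socle of a finite primitive permutation group. Let a finite group G act faithfully and primitively on a set Ω, and let N be the subgroup generated by the minimal normal subgroups of G. Then either N is an elementary abelian p-group for some prime p and acts regularly on Ω (transitively with trivial point stabilizers), or N is isomorphic to a direct product of m ≥ 1 copies of a non-abelian simple group. -/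
theorem result {G Ω : Type*} [Group G] [Finite G] [MulAction G Ω] [FaithfulSMul G Ω] [Finite Ω]
    (hprim : MulAction.IsPreprimitive G Ω) (N : Subgroup G)
    (hN : N = sSup {V : Subgroup G | V.Normal ∧ V ≠ ⊥ ∧ ∀ M : Subgroup G, M.Normal → M ≤ V → M = ⊥ ∨ M = V}) :
    (∃ p : ℕ, p.Prime ∧ IsMulCommutative N ∧ (∀ x : N, x ^ p = 1) ∧
      MulAction.IsPretransitive N Ω ∧ ∀ ω : Ω, MulAction.stabilizer N ω = ⊥) ∨
    (∃ (T : Type) (_ : Group T) (m : ℕ), 1 ≤ m ∧ IsSimpleGroup T ∧ ¬ IsMulCommutative T ∧ Nonempty (N ≃* (Fin m → T))) := by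
  have com : ∀ {V W : Subgroup G}, V.Normal → W.Normal → (∀ M : Subgroup G, M.Normal → M ≤ V → M = ⊥ ∨ M = V) →
      (∀ M : Subgroup G, M.Normal → M ≤ W → M = ⊥ ∨ M = W) → V ≠ ⊥ → V ≠ W →
      Disjoint V W ∧ ∀ a ∈ V, ∀ b ∈ W, a * b = b * a := fun {V W} h1 h2 h3 h4 h5 h6 => by
    have : Disjoint V W := disjoint_iff.2 ((h3 _ inferInstance inf_le_left).resolve_right fun e =>
      h6 ((h4 V h1 (inf_eq_left.1 e)).resolve_left h5))
    exact ⟨this, fun a ha b hb => Subgroup.commute_of_normal_of_disjoint _ _ h1 h2 this a b ha hb⟩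
  rcases subsingleton_or_nontrivial G with h | h
  · exact .inl ⟨2, Nat.prime_two, ⟨⟨fun _ _ => Subsingleton.elim _ _⟩⟩, fun _ => Subsingleton.elim _ _,
      ⟨fun a b => let ⟨g, e⟩ := hprim.exists_smul_eq a b; ⟨1, by rwa [Subsingleton.elim g 1, one_smul, ← one_smul N a] at e⟩⟩,
      fun _ => Subsingleton.elim _ _⟩
  obtain ⟨V, -, v1, v2, v3⟩ := CA.Subn.exists_minimal_normal (G := G) top_ne_bot
  have ⟨ω⟩ : Nonempty Ω := by_contra fun e => let ⟨g, hg⟩ := exists_ne (1 : G)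
    hg (eq_one_of_forall_smul (X := Ω) fun x => absurd ⟨x⟩ e)
  have vt := normal_pretransitive (X := Ω) V v1
  obtain ⟨T, _, m, h1, h2, ⟨e⟩⟩ := CA.ONS.pow_of_min V v1 v3
  by_cases hu : ∀ W : Subgroup G, W.Normal → W ≠ ⊥ → (∀ M : Subgroup G, M.Normal → M ≤ W → M = ⊥ ∨ M = W) →
    W = V
  · obtain rfl : N = V := hN.trans (le_antisymm (sSup_le fun W h => (hu W h.1 h.2.1 h.2.2).le)
      (le_sSup ⟨v2, v1, v3⟩))
    by_cases hc : IsMulCommutative N
    · obtain ⟨-, ⟨p, hp, h3⟩, -⟩ := CA.PrimFit.nilpotent_normal (X := Ω) N v1 (CA.PrimFit.isNilpotent_of_comm hc)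
      exact .inl ⟨p, hp, hc, fun x => Subtype.ext (h3 x x.2), vt, regular_of_comm N vt hc⟩
    · exact .inr ⟨T, _, m, h2, h1, fun h => hc ⟨⟨fun a b => e.injective (by
        rw [map_mul, map_mul]; exact funext fun i => h.is_comm.comm _ _)⟩⟩, ⟨e⟩⟩
  push Not at hu
  obtain ⟨W, w2, w1, w3, w4⟩ := hu
  have wt := normal_pretransitive (X := Ω) W w1
  obtain ⟨d1, d2⟩ := com v2 w2 v3 w3 v1 w4.symm
  have key : ∀ {V W : Subgroup G}, IsPretransitive V Ω → IsPretransitive W Ω →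
      (∀ a ∈ V, ∀ b ∈ W, a * b = b * a) → ∀ c, (∀ a ∈ V, a * c = c * a) → c ∈ W := fun {V W} h1 h2 h3 c hc => by
    obtain ⟨w, hw⟩ := h2.exists_smul_eq (c • ω) ω
    have := eq_one_of_commute_of_fix V h1 (c := w * c) (fun n hn => by
      rw [← mul_assoc, h3 n hn w w.2, mul_assoc, hc n hn, mul_assoc]) (a := ω) (by rw [mul_smul]; exact hw)
    exact eq_inv_of_mul_eq_one_right this ▸ inv_mem w.2
  obtain rfl : N = V ⊔ W := hN.trans (le_antisymm (sSup_le fun U h => by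
    by_cases f : V = U
    · exact f ▸ le_sup_left
    · exact le_sup_of_le_right fun c hc => key vt wt d2 c fun a ha =>
        (com v2 h.1 v3 h.2.2 v1 f).2 a ha c hc) (sup_le (le_sSup ⟨v2, v1, v3⟩) (le_sSup ⟨w2, w1, w3⟩)))
  choose f hf using fun v : V => wt.exists_smul_eq ω ((v : G)⁻¹ • ω)
  have r : ∀ {V W : Subgroup G}, IsPretransitive V Ω → (∀ a ∈ V, ∀ b ∈ W, a * b = b * a) →
      ∀ a b : W, (a : G) • ω = (b : G) • ω → a = b := fun {V W} h1 h3 a b e => Subtype.ext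
    (inv_mul_eq_one.1 (eq_one_of_commute_of_fix V h1 (fun n hn => h3 n hn _ (mul_mem (inv_mem a.2) b.2))
      (a := ω) (by rw [mul_smul, ← e, inv_smul_smul])))
  have hf' : ∀ v, (f v : G) • ω = (v : G)⁻¹ • ω := hf
  let φ : V ≃* W := .ofBijective (MonoidHom.mk' f fun a b => r vt d2 _ _ (by
      rw [hf', Subgroup.coe_mul, Subgroup.coe_mul, mul_smul, hf', ← mul_smul, ← d2 _ (inv_mem b.2) _ (f a).2,
        mul_smul, hf', mul_inv_rev, mul_smul]))
    ⟨fun a b e => inv_injective (r wt (fun a ha b hb => (d2 b hb a ha).symm) a⁻¹ b⁻¹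
      ((hf' a).symm.trans ((congrArg (fun x : W => (x : G) • ω) e).trans (hf' b)))), fun w =>
      let ⟨v, e⟩ := vt.exists_smul_eq ω ((w : G) • ω); ⟨v⁻¹, r vt d2 _ _ ((hf' _).trans (by simpa [Subgroup.smul_def] using e))⟩⟩
  let ψ : V × W →* G := V.subtype.noncommCoprod W.subtype fun a b => d2 a a.2 b b.2
  have p1 : Function.Injective ψ := (injective_iff_map_eq_one _).2 fun x hx => by
    have e : (x.1 : G) = (x.2 : G)⁻¹ := eq_inv_of_mul_eq_one_left hx
    have e1 := Subgroup.disjoint_def.1 d1 x.1.2 (e ▸ inv_mem x.2.2)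
    exact Prod.ext (Subtype.ext e1) (Subtype.ext (inv_eq_one.1 (e ▸ e1)))
  have p2 : ψ.range = V ⊔ W := (MonoidHom.noncommCoprod_range ..).trans (by simp)
  refine .inr ⟨T, _, m + m, by omega, h1, fun h => v1 (eq_bot_iff.2 fun c hc => Subgroup.disjoint_def.1 d1 hc
    (key vt wt d2 c fun a ha => congrArg Subtype.val (e.injective (a₁ := ⟨a, ha⟩ * ⟨c, hc⟩) (a₂ := ⟨c, hc⟩ * ⟨a, ha⟩)
      (by rw [map_mul, map_mul]; exact funext fun i => h.is_comm.comm _ _)))),
    ⟨(MulEquiv.subgroupCongr p2.symm).trans ((MonoidHom.ofInjective p1).symm.trans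
      ((e.prodCongr (φ.symm.trans e)).trans ((⟨Equiv.sumArrowEquivProdArrow _ _ T, fun _ _ => rfl⟩ : _ ≃* _).symm.trans
        (MulEquiv.arrowCongr finSumFinEquiv (.refl T)))))⟩⟩

end Cfsg.Agent.S3680
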