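import Cfsg.Statements.S3711
import Cfsg.Agent.Lib.Lin.H10Ph4

set_option autoImplicit false
open Cfsg

namespace Cfsg.Agent.S3711
open Cfsg

/-- Recognition of unitary groups over the field with 4 elements from a weak Phan system. Let F be a field with 4 elements and n ≥ 4. Let G be a group with subgroups U_0, …, U_{n−1}, each isomorphic to SU(2, 4), and, for consecutive indices, subgroups V_{i,i+1} in which U_i and U_{i+1} form a standard pair (via an isomorphism from SU(3, 4) or PSU(3, 4) carrying the block-diagonal subgroups, or their images, onto U_i and U_{i+1}); suppose U_i and U_j commute elementwise whenever the indices differ by at least 2, that G is generated by the U_i and the V_{i,i+1}, that for each i the subgroup generated by V_{i,i+1} and V_{i+1,i+2} is a homomorphic image of SU(4, 4), that U_i and V_{j,j+1} commute elementwise whenever i ≤ j − 2 or i ≥ j + 3, and that V_{i,i+1} and V_{k,k+1} commute elementwise whenever k ≥ i + 3. Then G is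 a homomorphic image of SU(n+1, 4). (G is not assumed finite.) -/
theorem result {G : Type*} [Group G] (n : ℕ) (hn : 4 ≤ n)
    (F : Type*) [Field F] [Fintype F] (hF : Fintype.card F = 4)
    (U : Fin n → Subgroup G) (e : ∀ i, ↥(Cfsg.SU 2 F 2) ≃* ↥(U i))
    (V : Fin n → Fin n → Subgroup G)
    (h1 : ∀ i j : Fin n, (i : ℕ) + 2 ≤ j → ∀ x ∈ U i, ∀ y ∈ U j, x * y = y * x)
    (h2 : ∀ i j : Fin n, (i : ℕ) + 1 = j → Cfsg.IsStandardUnitaryPair (V i j) (U i) (U j) F 2)
    (hgen : (⨆ i, U i) ⊔ (⨆ (i : Fin n) (j : Fin n) (_ : (i : ℕ) + 1 = j), V i j) = ⊤)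
    (h4 : ∀ i j k : Fin n, (i : ℕ) + 1 = j → (j : ℕ) + 1 = k →
      ∃ g : ↥(Cfsg.SU 4 F 2) →* ↥(V i j ⊔ V j k), Function.Surjective g)
    (h5 : ∀ i j k : Fin n, (j : ℕ) + 1 = k → ((i : ℕ) + 2 ≤ j ∨ (k : ℕ) + 2 ≤ i) →
      ∀ x ∈ U i, ∀ y ∈ V j k, x * y = y * x)
    (h6 : ∀ i j k l : Fin n, (i : ℕ) + 1 = j → (k : ℕ) + 1 = l → (j : ℕ) + 2 ≤ k →
      ∀ x ∈ V i j, ∀ y ∈ V k l, x * y = y * x) :
    ∃ f : ↥(Cfsg.SU (n + 1) F 2) →* G, Function.Surjective f := by
  obtain ⟨m, rfl⟩ : ∃ m, n = m + 3 := ⟨n - 3, by omega⟩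
  have hF' : Fintype.card F = 2 ^ 2 := hF
  haveI : CharP F 2 := CharTwo.of_one_ne_zero_of_two_eq_zero one_ne_zero (by
    have := FiniteField.cast_card_eq_zero F
    rw [hF'] at this
    exact pow_eq_zero_iff two_ne_zero |>.1 (by exact_mod_cast this : (2 : F) ^ 2 = 0))
  let ι : ℕ → Fin (m + 3) := fun i => ⟨i % (m + 3), Nat.mod_lt _ (by omega)⟩
  have hι : ∀ i, i < m + 3 → (ι i : ℕ) = i := fun i h => Nat.mod_eq_of_lt h
  have hι' : ∀ i : Fin (m + 3), ι i = i := fun i => Fin.ext (hι _ i.2)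
  obtain ⟨Φ, h⟩ := CA.H10Ph.main hF' m (fun i => U (ι i)) (fun i => V (ι i) (ι (i + 1)))
    (fun i hi => h1 _ _ (by rw [hι _ (by omega), hι _ (by omega)]))
    (fun i hi => h2 _ _ (by rw [hι _ (by omega), hι _ (by omega)]))
    (fun i hi => h4 _ _ _ (by rw [hι _ (by omega), hι _ (by omega)]) (by rw [hι _ (by omega), hι _ (by omega)]))
    (fun i j a b => h5 _ _ _ (by rw [hι _ (by omega), hι _ (by omega)])
      (Or.inl (by rw [hι _ (by omega), hι _ (by omega)]; omega)))
    (fun i j a b => h5 _ _ _ (by rw [hι _ (by omega), hι _ (by omega)])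
      (Or.inr (by rw [hι _ (by omega), hι _ (by omega)]; omega)))
    (fun i j a b => h6 _ _ _ _ (by rw [hι _ (by omega), hι _ (by omega)]) (by rw [hι _ (by omega), hι _ (by omega)])
      (by rw [hι _ (by omega), hι _ (by omega)]; omega))
  refine ⟨Φ, MonoidHom.range_eq_top.1 (top_unique (hgen.ge.trans (sup_le (iSup_le fun i => ?_)
    (iSup_le fun i => iSup_le fun j => iSup_le fun hij => ?_))))⟩
  · by_cases hi : (i : ℕ) ≤ m + 1
    · have := (h i hi).2.1
      rwa [hι'] at this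
    · have := (h (m + 1) le_rfl).2.2
      rwa [show m + 1 + 1 = (i : ℕ) by omega, hι'] at this
  · have := (h i (by omega)).1
    rwa [hij, hι', hι'] at this

end Cfsg.Agent.S3711
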