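import Cfsg.Statements.S3716
import Cfsg.Agent.Lib.Char.H7Exc6
import Cfsg.Agent.Lib.Grp.H7Aut

set_option autoImplicit false
open Cfsg

namespace Cfsg.Agent.S3716

open Subgroup CA.H7Exc DihedralGroup

/-- Let G be a finite group with an elementary abelian Sylow 3-subgroup M of order 9 which is self-centralizing (C_G(M) = M), let N = N_G(M), and suppose C_G(g) ≤ N for every nonidentity g ∈ M. If the Sylow 2-subgroups of N are dihedral of order 8, then G is not simple. -/
theorem result {G : Type*} [Group G] [Finite G] (M : Sylow 3 G) (hM9 : Nat.card ↥(M : Subgroup G) = 9)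
    (hMel : ∀ m ∈ (M : Subgroup G), m ^ 3 = 1)
    (hCM : Subgroup.centralizer ((M : Subgroup G) : Set G) = (M : Subgroup G))
    (N : Subgroup G) (hN : N = Subgroup.normalizer ((M : Subgroup G) : Set G))
    (hCg : ∀ g ∈ (M : Subgroup G), g ≠ 1 → Subgroup.centralizer ({g} : Set G) ≤ N)
    (hS : ∀ S : Sylow 2 ↥N, Nonempty (↥(S : Subgroup ↥N) ≃* DihedralGroup 4)) :
    ¬ IsSimpleGroup G := by
  intro _
  subst hN
  have h : Hy M := ⟨hM9, hMel, hCg⟩
  obtain ⟨S⟩ := (inferInstance : Nonempty (Sylow 2 (normalizer ((M : Subgroup G) : Set G))))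
  obtain ⟨e⟩ := hS S
  refine h.dih_simple ((normalizer _).subtype.comp ((S : Subgroup _).subtype.comp e.symm.toMonoidHom))
    (Subtype.val_injective.comp (Subtype.val_injective.comp e.symm.injective)) hCM.le (fun x => Subtype.prop _) ?_
  have h1 := card_dvd_of_injective _ (QuotientGroup.kerLift_injective (M : Subgroup G).normalizerMonoidHom)
  have h2 : Nat.card (MulAut (M : Subgroup G)) ∣ 48 := by
    rw [CA.H7Aut.card_mulAut_elem (p := 3) (r := 2) h.comm (fun x => Subtype.ext (hMel x x.2)) hM9]
    decide
  have h0 : (M : Subgroup G).normalizerMonoidHom.ker = (M : Subgroup G).subgroupOf _ := by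
    rw [normalizerMonoidHom_ker, hCM]
  have h3 := card_mul_index ((M : Subgroup G).subgroupOf (normalizer ((M : Subgroup G) : Set G)))
  have h4 : ¬ 3 ∣ ((M : Subgroup G).subgroupOf (normalizer ((M : Subgroup G) : Set G))).index :=
    (M.subtype le_normalizer).not_dvd_index
  have h5 := S.not_dvd_index
  have h6 := S.toSubgroup.card_mul_index
  rw [Nat.card_congr e.toEquiv, nat_card] at h6
  rw [Nat.card_congr (subgroupOfEquivOfLe le_normalizer).toEquiv, hM9] at h3
  rw [← index, h0] at h1
  have h7 := h1.trans h2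
  have h8 := Nat.le_of_dvd (by norm_num) h7
  generalize ((M : Subgroup G).subgroupOf (normalizer ((M : Subgroup G) : Set G))).index = n at *
  interval_cases n <;> omega

end Cfsg.Agent.S3716
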