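import Cfsg.Statements.S3806
import Cfsg.Agent.Lib.Fus.FusEig
import Cfsg.Agent.Lib.Grp.MxCl
-- import your own Cfsg.Agent.* helpers here

set_option autoImplicit false
open Cfsg

namespace Cfsg.Agent.S3806

open CA.Fus CA.AmbSyl in
/-- Let p be a prime and S a finite p-group of order pⁿ (n ≥ 2) of maximal nilpotency class n − 1 whose sectional p-rank is exactly k (every section has p-rank at most k, and some section has p-rank k). If p ≥ k + 2 then the order of S is at most p^(2k). -/
theorem result {S : Type*} [Group S] [Finite S] (p : ℕ) [Fact p.Prime] (hS : IsPGroup p S) [Group.IsNilpotent S]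
    (n : ℕ) (hn : 2 ≤ n) (hcard : Nat.card S = p ^ n) (hmax : Group.nilpotencyClass S = n - 1)
    (k : ℕ) (hk : 1 ≤ k) (hsr : Cfsg.SectionalPRankLE p k S ∧ ¬ Cfsg.SectionalPRankLE p (k - 1) S)
    (hpk : k + 2 ≤ p) : Nat.card S ≤ p ^ (2 * k) := by
  rw [hcard]
  refine Nat.pow_le_pow_right (by omega) ?_
  rcases hn.eq_or_lt with rfl | h3
  · omega
  have h := CA.MxCl.mx_of_class Fact.out hcard h3 hmax
  have h1 : 2 ≤ k := by
    have := CA.MxCl.relIndex_le_of_sec hsr.1 (H := ⊤) (N := CA.MxCl.gam S 2) le_rfl fun x _ => h.pow_mem_two x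
    rw [Subgroup.relIndex_top_right, h.index_gam le_rfl hn] at this
    exact (Nat.pow_le_pow_iff_right h.prime.one_lt).1 this
  by_contra hc
  have h2 := CA.MxCl.relIndex_le_of_sec hsr.1 (h.der_gam h1) fun x hx => CA.MxCl.gam_anti (by omega) (h.pow_mem h1 hx)
  have h4 := CA.PGBasic.card_mul_relIndex (CA.MxCl.gam_anti (G := S) (show k ≤ 2 * k + 1 by omega))
  rw [h.card_gam h1, h.card_gam (by omega)] at h4
  have h5 := h4.symm.trans_le (Nat.mul_le_mul_left _ h2)
  rw [← pow_add, Nat.pow_le_pow_iff_right h.prime.one_lt] at h5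
  omega

end Cfsg.Agent.S3806
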