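import Cfsg.Statements.S3807
import Cfsg.Agent.Lib.Solv.PX1

set_option autoImplicit false
open Cfsg

namespace Cfsg.Agent.S3807

open Subgroup CA CA.BG CA.PX
open scoped commutatorElement

/-- Let S be a non-abelian finite p-group with an abelian subgroup A of index p. Then [S : Z(S)] = p·#[S,S], and either [S,S] has order p, S/Z(S) is elementary abelian of order p², and S has exactly p + 1 abelian subgroups of index p; or [S,S] has order at least p² and A is the only abelian subgroup of index p in S. -/
theorem result {S : Type*} [Group S] [Finite S] (p : ℕ) [Fact p.Prime] (hS : IsPGroup p S) (hna : ¬ IsMulCommutative S)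
    (A : Subgroup S) (hA : IsMulCommutative ↥A) (hAi : A.index = p) :
    (Subgroup.center S).index = p * Nat.card (commutator S) ∧
      ((Nat.card (commutator S) = p ∧ Cfsg.IsElementaryAbelian p (⊤ : Subgroup (S ⧸ Subgroup.center S)) ∧
          Nat.card (S ⧸ Subgroup.center S) = p ^ 2 ∧
          Nat.card {B : Subgroup S // IsMulCommutative ↥B ∧ B.index = p} = p + 1) ∨
        (p ^ 2 ≤ Nat.card (commutator S) ∧ ∀ B : Subgroup S, IsMulCommutative ↥B → B.index = p → B = A)) := by
  have hp := (Fact.out : p.Prime)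
  have hna' : ¬ IsMulCommutative (⊤ : Subgroup S) := fun h => hna ⟨⟨fun a b =>
    congrArg Subtype.val (h.1.1 ⟨a, mem_top a⟩ ⟨b, mem_top b⟩)⟩⟩
  have hZ : 𝓩((⊤ : Subgroup S)) = center S := by rw [top_inf_eq, coe_top, centralizer_univ]
  have key : ∀ B : Subgroup S, IsMulCommutative B → B.index = p →
      center S ≤ B ∧ (center S).relIndex B = Nat.card (commutator S) := fun B hB hi => by
    haveI := PGBasic.normal_of_index_eq hS hi
    rw [← hZ]
    exact abel_max hp hB le_top (top_le_norm _ _) (by rwa [relIndex_top_right]) hna'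
  have h1 : (center S).index = p * Nat.card (commutator S) := by
    rw [← relIndex_mul_index (key A hA hAi).1, (key A hA hAi).2, hAi, mul_comm]
  refine ⟨h1, ?_⟩
  obtain ⟨k, hk⟩ := PGBasic.exists_card_eq_pow hS (commutator S)
  rcases k with _ | _ | k
  · exact absurd (comm_iff_der_eq_bot.2 (card_eq_one.1 hk)) hna'
  · rw [zero_add, pow_one] at hk
    have h2 : Nat.card (S ⧸ center S) = p ^ 2 := by rw [← index_eq_card, h1, hk, sq]
    have h3 : ∀ x : S ⧸ center S, x ^ p = 1 := fun x => by
      by_contra h
      have h4 : orderOf x ∣ p ^ 2 := h2 ▸ orderOf_dvd_natCard x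
      haveI := isCyclic_of_orderOf_eq_card x ((orderOf_eq_prime_pow (n := 1) (by rwa [pow_one])
        (orderOf_dvd_iff_pow_eq_one.1 h4)).trans h2.symm)
      exact hna (MonoidHom.isMulCommutative_of_isCyclic_of_ker_le_center (QuotientGroup.mk' _)
        (QuotientGroup.ker_mk' _).le)
    refine Or.inl ⟨hk, ⟨?_, fun x _ => h3 x⟩, h2, ?_⟩
    · haveI := IsPGroup.isMulCommutative_of_card_eq_prime_sq h2
      infer_instance
    · have h4 := card_lines hp h3
      rw [h2, show p ^ 2 - 1 = (p + 1) * (p - 1) by rw [← Nat.sq_sub_sq, one_pow]] at h4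
      rw [← Nat.eq_of_mul_eq_mul_right (Nat.sub_pos_of_lt hp.one_lt) h4]
      have h5 : ∀ H : Subgroup (S ⧸ center S), ♯H = p ↔ H.index = p := fun H => by
        have := H.index_mul_card
        rw [h2, sq] at this
        exact ⟨fun h => Nat.eq_of_mul_eq_mul_right hp.pos (h ▸ this),
          fun h => Nat.eq_of_mul_eq_mul_left hp.pos (h ▸ this)⟩
      refine Nat.card_congr ⟨fun B => ⟨B.1.map (QuotientGroup.mk' _), (h5 _).2 ?_⟩,
        fun H => ⟨H.1.comap (QuotientGroup.mk' _), ?_, ?_⟩, fun B => Subtype.ext ?_,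
        fun H => Subtype.ext (map_comap_eq_self_of_surjective (QuotientGroup.mk'_surjective _) _)⟩
      · rw [index_map_eq _ (QuotientGroup.mk'_surjective _)
          ((QuotientGroup.ker_mk' _).le.trans (key _ B.2.1 B.2.2).1), B.2.2]
      · obtain ⟨x, hx⟩ := exists_zpowers_of_cyc (isCyclic_of_prime (X := H.1) (by rw [H.2]; exact hp))
        obtain ⟨x, rfl⟩ := QuotientGroup.mk'_surjective _ x
        rw [← hx, ← MonoidHom.map_zpowers, comap_map_eq, QuotientGroup.ker_mk']
        exact comm_sup (comm_of_cyclic (cyc_zpowers x)) inferInstance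
          (cent_symm (center_le_centralizer _))
      · rw [index_comap_of_surjective _ (QuotientGroup.mk'_surjective _), (h5 _).1 H.2]
      · exact comap_map_eq_self ((QuotientGroup.ker_mk' _).le.trans (key _ B.2.1 B.2.2).1)
  · refine Or.inr ⟨hk ▸ Nat.pow_le_pow_right hp.pos (by omega), fun B hB hi => by_contra fun h => ?_⟩
    haveI := PGBasic.normal_of_index_eq hS hi
    have h2 : B ⊔ A = ⊤ := (PGBasic.isCoatom_of_index_prime hp hi).2 _ (left_lt_sup.2 fun h3 =>
      h ((PGBasic.isCoatom_of_index_prime hp hAi).le_iff.1 h3 |>.resolve_left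
        (PGBasic.isCoatom_of_index_prime hp hi).1))
    have h3 : B ⊓ A ≤ center S := by
      rw [← hZ, top_inf_eq, ← h2]
      exact le_cent_sup (inf_le_left.trans (comm_iff_le_cent.1 hB))
        (inf_le_right.trans (comm_iff_le_cent.1 hA))
    have h4 := relIndex_dvd_of_le_left A h3
    rw [inf_relIndex_right, ← relIndex_sup_left A B, h2, relIndex_top_right, hi, (key A hA hAi).2,
      hk] at h4
    have := (Nat.pow_dvd_pow_iff_le_right hp.one_lt).1 (h4.trans (pow_one p).symm.dvd)
    omega

end Cfsg.Agent.S3807
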