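import Cfsg.Statements.S3808
import Cfsg.Agent.Lib.Solv.PX1

set_option autoImplicit false
open Cfsg

namespace Cfsg.Agent.S3808

open Subgroup CA CA.BG CA.PX

/-- Let S be a finite p-group with an extraspecial subgroup Q of index p. Then either Z(S) = Z(Q), or S = Q·Z(S) and Z(S) has order p². -/
theorem result {S : Type*} [Group S] [Finite S] (p : ℕ) [Fact p.Prime] (hS : IsPGroup p S) (Q : Subgroup S) (hQ : Cfsg.IsExtraspecial p ↥Q) (hQi : Q.index = p) :
    Subgroup.center S = (Subgroup.center ↥Q).map Q.subtype ∨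
      (Q ⊔ Subgroup.center S = ⊤ ∧ Nat.card (Subgroup.center S) = p ^ 2) := by
  have hp := (Fact.out : p.Prime)
  have hE := extra_of hQ hp
  haveI := PGBasic.normal_of_index_eq hS hQi
  haveI : (𝓩(Q) : Subgroup S).Normal := normalizer_eq_top_iff.1 (top_le_iff.1
    ((top_le_norm Q ⊤).trans (norm_center Q)))
  have h1 : 𝓩(Q) ≤ center S := PGBasic.le_center_of_card_eq hS hE.2.2.2
  have h2 : Q ⊓ center S = 𝓩(Q) :=
    le_antisymm (inf_le_inf_left _ (center_le_centralizer _)) (le_inf inf_le_left h1)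
  rw [map_center]
  by_cases h : center S ≤ Q
  · exact Or.inl (by rw [← h2, inf_of_le_right h])
  · have h3 : Q ⊔ center S = ⊤ := (PGBasic.isCoatom_of_index_prime hp hQi).2 _ (left_lt_sup.2 h)
    refine Or.inr ⟨h3, ?_⟩
    rw [← card_inf_mul_relIndex Q, h2, hE.2.2.2, ← relIndex_sup_left, h3, relIndex_top_right, hQi, sq]

end Cfsg.Agent.S3808
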