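import Cfsg.Statements.S3809
import Cfsg.Agent.Lib.Solv.PX1

set_option autoImplicit false
open Cfsg

namespace Cfsg.Agent.S3809

open Subgroup CA CA.BG CA.PX
open scoped commutatorElement

/-- Let S be a finite p-group with an extraspecial subgroup of index p. Then S has order p^(2+2n) for some n ≥ 1, derived length at most 3, and exponent dividing p³. -/
theorem result {S : Type*} [Group S] [Finite S] (p : ℕ) [Fact p.Prime] (hS : IsPGroup p S) (Q : Subgroup S) (hQ : Cfsg.IsExtraspecial p ↥Q) (hQi : Q.index = p) :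
    (∃ n : ℕ, 1 ≤ n ∧ Nat.card S = p ^ (2 + 2 * n)) ∧ derivedSeries S 3 = ⊥ ∧ ∀ x : S, x ^ (p ^ 3) = 1 := by
  have hp := (Fact.out : p.Prime)
  have hE := extra_of hQ hp
  haveI := PGBasic.normal_of_index_eq hS hQi
  obtain ⟨n, h1, h2⟩ := card_extra hp hE
  refine ⟨⟨n, h1, by rw [← Q.index_mul_card, hQi, h2]; ring⟩, ?_, fun x => ?_⟩
  · have h3 : derivedSeries S 1 ≤ Q := by
      exact (PGBasic.commutator_le_of_relIndex hS le_top (by rwa [relIndex_top_right]) :
        ⁅(⊤ : Subgroup S), (⊤ : Subgroup S)⁆ ≤ Q)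
    rw [derivedSeries_succ _ 2, derivedSeries_succ _ 1]
    exact BG.eq_bot_mono (der_mono ((der_mono h3).trans hE.2.2.1.le))
      (comm_iff_der_eq_bot.1 (comm_center Q))
  · have h3 : x ^ p ∈ Q := hQi ▸ pow_index_mem Q x
    have h4 := hE.2.1.le (pow_mem_Phi hp hE.1 h3)
    rw [show p ^ 3 = p * p * p by ring, pow_mul, pow_mul, ← orderOf_dvd_iff_pow_eq_one]
    exact (orderOf_dvd_card_of_mem h4).trans hE.2.2.2.dvd

end Cfsg.Agent.S3809
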