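import Cfsg.Statements.S3810
import Cfsg.Agent.Lib.Solv.PX1

set_option autoImplicit false
open Cfsg

namespace Cfsg.Agent.S3810

open Subgroup CA CA.BG CA.PX
open scoped commutatorElement

/-- Let S be a finite p-group with an extraspecial subgroup of index p. Then S has an abelian subgroup of index p if and only if S has order p⁴. -/
theorem result {S : Type*} [Group S] [Finite S] (p : ℕ) [Fact p.Prime] (hS : IsPGroup p S) (Q : Subgroup S) (hQ : Cfsg.IsExtraspecial p ↥Q) (hQi : Q.index = p) :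
    (∃ A : Subgroup S, IsMulCommutative ↥A ∧ A.index = p) ↔ Nat.card S = p ^ 4 := by
  have hp := (Fact.out : p.Prime)
  have hE := extra_of hQ hp
  haveI := PGBasic.normal_of_index_eq hS hQi
  have hna := not_comm_of_extra hp hE
  have hc : Nat.card S = p * ♯Q := by rw [← Q.index_mul_card, hQi]
  refine ⟨fun ⟨A, hA, hAi⟩ => ?_, fun h => ?_⟩
  · haveI := PGBasic.normal_of_index_eq hS hAi
    have h1 : (A ⊓ Q).relIndex Q = p := by
      rw [inf_relIndex_right]
      exact ((Nat.dvd_prime hp).1 (hAi ▸ relIndex_dvd_index_of_normal A Q)).resolve_left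
        fun h => hna (comm_of_le hA (relIndex_eq_one.1 h))
    obtain ⟨h2, h3⟩ := abel_max hp (comm_of_le hA inf_le_left) inf_le_right
      (norm_inf (top_le_norm _ _) le_normalizer) h1 hna
    rw [hc, ← card_mul_relIndex (inf_le_right : A ⊓ Q ≤ Q), ← card_mul_relIndex h2, h1, h3,
      hE.2.2.1, hE.2.2.2]
    ring
  · haveI : (𝓩(Q) : Subgroup S).Normal := normalizer_eq_top_iff.1 (top_le_iff.1
      ((top_le_norm Q ⊤).trans (norm_center Q)))
    have h1 : 𝓩(Q) ≤ center S := PGBasic.le_center_of_card_eq hS hE.2.2.2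
    obtain ⟨x, hx, h2, h3, h4⟩ := PGBasic.exists_layer_pow_top hS (M := Q) (N := 𝓩(Q))
      fun h => hna (comm_of_le (comm_center Q) h)
    have h5 : 𝓒₁(x).index = p := by
      rw [← relIndex_top_right]
      exact relIndex_cent1_eq hp hE.2.2.2 (cent_symm (h1.trans (center_le_centralizer _)))
        (fun g _ => h4 g) fun h => h2 ⟨hx, cent_anti le_top (le_cent1_iff.1 h)⟩
    refine ⟨_, ?_, h5⟩
    have h6 : ♯(𝓩(Q) ⊔ zpowers x) = p * p := by
      rw [PGBasic.card_sup_zpowers hp (top_le_norm _ ⊤ (mem_top x)) h2 h3, hE.2.2.2]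
    have h7 : 𝓩(Q) ⊔ zpowers x ≤ 𝓒(𝓒₁(x)) := sup_le (h1.trans (center_le_centralizer _))
      (cent_symm (cent_zpowers x).ge)
    have h8 : 𝓩(Q) ⊔ zpowers x ≤ 𝓒₁(x) := sup_le (h1.trans (center_le_centralizer _))
      (zpowers_le.2 (mem_cent1_self x))
    have h9 : (𝓩(Q) ⊔ zpowers x).relIndex 𝓒₁(x) = p := by
      have := 𝓒₁(x).index_mul_card
      rw [h5, ← card_mul_relIndex h8, h6, h, show p ^ 4 = p * (p * p * p) by ring] at this
      exact Nat.eq_of_mul_eq_mul_left (Nat.mul_pos hp.pos hp.pos)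
        (Nat.eq_of_mul_eq_mul_left hp.pos this)
    obtain ⟨y, hy, -, h10⟩ := BG4.exists_sup_zpowers hp h8 h9
    rw [← h10]
    exact comm_sup (comm_iff_le_cent.2 (h7.trans (cent_anti h8))) (comm_of_cyclic (cyc_zpowers y))
      (h7.trans (cent_anti (zpowers_le.2 hy)))

end Cfsg.Agent.S3810
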