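import Cfsg.Statements.S3811
import Cfsg.Agent.Lib.Grp.H8Soft

set_option autoImplicit false
open Cfsg

namespace Cfsg.Agent.S3811

open CA.BG CA.H8Soft

/-- Let P be a finite p-group and E an abelian subgroup of P that contains its centralizer, has index p in its normalizer, and has index at least p² in P. Then the subgroups of P containing E are totally ordered by inclusion, each proper one has index p in its normalizer (so they form the normalizer tower of E, with all steps of index p), and the i-th member of the tower above E has nilpotency class i + 1 whenever it is a proper subgroup of P. -/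
theorem result {P : Type*} [Group P] [Finite P] (p : ℕ) [Fact p.Prime] (hP : IsPGroup p P)
    (E : Subgroup P) (hEab : IsMulCommutative ↥E) (hC : Subgroup.centralizer (E : Set P) ≤ E)
    (hN : (E.subgroupOf (Subgroup.normalizer (E : Set P))).index = p) (hidx : p ^ 2 ≤ E.index) :
    (∀ K L : Subgroup P, E ≤ K → E ≤ L → K ≤ L ∨ L ≤ K) ∧
      (∀ K : Subgroup P, E ≤ K → K ≠ ⊤ → (K.subgroupOf (Subgroup.normalizer (K : Set P))).index = p) ∧
      ∀ (i : ℕ) (K : Subgroup P) [Group.IsNilpotent ↥K], E ≤ K → K ≠ ⊤ → K.index * p ^ i = E.index →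
        Group.nilpotencyClass ↥K = i + 1 := by
  have hp : p.Prime := Fact.out
  have hG : IsPi {p} (⊤ : Subgroup P) := (isPi_iff_isPGroup hp).2 (hP.to_subgroup ⊤)
  have h2 : ∀ K : Subgroup P, E ≤ K → K ≠ ⊤ → K.relIndex (Subgroup.normalizer (K : Set P)) = p := fun K a b => by
    obtain ⟨n, hn⟩ := hP.index E
    obtain ⟨i, -, hi⟩ := (Nat.dvd_prime_pow hp).1 (hn ▸ Dvd.intro _ (Subgroup.relIndex_mul_index a))
    exact (main hp i hG hEab hC hN a b hi).1
  refine ⟨fun K L a b => chain hp hG fun c => h2 _ (le_inf a b) (ne_top_of_lt c), h2, fun i K _ a b c => ?_⟩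
  refine (main hp i hG hEab hC hN a b ?_).2
  have := Subgroup.relIndex_mul_index a
  rw [← c, mul_comm] at this
  exact Nat.eq_of_mul_eq_mul_left (Nat.pos_of_ne_zero Subgroup.FiniteIndex.index_ne_zero) this

end Cfsg.Agent.S3811
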