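import Cfsg.Statements.S3814
import Cfsg.Agent.Lib.Loc.H29Tri2
import Cfsg.Agent.S3633

set_option autoImplicit false
open Cfsg

namespace Cfsg.Agent.S3814

open CA.BG CA.H29Tri

theorem ord3 {G : Type*} [Group G] {a b : G} {m n : ℕ} (ha : orderOf a = m) (hb : orderOf b = n)
    (hc : Commute a b) (h : m.Coprime n) : orderOf (a * b) = m * n := by
  rw [hc.orderOf_mul_eq_mul_orderOf_of_coprime (by rwa [ha, hb]), ha, hb]

theorem nt_elt {G : Type*} [Group G] [Finite G] {p : ℕ} {X : Subgroup G} (h : NT p X) :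
    ∃ x ∈ X, orderOf x = p :=
  exists_orderOf_eq (h.pi.prime_of_ne_bot h.ne) (h.pi.dvd_card h.ne)


/-- A criterion for nonsolvability from element orders: let G be a finite group and σ a set of at least four primes such that for all distinct p, q ∈ σ the product pq is the order of some element of G, while for all pairwise distinct p, q, r ∈ σ no element of G has order pqr. Then G is not solvable. -/
theorem result {G : Type*} [Group G] [Finite G]
    (σ : Finset ℕ) (hσ : 4 ≤ σ.card) (hprime : ∀ p ∈ σ, p.Prime)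
    (h2 : ∀ p ∈ σ, ∀ q ∈ σ, p ≠ q → ∃ g : G, orderOf g = p * q)
    (h3 : ∀ p ∈ σ, ∀ q ∈ σ, ∀ r ∈ σ, p ≠ q → q ≠ r → p ≠ r → ∀ g : G, orderOf g ≠ p * q * r) :
    ¬ Group.IsSolvable G := by
  intro hsol
  classical
  have cop : ∀ {p q : ℕ}, p ∈ σ → q ∈ σ → p ≠ q → p.Coprime q := fun hp hq h =>
    (Nat.coprime_primes (hprime _ hp) (hprime _ hq)).2 h
  have C : Ctx (σ : Set ℕ) G := by
    refine ⟨hsol, fun t ht => hprime t ht, ?_, ?_⟩
    · intro p q r hp hq hr pq pr qr X Y Z hX hY hZ c1 c2 c3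
      obtain ⟨x, hx, ox⟩ := nt_elt hX
      obtain ⟨y, hy, oy⟩ := nt_elt hY
      obtain ⟨z, hz, oz⟩ := nt_elt hZ
      have e1 : Commute x y := (mem_cent.1 (c1 hx) y hy).symm
      have e2 : Commute x z := (mem_cent.1 (c2 hx) z hz).symm
      have e3 : Commute y z := (mem_cent.1 (c3 hy) z hz).symm
      exact h3 p hp q hq r hr pq qr pr (x * y * z) (ord3 (ord3 ox oy e1 (cop hp hq pq)) oz
        (e2.mul_left e3) (Nat.Coprime.mul_left (cop hp hr pr) (cop hq hr qr)))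
    · intro p q r s hp hq hr hs pq pr ps qr qs rs X Y Z W hX hY hZ hW c1 c2 c3
      obtain ⟨x, hx, ox⟩ := nt_elt hX
      have hd : ∀ {u : ℕ} {T : Subgroup G}, NT u T → T ≤ 𝓒(X) → u ∣ Nat.card ↥(𝓒₁(x)) :=
        fun hT c => (hT.pi.dvd_card hT.ne).trans (card_dvd (c.trans (cent_le_cent1 hx)))
      have hm : ∀ u ∈ ({q, r, s} : Finset ℕ), u ∈ σ ∧ p ≠ u ∧ u ∣ Nat.card ↥(𝓒₁(x)) := by
        intro u hu
        simp only [Finset.mem_insert, Finset.mem_singleton] at hu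
        rcases hu with rfl | rfl | rfl
        exacts [⟨hq, pq, hd hY c1⟩, ⟨hr, pr, hd hZ c2⟩, ⟨hs, ps, hd hW c3⟩]
      refine (Cfsg.Agent.S3633.result (G := ↥(𝓒₁(x))) {q, r, s}
        (Finset.card_eq_three.2 ⟨q, r, s, qr, qs, rs, rfl⟩).ge
        ⟨fun u hu => ⟨hprime u (hm u hu).1, (hm u hu).2.2⟩, ?_⟩ ⊥ inferInstance).2 inferInstance
      rintro u hu v hv uv ⟨g, hg⟩
      obtain ⟨a1, a2, -⟩ := hm u hu
      obtain ⟨b1, b2, -⟩ := hm v hv
      refine h3 p hp u a1 v b1 a2 uv b2 (x * g) ?_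
      rw [mul_assoc]
      exact ord3 ox ((Subgroup.orderOf_coe g).trans hg) (mem_cent1.1 g.2).symm
        (Nat.Coprime.mul_right (cop hp a1 a2) (cop hp b1 b2))
  obtain ⟨τ, hτ, hc⟩ := Finset.exists_subset_card_eq hσ
  obtain ⟨p, τ', hp, rfl, hc'⟩ := Finset.card_eq_succ.1 hc
  obtain ⟨q, r, s, qr, qs, rs, rfl⟩ := Finset.card_eq_three.1 hc'
  simp only [Finset.mem_insert, Finset.mem_singleton, not_or] at hp
  refine main C (p := p) (q := q) (r := r) (s := s) ⟨hτ (by simp), hτ (by simp), hτ (by simp),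
    hτ (by simp), hp.1, hp.2.1, hp.2.2, qr, qs, rs⟩ ?_
  intro x hx y hy xy
  obtain ⟨g, hg⟩ := h2 x hx y hy xy
  have px := hprime x hx
  have py := hprime y hy
  have o1 : orderOf (g ^ y) = x := by
    rw [orderOf_pow_of_dvd py.ne_zero (hg ▸ dvd_mul_left y x), hg, Nat.mul_div_cancel _ py.pos]
  have o2 : orderOf (g ^ x) = y := by
    rw [orderOf_pow_of_dvd px.ne_zero (hg ▸ dvd_mul_right x y), hg, Nat.mul_div_cancel_left _ px.pos]
  refine ⟨Subgroup.zpowers (g ^ y), Subgroup.zpowers (g ^ x), by rw [Nat.card_zpowers, o1],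
    nt_card py (by rw [Nat.card_zpowers, o2]), ?_⟩
  rw [cent_zpowers, Subgroup.zpowers_le, mem_cent1]
  exact (Commute.refl g).pow_pow x y

end Cfsg.Agent.S3814
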