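import Cfsg.Statements.S3824
import Cfsg.Agent.Lib.Solv.SS4

set_option autoImplicit false
open Cfsg

namespace Cfsg.Agent.S3824

open Subgroup CA CA.BG

/-- Every finite group having an abelian subgroup whose index is a power of 2 is solvable. -/
theorem result {G : Type*} [Group G] [Finite G]
    (A : Subgroup G) (hA : IsMulCommutative A) (hidx : ∃ k : ℕ, A.index = 2 ^ k) : Group.IsSolvable G := by
  obtain ⟨k, hk⟩ := hidx
  obtain ⟨P, hP⟩ := syl_exists Nat.prime_two (⊤ : Subgroup G)
  refine kegel_wielandt (nil_of_comm hA) (hP.pi.isNilpotent Nat.prime_two) fun g =>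
    (exists_mul_of_cop le_top le_top ?_ (mem_top g)).imp fun a h =>
      h.imp_right fun h => h.imp fun b h => h.imp_right Eq.symm
  rw [relIndex_top_right, hk]
  exact Nat.Coprime.pow_left k ((Nat.Prime.coprime_iff_not_dvd Nat.prime_two).2
    (hP.not_dvd Nat.prime_two))

end Cfsg.Agent.S3824
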