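import Cfsg.Statements.S3862
import Cfsg.Agent.Lib.Grp.Fus3

set_option autoImplicit false
open Cfsg

namespace Cfsg.Agent.S3862

open Subgroup CA.SylIn CA.Fus2 CA.Hyperfocal

/-- If every 2-element of the finite group G that is conjugate to its inverse lies in the centre of G, then G has a normal 2-complement. -/
theorem result {G : Type*} [Group G] [Finite G] (h : ∀ x : G, (∃ j : ℕ, orderOf x = 2 ^ j) → IsConj x x⁻¹ → x ∈ Subgroup.center G) : Cfsg.HasNormalPComplement 2 G := by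
  refine hasNPC_iff_forall_pgroup.2 fun Q hQ g hg ho => mem_centralizer_of_omega hQ hg ho ?_
  have h' : ∀ x ∈ Q, IsConj x x⁻¹ → x ∈ center G := fun x hx hc => by
    obtain ⟨k, hk⟩ := exists_pow_eq_one hQ hx
    obtain ⟨j, -, hj⟩ := (Nat.dvd_prime_pow Nat.prime_two).1 (orderOf_dvd_of_pow_eq_one hk)
    exact h x ⟨j, hj⟩ hc
  intro v hv hs
  have h4 : v ^ 2 * v ^ 2 = 1 := by
    rcases hs with hs | ⟨-, hs⟩
    · rw [hs, one_mul]
    · rw [← pow_add, hs]
  have h1 := mem_center_iff.1 (h' _ (pow_mem hv 2) (by rw [inv_eq_of_mul_eq_one_right h4])) g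
  set u := g * v * g⁻¹ with hu
  have h2 : u * u = v * v := by rw [← sq, ← sq, hu, conj_pow, h1, mul_inv_cancel_right]
  have h3 : v * (u * v⁻¹) * v⁻¹ = (u * v⁻¹)⁻¹ := by
    calc v * (u * v⁻¹) * v⁻¹ = v * u * (v * v)⁻¹ := by group
      _ = _ := by rw [← h2]; group
  have h5 := mem_center_iff.1 (h' _ (mul_mem (conj_mem_of_mem_normalizer hg hv) (inv_mem hv))
    (isConj_iff.2 ⟨v, h3⟩))
  rw [← hu] at h5
  set x := u * v⁻¹ with hx
  rw [h5 v, mul_inv_cancel_right] at h3
  have h6 : g * v * g⁻¹ = x * v := by rw [hx, inv_mul_cancel_right]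
  have h7 : g ^ 2 ∈ centralizer ({v} : Set G) := by
    rw [mem_centralizer_singleton_iff, ← mul_inv_eq_iff_eq_mul]
    calc g ^ 2 * v * (g ^ 2)⁻¹ = g * (g * v * g⁻¹) * g⁻¹ := by rw [sq]; group
      _ = (g * x) * v * g⁻¹ := by rw [h6]; group
      _ = x * (g * v * g⁻¹) := by rw [h5 g]; group
      _ = x * x * v := by rw [h6, mul_assoc x x v]
      _ = v := by rw [mul_eq_one_iff_eq_inv.2 h3, one_mul]
  obtain ⟨m, hm⟩ := exists_pow_eq_self_of_coprime (x := g) ho.symm
  have h8 := pow_mem h7 m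
  rw [hm, mem_centralizer_singleton_iff] at h8
  rw [hu, h8, mul_inv_cancel_right]

end Cfsg.Agent.S3862
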