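import Cfsg.Statements.S3869
import Cfsg.Agent.Lib.Solv.PX2

set_option autoImplicit false
open Cfsg

namespace Cfsg.Agent.S3869

open Subgroup CA CA.BG CA.PX

/-- Let p and q be distinct primes and G a finite non-abelian group with a normal elementary abelian q-subgroup A that is a minimal normal subgroup of G and has index p. Then A has order q^e with e the multiplicative order of q modulo p, and G is minimal non-p-closed: its Sylow p-subgroups are not normal, while in every proper subgroup and in every proper quotient of G the Sylow p-subgroups are normal. -/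
theorem result {G : Type*} [Group G] [Finite G] {p q : ℕ} [Fact p.Prime] (hq : q.Prime) (hpq : q ≠ p)
    (hna : ¬ IsMulCommutative G) (A : Subgroup G) [A.Normal] (hA : Cfsg.IsElementaryAbelian q A) (hidx : A.index = p)
    (hmin : ∀ B : Subgroup G, B.Normal → B ≤ A → B = ⊥ ∨ B = A) :
    Nat.card ↥A = q ^ orderOf (q : ZMod p) ∧ ¬ Cfsg.IsPClosed p G ∧ (∀ H : Subgroup G, H ≠ ⊤ → Cfsg.IsPClosed p ↥H) ∧
      ∀ (N : Subgroup G) [N.Normal], N ≠ ⊥ → Cfsg.IsPClosed p (G ⧸ N) := by
  have hp := (Fact.out : p.Prime)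
  have hna' : ¬ IsMulCommutative (⊤ : Subgroup G) := fun h => hna ⟨⟨fun a b =>
    congrArg Subtype.val (h.1.1 ⟨a, mem_top a⟩ ⟨b, mem_top b⟩)⟩⟩
  have hA' : IsPi {p}ᶜ A := (isPi_of_elem hq hA).ne hpq
  have k1 : ∀ y ∉ A, A ⊔ zpowers y = ⊤ := fun y hy =>
    PGBasic.sup_zpowers_eq_top_of_index_prime hp hidx hy
  have k2 : ∀ y ∉ A, y ∉ 𝓒(A) := fun y hy h => hna' (k1 y hy ▸ comm_sup hA.1 inferInstance
    (cent_symm (zpowers_le.2 h)))
  have k3 : ∀ y, orderOf y = p → y ∉ A := fun y ho h =>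
    (isPi_compl_iff hp).1 hA' (ho ▸ orderOf_dvd_card_of_mem h)
  have k4 : ∀ y ∉ A, ∀ B ≤ A, y ∈ 𝓝(B) → B = ⊥ ∨ B = A := fun y hy B h1 h2 =>
    hmin B (normalizer_eq_top_iff.1 (top_le_iff.1 ((k1 y hy).ge.trans
      (sup_le (norm_of_comm hA.1 h1) (zpowers_le.2 h2))))) h1
  obtain ⟨x, hx⟩ := exists_prime_orderOf_dvd_card' p (hidx ▸ A.index_dvd_card)
  have hX : IsPi {p} (zpowers x) := isPi_of_card_eq hp (by rw [Nat.card_zpowers, hx])
  refine ⟨card_eq_of_irr hq hpq hA (top_le_norm A ⊤ (mem_top x)) hx (k2 x (k3 x hx))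
    (k4 x (k3 x hx)), fun h => ?_, fun H hH => ?_, fun N _ hN => ?_⟩
  · obtain ⟨S, hS⟩ := HH.le_sylow hp hX
    haveI := h S
    exact k2 x (k3 x hx) (cent_of_norm_cop (top_le_norm _ _) (top_le_norm _ _)
      ((isPi_of_isPGroup hp S.isPGroup').coprime hA') (hS (mem_zpowers x)))
  · by_cases h : p ∣ ♯H
    · obtain ⟨y, hy, ho⟩ := exists_orderOf_eq hp h
      rcases k4 y (k3 y ho) (A ⊓ H) inf_le_left
        (norm_inf (top_le_norm A H) le_normalizer hy) with h1 | h1
      · refine closed_of_pgroup (IsPGroup.of_card_dvd_pow (n := 1) ?_)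
        rw [← card_inf_mul_relIndex A H, h1, card_bot, one_mul, pow_one, ← hidx]
        exact relIndex_dvd_index_of_normal A H
      · exact absurd (top_le_iff.1 ((k1 y (k3 y ho)).ge.trans
          (sup_le (h1.ge.trans inf_le_right) (zpowers_le.2 hy)))) hH
    · exact closed_of_not_dvd h
  · rcases hmin (A ⊓ N) inferInstance inf_le_left with h1 | h1
    · obtain ⟨y, hy, h2⟩ := exists_ne_one hN
      exact absurd (cent_of_norm_disjoint (top_le_norm A N) (top_le_norm N A)
        (by rw [inf_comm, h1]) hy) (k2 y fun h => h2 (mem_bot.1 (h1.le ⟨h, hy⟩)))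
    · refine closed_of_pgroup (IsPGroup.of_card_dvd_pow (n := 1) ?_)
      rw [pow_one, ← hidx]
      exact index_dvd_of_le (h1.ge.trans inf_le_right)

end Cfsg.Agent.S3869
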