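import Cfsg.Statements.S3868
import Cfsg.Agent.S3869

set_option autoImplicit false
open Cfsg

namespace Cfsg.Agent.S3868

open Subgroup CA CA.BG CA.PX

/-- Structure of the non-simple minimal non-p-closed groups. Call a finite group p-closed when its Sylow p-subgroups are normal, and minimal non-p-closed when it is not p-closed but every proper subgroup and every proper quotient is. If such a group G is not simple, then there is a prime q ≠ p such that G has order p · q^e, where e is the multiplicative order of q modulo p, and G has a normal subgroup A of order q^e that is elementary abelian and is a minimal normal subgroup of G (so G is the semidirect product of A by a group of order p acting irreducibly). -/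
theorem result {G : Type*} [Group G] [Finite G] {p : ℕ} [Fact p.Prime]
    (hnc : ¬ Cfsg.IsPClosed p G) (hsub : ∀ H : Subgroup G, H ≠ ⊤ → Cfsg.IsPClosed p ↥H)
    (hquo : ∀ (N : Subgroup G) [N.Normal], N ≠ ⊥ → Cfsg.IsPClosed p (G ⧸ N)) (hns : ¬ IsSimpleGroup G) :
    ∃ q : ℕ, q.Prime ∧ q ≠ p ∧ Nat.card G = p * q ^ orderOf (q : ZMod p) ∧
      ∃ A : Subgroup G, A.Normal ∧ Nat.card ↥A = q ^ orderOf (q : ZMod p) ∧ Cfsg.IsElementaryAbelian q A ∧
        ∀ B : Subgroup G, B.Normal → B ≤ A → B = ⊥ ∨ B = A := by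
  have hp := (Fact.out : p.Prime)
  obtain ⟨P, hP⟩ := syl_exists hp (⊤ : Subgroup G)
  have hPn : ¬ ⊤ ≤ 𝓝(P) := fun h => hnc (closed_of_norm hP h)
  haveI : Nontrivial G := by
    by_contra h
    rw [not_nontrivial_iff_subsingleton] at h
    exact hPn (Subsingleton.elim _ _).le
  obtain ⟨N, hN, h1, h2⟩ : ∃ N : Subgroup G, N.Normal ∧ N ≠ ⊥ ∧ N ≠ ⊤ := by
    by_contra h
    push Not at h
    exact hns ⟨fun N hN => or_iff_not_imp_left.2 (h N hN)⟩
  obtain ⟨A, hAN, hA⟩ := exists_minNormal (top_le_norm N ⊤) h1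
  haveI : A.Normal := normalizer_eq_top_iff.1 (top_le_iff.1 hA.2.1)
  have h3 : A ≠ ⊤ := fun h => h2 (top_le_iff.1 (h ▸ hAN))
  have hmin : ∀ B : Subgroup G, ⊤ ≤ 𝓝(B) → B ≤ A → B = ⊥ ∨ B = A := fun B h4 h5 =>
    or_iff_not_imp_left.2 fun h6 => hA.2.2 _ h5 h6 h4
  have h4 : P ⊔ A = ⊤ := by
    by_contra h
    haveI := normal_sup_of_closed (hquo A hA.1) hP
    have h5 := hP.of_le le_sup_left (le_top : P ⊔ A ≤ ⊤)
    exact hPn ((top_le_norm _ _).trans (h5.norm_of_normal (norm_of_closed hp (hsub _ h) h5)))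
  have h5 : IsPi {p}ᶜ A := by
    have h6 := hP.inf_normal le_top (top_le_norm A P)
    rcases hmin _ ((top_le_norm A ⊤).trans (h6.norm_of_normal (norm_of_closed hp (hsub A h3) h6)))
      inf_le_right with h | h
    · exact (h ▸ h6).isPi_compl_of_eq_bot
    · exact absurd (h4.ge.trans (sup_le le_normalizer (le_norm_of_le (h.ge.trans inf_le_left)))) hPn
  have h6 : ∀ Q ≤ A, ∀ R ≤ P, R ≤ 𝓝(Q) → R ⊔ Q ≠ ⊤ → Q ≤ 𝓒(R) := fun Q hQ R hR hn h =>
    cent_of_norm_cop (le_sup_right.trans (norm_of_closed hp (hsub _ h)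
      (hall_sup_normal (hP.pi.of_le hR) hn (h5.of_le hQ)))) hn
      ((h5.of_le hQ).coprime' (hP.pi.of_le hR))
  have h7 : ¬ A ≤ 𝓒(P) := fun h => hPn (h4.ge.trans (sup_le le_normalizer (norm_of_cent h)))
  obtain ⟨q, hq, hd, h8⟩ : ∃ q, q.Prime ∧ q ∣ ♯A ∧ IsPi {q} A := by
    by_contra h
    refine h7 (le_of_forall_syl fun q hq hd => ?_)
    obtain ⟨Q, hQ, hn⟩ := coprime_Sylow_exists hq (top_le_norm A P) (h5.coprime' hP.pi)
      (Or.inl (hP.pi.isSolvable hp))
    refine ⟨Q, hQ, h6 Q hQ.le P le_rfl hn fun h8 => h ⟨q, hq, hd, ?_⟩⟩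
    have := sup_inf_of_le_right hn hQ.le
    rw [h8, top_inf_eq, hP.pi.inf_eq_bot h5, bot_sup_eq] at this
    exact this ▸ hQ.pi
  obtain ⟨r, hr, hE⟩ := hA.elem (h8.isSolvable hq)
  obtain rfl : r = q := (isPi_of_elem hr hE).mem_of_ne_bot hA.1 h8
  have hqp : r ≠ p := h5 r hq hd
  have h9 : P ⊓ 𝓒(A) = ⊥ := by
    by_contra h
    haveI : (P ⊓ 𝓒(A)).Normal := normalizer_eq_top_iff.1 (top_le_iff.1 (h4.ge.trans (sup_le
      (norm_inf le_normalizer (norm_cent (top_le_norm A P))) (norm_of_cent (cent_symm inf_le_right)))))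
    have := normal_sup_of_closed (hquo _ h) hP
    rw [sup_of_le_left inf_le_left] at this
    exact hPn (top_le_norm P ⊤)
  obtain ⟨X, hX, h10⟩ := hP.pi.exists_card_eq fun h => hPn (h ▸ top_le_norm ⊥ ⊤)
  have h11 : X ⊔ A = ⊤ := by
    by_contra h
    exact ne_bot_of_prime (h10 ▸ hp) (BG.eq_bot_mono
      (le_inf hX (cent_symm (h6 A le_rfl X hX (top_le_norm A X) h))) h9)
  have h12 : A.index = p := by
    rw [← relIndex_top_right, ← h11, relIndex_sup_right, ← h10, ← card_inf_mul_relIndex A X,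
      h5.inf_eq_bot' (hP.pi.of_le hX), card_bot, one_mul]
  have h13 := (S3869.result hq hqp (fun h => hPn (norm_of_comm inferInstance le_top)) A hE h12
    fun B hB => hmin B (top_le_norm B ⊤)).1
  exact ⟨r, hq, hqp, by rw [← A.index_mul_card, h12, h13], A, ‹_›, h13, hE,
    fun B hB => hmin B (top_le_norm B ⊤)⟩

end Cfsg.Agent.S3868
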