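import Cfsg.Statements.S3870
import Cfsg.Agent.Lib.Loc.AmbSyl
import Cfsg.Agent.Lib.Loc.H6Basic

set_option autoImplicit false
open Cfsg

namespace Cfsg.Agent.S3870

open Subgroup CA.AmbSyl

/-- Let G be a finite simple group whose Sylow p-subgroups are not normal but such that every proper subgroup of G has a normal Sylow p-subgroup. Then any two distinct Sylow p-subgroups of G intersect trivially, and for every Sylow p-subgroup P the normalizer of every non-identity subgroup of P lies in the normalizer of P. -/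
theorem result {G : Type*} [Group G] [Finite G] [IsSimpleGroup G] {p : ℕ} [Fact p.Prime]
    (hnc : ¬ Cfsg.IsPClosed p G) (hsub : ∀ H : Subgroup G, H ≠ ⊤ → Cfsg.IsPClosed p ↥H) :
    (∀ P Q : Sylow p G, P ≠ Q → (P : Subgroup G) ⊓ (Q : Subgroup G) = ⊥) ∧
      ∀ (P : Sylow p G) (R : Subgroup G), R ≤ P → R ≠ ⊥ →
        Subgroup.normalizer (R : Set G) ≤ Subgroup.normalizer ((P : Subgroup G) : Set G) := by
  have key : ∀ H T : Subgroup G, H ≠ ⊤ → SylIn p T H → H ≤ normalizer (T : Set G) := fun H T h hT =>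
    le_normalizer_of_normal_subgroupOf (hK := hT.coe_toSylow ▸ hsub H h hT.toSylow) hT.le
  have hN : ∀ R : Subgroup G, IsPGroup p R → R ≠ ⊥ → normalizer (R : Set G) ≠ ⊤ := fun R hR h e => by
    rcases (normalizer_eq_top_iff.1 e).eq_bot_or_eq_top with h' | h'
    · exact h h'
    · subst h'
      exact hnc fun P => by rw [← P.is_maximal' hR le_top]; infer_instance
  have h2 : ∀ (n : ℕ) (P Q : Sylow p G) (R : Subgroup G), R.index = n → R ≤ P → R ≤ Q → R ≠ ⊥ →
      P = Q := by
    intro n
    induction n using Nat.strong_induction_on with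
    | _ n ih =>
    intro P Q R hn hP hQ h0
    rcases hP.eq_or_lt with rfl | hP'
    · exact Sylow.ext (P.is_maximal' Q.isPGroup' hQ).symm
    rcases hQ.eq_or_lt with rfl | hQ'
    · exact Sylow.ext (Q.is_maximal' P.isPGroup' hP)
    obtain ⟨T, hT⟩ := exists_sylIn p (normalizer (R : Set G))
    obtain ⟨S, hS⟩ := hT.pg.exists_le_sylow
    have k : ∀ X : Sylow p G, R < X → X = S := fun X hX => by
      have h1 := lt_inf_normalizer X.isPGroup' hX
      exact ih _ (hn ▸ index_strictAnti h1) X S _ rfl inf_le_left ((hT.le_of_norm' X.isPGroup'.to_inf_left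
        inf_le_right (inf_le_right.trans (key _ T (hN R (P.isPGroup'.to_le hP) h0) hT))).trans hS)
        (ne_bot_of_gt h1)
    rw [k P hP', k Q hQ']
  refine ⟨fun P Q hne => by_contra fun h => hne (h2 _ P Q _ rfl inf_le_left inf_le_right h),
    fun P R h h0 g hg => Sylow.smul_eq_iff_mem_normalizer.1 (h2 _ _ P R rfl ?_ h h0)⟩
  rw [← CA.H6Basic.cj_sylow, ← CA.H6Basic.cj_eq_self hg]
  exact CA.H6Basic.cj_mono g h

end Cfsg.Agent.S3870
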