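import Cfsg.Statements.S3872
import Cfsg.Agent.Lib.Grp.H7Max
import Cfsg.Agent.Lib.Grp.H7Reg
import Cfsg.Agent.S0016

set_option autoImplicit false
open Cfsg

namespace Cfsg.Agent.S3872

open Subgroup CA.BG CA.H7Max CA.H7Reg

/-- Say that a finite group is p-exponent closed when its elements of order dividing p form a subgroup. Let G be a finite p-group that is not p-exponent closed, but all of whose proper subgroups and proper quotients are. Then G is generated by two elements, has nilpotency class at least p, has exponent p², has cyclic center, and has order at least p^(p+1). -/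
theorem result {G : Type*} [Group G] [Finite G] {p : ℕ} [Fact p.Prime] (hG : IsPGroup p G)
    (hnc : ¬ (∃ H : Subgroup G, (H : Set G) = {g : G | g ^ p = 1})) (hsub : ∀ K : Subgroup G, K ≠ ⊤ → (∃ H : Subgroup ↥K, (H : Set ↥K) = {g : ↥K | g ^ p = 1}))
    (hquo : ∀ (N : Subgroup G) [N.Normal], N ≠ ⊥ → (∃ H : Subgroup (G ⧸ N), (H : Set (G ⧸ N)) = {g : (G ⧸ N) | g ^ p = 1})) :
    (∃ x y : G, Subgroup.closure ({x, y} : Set G) = ⊤) ∧ (⊤ : Subgroup G).lowerCentralSeries (p - 1) ≠ ⊥ ∧
      Monoid.exponent G = p ^ 2 ∧ IsCyclic ↥(Subgroup.center G) ∧ p ^ (p + 1) ≤ Nat.card G := by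
  have hp : p.Prime := Fact.out
  obtain ⟨x, y, hx, hy, hxy⟩ : ∃ x y : G, x ^ p = 1 ∧ y ^ p = 1 ∧ (x * y) ^ p ≠ 1 := by
    by_contra! k
    exact hnc ⟨⟨⟨⟨{g : G | g ^ p = 1}, fun a b => k _ _ a b⟩, one_pow p⟩, fun {a} (h : a ^ p = 1) =>
      (by rw [inv_pow, h, inv_one] : a⁻¹ ^ p = 1)⟩, rfl⟩
  have h1 : closure ({x, y} : Set G) = ⊤ := by
    by_contra k
    obtain ⟨H, hH⟩ := hsub _ k
    have a : (⟨x, left_mem x y⟩ : closure ({x, y} : Set G)) ∈ (H : Set _) := hH ▸ Subtype.ext hx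
    have b : (⟨y, right_mem x y⟩ : closure ({x, y} : Set G)) ∈ (H : Set _) := hH ▸ Subtype.ext hy
    have c := SetLike.mem_coe.2 (mul_mem a b)
    rw [hH] at c
    exact hxy (congrArg Subtype.val c)
  have h2 : (⊤ : Subgroup G).lowerCentralSeries (p - 1) ≠ ⊥ := fun k =>
    hxy ((wr_of_class k).mul_pow_eq_one hG x y hx hy)
  have h3 : ∀ N : Subgroup G, N ≤ center G → N ≠ ⊥ → ∀ g : G, g ^ p ∈ N := fun N a b g => by
    have : N.Normal := ⟨fun n hn g => by rwa [(mem_center_iff.1 (a hn) g), mul_inv_cancel_right]⟩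
    obtain ⟨H, hH⟩ := hquo N b
    have m : ∀ g : G, g ∈ H.comap (QuotientGroup.mk' N) ↔ g ^ p ∈ N := fun g => by
      rw [mem_comap, ← SetLike.mem_coe, hH, Set.mem_ofPred_eq, ← map_pow]; exact QuotientGroup.eq_one_iff _
    exact (m g).1 (pair_le ((m x).2 (hx ▸ one_mem N)) ((m y).2 (hy ▸ one_mem N)) (h1 ▸ mem_top g))
  have h4 : ∀ N : Subgroup G, N ≤ center G → Nat.card N = p → N = zpowers ((x * y) ^ p) := fun N a b => by
    have c := zpowers_le.2 (h3 N a (fun e => hp.one_lt.ne' (by rw [← b, e, card_bot])) (x * y))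
    refine (eq_of_le_of_card_ge c ?_).symm
    rw [b, (hp.eq_one_or_self_of_dvd _ ((card_dvd_of_le c).trans b.dvd)).resolve_left fun e => hxy (zpowers_eq_bot.1 (card_eq_one.1 e))]
  have : Nontrivial G := ⟨_, _, hxy⟩
  have := hG.center_nontrivial
  obtain ⟨z, hz⟩ := exists_prime_orderOf_dvd_card' (G := center G) p
    ((hG.to_subgroup _).card_eq_or_dvd.resolve_left Finite.one_lt_card.ne')
  rw [← orderOf_coe] at hz
  refine ⟨⟨x, y, h1⟩, h2, ?_, ?_, ?_⟩
  · have a : Monoid.exponent G ∣ p ^ 2 := Monoid.exponent_dvd_of_forall_pow_eq_one fun g => by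
      rw [pow_two, pow_mul, ← orderOf_dvd_iff_pow_eq_one, ← hz]
      exact orderOf_dvd_of_mem_zpowers (hz ▸ h3 _ (zpowers_le.2 z.2) (fun e => hp.one_lt.ne' (by
        rw [← hz, zpowers_eq_bot.1 e, orderOf_one])) g)
    obtain ⟨i, i1, i2⟩ := (Nat.dvd_prime_pow hp).1 a
    rw [i2, le_antisymm i1 (not_lt.1 fun c => hxy (Monoid.exponent_dvd_iff_forall_pow_eq_one.1 (by
      rw [i2]; exact (pow_dvd_pow p (Nat.le_of_lt_succ c)).trans (pow_one p).dvd) _))]
  · rcases Cfsg.Agent.S0016.result p (hG.to_subgroup (center G)) fun H K a b => map_injective (center G).subtype_injective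
      ((h4 _ (map_subtype_le H) ((card_subtype _ H).trans a)).trans (h4 _ (map_subtype_le K) ((card_subtype _ K).trans b)).symm) with
      c | ⟨-, _ | k, ⟨e⟩⟩
    · exact c
    · have := QuaternionGroup.quaternionGroup_one_isCyclic
      exact isCyclic_of_surjective e.symm e.symm.surjective
    · have a := congrArg e (mul_comm' (e.symm (.a 1)) (e.symm (.xa 0)))
      simp only [map_mul, MulEquiv.apply_symm_apply, QuaternionGroup.a_mul_xa, QuaternionGroup.xa_mul_a,
        QuaternionGroup.xa.injEq, zero_sub, zero_add] at a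
      have b : ((2 : ℕ) : ZMod (2 * 2 ^ (k + 1))) = 0 := by
        push_cast; linear_combination -a
      have c := Nat.le_of_dvd two_pos ((ZMod.natCast_eq_zero_iff _ _).1 b)
      have := Nat.pos_of_ne_zero (pow_ne_zero k two_ne_zero)
      omega
  · obtain ⟨m, hm⟩ := IsPGroup.iff_card.1 hG
    have t := isPi_of_card hp hm ⊤
    have p2 := hp.two_le
    have a := it_card hp t t le_normalizer 0 (p - 1) (by rwa [zero_add, it_lcs])
    have b := it_card hp t t le_normalizer 1 (p - 2) (by rwa [show 1 + (p - 2) = p - 1 by omega, it_lcs])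
    replace a := (Nat.le_mul_of_pos_left _ Nat.card_pos).trans a
    replace b := (Nat.le_mul_of_pos_left _ Nat.card_pos).trans b
    change _ ≤ Nat.card (⊤ : Subgroup G) at a
    rw [card_top, hm, Nat.pow_le_pow_iff_right hp.one_lt] at a
    obtain ⟨n, rfl⟩ : ∃ n, m = n + 2 := ⟨m - 2, by omega⟩
    have c := b.trans (card_der_le hp (card_top.trans hm))
    rw [Nat.pow_le_pow_iff_right hp.one_lt] at c
    rw [hm]
    exact Nat.pow_le_pow_right hp.pos (by omega)

end Cfsg.Agent.S3872
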