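import Cfsg.Statements.S3873
import Cfsg.Agent.S3868

set_option autoImplicit false
open Cfsg

namespace Cfsg.Agent.S3873

open Subgroup CA CA.BG CA.PX

/-- Say that a finite group is p-exponent closed when its elements of order dividing p form a subgroup. Let G be a finite group that is not p-exponent closed, but all of whose proper subgroups and proper quotients are, and suppose G is neither simple nor a p-group. Then there is a prime q ≠ p such that G has order p · q^e, where e is the multiplicative order of q modulo p, and G has a normal elementary abelian subgroup of order q^e that is a minimal normal subgroup of G. -/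
theorem result {G : Type*} [Group G] [Finite G] {p : ℕ} [Fact p.Prime]
    (hnc : ¬ (∃ H : Subgroup G, (H : Set G) = {g : G | g ^ p = 1})) (hsub : ∀ K : Subgroup G, K ≠ ⊤ → (∃ H : Subgroup ↥K, (H : Set ↥K) = {g : ↥K | g ^ p = 1}))
    (hquo : ∀ (N : Subgroup G) [N.Normal], N ≠ ⊥ → (∃ H : Subgroup (G ⧸ N), (H : Set (G ⧸ N)) = {g : (G ⧸ N) | g ^ p = 1}))
    (hns : ¬ IsSimpleGroup G) (hnp : ¬ IsPGroup p G) :
    ∃ q : ℕ, q.Prime ∧ q ≠ p ∧ Nat.card G = p * q ^ orderOf (q : ZMod p) ∧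
      ∃ A : Subgroup G, A.Normal ∧ Nat.card ↥A = q ^ orderOf (q : ZMod p) ∧ Cfsg.IsElementaryAbelian q A ∧
        ∀ B : Subgroup G, B.Normal → B ≤ A → B = ⊥ ∨ B = A := by
  have hp := (Fact.out : p.Prime)
  haveI : Nontrivial G := by
    by_contra h
    rw [not_nontrivial_iff_subsingleton] at h
    exact hnp fun x => ⟨0, Subsingleton.elim _ _⟩
  obtain ⟨N, hN, h1, h2⟩ : ∃ N : Subgroup G, N.Normal ∧ N ≠ ⊥ ∧ N ≠ ⊤ := by
    by_contra h
    push Not at h
    exact hns ⟨fun N hN => or_iff_not_imp_left.2 (h N hN)⟩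
  obtain ⟨A, hAN, hA⟩ := exists_minNormal (top_le_norm N ⊤) h1
  haveI : A.Normal := normalizer_eq_top_iff.1 (top_le_iff.1 hA.2.1)
  have h3 : A ≠ ⊤ := fun h => h2 (top_le_iff.1 (h ▸ hAN))
  have k1 : ∀ K : Subgroup G, K ≠ ⊤ → ∃ E : Subgroup G, ∀ x, x ∈ E ↔ x ∈ K ∧ x ^ p = 1 := by
    intro K hK
    obtain ⟨E, hE⟩ := hsub K hK
    refine ⟨E.map K.subtype, fun x => ⟨?_, fun h => ⟨⟨x, h.1⟩, hE.ge (Subtype.ext h.2), rfl⟩⟩⟩
    rintro ⟨y, hy, rfl⟩
    exact ⟨y.2, congrArg Subtype.val (hE.le hy)⟩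
  have h4 : ∀ x : G ⧸ A, x ^ p = 1 := by
    obtain ⟨K, hK⟩ := hquo A hA.1
    by_cases h : K.comap (QuotientGroup.mk' A) = ⊤
    · intro x
      obtain ⟨x, rfl⟩ := QuotientGroup.mk_surjective x
      exact hK.le (h.ge (mem_top x))
    · obtain ⟨E, hE⟩ := k1 _ h
      exact absurd ⟨E, Set.ext fun x => (hE x).trans (and_iff_right_of_imp fun hx => hK.ge
        (show QuotientGroup.mk' A x ^ p = 1 by rw [← map_pow, hx, map_one]))⟩ hnc
  have h5 : ¬ p ∣ ♯A := fun h => by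
    obtain ⟨E, hE⟩ := k1 A h3
    obtain ⟨x, hx, ho⟩ := exists_orderOf_eq hp h
    haveI : E.Normal := ⟨fun y hy g => (hE _).2 ⟨Normal.conj_mem ‹_› y ((hE y).1 hy).1 g, by
      rw [conj_pow, ((hE y).1 hy).2]; simp⟩⟩
    have h5 := hA.2.2 _ (fun y hy => ((hE y).1 hy).1) (ne_bot_of_mem ((hE x).2 ⟨hx, ho ▸
      pow_orderOf_eq_one x⟩) fun h => hp.one_lt.ne (by rw [← ho, h, orderOf_one])) (top_le_norm E ⊤)
    refine hnp fun y => ⟨2, ?_⟩
    rw [sq, pow_mul]
    exact ((hE _).1 (h5.ge ((QuotientGroup.eq_one_iff _).1 (h4 (y : G ⧸ A))))).2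
  have h6 : ∀ x : G, PiNat {p} (orderOf x) → x ^ p = 1 := fun x hx => mem_bot.1
    (((isPi_zpowers.2 hx).inf_eq_bot ((isPi_compl_iff hp).2 h5)).le ⟨pow_mem (mem_zpowers x) p,
      (QuotientGroup.eq_one_iff _).1 (h4 (x : G ⧸ A))⟩)
  refine S3868.result (fun h => ?_) (fun H hH => ?_) (fun M _ hM => ?_) hns
  · obtain ⟨P⟩ := (inferInstance : Nonempty (Sylow p G))
    refine hnc ⟨P, Set.ext fun x => ⟨fun hx => h6 x ((isPi_of_isPGroup hp P.isPGroup').orderOf hx),
      fun hx => (syl_top hp P).mem_of_normal (haveI := h P; top_le_norm _ _) (mem_top x)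
        (((piNat_prime (π := {p}) hp).2 rfl).of_dvd (orderOf_dvd_of_pow_eq_one hx))⟩⟩
  · obtain ⟨E, hE⟩ := hsub H hH
    exact closed_of_exp (fun x hx => Subtype.ext (h6 x (by rwa [orderOf_coe]))) hE
  · obtain ⟨E, hE⟩ := hquo M hM
    refine closed_of_exp (fun x hx => ?_) hE
    obtain ⟨y, hy, rfl⟩ := HH.exists_lift_el hp (QuotientGroup.mk'_surjective M) hx
    rw [← map_pow, h6 y hy, map_one]

end Cfsg.Agent.S3873
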