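import Cfsg.Statements.S3875
import Cfsg.Agent.S0999
import Cfsg.Agent.S3868
import Cfsg.Agent.S0243
import Cfsg.Agent.Lib.Lin.SLnGen
import Cfsg.Agent.Lib.Loc.Amb

set_option autoImplicit false
open Cfsg

namespace Cfsg.Agent.S3875

section Aux
open Cfsg CA Subgroup

theorem card_psl {F : Type} [Field F] [Fintype F] {q : ℕ} (hF : Fintype.card F = q) :
    Nat.gcd 2 (q - 1) * Nat.card (Matrix.ProjectiveSpecialLinearGroup (Fin 2) F) = q * (q ^ 2 - 1) := by
  have h := Cfsg.Agent.S0243.result hF 2 le_rfl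
  have h1 : 1 < q := hF ▸ Fintype.one_lt_card
  rw [Fin.prod_univ_two] at h
  obtain ⟨r, rfl⟩ : ∃ r, q = r + 1 := ⟨q - 1, by omega⟩
  simp only [Fin.val_zero, Fin.val_one, pow_zero, pow_one, add_tsub_cancel_right] at h ⊢
  have e : (r + 1) ^ 2 - (r + 1) = r * (r + 1) := by
    rw [Nat.sub_eq_iff_eq_add (by nlinarith)]; ring
  rw [e] at h
  refine Nat.eq_of_mul_eq_mul_left (show 0 < r by omega) ?_
  rw [mul_left_comm, h]; ring

theorem lower (p : ℕ) [Fact p.Prime] (hp : p ≠ 2) (m : ℕ) (hleast : ∀ k : ℕ, IsPrimePow k → k % p = 1 → m ≤ k) :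
    ∀ (n : ℕ) (H : Type) [Group H] [Finite H], Nat.card H = n → ¬ Cfsg.IsPClosed p H →
      min (p * m) (p * (p ^ 2 - 1) / 2) ≤ n := by
  have pp := (Fact.out : p.Prime)
  intro n
  induction n using Nat.strong_induction_on with | _ n ih =>
  intro H _ _ hn h
  subst hn
  by_cases h1 : ∀ K : Subgroup H, K ≠ ⊤ → Cfsg.IsPClosed p K
  swap
  · push Not at h1
    obtain ⟨K, k1, k2⟩ := h1
    have := (card_top (G := H) ▸ Amb.card_lt_of_lt k1.lt_top : Nat.card K < Nat.card H)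
    exact (ih _ this K rfl k2).trans this.le
  by_cases h2 : ∀ (N : Subgroup H) [N.Normal], N ≠ ⊥ → Cfsg.IsPClosed p (H ⧸ N)
  swap
  · push Not at h2
    obtain ⟨N, _, k1, k2⟩ := h2
    have : Nat.card (H ⧸ N) < Nat.card H := by
      rw [card_eq_card_quotient_mul_card_subgroup N]
      exact lt_mul_of_one_lt_right Nat.card_pos (one_lt_card_iff_ne_bot N |>.2 k1)
    exact (ih _ this _ rfl k2).trans this.le
  by_cases h3 : IsSimpleGroup H
  swap
  · obtain ⟨q, q1, q2, q3, -⟩ := Cfsg.Agent.S3868.result h h1 h2 h3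
    rw [q3]
    have q4 : (q : ZMod p) ≠ 0 := by
      rw [Ne, ZMod.natCast_eq_zero_iff]
      exact fun k => q2 ((Nat.prime_dvd_prime_iff_eq pp q1).1 k).symm
    have q5 : 0 < orderOf (q : ZMod p) :=
      (isOfFinOrder_iff_pow_eq_one.2 ⟨p - 1, by have := pp.two_le; omega, ZMod.pow_card_sub_one_eq_one q4⟩).orderOf_pos
    refine min_le_of_left_le (Nat.mul_le_mul_left _ (hleast _ (q1.isPrimePow.pow q5.ne') ?_))
    have : ((q ^ orderOf (q : ZMod p) : ℕ) : ZMod p) = ((1 : ℕ) : ZMod p) := by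
      rw [Nat.cast_pow, pow_orderOf_eq_one, Nat.cast_one]
    rw [(ZMod.natCast_eq_natCast_iff' _ _ _).1 this, Nat.mod_eq_of_lt pp.one_lt]
  refine min_le_of_right_le (Nat.div_le_of_le_mul ?_)
  by_cases h4 : Nat.card H < p ^ 3
  swap
  · have : p * (p ^ 2 - 1) ≤ p * p ^ 2 := Nat.mul_le_mul_left _ (Nat.sub_le _ _)
    nlinarith
  have h5 : ¬ IsCyclic H := fun c => h fun P => by
    have := c.isMulCommutative
    infer_instance
  rcases Cfsg.Agent.S0999.result h5 p pp (by_contra fun k => h (PX.closed_of_not_dvd k)) h4 with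
    ⟨F, _, _, f1, f2, ⟨e⟩⟩ | ⟨k, F, _, _, f1, f2, f3, ⟨e⟩⟩
  · rw [Nat.card_congr e.toEquiv, ← card_psl f1]
    exact Nat.mul_le_mul_right _ (Nat.gcd_le_left _ two_pos)
  · have h6 := card_psl f1
    have h7 : Nat.gcd 2 (2 ^ k - 1) = 1 := by
      obtain ⟨j, rfl⟩ : ∃ j, k = j + 1 := ⟨k - 1, by
        rcases k with _ | k
        · omega
        · rfl⟩
      have := Nat.one_le_two_pow (n := j)
      refine (Nat.coprime_two_left.2 ⟨2 ^ j - 1, ?_⟩)
      rw [pow_succ]; omega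
    rw [h7, one_mul] at h6
    rw [Nat.card_congr e.toEquiv, h6, f2]
    generalize 2 ^ k = q at *
    have : p ≠ 4 := by rintro rfl; exact absurd pp (by decide)
    obtain ⟨r, rfl⟩ : ∃ r, q = r + 4 := ⟨q - 4, by omega⟩
    rw [show (r + 4 + 1) ^ 2 - 1 = (r + 4) * (r + 6) from Nat.sub_eq_of_eq_add (by ring),
      show (r + 4) ^ 2 - 1 = (r + 3) * (r + 5) from Nat.sub_eq_of_eq_add (by ring)]
    nlinarith [Nat.zero_le (r * r), Nat.zero_le (r * r * r)]

theorem affine (p : ℕ) [Fact p.Prime] (m : ℕ) (hm : IsPrimePow m) (hm1 : m % p = 1) :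
    ∃ (H : Type) (_ : Group H) (_ : Finite H), Nat.card H = p * m ∧ ¬ Cfsg.IsPClosed p H := by
  have pp := (Fact.out : p.Prime)
  obtain ⟨q, k, q1, k1, rfl⟩ := (isPrimePow_nat_iff _).1 hm
  have : Fact q.Prime := ⟨q1⟩
  let F := GaloisField q k
  have c : Nat.card F = q ^ k := GaloisField.card q k k1.ne'
  have d : p ∣ Nat.card Fˣ := by
    rw [Nat.card_units, c]
    exact (Nat.modEq_iff_dvd' (Nat.one_le_pow _ _ q1.pos)).1 (by rw [Nat.ModEq, hm1, Nat.mod_eq_of_lt pp.one_lt])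
  obtain ⟨u, hu⟩ := exists_prime_orderOf_dvd_card' p d
  let φ : zpowers u →* MulAut (Multiplicative F) :=
    (MulAutMultiplicative F).symm.toMonoidHom.comp ((DistribMulAction.toAddAut Fˣ F).comp (zpowers u).subtype)
  have : Finite (Multiplicative F ⋊[φ] zpowers u) := Finite.of_equiv _ SemidirectProduct.equivProd.symm
  refine ⟨Multiplicative F ⋊[φ] zpowers u, inferInstance, this, ?_, fun h => ?_⟩
  · rw [SemidirectProduct.card, Nat.card_zpowers, hu, mul_comm]
    exact congrArg _ c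
  let x : Multiplicative F ⋊[φ] zpowers u := SemidirectProduct.inr ⟨u, mem_zpowers u⟩
  have hx : IsPGroup p (zpowers x) := IsPGroup.of_card (n := 1) (by
    rw [Nat.card_zpowers, orderOf_injective _ SemidirectProduct.inr_injective, ← orderOf_coe, hu, pow_one])
  obtain ⟨P, hP⟩ := hx.exists_le_sylow
  have := h P
  let a : Multiplicative F ⋊[φ] zpowers u := SemidirectProduct.inl (Multiplicative.ofAdd 1)
  have h1 : x * (a * x⁻¹ * a⁻¹) ∈ (P : Subgroup _) :=
    mul_mem (hP (mem_zpowers x)) (this.conj_mem _ (inv_mem (hP (mem_zpowers x))) a)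
  have h2 : x * (a * x⁻¹ * a⁻¹) = SemidirectProduct.inl (Multiplicative.ofAdd ((u : F) - 1)) := by
    rw [← mul_assoc, ← mul_assoc, ← map_inv, ← SemidirectProduct.inl_aut, ← map_inv, ← map_mul]
    congr 1
    change Multiplicative.ofAdd ((u : F) * 1) * _ = _
    simp [sub_eq_add_neg]
  obtain ⟨j, hj⟩ := P.isPGroup' ⟨_, h1⟩
  have h3 : (x * (a * x⁻¹ * a⁻¹)) ^ p ^ j = 1 := congrArg Subtype.val hj
  rw [h2, ← map_pow, ← map_one SemidirectProduct.inl, SemidirectProduct.inl_injective.eq_iff, ← ofAdd_nsmul,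
    ofAdd_eq_one, nsmul_eq_mul, mul_eq_zero, Nat.cast_pow] at h3
  rcases h3 with h3 | h3
  · have h4 := (CharP.cast_eq_zero_iff F q p).1 (pow_eq_zero_iff'.1 h3).1
    obtain rfl := (Nat.prime_dvd_prime_iff_eq q1 pp).1 h4
    rw [Nat.mod_eq_zero_of_dvd (dvd_pow_self q k1.ne')] at hm1
    omega
  · rw [show u = 1 from Units.ext (sub_eq_zero.1 h3), orderOf_one] at hu
    exact pp.one_lt.ne hu

end Aux

open Cfsg CA Subgroup in
/-- Let p be an odd prime and let m be the least prime power congruent to 1 modulo p. Then the least order of a finite group whose Sylow p-subgroups are not normal is the smaller of p · m and p(p² − 1)/2: every finite group whose Sylow p-subgroups are not normal has at least that order, and some group of exactly that order has non-normal Sylow p-subgroups. -/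
theorem result (p : ℕ) [Fact p.Prime] (hp : p ≠ 2) (m : ℕ) (hm : IsPrimePow m) (hm1 : m % p = 1)
    (hleast : ∀ k : ℕ, IsPrimePow k → k % p = 1 → m ≤ k) :
    (∀ (H : Type) [Group H] [Finite H], ¬ Cfsg.IsPClosed p H → min (p * m) (p * (p ^ 2 - 1) / 2) ≤ Nat.card H) ∧
      ∃ (H : Type) (_ : Group H) (_ : Finite H), Nat.card H = min (p * m) (p * (p ^ 2 - 1) / 2) ∧ ¬ Cfsg.IsPClosed p H := by
  have pp := (Fact.out : p.Prime)
  refine ⟨fun H _ _ h => lower p hp m hleast _ H rfl h, ?_⟩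
  rcases le_or_gt (p * m) (p * (p ^ 2 - 1) / 2) with h | h
  · rw [min_eq_left h]; exact affine p m hm hm1
  rw [min_eq_right h.le]
  have h3 : p ≠ 3 := by
    rintro rfl
    have := hleast 4 ((isPrimePow_nat_iff _).2 ⟨2, 2, Nat.prime_two, two_pos, rfl⟩) rfl
    omega
  have h2 := card_psl (ZMod.card p)
  have o := pp.odd_of_ne_two hp
  rw [Nat.gcd_eq_left (by obtain ⟨k, rfl⟩ := o; simp)] at h2
  have n2 : ∀ r : ℕ, r.Prime → r ≠ p → (r : ZMod p) ≠ 0 := fun r r1 r2 k =>
    r2 ((Nat.prime_dvd_prime_iff_eq pp r1).1 ((ZMod.natCast_eq_zero_iff _ _).1 k)).symm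
  have hs : IsSimpleGroup (Matrix.ProjectiveSpecialLinearGroup (Fin 2) (ZMod p)) :=
    CA.SLnGen.isSimpleGroup_PSL (Or.inr ⟨2, by simpa using n2 2 Nat.prime_two hp.symm, fun k =>
      n2 3 Nat.prime_three h3.symm (by push_cast; linear_combination k)⟩)
  refine ⟨Matrix.ProjectiveSpecialLinearGroup (Fin 2) (ZMod p), inferInstance, inferInstance,
    by rw [← h2, Nat.mul_div_cancel_left _ two_pos], fun k => ?_⟩
  obtain ⟨P⟩ : Nonempty (Sylow p (Matrix.ProjectiveSpecialLinearGroup (Fin 2) (ZMod p))) := inferInstance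
  have d : p ∣ Nat.card (Matrix.ProjectiveSpecialLinearGroup (Fin 2) (ZMod p)) :=
    ((Nat.coprime_two_right.2 o).dvd_mul_left).1 (h2 ▸ dvd_mul_right _ _)
  rcases (k P).eq_bot_or_eq_top with e | e
  · exact P.not_dvd_index (by rwa [e, index_bot])
  · obtain ⟨j, hj⟩ := IsPGroup.iff_card.1 P.isPGroup'
    rw [e, card_top] at hj
    rw [hj] at h2 d
    obtain ⟨i, rfl⟩ : ∃ i, j = i + 1 := ⟨j - 1, by
      rcases j with _ | j
      · exact absurd (Nat.dvd_one.1 d) pp.one_lt.ne'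
      · rfl⟩
    have h4 : 2 * p ^ i = p ^ 2 - 1 := Nat.eq_of_mul_eq_mul_left pp.pos (by rw [← h2]; ring)
    have h5 := pp.two_le
    rcases i with _ | i
    · have : 3 ≤ p := by omega
      have h6 := Nat.one_le_pow 2 p pp.pos
      rw [pow_zero] at h4
      have : p ^ 2 = 3 := by generalize p ^ 2 = z at h4 h6; omega
      nlinarith
    · have h6 : p ∣ p ^ 2 - 1 := h4 ▸ Dvd.dvd.mul_left (dvd_pow_self p i.succ_ne_zero) 2
      exact pp.one_lt.ne' (Nat.dvd_one.1 ((Nat.dvd_sub_iff_right (Nat.one_le_pow 2 p pp.pos) (dvd_pow_self p two_ne_zero)).1 h6))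

end Cfsg.Agent.S3875
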