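import Cfsg.Statements.S3889
import Mathlib

set_option autoImplicit false
open Cfsg

namespace Cfsg.Agent.S3889

/-- A finite abelian group that is the union of a family of proper subgroups any two of which intersect trivially is elementary abelian: its exponent is a prime. -/
theorem result {G : Type*} [CommGroup G] [Finite G] (𝓑 : Set (Subgroup G)) (hprop : ∀ B ∈ 𝓑, B ≠ ⊤)
    (hcov : ∀ g : G, ∃ B ∈ 𝓑, g ∈ B) (hdisj : ∀ B ∈ 𝓑, ∀ C ∈ 𝓑, B ≠ C → B ⊓ C = ⊥) :
    (Monoid.exponent G).Prime := by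
  obtain ⟨B, hB, -⟩ := hcov 1
  haveI : Nontrivial G := by
    by_contra h
    rw [not_nontrivial_iff_subsingleton] at h
    exact hprop B hB (Subsingleton.elim _ _)
  obtain ⟨p, hp, hd⟩ := Nat.exists_prime_and_dvd (Finite.one_lt_card (α := G)).ne'
  haveI := Fact.mk hp
  obtain ⟨a, ha⟩ := exists_prime_orderOf_dvd_card' p hd
  have ha1 : a ≠ 1 := fun h => hp.one_lt.ne (by rw [← ha, h, orderOf_one])
  obtain ⟨A, hA, haA⟩ := hcov a
  have h1 : ∀ g ∉ A, g ^ p = 1 := fun g hg => by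
    obtain ⟨B, hB, hgB⟩ := hcov g
    obtain ⟨C, hC, hgC⟩ := hcov (g * a)
    refine Subgroup.mem_bot.1 ((hdisj B hB C hC fun h => ?_).le ⟨pow_mem hgB p, ?_⟩)
    · subst h
      refine ha1 (Subgroup.mem_bot.1 ((hdisj A hA B hB fun h => hg (h ▸ hgB)).le
        ⟨haA, (B.mul_mem_cancel_left hgB).1 hgC⟩))
    · have := pow_mem hgC p
      rwa [mul_pow, ← ha, pow_orderOf_eq_one, mul_one, ha] at this
  obtain ⟨h, -, hh⟩ := SetLike.not_le_iff_exists.1 (mt top_le_iff.1 (hprop A hA))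
  have h2 : ∀ g : G, g ^ p = 1 := fun g => by
    by_cases hg : g ∈ A
    · have := h1 (g * h) fun h3 => hh ((A.mul_mem_cancel_left hg).1 h3)
      rwa [mul_pow, h1 h hh, mul_one] at this
    · exact h1 g hg
  rw [(Monoid.exponent_eq_prime_iff hp).2 fun g hg => orderOf_eq_prime (h2 g) hg]
  exact hp

end Cfsg.Agent.S3889
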