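import Cfsg.Statements.S3890
import Cfsg.Agent.Lib.Solv.NMC

set_option autoImplicit false
open Cfsg

namespace Cfsg.Agent.S3890

open Subgroup CA CA.BG CA.NMC

/-- A cover of a group is a finite set of proper subgroups whose union is the whole group; it is minimal when no cover has fewer members, and nilpotent when all its members are nilpotent. Let G be a finite group with trivial center admitting a nilpotent minimal cover 𝓐, and let P be an abelian Sylow p-subgroup of G that is not normal. Then either P is elementary abelian of order greater than p, or P is a Sylow p-subgroup of some member A of 𝓐, the normalizer N of P is a maximal subgroup of G, N meets each of its conjugates by elements outside N in a subgroup of order prime to p, and the centralizer of P equals A. -/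
theorem result {G : Type*} [Group G] [Finite G] (hZ : Subgroup.center G = ⊥) (𝓐 : Finset (Subgroup G))
    (h𝓐 : ((∀ A ∈ 𝓐, A ≠ ⊤) ∧ (∀ g : G, ∃ A ∈ 𝓐, g ∈ A)) ∧ (∀ 𝓑 : Finset (Subgroup G), (∀ A ∈ 𝓑, A ≠ ⊤) ∧ (∀ g : G, ∃ A ∈ 𝓑, g ∈ A) → 𝓐.card ≤ 𝓑.card) ∧ (∀ A ∈ 𝓐, Group.IsNilpotent ↥A)) {p : ℕ} [Fact p.Prime] (P : Sylow p G) (hab : IsMulCommutative ↥(P : Subgroup G))
    (hnn : ¬ (P : Subgroup G).Normal) :
    (Cfsg.IsElementaryAbelian p (P : Subgroup G) ∧ p < Nat.card ↥(P : Subgroup G)) ∨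
    (∃ A ∈ 𝓐, (P : Subgroup G) ≤ A ∧ ¬ p ∣ ((P : Subgroup G).subgroupOf A).index ∧
      IsCoatom (Subgroup.normalizer ((P : Subgroup G) : Set G)) ∧
      (∀ g : G, g ∉ Subgroup.normalizer ((P : Subgroup G) : Set G) →
        ¬ p ∣ Nat.card ↥(Subgroup.normalizer ((P : Subgroup G) : Set G) ⊓
          (Subgroup.normalizer ((P : Subgroup G) : Set G)).map (MulAut.conj g).toMonoidHom)) ∧
      Subgroup.centralizer ((P : Subgroup G) : Set G) = A) := by
  have hp : p.Prime := Fact.out
  have hP := syl_top hp P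
  have hn : 𝓝((P : Subgroup G)) ≠ ⊤ := fun e => hnn (normalizer_eq_top_iff.1 e)
  by_cases h : Cfsg.IsElementaryAbelian p (P : Subgroup G) ∧ p < Nat.card ↥(P : Subgroup G)
  · exact Or.inl h
  right
  have hc : IsCyclic (P : Subgroup G) ∨ ¬ ∀ a ∈ (P : Subgroup G), a ^ p = 1 := by
    by_cases h1 : ∀ a ∈ (P : Subgroup G), a ^ p = 1
    · left
      have h2 : Nat.card ↥(P : Subgroup G) ≤ p := not_lt.1 fun h2 => h ⟨⟨hab, h1⟩, h2⟩
      obtain ⟨k, hk⟩ := hP.pi.exists_card hp
      have hk1 : k ≤ 1 := by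
        rw [hk] at h2
        exact (Nat.pow_le_pow_iff_right hp.one_lt).1 (by rwa [pow_one])
      refine isCyclic_of_card_dvd_prime (p := p) ?_
      rw [hk]
      simpa using pow_dvd_pow p hk1
    · exact Or.inr h1
  obtain ⟨⟨A, hA, h1, h2⟩, h3, h4⟩ := (of_abs h𝓐).main hZ hp hP hab hc hn
  exact ⟨A, hA, h1, (hP.of_le h1 le_top).not_dvd hp, coatom_of hn h3, h4, h2⟩

end Cfsg.Agent.S3890
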