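import Cfsg.Statements.S3892
import Cfsg.Agent.Lib.Solv.NMC

set_option autoImplicit false
open Cfsg

namespace Cfsg.Agent.S3892

open Subgroup CA CA.BG CA.NMC Equiv

theorem gen {G : Type*} [Group G] {n p : ℕ} {𝓐 : Finset (Subgroup G)} (h : IsNMC ⊥ ⊤ 𝓐)
    (f : G →* Perm (Fin n)) (hf : Function.Injective f)
    (hp : p.Prime) (hd : ¬ p ^ 2 ∣ n.factorial) {x y : Perm (Fin n)} (hx : x ∈ f.range)
    (hy : y ∈ f.range) (ox : orderOf x = p) (oy : orderOf y = p) (hxy : x * y ≠ y * x)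
    (M : Subgroup (Perm (Fin n))) (h1 : ∀ g ∈ f.range, g * x = x * g → g ∈ M)
    (h2 : ∀ g ∈ f.range, g * y = y * g → g ∈ M) : f.range ≤ M := by
  haveI : Finite G := Finite.of_injective f hf
  obtain ⟨x, rfl⟩ := hx
  obtain ⟨y, rfl⟩ := hy
  rw [orderOf_injective f hf] at ox oy
  have := h.prime_pair (M := M.comap f) hp (fun h3 => hd (h3.trans (by
    have := card_dvd_of_injective f hf
    rwa [Nat.card_perm, Nat.card_fin] at this))) ox oy (fun e => hxy (by rw [← map_mul, e, map_mul]))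
    (fun g hg => h1 _ ⟨g, rfl⟩ (by rw [← map_mul, mem_cent1.1 hg, map_mul]))
    (fun g hg => h2 _ ⟨g, rfl⟩ (by rw [← map_mul, mem_cent1.1 hg, map_mul]))
  rintro _ ⟨g, rfl⟩
  exact (this ▸ mem_top g : g ∈ M.comap f)

/-- the stabilizer of the fixed point set -/
def fixStab {α : Type*} (x : Perm α) : Subgroup (Perm α) where
  carrier := {g | ∀ t, x t = t ↔ x (g t) = g t}
  one_mem' := fun _ => Iff.rfl
  mul_mem' := fun {a b} ha hb t => (hb t).trans (ha (b t))
  inv_mem' := fun {a} ha t => by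
    have := ha (a⁻¹ t)
    rw [show a (a⁻¹ t) = t by simp] at this
    exact this.symm

theorem mem_fixStab {α : Type*} {x g : Perm α} (h : g * x = x * g) : g ∈ fixStab x := fun t => by
  have : g (x t) = x (g t) := congrArg (fun s : Perm α => s t) h
  rw [← this]; exact g.injective.eq_iff.symm

theorem big {G : Type*} [Group G] {n : ℕ} (hn : 6 ≤ n) {𝓐 : Finset (Subgroup G)} (h : IsNMC ⊥ ⊤ 𝓐)
    (f : G →* Perm (Fin n)) (hf : Function.Injective f)
    (hA : ∀ σ, Perm.sign σ = 1 → σ ∈ f.range) : False := by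
  obtain ⟨p, hp, h1, h2⟩ := Nat.exists_prime_lt_and_le_two_mul (n / 2) (by omega)
  have hodd : Odd p := hp.odd_of_ne_two (by omega)
  obtain ⟨k, hk⟩ := hodd
  have h5 : 5 ≤ p := by omega
  have hpn : p < n := by omega
  have hn2 : n < 2 * p := by omega
  have hd : ¬ p ^ 2 ∣ n.factorial := by
    rw [hp.pow_dvd_factorial_iff (b := 2) (Nat.log_lt_of_lt_pow (by omega) (by nlinarith))]
    simp only [Nat.Ico_succ_singleton, Finset.sum_singleton, pow_one, not_le]
    exact Nat.div_lt_of_lt_mul (by omega)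
  haveI := Fact.mk hp
  obtain ⟨x, ox⟩ := exists_prime_orderOf_dvd_card' (G := Perm (Fin n)) p (by
    rw [Nat.card_perm, Nat.card_fin]; exact hp.dvd_factorial.2 hpn.le)
  have hc : x.IsCycle := Perm.isCycle_of_prime_order (ox ▸ hp) (by
    have := Finset.card_le_univ x.support
    rw [Fintype.card_fin] at this
    omega)
  have hs : x.support.card = p := by rw [← hc.orderOf, ox]
  have sx : Perm.sign x = 1 := by
    rw [hc.sign, hs, Odd.neg_one_pow ⟨k, hk⟩, neg_neg]
  obtain ⟨a, ha, -⟩ := id hc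
  have hpw : ∀ j, 0 < j → j < p → (x ^ j) a ≠ a := fun j j0 j1 e => by
    have := orderOf_dvd_of_pow_eq_one ((hc.pow_eq_one_iff' ha).2 e)
    rw [ox] at this
    exact absurd (Nat.le_of_dvd j0 this) (by omega)
  have e2 : x (x a) ≠ a := hpw 2 (by omega) (by omega)
  have e3 : x (x (x a)) ≠ a := hpw 3 (by omega) (by omega)
  have e21 : x (x a) ≠ x a := fun e => ha (x.injective e)
  obtain ⟨t, ht⟩ : ∃ t, x t = t := by
    by_contra h3
    push Not at h3
    have : x.support = Finset.univ := Finset.eq_univ_iff_forall.2 fun t => Perm.mem_support.2 (h3 t)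
    rw [this, Finset.card_univ, Fintype.card_fin] at hs
    omega
  have hta : t ≠ a := fun e => ha (e ▸ ht)
  have htb : t ≠ x a := fun e => e21 (e ▸ ht)
  have hfix : ∀ u, (swap a (x a) * x * (swap a (x a))⁻¹) u = u ↔ x u = u := by
    intro u
    rw [Perm.mul_apply, Perm.mul_apply, swap_inv, swap_apply_eq_iff]
    by_cases u1 : u = a
    · subst u1; rw [swap_apply_left]; exact iff_of_false e21 ha
    by_cases u2 : u = x a
    · subst u2; rw [swap_apply_right]; exact iff_of_false ha e21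
    rw [swap_apply_of_ne_of_ne u1 u2]
  have := gen h f hf hp hd (x := x) (y := swap a (x a) * x * (swap a (x a))⁻¹) (hA _ sx)
    (hA _ (by rw [map_mul, map_mul, sx, mul_one, ← map_mul, mul_inv_cancel, map_one])) ox (by rw [← ox]; exact (MulAut.conj (swap a (x a))).orderOf_eq x) (fun e => by
      have := congrArg (fun s : Perm (Fin n) => s a) e
      simp only [Perm.mul_apply, swap_inv, swap_apply_left, swap_apply_right] at this
      rw [swap_apply_of_ne_of_ne e2 e21] at this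
      exact e3 this) (fixStab x) (fun g _ => mem_fixStab) (fun g _ hg u => by
        rw [← hfix, ← hfix]; exact mem_fixStab hg u)
  have h4 := this (hA (swap t a * swap a (x a)) (by
    rw [map_mul, Perm.sign_swap hta, Perm.sign_swap ha.symm]; decide)) t
  rw [Perm.mul_apply, swap_apply_of_ne_of_ne hta htb, swap_apply_left] at h4
  exact ha (h4.1 ht)

theorem a5 : ∀ g : Perm (Fin 5), Perm.sign g = 1 →
    (g * (swap 0 1 * swap 1 2) = (swap 0 1 * swap 1 2) * g → g 4 = 4) ∧
    (g * (swap 0 1 * swap 1 3) = (swap 0 1 * swap 1 3) * g → g 4 = 4) := by decide +kernel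

theorem s5 : ∀ g : Perm (Fin 5),
    (g * (swap 0 1 * swap 1 2 * swap 2 3 * swap 3 4) = (swap 0 1 * swap 1 2 * swap 2 3 * swap 3 4) * g →
      Perm.sign g = 1) ∧
    (g * (swap 0 1 * swap 1 2 * swap 2 4 * swap 4 3) = (swap 0 1 * swap 1 2 * swap 2 4 * swap 4 3) * g →
      Perm.sign g = 1) := by decide +kernel

theorem s4 : ∀ g : Perm (Fin 4),
    (g * (swap 0 1 * swap 1 2) = (swap 0 1 * swap 1 2) * g → Perm.sign g = 1) ∧
    (g * (swap 0 1 * swap 1 3) = (swap 0 1 * swap 1 3) * g → Perm.sign g = 1) := by decide +kernel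

/-- A cover of a group is a finite set of proper subgroups whose union is the whole group; it is minimal when no cover has fewer members, and nilpotent when all its members are nilpotent. The alternating groups of degree at least 5 and the symmetric groups of degree at least 4 have no nilpotent minimal cover. -/
theorem result (n : ℕ) :
    (5 ≤ n → ¬ ∃ 𝓐 : Finset (Subgroup ↥(alternatingGroup (Fin n))), ((∀ A ∈ 𝓐, A ≠ ⊤) ∧ (∀ g : ↥(alternatingGroup (Fin n)), ∃ A ∈ 𝓐, g ∈ A)) ∧ (∀ 𝓑 : Finset (Subgroup ↥(alternatingGroup (Fin n))), (∀ A ∈ 𝓑, A ≠ ⊤) ∧ (∀ g : ↥(alternatingGroup (Fin n)), ∃ A ∈ 𝓑, g ∈ A) → 𝓐.card ≤ 𝓑.card) ∧ (∀ A ∈ 𝓐, Group.IsNilpotent ↥A)) ∧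
    (4 ≤ n → ¬ ∃ 𝓐 : Finset (Subgroup (Equiv.Perm (Fin n))), ((∀ A ∈ 𝓐, A ≠ ⊤) ∧ (∀ g : (Equiv.Perm (Fin n)), ∃ A ∈ 𝓐, g ∈ A)) ∧ (∀ 𝓑 : Finset (Subgroup (Equiv.Perm (Fin n))), (∀ A ∈ 𝓑, A ≠ ⊤) ∧ (∀ g : (Equiv.Perm (Fin n)), ∃ A ∈ 𝓑, g ∈ A) → 𝓐.card ≤ 𝓑.card) ∧ (∀ A ∈ 𝓐, Group.IsNilpotent ↥A)) := by
  haveI : Fact (Nat.Prime 3) := ⟨by norm_num⟩
  haveI : Fact (Nat.Prime 5) := ⟨by norm_num⟩
  constructor
  · rintro hn ⟨𝓐, h⟩
    have h := of_abs h
    have hA : ∀ σ : Perm (Fin n), Perm.sign σ = 1 → σ ∈ (alternatingGroup (Fin n)).subtype.range :=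
      fun σ hσ => ⟨⟨σ, hσ⟩, rfl⟩
    by_cases h6 : 6 ≤ n
    · exact big h6 h _ (subtype_injective _) hA
    obtain rfl : n = 5 := by omega
    have := gen h _ (subtype_injective _) (p := 3) (by norm_num) (by decide)
      (x := swap 0 1 * swap 1 2) (y := swap 0 1 * swap 1 3) (hA _ (by decide)) (hA _ (by decide))
      (orderOf_eq_prime (by decide) (by decide)) (orderOf_eq_prime (by decide) (by decide))
      (by decide) (MulAction.stabilizer _ (4 : Fin 5))
      (by rintro _ ⟨g, rfl⟩; exact (a5 g g.2).1) (by rintro _ ⟨g, rfl⟩; exact (a5 g g.2).2)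
    have h4 : (swap 4 0 * swap 0 1 : Perm (Fin 5)) 4 = 4 := this (hA (swap 4 0 * swap 0 1) (by decide))
    exact absurd h4 (by decide)
  · rintro hn ⟨𝓐, h⟩
    have h := of_abs h
    by_cases h6 : 6 ≤ n
    · exact big h6 h (MonoidHom.id _) Function.injective_id fun σ _ => ⟨σ, rfl⟩
    obtain rfl | rfl : n = 4 ∨ n = 5 := by omega
    · have := gen h (MonoidHom.id _) Function.injective_id (p := 3) (by norm_num) (by decide)
        (x := swap 0 1 * swap 1 2) (y := swap 0 1 * swap 1 3) ⟨_, rfl⟩ ⟨_, rfl⟩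
        (orderOf_eq_prime (by decide) (by decide)) (orderOf_eq_prime (by decide) (by decide))
        (by decide) (alternatingGroup _) (fun g _ => (s4 g).1) (fun g _ => (s4 g).2)
      have h4 : Perm.sign (swap 0 1 : Perm (Fin 4)) = 1 := this ⟨swap 0 1, rfl⟩
      exact absurd h4 (by decide)
    · have := gen h (MonoidHom.id _) Function.injective_id (p := 5) (by norm_num) (by decide)
        (x := swap 0 1 * swap 1 2 * swap 2 3 * swap 3 4)
        (y := swap 0 1 * swap 1 2 * swap 2 4 * swap 4 3) ⟨_, rfl⟩ ⟨_, rfl⟩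
        (orderOf_eq_prime (by decide) (by decide)) (orderOf_eq_prime (by decide) (by decide))
        (by decide) (alternatingGroup _) (fun g _ => (s5 g).1) (fun g _ => (s5 g).2)
      have h4 : Perm.sign (swap 0 1 : Perm (Fin 5)) = 1 := this ⟨swap 0 1, rfl⟩
      exact absurd h4 (by decide)

end Cfsg.Agent.S3892
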