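import Cfsg.Statements.S3893
import Cfsg.Agent.Lib.Solv.NMC
import Cfsg.Agent.Lib.Lie.SzSub
import Cfsg.Agent.Lib.Lie.SzModel

set_option autoImplicit false
open Cfsg

namespace Cfsg.Agent.S3893

open Subgroup CA CA.BG CA.NMC

theorem gen {G G' : Type*} [Group G] [Group G'] [Finite G] (e : G ≃* G') {𝓐 : Finset (Subgroup G')}
    (h : IsNMC ⊥ ⊤ 𝓐) {U H M : Subgroup G} (hU : ∀ u ∈ U, u ≠ 1 → 𝓒₁(u) ≤ U)
    (hH : ∀ u ∈ H, u ≠ 1 → 𝓒₁(u) ≤ H) {x y : G} (hx : x ∈ U) (hx1 : x ≠ 1) (hy : y ∈ H) (hy1 : y ≠ 1)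
    (hd : ∀ g ∈ U, g ∈ H → g = 1) (h1 : U ≤ M) (h2 : H ≤ M) : M = ⊤ := by
  have key : ∀ U : Subgroup G, (∀ u ∈ U, u ≠ 1 → 𝓒₁(u) ≤ U) → ∀ x ∈ U, x ≠ 1 → ∀ A ∈ 𝓐, e x ∈ A →
      A.comap e.toMonoidHom ≤ U := by
    intro U hU x hx hx1 A hA hxA
    haveI := h.nil A hA
    have hn : Group.IsNilpotent (A.comap e.toMonoidHom) := by
      rw [comap_equiv_eq_map_symm']
      exact Group.nilpotent_of_mulEquiv (A.equivMapOfInjective _ e.symm.injective)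
    have hxA' : x ∈ A.comap e.toMonoidHom := hxA
    obtain ⟨⟨z, hz, hz'⟩, hz1⟩ := ne_bot_iff_exists_ne_one.1
      (meet_cent_of_nil hn le_rfl le_rfl le_normalizer (ne_bot_of_mem hxA' hx1))
    have hz2 : z ≠ 1 := fun e => hz1 (Subtype.ext e)
    exact (le_cent1_iff.2 hz').trans (hU z (hU x hx hx1 (cent_le_cent1 hxA' hz')) hz2)
  obtain ⟨A, hA, hxA⟩ := h.cov (e x) trivial
  obtain ⟨B, hB, hyB⟩ := h.cov (e y) trivial
  have kA := key U hU x hx hx1 A hA hxA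
  have kB := key H hH y hy hy1 B hB hyB
  have := h.pair (M := M.map e.toMonoidHom) hA hB (by
    rintro rfl
    exact hx1 (hd x hx (kB hxA))) (fun g hg => ⟨e.symm g, h1 (kA (by simpa using hg)), by simp⟩)
    (fun g hg => ⟨e.symm g, h2 (kB (by simpa using hg)), by simp⟩)
  refine eq_top_iff.2 fun g _ => ?_
  obtain ⟨a, ha, e1⟩ := this (mem_top (e g))
  exact e.injective e1 ▸ ha

/-- A cover of a group is a finite set of proper subgroups whose union is the whole group; it is minimal when no cover has fewer members, and nilpotent when all its members are nilpotent. The Suzuki groups Sz(q), q = 2^(2m+1) with m ≥ 1, have no nilpotent minimal cover. -/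
theorem result {F : Type*} [Field F] [Fintype F] (m : ℕ) (hm : 1 ≤ m) (hF : Fintype.card F = 2 ^ (2 * m + 1)) :
    ¬ ∃ 𝓐 : Finset (Subgroup ↥(Cfsg.Lie.Sz F (2 ^ (m + 1)))), ((∀ A ∈ 𝓐, A ≠ ⊤) ∧ (∀ g : ↥(Cfsg.Lie.Sz F (2 ^ (m + 1))), ∃ A ∈ 𝓐, g ∈ A)) ∧ (∀ 𝓑 : Finset (Subgroup ↥(Cfsg.Lie.Sz F (2 ^ (m + 1)))), (∀ A ∈ 𝓑, A ≠ ⊤) ∧ (∀ g : ↥(Cfsg.Lie.Sz F (2 ^ (m + 1))), ∃ A ∈ 𝓑, g ∈ A) → 𝓐.card ≤ 𝓑.card) ∧ (∀ A ∈ 𝓐, Group.IsNilpotent ↥A) := by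
  rintro ⟨𝓐, h⟩
  haveI : SzBasic.Hyp F m := ⟨hm, hF⟩
  obtain ⟨μ, hμ⟩ := SzGroup.exists_unit_ne_one (F := F)
  have := gen (SzModel.szEquiv F) (of_abs h) (U := SzGroup.U F) (H := SzGroup.H F)
    (M := MulAction.stabilizer _ (SzBasic.inf : SzBasic.Ov F)) (fun u => SzSub.cent_le_U)
    (fun u hu h1 => (SzTori.cc_H u hu h1).le) (SzGroup.T_mem_U 0 1)
    (fun e => one_ne_zero (SzGroup.T_eq_one.1 e).2) (SzGroup.D_mem_H μ)
    (fun e => hμ (SzGroup.D_eq_one.1 e)) (fun g => SzSub.eq_one_of_mem_U_H)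
    (SzGroup.normalizer_U (F := F) ▸ le_normalizer) (SzGroup.stab_inf_zero (F := F) ▸ inf_le_left)
  have h1 : SzBasic.J F • (SzBasic.inf : SzBasic.Ov F) = SzBasic.inf :=
    (this ▸ mem_top _ : SzBasic.J F ∈ MulAction.stabilizer _ (SzBasic.inf : SzBasic.Ov F))
  exact SzBasic.pt_ne_inf 0 0 (Eq.trans (Subtype.ext SzBasic.Jsl_inf.symm) h1)

end Cfsg.Agent.S3893
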