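import Cfsg.Statements.S4038
import Cfsg.Agent.Lib.Grp.L0Inv2

set_option autoImplicit false
open Cfsg

namespace Cfsg.Agent.S4038
open scoped commutatorElement

/-- Let A and G be finite groups of coprime orders with A acting on G by automorphisms. Suppose G has a proper A-invariant subgroup M, maximal among proper A-invariant subgroups, which is nilpotent and whose Sylow 2-subgroups have nilpotency class at most 2. Then G is solvable. -/
theorem result {G A : Type*} [Group G] [Finite G]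
    [Group A] [Finite A] (φ : A →* MulAut G) (hcop : (Nat.card A).Coprime (Nat.card G))
    (M : Subgroup G) (hMtop : M ≠ ⊤) (hMinv : ∀ a : A, ∀ m : G, m ∈ M → φ a m ∈ M)
    (hMmax : ∀ H : Subgroup G, M ≤ H → H ≠ ⊤ → (∀ a : A, ∀ h : G, h ∈ H → φ a h ∈ H) → H = M)
    (hnil : Group.IsNilpotent M) (h2 : ∀ S : Sylow 2 ↥M, Group.nilpotencyClass ↥(S : Subgroup ↥M) ≤ 2) :
    Group.IsSolvable G := by
  letI : MulDistribMulAction φ.range G := inferInstance
  refine CA.L0Inv.solv_aux _ (A := φ.range) rfl (hcop.coprime_dvd_left (Subgroup.card_range_dvd φ))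
    M hMtop ?_ (fun H h1 h2 h3 => hMmax H h1 h2 fun a x hx => h3 ⟨φ a, a, rfl⟩ x hx) hnil ?_
  · rintro ⟨_, a, rfl⟩ x hx; exact hMinv a x hx
  · intro x hx y hy z hz
    have : Fact (Nat.Prime 2) := ⟨Nat.prime_two⟩
    obtain ⟨S⟩ : Nonempty (Sylow 2 M) := inferInstance
    have hS := S.isPGroup'.isNilpotent
    have h3 := Subgroup.lowerCentralSeries_eq_bot_iff_nilpotencyClass_le.2 (h2 S)
    have hn := CA.NPC2.hasNPC_of_isNilpotent (p := 2) hnil
    have key : ∀ x y z : M, ⁅⁅x, y⁆, z⁆ ∈ Cfsg.pResidual 2 M := by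
      intro x y z
      obtain ⟨a, ha, s, hs, rfl⟩ := CA.PRes.exists_mul_eq_pResidual_sylow S x
      obtain ⟨b, hb, t, ht, rfl⟩ := CA.PRes.exists_mul_eq_pResidual_sylow S y
      obtain ⟨c, hc, u, hu, rfl⟩ := CA.PRes.exists_mul_eq_pResidual_sylow S z
      have h4 : ⁅⁅(⟨s, hs⟩ : (S : Subgroup M)), (⟨t, ht⟩ : (S : Subgroup M))⁆, (⟨u, hu⟩ : (S : Subgroup M))⁆ ∈
          (⊤ : Subgroup (S : Subgroup M)).lowerCentralSeries 2 :=
        Subgroup.commutator_mem_commutator 
          (Subgroup.commutator_mem_commutator (Subgroup.mem_top _) (Subgroup.mem_top _))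
          (Subgroup.mem_top _)
      rw [h3, Subgroup.mem_bot] at h4
      have h5 : ⁅⁅s, t⁆, u⁆ = 1 := congrArg Subtype.val h4
      rw [← QuotientGroup.eq_one_iff] at ha hb hc ⊢
      have h6 := congrArg (QuotientGroup.mk' (Cfsg.pResidual 2 M)) h5
      change QuotientGroup.mk' _ _ = 1 at ha hb hc ⊢
      simp only [map_commutatorElement, map_mul, ha, hb, hc, one_mul] at h6 ⊢
      rw [h6, map_one]
    have := (CA.PRes.mem_pResidual_iff_of_hasNPC hn).1 (key ⟨x, hx⟩ ⟨y, hy⟩ ⟨z, hz⟩)
    rw [← orderOf_injective M.subtype M.subtype_injective, map_commutatorElement,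
      map_commutatorElement] at this
    exact Nat.coprime_two_right.1 this

end Cfsg.Agent.S4038
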