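import Cfsg.Statements.S4040
import Cfsg.Agent.S4038

set_option autoImplicit false
open Cfsg

namespace Cfsg.Agent.S4040

/-- A finite group possessing a maximal subgroup that is nilpotent of odd order is solvable. -/
theorem result {G : Type*} [Group G] [Finite G]
    (M : Subgroup G) (hmax : IsCoatom M) (hnil : Group.IsNilpotent M) (hodd : Odd (Nat.card M)) :
    Group.IsSolvable G := by
  refine Cfsg.Agent.S4038.result (A := Unit) 1 (by simp) M hmax.1 (fun a m hm => hm)
    (fun H h1 h2 _ => ?_) hnil fun S => ?_
  · by_contra h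
    exact h2 (hmax.2 H (lt_of_le_of_ne h1 (Ne.symm h)))
  · have : Fact (Nat.Prime 2) := ⟨Nat.prime_two⟩
    have h : (S : Subgroup M) = ⊥ := by
      by_contra h
      exact (Nat.not_even_iff_odd.2 hodd) (even_iff_two_dvd.2
        ((CA.H6J.dvd_card_of_ne_bot S.isPGroup' h).trans (Subgroup.card_subgroup_dvd_card _)))
    have : Subsingleton (S : Subgroup M) := by rw [h]; infer_instance
    rw [Group.nilpotencyClass_zero_iff_subsingleton.2 this]; omega

end Cfsg.Agent.S4040
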