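import Cfsg.Statements.S3903
import Cfsg.Agent.Lib.Odd.BGMisc
import Cfsg.Agent.S0556
import Cfsg.Agent.S4040

set_option autoImplicit false
open Cfsg

namespace Cfsg.Agent.S3903

open Subgroup CA CA.BG

/-- Let N be a proper normal subgroup of the finite group G such that every element x of G outside N has prime power order and has centralizer C_G(x) a maximal subgroup of G. Then N is solvable. -/
theorem result {G : Type*} [Group G] [Finite G] (N : Subgroup G) [N.Normal] (hN : N ≠ ⊤)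
    (h : ∀ x : G, x ∉ N → IsPrimePow (orderOf x) ∧ IsCoatom (Subgroup.centralizer ({x} : Set G))) : Group.IsSolvable ↥N := by
  classical
  have key : ∀ x ∉ N, ∃ p, p.Prime ∧ IsPi {p} 𝓒₁(x) := fun x hx => by
    obtain ⟨p, k, hp, -, h1⟩ := (isPrimePow_nat_iff _).1 (h x hx).1
    have h2 : PiElt {p} x := by rw [PiElt, ← h1]; exact piNat_pow hp k
    refine ⟨p, hp, fun q hq hd => by_contra fun hpq => ?_⟩
    obtain ⟨y, hy, h3⟩ := exists_orderOf_eq hq hd
    have h4 : PiElt {p}ᶜ y := by rw [PiElt, h3]; exact (piNat_prime hq).2 hpq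
    have h5 := constt_mul_eq h2 h4 (mem_cent1_symm.1 hy)
    have h6 := constt_mul_eq' (π := {p}ᶜ) (by simpa using h2) h4 (mem_cent1_symm.1 hy)
    obtain ⟨r, l, hr, -, h7⟩ := (isPrimePow_nat_iff _).1 (h (x * y) fun a =>
      hx (h5 ▸ constt_mem _ a)).1
    have h8 : ∀ s : ℕ, s.Prime → ∀ z ∈ zpowers (x * y), s ∣ orderOf z → s = r := fun s hs z a b =>
      piNat_pow hr l s hs (h7 ▸ b.trans (orderOf_dvd_of_mem_zpowers a))
    obtain ⟨s, hs, h9⟩ := Nat.exists_prime_and_dvd (n := orderOf x) fun e =>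
      hx (orderOf_eq_one_iff.1 e ▸ one_mem _)
    exact hpq (((h8 q hq y (h6.subst (motive := (· ∈ zpowers (x * y))) (constt_mem_zpowers _ _)) h3.symm.dvd).trans
      (h8 s hs x (h5.subst (motive := (· ∈ zpowers (x * y))) (constt_mem_zpowers _ _)) h9).symm).trans (h2 s hs h9))
  by_cases h1 : ∃ x ∉ N, Odd ♯𝓒₁(x)
  · obtain ⟨x, hx, h1⟩ := h1
    obtain ⟨p, hp, h2⟩ := key x hx
    haveI := S4040.result _ (h x hx).2 (h2.isNilpotent hp) h1
    infer_instance
  have h2 : ∀ x ∉ N, IsPi {2} 𝓒₁(x) := fun x hx => by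
    obtain ⟨p, hp, h2⟩ := key x hx
    rwa [show 2 = p from h2 2 Nat.prime_two (by_contra fun a =>
      h1 ⟨x, hx, Nat.odd_iff.2 (Nat.two_dvd_ne_zero.1 a)⟩)]
  by_cases h3 : IsPi {2} (⊤ : Subgroup G)
  · exact (h3.of_le le_top).isSolvable Nat.prime_two
  have h4 : ∀ x ∉ N, Syl 2 𝓒₁(x) ⊤ := fun x hx => syl_of_maximal Nat.prime_two le_top (h2 x hx)
    fun Q a b _ => ((h x hx).2.le_iff.1 b).resolve_left fun e => h3 (e ▸ a)
  obtain ⟨x, -, hx⟩ := SetLike.not_le_iff_exists.1 fun a => hN (top_le_iff.1 a)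
  set S := 𝓒₁(x)
  by_cases h5 : N ≤ S
  · exact ((h2 x hx).of_le h5).isSolvable Nat.prime_two
  have h6 : S ⊔ N = ⊤ := ((h x hx).2.le_iff.1 le_sup_left).resolve_right fun e =>
    h5 (le_sup_right.trans e.le)
  have h7 : Nat.card ((N : Set G)ᶜ : Set G) ≤ S.index * Nat.card {w // w ∉ N ∧ 𝓒₁(w) = S} := by
    rw [index, ← Nat.card_prod]
    refine Nat.card_le_card_of_surjective (fun a => ⟨a.1.out * a.2.1 * a.1.out⁻¹, fun b =>
      a.2.2.1 (‹N.Normal›.mem_comm_iff.1 b |> fun c => by simpa using c)⟩) fun ⟨y, hy⟩ => ?_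
    obtain ⟨g, -, hg⟩ := (h4 x hx).syl_conj Nat.prime_two (h4 y hy)
    obtain ⟨s, hs⟩ := QuotientGroup.mk_out_eq_mul S g
    refine ⟨⟨g, (g * s)⁻¹ * y * (g * s)⁻¹⁻¹, fun b => hy ?_, ?_⟩, Subtype.ext ?_⟩
    · simpa [mul_assoc] using ‹N.Normal›.conj_mem _ b (g * s)
    · rw [← cj_cent1, ← hg, ← cj_mul, show (g * s)⁻¹ * g = (s : G)⁻¹ by group,
        cj_of_mem (inv_mem s.2)]
    · simp only [hs]; group
  have h8 : ∀ w ∈ S, w ∉ N → 𝓒₁(w) = S := by
    have h9 : {w | w ∉ N ∧ 𝓒₁(w) = S} = (S : Set G) \ ((S ⊓ N : Subgroup G) : Set G) := by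
      refine Set.eq_of_subset_of_ncard_le (fun w hw => ⟨hw.2.le (mem_cent1_self w),
        fun a => hw.1 a.2⟩) ?_
      rw [Set.ncard_sdiff (fun _ a => a.1), ← Nat.card_coe_set_eq, ← Nat.card_coe_set_eq,
        ← Nat.card_coe_set_eq]
      rw [Nat.card_coe_set_eq, Set.ncard_compl, ← Nat.card_coe_set_eq] at h7
      have h10 := card_sup_mul_inf (A := S) (N := N) le_normalizer_of_normal
      rw [h6, card_top, ← S.index_mul_card, mul_right_comm, mul_comm ♯S] at h10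
      refine Nat.le_of_mul_le_mul_left (le_trans ?_ h7) (Nat.pos_of_ne_zero index_ne_zero_of_finite)
      rw [Nat.mul_sub, ← S.index_mul_card]
      exact Nat.sub_le_sub_left (Nat.eq_of_mul_eq_mul_right (card_pos' S) h10).ge _
    exact fun w a b => (h9.ge ⟨a, fun c => b c.2⟩).2
  haveI : IsMulCommutative S := comm_iff_le_cent.2 fun w hw => le_cent1_iff.1 (by
    by_cases a : w ∈ N
    · have := h8 (x * w) (mul_mem (mem_cent1_self x) hw) fun b => hx ((mul_mem_cancel_right a).1 b)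
      exact le_cent1_iff.2 ((mul_mem_cancel_left (le_cent1_iff.1 le_rfl)).1 (le_cent1_iff.1 this.ge))
    · exact (h8 w hw a).ge)
  haveI : Group.IsSolvable G := ⟨⟨3, S0556.result S (h x hx).2⟩⟩
  infer_instance

end Cfsg.Agent.S3903
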