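import Cfsg.Statements.S4341
import Cfsg.Agent.Lib.Grp.L0Syl
import Cfsg.Agent.Lib.Grp.H1SZ

set_option autoImplicit false
open Cfsg

namespace Cfsg.Agent.S4341

open Subgroup CA.L0Syl CA.SylIn

/-- Let K be a normal subgroup of a finite group G, p a prime and P a Sylow p-subgroup of G; let N be the normalizer of P ∩ K inside the subgroup PK. Then the number of Sylow p-subgroups of G equals the product of the numbers of Sylow p-subgroups of G/K, of K, and of N/(P ∩ K). (The normality of P ∩ K in N, which always holds, is assumed as a hypothesis so that the quotient can be formed.) -/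
theorem result {G : Type*} [Group G] [Finite G]
    (p : ℕ) [Fact p.Prime] (K : Subgroup G) [K.Normal] (P : Sylow p G) (N : Subgroup G)
    (hN : N = ((P : Subgroup G) ⊔ K) ⊓ Subgroup.normalizer (((P : Subgroup G) ⊓ K : Subgroup G) : Set G))
    [hn : (((P : Subgroup G) ⊓ K).subgroupOf N).Normal] :
    Nat.card (Sylow p G) =
      Nat.card (Sylow p (G ⧸ K)) * Nat.card (Sylow p K) * Nat.card (Sylow p (N ⧸ ((P : Subgroup G) ⊓ K).subgroupOf N)) := by
  have hPN : (P : Subgroup G) ≤ N := by
    rw [hN]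
    refine le_inf le_sup_left (le_trans ?_ (inf_normalizer_le_normalizer_inf _ _))
    exact le_inf le_normalizer (le_top.trans (normalizer_eq_top K).ge)
  rw [card_sylow_eq_mul P K, mul_assoc, card_sylow_sub (isSylowIn_inf_normal P K),
    card_sylow_quotient_of_isPGroup _ (isPGroup_subgroupOf (P.isPGroup'.to_le inf_le_left) N),
    card_sylow_sub (isSylowIn_of_le P hPN)]
  congr 1
  set T := normalizer ((P : Subgroup G) : Set G) with hT
  set U := normalizer (((P : Subgroup G) ⊓ K : Subgroup G) : Set G) with hU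
  have hTU : T ≤ U := by
    refine le_trans ?_ (inf_normalizer_le_normalizer_inf _ _)
    exact le_inf le_rfl (le_top.trans (normalizer_eq_top K).ge)
  have hPT : (P : Subgroup G) ≤ T := le_normalizer
  have hN2 : N = (P : Subgroup G) ⊔ (K ⊓ U) := by
    rw [hN, CA.H1SZ.sup_inf_normal K (hPT.trans hTU)]
  have h1 : T.relIndex N = T.relIndex (K ⊓ U) := by
    have e1 := CA.Rad.card_inf_mul_relIndex T N
    have e2 := CA.Rad.card_inf_mul_relIndex T (K ⊓ U)
    have hPn : (P : Subgroup G) ≤ normalizer ((K ⊓ U : Subgroup G) : Set G) :=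
      CA.Rad.le_normalizer_inf (le_top.trans (normalizer_eq_top K).ge) ((hPT.trans hTU).trans le_normalizer)
    have e3 := CA.Rad.card_sup_mul_card_inf hPn
    have hTN : T ⊓ N = (P : Subgroup G) ⊔ (T ⊓ (K ⊓ U)) := by
      rw [hN2, inf_comm, CA.Rad.sup_inf_eq_of_le_normalizer hPT (Or.inl hPn), inf_comm]
    have e4 := CA.Rad.card_sup_mul_card_inf (H := (P : Subgroup G)) (N := T ⊓ (K ⊓ U))
      (CA.Rad.le_normalizer_inf (hPT.trans le_normalizer) hPn)
    rw [← hTN, ← inf_assoc, inf_eq_left.2 hPT] at e4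
    rw [← hN2] at e3
    have hpos : 0 < Nat.card (T ⊓ N : Subgroup G) * Nat.card ((P : Subgroup G) ⊓ (K ⊓ U) : Subgroup G) :=
      Nat.mul_pos Nat.card_pos Nat.card_pos
    apply Nat.eq_of_mul_eq_mul_left hpos
    calc _ = (Nat.card (T ⊓ N : Subgroup G) * T.relIndex N) * Nat.card ((P : Subgroup G) ⊓ (K ⊓ U) : Subgroup G) := by ring
      _ = _ := by rw [e1, e3, e4, ← e2]; ring
  rw [h1, ← inf_relIndex_right T K, ← inf_relIndex_right U K, inf_comm U K,
    ← inf_relIndex_right T (K ⊓ U), mul_comm,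
    relIndex_mul_relIndex _ _ _ inf_le_right inf_le_left]
  congr 1
  rw [inf_comm K U, ← inf_assoc, inf_eq_left.2 hTU]

end Cfsg.Agent.S4341
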