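import Cfsg.Statements.S3933
import Cfsg.Agent.Lib.Char.CharBurn
import Cfsg.Agent.S4341

set_option autoImplicit false
open Cfsg

namespace Cfsg.Agent.S3933

universe u

open MulAction in
lemma wie {G : Type*} [Group G] [Finite G] (H K V : Subgroup G) {r : ℕ} [Fact r.Prime]
    (hc : H.index.Coprime K.index) (hV : IsPGroup r V)
    (hH : H ≤ Subgroup.normalizer (V : Set G)) (hr : ¬ r ∣ K.index) : V ≤ K.normalCore := by
  have htr : ∀ y : G ⧸ K, ∃ h : H, h • ((1 : G) : G ⧸ K) = y := by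
    have h1 : stabilizer H ((1 : G) : G ⧸ K) = K.subgroupOf H := by
      ext h
      rw [mem_stabilizer_iff, Subgroup.mem_subgroupOf]
      have : (h : G) ∈ stabilizer G ((1 : G) : G ⧸ K) ↔ (h : G) ∈ K := by rw [stabilizer_quotient]
      exact (mem_stabilizer_iff (G := G)).symm.trans this
    have h2 := index_stabilizer H ((1 : G) : G ⧸ K)
    rw [h1] at h2
    have h3 : K.index ∣ K.relIndex H * H.index := by
      rw [← Subgroup.inf_relIndex_right, Subgroup.relIndex_mul_index inf_le_right]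
      exact Subgroup.index_dvd_of_le inf_le_left
    have h4 : K.index ∣ (orbit H ((1 : G) : G ⧸ K)).ncard := by
      rw [← h2]; exact hc.symm.dvd_of_dvd_mul_right h3
    have h5 : orbit H ((1 : G) : G ⧸ K) = Set.univ := by
      apply Set.eq_of_subset_of_ncard_le (Set.subset_univ _)
      rw [Set.ncard_univ]
      refine Nat.le_of_dvd ?_ h4
      rw [Set.ncard_pos]
      exact nonempty_orbit _
    intro y
    have : y ∈ orbit H ((1 : G) : G ⧸ K) := h5 ▸ Set.mem_univ y
    exact this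
  obtain ⟨x, hx⟩ := hV.nonempty_fixed_point_of_prime_not_dvd_card (G ⧸ K) hr
  rw [Subgroup.normalCore_eq_ker]
  intro v hv
  rw [MonoidHom.mem_ker]
  ext y
  obtain ⟨a, rfl⟩ := htr x
  obtain ⟨b, rfl⟩ := htr y
  have hm : ((a * b⁻¹ : H) : G) * v * ((a * b⁻¹ : H) : G)⁻¹ ∈ V :=
    (Subgroup.mem_normalizer_iff.mp (hH (a * b⁻¹).2) v).mp hv
  have h6 := hx ⟨_, hm⟩
  replace h6 : (((a * b⁻¹ : H) : G) * v * ((a * b⁻¹ : H) : G)⁻¹) • (a : G) • ((1 : G) : G ⧸ K) =
    (a : G) • ((1 : G) : G ⧸ K) := h6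
  change v • (b : G) • ((1 : G) : G ⧸ K) = (b : G) • ((1 : G) : G ⧸ K)
  have h7 := congrArg (fun z => ((b : G) * (a : G)⁻¹) • z) h6
  simp only [smul_smul] at h7 ⊢
  simpa only [Subgroup.coe_mul, Subgroup.coe_inv, mul_inv_rev, inv_inv, mul_assoc,
    inv_mul_cancel_left, mul_inv_cancel_left, inv_mul_cancel, mul_one] using h7

lemma qd {d n : ℕ} (hd : d ∣ n) (h : n = 1 ∨ IsPrimePow n) : d = 1 ∨ IsPrimePow d := by
  rcases h with rfl | h
  · exact Or.inl (Nat.dvd_one.mp hd)
  · by_cases h1 : d = 1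
    · exact Or.inl h1
    · exact Or.inr (h.dvd hd h1)

lemma fml {G : Type*} [Group G] [Finite G] (p : ℕ) [Fact p.Prime] (K : Subgroup G) [K.Normal] :
    Nat.card (Sylow p (G ⧸ K)) * Nat.card (Sylow p K) ∣ Nat.card (Sylow p G) := by
  obtain ⟨P⟩ : Nonempty (Sylow p G) := inferInstance
  haveI : (((P : Subgroup G) ⊓ K).subgroupOf (((P : Subgroup G) ⊔ K) ⊓
      Subgroup.normalizer (((P : Subgroup G) ⊓ K : Subgroup G) : Set G))).Normal :=
    (Subgroup.normal_subgroupOf_iff_le_normalizer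
      (le_inf (inf_le_left.trans le_sup_left) Subgroup.le_normalizer)).mpr inf_le_right
  exact Dvd.intro _ (Cfsg.Agent.S4341.result p K P _ rfl).symm

lemma simple (G : Type u) [Group G] [Finite G] [IsSimpleGroup G]
    (h : ∀ (r : ℕ) [Fact r.Prime], Nat.card (Sylow r G) = 1 ∨ IsPrimePow (Nat.card (Sylow r G))) :
    Group.IsSolvable G := by
  by_contra hns
  have h1 : ∀ (r : ℕ) [Fact r.Prime], r ∣ Nat.card G → ∃ q k : ℕ, q.Prime ∧ 0 < k ∧ q ≠ r ∧
      q ∣ Nat.card G ∧ Nat.card (Sylow r G) = q ^ k := by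
    intro r _ hr
    obtain ⟨R⟩ : Nonempty (Sylow r G) := inferInstance
    rcases h r with h2 | h2
    · exfalso
      rw [R.card_eq_index_normalizer, Subgroup.index_eq_one] at h2
      replace h2 : (R : Subgroup G).Normal := Subgroup.normalizer_eq_top_iff.mp h2
      rcases h2.eq_bot_or_eq_top with h3 | h3
      · exact R.ne_bot_of_dvd_card hr h3
      · have := R.isPGroup'
        rw [h3] at this
        haveI := (this.of_equiv Subgroup.topEquiv).isNilpotent
        exact hns inferInstance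
    · obtain ⟨q, k, hq, hk, e⟩ := (isPrimePow_nat_iff _).mp h2
      have hd : q ∣ Nat.card (Sylow r G) := e ▸ dvd_pow_self q hk.ne'
      refine ⟨q, k, hq, hk, ?_, (hd.trans R.card_dvd_index).trans (Subgroup.index_dvd_card _), e.symm⟩
      rintro rfl
      exact not_dvd_card_sylow q G hd
  have h2 : ∀ (r s : ℕ) [Fact r.Prime] [Fact s.Prime], r ∣ Nat.card G → ∀ q k q' k' : ℕ, q.Prime →
      q'.Prime → 0 < k' → Nat.card (Sylow r G) = q ^ k → Nat.card (Sylow s G) = q' ^ k' →
      q' = q ∨ q' = r := by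
    intro r s hr hs hrG q k q' k' hq hq' hk' e e'
    by_contra hc
    rw [not_or] at hc
    obtain ⟨R⟩ : Nonempty (Sylow r G) := inferInstance
    obtain ⟨S⟩ : Nonempty (Sylow s G) := inferInstance
    rw [R.card_eq_index_normalizer] at e
    rw [S.card_eq_index_normalizer] at e'
    have h3 := wie (Subgroup.normalizer (R : Set G)) (Subgroup.normalizer (S : Set G))
      (R : Subgroup G) (r := r)
      (by rw [e, e']; exact Nat.Coprime.pow _ _ ((Nat.coprime_primes hq hq').mpr (Ne.symm hc.1)))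
      R.isPGroup' le_rfl (by
        rw [e']; exact fun hd => hc.2 ((Nat.prime_dvd_prime_iff_eq hr.out hq').mp
          (hr.out.dvd_of_dvd_pow hd)).symm)
    rcases (Subgroup.normalCore_normal (Subgroup.normalizer (S : Set G))).eq_bot_or_eq_top with h4 | h4
    · exact R.ne_bot_of_dvd_card hrG (le_bot_iff.mp (h4 ▸ h3))
    · replace h4 := top_le_iff.mp (h4 ▸ Subgroup.normalCore_le _)
      rw [← Subgroup.index_eq_one, e'] at h4
      exact (Nat.one_lt_pow hk'.ne' hq'.one_lt).ne' h4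
  obtain ⟨r, hr, hrG⟩ := Nat.exists_prime_and_dvd (Finite.one_lt_card (α := G)).ne'
  haveI := Fact.mk hr
  obtain ⟨q, k, hq, hk, hqr, hqG, e⟩ := h1 r hrG
  refine hns (CChar.CharBurn.isSolvable_of_primes (p := q) (q := r) fun t ht htG => ?_)
  haveI := Fact.mk ht
  obtain ⟨s, j, hs, hj, hst, hsG, e1⟩ := h1 t htG
  haveI := Fact.mk hs
  obtain ⟨w, i, hw, hi, hws, hwG, e2⟩ := h1 s hsG
  have a1 := (h2 t s htG s j w i hs hw hi e1 e2).resolve_left hws
  exact a1 ▸ h2 r s hrG q k w i hq hw hi e e2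

/-- If for every prime r the number of Sylow r-subgroups of the finite group G is a prime power or 1, then G is solvable. -/
theorem result {G : Type*} [Group G] [Finite G] (h : ∀ (r : ℕ) [Fact r.Prime], Nat.card (Sylow r G) = 1 ∨ IsPrimePow (Nat.card (Sylow r G))) :
    Group.IsSolvable G := by
  exact CChar.CharBurn.isSolvable_of_forall_simple
    (P := fun X _ => ∀ (r : ℕ) [Fact r.Prime], Nat.card (Sylow r X) = 1 ∨
      IsPrimePow (Nat.card (Sylow r X)))
    (fun X _ _ N _ hX r _ => qd ((Dvd.intro_left _ rfl).trans (fml r N)) (hX r))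
    (fun X _ _ N _ hX r _ => qd ((Dvd.intro _ rfl).trans (fml r N)) (hX r))
    (fun X _ _ _ hX => simple X hX) G h

end Cfsg.Agent.S3933
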