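import Cfsg.Statements.S4017
import Cfsg.Agent.S3188
import Cfsg.Agent.Lib.Lin.PSL2Struct
import Cfsg.Agent.Lib.Char.CharBurn
import Cfsg.Agent.Lib.Grp.Hyperfocal

set_option autoImplicit false
open Cfsg

namespace Cfsg.Agent.S4017

open Subgroup CA.BG CA.PSL2Struct
open scoped MatrixGroups

theorem two_primes {m n p : ℕ} (h : m.Coprime n) (hm : Odd m) (hn : Odd n) (h1 : m ≠ 1) (h2 : n ≠ 1) :
    ∃ r, r.Prime ∧ r ≠ 2 ∧ r ≠ p ∧ (r ∣ m ∨ r ∣ n) := by
  obtain ⟨r, hr, hrm⟩ := Nat.exists_prime_and_dvd h1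
  obtain ⟨s, hs, hsn⟩ := Nat.exists_prime_and_dvd h2
  by_cases e : r = p
  · refine ⟨s, hs, fun e2 => ?_, fun e2 => ?_, Or.inr hsn⟩
    · exact (Nat.not_even_iff_odd.2 hn) (even_iff_two_dvd.2 (e2 ▸ hsn))
    · exact hr.one_lt.ne' (Nat.eq_one_of_dvd_coprimes h hrm (e ▸ e2 ▸ hsn))
  · exact ⟨r, hr, fun e2 => (Nat.not_even_iff_odd.2 hm) (even_iff_two_dvd.2 (e2 ▸ hrm)), e, Or.inl hrm⟩

theorem psl_sub {F : Type} [Field F] [Fintype F] (p : ℕ)
    (h : ((Fintype.card F % 8 = 3 ∨ Fintype.card F % 8 = 5) ∧ 5 ≤ Fintype.card F) ∨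
      (∃ n : ℕ, 2 ≤ n ∧ Fintype.card F = 2 ^ n)) :
    ∃ D : Subgroup PSL(2, F), Group.IsSolvable D ∧ 2 ∣ ♯D ∧ ∃ r, r.Prime ∧ r ≠ 2 ∧ r ≠ p ∧ r ∣ ♯D := by
  rw [← Nat.card_eq_fintype_card] at h
  have key : ∀ r, r.Prime → r ≠ 2 → r ≠ p → r ∣ Nat.card F ^ 2 - 1 →
      ∃ D : Subgroup PSL(2, F), Group.IsSolvable D ∧ 2 ∣ ♯D ∧
        ∃ r, r.Prime ∧ r ≠ 2 ∧ r ≠ p ∧ r ∣ ♯D := fun r hr h2 hp hd => by
    haveI := Fact.mk hr
    have h3 : r ∣ Nat.card PSL(2, F) := by
      have h4 : r ∣ dd F * Nat.card PSL(2, F) := by rw [card_PSL]; exact hd.mul_left _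
      exact (hr.dvd_mul.1 h4).resolve_left fun h5 =>
        h2 ((Nat.prime_dvd_prime_iff_eq hr Nat.prime_two).1 (h5.trans (Nat.gcd_dvd_left _ _)))
    obtain ⟨x, hx⟩ := exists_prime_orderOf_dvd_card' r h3
    have hx1 : x ≠ 1 := fun e => hr.one_lt.ne (by rw [← hx, e, orderOf_one])
    have h4 : (r : F) ≠ 0 := fun e => by
      have h5 : ((Nat.card F ^ 2 - 1 : ℕ) : F) = 0 := by
        obtain ⟨c, hc⟩ := hd
        rw [hc, Nat.cast_mul, e, zero_mul]
      rw [Nat.cast_sub (Nat.one_le_pow _ _ Nat.card_pos), Nat.cast_pow, Nat.card_eq_fintype_card,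
        FiniteField.cast_card_eq_zero] at h5
      simp at h5
    obtain ⟨g, hg, rfl⟩ := exists_ss_of_pow hx1 h4 (hx ▸ pow_orderOf_eq_one x)
    refine ⟨Db g, ?_, by rw [card_Db hg]; exact dvd_mul_right _ _, r, hr, h2, hp, ?_⟩
    · haveI : ((Tb g).subgroupOf (Db g)).Normal := normal_of_index_eq_two (relIndex_Tb hg)
      haveI := isCyclic_Tb hg
      haveI : IsCyclic ((Tb g).subgroupOf (Db g)) :=
        isCyclic_of_surjective _ (subgroupOfEquivOfLe (Tb_le_Db g)).symm.surjective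
      haveI : Fact (Nat.Prime 2) := ⟨Nat.prime_two⟩
      haveI : IsCyclic (Db g ⧸ (Tb g).subgroupOf (Db g)) := isCyclic_of_prime_card (relIndex_Tb hg)
      exact (Group.isSolvable_iff_subgroup_quotient ((Tb g).subgroupOf (Db g))).2
        ⟨Group.isSolvable_of_comm fun a b => IsCyclic.commGroup.mul_comm a b,
          Group.isSolvable_of_comm fun a b => IsCyclic.commGroup.mul_comm a b⟩
    · rw [← hx]; exact orderOf_dvd_natCard _ (Tb_le_Db g (self_mem_Tb g))
  have key2 : ∀ m n : ℕ, m ∣ Nat.card F - 1 → n ∣ Nat.card F + 1 → m.Coprime n → Odd m → Odd n →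
      m ≠ 1 → n ≠ 1 → ∃ D : Subgroup PSL(2, F), Group.IsSolvable D ∧ 2 ∣ ♯D ∧
        ∃ r, r.Prime ∧ r ≠ 2 ∧ r ≠ p ∧ r ∣ ♯D := fun m n h1 h2 h3 h4 h5 h6 h7 => by
    obtain ⟨r, hr, e1, e2, e3⟩ := two_primes (p := p) h3 h4 h5 h6 h7
    refine key r hr e1 e2 ?_
    rw [show Nat.card F ^ 2 - 1 = (Nat.card F + 1) * (Nat.card F - 1) by
      rw [← Nat.sq_sub_sq, one_pow]]
    exact e3.elim (fun e => (e.trans h1).mul_left _) fun e => (e.trans h2).mul_right _
  have cop : ∀ m n q : ℕ, 1 ≤ q → m ∣ q - 1 → n ∣ q + 1 → Odd m → m.Coprime n := fun m n q h0 h1 h2 h3 => by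
    refine Nat.coprime_of_dvd fun k hk e1 e2 => ?_
    have e3 : k ∣ 2 := by
      have := Nat.dvd_sub (e2.trans h2) (e1.trans h1)
      rwa [show q + 1 - (q - 1) = 2 by omega] at this
    rw [(Nat.prime_dvd_prime_iff_eq hk Nat.prime_two).1 e3] at e1
    exact (Nat.not_even_iff_odd.2 h3) (even_iff_two_dvd.2 e1)
  by_cases h5 : Nat.card F = 5
  · by_cases h3 : p = 3
    · have e := card_Bb (F := F)
      rw [dd, h5] at e
      have e2 : ♯(Bb F) = 10 := by norm_num at e; omega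
      exact ⟨Bb F, CChar.CharBurn.isSolvable_of_card_eq (a := 1) (b := 1) Nat.prime_two Nat.prime_five e2,
        by rw [e2]; norm_num, 5, Nat.prime_five, by norm_num, by omega, by rw [e2]; norm_num⟩
    · exact key 3 Nat.prime_three (by norm_num) (Ne.symm h3) (by rw [h5]; norm_num)
  generalize Nat.card F = q at *
  rcases h with ⟨h | h, h'⟩ | ⟨n, h, h'⟩
  · have a1 : (q - 1) / 2 ∣ q - 1 := Nat.div_dvd_of_dvd (by omega)
    have a2 : (q + 1) / 4 ∣ q + 1 := Nat.div_dvd_of_dvd (by omega)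
    have a3 : Odd ((q - 1) / 2) := Nat.odd_iff.2 (by omega)
    exact key2 _ _ a1 a2 (cop _ _ q (by omega) a1 a2 a3) a3 (Nat.odd_iff.2 (by omega)) (by omega) (by omega)
  · have a1 : (q - 1) / 4 ∣ q - 1 := Nat.div_dvd_of_dvd (by omega)
    have a2 : (q + 1) / 2 ∣ q + 1 := Nat.div_dvd_of_dvd (by omega)
    have a3 : Odd ((q - 1) / 4) := Nat.odd_iff.2 (by omega)
    exact key2 _ _ a1 a2 (cop _ _ q (by omega) a1 a2 a3) a3 (Nat.odd_iff.2 (by omega)) (by omega) (by omega)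
  · obtain ⟨n, rfl⟩ : ∃ m, n = m + 2 := ⟨n - 2, by omega⟩
    rw [pow_add] at h'
    have : 0 < 2 ^ n := by positivity
    have a3 : Odd (q - 1) := Nat.odd_iff.2 (by omega)
    exact key2 _ _ dvd_rfl dvd_rfl (cop _ _ q (by omega) dvd_rfl dvd_rfl a3) a3
      (Nat.odd_iff.2 (by omega)) (by omega) (by omega)

/-- Let G be a finite group and let p and q be distinct primes dividing the order of G, with p odd. Suppose that p divides the order of every proper subgroup of G that is neither a q-group nor of order prime to q. Let q^a be the q-part of the order of G. If p > q^a − 1, or if p = q^a − 1 and the Sylow p-subgroups of G are abelian, then p and q are the only primes dividing the order of G. -/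
theorem result {G : Type*} [Group G] [Finite G]
    {p q : ℕ} (hp : p.Prime) (hq : q.Prime) (hpq : p ≠ q) (hp2 : p ≠ 2)
    (hpG : p ∣ Nat.card G) (hqG : q ∣ Nat.card G)
    (hmix : ∀ H : Subgroup G, H ≠ ⊤ → ¬ IsPGroup q H → q ∣ Nat.card H → p ∣ Nat.card H)
    (hlarge : q ^ (Nat.card G).factorization q - 1 < p ∨
      (p = q ^ (Nat.card G).factorization q - 1 ∧ ∀ P : Sylow p G, IsMulCommutative P)) :
    ∀ r : ℕ, r.Prime → r ∣ Nat.card G → r = p ∨ r = q := by
  intro r hr hrG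
  by_contra hr2
  push Not at hr2
  haveI := Fact.mk hq
  have h1 : ∀ s : ℕ, s.Prime → s ≠ p → s ≠ q → ∀ K : Subgroup G, IsPi {q, s} K → q ∣ ♯K → ¬ s ∣ ♯K :=
    fun s hs e1 e2 K hK e3 e4 => by
      have e5 : ¬ p ∣ ♯K := fun e => by
        rcases hK p hp e with e | e
        exacts [hpq e, e1 e.symm]
      refine e5 (hmix K (fun e => e5 (by rw [e, card_top]; exact hpG)) (fun e => ?_) e3)
      exact e2 (((isPi_iff_isPGroup hq).2 e) s hs e4)
  have h2 : ∀ s : ℕ, s.Prime → s ≠ p → s ≠ q → ∀ H : Subgroup G, Group.IsSolvable H → q ∣ ♯H →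
      ¬ s ∣ ♯H := fun s hs e1 e2 H hH e3 e4 => by
    obtain ⟨K, hK⟩ := hall_exists {q, s} hH
    exact h1 s hs e1 e2 K hK.pi (hK.dvd_card hq (by simp) e3) (hK.dvd_card hs (by simp) e4)
  have h3 : ∀ X : Subgroup G, IsPi {q} X → X ≠ ⊥ → ∀ s : ℕ, s.Prime → s ∣ ♯𝓝(X) → s = p ∨ s = q :=
    fun X hX h0 s hs e => by
      by_contra e2
      push Not at e2
      obtain ⟨Y, e3, e4⟩ := exists_card_eq_prime hs e
      exact h1 s hs e2.1 e2.2 (Y ⊔ X) (((isPi_of_card_eq hs e4).sub (by simp)).sup (hX.sub (by simp)) e3)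
        ((hX.dvd_card h0).trans (card_dvd_of_le le_sup_right)) (e4 ▸ card_dvd_of_le le_sup_left)
  obtain ⟨P⟩ : Nonempty (Sylow q G) := inferInstance
  have hPc := P.card_eq_multiplicity
  by_cases hN : HasNormalPComplement q G
  · obtain ⟨S, N, hn, hc⟩ := hN
    have hS : IsPi {q} (S : Subgroup G) := (isPi_iff_isPGroup hq).2 S.2
    have e0 := hc.card_mul
    have e1 : ¬ q ∣ ♯N := by rw [← hc.index_eq_card]; exact S.not_dvd_index
    obtain ⟨R, hR, hRn⟩ := coprime_Sylow_exists hr (top_le_norm N S)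
      (((isPi_compl_iff hq).2 e1).coprime' hS) (Or.inl (hS.isSolvable hq))
    rw [← e0] at hrG hqG
    have e2 : r ∣ ♯N := (hr.dvd_mul.1 hrG).resolve_right fun e => hr2.2 (hS r hr e)
    exact h1 r hr hr2.1 hr2.2 (S ⊔ R) ((hS.sub (by simp)).sup (hR.pi.sub (by simp)) hRn)
      (((hq.dvd_mul.1 hqG).resolve_left e1).trans (card_dvd_of_le le_sup_left))
      ((hR.dvd_card hr rfl e2).trans (card_dvd_of_le le_sup_right))
  obtain ⟨Q, hQ, hQ0, g, hg, hgo, hgc⟩ : ∃ Q : Subgroup G, Q ≤ P ∧ Q ≠ ⊥ ∧ ∃ g ∈ 𝓝(Q),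
      (orderOf g).Coprime q ∧ g ∉ 𝓒(Q) := by
    by_contra h
    push Not at h
    exact hN (CA.Hyperfocal.hasNPC_of_forall_le_sylow P h)
  have hQq : IsPi {q} Q := ((isPi_iff_isPGroup hq).2 P.2).of_le hQ
  have hgp : PiNat {p} (orderOf g) := fun s hs e =>
    (h3 Q hQq hQ0 s hs (e.trans (orderOf_dvd_natCard _ hg))).resolve_right fun e2 =>
      not_dvd_of_coprime hs hgo e (e2 ▸ dvd_rfl)
  obtain ⟨x, hx, hxg⟩ : ∃ x ∈ Q, g ∉ 𝓒₁(x) := by
    by_contra h
    push Not at h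
    exact hgc (mem_cent.2 fun x hx => (mem_centralizer_singleton_iff.1 (h x hx)).symm)
  have hx1 : x ≠ 1 := fun e => hxg (by rw [e]; exact mem_centralizer_singleton_iff.2 (by simp))
  let f : Option (Fin p) → Q := fun o => o.elim 1 fun i =>
    ⟨g ^ (i : ℕ) * x * (g ^ (i : ℕ))⁻¹, (mem_normalizer_iff.1 (pow_mem hg _) x).1 hx⟩
  have hlt : ∀ i j : Fin p, i < j → f (some i) ≠ f (some j) := fun i j hij e => by
    have e1 : g ^ (i : ℕ) * x * (g ^ (i : ℕ))⁻¹ = g ^ (j : ℕ) * x * (g ^ (j : ℕ))⁻¹ := Subtype.mk.inj e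
    obtain ⟨d, hd⟩ := Nat.exists_eq_add_of_lt (show (i : ℕ) < j from hij)
    rw [hd, add_assoc, pow_add, mul_inv_rev, ← mul_assoc, mul_left_inj, mul_assoc, mul_assoc,
      mul_right_inj, ← mul_assoc, eq_mul_inv_iff_mul_eq] at e1
    refine hxg (CA.AmbRes.mem_of_pow_mem_of_coprime (n := d + 1) (hgp.coprime ((piNat_compl_iff hp).2
      fun e => ?_)) (mem_centralizer_singleton_iff.2 e1.symm))
    have := Nat.le_of_dvd (by omega) e
    have := j.2
    omega
  have hf : Function.Injective f := by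
    rintro (_ | i) (_ | j) e
    · rfl
    · exact absurd (by simpa using (Subtype.mk.inj e).symm) hx1
    · exact absurd (by simpa using Subtype.mk.inj e) hx1
    · rcases lt_trichotomy i j with h | h | h
      exacts [absurd e (hlt i j h), by rw [h], absurd e.symm (hlt j i h)]
  have c1 := Nat.card_le_card_of_injective f hf
  have c0 : Nat.card (Option (Fin p)) = p + 1 := by simp
  have c2 := card_le_of_le hQ
  rw [c0] at c1
  rw [hPc] at c2
  obtain ⟨c3, -⟩ := hlarge.resolve_left (by omega)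
  have hq2 : q = 2 := by
    have e1 : Even (q ^ (Nat.card G).factorization q) := by
      have := Nat.odd_iff.1 (hp.odd_of_ne_two hp2)
      exact Nat.even_iff.2 (by omega)
    exact (hq.even_iff).1 (Nat.even_pow.1 e1).1
  subst hq2
  have hQP : Q = P := eq_of_le_of_card_ge hQ (by rw [hPc]; omega)
  have hsurj := (hf.bijective_of_nat_card_le (by rw [c0]; omega)).2
  have ho : ∀ y ∈ Q, y ≠ 1 → orderOf y = orderOf x := fun y hy h => by
    obtain ⟨_ | i, e⟩ := hsurj ⟨y, hy⟩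
    · exact absurd (Subtype.mk.inj e).symm h
    · rw [← Subtype.mk.inj e]; exact (MulAut.conj (g ^ (i : ℕ))).orderOf_eq x
  obtain ⟨t, ht, ht2⟩ := exists_orderOf_eq hq (hQq.dvd_card hQ0)
  have hsq : ∀ y ∈ Q, y * y = 1 := fun y hy => by
    by_cases h : y = 1
    · rw [h, mul_one]
    rw [← sq, ← ht2, ho t ht (fun e => by rw [e, orderOf_one] at ht2; omega), ← ho y hy h,
      pow_orderOf_eq_one]
  have hcomm : IsMulCommutative (P : Subgroup G) := hQP ▸ comm_iff_le_cent.2 fun a ha =>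
    mem_cent.2 fun b hb => by
      have := hsq _ (mul_mem hb ha)
      rw [← inv_eq_of_mul_eq_one_right this, mul_inv_rev, inv_eq_of_mul_eq_one_right (hsq a ha),
        inv_eq_of_mul_eq_one_right (hsq b hb)]
  rcases Cfsg.Agent.S3188.result P hcomm (fun t ht => CChar.CharBurn.isSolvable_of_primes
      (p := p) (q := 2) fun s hs e => h3 (zpowers t) (isPi_zpowers.2 (by rw [ht]; exact (piNat_prime hq).2 rfl))
        (fun e => by rw [zpowers_eq_bot] at e; rw [e, orderOf_one] at ht; omega) s hs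
        (e.trans (card_dvd_of_le (by rw [← cent_zpowers]; exact centralizer_le_normalizer _)))) with
    h | ⟨F, _, _, hF, N, -, ⟨e⟩, -⟩
  · exact h2 r hr hr2.1 hr2.2 ⊤ inferInstance (by rwa [card_top]) (by rwa [card_top])
  obtain ⟨D, hD, d2, s, hs, s2, sp, ds⟩ := psl_sub p hF
  let φ := N.subtype.comp e.symm.toMonoidHom
  have hφ : Function.Injective φ := N.subtype_injective.comp e.symm.injective
  have c4 : ♯D ∣ ♯((D.map φ).comap (QuotientGroup.mk' (Cfsg.oddCore G))) := by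
    rw [← card_map_of_injective hφ]
    nth_rewrite 1 [← map_comap_eq_self_of_surjective (QuotientGroup.mk'_surjective _) (D.map φ)]
    exact card_map_dvd _ _
  refine h2 s hs sp s2 _ ?_ (d2.trans c4) (ds.trans c4)
  haveI : Group.IsSolvable (Cfsg.oddCore G) := by
    rw [Cfsg.oddCore, ← core_p'_top Nat.prime_two]; exact (CA.GW.od_core ⊤).solv
  haveI : Group.IsSolvable (D.map φ) :=
    Group.isSolvable_of_surjective (f := φ.subgroupMap D) (φ.subgroupMap_surjective D)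
  refine Group.isSolvable_of_ker_le_range (inclusion (show Cfsg.oddCore G ≤ (D.map φ).comap
    (QuotientGroup.mk' (Cfsg.oddCore G)) from fun y hy => by
      rw [mem_comap, QuotientGroup.mk'_apply, (QuotientGroup.eq_one_iff y).2 hy]; exact one_mem _))
    ((QuotientGroup.mk' (Cfsg.oddCore G)).subgroupComap (D.map φ)) fun y hy => ?_
  exact ⟨⟨y, (QuotientGroup.eq_one_iff _).1 (congrArg Subtype.val hy)⟩, rfl⟩

end Cfsg.Agent.S4017
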