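import Cfsg.Statements.S4018
import Cfsg.Agent.Lib.Grp.H4Cls
import Cfsg.Agent.Lib.Grp.Friend
import Cfsg.Agent.Lib.Solv.FpfRed

set_option autoImplicit false
open Cfsg

namespace Cfsg.Agent.S4018

open Subgroup CA.BG CA.H4Cls

theorem aux {G : Type*} [Group G] [Finite G] [IsSimpleGroup G] {P : Subgroup G} (hP : Syl 3 P ⊤)
    (hab : IsMulCommutative P) (hN : ♯𝓝(P) = 4 * ♯P) (hC : ♯𝓒(P) = 2 * ♯P)
    (hTI : IsTISubset (𝓒(P) : Set G))
    (heven : ∀ H : Subgroup G, H ≠ ⊤ → 2 ∣ ♯H → ♯H ∣ 4 * ♯P) : False := by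
  classical
  haveI : Fact (Nat.Prime 2) := ⟨Nat.prime_two⟩
  have p2 := Nat.prime_two
  have p3 := Nat.prime_three
  have hm := card_pos' P
  obtain ⟨k, hk⟩ := hP.pi.exists_card p3
  have hodd : Odd ♯P := hk ▸ Odd.pow (by decide)
  have hPC : P ≤ 𝓒(P) := comm_iff_le_cent.1 hab
  have hCN := cent_le_norm P
  have hCT : 𝓒(P) ≠ ⊤ := fun e => by
    rw [eq_top_iff.2 (e.ge.trans hCN)] at hN
    rw [e] at hC
    omega
  have hZ : center G = ⊥ := by
    refine (inferInstance : (center G).Normal).eq_bot_or_eq_top.resolve_right fun e => hCT ?_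
    exact eq_top_iff.2 fun x _ => mem_cent.2 fun y _ => mem_center_iff.1 (e ▸ mem_top x) y
  have hsolv : ∀ H : Subgroup G, Group.IsSolvable H → H ≠ ⊤ := by
    rintro _ h rfl
    haveI : Group.IsSolvable G := CA.Core.isSolvable_of_equiv topEquiv h
    have := IsSimpleGroup.comm_iff_isSolvable.2 this
    exact hCT (eq_top_iff.2 fun x _ => mem_cent.2 fun y _ => this y x)
  have h3 : 3 ≤ ♯P := by
    rcases k with _ | k
    · exact absurd (by rw [card_eq_one.1 hk, cent_bot]) hCT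
    · rw [hk, pow_succ]; have := pow_pos (show 0 < 3 by decide) k; omega
  have hPN : Syl 3 P 𝓝(P) := hP.of_le (le_norm_self P) le_top
  have hti : ∀ y ∈ 𝓒(P), y ≠ 1 → ∀ g, g * y * g⁻¹ ∈ 𝓒(P) → g ∈ 𝓝(P) := by
    intro y hy h1 g hg
    by_contra e
    exact h1 (hTI g (fun e' => e ((hP.of_le hPC le_top).norm_of_normal hCN e')) y hy hg)
  obtain ⟨t, ht, ho⟩ := exists_orderOf_eq p2 (H := 𝓒(P)) ⟨_, hC⟩
  have ht1 : t ≠ 1 := by rintro rfl; simp at ho
  have ht2 : t * t = 1 := by rw [← pow_two, ← ho, pow_orderOf_eq_one]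
  have hct : ♯(zpowers t) = 2 := by rw [Nat.card_zpowers, ho]
  have hPt : zpowers t ≤ 𝓒(P) := zpowers_le.2 ht
  have hCe : zpowers t ⊔ P = 𝓒(P) := by
    refine eq_of_le_of_card_eq (sup_le hPt hPC) ?_
    rw [card_sup_of_disjoint (hPt.trans hCN) (inf_eq_bot_of_cop (by
      rw [hct]; exact Nat.coprime_two_left.2 hodd)), hct, hC]
  have hCc : IsMulCommutative 𝓒(P) := hCe ▸ comm_sup (comm_of_cyclic (cyc_zpowers t)) hab hPt
  have inv_pi : ∀ {u : G}, u * u = 1 → IsPi {2} (zpowers u) := fun {u} hu => isPi_zpowers.2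
    (((piNat_prime (π := {2}) p2).2 rfl).of_dvd (orderOf_dvd_of_pow_eq_one (by rwa [pow_two])))
  have hmem : ∀ u ∈ zpowers t, u ≠ 1 → u = t := by
    intro u hu h1
    obtain ⟨i, hi, rfl⟩ := (mem_zpowers_iff_mem_range_orderOf.1 hu |> Finset.mem_image.1)
    rw [ho, Finset.mem_range] at hi
    interval_cases i <;> simp_all
  have huniq : ∀ u ∈ 𝓒(P), u * u = 1 → u ≠ 1 → u = t := by
    intro u hu h1 h2
    have h4 : Syl 2 (zpowers t) 𝓒(P) := Syl.mk'' p2 hPt (inv_pi ht2) (by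
      have := card_mul_relIndex hPt
      rw [hct, hC] at this
      rw [Nat.eq_of_mul_eq_mul_left two_pos this]
      exact fun e => Nat.not_even_iff_odd.2 hodd (even_iff_two_dvd.2 e))
    exact hmem u (h4.le_of_normal (norm_of_comm hCc hPt) (inv_pi h1) (zpowers_le.2 hu)
      (mem_zpowers u)) h2
  have hNt : 𝓝(P) = 𝓒₁(t) := by
    have h4 : 𝓝(P) ≤ 𝓒₁(t) := fun n hn => mem_cent1.2 (mul_inv_eq_iff_eq_mul.1 (huniq _
      (conj_mem_of_mem_norm (norm_cent le_rfl hn) ht)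
      (by rw [conj_mul, ht2]; group) (by simpa using ht1)))
    refine eq_of_le_of_card_le h4 (hN ▸ Nat.le_of_dvd (by omega) (heven _ (fun e => ht1 ?_) ?_))
    · rw [← mem_bot, ← hZ]
      exact mem_center_iff.2 fun g => mem_cent1.1 (e ▸ mem_top g)
    · exact ho ▸ orderOf_dvd_card_of_mem (mem_cent1_self t)
  have hres : pResidual 2 G = ⊤ := by
    refine (inferInstance : (pResidual 2 G).Normal).eq_bot_or_eq_top.resolve_left fun e => ?_
    exact (IsPGroup.bot_lt_center (CA.PRes.pResidual_eq_bot_iff.1 e)).ne' hZ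
  have hS : ∀ S, IsPi {2} S → S ≤ 𝓝(P) → t ∈ S → ∃ T, S ≤ T ∧ T ≤ 𝓝(P) ∧ Syl 2 T ⊤ ∧ ♯T = 4 ∧
      IsMulCommutative T ∧ T ⊓ 𝓒(𝓝(T)) = ⊥ := by
    intro S h1 h2 h4
    obtain ⟨T, a, b⟩ := syl_superset p2 h1 h2
    have c4 : ∀ U : Subgroup G, IsPi {2} U → ♯U ∣ 4 * ♯P → ♯U ∣ 4 := fun U h1 h2 =>
      (h1.coprime_ne hP.pi (by decide)).dvd_of_dvd_mul_right h2
    have c : ♯T = 4 := by
      refine Nat.dvd_antisymm (c4 T a.pi (hN ▸ card_dvd a.le)) ?_
      have := card_mul_relIndex a.le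
      refine Nat.Coprime.dvd_of_dvd_mul_right (k := 2 ^ 2) (Nat.Coprime.pow_left 2 ((Nat.Prime.coprime_iff_not_dvd p2).2
        (a.not_dvd p2))) ⟨_, this.trans hN⟩
    have d : Syl 2 T ⊤ := syl_of_maximal p2 le_top a.pi fun U h1 h2 _ =>
      (eq_of_le_of_card_le h2 (c ▸ Nat.le_of_dvd (by decide) (c4 U h1 (heven U
        (hsolv U (h1.isSolvable p2)) (ho ▸ orderOf_dvd_card_of_mem (h2 (b h4))))))).symm
    have e : IsMulCommutative T := IsPGroup.isMulCommutative_of_card_eq_prime_sq (p := 2) c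
    refine ⟨T, b, a.le, d, c, e, ?_⟩
    obtain ⟨T, rfl⟩ := d.exists_sylow_top p2
    have := (CA.Fus2.abelian_sylow_decomp T e).1
    rwa [hres, inf_top_eq] at this
  have hconj : ∀ u : G, IsPi {2} (zpowers u) → u ≠ 1 → ∃ g, g * t * g⁻¹ = u := by
    intro u h1 h2
    obtain ⟨T, a, b, c, d, e, f⟩ := hS _ (inv_pi ht2) (hPt.trans hCN) (mem_zpowers t)
    obtain ⟨g, -, hg⟩ := c.syl_conj_le p2 h1 le_top
    obtain ⟨n, -, hn⟩ := exists_conj_mem c e f a (by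
      have := card_mul_relIndex a
      rw [hct, d] at this
      exact ⟨1, by omega⟩) (hg (conj_mem_cj.2 (mem_zpowers u)))
    exact ⟨(n * g)⁻¹, by rw [← hmem _ hn (by simpa using h2)]; group⟩
  have hinv : ∀ a ∈ 𝓝(P), a * a = 1 → a ≠ 1 → a ≠ t → ∀ c ∈ 𝓒(P), a * c * a⁻¹ = c⁻¹ := by
    intro a ha h1 h2 h4
    have hat : zpowers a ≤ 𝓒(zpowers t) := by rwa [cent_zpowers, zpowers_le, ← hNt]
    obtain ⟨T, a1, b, c, d, e, f⟩ := hS _ ((inv_pi h1).sup (inv_pi ht2) (norm_of_cent hat))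
      (sup_le (zpowers_le.2 ha) (hPt.trans hCN)) ((le_sup_right : zpowers t ≤ _) (mem_zpowers t))
    have hT : zpowers a ⊔ zpowers t = T := by
      refine eq_of_le_of_card_eq a1 ?_
      have h5 : orderOf a = 2 := orderOf_eq_prime (by rwa [pow_two]) h2
      rw [card_sup_of_disjoint (norm_of_cent hat) (inf_eq_bot_of_prime_not_le
        (by rw [Nat.card_zpowers, h5]; exact p2) fun e => h4 (hmem a (e (mem_zpowers a)) h2)), hct,
        Nat.card_zpowers, h5, d]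
    have htT : t ∈ T := a1 ((le_sup_right : zpowers t ≤ _) (mem_zpowers t))
    have hf : ∀ y ∈ P, a * y * a⁻¹ = y → y = 1 := by
      intro y hy h5
      by_contra h6
      apply ht1
      rw [← mem_bot, ← f]
      refine ⟨htT, mem_cent.2 fun n hn => mem_cent1.1 (hNt ▸ hti y (hPC hy) h6 n (hPC ?_))⟩
      have h7 : y ∈ 𝓒(T) := by
        rw [← hT, cent_sup, cent_zpowers, cent_zpowers]
        exact ⟨mem_cent1.2 (mul_inv_eq_iff_eq_mul.1 h5).symm, hNt ▸ le_norm_self P hy⟩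
      refine hPN.mem_of_normal le_rfl (hNt ▸ cent_le_cent1 htT
        (conj_mem_of_mem_norm (norm_cent le_rfl hn) h7)) ?_
      rw [← MulAut.conj_apply, MulEquiv.orderOf_eq]
      exact hP.pi.orderOf hy
    intro c hc
    obtain ⟨u, hu, y, hy, rfl⟩ := (mem_sup_norm (hPt.trans hCN)).1 (hCe ▸ hc)
    have h5 := CA.FpfRed.inv_of_fpf hodd ha hf hy (by rw [h1, one_mul, mul_one])
    have h6 : a * u * a⁻¹ = u⁻¹ := by
      by_cases e : u = 1
      · simp [e]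
      · rw [hmem u hu e, inv_eq_of_mul_eq_one_right ht2, mem_cent1.1 (show a ∈ 𝓒₁(t) from hNt ▸ ha), mul_inv_cancel_right]
    rw [← conj_mul, h5, h6, ← mul_inv_rev, mem_cent.1 (hPt hu) y hy]
  have hidx : (𝓒(P)).relIndex 𝓝(P) = 2 := by
    have := card_mul_relIndex hCN
    rw [hN, hC] at this
    exact Nat.eq_of_mul_eq_mul_left (show 0 < 2 * ♯P by omega) (by omega)
  have hmul : ∀ a ∈ 𝓝(P), ∀ b ∈ 𝓝(P), a ∉ 𝓒(P) → b ∉ 𝓒(P) → a * b ∈ 𝓒(P) := fun a ha b hb h1 h2 =>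
    (mul_mem_iff_of_index_two (H := 𝓒(P).subgroupOf 𝓝(P)) hidx (a := ⟨a, ha⟩) (b := ⟨b, hb⟩)).2
      (iff_of_false h1 h2)
  have hnb : ∀ a : G, (a * a = 1 ∧ a ≠ 1) ∧ t ≠ a ∧ t * a = a * t ↔ a ∈ 𝓝(P) ∧ a ∉ 𝓒(P) := by
    intro a
    constructor
    · rintro ⟨⟨h1, h2⟩, h4, h5⟩
      exact ⟨hNt ▸ mem_cent1.2 h5.symm, fun e => h4 (huniq a e h1 h2).symm⟩
    · rintro ⟨h1, h2⟩
      refine ⟨⟨?_, fun e => h2 (e ▸ one_mem _)⟩, fun e => h2 (e ▸ ht), (mem_cent1.1 (hNt ▸ h1)).symm⟩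
      obtain ⟨T, a1, b, c, d, e, f⟩ := hS _ (inv_pi ht2) (hPt.trans hCN) (mem_zpowers t)
      obtain ⟨s, s1, s2⟩ : ∃ s ∈ T, s ∉ zpowers t := by
        by_contra! e
        have := card_le_of_le' (H := T) e
        omega
      have s3 : s ≠ 1 := fun e => s2 (e ▸ one_mem _)
      have s4 : s ≠ t := fun e => s2 (e ▸ mem_zpowers t)
      obtain ⟨g, hg⟩ := hconj s (c.pi.of_le (zpowers_le.2 s1)) s3
      have s5 : s * s = 1 := by rw [← hg, conj_mul, ht2]; group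
      have := hinv s (b s1) s5 s3 s4 _ (hmul s (b s1) a h1 (fun e => s4 (huniq s e s5 s3)) h2)
      rw [← mul_assoc, s5, one_mul, mul_inv_rev, mul_left_inj] at this
      exact mul_eq_one_iff_eq_inv.2 this
  haveI := Fintype.ofFinite {x : G // x * x = 1 ∧ x ≠ 1}
  haveI : Nonempty {x : G // x * x = 1 ∧ x ≠ 1} := ⟨⟨t, ht2, ht1⟩⟩
  have cjn : ∀ g a : G, ((a * a = 1 ∧ a ≠ 1) ∧ g * t * g⁻¹ ≠ a ∧ g * t * g⁻¹ * a = a * (g * t * g⁻¹)) ↔
      g⁻¹ * a * g ∈ 𝓝(P) ∧ g⁻¹ * a * g ∉ 𝓒(P) := by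
    intro g a
    obtain ⟨a, rfl⟩ : ∃ b, a = g * b * g⁻¹ := ⟨g⁻¹ * a * g, by group⟩
    rw [show g⁻¹ * (g * a * g⁻¹) * g = a by group, ← hnb]
    simp only [conj_mul, ne_eq, conj_eq_one_iff, mul_left_inj, mul_right_inj]
  have := CA.Friend.friend (V := {x : G // x * x = 1 ∧ x ≠ 1})
    (fun a b => a.1 ≠ b.1 ∧ a.1 * b.1 = b.1 * a.1) (fun a b h => ⟨h.1.symm, h.2.symm⟩)
    (fun a h => h.1 rfl) (d := 2 * ♯P) ?_ ?_
  · omega
  · rintro ⟨v, h1, h2⟩
    obtain ⟨g, rfl⟩ := hconj v (inv_pi h1) h2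
    have : Subtype.val '' {w : {x : G // x * x = 1 ∧ x ≠ 1} | g * t * g⁻¹ ≠ w.1 ∧
        g * t * g⁻¹ * w.1 = w.1 * (g * t * g⁻¹)} = (cj g 𝓝(P) : Set G) \ cj g 𝓒(P) := by
      ext a
      simp only [Set.mem_diff, SetLike.mem_coe, mem_cj, ← cjn]
      exact ⟨by rintro ⟨w, hw, rfl⟩; exact ⟨w.2, hw⟩, fun h => ⟨⟨a, h.1⟩, h.2, rfl⟩⟩
    rw [← Set.ncard_image_of_injective _ Subtype.val_injective, this,
      Set.ncard_diff (cj_mono g hCN), ← Nat.card_coe_set_eq, ← Nat.card_coe_set_eq]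
    simp only [SetLike.coe_sort_coe, card_cj, hN, hC]
    omega
  rintro ⟨a, a1, a2⟩ ⟨b, b1, b2⟩ hne
  replace hne : a ≠ b := fun e => hne (Subtype.ext e)
  have ea := inv_eq_of_mul_eq_one_right a1
  have eb := inv_eq_of_mul_eq_one_right b1
  have hab1 : a * b ≠ 1 := fun e => hne (by rw [← ea, inv_eq_of_mul_eq_one_right e])
  refine existsUnique_of_exists_of_unique ?_ ?_
  · by_cases e : a * b = b * a
    · refine ⟨⟨a * b, ?_, hab1⟩, ⟨by simpa using b2, ?_⟩, ⟨?_, ?_⟩⟩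
      · rw [mul_assoc, ← mul_assoc b, ← e, mul_assoc, b1, mul_one, a1]
      · show a * (a * b) = a * b * a
        rw [mul_assoc, ← e]
      · simpa using a2
      · show b * (a * b) = a * b * b
        rw [← mul_assoc, e]
    have i1 : a * (a * b) * a⁻¹ = (a * b)⁻¹ := by rw [← mul_assoc, a1, one_mul, mul_inv_rev, eb]
    have i2 : b * (a * b) * b⁻¹ = (a * b)⁻¹ := by rw [mul_inv_rev, ea, eb]; simp [mul_assoc, b1]
    have hn : zpowers a ≤ 𝓝(zpowers (a * b)) := by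
      rw [zpowers_le, mem_norm_iff_cj, cj_zpowers, i1, zpowers_inv]
    have h4 := (orderOf_dvd_card_of_mem ((le_sup_right : zpowers (a * b) ≤ _) (mem_zpowers _))).trans
      (heven _ (hsolv _ (solv_sup (solv_of_comm (comm_of_cyclic (cyc_zpowers _)))
        (solv_of_comm (comm_of_cyclic (cyc_zpowers _))) hn))
        ((orderOf_eq_prime (p := 2) (by rwa [pow_two]) a2) ▸
          orderOf_dvd_card_of_mem ((le_sup_left : zpowers a ≤ _) (mem_zpowers _))))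
    have h5 : 3 ∣ orderOf (a * b) := by
      by_contra h5
      have h6 : orderOf (a * b) ∣ 2 ^ 2 := Nat.Coprime.dvd_of_dvd_mul_right
        (hk ▸ Nat.Coprime.pow_right k ((Nat.Prime.coprime_iff_not_dvd p3).2 h5).symm) h4
      obtain ⟨g, hg⟩ := hconj _ (isPi_zpowers.2 ((piNat_pow p2 2).of_dvd h6)) hab1
      have : a * b * (a * b) = 1 := by rw [← hg, conj_mul, ht2]; group
      exact e (by rw [← inv_eq_of_mul_eq_one_right this, mul_inv_rev, ea, eb])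
    obtain ⟨y, ⟨i, rfl⟩, hy⟩ := exists_orderOf_eq p3 (H := zpowers (a * b)) (by rwa [Nat.card_zpowers])
    simp only at hy
    obtain ⟨g, -, hg⟩ := hP.syl_le_conj p3 (isPi_zpowers.2 (by rw [hy]; exact (piNat_prime p3).2 rfl))
      le_top
    have h6 := mem_cj.1 (hg (mem_zpowers _))
    have h7 : ∀ c : G, c * (a * b) * c⁻¹ = (a * b)⁻¹ → g⁻¹ * c * g ∈ 𝓝(P) ∧ g⁻¹ * c * g ∉ 𝓒(P) := by
      intro c hc
      have h8 : g⁻¹ * c * g * (g⁻¹ * (a * b) ^ i * g) * (g⁻¹ * c * g)⁻¹ = (g⁻¹ * (a * b) ^ i * g)⁻¹ := by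
        calc _ = g⁻¹ * (c * (a * b) * c⁻¹) ^ i * g := by rw [conj_zpow]; group
          _ = _ := by rw [hc, inv_zpow]; group
      have h9 : orderOf (g⁻¹ * (a * b) ^ i * g) = 3 := by
        rw [← MulAut.conj_symm_apply, MulEquiv.orderOf_eq, hy]
      refine ⟨hti _ (hPC h6) (fun e => by simp [e] at h9) _ (h8 ▸ inv_mem (hPC h6)), fun e => ?_⟩
      rw [← mem_cent.1 e _ h6, mul_inv_cancel_right, ← mul_eq_one_iff_eq_inv, ← pow_two] at h8
      have := orderOf_dvd_of_pow_eq_one h8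
      rw [h9] at this
      omega
    have h8 := (cjn g a).2 (h7 a i1)
    have h9 := (cjn g b).2 (h7 b i2)
    exact ⟨⟨g * t * g⁻¹, by rw [conj_mul, ht2]; group, by simpa using ht1⟩,
      ⟨h8.2.1.symm, h8.2.2.symm⟩, ⟨h9.2.1.symm, h9.2.2.symm⟩⟩
  · rintro ⟨u, u1, u2⟩ ⟨v, v1, v2⟩ ⟨h1, h2⟩ ⟨h4, h5⟩
    obtain ⟨g, rfl⟩ := hconj u (inv_pi u1) u2
    obtain ⟨h, rfl⟩ := hconj v (inv_pi v1) v2
    have h6 : ∀ g : G, (a ≠ g * t * g⁻¹ ∧ a * (g * t * g⁻¹) = g * t * g⁻¹ * a) →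
        (b ≠ g * t * g⁻¹ ∧ b * (g * t * g⁻¹) = g * t * g⁻¹ * b) → g⁻¹ * (a * b) * g ∈ 𝓒(P) := by
      intro g h1 h2
      have h7 := (cjn g a).1 ⟨⟨a1, a2⟩, h1.1.symm, h1.2.symm⟩
      have h8 := (cjn g b).1 ⟨⟨b1, b2⟩, h2.1.symm, h2.2.symm⟩
      have := hmul _ h7.1 _ h8.1 h7.2 h8.2
      simpa [mul_assoc] using this
    have h7 := hti _ (h6 g h1 h2) (fun e => hab1 (by
      rw [← conj_eq_one_iff (a := g⁻¹), inv_inv]; exact e)) (h⁻¹ * g) (by
      simpa [mul_assoc] using h6 h h4 h5)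
    have h8 := mem_cent1.1 (hNt ▸ h7)
    apply Subtype.ext
    show g * t * g⁻¹ = h * t * h⁻¹
    calc _ = h * (h⁻¹ * g * t) * g⁻¹ := by group
      _ = _ := by rw [h8]; group

/-- Let G be a finite group with an abelian Sylow 3-subgroup P such that the normalizer of P has order 4·#P, the centralizer C of P has order 2·#P, C meets each of its conjugates by elements outside its normalizer trivially, and every proper subgroup of G of even order has order dividing 4·#P. Then G is not simple. -/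
theorem result {G : Type*} [Group G] [Finite G]
    (P : Sylow 3 G) (hab : IsMulCommutative P)
    (hN : Nat.card (Subgroup.normalizer ((P : Subgroup G) : Set G)) = 4 * Nat.card P)
    (hC : Nat.card (Subgroup.centralizer (P : Set G)) = 2 * Nat.card P)
    (hTI : Cfsg.IsTISubset (Subgroup.centralizer (P : Set G) : Set G))
    (heven : ∀ H : Subgroup G, H ≠ ⊤ → 2 ∣ Nat.card H → Nat.card H ∣ 4 * Nat.card P) :
    ¬ IsSimpleGroup G := by
  intro _
  exact aux (syl_top Nat.prime_three P) hab hN hC hTI heven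

end Cfsg.Agent.S4018
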