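import Cfsg.Statements.S4135
import Cfsg.Agent.Lib.Grp.H7Ito
import Cfsg.Agent.Lib.Char.CharBurn
import Cfsg.Agent.Lib.Grp.Act
import Cfsg.Agent.Lib.Grp.Trf
import Cfsg.Agent.Lib.Odd.BG1a

set_option autoImplicit false
open Cfsg

namespace Cfsg.Agent.S4135

open Subgroup CA.BG CA.H7Ito CA.AmbSyl
open scoped commutatorElement

section
variable {G : Type*} [Group G] [Finite G] {N : Subgroup G} [hN : N.Normal] {m r q s t : ℕ}
  {x y u z : G}

/-- `x` has order a power of `p` -/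
def PE (p : ℕ) (x : G) : Prop := ∃ k : ℕ, x ^ p ^ k = 1

/-- the centralizer in `N` is central in the centralizer -/
def Good (N : Subgroup G) (x : G) : Prop := ∀ a ∈ N, a ∈ 𝓒₁(x) → 𝓒₁(x) ≤ 𝓒₁(a)

omit [Finite G] in
theorem PE.pg (h : PE s x) : IsPGroup s (zpowers x) := h.elim fun _ hk => isPGroup_zpowers hk

omit [Finite G] in
theorem pe_of_mem {T : Subgroup G} (hT : IsPGroup s T) (h : x ∈ T) : PE s x :=
  isPGroup_iff_mem.1 hT x h

omit [Finite G] in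
theorem PE.conj (h : PE s x) (g : G) : PE s (g * x * g⁻¹) :=
  h.imp fun k hk => by rw [conj_pow, hk]; simp

omit [Finite G] in
theorem PE.cop (hs : s.Prime) (ht : t.Prime) (hst : s ≠ t) (h : PE s x) (h' : PE t y) :
    (orderOf x).Coprime (orderOf y) := by
  obtain ⟨k, hk⟩ := h
  obtain ⟨j, hj⟩ := h'
  exact ((Nat.coprime_pow_primes k j hs ht hst).coprime_dvd_left
    (orderOf_dvd_of_pow_eq_one hk)).coprime_dvd_right (orderOf_dvd_of_pow_eq_one hj)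

omit [Finite G] in
theorem conj_nc (h : x ∉ center G) (g : G) : g * x * g⁻¹ ∉ center G := fun e => h (by
  have := (inferInstance : (center G).Normal).conj_mem _ e g⁻¹
  simpa [mul_assoc] using this)

omit [Finite G] in
theorem mem_syl {U L : Subgroup G} (hU : SylIn s U L) (hc : ∀ u ∈ U, L ≤ 𝓒₁(u)) (hx : x ∈ L)
    (hp : PE s x) : x ∈ U :=
  hU.le_of_norm' hp.pg (zpowers_le.2 hx) (CA.Amb.norm_of_centralizer (zpowers_le.2
    (mem_centralizer_iff.2 fun u hu => (mem_cent1.1 (hc u hu hx)).symm))) (mem_zpowers x)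

theorem relIndex_dvd' (R T : Subgroup G) [R.Normal] : T.relIndex R ∣ T.index := by
  have h1 := relIndex_mul_index (inf_le_right : T ⊓ R ≤ R)
  have h2 := relIndex_mul_index (inf_le_left : T ⊓ R ≤ T)
  rw [inf_relIndex_right] at h1
  rw [inf_relIndex_left] at h2
  obtain ⟨c, hc⟩ := relIndex_dvd_index_of_normal R T
  have h3 : R.relIndex T ≠ 0 := index_ne_zero_of_finite
  refine ⟨c, Nat.eq_of_mul_eq_mul_left (Nat.pos_of_ne_zero h3) ?_⟩
  rw [h2, ← h1, hc]; ring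

theorem transfer_inf {T : Subgroup G} (hq : q.Prime) (hT : SylIn q T N)
    (hc : ∀ a ∈ T, ∀ b ∈ T, a * b = b * a) (hz : z ∈ T) (hz' : z ∈ ⁅N, N⁆) (hzc : z ∈ center G) :
    z = 1 := by
  haveI := Fact.mk hq
  by_contra h1
  obtain ⟨e, he⟩ := pe_of_mem hT.pg hz
  obtain ⟨M, -, h2, h3, -⟩ := CA.Trf.exists_normal_not_mem (G := N) (p := q) (H := T.subgroupOf N)
    (K := ⊥) (g := ⟨z, hT.le hz⟩) (e := e)
    (commutator_le.2 fun a ha b hb => mem_bot.2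
      (commutatorElement_eq_one_iff_mul_comm.2 (Subtype.ext (hc _ ha _ hb))))
    hT.not_dvd hz (Subtype.ext he) (fun h => h1 (congrArg Subtype.val (mem_bot.1 h)))
    (fun k _ t _ => mem_bot.2 (Subtype.ext (by
      have := mem_center_iff.1 (pow_mem hzc k) (t : G)
      simp only [coe_mul, coe_inv, coe_pow, coe_one]
      rw [this]; group)))
  apply h3 (h2 _)
  have : ⁅N, N⁆ = (commutator N).map N.subtype := by
    rw [commutator_def, map_commutator, ← MonoidHom.range_eq_map, range_subtype]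
  rw [this] at hz'
  obtain ⟨w, hw, rfl⟩ := hz'
  exact hw

variable (h : ∀ x ∈ N, 𝓒₁(x).index = 1 ∨ 𝓒₁(x).index = m)
include h

omit hN in
theorem idx (hx : x ∈ N) (hx' : x ∉ center G) : 𝓒₁(x).index = m :=
  (h x hx).resolve_left fun e => hx' (ind_one.1 e)

omit hN in
theorem ceq (hx : x ∈ N) (hy : y ∈ N) (hy' : y ∉ center G) (hle : 𝓒₁(x) ≤ 𝓒₁(y)) :
    𝓒₁(x) = 𝓒₁(y) := by
  have hx' : x ∉ center G := fun hx => hy' (ind_one.1 (index_eq_one.2 (eq_top_iff.2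
    ((index_eq_one.1 (ind_one.2 hx)).ge.trans hle))))
  exact eq_of_index_dvd_index hle (dvd_of_eq ((idx h hx hx').trans (idx h hy hy').symm))

omit hN in
theorem lec (hx : x ∈ N) (hx' : x ∉ center G) (hy : y ∈ N) (hxy : y ∈ 𝓒₁(x))
    (hc : (orderOf x).Coprime (orderOf y)) : 𝓒₁(x) ≤ 𝓒₁(y) := by
  have e := CA.CS1.centralizer_mul (mem_cent1.1 hxy).symm hc
  rw [← ceq h (mul_mem hx hy) hx hx' (e.le.trans inf_le_left), e]
  exact inf_le_right

omit hN in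
theorem good_pair (hs : s.Prime) (ht : t.Prime) (hst : s ≠ t) (hx : x ∈ N) (hx' : x ∉ center G)
    (hxs : PE s x) (hu : u ∈ N) (hu' : u ∉ center G) (hut : PE t u) (hxu : u ∈ 𝓒₁(x)) :
    𝓒₁(x) = 𝓒₁(u) ∧ Good N x := by
  have e := ceq h hx hu hu' (lec h hx hx' hu hxu (hxs.cop hs ht hst hut))
  refine ⟨e, fun a ha hax c hc => mem_cent1_symm.1 ?_⟩
  refine CA.Kaz.mem_of_parts fun t' k ht' h5 => mem_cent1_symm.1 ?_
  have h6 : PE t' (a ^ k) := pe_of_mem (h5.isPGroup ht') (mem_zpowers _)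
  by_cases e' : s = t'
  · exact lec h hu hu' (pow_mem ha k) (e ▸ pow_mem hax k)
      (hut.cop ht ht' (e' ▸ hst.symm) h6) (e ▸ hc)
  · exact lec h hx hx' (pow_mem ha k) (pow_mem hax k) (hxs.cop hs ht' e' h6) hc

theorem le_cent (hs : s.Prime) (hsm : ¬ s ∣ m) (hz : z ∈ N) (hzs : PE s z) : N ≤ 𝓒₁(z) := by
  haveI := Fact.mk hs
  obtain ⟨k, hk⟩ := hzs
  obtain ⟨P, hP⟩ := (isPGroup_zpowers (x := (⟨z, hz⟩ : N)) (p := s) (k := k)
    (Subtype.ext hk)).exists_le_sylow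
  have : 𝓒₁((⟨z, hz⟩ : N)) = ⊤ := CChar.CharBurn.eq_top_of_forall_conj_mem fun x => by
    obtain ⟨g, hg⟩ := CA.CS1.exists_conj_mem_centralizer P (x := x) (by
      rw [CA.CS1.index_centralizer_coe]
      intro hd
      have h1 := hd.trans (relIndex_dvd' N 𝓒₁((x : G)))
      rcases h x x.2 with e | e
      · rw [e] at h1; exact hs.ne_one (Nat.dvd_one.1 h1)
      · rw [e] at h1; exact hsm h1)
    exact ⟨g, mem_cent1.2 (mem_centralizer_iff.1 hg _ (hP (mem_zpowers _))).symm⟩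
  intro x hx
  have h1 : (⟨x, hx⟩ : N) ∈ 𝓒₁((⟨z, hz⟩ : N)) := this ▸ mem_top _
  exact mem_cent1.2 (congrArg Subtype.val (mem_cent1.1 h1))

variable (hr : r.Prime) (hrN : ∀ v : G, PE r v → v ∈ N) (hx0 : ∃ x0, x0 ∉ center G ∧ PE r x0)
include hr hrN hx0

omit hN in
theorem exr (hy : y ∈ N) (hy' : y ∉ center G) : ∃ u ∈ 𝓒₁(y), u ∉ center G ∧ PE r u := by
  haveI := Fact.mk hr
  obtain ⟨x, hx, hxp⟩ := hx0
  by_contra hc
  push Not at hc
  obtain ⟨T, hT⟩ := exists_sylIn r 𝓒₁(y)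
  obtain ⟨S, hS⟩ := exists_sylIn r 𝓒₁(x)
  have hTZ : T ≤ center G := fun u hu => by
    by_contra h'
    exact hc u (hT.le hu) h' (pe_of_mem hT.pg hu)
  have e : ♯𝓒₁(x) = ♯𝓒₁(y) := by
    have h1 := 𝓒₁(x).card_mul_index
    have h2 := 𝓒₁(y).card_mul_index
    rw [idx h (hrN x hxp) hx, ← h2, ← idx h hy hy'] at h1
    exact Nat.eq_of_mul_eq_mul_right (ind_pos y) h1
  have h1 := hS.of_card_le hT.pg (hTZ.trans (center_le_centralizer _))
    (by rw [hS.card_eq_pow, hT.card_eq_pow, e])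
  exact hx (hTZ (mem_syl h1 (fun u hu g _ => mem_cent1.2 (mem_center_iff.1 (hTZ hu) g))
    (mem_cent1_self x) hxp))

omit hN in
theorem good_of (hq : q.Prime) (hqr : q ≠ r) (hx : x ∈ N) (hx' : x ∉ center G) (hy : y ∈ N)
    (hy' : y ∉ center G) (hyq : PE q y) (hxy : y ∈ 𝓒₁(x)) : Good N x := by
  obtain ⟨t, k, ht, h1, h2⟩ := exists_part hx'
  have h3 : PE t (x ^ k) := pe_of_mem (h1.isPGroup ht) (mem_zpowers _)
  have e := ceq h hx (pow_mem hx k) h2 (cent_le_pow x k)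
  have : Good N (x ^ k) := by
    by_cases htr : t = r
    · exact (good_pair h ht hq (htr ▸ hqr.symm) (pow_mem hx k) h2 h3 hy hy' hyq (e ▸ hxy)).2
    · obtain ⟨u, hu, hu', hur⟩ := exr h hr hrN hx0 (pow_mem hx k) h2
      exact (good_pair h ht hr htr (pow_mem hx k) h2 h3 (hrN u hur) hu' hur hu).2
  unfold Good at this ⊢
  rwa [e]

theorem not_sq (hq : q.Prime) (hqr : q ≠ r) (hy0 : ∃ y ∈ N, y ∉ center G ∧ PE q y) :
    ¬ q ^ 2 ∣ m := by
  haveI := Fact.mk hq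
  haveI := Fact.mk hr
  obtain ⟨y0, hy0, hy0', hy0q⟩ := hy0
  obtain ⟨Q, hQ, hQ'⟩ := exists_sylIn_ge hy0q.pg (le_top : zpowers y0 ≤ ⊤)
  obtain ⟨y, ⟨hyQ, hy⟩, hy', hyq, hyc⟩ := CA.PGBasic.exists_layer_pow (H := Q) (P := Q) (M := Q ⊓ N)
    (N := center G) hQ.pg le_rfl inf_le_left (CA.Amb.norm_inf le_normalizer CA.Amb.norm_of_normal)
    CA.Amb.norm_of_normal (fun e => hy0' (e ⟨hQ' (mem_zpowers _), hy0⟩))
  have hg := good_of h hr hrN hx0 hq hqr hy hy' hy hy' (pe_of_mem hQ.pg hyQ) (mem_cent1_self y)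
  have hz : ∀ g ∈ Q, ∃ z ∈ center G, g * y * g⁻¹ = y * z := fun g hg =>
    ⟨_, inv_mem (hyc g⁻¹⁻¹ (by simpa using hg)), by
      have := mem_center_iff.1 (inv_mem (hyc g⁻¹⁻¹ (by simpa using hg))) y
      rw [this, commutatorElement_def]; group⟩
  suffices hd : 𝓒₁(y).relIndex Q ∣ q by
    intro h2
    have h3 := relIndex_mul_index (inf_le_right : 𝓒₁(y) ⊓ Q ≤ Q)
    rw [inf_relIndex_right] at h3
    have h4 : q ^ 2 ∣ 𝓒₁(y).relIndex Q * Q.index := by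
      rw [h3]
      exact h2.trans (idx h hy hy' ▸ index_dvd_of_le inf_le_left)
    have h5 : (q ^ 2).Coprime Q.index := ((hq.coprime_iff_not_dvd).2
      (relIndex_top_right Q ▸ hQ.not_dvd)).pow_left 2
    have h6 := Nat.le_of_dvd hq.pos ((h5.dvd_of_dvd_mul_right h4).trans hd)
    nlinarith [hq.two_le]
  obtain ⟨U, hU⟩ := exists_sylIn r 𝓒₁(y)
  have hUc : ∀ u ∈ U, 𝓒₁(y) ≤ 𝓒₁(u) := fun u hu => hg u (hrN u (pe_of_mem hU.pg hu)) (hU.le hu)
  have hQC : ∀ g ∈ Q, ∀ c ∈ 𝓒₁(y), g * c * g⁻¹ ∈ 𝓒₁(y) := by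
    intro g hg c hc
    obtain ⟨z, hz, e⟩ := hz g⁻¹ (inv_mem hg)
    have h1 := mem_cent1.1 hc
    have h2 := mem_center_iff.1 hz c
    have h3 : y = g * (y * z) * g⁻¹ := by rw [← e]; group
    rw [mem_cent1]
    calc g * c * g⁻¹ * y = g * c * g⁻¹ * (g * (y * z) * g⁻¹) := by rw [← h3]
      _ = g * (c * y * z) * g⁻¹ := by group
      _ = g * (y * z * c) * g⁻¹ := by rw [h1, mul_assoc y, h2, mul_assoc y]
      _ = g * (y * z) * g⁻¹ * (g * c * g⁻¹) := by group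
      _ = _ := by rw [← h3]
  have hQU : Q ≤ 𝓝(U) := fun g hg => CA.Amb.mem_normalizer_of_cj_le (CA.Amb.cj_le_iff'.2
    fun u hu => mem_syl hU hUc (hQC g hg u (hU.le hu)) ((pe_of_mem hU.pg hu).conj g))
  have hTI := coprime_abel_cent_TI hQU (by
    obtain ⟨a, ha⟩ := hU.pg.exists_card_eq
    obtain ⟨b, hb⟩ := hQ.pg.exists_card_eq
    rw [ha, hb]
    exact Nat.coprime_pow_primes _ _ hr hq hqr.symm)
    ⟨⟨fun a b => Subtype.ext (mem_cent1.1 (hUc b b.2 (hU.le a.2)))⟩⟩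
  have hVU : ⁅U, Q⁆ ≤ U := commutator_le.2 fun u hu g hg => by
    rw [commutatorElement_def, mul_assoc, mul_assoc, ← mul_assoc g]
    exact mul_mem hu ((mem_normalizer_iff.1 (hQU hg) _).1 (inv_mem hu))
  by_cases hV : ⁅U, Q⁆ = ⊥
  · obtain ⟨u, hu, hu', hur⟩ := exr h hr hrN hx0 hy hy'
    have huU := mem_syl hU hUc hu hur
    have : Q ≤ 𝓒₁(y) := fun g hg => by
      rw [ceq h hy (hrN u hur) hu' (hUc u huU), mem_cent1]
      exact mem_centralizer_iff.1 (commutator_eq_bot_iff_le_centralizer.1 hV huU) g hg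
    rw [relIndex_eq_one.2 this]
    exact one_dvd _
  have hQV : Q ≤ 𝓝(⁅U, Q⁆) := CA.Amb.norm_commutator hQU le_normalizer
  have hfix : ∀ g ∈ Q, g ∉ 𝓒₁(y) → ∀ v ∈ ⁅U, Q⁆, g * v * g⁻¹ = v → v = 1 := by
    intro g hg hgc v hv e
    by_cases hvz : v ∈ center G
    · exact mem_bot.1 (hTI ▸ ⟨hv, center_le_centralizer _ hvz⟩)
    · rw [ceq h hy (hrN v (pe_of_mem hU.pg (hVU hv))) hvz (hUc v (hVU hv)), mem_cent1] at hgc
      exact absurd (mul_inv_eq_iff_eq_mul.1 e) hgc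
  let φ : Q →* MulAut (⁅U, Q⁆ : Subgroup G) := (⁅U, Q⁆ : Subgroup G).normalizerMonoidHom.comp
    (inclusion hQV)
  have hφ : ∀ (g : Q) (v : (⁅U, Q⁆ : Subgroup G)), (φ g v : G) = g * v * (g : G)⁻¹ := fun g v => rfl
  have hk1 : ∀ g : Q, (g : G) ∈ 𝓒₁(y) → φ g = 1 := fun g hg => by
    ext v
    rw [hφ, mem_cent1.1 (hUc v (hVU v.2) hg)]
    simp
  haveI : Nontrivial (⁅U, Q⁆ : Subgroup G) := (nontrivial_iff_ne_bot _).2 hV
  have hker : φ.ker = 𝓒₁(y).subgroupOf Q := by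
    ext g
    refine ⟨fun hg => ?_, hk1 g⟩
    by_contra hgc
    obtain ⟨v, hv⟩ := exists_ne (1 : (⁅U, Q⁆ : Subgroup G))
    refine hv (Subtype.ext (hfix g g.2 hgc v v.2 ?_))
    rw [← hφ, MonoidHom.mem_ker.1 hg]; rfl
  haveI : IsMulCommutative (⁅U, Q⁆ : Subgroup G) :=
    ⟨⟨fun a b => Subtype.ext (mem_cent1.1 (hUc b (hVU b.2) (hU.le (hVU a.2))))⟩⟩
  haveI : IsMulCommutative φ.range := ⟨⟨by
    rintro ⟨_, a, rfl⟩ ⟨_, b, rfl⟩
    apply Subtype.ext
    change φ a * φ b = φ b * φ a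
    rw [← map_mul, ← map_mul, ← inv_mul_eq_one, ← map_inv, ← map_mul]
    apply hk1
    obtain ⟨z1, h1, e1⟩ := hz a a.2
    obtain ⟨z2, h2, e2⟩ := hz b b.2
    have e3 : ∀ (a b z1 z2 : G), z1 ∈ center G → z2 ∈ center G → a * y * a⁻¹ = y * z1 →
        b * y * b⁻¹ = y * z2 → a * b * y * (a * b)⁻¹ = y * z1 * z2 := by
      intro a b z1 z2 h1 h2 e1 e2
      calc a * b * y * (a * b)⁻¹ = a * (b * y * b⁻¹) * a⁻¹ := by group
        _ = a * y * (z2 * a⁻¹) := by rw [e2]; group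
        _ = _ := by rw [← mem_center_iff.1 h2, ← mul_assoc, e1]
    have e4 := e3 _ _ _ _ h1 h2 e1 e2
    have e5 := e3 _ _ _ _ h2 h1 e2 e1
    rw [mul_assoc y, ← mem_center_iff.1 h2, ← mul_assoc y, ← e4] at e5
    rw [mem_cent1, coe_mul, coe_inv, coe_mul, coe_mul]
    calc ((a : G) * b)⁻¹ * (b * a) * y
        = ((a : G) * b)⁻¹ * ((b : G) * a * y * ((b : G) * a)⁻¹) * (b * a) := by group
      _ = _ := by rw [e5]; group⟩⟩
  haveI hcyc : IsCyclic φ.range := CA.Act.isCyclic_of_fpf_of_comm (V := (⁅U, Q⁆ : Subgroup G)) (by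
    rintro ⟨_, g, rfl⟩ hg v e
    exact Subtype.ext (hfix g g.2 (fun e' => hg (Subtype.ext (hk1 g e'))) v v.2
      (congrArg Subtype.val e)))
  have hexp : ∀ a : φ.range, a ^ q = 1 := by
    rintro ⟨_, g, rfl⟩
    apply Subtype.ext
    change φ g ^ q = 1
    rw [← map_pow]
    apply hk1
    obtain ⟨z, h1, e1⟩ := hz g g.2
    have e2 : ∀ n : ℕ, (g : G) ^ n * y * ((g : G) ^ n)⁻¹ = y * z ^ n := by
      intro n
      induction n with
      | zero => simp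
      | succ n ih =>
        calc (g : G) ^ (n + 1) * y * ((g : G) ^ (n + 1))⁻¹
            = g * ((g : G) ^ n * y * ((g : G) ^ n)⁻¹) * (g : G)⁻¹ := by group
          _ = g * y * (z ^ n * (g : G)⁻¹) := by rw [ih]; group
          _ = _ := by rw [← mem_center_iff.1 (pow_mem h1 n), ← mul_assoc, e1]; group
    have e3 : z ^ q = 1 := by
      have h2 : (y * z) ^ q = y ^ q := by
        rw [← e1, conj_pow, mem_center_iff.1 hyq g]; group
      rw [(show Commute y z from mem_center_iff.1 h1 y).mul_pow] at h2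
      exact mul_eq_left.1 h2
    rw [mem_cent1, coe_pow, ← mul_inv_eq_iff_eq_mul, e2, e3, mul_one]
  rw [relIndex, ← hker, index_ker, ← IsCyclic.exponent_eq_card]
  exact Monoid.exponent_dvd_of_forall_pow_eq_one hexp

theorem not_ab (hq : q.Prime) (hqr : q ≠ r) (hrm : r ∣ m) (hqm : q ∣ m) {T : Subgroup G}
    (hT : SylIn q T N) (hc : ∀ a ∈ T, ∀ b ∈ T, a * b = b * a) (hyT : y ∈ T) (hy' : y ∉ center G) :
    False := by
  haveI := Fact.mk hq
  haveI := Fact.mk hr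
  have hy := hT.le hyT
  have hg := good_of h hr hrN hx0 hq hqr hy hy' hy hy' (pe_of_mem hT.pg hyT) (mem_cent1_self y)
  obtain ⟨U, hU⟩ := exists_sylIn r 𝓒₁(y)
  have hUc : ∀ u ∈ U, 𝓒₁(y) ≤ 𝓒₁(u) := fun u hu => hg u (hrN u (pe_of_mem hU.pg hu)) (hU.le hu)
  obtain ⟨R, hR, hUR⟩ := exists_sylIn_ge hU.pg (le_top : U ≤ ⊤)
  have hlt : U < R := lt_of_le_of_ne hUR fun e => by
    apply hR.not_dvd
    rw [relIndex_top_right, ← e]
    exact hrm.trans (idx h hy hy' ▸ index_dvd_of_le hU.le)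
  obtain ⟨w, hwR, hwn, hwU⟩ := exists_mem_normalizer_not_mem hR.pg hlt
  have hwr := pe_of_mem hR.pg hwR
  obtain ⟨u, hu, hu', hur⟩ := exr h hr hrN hx0 hy hy'
  have huU := mem_syl hU hUc hu hur
  have e := ceq h hy (hrN u hur) hu' (hUc u huU)
  have h1 : w * y⁻¹ * w⁻¹ ∈ 𝓒₁(y) := by
    have h2 : w⁻¹ * u * w⁻¹⁻¹ ∈ U := (mem_normalizer_iff.1 (inv_mem hwn) u).1 huU
    have h3 := mem_cent1.1 (hUc _ h2 (inv_mem (mem_cent1_self y)))
    rw [e, mem_cent1]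
    calc w * y⁻¹ * w⁻¹ * u = w * (y⁻¹ * (w⁻¹ * u * w⁻¹⁻¹)) * w⁻¹ := by group
      _ = _ := by rw [h3]; group
  have hTC : T ≤ 𝓒₁(y) := fun a ha => mem_cent1.2 (hc a ha y hyT)
  have h2 : w * y⁻¹ * w⁻¹ ∈ T :=
    mem_syl (hT.mono (le_inf hT.le hTC) inf_le_left)
      (fun a ha => inf_le_right.trans (hg a (hT.le ha) (hTC ha)))
      ⟨hN.conj_mem _ (inv_mem hy) w, h1⟩ ((pe_of_mem hT.pg (inv_mem hyT)).conj w)
  have hD : T ⊓ ⁅N, N⁆ ≠ ⊥ := by
    intro hD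
    have h3 : ⁅y, w⁆ ∈ T ⊓ ⁅N, N⁆ := ⟨by
      rw [commutatorElement_def, mul_assoc, mul_assoc, ← mul_assoc w]
      exact mul_mem hyT h2, commutator_mem_commutator hy (hrN w hwr)⟩
    rw [hD, mem_bot, commutatorElement_eq_one_iff_mul_comm] at h3
    exact hwU (mem_syl hU hUc (mem_cent1.2 h3.symm) hwr)
  obtain ⟨Q, hQ, hTQ⟩ := exists_sylIn_ge hT.pg (le_top : T ≤ ⊤)
  have hQT : Q ⊓ N = T := hT.max (hQ.pg.to_le inf_le_left) (le_inf hTQ hT.le) inf_le_right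
  obtain ⟨z, ⟨hz1, hz2⟩, hz3, -, hz4⟩ := CA.PGBasic.exists_layer_pow (H := Q) (P := Q)
    (M := T ⊓ ⁅N, N⁆) (N := ⊥) hQ.pg le_rfl (inf_le_left.trans hTQ)
    (CA.Amb.norm_inf (hQT ▸ CA.Amb.norm_inf le_normalizer CA.Amb.norm_of_normal)
      CA.Amb.norm_of_normal) CA.Amb.norm_of_normal (by rwa [le_bot_iff])
  have hz5 : z ∉ center G := fun e => hz3 (mem_bot.2 (transfer_inf hq hT hc hz1 hz2 e))
  have h4 : Q ≤ 𝓒₁(z) := fun g hg =>
    mem_cent1.2 (commutatorElement_eq_one_iff_mul_comm.1 (mem_bot.1 (hz4 g hg))).symm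
  apply hQ.not_dvd
  rw [relIndex_top_right]
  exact hqm.trans (idx h (hT.le hz1) hz5 ▸ index_dvd_of_le h4)

theorem rel_dvd (hri : ¬ r ∣ N.index) (hrm : r ∣ m)
    (hm : ∀ q : ℕ, q.Prime → q ≠ r → (∃ y ∈ N, y ∉ center G ∧ PE q y) → q ∣ m)
    (hx : x ∈ N) (hx' : x ∉ center G) (hy : y ∈ N) (hy' : y ∉ center G) :
    𝓒₁(x).relIndex N ∣ 𝓒₁(y).relIndex N := by
  rw [Nat.dvd_iff_prime_pow_dvd_dvd]
  intro q k hq hd
  haveI := Fact.mk hq
  have hd' : q ^ k ∣ m := hd.trans (idx h hx hx' ▸ relIndex_dvd' N 𝓒₁(x))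
  by_cases hqr : q = r
  · subst hqr
    have h3 := relIndex_mul_index (inf_le_right : 𝓒₁(y) ⊓ N ≤ N)
    rw [inf_relIndex_right] at h3
    refine (((hq.coprime_iff_not_dvd).2 hri).pow_left k).dvd_of_dvd_mul_right ?_
    rw [h3]
    exact hd'.trans (idx h hy hy' ▸ index_dvd_of_le inf_le_left)
  rcases Nat.eq_zero_or_pos k with rfl | hk
  · simp
  by_cases hy0 : ∃ y ∈ N, y ∉ center G ∧ PE q y
  · have h1 := not_sq h hr hrN hx0 hq hqr hy0
    have h2 : k = 1 := by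
      by_contra e
      exact h1 ((pow_dvd_pow q (by omega)).trans hd')
    rw [h2, pow_one]
    by_contra hn
    obtain ⟨T, hT⟩ := exists_sylIn q (𝓒₁(y) ⊓ N)
    have hTN : SylIn q T N := sylIn_of_not_dvd (hT.le.trans inf_le_right) hT.pg (by
      rw [← relIndex_mul_relIndex T (𝓒₁(y) ⊓ N) N hT.le inf_le_right, inf_relIndex_right]
      exact fun e => (hq.dvd_mul.1 e).elim hT.not_dvd hn)
    have hqm := hm q hq hqr hy0
    obtain ⟨y0, hy0, hy0', hy0q⟩ := hy0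
    obtain ⟨g, -, hg⟩ := hTN.exists_conj_le hy0q.pg (zpowers_le.2 hy0)
    have h3 : g * y0 * g⁻¹ ∈ T := CA.Amb.cj_le_iff'.1 hg y0 (mem_zpowers _)
    have h4 := good_of h hr hrN hx0 hq hqr hy hy' (hTN.le h3) (conj_nc hy0' g) (hy0q.conj g)
      (hT.le h3).1
    exact not_ab h hr hrN hx0 hq hqr hrm hqm hTN
      (fun a ha b hb => mem_cent1.1 (h4 b (hT.le hb).2 (hT.le hb).1 (hT.le ha).1)) h3
      (conj_nc hy0' g)
  · exfalso
    obtain ⟨T, hT⟩ := exists_sylIn q N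
    have h1 : T ≤ 𝓒₁(x) := fun a ha => center_le_centralizer _ (by
      by_contra e
      exact hy0 ⟨a, hT.le ha, e, pe_of_mem hT.pg ha⟩)
    exact hT.not_dvd (((dvd_pow_self q hk.ne').trans hd).trans (relIndex_dvd_of_le_left N h1))

end

/-- Let G be a finite group, r a prime and R a Sylow r-subgroup of G that is not central, N a normal subgroup of G containing R, and m a natural number such that every element of N has a conjugacy class in G of size 1 or m. Then N is nilpotent. -/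
theorem result {G : Type*} [Group G] [Finite G] (r : ℕ) [Fact r.Prime]
    (R : Sylow r G) (hR : ¬ (R : Subgroup G) ≤ Subgroup.center G) (N : Subgroup G) [N.Normal] (hRN : (R : Subgroup G) ≤ N)
    (m : ℕ) (h : ∀ x ∈ N, (Subgroup.centralizer ({x} : Set G)).index = 1 ∨ (Subgroup.centralizer ({x} : Set G)).index = m) : Group.IsNilpotent N := by
  have hr : r.Prime := Fact.out
  have hrN : ∀ v : G, PE r v → v ∈ N := fun v hv => by
    obtain ⟨g, -, hg⟩ := (sylIn_top R).exists_conj_le hv.pg le_top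
    have := (inferInstance : N.Normal).conj_mem _ (hRN (CA.Amb.cj_le_iff'.1 hg v (mem_zpowers _))) g⁻¹
    simpa [mul_assoc] using this
  have hx0 : ∃ x0, x0 ∉ center G ∧ PE r x0 := by
    obtain ⟨x, hx, hx'⟩ := SetLike.not_le_iff_exists.1 hR
    exact ⟨x, hx', pe_of_mem R.isPGroup' hx⟩
  by_cases hab : ∀ a ∈ N, ∀ b ∈ N, a * b = b * a
  · letI : CommGroup N := { (inferInstance : Group N) with
      mul_comm := fun a b => Subtype.ext (hab a a.2 b b.2) }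
    exact CommGroup.isNilpotent
  have hnab : ∀ x, Good N x → ¬ N ≤ 𝓒₁(x) := fun x hx e =>
    hab fun a ha b hb => mem_cent1.1 (hx b hb (e hb) (e ha))
  by_cases hex : ∃ q : ℕ, q.Prime ∧ q ≠ r ∧ ∃ y ∈ N, y ∉ center G ∧ PE q y
  · exfalso
    have hm : ∀ q : ℕ, q.Prime → q ≠ r → (∃ y ∈ N, y ∉ center G ∧ PE q y) → q ∣ m := by
      rintro q hq hqr ⟨y, hy, hy', hyq⟩
      by_contra e
      exact hnab y (good_of h hr hrN hx0 hq hqr hy hy' hy hy' hyq (mem_cent1_self y))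
        (le_cent h hq e hy hyq)
    obtain ⟨q, hq, hqr, y, hy, hy', hyq⟩ := hex
    obtain ⟨u, hu, hu', hur⟩ := exr h hr hrN hx0 hy hy'
    obtain ⟨e, hg⟩ := good_pair h hq hr hqr hy hy' hyq (hrN u hur) hu' hur hu
    have hny := hnab y hg
    have hrm : r ∣ m := by
      by_contra e'
      exact hny (e ▸ le_cent h hr e' (hrN u hur) hur)
    have hri : ¬ r ∣ N.index := fun e' => R.not_dvd_index (e'.trans (index_dvd_of_le hRN))
    have h' : ∀ x : N, 𝓒₁(x).index = 1 ∨ 𝓒₁(x).index = 𝓒₁(y).relIndex N := fun x => by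
      rw [CA.CS1.index_centralizer_coe]
      by_cases hx : (x : G) ∈ center G
      · left
        exact relIndex_eq_one.2 fun g _ => mem_cent1.2 (mem_center_iff.1 hx g)
      · exact Or.inr (Nat.dvd_antisymm (rel_dvd h hr hrN hx0 hri hrm hm x.2 hx hy hy')
          (rel_dvd h hr hrN hx0 hri hrm hm hy hy' x.2 hx))
    have hc : ∀ (v : G) (hv : v ∈ N), 𝓒₁(y) = 𝓒₁(v) → (⟨v, hv⟩ : N) ∉ center N := fun v hv e hc =>
      hny (e ▸ fun g hg => mem_cent1.2 (congrArg Subtype.val (mem_center_iff.1 hc ⟨g, hg⟩)))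
    obtain ⟨k, hk⟩ := hyq
    obtain ⟨j, hj⟩ := id hur
    exact hqr (one_prime h' hq hr (hc y hy rfl)
      (isPi_of_isPGroup hq (isPGroup_zpowers (k := k) (Subtype.ext hk))) (hc u (hrN u hur) e)
      (isPi_of_isPGroup hr (isPGroup_zpowers (k := j) (Subtype.ext hj))))
  · have hp : IsPGroup r (N ⧸ (center G).subgroupOf N) := by
      intro x
      obtain ⟨x, rfl⟩ := QuotientGroup.mk_surjective x
      obtain ⟨k, n, hn, e⟩ := Nat.exists_eq_pow_mul_and_not_dvd (orderOf_pos (x : G)).ne' r hr.ne_one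
      refine ⟨k, ?_⟩
      rw [← QuotientGroup.mk_pow, QuotientGroup.eq_one_iff, mem_subgroupOf, coe_pow]
      refine CA.Kaz.mem_of_parts fun t j ht h5 => ?_
      have h6 : PE t (((x : G) ^ r ^ k) ^ j) := pe_of_mem (h5.isPGroup ht) (mem_zpowers _)
      by_cases htr : t = r
      · obtain ⟨i, hi⟩ := h6
        have h7 : (((x : G) ^ r ^ k) ^ j) ^ n = 1 := by
          rw [← pow_mul, mul_comm j, pow_mul, ← pow_mul _ _ n, ← e, pow_orderOf_eq_one, one_pow]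
        rw [(pow_eq_one_iff_of_coprime (((hr.coprime_iff_not_dvd).2 hn).pow_left i)).1
          ⟨htr ▸ hi, h7⟩]
        exact one_mem _
      · by_contra hc
        exact hex ⟨t, ht, htr, _, pow_mem (pow_mem x.2 _) j, hc, h6⟩
    haveI := hp.isNilpotent
    refine Subgroup.isNilpotent_of_ker_le_center (QuotientGroup.mk' ((center G).subgroupOf N)) ?_
    rw [QuotientGroup.ker_mk']
    exact fun x hx => mem_center_iff.2 fun g => Subtype.ext (mem_center_iff.1 hx g)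

end Cfsg.Agent.S4135
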