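import Cfsg.Statements.S4033
import Cfsg.Agent.S4135
import Cfsg.Agent.S4034

set_option autoImplicit false
open Cfsg

namespace Cfsg.Agent.S4033

open Subgroup CA.BG CA.H7Ito CA.AmbSyl Cfsg.Agent.S4135
open scoped commutatorElement IsMulCommutative

theorem fpf_comm {A V : Type*} [Group A] [Finite A] [Group V] [Finite V] [Nontrivial V]
    [IsMulCommutative V] [MulDistribMulAction A V]
    (hfpf : ∀ a : A, a ≠ 1 → ∀ v : V, a • v = v → v = 1) {s w : ℕ} (hs : s.Prime) (hw : w.Prime)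
    (Q : Subgroup A) (hQ : Nat.card Q = s) {x : A} (hx : x ∈ normalizer (Q : Set A))
    (hxw : x ^ w = 1) {g : A} (hg : g ∈ Q) : x * g = g * x := by
  haveI := Fact.mk hs
  have hc : ∀ c ∈ Q, c ≠ 1 → ∀ y : A, y * c = c * y → ∀ g ∈ Q, y * g = g * y := by
    intro c hc h1 y hy g hg
    obtain ⟨k, hk⟩ := mem_zpowers_of_prime_card hQ (g := ⟨c, hc⟩) (g' := ⟨g, hg⟩)
      (fun e => h1 (congrArg Subtype.val e))
    have : c ^ k = g := congrArg Subtype.val hk
    rw [← this]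
    exact (show Commute y c from hy).zpow_right k
  have hcomm : ∀ y ∈ Q, y * g = g * y := fun y hy => by
    by_cases h1 : y = 1
    · simp [h1]
    · exact hc y hy h1 y rfl g hg
  by_contra hne
  refine CA.Act.not_fpf_of_coset (A := normalizer (Q : Set A)) (V := V)
    (Q.subgroupOf (normalizer (Q : Set A))) ?_ (x := ⟨x, hx⟩) (fun e => hne (hcomm x e)) hw ?_
    (fun a ha v e => hfpf a (fun e' => ha (Subtype.ext e')) v e)
  · intro e
    have h1 : (⟨g, le_normalizer hg⟩ : normalizer (Q : Set A)) ∈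
      Q.subgroupOf (normalizer (Q : Set A)) := hg
    rw [e, mem_bot] at h1
    have : g = 1 := congrArg Subtype.val h1
    exact hne (by simp [this])
  · intro y hy
    by_contra h1
    have h2 : (⟨x, hx⟩ * y) ^ w ∈ Q.subgroupOf (normalizer (Q : Set A)) := by
      rw [← QuotientGroup.eq_one_iff, QuotientGroup.mk_pow, QuotientGroup.mk_mul,
        (QuotientGroup.eq_one_iff y).2 hy, mul_one, ← QuotientGroup.mk_pow]
      have : (⟨x, hx⟩ : normalizer (Q : Set A)) ^ w = 1 := Subtype.ext hxw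
      rw [this]; rfl
    have h3 := hc _ h2 (fun e => h1 (Subtype.ext e)) (x * y)
      ((Commute.refl (x * (y : A))).pow_right w) g hg
    rw [mul_assoc, hcomm y hy, ← mul_assoc, ← mul_assoc, mul_left_inj] at h3
    exact hne h3

theorem norm_arg {A V : Type*} [Group A] [Finite A] [CommGroup V] [MulDistribMulAction A V]
    (K : Subgroup A) [K.Normal] (g : A) (a z : V) (hz : ∀ k : A, k • z = z) (hg : g • a = a * z)
    (hfix : ∀ v : V, (∀ k ∈ K, k • v = v) → g • v = v) : z ^ Nat.card K = 1 := by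
  classical
  haveI := Fintype.ofFinite K
  have h1 : g • ∏ k : K, (k : A) • a = ∏ k : K, (k : A) • a := hfix _ fun k0 hk0 => by
    rw [Finset.smul_prod']
    exact Fintype.prod_equiv (Equiv.mulLeft (⟨k0, hk0⟩ : K)) _ _ fun k => by simp [mul_smul]
  have h2 : g • ∏ k : K, (k : A) • a = ∏ k : K, (k : A) • (g • a) := by
    rw [Finset.smul_prod']
    exact Fintype.prod_equiv (MulAut.conjNormal g).toEquiv _ _ fun k => by simp [mul_smul]
  rw [h2, hg] at h1
  simp only [smul_mul', hz, Finset.prod_mul_distrib, Finset.prod_const, Finset.card_univ] at h1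
  rw [Nat.card_eq_fintype_card]
  exact mul_eq_left.1 h1

section
variable {G : Type*} [Group G] [Finite G] {p m q s t : ℕ} {x y u z : G}

omit [Finite G] in
theorem conj_pow_cent {e a z : G} (hz : z ∈ center G) (h : e * a * e⁻¹ = a * z) (n : ℕ) :
    e ^ n * a * (e ^ n)⁻¹ = a * z ^ n := by
  induction n with
  | zero => simp
  | succ n ih =>
    calc e ^ (n + 1) * a * (e ^ (n + 1))⁻¹ = e * (e ^ n * a * (e ^ n)⁻¹) * e⁻¹ := by group
      _ = e * a * (z ^ n * e⁻¹) := by rw [ih]; group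
      _ = _ := by rw [← mem_center_iff.1 (pow_mem hz n), ← mul_assoc, h]; group

omit [Finite G] in
theorem pe_eq_one (hs : s.Prime) (ht : t.Prime) (hst : s ≠ t) (h : PE s x) (h' : PE t x) : x = 1 :=
  orderOf_eq_one_iff.1 (Nat.coprime_self _ |>.1 (h.cop hs ht hst h'))

omit [Finite G] in
theorem pe_pr (hp : p.Prime) (hs : s.Prime) (hsp : s ≠ p) (h : PE s x) : (orderOf x).Coprime p := by
  obtain ⟨k, hk⟩ := h
  exact (((Nat.coprime_primes hs hp).2 hsp).pow_left k).coprime_dvd_left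
    (orderOf_dvd_of_pow_eq_one hk)

/-- the `p`-regular part of the centralizer is central in it -/
def Gd (p : ℕ) (x : G) : Prop := ∀ a ∈ 𝓒₁(x), (orderOf a).Coprime p → 𝓒₁(x) ≤ 𝓒₁(a)

variable (hp : p.Prime) (h : ∀ x : G, (orderOf x).Coprime p → 𝓒₁(x).index = 1 ∨ 𝓒₁(x).index = m)
include h

theorem idx (hx : (orderOf x).Coprime p) (hx' : x ∉ center G) : 𝓒₁(x).index = m :=
  (h x hx).resolve_left fun e => hx' (ind_one.1 e)

theorem ceq (hx : (orderOf x).Coprime p) (hy : (orderOf y).Coprime p) (hy' : y ∉ center G)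
    (hle : 𝓒₁(x) ≤ 𝓒₁(y)) : 𝓒₁(x) = 𝓒₁(y) := by
  have hx' : x ∉ center G := fun hx => hy' (ind_one.1 (index_eq_one.2 (eq_top_iff.2
    ((index_eq_one.1 (ind_one.2 hx)).ge.trans hle))))
  exact eq_of_index_dvd_index hle (dvd_of_eq ((idx h hx hx').trans (idx h hy hy').symm))

theorem lec (hx : (orderOf x).Coprime p) (hx' : x ∉ center G) (hy : (orderOf y).Coprime p)
    (hxy : y ∈ 𝓒₁(x)) (hc : (orderOf x).Coprime (orderOf y)) : 𝓒₁(x) ≤ 𝓒₁(y) := by
  have hcm : Commute x y := (mem_cent1.1 hxy).symm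
  have e := CA.CS1.centralizer_mul hcm hc
  rw [← ceq h ((Nat.Coprime.mul_left hx hy).coprime_dvd_left hcm.orderOf_mul_dvd_mul_orderOf) hx hx'
    (e.le.trans inf_le_left), e]
  exact inf_le_right

include hp

theorem good_pair (hs : s.Prime) (ht : t.Prime) (hst : s ≠ t) (hsp : s ≠ p) (htp : t ≠ p)
    (hx' : x ∉ center G) (hxs : PE s x) (hu' : u ∉ center G) (hut : PE t u) (hxu : u ∈ 𝓒₁(x)) :
    𝓒₁(x) = 𝓒₁(u) ∧ Gd p x := by
  have hx := pe_pr hp hs hsp hxs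
  have hu := pe_pr hp ht htp hut
  have e := ceq h hx hu hu' (lec h hx hx' hu hxu (hxs.cop hs ht hst hut))
  refine ⟨e, fun a hax ha c hc => mem_cent1_symm.1 ?_⟩
  refine CA.Kaz.mem_of_parts fun t' k ht' h5 => mem_cent1_symm.1 ?_
  have h6 : PE t' (a ^ k) := pe_of_mem (h5.isPGroup ht') (mem_zpowers _)
  have h7 := ha.coprime_dvd_left (orderOf_pow_dvd k)
  by_cases e' : s = t'
  · exact lec h hu hu' h7 (e ▸ pow_mem hax k) (hut.cop ht ht' (e' ▸ hst.symm) h6) (e ▸ hc)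
  · exact lec h hx hx' h7 (pow_mem hax k) (hxs.cop hs ht' e' h6) hc

theorem exq (hq : q.Prime) (hqp : q ≠ p) (hx0 : ∃ x0 : G, x0 ∉ center G ∧ PE q x0)
    (hy : (orderOf y).Coprime p) (hy' : y ∉ center G) :
    ∃ u ∈ 𝓒₁(y), u ∉ center G ∧ PE q u := by
  haveI := Fact.mk hq
  obtain ⟨x, hx, hxp⟩ := hx0
  by_contra hc
  push Not at hc
  obtain ⟨T, hT⟩ := exists_sylIn q 𝓒₁(y)
  obtain ⟨S, hS⟩ := exists_sylIn q 𝓒₁(x)
  have hTZ : T ≤ center G := fun u hu => by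
    by_contra h'
    exact hc u (hT.le hu) h' (pe_of_mem hT.pg hu)
  have e : ♯𝓒₁(x) = ♯𝓒₁(y) := by
    have h1 := 𝓒₁(x).card_mul_index
    have h2 := 𝓒₁(y).card_mul_index
    rw [idx h (pe_pr hp hq hqp hxp) hx, ← h2, ← idx h hy hy'] at h1
    exact Nat.eq_of_mul_eq_mul_right (ind_pos y) h1
  have h1 := hS.of_card_le hT.pg (hTZ.trans (center_le_centralizer _))
    (by rw [hS.card_eq_pow, hT.card_eq_pow, e])
  exact hx (hTZ (mem_syl h1 (fun u hu g _ => mem_cent1.2 (mem_center_iff.1 (hTZ hu) g))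
    (mem_cent1_self x) hxp))

theorem exists_nc (hs : s.Prime) (hsm : s ∣ m) (hy : (orderOf y).Coprime p) (hy' : y ∉ center G)
    (S : Sylow s G) : ¬ (S : Subgroup G) ≤ 𝓒₁(y) := fun e => by
  haveI := Fact.mk hs
  exact S.not_dvd_index (hsm.trans (idx h hy hy' ▸ index_dvd_of_le e))

theorem exists_nc' (hs : s.Prime) (hsm : s ∣ m) (hy : (orderOf y).Coprime p) (hy' : y ∉ center G) :
    ∃ x0 : G, x0 ∉ center G ∧ PE s x0 := by
  haveI := Fact.mk hs
  obtain ⟨S⟩ : Nonempty (Sylow s G) := inferInstance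
  obtain ⟨x, hx, hx'⟩ := SetLike.not_le_iff_exists.1 (exists_nc hp h hs hsm hy hy' S)
  exact ⟨x, fun e => hx' (center_le_centralizer _ e), pe_of_mem S.isPGroup' hx⟩

theorem unique_prime (hs : s.Prime) (ht : t.Prime) (hst : s ≠ t) (hsp : s ≠ p) (htp : t ≠ p)
    (hsm : s ∣ m) (hy0 : ∃ y : G, y ∉ center G ∧ PE t y) (S : Sylow s G) {a : G} (haS : a ∈ S)
    (ha' : a ∉ center G) (has : a ^ s ∈ center G)
    (hz : ∀ g ∈ S, ∃ z ∈ center G, g * a * g⁻¹ = a * z) {r : ℕ} (hr : r.Prime) (hrs : r ≠ s)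
    (hrp : r ≠ p) : ¬ r ∣ m := by
  intro hrm
  haveI := Fact.mk hs
  haveI := Fact.mk ht
  haveI := Fact.mk hr
  have hae := pe_of_mem S.isPGroup' haS
  have ha := pe_pr hp hs hsp hae
  obtain ⟨v, hv, hv', hvt⟩ := exq hp h ht htp hy0 ha ha'
  have hg := (good_pair hp h hs ht hst hsp htp ha' hae hv' hvt hv).2
  have hcent : ∀ {w : ℕ} {U : Subgroup G}, w.Prime → w ≠ p → SylIn w U 𝓒₁(a) →
      (∀ u ∈ U, 𝓒₁(a) ≤ 𝓒₁(u)) ∧ (∀ u ∈ U, u ∉ center G → 𝓒₁(a) = 𝓒₁(u)) ∧ 𝓝(𝓒₁(a)) ≤ 𝓝(U) := by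
    intro w U hw hwp hU
    have h1 : ∀ u ∈ U, 𝓒₁(a) ≤ 𝓒₁(u) := fun u hu =>
      hg u (hU.le hu) (pe_pr hp hw hwp (pe_of_mem hU.pg hu))
    exact ⟨h1, fun u hu hu' => ceq h ha (pe_pr hp hw hwp (pe_of_mem hU.pg hu)) hu' (h1 u hu),
      fun g hg => CA.Amb.mem_normalizer_of_cj_le (CA.Amb.cj_le_iff'.2 fun u hu => mem_syl hU h1
        ((mem_normalizer_iff.1 hg u).1 (hU.le hu)) ((pe_of_mem hU.pg hu).conj g))⟩
  obtain ⟨U, hU⟩ := exists_sylIn s 𝓒₁(a)
  obtain ⟨T, hT⟩ := exists_sylIn t 𝓒₁(a)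
  obtain ⟨hUc, hUe, hHU⟩ := hcent hs hsp hU
  obtain ⟨hTc, hTe, hHT⟩ := hcent ht htp hT
  have haU : a ∈ U := mem_syl hU hUc (mem_cent1_self a) hae
  have hvT : v ∈ T := mem_syl hT hTc hv hvt
  have hSH : (S : Subgroup G) ≤ 𝓝(𝓒₁(a)) := fun g hg => CA.Amb.mem_normalizer_of_cj_le
    (CA.Amb.cj_le_iff'.2 fun c hc => by
      obtain ⟨z, hz, e⟩ := hz g⁻¹ (inv_mem hg)
      have h1 := mem_cent1.1 hc
      have h2 := mem_center_iff.1 hz c
      have h3 : a = g * (a * z) * g⁻¹ := by rw [← e]; group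
      rw [mem_cent1]
      calc g * c * g⁻¹ * a = g * c * g⁻¹ * (g * (a * z) * g⁻¹) := by rw [← h3]
        _ = g * (c * a * z) * g⁻¹ := by group
        _ = g * (a * z * c) * g⁻¹ := by rw [h1, mul_assoc a, h2, mul_assoc a]
        _ = g * (a * z) * g⁻¹ * (g * c * g⁻¹) := by group
        _ = _ := by rw [← h3])
  obtain ⟨g, hgS, hgC⟩ := SetLike.not_le_iff_exists.1 (exists_nc hp h hs hsm ha ha' S)
  -- the fixed-point-free module
  have hST : (S : Subgroup G) ≤ 𝓝(T) := hSH.trans hHT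
  have hTI := coprime_abel_cent_TI hST (by
    obtain ⟨a, ha⟩ := hT.pg.exists_card_eq
    obtain ⟨b, hb⟩ := S.isPGroup'.exists_card_eq
    rw [ha, hb]
    exact Nat.coprime_pow_primes _ _ ht hs hst.symm)
    ⟨⟨fun a b => Subtype.ext (mem_cent1.1 (hTc b b.2 (hT.le a.2)))⟩⟩
  set V : Subgroup G := ⁅T, (S : Subgroup G)⁆ with hVdef
  have hVT : V ≤ T := commutator_le.2 fun u hu g hg => by
    rw [commutatorElement_def, mul_assoc, mul_assoc, ← mul_assoc g]
    exact mul_mem hu ((mem_normalizer_iff.1 (hST hg) _).1 (inv_mem hu))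
  have hV : V ≠ ⊥ := fun hV => hgC (by
    rw [hTe v hvT hv', mem_cent1]
    exact mem_centralizer_iff.1 (commutator_eq_bot_iff_le_centralizer.1 hV hvT) g hgS)
  have hSV : (S : Subgroup G) ≤ 𝓝(V) := CA.Amb.norm_commutator hST le_normalizer
  have hCV : 𝓒₁(a) ≤ 𝓝(V) := CA.Amb.norm_of_centralizer fun c hc =>
    mem_centralizer_iff.2 fun v hv => (mem_cent1.1 (hTc v (hVT hv) hc)).symm
  have hfix : ∀ g, g ∉ 𝓒₁(a) → ∀ v ∈ V, g * v * g⁻¹ = v → v = 1 := by
    intro g hgc v hv e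
    by_cases hvz : v ∈ center G
    · exact mem_bot.1 (hTI ▸ ⟨hv, center_le_centralizer _ hvz⟩)
    · rw [hTe v (hVT hv) hvz, mem_cent1] at hgc
      exact absurd (mul_inv_eq_iff_eq_mul.1 e) hgc
  haveI : Nontrivial V := (nontrivial_iff_ne_bot _).2 hV
  haveI : IsMulCommutative V :=
    ⟨⟨fun a b => Subtype.ext (mem_cent1.1 (hTc b (hVT b.2) (hT.le (hVT a.2))))⟩⟩
  let ψ := V.normalizerMonoidHom.rangeRestrict
  have hψ : ∀ (g : 𝓝(V)) (v : V), ((ψ g • v : V) : G) = g * v * (g : G)⁻¹ := fun g v => rfl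
  have hk : ∀ g : 𝓝(V), ψ g = 1 ↔ (g : G) ∈ 𝓒₁(a) := fun g => by
    constructor
    · intro hg
      by_contra hgc
      obtain ⟨v, hv⟩ := exists_ne (1 : V)
      refine hv (Subtype.ext (hfix g hgc v v.2 ?_))
      rw [← hψ, hg, one_smul]
    · intro hg
      apply Subtype.ext
      ext v
      change (g : G) * v * (g : G)⁻¹ = v
      rw [mem_cent1.1 (hTc v (hVT v.2) hg)]
      simp
  have hfpf : ∀ b : V.normalizerMonoidHom.range, b ≠ 1 → ∀ v : V, b • v = v → v = 1 := by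
    intro b hb v e
    obtain ⟨g, rfl⟩ := V.normalizerMonoidHom.rangeRestrict_surjective b
    exact Subtype.ext (hfix g (fun e' => hb ((hk g).2 e')) v v.2 (congrArg Subtype.val e))
  have hSc : ∀ x ∈ S, ∀ y ∈ S, (x * y)⁻¹ * (y * x) ∈ 𝓒₁(a) := by
    intro x hx y hy
    obtain ⟨z1, h1, e1⟩ := hz x hx
    obtain ⟨z2, h2, e2⟩ := hz y hy
    have e3 : ∀ (x y z1 z2 : G), z1 ∈ center G → z2 ∈ center G → x * a * x⁻¹ = a * z1 →
        y * a * y⁻¹ = a * z2 → x * y * a * (x * y)⁻¹ = a * z1 * z2 := by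
      intro x y z1 z2 h1 h2 e1 e2
      calc x * y * a * (x * y)⁻¹ = x * (y * a * y⁻¹) * x⁻¹ := by group
        _ = x * a * (z2 * x⁻¹) := by rw [e2]; group
        _ = _ := by rw [← mem_center_iff.1 h2, ← mul_assoc, e1]
    have e4 := e3 _ _ _ _ h1 h2 e1 e2
    have e5 := e3 _ _ _ _ h2 h1 e2 e1
    rw [mul_assoc a, ← mem_center_iff.1 h2, ← mul_assoc a, ← e4] at e5
    rw [mem_cent1]
    calc (x * y)⁻¹ * (y * x) * a = (x * y)⁻¹ * (y * x * a * (y * x)⁻¹) * (y * x) := by group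
      _ = _ := by rw [e5]; group
  let Q := (ψ.comp (inclusion hSV)).range
  have hQ : Nat.card Q = s := by
    haveI : IsMulCommutative Q := ⟨⟨by
      rintro ⟨_, x, rfl⟩ ⟨_, y, rfl⟩
      apply Subtype.ext
      change ψ (inclusion hSV x) * ψ (inclusion hSV y) = ψ (inclusion hSV y) * ψ (inclusion hSV x)
      rw [← map_mul ψ, ← map_mul ψ, ← inv_mul_eq_one, ← map_inv ψ, ← map_mul ψ, hk]
      exact hSc x x.2 y y.2⟩⟩
    haveI hcyc : IsCyclic Q := CA.Act.isCyclic_of_fpf_of_comm (V := V)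
      fun b hb v e => hfpf b (fun e' => hb (Subtype.ext e')) v e
    have hexp : ∀ b : Q, b ^ s = 1 := by
      rintro ⟨_, g, rfl⟩
      apply Subtype.ext
      change ψ _ ^ s = 1
      rw [← map_pow, hk]
      obtain ⟨z, h1, e1⟩ := hz g g.2
      have e3 : z ^ s = 1 := by
        have h2 : (a * z) ^ s = a ^ s := by
          rw [← e1, conj_pow, mem_center_iff.1 has g]; group
        rw [(show Commute a z from mem_center_iff.1 h1 a).mul_pow] at h2
        exact mul_eq_left.1 h2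
      change (g : G) ^ s ∈ _
      rw [mem_cent1, ← mul_inv_eq_iff_eq_mul, conj_pow_cent h1 e1, e3, mul_one]
    have h1 : Nat.card Q ∣ s := by
      rw [← IsCyclic.exponent_eq_card]
      exact Monoid.exponent_dvd_of_forall_pow_eq_one hexp
    refine ((Nat.dvd_prime hs).1 h1).resolve_left fun e => hgC ?_
    have h2 : ψ (inclusion hSV ⟨g, hgS⟩) ∈ Q := ⟨⟨g, hgS⟩, rfl⟩
    rw [card_eq_one.1 e, mem_bot, hk] at h2
    exact h2
  -- elements normalizing `S` modulo the centralizer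
  have hN1 : ∀ (e : G) (w : ℕ), w.Prime → w ≠ s → e ∈ 𝓝(𝓒₁(a)) → e ^ w ∈ 𝓒₁(a) →
      (∀ x ∈ S, ∃ y ∈ S, ∃ c ∈ 𝓒₁(a), e * x * e⁻¹ = y * c) → e ∈ 𝓒₁(a) := by
    intro e w hw hws heH hew hn
    have heV : e ∈ 𝓝(V) := CA.Amb.mem_normalizer_of_cj_le (by
      rw [hVdef, CA.Amb.cj_commutator, commutator_le]
      intro x hx y1 hy1
      obtain ⟨y, hy, rfl⟩ := CA.Amb.mem_cj'.1 hy1
      obtain ⟨y', hy', c, hc, e'⟩ := hn y hy
      have hx' : x ∈ T := CA.Amb.cj_eq_self (hHT heH) ▸ hx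
      have h1 := mem_cent1.1 (hTc _ (inv_mem hx') hc)
      have : ⁅x, e * y * e⁻¹⁆ = ⁅x, y'⁆ := by
        rw [e', commutatorElement_def, commutatorElement_def]
        calc x * (y' * c) * x⁻¹ * (y' * c)⁻¹ = x * y' * (c * x⁻¹) * c⁻¹ * y'⁻¹ := by group
          _ = _ := by rw [h1]; group
      rw [this]
      exact commutator_mem_commutator hx' hy')
    have h1 : ψ ⟨e, heV⟩ ∈ 𝓝(Q) := CA.Amb.mem_normalizer_of_cj_le (CA.Amb.cj_le_iff'.2 (by
      rintro _ ⟨x, rfl⟩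
      obtain ⟨y, hy, c, hc, e'⟩ := hn x x.2
      refine ⟨⟨y, hy⟩, ?_⟩
      change ψ _ = ψ _ * ψ _ * (ψ _)⁻¹
      rw [← map_mul, ← map_inv, ← map_mul, ← mul_one (ψ (inclusion hSV ⟨y, hy⟩)),
        ← (hk ⟨c, hCV hc⟩).2 hc, ← map_mul]
      exact congrArg ψ (Subtype.ext e'.symm)))
    have h2 := fpf_comm hfpf hs hw Q hQ h1 (by rw [← map_pow, hk]; exact hew)
      (g := ψ (inclusion hSV ⟨g, hgS⟩)) ⟨⟨g, hgS⟩, rfl⟩
    rw [← map_mul, ← map_mul, ← inv_mul_eq_one, ← map_inv, ← map_mul, hk] at h2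
    have h3 : (e * g)⁻¹ * (g * e) * a = a * ((e * g)⁻¹ * (g * e)) := mem_cent1.1 h2
    obtain ⟨z, hz1, hz2⟩ := hz g hgS
    have hb : e * a * e⁻¹ ∈ U := (mem_normalizer_iff.1 (hHU heH) a).1 haU
    have h4 : g * (e * a * e⁻¹) * g⁻¹ = e * a * e⁻¹ * z := by
      calc g * (e * a * e⁻¹) * g⁻¹
          = e * g * ((e * g)⁻¹ * (g * e) * a) * (g * e)⁻¹ := by group
        _ = e * (g * a * g⁻¹) * e⁻¹ := by rw [h3]; group
        _ = e * a * (z * e⁻¹) := by rw [hz2]; group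
        _ = _ := by rw [← mem_center_iff.1 hz1]; group
    have h5 : a⁻¹ * (e * a * e⁻¹) ∈ center G := by
      by_contra h5
      apply hgC
      rw [hUe _ (mul_mem (inv_mem haU) hb) h5, mem_cent1, ← mul_inv_eq_iff_eq_mul]
      calc g * (a⁻¹ * (e * a * e⁻¹)) * g⁻¹ = (g * a * g⁻¹)⁻¹ * (g * (e * a * e⁻¹) * g⁻¹) := by group
        _ = z⁻¹ * (a⁻¹ * (e * a * e⁻¹) * z) := by rw [hz2, h4]; group
        _ = _ := by rw [mem_center_iff.1 hz1]; group
    have h6 := conj_pow_cent h5 (e := e) (a := a) (by group) w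
    rw [mem_cent1.1 hew, mul_inv_cancel_right, eq_comm, mul_eq_left] at h6
    have h7 := pe_eq_one hs hw hws.symm (pe_of_mem hU.pg (mul_mem (inv_mem haU) hb))
      ⟨1, by rwa [pow_one]⟩
    rw [inv_mul_eq_one, eq_comm, mul_inv_eq_iff_eq_mul] at h7
    exact mem_cent1.2 h7
  -- action on the Sylow `s`-subgroup of the centralizer
  haveI : IsMulCommutative U := ⟨⟨fun a b => Subtype.ext (mem_cent1.1 (hUc b b.2 (hU.le a.2)))⟩⟩
  let f := (U.normalizerMonoidHom.comp (inclusion hHU)).rangeRestrict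
  have hfs : Function.Surjective f := MonoidHom.rangeRestrict_surjective _
  have hf : ∀ (g : 𝓝(𝓒₁(a))) (v : U), ((f g • v : U) : G) = g * v * (g : G)⁻¹ := fun g v => rfl
  have hk' : ∀ g : 𝓝(𝓒₁(a)), f g = 1 ↔ (g : G) ∈ 𝓒₁(a) := fun g => by
    constructor
    · intro hg
      have := hf g ⟨a, haU⟩
      rw [hg, one_smul, eq_comm, mul_inv_eq_iff_eq_mul] at this
      exact mem_cent1.2 this
    · intro hg
      apply Subtype.ext
      ext v
      change (g : G) * v * (g : G)⁻¹ = v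
      rw [mem_cent1.1 (hUc v v.2 hg)]
      simp
  let P := (S.subtype hSH).mapSurjective hfs
  have hP : ∀ y, y ∈ P.toSubgroup ↔ ∃ x, ∃ hx : x ∈ S, f ⟨x, hSH hx⟩ = y := fun y =>
    ⟨fun ⟨x, hx, e⟩ => ⟨x, hx, e⟩, fun ⟨x, hx, e⟩ => ⟨⟨x, hSH hx⟩, hx, e⟩⟩
  have hPn : 𝓝(P.toSubgroup) ≤ 𝓒(P.toSubgroup) := by
    intro y hy
    refine CA.Kaz.mem_of_parts fun w k hw h5 => ?_
    have h6 : PE w (y ^ k) := pe_of_mem (h5.isPGroup hw) (mem_zpowers _)
    have hy' := pow_mem hy k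
    generalize y ^ k = y at h6 hy'
    by_cases hws : w = s
    · obtain ⟨x, hx, rfl⟩ := (hP y).1 ((sylIn_top P).le_of_norm' (hws ▸ h6.pg) le_top
        (zpowers_le.2 hy') (mem_zpowers y))
      refine mem_centralizer_iff.2 fun y' hy' => ?_
      obtain ⟨x', hx', rfl⟩ := (hP y').1 hy'
      rw [← map_mul, ← map_mul, ← inv_mul_eq_one, ← map_inv, ← map_mul, hk']
      exact hSc x' hx' x hx
    · by_cases h1 : y = 1
      · rw [h1]; exact one_mem _
      exfalso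
      obtain ⟨j, hj⟩ := h6
      have hd : w ∣ orderOf y := by
        obtain ⟨i, -, hi⟩ := (Nat.dvd_prime_pow hw).1 (orderOf_dvd_of_pow_eq_one hj)
        rw [hi]
        exact dvd_pow_self w fun e => h1 (orderOf_eq_one_iff.1 (by rw [hi, e, pow_zero]))
      have ho := orderOf_pow_orderOf_div (orderOf_pos y).ne' hd
      have hy'' := pow_mem hy' (orderOf y / w)
      generalize y ^ (orderOf y / w) = y' at ho hy''
      obtain ⟨e, rfl⟩ := hfs y'
      have h2 := hN1 e w hw hws e.2 (by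
        rw [← coe_pow, ← hk', map_pow]; exact orderOf_dvd_iff_pow_eq_one.1 ho.dvd) (by
        intro x hx
        obtain ⟨x', hx', e'⟩ := (hP _).1
          ((mem_normalizer_iff.1 hy'' _).1 ((hP _).2 ⟨x, hx, rfl⟩))
        refine ⟨x', hx', x'⁻¹ * (e * x * (e : G)⁻¹), ?_, by group⟩
        rw [← map_mul, ← map_inv, ← map_mul, ← inv_mul_eq_one, ← map_inv, ← map_mul, hk'] at e'
        exact e')
      rw [(hk' e).2 h2, orderOf_one] at ho
      exact hw.one_lt.ne ho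
  obtain ⟨R0, hR0⟩ := exists_sylIn r 𝓒₁(a)
  obtain ⟨hRc, hRe, -⟩ := hcent hr hrp hR0
  obtain ⟨R, hR, hUR⟩ := exists_sylIn_ge hR0.pg (le_top : R0 ≤ ⊤)
  have hlt : R0 < R := lt_of_le_of_ne hUR fun e => by
    apply hR.not_dvd
    rw [relIndex_top_right, ← e]
    exact hrm.trans (idx h ha ha' ▸ index_dvd_of_le hR0.le)
  obtain ⟨w, hwR, hwn, hwU⟩ := exists_mem_normalizer_not_mem hR.pg hlt
  have hwr := pe_of_mem hR.pg hwR
  have hwC : w ∉ 𝓒₁(a) := fun e => hwU (mem_syl hR0 hRc e hwr)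
  have hwH : w ∈ 𝓝(𝓒₁(a)) := by
    obtain ⟨u, hu, hu', hur⟩ := exq hp h hr hrp (exists_nc' hp h hr hrm ha ha') ha ha'
    have huR := mem_syl hR0 hRc hu hur
    refine CA.Amb.mem_normalizer_of_cj_le (CA.Amb.cj_le_iff'.2 fun c hc => ?_)
    have h3 := mem_cent1.1 (hRc _ ((mem_normalizer_iff.1 (inv_mem hwn) u).1 huR) hc)
    rw [hRe u huR hu', mem_cent1]
    calc w * c * w⁻¹ * u = w * (c * (w⁻¹ * u * w⁻¹⁻¹)) * w⁻¹ := by group
      _ = _ := by rw [h3]; group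
  have hcomp := MonoidHom.ker_transferSylow_isComplement' P hPn
  have hnd := MonoidHom.not_dvd_card_ker_transferSylow P hPn
  set K := (MonoidHom.transferSylow P hPn).ker
  have hwK : f ⟨w, hwH⟩ ∈ K := by
    obtain ⟨j, hj⟩ := P.isPGroup'.exists_card_eq
    obtain ⟨i, hi⟩ := hwr
    have h1 : f ⟨w, hwH⟩ ^ r ^ i = 1 := by
      rw [← map_pow, show (⟨w, hwH⟩ : 𝓝(𝓒₁(a))) ^ r ^ i = 1 from Subtype.ext hi, map_one]
    obtain ⟨k, hk⟩ := exists_pow_eq_self_of_coprime (x := f ⟨w, hwH⟩) (n := K.index) (by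
      rw [hcomp.symm.index_eq_card, hj]
      exact (Nat.coprime_pow_primes j i hs hr hrs.symm).coprime_dvd_right
        (orderOf_dvd_of_pow_eq_one h1))
    rw [← hk]
    exact pow_mem (pow_index_mem _ _) k
  obtain ⟨z, hz1, hz2⟩ := hz g hgS
  have hzU : z ∈ U := (Subgroup.mul_mem_cancel_left U haU).1
    (hz2 ▸ (mem_normalizer_iff.1 (hHU (hSH hgS)) a).1 haU)
  have hcz : ∀ (k : 𝓝(𝓒₁(a))) (v : U), (v : G) ∈ center G → f k • v = v := fun k v hv =>
    Subtype.ext (by rw [hf, mem_center_iff.1 hv]; group)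
  have h1 := norm_arg K (f ⟨g, hSH hgS⟩) (⟨a, haU⟩ : U) ⟨z, hzU⟩
    (fun k => by obtain ⟨k, rfl⟩ := hfs k; exact hcz k _ hz1) (Subtype.ext hz2)
    (fun v hv => hcz _ v (by
      by_contra hvz
      apply hwC
      rw [hUe v v.2 hvz, mem_cent1, ← mul_inv_eq_iff_eq_mul]
      exact congrArg Subtype.val (hv _ hwK)))
  obtain ⟨j, hj⟩ := pe_of_mem hU.pg hzU
  have h2 : z = 1 := (pow_eq_one_iff_of_coprime (((hs.coprime_iff_not_dvd).2 hnd).pow_left j)).1
    ⟨hj, congrArg Subtype.val h1⟩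
  rw [h2, mul_one, mul_inv_eq_iff_eq_mul] at hz2
  exact hgC (mem_cent1.2 hz2)

theorem false_of_two (hs : s.Prime) (ht : t.Prime) (hst : s ≠ t) (hsp : s ≠ p) (htp : t ≠ p)
    (hsm : s ∣ m) (hy0 : ∃ y : G, y ∉ center G ∧ PE t y) : False := by
  haveI := Fact.mk hs
  haveI := Fact.mk hp
  obtain ⟨S⟩ : Nonempty (Sylow s G) := inferInstance
  obtain ⟨y0, hy0', hy0t⟩ := id hy0
  obtain ⟨a, haS, ha', has, hac⟩ := CA.PGBasic.exists_layer_pow (H := S) (P := S) (M := S)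
    (N := center G) S.isPGroup' le_rfl le_rfl le_normalizer CA.Amb.norm_of_normal
    (fun e => exists_nc hp h hs hsm (pe_pr hp ht htp hy0t) hy0' S (e.trans (center_le_centralizer _)))
  have hz : ∀ g ∈ S, ∃ z ∈ center G, g * a * g⁻¹ = a * z := fun g hg =>
    ⟨_, inv_mem (hac g hg), by
      have := mem_center_iff.1 (inv_mem (hac g hg)) a
      rw [this, commutatorElement_def]; group⟩
  have hae := pe_of_mem S.isPGroup' haS
  have ha := pe_pr hp hs hsp hae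
  obtain ⟨g, hgS, hgC⟩ := SetLike.not_le_iff_exists.1 (exists_nc hp h hs hsm ha ha' S)
  have hg' : g ∉ center G := fun e => hgC (center_le_centralizer _ e)
  have hge := pe_of_mem S.isPGroup' hgS
  obtain ⟨v, hv, hv', hvt⟩ := exq hp h ht htp hy0 (pe_pr hp hs hsp hge) hg'
  have hgv := (good_pair hp h hs ht hst hsp htp hg' hge hv' hvt hv).1
  obtain ⟨M, ⟨hMn, hZM, hMp⟩, hmax⟩ := (Set.toFinite {M : Subgroup G | M.Normal ∧ center G ≤ M ∧
    ∀ x ∈ M, ∃ k : ℕ, x ^ p ^ k ∈ center G}).exists_maximal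
    ⟨center G, inferInstance, le_rfl, fun x hx => ⟨0, by simpa using hx⟩⟩
  have hO : 𝓞({p}, (⊤ : Subgroup (G ⧸ M))) = ⊥ := by
    haveI : (𝓞({p}, (⊤ : Subgroup (G ⧸ M)))).Normal := normalizer_eq_top_iff.1
      (top_le_iff.1 (le_norm_core _ _))
    have h1 : M ≤ (𝓞({p}, (⊤ : Subgroup (G ⧸ M)))).comap (QuotientGroup.mk' M) := fun x hx => by
      rw [mem_comap, QuotientGroup.mk'_apply, (QuotientGroup.eq_one_iff x).2 hx]; exact one_mem _
    have h2 := hmax (y := (𝓞({p}, (⊤ : Subgroup (G ⧸ M)))).comap (QuotientGroup.mk' M))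
      ⟨inferInstance, hZM.trans h1, fun x hx => by
        obtain ⟨k, hk⟩ := pe_of_mem ((core_pi _ _).isPGroup hp) hx
        rw [← map_pow, QuotientGroup.mk'_apply, QuotientGroup.eq_one_iff] at hk
        obtain ⟨j, hj⟩ := hMp _ hk
        exact ⟨k + j, by rwa [pow_add, pow_mul]⟩⟩ h1
    rw [eq_bot_iff]
    intro x hx
    obtain ⟨x, rfl⟩ := QuotientGroup.mk_surjective x
    exact mem_bot.2 ((QuotientGroup.eq_one_iff x).2 (h2 hx))
  have hidx : 𝓒₁((a : G ⧸ M)).index = p ^ (𝓒₁((a : G ⧸ M)).index).primeFactorsList.length := by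
    refine Nat.eq_prime_pow_of_unique_prime_dvd (ind_pos _).ne' fun {r} hr hd => ?_
    rw [← index_comap_of_surjective _ (QuotientGroup.mk'_surjective M)] at hd
    by_contra hrp
    refine unique_prime hp h hs ht hst hsp htp hsm hy0 S haS ha' has hz hr ?_ hrp
      (hd.trans (idx h ha ha' ▸ index_dvd_of_le fun c hc => ?_))
    · rintro rfl
      refine S.not_dvd_index (hd.trans (index_dvd_of_le fun c hc => ?_))
      obtain ⟨z, hz1, hz2⟩ := hz c hc
      rw [mem_comap, mem_cent1, QuotientGroup.mk'_apply, ← mul_inv_eq_iff_eq_mul,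
        ← QuotientGroup.mk_inv, ← QuotientGroup.mk_mul, ← QuotientGroup.mk_mul, hz2,
        QuotientGroup.mk_mul, (QuotientGroup.eq_one_iff z).2 (hZM hz1), mul_one]
    · rw [mem_comap, mem_cent1, QuotientGroup.mk'_apply, ← QuotientGroup.mk_mul,
        ← QuotientGroup.mk_mul, mem_cent1.1 hc]
  have hcm := CA.Kaz.comm_closure hp hidx hO
  obtain ⟨z, hz1, hz2⟩ := hz g hgS
  have hvg := mem_cent1.1 hv
  have h4 : g * (v * a * v⁻¹) * g⁻¹ = v * a * v⁻¹ * z := by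
    calc g * (v * a * v⁻¹) * g⁻¹ = (g * v) * a * (g * v)⁻¹ := by group
      _ = v * (g * a * g⁻¹) * v⁻¹ := by rw [← hvg]; group
      _ = v * a * (z * v⁻¹) := by rw [hz2]; group
      _ = _ := by rw [← mem_center_iff.1 hz1]; group
  set c := a⁻¹ * (v * a * v⁻¹) with hc
  have h5 : c ∈ 𝓒₁(v) := by
    rw [← hgv, mem_cent1, eq_comm, ← mul_inv_eq_iff_eq_mul]
    calc g * (a⁻¹ * (v * a * v⁻¹)) * g⁻¹ = (g * a * g⁻¹)⁻¹ * (g * (v * a * v⁻¹) * g⁻¹) := by group
      _ = z⁻¹ * (a⁻¹ * (v * a * v⁻¹) * z) := by rw [hz2, h4]; group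
      _ = _ := by rw [mem_center_iff.1 hz1, hc]; group
  have h6 : v * a * v⁻¹ = a * c := by rw [hc]; group
  have hct : PE t c := by
    obtain ⟨k, hk⟩ := hvt
    have e : ∀ n : ℕ, v ^ n * a * (v ^ n)⁻¹ = a * c ^ n := by
      intro n
      induction n with
      | zero => simp
      | succ n ih =>
        have h7 : c ^ n * v⁻¹ = v⁻¹ * c ^ n :=
          ((show Commute c v from mem_cent1.1 h5).inv_right.pow_left n)
        calc v ^ (n + 1) * a * (v ^ (n + 1))⁻¹ = v * (v ^ n * a * (v ^ n)⁻¹) * v⁻¹ := by group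
          _ = v * a * (c ^ n * v⁻¹) := by rw [ih]; group
          _ = _ := by rw [h7, ← mul_assoc, h6, pow_succ', mul_assoc]
    have h7 := e (t ^ k)
    rw [hk, one_mul, inv_one, mul_one, eq_comm, mul_eq_left] at h7
    exact ⟨k, h7⟩
  have hcM : c ∈ M := by
    rw [← QuotientGroup.eq_one_iff]
    obtain ⟨k, hk⟩ := hae
    obtain ⟨j, hj⟩ := hct
    have h7 : (a : G ⧸ M) ∈ normalClosure {(a : G ⧸ M)} := subset_normalClosure rfl
    have h8 : Commute (a : G ⧸ M)⁻¹ ((v : G ⧸ M) * a * (v : G ⧸ M)⁻¹) :=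
      congrArg Subtype.val (hcm.is_comm.comm ⟨_, inv_mem h7⟩
        ⟨_, normalClosure_normal.conj_mem _ h7 (v : G ⧸ M)⟩)
    refine pe_eq_one hs ht hst ⟨k, ?_⟩ ⟨j, by rw [← QuotientGroup.mk_pow, hj]; rfl⟩
    rw [hc, QuotientGroup.mk_mul, QuotientGroup.mk_mul, QuotientGroup.mk_mul, QuotientGroup.mk_inv,
      QuotientGroup.mk_inv, h8.mul_pow, conj_pow, inv_pow, ← QuotientGroup.mk_pow, hk]
    simp
  have hcZ : c ∈ center G := by
    obtain ⟨k, hk⟩ := hMp c hcM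
    obtain ⟨j, hj⟩ := exists_pow_eq_self_of_coprime (x := c) (n := p ^ k)
      ((pe_pr hp ht htp hct).symm.pow_left k)
    rw [← hj]
    exact pow_mem hk j
  have hc1 : c = 1 := by
    refine pe_eq_one hs ht hst ?_ hct
    obtain ⟨k, hk⟩ := hae
    have h7 := congrArg (· ^ s ^ k) h6
    simp only [conj_pow, (show Commute a c from mem_center_iff.1 hcZ a).mul_pow, hk] at h7
    exact ⟨k, by simpa using h7.symm⟩
  rw [hc1, mul_one, mul_inv_eq_iff_eq_mul] at h6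
  exact hgC (mem_cent1_symm.1 (hgv ▸ mem_cent1.2 h6.symm))

end

/-- Let G be a finite group and p a prime, and suppose the conjugacy classes of p-regular elements of G (elements of order prime to p) have exactly two distinct sizes. Then either G has an abelian p-complement (an abelian subgroup of order prime to p and p-power index), or there are a prime q ≠ p, a Sylow p-subgroup P, a Sylow q-subgroup Q and a central subgroup A such that PQ is a normal subgroup of order #P·#Q and G is the internal direct product PQ × A. -/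
theorem result {G : Type*} [Group G] [Finite G] {p : ℕ} (hp : p.Prime)
    (h2 : Set.ncard (Set.range fun x : {x : G // (orderOf x).Coprime p} => (ConjClasses.mk (x : G)).carrier.ncard) = 2) :
    (∃ H : Subgroup G, IsMulCommutative H ∧ ¬ p ∣ Nat.card H ∧ ∃ k : ℕ, H.index = p ^ k) ∨
    (∃ (q : ℕ) (_ : Fact q.Prime) (P : Sylow p G) (Q : Sylow q G) (A : Subgroup G), q ≠ p ∧
        A ≤ Subgroup.center G ∧ Nat.card ↥((P : Subgroup G) ⊔ (Q : Subgroup G)) = Nat.card P * Nat.card Q ∧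
        ((P : Subgroup G) ⊔ (Q : Subgroup G)).Normal ∧
        ((P : Subgroup G) ⊔ (Q : Subgroup G)) ⊓ A = ⊥ ∧ ((P : Subgroup G) ⊔ (Q : Subgroup G)) ⊔ A = ⊤) := by
  haveI := Fact.mk hp
  obtain ⟨m, hm0, h⟩ : ∃ m : ℕ, m ≠ 0 ∧ ∀ x : G, (orderOf x).Coprime p →
      𝓒₁(x).index = 1 ∨ 𝓒₁(x).index = m := by
    obtain ⟨a, b, hab, e⟩ := Set.ncard_eq_two.1 h2
    have h1 : ∀ x : G, (orderOf x).Coprime p → 𝓒₁(x).index = a ∨ 𝓒₁(x).index = b := fun x hx => by
      have : (ConjClasses.mk x).carrier.ncard ∈ ({a, b} : Set ℕ) := e ▸ ⟨⟨x, hx⟩, rfl⟩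
      rwa [CA.CS1.ncard_carrier] at this
    have h3 : ∀ c ∈ ({a, b} : Set ℕ), c ≠ 0 := by
      rw [← e]
      rintro _ ⟨x, rfl⟩
      simp only [CA.CS1.ncard_carrier]
      exact (ind_pos _).ne'
    rcases h1 1 (by simp) with h4 | h4 <;> rw [ind_one.2 (one_mem _)] at h4
    · exact ⟨b, h3 b (by simp), fun x hx => h4 ▸ h1 x hx⟩
    · exact ⟨a, h3 a (by simp), fun x hx => h4 ▸ (h1 x hx).symm⟩
  by_cases hq : ∃ q : ℕ, q.Prime ∧ q ∣ m ∧ q ≠ p
  swap
  · left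
    push Not at hq
    refine (S4034.result hp).1 fun x hx => ?_
    rw [CA.CS1.ncard_carrier]
    rcases h x hx with e | e
    · exact ⟨0, e⟩
    · exact ⟨_, e.trans (Nat.eq_prime_pow_of_unique_prime_dvd hm0 fun hd1 hd2 => hq _ hd1 hd2)⟩
  right
  obtain ⟨q, hq, hqm, hqp⟩ := hq
  haveI := Fact.mk hq
  have hc : ∀ t : ℕ, t.Prime → t ≠ p → t ≠ q → ∀ y : G, PE t y → y ∈ center G := by
    intro t ht htp htq y hy
    by_contra hy'
    exact false_of_two hp h hq ht htq.symm hqp htp hqm ⟨y, hy', hy⟩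
  set A := 𝓞(({p, q} : Set ℕ)ᶜ, (⊤ : Subgroup G)) with hA
  have hAZ : A ≤ center G := fun x hx => CA.Kaz.mem_of_parts fun t k ht h5 => by
    by_cases h1 : x ^ k = 1
    · rw [h1]; exact one_mem _
    obtain ⟨r, hr, hrd⟩ := Nat.exists_prime_and_dvd (fun e => h1 (orderOf_eq_one_iff.1 e))
    have h6 : r = t := isPi_zpowers.1 h5 r hr hrd
    have h7 : r ∈ ({p, q} : Set ℕ)ᶜ := (core_pi _ _).orderOf (pow_mem hx k) r hr hrd
    simp only [Set.mem_compl_iff, Set.mem_insert_iff, Set.mem_singleton_iff, not_or, h6] at h7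
    exact hc t ht h7.1 h7.2 _ (pe_of_mem (h5.isPGroup ht) (mem_zpowers _))
  haveI : A.Normal := normalizer_eq_top_iff.1 (top_le_iff.1 (le_norm_core _ _))
  have hAi : ∀ t : ℕ, t.Prime → t ∣ A.index → t = p ∨ t = q := by
    intro t ht hd
    by_contra! h'
    haveI := Fact.mk ht
    obtain ⟨T⟩ : Nonempty (Sylow t G) := inferInstance
    have h1 : (T : Subgroup G) ≤ center G := fun y hy => hc t ht h'.1 h'.2 y (pe_of_mem T.isPGroup' hy)
    exact T.not_dvd_index (hd.trans (index_dvd_of_le (le_core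
      ((isPi_of_isPGroup ht T.isPGroup').sub (by simp [h'.1, h'.2])) le_top
      (CA.Amb.norm_of_centralizer (le_centralizer_iff.1 (h1.trans (center_le_centralizer _)))))))
  have hAc : ∀ t : ℕ, t.Prime → t ∣ Nat.card A → t ≠ p ∧ t ≠ q := fun t ht hd => by
    simpa using core_pi _ _ t ht hd
  obtain ⟨L, hL⟩ := exists_right_complement'_of_coprime (N := A) (Nat.coprime_of_dvd
    fun t ht h1 h2 => (hAi t ht h2).elim (hAc t ht h1).1 (hAc t ht h1).2)
  have hLi : L.index = Nat.card A := hL.index_eq_card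
  obtain ⟨P, hP, hPL⟩ : ∃ P, SylIn p P ⊤ ∧ P ≤ L := by
    obtain ⟨P, hP⟩ := exists_sylIn p L
    refine ⟨P, sylIn_of_not_dvd le_top hP.pg ?_, hP.le⟩
    rw [relIndex_top_right, ← relIndex_mul_index hP.le, hLi]
    exact fun e => (hp.dvd_mul.1 e).elim hP.not_dvd fun e => (hAc p hp e).1 rfl
  obtain ⟨Q, hQ, hQL⟩ : ∃ Q, SylIn q Q ⊤ ∧ Q ≤ L := by
    obtain ⟨P, hP⟩ := exists_sylIn q L
    refine ⟨P, sylIn_of_not_dvd le_top hP.pg ?_, hP.le⟩
    rw [relIndex_top_right, ← relIndex_mul_index hP.le, hLi]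
    exact fun e => (hq.dvd_mul.1 e).elim hP.not_dvd fun e => (hAc q hq e).2 rfl
  have hPQ : P ⊔ Q = L := by
    refine le_antisymm (sup_le hPL hQL) (relIndex_eq_one.1 (Nat.eq_one_iff_not_exists_prime_dvd.2
      fun t ht hd => ?_))
    have h1 := hd.trans (relIndex_dvd_index_of_le (sup_le hPL hQL))
    rcases hAi t ht (hL.symm.index_eq_card ▸ hd.trans (relIndex_dvd_card _ _)) with rfl | rfl
    · exact hP.not_dvd (relIndex_top_right P ▸ h1.trans (index_dvd_of_le le_sup_left))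
    · exact hQ.not_dvd (relIndex_top_right Q ▸ h1.trans (index_dvd_of_le le_sup_right))
  refine ⟨q, inferInstance, hP.toSylowTop, hQ.toSylowTop, A, hqp, hAZ, ?_⟩
  rw [hP.coe_toSylowTop, hQ.coe_toSylowTop, hPQ]
  refine ⟨?_, ?_, ?_, ?_⟩
  · obtain ⟨i, hi⟩ := hP.pg.exists_card_eq
    obtain ⟨j, hj⟩ := hQ.pg.exists_card_eq
    have hcop : (Nat.card P).Coprime (Nat.card Q) := by
      rw [hi, hj]; exact Nat.coprime_pow_primes _ _ hp hq hqp.symm
    obtain ⟨c, hc'⟩ := hcop.mul_dvd_of_dvd_of_dvd (card_dvd_of_le hPL) (card_dvd_of_le hQL)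
    have h1 : c = 1 := Nat.eq_one_iff_not_exists_prime_dvd.2 fun t ht hd => by
      have h2' := CA.PGBasic.card_mul_relIndex hPL
      have h3' := CA.PGBasic.card_mul_relIndex hQL
      rcases hAi t ht (hL.symm.index_eq_card ▸ hc' ▸ hd.mul_left _) with rfl | rfl
      · rw [hc', mul_assoc] at h2'
        exact (hP.mono hPL le_top).not_dvd
          (Nat.eq_of_mul_eq_mul_left Nat.card_pos h2' ▸ hd.mul_left _)
      · rw [hc', mul_comm (Nat.card P), mul_assoc] at h3'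
        exact (hQ.mono hQL le_top).not_dvd
          (Nat.eq_of_mul_eq_mul_left Nat.card_pos h3' ▸ hd.mul_left _)
    rw [hc', h1, mul_one]
  · rw [← normalizer_eq_top_iff, eq_top_iff, ← hL.sup_eq_top]
    exact sup_le (CA.Amb.norm_of_centralizer (hAZ.trans (center_le_centralizer _))) le_normalizer
  · exact disjoint_iff.1 hL.disjoint.symm
  · rw [sup_comm]; exact hL.sup_eq_top

end Cfsg.Agent.S4033
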