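import Cfsg.Statements.S4068
import Cfsg.Agent.S1230
import Cfsg.Agent.S2475
import Cfsg.Agent.S0494
import Cfsg.Agent.S0205
import Cfsg.Agent.Lib.Char.CharBurn
import Cfsg.Agent.Lib.Lin.SLnCard
import Cfsg.Agent.Lib.Lin.SLnGen

set_option autoImplicit false
open Cfsg

namespace Cfsg.Agent.S4068

open Subgroup

theorem ord_card {G : Type*} [Group G] [Finite G] :
    (Set.range (orderOf : G → ℕ)).ncard ≤ Nat.card (MulAction.orbitRel.Quotient (MulAut G) G) := by
  let f : MulAction.orbitRel.Quotient (MulAut G) G → ℕ := Quotient.lift orderOf (by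
    intro a b hab
    obtain ⟨σ, rfl⟩ := (MulAction.orbitRel_apply.1 hab)
    exact MulEquiv.orderOf_eq σ b)
  have : Set.range (orderOf : G → ℕ) = Set.range f := by
    ext n; constructor
    · rintro ⟨g, rfl⟩; exact ⟨Quotient.mk _ g, rfl⟩
    · rintro ⟨x, rfl⟩; induction x using Quotient.inductionOn with
      | h g => exact ⟨g, rfl⟩
  rw [this, ← Set.image_univ]
  have : Finite (MulAction.orbitRel.Quotient (MulAut G) G) := Quotient.finite _
  exact (Set.ncard_image_le Set.finite_univ).trans (by rw [Set.ncard_univ])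

theorem solv_of {G : Type*} [Group G] (N : Subgroup G) [N.Normal] (h1 : Group.IsSolvable N)
    (h2 : Group.IsSolvable (G ⧸ N)) : Group.IsSolvable G :=
  solvable_of_ker_le_range N.subtype (QuotientGroup.mk' N) (by simp)

/-- A finite non-solvable group on which its automorphism group has exactly four orbits is isomorphic to the alternating group of degree 5. -/
theorem result {G : Type*} [Group G] [Finite G] (hns : ¬ Group.IsSolvable G)
    (h4 : Nat.card (MulAction.orbitRel.Quotient (MulAut G) G) = 4) : Nonempty (G ≃* alternatingGroup (Fin 5)) := by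
  classical
  have hev : 2 ∣ Nat.card G := by
    by_contra h
    exact hns (Cfsg.Agent.S0205.result (Nat.odd_iff.2 (by omega)))
  have h3 : 3 ≤ (Nat.card G).primeFactors.card := by
    by_contra h
    exact hns (CChar.CharBurn.isSolvable_of_card_primeFactors_le (by omega))
  have hsub : (insert 1 (Nat.card G).primeFactors : Finset ℕ) ⊆
      (Set.toFinite (Set.range (orderOf : G → ℕ))).toFinset := by
    intro n hn
    simp only [Finset.mem_insert, Nat.mem_primeFactors, Set.Finite.mem_toFinset] at hn ⊢
    rcases hn with rfl | ⟨hp, hd, -⟩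
    · exact ⟨1, orderOf_one⟩
    · have := Fact.mk hp
      exact exists_prime_orderOf_dvd_card' n hd
  have hle := ord_card (G := G)
  rw [h4, Set.ncard_eq_toFinset_card _ (Set.toFinite _)] at hle
  have h1 : 1 ∉ (Nat.card G).primeFactors := fun h => Nat.not_prime_one (Nat.prime_of_mem_primeFactors h)
  have heq := Finset.eq_of_subset_of_card_le hsub (by rw [Finset.card_insert_of_notMem h1]; omega)
  have hord : ∀ g : G, orderOf g = 1 ∨ (orderOf g).Prime := by
    intro g
    have : orderOf g ∈ (insert 1 (Nat.card G).primeFactors : Finset ℕ) := by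
      rw [heq]; simp
    rcases Finset.mem_insert.1 this with h | h
    · exact Or.inl h
    · exact Or.inr (Nat.prime_of_mem_primeFactors h)
  obtain ⟨T⟩ : Nonempty (Sylow 2 G) := inferInstance
  have hTs : Group.IsSolvable (T : Subgroup G) := by
    have := T.isPGroup'.isNilpotent
    infer_instance
  have hnc : ¬ IsCyclic (T : Subgroup G) := by
    intro hc
    have hm : (Nat.card G).minFac = 2 := (Nat.minFac_eq_two_iff _).2 hev
    have hcomp := hc.isComplement' hm
    set N := (MonoidHom.transferSylow T (hc.normalizer_le_centralizer hm)).ker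
    have hodd : Odd (Nat.card N) := by
      rw [← hcomp.index_eq_card]
      exact Nat.odd_iff.2 (by have := T.not_dvd_index; omega)
    refine hns (solv_of N (Cfsg.Agent.S0205.result hodd) ?_)
    exact solvable_of_surjective (f := (QuotientGroup.mk' N).comp (T : Subgroup G).subtype) (by
      intro x
      obtain ⟨g, rfl⟩ := QuotientGroup.mk_surjective x
      obtain ⟨⟨n, t⟩, rfl⟩ := hcomp.2 g
      refine ⟨t, ?_⟩
      simp only [MonoidHom.comp_apply, coe_subtype, QuotientGroup.mk'_apply, QuotientGroup.mk_mul]
      rw [(QuotientGroup.eq_one_iff _).2 n.2, one_mul])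
  have hnn : ¬ (T : Subgroup G).Normal := by
    intro hn
    refine hns (solv_of (T : Subgroup G) hTs (Cfsg.Agent.S0205.result ?_))
    exact Nat.odd_iff.2 (by have := T.not_dvd_index; unfold Subgroup.index at this; omega)
  have hC : ∀ t : G, orderOf t = 2 → IsMulCommutative (Subgroup.centralizer ({t} : Set G)) ∧
      ∀ c ∈ Subgroup.centralizer ({t} : Set G), c ^ 2 = 1 := by
    intro t ht
    have hsq : ∀ c ∈ Subgroup.centralizer ({t} : Set G), c ^ 2 = 1 := by
      intro c hc
      rw [mem_centralizer_singleton_iff] at hc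
      rcases hord c with h | h
      · rw [orderOf_eq_one_iff.1 h, one_pow]
      by_cases h2 : orderOf c = 2
      · rw [← h2, pow_orderOf_eq_one]
      exfalso
      have hco : (orderOf c).Coprime (orderOf t) := by
        rw [ht]; exact (Nat.coprime_primes h Nat.prime_two).2 h2
      have := (Commute.orderOf_mul_eq_mul_orderOf_of_coprime (show Commute c t from hc) hco)
      rw [ht] at this
      rcases hord (c * t) with h' | h'
      · rw [this] at h'; omega
      · rw [this] at h'
        exact Nat.not_prime_mul h.one_lt.ne' (by norm_num) h'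
    refine ⟨⟨⟨fun a b => Subtype.ext ?_⟩⟩, hsq⟩
    have ha := hsq a a.2
    have hb := hsq b b.2
    have hab := hsq _ (mul_mem a.2 b.2)
    simp only [coe_mul]
    have ia : (a : G)⁻¹ = a := by rw [inv_eq_iff_mul_eq_one, ← sq, ha]
    have ib : (b : G)⁻¹ = b := by rw [inv_eq_iff_mul_eq_one, ← sq, hb]
    have iab : ((a : G) * b)⁻¹ = a * b := by rw [inv_eq_iff_mul_eq_one, ← sq, hab]
    rw [← iab, mul_inv_rev, ia, ib]
  obtain ⟨F, _, _, hF, ⟨e⟩⟩ := Cfsg.Agent.S1230.result T hnc hnn hC
  obtain ⟨k, hk⟩ := T.isPGroup'.exists_card_eq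
  have hk2 : 2 ≤ k := by
    by_contra h
    apply hnc
    obtain rfl | rfl : k = 0 ∨ k = 1 := by omega
    · have := (Nat.card_eq_one_iff_unique.1 (hk.trans (pow_zero 2))).1
      exact isCyclic_of_subsingleton
    · have := Fact.mk Nat.prime_two
      exact isCyclic_of_prime_card (p := 2) (by simpa using hk)
  rw [hk] at hF
  have h4' : 4 ≤ Fintype.card F := by
    rw [hF]; exact (Nat.pow_le_pow_right (by norm_num) hk2 : 2 ^ 2 ≤ 2 ^ k)
  have hch : CharP F 2 := by
    obtain ⟨p, hp, n, hpp, hn⟩ := FiniteField.card' F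
    have : p ∣ 2 ^ k := by rw [← hF, hn]; exact dvd_pow_self _ n.ne_zero
    have := (Nat.prime_dvd_prime_iff_eq hpp Nat.prime_two).1 (hpp.dvd_of_dvd_pow this)
    subst this; exact hp
  have hev' : Even (Fintype.card F) := by
    rw [hF]; exact (Nat.even_pow.2 ⟨even_two, by omega⟩)
  have hg := CA.SLnCard.gcd_two_of_even hev' (by omega)
  have hsp := Cfsg.Agent.S2475.result (F := F) 2 h4'
  rw [hg, Nat.div_one, Nat.div_one] at hsp
  have hpr : ∀ m, (m = Fintype.card F - 1 ∨ m = Fintype.card F + 1) → m.Prime := by
    intro m hm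
    have : m ∈ Set.range (orderOf : Matrix.ProjectiveSpecialLinearGroup (Fin 2) F → ℕ) := by
      rw [hsp]; rcases hm with rfl | rfl
      · exact Or.inr (Or.inl dvd_rfl)
      · exact Or.inr (Or.inr dvd_rfl)
    obtain ⟨g, hg⟩ := this
    have := hord (e.symm g)
    rw [MulEquiv.orderOf_eq, hg] at this
    rcases this with h | h
    · omega
    · exact h
  have hq : Fintype.card F = 4 := by
    have a1 := hpr _ (Or.inl rfl)
    have a2 := hpr _ (Or.inr rfl)
    have h3 : ¬ 3 ∣ Fintype.card F := by
      rw [hF]; intro h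
      have := Nat.prime_three.dvd_of_dvd_pow h
      omega
    have : 3 ∣ Fintype.card F - 1 ∨ 3 ∣ Fintype.card F + 1 := by omega
    rcases this with h | h
    · have := (Nat.prime_dvd_prime_iff_eq Nat.prime_three a1).1 h; omega
    · have := (Nat.prime_dvd_prime_iff_eq Nat.prime_three a2).1 h; omega
  have hs : IsSimpleGroup (Matrix.ProjectiveSpecialLinearGroup (Fin 2) F) := by
    refine CA.SLnGen.isSimpleGroup_PSL (Or.inr ?_)
    by_contra h
    push Not at h
    have hsub : (Finset.univ : Finset F) ⊆ {0, 1} := by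
      intro a _
      by_cases ha : a = 0
      · simp [ha]
      · have := h a ha
        have h2 : (a - 1) ^ 2 = 0 := by
          have : (2 : F) = 0 := CharP.ofNat_eq_zero F 2
          linear_combination ‹a ^ 2 = 1› + (1 - a) * this
        have := pow_eq_zero_iff (by norm_num) |>.1 h2
        simp [sub_eq_zero.1 this]
    have := (Finset.card_le_card hsub).trans Finset.card_le_two
    rw [Finset.card_univ] at this; omega
  have : IsSimpleGroup G := e.isSimpleGroup
  refine Cfsg.Agent.S0494.result ?_
  rw [Nat.card_congr e.toEquiv, CA.SLnCard.card_PSL2_even (by rwa [Nat.card_eq_fintype_card]),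
    Nat.card_eq_fintype_card, hq]
  norm_num

end Cfsg.Agent.S4068
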