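import Cfsg.Statements.S4081
import Cfsg.Agent.S4068
import Cfsg.Agent.Lib.Odd.BG3a
import Mathlib.RingTheory.Polynomial.Cyclotomic.Factorization

set_option autoImplicit false
open Cfsg

namespace Cfsg.Agent.S4081

open Subgroup Polynomial
open scoped IsMulCommutative

section lin
variable {p q : ℕ} [hp : Fact p.Prime] [hq : Fact q.Prime] {V : Type*} [AddCommGroup V]
  [Module (ZMod p) V] [Finite V] [Nontrivial V] (x : Module.End (ZMod p) V)

theorem cop (hpq : p ≠ q) : p.Coprime q := (Nat.coprime_primes hp.out hq.out).2 hpq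

theorem ord_unit (hpq : p ≠ q) :
    orderOf (ZMod.unitOfCoprime _ ((cop hpq).pow_left 1)) = orderOf (p : ZMod q) := by
  rw [← orderOf_units, ZMod.coe_unitOfCoprime, pow_one]

def gen (v : V) : Submodule (ZMod p) V := Submodule.span (ZMod p) (Set.range fun i : ℕ => (x ^ i) v)

theorem mem_gen (v : V) : v ∈ gen x v := Submodule.subset_span ⟨0, by simp⟩

theorem gen_le {W : Submodule (ZMod p) V} (hW : ∀ u ∈ W, x u ∈ W) {v : V} (hv : v ∈ W) :
    gen x v ≤ W := by
  refine Submodule.span_le.2 ?_
  rintro _ ⟨i, rfl⟩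
  induction i with
  | zero => simpa using hv
  | succ i ih => simpa [pow_succ'] using hW _ ih

theorem gen_inv (v : V) : ∀ u ∈ gen x v, x u ∈ gen x v := by
  intro u hu
  refine Submodule.span_induction (p := fun u _ => x u ∈ gen x v) ?_ (by simp)
    (fun a b _ _ ha hb => by simpa using add_mem ha hb)
    (fun c a _ ha => by simpa using Submodule.smul_mem _ c ha) hu
  rintro _ ⟨i, rfl⟩
  exact Submodule.subset_span ⟨i + 1, by simp [pow_succ']⟩

theorem pow_inv {W : Submodule (ZMod p) V} (hW : ∀ u ∈ W, x u ∈ W) (j : ℕ) :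
    ∀ u ∈ W, (x ^ j) u ∈ W := fun u hu =>
  gen_le x hW hu (Submodule.subset_span ⟨j, rfl⟩)

theorem aeval_inv {W : Submodule (ZMod p) V} (hW : ∀ u ∈ W, x u ∈ W) (f : (ZMod p)[X]) :
    ∀ u ∈ W, aeval x f u ∈ W := by
  intro u hu
  rw [aeval_eq_sum_range, LinearMap.sum_apply]
  exact Submodule.sum_mem _ fun i _ => Submodule.smul_mem _ _ (pow_inv x hW i u hu)

theorem aeval_conj (T : V ≃+ V) (y : Module.End (ZMod p) V) (h : ∀ u, T (x u) = y (T u))
    (f : (ZMod p)[X]) (u : V) : T (aeval x f u) = aeval y f (T u) := by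
  rw [aeval_eq_sum_range, aeval_eq_sum_range, LinearMap.sum_apply, LinearMap.sum_apply, map_sum]
  refine Finset.sum_congr rfl fun i hi => ?_
  rw [LinearMap.smul_apply, LinearMap.smul_apply, ZMod.map_smul]
  congr 1
  clear hi
  induction i with
  | zero => simp
  | succ i ih => simp [pow_succ', h, ih]

theorem prim (hpq : p ≠ q) (hx : x ^ q = 1) (hx1 : x ≠ 1)
    (h1 : ∀ v w : V, v ≠ 0 → w ≠ 0 → ∃ T : V ≃+ V, T v = w ∧ ∃ j : ℕ, ∀ u, T (x u) = (x ^ j) (T u))
    (h2 : ∀ k : ℕ, ¬ q ∣ k → ∃ T : V ≃+ V, ∀ u, T (x u) = (x ^ k) (T u)) :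
    orderOf (p : ZMod q) = q - 1 := by
  classical
  have hc : ∀ v w : V, v ≠ 0 → w ≠ 0 → Nat.card (gen x v) ≤ Nat.card (gen x w) := by
    intro v w hv hw
    obtain ⟨T, rfl, j, hj⟩ := h1 v w hv hw
    let T' : V →ₗ[ZMod p] V := T.toAddMonoidHom.toZModLinearMap p
    have : gen x v ≤ (gen x (T v)).comap T' := gen_le x (fun u hu => by
      change T (x u) ∈ gen x (T v)
      rw [hj]; exact pow_inv x (gen_inv x _) j _ hu) (mem_gen x _)
    exact Nat.card_le_card_of_injective (fun u => (⟨T u, this u.2⟩ : gen x (T v)))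
      fun a b e => Subtype.ext (T.injective (congrArg Subtype.val e))
  have hmin : ∀ v w : V, w ≠ 0 → w ∈ gen x v → gen x w = gen x v := by
    intro v w hw hwv
    have hv : v ≠ 0 := by
      rintro rfl
      exact hw (gen_le x (W := ⊥) (by simp) (Submodule.zero_mem _) hwv)
    have hle := gen_le x (gen_inv x v) hwv
    apply SetLike.coe_injective
    exact Set.eq_of_subset_of_ncard_le hle (hc v w hv hw)
  have hinj : ∀ f : (ZMod p)[X], aeval x f ≠ 0 → ∀ y, aeval x f y = 0 → y = 0 := by
    intro f hf y hy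
    by_contra hy0
    obtain ⟨z, hz⟩ : ∃ z, aeval x f z ≠ 0 := by
      by_contra hh; push Not at hh; exact hf (LinearMap.ext hh)
    have e1 := hmin z _ hz (aeval_inv x (gen_inv x z) f z (mem_gen x z))
    have e2 := hmin (y + z) _ hz (by
      have := aeval_inv x (gen_inv x (y + z)) f _ (mem_gen x _)
      rwa [map_add, hy, zero_add] at this)
    have e3 : y ∈ gen x z := by
      have := mem_gen x (y + z)
      rw [← e2, e1] at this
      simpa using sub_mem this (mem_gen x z)
    have e4 := hmin z y hy0 e3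
    have : gen x y ≤ LinearMap.ker (aeval x f) := gen_le x (fun u hu => by
      rw [LinearMap.mem_ker] at hu ⊢
      rw [← Module.End.mul_apply, ← aeval_X (R := ZMod p) x, aeval_X, show aeval x f * x =
        x * aeval x f by
          conv_lhs => rw [← aeval_X (R := ZMod p) x, aeval_X, show aeval x f * x = aeval x (f * X) by simp]
          rw [mul_comm, map_mul, aeval_X], Module.End.mul_apply, hu, map_zero]) hy
    exact hz (this (e4 ▸ mem_gen x z))
  set R := Algebra.adjoin (ZMod p) {x}
  have : NoZeroDivisors R := ⟨fun {a b} hab => by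
    obtain ⟨f, hf⟩ := Algebra.adjoin_eq_exists_aeval _ x a
    by_cases ha : (a : Module.End (ZMod p) V) = 0
    · exact Or.inl (Subtype.ext ha)
    · refine Or.inr (Subtype.ext (LinearMap.ext fun u => hinj f (hf ▸ ha) _ ?_))
      rw [hf]
      exact LinearMap.congr_fun (congrArg Subtype.val hab) u⟩
  have : IsDomain R := NoZeroDivisors.to_isDomain _
  let ξ : R := ⟨x, Algebra.self_mem_adjoin_singleton _ x⟩
  have hξ : IsPrimitiveRoot ξ q := by
    have : orderOf ξ = q := orderOf_eq_prime (Subtype.ext hx) (fun e => hx1 (congrArg Subtype.val e))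
    exact this ▸ IsPrimitiveRoot.orderOf ξ
  have : Finite (Module.End (ZMod p) V) := Finite.of_injective _ DFunLike.coe_injective
  have hint : IsIntegral (ZMod p) ξ := IsIntegral.of_finite _ _
  set f := minpoly (ZMod p) ξ
  have hdvd : f ∣ cyclotomic q (ZMod p) := by
    refine minpoly.dvd _ _ ?_
    have := hξ.isRoot_cyclotomic hq.out.pos
    rwa [← map_cyclotomic q (algebraMap (ZMod p) R), IsRoot.def, eval_map_algebraMap] at this
  have hdeg := natDegree_of_dvd_cyclotomic_of_irreducible (f := 1) (by simp) (cop hpq) hdvd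
    (minpoly.irreducible hint)
  rw [ord_unit hpq] at hdeg
  have hval : ∀ (r : R) (g : (ZMod p)[X]), ((aeval r g : R) : Module.End (ZMod p) V) =
      aeval (r : Module.End (ZMod p) V) g := fun r g => (aeval_algHom_apply R.val r g).symm
  have hf0 : aeval x f = 0 := by
    have := hval ξ f
    rw [minpoly.aeval] at this
    exact this.symm
  have hroot : ∀ k, ¬ q ∣ k → aeval (ξ ^ k) f = 0 := by
    intro k hk
    obtain ⟨T, hT⟩ := h2 k hk
    refine Subtype.ext ((hval _ _).trans (LinearMap.ext fun u => ?_))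
    obtain ⟨u, rfl⟩ := T.surjective u
    have := aeval_conj x T (x ^ k) hT f u
    rw [hf0] at this
    simpa using this.symm
  have hle : q - 1 ≤ f.natDegree := by
    have hne : f.map (algebraMap (ZMod p) R) ≠ 0 := ((minpoly.monic hint).map _).ne_zero
    have hsub : (Finset.Ico 1 q).image (fun k => ξ ^ k) ⊆
        (f.map (algebraMap (ZMod p) R)).roots.toFinset := by
      intro r hr
      obtain ⟨k, hk, rfl⟩ := Finset.mem_image.1 hr
      rw [Finset.mem_Ico] at hk
      rw [Multiset.mem_toFinset, mem_roots hne, IsRoot.def, eval_map_algebraMap]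
      exact hroot k (Nat.not_dvd_of_pos_of_lt hk.1 hk.2)
    have := (Finset.card_le_card hsub).trans ((Multiset.toFinset_card_le _).trans
      ((card_roots' _).trans natDegree_map_le))
    rwa [Finset.card_image_of_injOn, Nat.card_Ico] at this
    intro a ha b hb e
    simp only [Finset.coe_Ico, Set.mem_Ico] at ha hb
    exact hξ.pow_inj ha.2 hb.2 e
  refine le_antisymm (Nat.le_of_dvd (by have := hq.out.two_le; omega) ?_) (hdeg ▸ hle)
  refine ZMod.orderOf_dvd_card_sub_one ?_
  rw [Ne, ZMod.natCast_eq_zero_iff]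
  exact fun h => hpq ((Nat.prime_dvd_prime_iff_eq hq.out hp.out).1 h).symm

theorem auts (hpq : p ≠ q) (hx : x ^ q = 1) (hfpf : ∀ v, x v = v → v = 0)
    (hord : orderOf (p : ZMod q) = q - 1) :
    (∀ v w : V, v ≠ 0 → w ≠ 0 → ∃ T : V ≃+ V, T v = w ∧ ∀ u, T (x u) = x (T u)) ∧
      ∃ T : V ≃+ V, ∀ u, T (x u) = (x ^ p) (T u) := by
  classical
  have hirr : Irreducible (cyclotomic q (ZMod p)) :=
    irreducible_of_dvd_cyclotomic_of_natDegree (f := 1) (by simp) (cop hpq) dvd_rfl (by
      rw [ord_unit hpq, hord, natDegree_cyclotomic, Nat.totient_prime hq.out])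
  have h0 : aeval x (cyclotomic q (ZMod p)) = 0 := by
    have := congrArg (aeval x) (cyclotomic_prime_mul_X_sub_one (ZMod p) q)
    rw [mul_comm, map_mul, map_sub, map_sub, map_pow, aeval_X, map_one, hx, sub_self] at this
    refine LinearMap.ext fun u => hfpf _ ?_
    have := LinearMap.congr_fun this u
    simpa [sub_eq_zero] using this
  set R := Algebra.adjoin (ZMod p) {x}
  have hF : IsField R := by
    refine ⟨exists_pair_ne R, mul_comm, fun {a} ha => ?_⟩
    obtain ⟨f, hf⟩ := Algebra.adjoin_eq_exists_aeval _ x a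
    rcases hirr.isCoprime_or_dvd f with h | ⟨g, rfl⟩
    · obtain ⟨u, v, e⟩ := h
      refine ⟨⟨aeval x v, aeval_mem_adjoin_singleton _ _⟩, Subtype.ext ?_⟩
      have := congrArg (aeval x) e
      rw [map_add, map_mul, h0, mul_zero, zero_add, mul_comm v, map_mul, map_one, hf] at this
      exact this
    · refine absurd (Subtype.ext ?_) ha
      rw [← hf, map_mul, h0, zero_mul]; rfl
  letI := hF.toField
  have : Finite (Module.End (ZMod p) V) := Finite.of_injective _ DFunLike.coe_injective
  let ξ : R := ⟨x, Algebra.self_mem_adjoin_singleton _ x⟩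
  have hξ : ∀ u : V, x u = ξ • u := fun u => rfl
  have : Module.Finite R V := Module.Finite.of_finite
  refine ⟨fun v w hv hw => ?_, ?_⟩
  · obtain ⟨g, hg⟩ := Submodule.exists_linearEquiv_restrict_eq
      ((LinearEquiv.toSpanNonzeroSingleton R V v hv).symm ≪≫ₗ
        (LinearEquiv.toSpanNonzeroSingleton R V w hw))
    refine ⟨g.toAddEquiv, ?_, fun u => ?_⟩
    · have := hg (LinearEquiv.toSpanNonzeroSingleton R V v hv 1)
      rw [LinearEquiv.trans_apply, LinearEquiv.symm_apply_apply] at this
      simpa using this.symm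
    · rw [hξ, hξ]; exact g.map_smul ξ u
  · have : CharP R p := charP_of_injective_algebraMap (algebraMap (ZMod p) R).injective p
    let b := Module.Basis.ofVectorSpace R V
    let φ : R ≃+* R := frobeniusEquiv R p
    refine ⟨b.repr.toAddEquiv.trans ((Finsupp.mapRange.addEquiv φ.toAddEquiv).trans
      b.repr.symm.toAddEquiv), fun u => ?_⟩
    have e : ∀ u : V, (x ^ p) u = (ξ ^ p) • u := fun u => rfl
    rw [hξ, e]
    apply b.repr.injective
    ext i
    simp [φ, frobenius_def, mul_pow]

end lin

section grp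
variable {G : Type*} [Group G] [Finite G]

theorem same (h : Nat.card (MulAction.orbitRel.Quotient (MulAut G) G) ≤
    (Set.range (orderOf : G → ℕ)).ncard) {x y : G} (e : orderOf x = orderOf y) :
    ∃ σ : MulAut G, σ x = y := by
  let f : MulAction.orbitRel.Quotient (MulAut G) G → ℕ := Quotient.lift orderOf (by
    intro a b hab
    obtain ⟨σ, rfl⟩ := (MulAction.orbitRel_apply.1 hab)
    exact MulEquiv.orderOf_eq σ b)
  have h1 : Set.range (orderOf : G → ℕ) = f '' Set.univ := by
    ext n; constructor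
    · rintro ⟨g, rfl⟩; exact ⟨Quotient.mk _ g, trivial, rfl⟩
    · rintro ⟨x, -, rfl⟩; induction x using Quotient.inductionOn with
      | h g => exact ⟨g, rfl⟩
  have : Finite (MulAction.orbitRel.Quotient (MulAut G) G) := Quotient.finite _
  have hinj : Set.InjOn f Set.univ := Set.injOn_of_ncard_image_eq
    (le_antisymm (Set.ncard_image_le Set.finite_univ) (by rwa [Set.ncard_univ, ← h1]))
  have := hinj (Set.mem_univ (Quotient.mk _ y)) (Set.mem_univ (Quotient.mk _ x)) e.symm
  exact MulAction.orbitRel_apply.1 (Quotient.exact this)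

theorem exists_ab [Nontrivial G] (hs : Group.IsSolvable G) :
    ∃ A : Subgroup G, A.Characteristic ∧ A ≠ ⊥ ∧ IsMulCommutative A := by
  obtain ⟨A, ⟨h1, h2⟩, hm⟩ := (wellFounded_lt (α := Subgroup G)).has_min
    {A | A.Characteristic ∧ A ≠ ⊥} ⟨⊤, inferInstance, top_ne_bot⟩
  refine ⟨A, h1, h2, ?_⟩
  have hlt := IsSolvable.commutator_lt_of_ne_bot h2
  have : ⁅A, A⁆ = ⊥ := by
    by_contra h
    exact hm _ ⟨inferInstance, h⟩ hlt
  exact le_centralizer_iff_isMulCommutative.1 (commutator_eq_bot_iff_le_centralizer.1 this)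

theorem ext_aut {q : ℕ} (hq : q.Prime) {A : Subgroup G} [A.Normal] (hi : A.index = q) {x x' : G}
    (hx : orderOf x = q) (hxA : x ∉ A) (hx' : orderOf x' = q) (hxA' : x' ∉ A) (β : A ≃* A)
    (h : ∀ a, β (MulAut.conjNormal x a) = MulAut.conjNormal x' (β a)) :
    ∃ σ : MulAut G, (∀ a : A, σ a = β a) ∧ σ x = x' := by
  have hxq : x ^ q ∈ A := by rw [← hx, pow_orderOf_eq_one]; exact one_mem _
  have hc : A.IsComplement' (zpowers x) := by
    refine isComplement'_of_card_mul_and_disjoint (by
      rw [Nat.card_zpowers, hx, ← hi, card_mul_index]) ?_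
    rw [disjoint_def]
    rintro _ ha ⟨k, rfl⟩
    obtain ⟨m, rfl⟩ := CA.PGBasic.dvd_of_zpow_mem hq hxA hxq ha
    simp only
    rw [zpow_mul, zpow_natCast, ← hx, pow_orderOf_eq_one, one_zpow]
  let x₀ : zpowers x := ⟨x, mem_zpowers x⟩
  have hgen : ∀ y : zpowers x, y ∈ zpowers x₀ := by
    rintro ⟨_, k, rfl⟩; exact ⟨k, Subtype.ext (by simp [x₀])⟩
  let f : zpowers x →* G := monoidHomOfForallMemZpowers hgen (g' := x')
    (by rw [hx', ← hx]; exact (orderOf_mk _ _).symm.dvd)
  have hf : f x₀ = x' := monoidHomOfForallMemZpowers_apply_gen _ _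
  have hpow : ∀ (n : ℕ) (a : A),
      β (MulAut.conjNormal (x ^ n) a) = MulAut.conjNormal (x' ^ n) (β a) := by
    intro n
    induction n with
    | zero => simp
    | succ n ih => intro a; rw [pow_succ', pow_succ', map_mul, map_mul, MulAut.mul_apply,
        MulAut.mul_apply, h, ih]
  let F := SemidirectProduct.lift (φ := (A.normalizerMonoidHom).comp
      (inclusion (A.normalizer_eq_top ▸ le_top : zpowers x ≤ normalizer (A : Set G))))
    (A.subtype.comp β.toMonoidHom) f (by
      intro g
      obtain ⟨n, rfl⟩ := mem_powers_iff_mem_zpowers.2 (hgen g)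
      ext a
      have := congrArg Subtype.val (hpow n a)
      simp only [map_pow f, hf]
      exact this)
  let e := SemidirectProduct.mulEquivSubgroup hc
  let σ : G →* G := F.comp e.symm.toMonoidHom
  have h1 : ∀ a : A, σ a = β a := by
    intro a
    have : e.symm a = SemidirectProduct.inl a := by
      rw [MulEquiv.symm_apply_eq]; simp [e]
    simp only [σ, MonoidHom.comp_apply, MulEquiv.coe_toMonoidHom, this, F,
      SemidirectProduct.lift_inl]
    rfl
  have h2 : σ x = x' := by
    have : e.symm x = SemidirectProduct.inr x₀ := by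
      rw [MulEquiv.symm_apply_eq]; simp [e, x₀]
    simp only [σ, MonoidHom.comp_apply, MulEquiv.coe_toMonoidHom, this, F,
      SemidirectProduct.lift_inr, hf]
  have hs : Function.Surjective σ := by
    rw [← MonoidHom.range_eq_top, eq_top_iff,
      ← CA.PGBasic.sup_zpowers_eq_top_of_index_prime hq hi hxA']
    refine sup_le (fun a ha => ⟨β.symm ⟨a, ha⟩, by rw [h1]; simp⟩) (zpowers_le.2 ⟨x, h2⟩)
  exact ⟨MulEquiv.ofBijective σ (Finite.injective_iff_surjective.2 hs |> fun h => ⟨h, hs⟩), h1, h2⟩

variable {p : ℕ} [hp : Fact p.Prime] (A : Subgroup G) [A.Normal] [IsMulCommutative A]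
  [Module (ZMod p) (Additive A)]

noncomputable def ρ : G →* Module.End (ZMod p) (Additive A) where
  toFun g := (MonoidHom.toAdditive (MulAut.conjNormal g : MulAut A).toMonoidHom).toZModLinearMap p
  map_one' := by ext; simp
  map_mul' a b := by ext; simp

theorem ρ_apply (g : G) (a : A) :
    ρ (p := p) A g (Additive.ofMul a) = Additive.ofMul (MulAut.conjNormal g a) := rfl

theorem conj_of_mem {g : G} (hg : g ∈ A) (a : A) : MulAut.conjNormal g a = a := by
  refine Subtype.ext ?_
  rw [MulAut.conjNormal_apply, mul_inv_eq_iff_eq_mul]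
  exact setLike_mul_comm hg a.2

end grp

/-- Let G be a finite group whose order is not a prime power. Then the automorphism group of G has exactly three orbits on G if and only if there are distinct primes p, q with #G = pⁿ·q (n ≥ 1) such that G has a normal elementary abelian Sylow p-subgroup P, p is a primitive root modulo q (the multiplicative order of p mod q is q − 1), and every element of order q of G acts on P without non-identity fixed points. -/
theorem result {G : Type*} [Group G] [Finite G] (hnpp : ¬ IsPrimePow (Nat.card G)) (hnt : Nat.card G ≠ 1) :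
    Nat.card (MulAction.orbitRel.Quotient (MulAut G) G) = 3 ↔
    ∃ (p q n : ℕ) (_ : Fact p.Prime) (_ : Fact q.Prime), p ≠ q ∧ 1 ≤ n ∧ Nat.card G = p ^ n * q ∧
      (∀ P : Sylow p G, (P : Subgroup G).Normal ∧ Cfsg.IsElementaryAbelian p (P : Subgroup G)) ∧
      orderOf (p : ZMod q) = q - 1 ∧
      ∀ x y : G, orderOf x = q → orderOf y = p → x * y * x⁻¹ ≠ y := by
  classical
  have dec : ∀ {q : ℕ} (hq : q.Prime) (A : Subgroup G) [A.Normal] [IsMulCommutative A] {x : G},
      A.index = q → x ∉ A → ∀ g : G, ∃ k : ℕ, g * (x ^ k)⁻¹ ∈ A ∧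
        ∀ a : A, MulAut.conjNormal g a = MulAut.conjNormal (x ^ k) a := by
    intro q hq A _ _ x hi hx g
    have : g ∈ A ⊔ zpowers x := by
      rw [CA.PGBasic.sup_zpowers_eq_top_of_index_prime hq hi hx]; trivial
    obtain ⟨n, hn, k, rfl⟩ := (CA.PGBasic.mem_sup_zpowers_nat (by simp [normalizer_eq_top])).1 this
    exact ⟨k, by simpa using hn, fun a => by rw [map_mul, MulAut.mul_apply, conj_of_mem A hn]⟩
  constructor
  · intro h3
    have h2 : 2 ≤ (Nat.card G).primeFactors.card := by
      rw [isPrimePow_iff_card_primeFactors_eq_one] at hnpp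
      have : (Nat.card G).primeFactors.card ≠ 0 := by
        rw [Ne, Finset.card_eq_zero, Nat.primeFactors_eq_empty]
        have := Nat.card_pos (α := G)
        omega
      omega
    have hsub : (insert 1 (Nat.card G).primeFactors : Finset ℕ) ⊆
        (Set.toFinite (Set.range (orderOf : G → ℕ))).toFinset := by
      intro n hn
      simp only [Finset.mem_insert, Nat.mem_primeFactors, Set.Finite.mem_toFinset] at hn ⊢
      rcases hn with rfl | ⟨hp, hd, -⟩
      · exact ⟨1, orderOf_one⟩
      · have := Fact.mk hp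
        exact exists_prime_orderOf_dvd_card' n hd
    have hle := Cfsg.Agent.S4068.ord_card (G := G)
    rw [h3, Set.ncard_eq_toFinset_card _ (Set.toFinite _)] at hle
    have h1 : 1 ∉ (Nat.card G).primeFactors :=
      fun h => Nat.not_prime_one (Nat.prime_of_mem_primeFactors h)
    have hc1 := Finset.card_le_card hsub
    rw [Finset.card_insert_of_notMem h1] at hc1
    have heq := Finset.eq_of_subset_of_card_le hsub (by rw [Finset.card_insert_of_notMem h1]; omega)
    have hsame : ∀ {x y : G}, orderOf x = orderOf y → ∃ σ : MulAut G, σ x = y := fun e =>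
      same (by rw [h3, Set.ncard_eq_toFinset_card _ (Set.toFinite _)]; omega) e
    have hs := CChar.CharBurn.isSolvable_of_card_primeFactors_le (G := G) (by omega)
    have : Nontrivial G := Finite.one_lt_card_iff_nontrivial.1 (by
      have := Nat.card_pos (α := G); omega)
    obtain ⟨A, hAc, hA1, hAa⟩ := exists_ab hs
    obtain ⟨p, hp, hpd⟩ := Nat.exists_prime_and_dvd (card_eq_one.not.2 hA1)
    have := Fact.mk hp
    obtain ⟨⟨y, hyA⟩, hy⟩ := exists_prime_orderOf_dvd_card' p hpd
    rw [orderOf_mk] at hy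
    have hpm : p ∈ (Nat.card G).primeFactors :=
      Nat.mem_primeFactors.2 ⟨hp, hpd.trans (card_subgroup_dvd_card A), Nat.card_pos.ne'⟩
    obtain ⟨q, hqp, hpq⟩ : ∃ q, q ≠ p ∧ (Nat.card G).primeFactors = {p, q} := by
      obtain ⟨a, b, hab, e⟩ := Finset.card_eq_two.1 (show (Nat.card G).primeFactors.card = 2 by omega)
      rw [e] at hpm ⊢
      rcases Finset.mem_insert.1 hpm with rfl | h
      · exact ⟨b, hab.symm, rfl⟩
      · rw [Finset.mem_singleton.1 h]; exact ⟨a, hab, Finset.pair_comm _ _⟩
    have hqm : q ∈ (Nat.card G).primeFactors := by rw [hpq]; simp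
    have hq := Nat.prime_of_mem_primeFactors hqm
    have := Fact.mk hq
    have hord : ∀ g : G, orderOf g = 1 ∨ orderOf g = p ∨ orderOf g = q := by
      intro g
      have : orderOf g ∈ (insert 1 (Nat.card G).primeFactors : Finset ℕ) := by
        rw [heq]; simp
      simpa [hpq] using this
    have hA : ∀ g : G, orderOf g = p → g ∈ A := by
      intro g hg
      obtain ⟨σ, rfl⟩ := hsame (hy.trans hg.symm)
      exact characteristic_iff_le_comap.1 hAc σ hyA
    have hno : ∀ x y : G, orderOf x = q → orderOf y = p → x * y * x⁻¹ ≠ y := by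
      intro x y hx hy e
      rw [mul_inv_eq_iff_eq_mul] at e
      have := Commute.orderOf_mul_eq_mul_orderOf_of_coprime (show Commute x y from e)
        (by rw [hx, hy]; exact (Nat.coprime_primes hq hp).2 hqp)
      rw [hx, hy] at this
      have a1 := hp.two_le
      have a2 := hq.two_le
      rcases hord (x * y) with h | h | h <;> rw [h] at this <;> nlinarith
    have hqA : ∀ g : G, orderOf g = q → g ∉ A := fun g hg hgA =>
      hno g y hg hy (by rw [mul_inv_eq_iff_eq_mul]; exact setLike_mul_comm hgA hyA)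
    have hAp : ∀ g ∈ A, g ^ p = 1 := by
      intro g hg
      rcases hord g with h | h | h
      · rw [orderOf_eq_one_iff.1 h, one_pow]
      · rw [← h, pow_orderOf_eq_one]
      · exact absurd hg (hqA g h)
    have hAo : ∀ g ∈ A, g ≠ 1 → orderOf g = p := fun g hg h1 => orderOf_eq_prime (hAp g hg) h1
    have hPA : IsPGroup p A := fun g => ⟨1, Subtype.ext (by simpa using hAp g g.2)⟩
    have hP : ∀ P : Sylow p G, (P : Subgroup G) = A := by
      intro P
      refine (P.is_maximal' hPA fun g hg => ?_).symm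
      rcases hord g with h | h | h
      · rw [orderOf_eq_one_iff.1 h]; exact one_mem _
      · exact hA g h
      · obtain ⟨k, hk⟩ := P.isPGroup' ⟨g, hg⟩
        have := orderOf_dvd_of_pow_eq_one (congrArg Subtype.val hk : g ^ p ^ k = 1)
        rw [h] at this
        exact absurd ((Nat.prime_dvd_prime_iff_eq hq hp).1 (hq.dvd_of_dvd_pow this)) hqp
    obtain ⟨n, hn⟩ := hPA.exists_card_eq
    obtain ⟨P⟩ : Nonempty (Sylow p G) := inferInstance
    have hi : A.index = q := by
      have e := Nat.eq_prime_pow_of_unique_prime_dvd (n := A.index) (p := q)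
        index_ne_zero_of_finite (fun {d} hd hdi => by
          have : d ∈ (Nat.card G).primeFactors :=
            Nat.mem_primeFactors.2 ⟨hd, hdi.trans (index_dvd_card A), Nat.card_pos.ne'⟩
          rw [hpq] at this
          rcases Finset.mem_insert.1 this with rfl | h
          · exact absurd (hP P ▸ hdi) P.not_dvd_index
          · exact Finset.mem_singleton.1 h)
      generalize A.index.primeFactorsList.length = m at e
      obtain rfl | rfl | hm : m = 0 ∨ m = 1 ∨ 2 ≤ m := by omega
      · exfalso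
        obtain ⟨x, hx⟩ := exists_prime_orderOf_dvd_card' q (Nat.dvd_of_mem_primeFactors hqm)
        rw [pow_zero, index_eq_one] at e
        exact hqA x hx (e ▸ mem_top x)
      · rw [e, pow_one]
      · exfalso
        obtain ⟨B, hB⟩ := Sylow.exists_subgroup_card_pow_prime q (n := 2) (G := G)
          (((pow_dvd_pow q hm).trans e.symm.dvd).trans (index_dvd_card A))
        have hBq : ∀ b ∈ B, b ≠ 1 → orderOf b = q := by
          intro b hb hb1
          rcases hord b with h | h | h
          · exact absurd (orderOf_eq_one_iff.1 h) hb1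
          · have := orderOf_dvd_natCard B hb
            rw [h, hB] at this
            exact absurd ((Nat.prime_dvd_prime_iff_eq hp hq).1 (hp.dvd_of_dvd_pow this)) hqp.symm
          · exact h
        have hc := CA.BG.abelian_regular_cyclic (R := B)
          (IsPGroup.isMulCommutative_of_card_eq_prime_sq hB) hA1 (by simp [normalizer_eq_top])
          (fun b hb hb1 => by
            rw [eq_bot_iff]
            intro a ha
            by_contra ha1
            refine hno b a (hBq b hb hb1) (hAo a ha.1 ha1) ?_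
            rw [mul_inv_eq_iff_eq_mul]
            exact (mem_centralizer_singleton_iff.1 ha.2).symm)
        obtain ⟨b, hb⟩ := hc.exists_ofOrder_eq_natCard
        rw [hB, ← orderOf_coe] at hb
        have a2 := hq.two_le
        by_cases hb1 : (b : G) = 1
        · rw [hb1, orderOf_one] at hb; nlinarith
        · rw [hBq b b.2 hb1] at hb; nlinarith
    refine ⟨p, q, n, ‹_›, ‹_›, hqp.symm, ?_, by rw [← hn, ← hi, card_mul_index],
      fun P => by rw [hP P]; exact ⟨inferInstance, hAa, hAp⟩, ?_, hno⟩
    · by_contra h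
      obtain rfl : n = 0 := by omega
      exact hA1 (card_eq_one.1 (by simpa using hn))
    obtain ⟨x, hx⟩ := exists_prime_orderOf_dvd_card' q (Nat.dvd_of_mem_primeFactors hqm)
    obtain ⟨_⟩ : Nonempty (Module (ZMod p) (Additive A)) := ⟨AddCommGroup.zmodModule (fun a => by
      rw [← ofMul_toMul a, ← ofMul_pow]; exact congrArg _ (Subtype.ext (hAp _ a.toMul.2)))⟩
    have : Nontrivial A := (nontrivial_iff_ne_bot A).2 hA1
    have res : ∀ σ : MulAut G, ∃ T : Additive A ≃+ Additive A,
        (∀ a : A, ((T (Additive.ofMul a)).toMul : G) = σ a) ∧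
        ∀ k, (∀ a : A, MulAut.conjNormal (σ x) a = MulAut.conjNormal (x ^ k) a) →
          ∀ u, T (ρ (p := p) A x u) = (ρ (p := p) A x ^ k) (T u) := by
      intro σ
      let β : A ≃* A := (σ.subgroupMap A).trans
        (MulEquiv.subgroupCongr (characteristic_iff_map_eq.1 hAc σ))
      have hβ : ∀ a : A, (β a : G) = σ a := fun a => rfl
      refine ⟨MulEquiv.toAdditive β, hβ, fun k hk u => ?_⟩
      rw [← map_pow, ← ofMul_toMul u, ρ_apply]
      change Additive.ofMul (β _) = Additive.ofMul (MulAut.conjNormal (x ^ k) (β _))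
      rw [← hk]
      refine congrArg _ (Subtype.ext ?_)
      simp [hβ]
    refine prim (ρ (p := p) A x) hqp.symm (by rw [← map_pow, ← hx, pow_orderOf_eq_one, map_one])
      (fun e => hno x y hx hy ?_) (fun v w hv hw => ?_) (fun k hk => ?_)
    · have := LinearMap.congr_fun e (Additive.ofMul ⟨y, hyA⟩)
      exact congrArg Subtype.val (Additive.ofMul.injective this)
    · obtain ⟨σ, hσ⟩ := hsame ((hAo _ v.toMul.2 fun e => hv (Subtype.ext e)).trans
        (hAo _ w.toMul.2 fun e => hw (Subtype.ext e)).symm)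
      obtain ⟨T, t1, t2⟩ := res σ
      obtain ⟨k, -, hk⟩ := dec hq A hi (hqA x hx) (σ x)
      exact ⟨T, Subtype.ext ((t1 v.toMul).trans hσ), k, t2 k hk⟩
    · obtain ⟨σ, hσ⟩ := hsame (x := x) (y := x ^ k) (by
        rw [Nat.Coprime.orderOf_pow (by rw [hx]; exact (Nat.Prime.coprime_iff_not_dvd hq).2 hk)])
      obtain ⟨T, t1, t2⟩ := res σ
      exact ⟨T, t2 k fun a => by rw [hσ]⟩
  · rintro ⟨p, q, n, hp, hq, hpq, hn, hc, hP, hord, hno⟩
    obtain ⟨P⟩ : Nonempty (Sylow p G) := inferInstance
    obtain ⟨hPn, hAa, hAp⟩ := hP P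
    set A := (P : Subgroup G)
    have hcA : Nat.card A = p ^ n := by
      rw [P.card_eq_multiplicity, hc, Nat.factorization_mul_of_coprime ((cop hpq).pow_left n)]
      simp [hp.out.factorization_pow, Nat.factorization_eq_zero_of_not_dvd
        ((Nat.Prime.coprime_iff_not_dvd hp.out).1 (cop hpq))]
    have hi : A.index = q := by
      have := A.card_mul_index
      rw [hc, hcA] at this
      exact Nat.eq_of_mul_eq_mul_left (pow_pos hp.out.pos n) this
    obtain ⟨x, hx⟩ := exists_prime_orderOf_dvd_card' (G := G) q (hc ▸ dvd_mul_left _ _)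
    obtain ⟨⟨y, hyA⟩, hy⟩ := exists_prime_orderOf_dvd_card' (G := A) p
      (hcA ▸ dvd_pow_self _ (by omega))
    rw [orderOf_mk] at hy
    have hAo : ∀ g ∈ A, g ≠ 1 → orderOf g = p := fun g hg h1 => orderOf_eq_prime (hAp g hg) h1
    have hqA : ∀ g : G, orderOf g = q → g ∉ A := fun g hg hgA =>
      hno g y hg hy (by rw [mul_inv_eq_iff_eq_mul]; exact setLike_mul_comm hgA hyA)
    have hout : ∀ g : G, g ∉ A → orderOf g = q := by
      intro g hg
      have h1 : g ^ q ∈ A := hi ▸ pow_index_mem A g
      have hgp : g ^ p ∉ A := fun h => hpq ((Nat.prime_dvd_prime_iff_eq hq.out hp.out).1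
        (CA.PGBasic.dvd_of_pow_mem hq.out hg h1 h)).symm
      refine orderOf_eq_prime ?_ (fun e => hg (e ▸ one_mem _))
      by_contra h
      refine hno (g ^ p) (g ^ q) (orderOf_eq_prime ?_ fun e => hgp (e ▸ one_mem _)) (hAo _ h1 h)
        (by group)
      rw [← pow_mul, mul_comm, pow_mul, hAp _ h1]
    obtain ⟨_⟩ : Nonempty (Module (ZMod p) (Additive A)) := ⟨AddCommGroup.zmodModule (fun a => by
      rw [← ofMul_toMul a, ← ofMul_pow]; exact congrArg _ (Subtype.ext (hAp _ a.toMul.2)))⟩
    have hy1 : y ≠ 1 := fun e => hp.out.one_lt.ne (by rw [← hy, e, orderOf_one])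
    have : Nontrivial A := ⟨⟨⟨y, hyA⟩, 1, fun e => hy1 (congrArg Subtype.val e)⟩⟩
    obtain ⟨a1, T, hT⟩ := auts (ρ (p := p) A x) hpq
      (by rw [← map_pow, ← hx, pow_orderOf_eq_one, map_one]) (fun v hv => by
        by_contra h
        exact hno x v.toMul hx (hAo _ v.toMul.2 fun e => h (Subtype.ext e))
          (congrArg Subtype.val (Additive.ofMul.injective hv))) hord
    have hT' : ∀ (i : ℕ), ∃ T : Additive A ≃+ Additive A,
        ∀ u, T (ρ (p := p) A x u) = (ρ (p := p) A x ^ p ^ i) (T u) := by
      intro i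
      induction i with
      | zero => exact ⟨AddEquiv.refl _, by simp⟩
      | succ i ih =>
        obtain ⟨T', hT'⟩ := ih
        refine ⟨T'.trans T, fun u => ?_⟩
        have := aeval_conj _ T _ hT (X ^ p ^ i) (T' u)
        simp only [map_pow, aeval_X] at this
        rw [AddEquiv.trans_apply, hT', this, ← pow_mul, ← pow_succ', AddEquiv.trans_apply]
    have key : ∀ (T : Additive A ≃+ Additive A) (g : G), g ∉ A →
        (∀ u, T (ρ (p := p) A x u) = ρ (p := p) A g (T u)) →
        ∃ σ : MulAut G, (∀ a : A, σ a = (T (Additive.ofMul a)).toMul) ∧ σ x = g := by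
      intro T g hg h
      exact ext_aut hq.out hi hx (hqA x hx) (hout g hg) hg (MulEquiv.toAdditive.symm T)
        fun a => h (Additive.ofMul a)
    have hne : ∀ a b : G, orderOf a ≠ orderOf b →
        (Quotient.mk _ a : MulAction.orbitRel.Quotient (MulAut G) G) ≠ Quotient.mk _ b := by
      intro a b h e
      obtain ⟨σ, rfl⟩ := MulAction.orbitRel_apply.1 (Quotient.exact e)
      exact h (MulEquiv.orderOf_eq σ b)
    rw [← Set.ncard_univ, Set.ncard_eq_three]
    refine ⟨Quotient.mk _ 1, Quotient.mk _ y, Quotient.mk _ x,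
      hne _ _ (by rw [orderOf_one, hy]; exact hp.out.one_lt.ne),
      hne _ _ (by rw [orderOf_one, hx]; exact hq.out.one_lt.ne),
      hne _ _ (by rw [hx, hy]; exact hpq), ?_⟩
    refine Set.eq_of_subset_of_subset (fun c _ => ?_) (Set.subset_univ _)
    induction c using Quotient.inductionOn with
    | h g =>
    by_cases hg1 : g = 1
    · exact Or.inl (by rw [hg1])
    by_cases hgA : g ∈ A
    · obtain ⟨T, t1, t2⟩ := a1 (Additive.ofMul ⟨y, hyA⟩) (Additive.ofMul ⟨g, hgA⟩)
        (fun e => hy1 (congrArg Subtype.val (Additive.ofMul.injective e)))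
        (fun e => hg1 (congrArg Subtype.val (Additive.ofMul.injective e)))
      obtain ⟨σ, s1, -⟩ := key T x (hqA x hx) t2
      refine Or.inr (Or.inl (Quotient.sound (MulAction.orbitRel_apply.2 ⟨σ, ?_⟩)))
      have := s1 ⟨y, hyA⟩
      rw [t1] at this
      exact this
    · obtain ⟨k, hk1, hk⟩ := dec hq.out A hi (hqA x hx) g
      have hk0 : (k : ZMod q) ≠ 0 := by
        rw [Ne, ZMod.natCast_eq_zero_iff]
        rintro ⟨m, rfl⟩
        rw [pow_mul, ← hx, pow_orderOf_eq_one, one_pow, inv_one, mul_one] at hk1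
        exact hgA hk1
      obtain ⟨i, hi'⟩ : ∃ i : ℕ, (p : ZMod q) ^ i = k := by
        have hu : orderOf (ZMod.unitOfCoprime _ ((cop hpq).pow_left 1)) = Nat.card (ZMod q)ˣ := by
          rw [ord_unit hpq, hord, Nat.card_units, Nat.card_zmod]
        have ht : zpowers (ZMod.unitOfCoprime _ ((cop hpq).pow_left 1)) = ⊤ :=
          eq_top_of_card_eq _ (by rw [Nat.card_zpowers, hu])
        obtain ⟨i, hi⟩ := mem_powers_iff_mem_zpowers.2 (ht ▸ mem_top (Units.mk0 _ hk0))
        exact ⟨i, by simpa using congrArg Units.val hi⟩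
      have hxk : x ^ p ^ i = x ^ k := by
        rw [pow_eq_pow_iff_modEq, hx, ← ZMod.natCast_eq_natCast_iff, Nat.cast_pow, hi']
      obtain ⟨T, hT⟩ := hT' i
      obtain ⟨σ, -, s2⟩ := key T g hgA fun u => by
        rw [hT, ← map_pow, hxk, ← ofMul_toMul (T u), ρ_apply, ρ_apply, hk]
      exact Or.inr (Or.inr (Quotient.sound (MulAction.orbitRel_apply.2 ⟨σ, s2⟩)))

end Cfsg.Agent.S4081
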