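import Cfsg.Statements.S4113
import Cfsg.Agent.Lib.Grp.H7Cam

set_option autoImplicit false
open Cfsg

namespace Cfsg.Agent.S4113

open CA.H7Cam CA.BG CA.Frob2 Subgroup

/-- Let G be a finite group, M ≤ N non-trivial proper normal subgroups, and H a subgroup with HM = G and H ∩ M = 1. Then every element of G outside N acts fixed-point-freely on M (C_G(x) ≤ N for every x ∈ M, x ≠ 1) if and only if H ∩ gHg⁻¹ ≤ H ∩ N for every g outside H, with H proper and non-trivial and H ∩ N proper in H. -/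
theorem result {G : Type*} [Group G] [Finite G] (N M : Subgroup G) [N.Normal] [M.Normal] (hMN : M ≤ N) (hM1 : M ≠ ⊥) (hN2 : N ≠ ⊤)
    (H : Subgroup G) (hHM : H ⊔ M = ⊤) (hHM' : H ⊓ M = ⊥) :
    (∀ x ∈ M, x ≠ 1 → Subgroup.centralizer ({x} : Set G) ≤ N) ↔
      (H ≠ ⊥ ∧ H ≠ ⊤ ∧ H ⊓ N < H ∧ ∀ g : G, g ∉ H → H ⊓ H.map (MulAut.conj g).toMonoidHom ≤ N) := by
  have dec : ∀ g : G, ∃ m ∈ M, ∃ h ∈ H, m * h = g := fun g =>
    (mem_sup_norm' (top_le_norm M H)).1 (by rw [sup_comm, hHM]; trivial)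
  have hd : ∀ x ∈ H, x ∈ M → x = 1 := fun x h1 h2 => mem_bot.1 (hHM' ▸ (⟨h1, h2⟩ : x ∈ H ⊓ M))
  constructor
  · intro h
    refine ⟨?_, ?_, lt_of_le_of_ne inf_le_left fun e => hN2 ?_, fun g hg y hy => ?_⟩
    · rintro rfl
      exact hN2 (eq_top_iff.2 (by rw [← hHM]; simpa using hMN))
    · rintro rfl
      exact hM1 (by simpa using hHM')
    · exact eq_top_iff.2 (hHM ▸ sup_le (inf_eq_left.1 e) hMN)
    · obtain ⟨m, hm, k, hk, rfl⟩ := dec g
      have h1 : m⁻¹ * y * m ∈ H := by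
        have := mem_cj.1 hy.2
        simpa [mul_assoc] using mul_mem (mul_mem hk this) (inv_mem hk)
      have h2 := hd _ (mul_mem (inv_mem hy.1) h1) (by
        simpa [mul_assoc] using mul_mem (Normal.conj_mem' inferInstance _ (inv_mem hm) y) hm)
      refine h m hm (fun e => hg (by rw [e, one_mul]; exact hk)) (mem_cent1.2 ?_)
      calc y * m = m * y * (y⁻¹ * (m⁻¹ * y * m)) := by group
        _ = m * y := by rw [h2, mul_one]
  · rintro ⟨-, -, -, h⟩ x hx hx1 g hg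
    by_contra hgN
    obtain ⟨m, hm, k, hk, rfl⟩ := dec g
    have hkN : k ∉ N := fun e => hgN (mul_mem (hMN hm) e)
    have hc : ∀ y ∈ M, k * y = y * k → y = 1 := fun y hy e => by_contra fun hy1 =>
      hkN (h y (fun e => hy1 (hd y e hy)) ⟨hk, mem_cj.2 (by rw [mul_assoc, e]; simpa using hk)⟩)
    obtain ⟨y, hy, e⟩ := exists_conj_eq_mul (top_le_norm M ⊤ (mem_top k))
      (inf_centralizer_eq_bot_iff.2 hc) hm
    have h1 := mem_cent1.1 hg
    rw [← e] at h1
    have h2 := hc (y⁻¹ * x * y) (Normal.conj_mem' inferInstance _ hx y) (by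
      calc k * (y⁻¹ * x * y) = y⁻¹ * (y * k * y⁻¹ * x) * y := by group
        _ = _ := by rw [h1]; group)
    exact hx1 (by simpa [mul_assoc, inv_mul_eq_one, eq_comm] using h2)

end Cfsg.Agent.S4113
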