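import Cfsg.Statements.S4133
import Cfsg.Agent.Lib.Solv.CS2

set_option autoImplicit false
open Cfsg

namespace Cfsg.Agent.S4133

open Subgroup CA.SylIn CA.PRes CA.H6Stab
open scoped commutatorElement

/-- Let G be a finite group all of whose Sylow subgroups are abelian, and let 2^a be the largest power of 2 dividing the size of any conjugacy class of G. If some element has a conjugacy class of size exactly 2^a, then G is solvable. -/
theorem result {G : Type*} [Group G] [Finite G]
    (hA : ∀ (p : ℕ) [Fact p.Prime] (P : Sylow p G), IsMulCommutative (P : Subgroup G))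
    (a : ℕ) (hmax : ∀ y : G, ¬ 2 ^ (a + 1) ∣ (Subgroup.centralizer ({y} : Set G)).index) (hx : ∃ x : G, (Subgroup.centralizer ({x} : Set G)).index = 2 ^ a) :
    Group.IsSolvable G := by
  obtain ⟨x, hx⟩ := hx
  have hab : ∀ (p : ℕ) [Fact p.Prime], AbSyl p (⊤ : Subgroup G) := fun p _ =>
    abSyl_top_of_sylow (default : Sylow p G) (hA p _)
  set C := centralizer ({x} : Set G) with hC
  have h1 := CA.CS2.solv_quot_core (hab 2) hx
  by_contra hns
  have hK : ¬ Group.IsSolvable C.normalCore := fun h => hns (CA.H4Cls.solv_ext _ h h1)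
  obtain ⟨L, ⟨hLn, hLC, hL⟩, hmin⟩ := (wellFounded_lt (α := Subgroup G)).has_min
    {L | L.Normal ∧ L ≤ C ∧ ¬ Group.IsSolvable L} ⟨_, inferInstance, normalCore_le C, hK⟩
  have hcm : (_root_.commutator L).map L.subtype = ⁅L, L⁆ := map_subtype_commutator L
  have hperf : _root_.commutator L = ⊤ := by
    by_contra h0
    refine hmin ⁅L, L⁆ ⟨inferInstance, (commutator_le_left L L).trans hLC, fun h => hL ?_⟩ ?_
    · refine CA.H4Cls.solv_ext (_root_.commutator L) ?_ (CA.Core.isSolvable_of_isMulCommutative ?_)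
      · rw [← hcm] at h
        exact CA.Core.isSolvable_of_equiv
          (equivMapOfInjective _ _ L.subtype_injective).symm h
      · exact Subgroup.Normal.quotient_commutative_iff_commutator_le.2 le_rfl
    · refine lt_of_le_of_ne (commutator_le_left L L) fun h => h0 ?_
      refine map_injective L.subtype_injective ?_
      rw [hcm, h, ← MonoidHom.range_eq_map, range_subtype]
  have hZ : ∀ z : L, z ∈ center L → z = 1 := by
    intro z hz
    by_contra hz1
    obtain ⟨r, hr, hd⟩ := Nat.exists_prime_and_dvd (mt orderOf_eq_one_iff.1 hz1)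
    haveI := Fact.mk hr
    have ho := orderOf_pow_orderOf_div (orderOf_pos z).ne' hd
    obtain ⟨R, hR⟩ := (CA.CS1.isPGroup_zpowers (p := r) (k := 1) (x := z ^ (orderOf z / r))
      (by rw [pow_one]; exact orderOf_dvd_iff_pow_eq_one.1 ho.dvd)).exists_le_sylow
    have := CA.NPC2.eq_one_of_mem_commutator_of_center
      (abSyl_top_iff.2 ((hab r).mono le_top) R le_top R.2) R.card_coprime_index
      (hR (mem_zpowers _)) (hperf ▸ mem_top _) (pow_mem hz _)
    rw [this, orderOf_one] at ho
    exact hr.one_lt.ne ho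
  obtain ⟨y, hy⟩ : ∃ y : L, 2 ∣ (centralizer ({y} : Set L)).index := by
    by_contra h0
    push Not at h0
    exact hL (CA.H4Cls.solv_of_normal_syl default (CA.CS1.split (fun y _ => h0 y) default).1)
  have hcen : centralizer ({x * y} : Set G) = C ⊓ centralizer ({(y : G)} : Set G) := by
    refine le_antisymm (fun g hg => ?_) fun g hg => ?_
    · rw [mem_centralizer_singleton_iff] at hg
      have e : x⁻¹ * (g * x * g⁻¹) = y * (g * y * g⁻¹)⁻¹ := by
        calc x⁻¹ * (g * x * g⁻¹) = x⁻¹ * (g * (x * y)) * g⁻¹ * (g * y * g⁻¹)⁻¹ := by group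
          _ = _ := by rw [hg]; group
      have hm : y * (g * y * g⁻¹)⁻¹ ∈ L := mul_mem y.2 (inv_mem (hLn.conj_mem _ y.2 g))
      have h2 : (⟨_, hm⟩ : L) = 1 := by
        refine hZ _ (mem_center_iff.2 fun w => Subtype.ext ?_)
        show (w : G) * (y * (g * y * g⁻¹)⁻¹) = y * (g * y * g⁻¹)⁻¹ * w
        rw [← e]
        have c1 : Commute (w : G) x := mem_centralizer_singleton_iff.1 (hLC w.2)
        have c2 : Commute (g⁻¹ * w * g⁻¹⁻¹) x :=
          mem_centralizer_singleton_iff.1 (hLC (hLn.conj_mem _ w.2 g⁻¹))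
        have c3 : Commute (w : G) (g * x * g⁻¹) := by
          calc (w : G) * (g * x * g⁻¹) = g * (g⁻¹ * w * g⁻¹⁻¹ * x) * g⁻¹ := by group
            _ = _ := by rw [c2.eq]; group
        exact (c1.inv_right.mul_right c3).eq
      have h3 : (y : G) * (g * y * g⁻¹)⁻¹ = 1 := congrArg Subtype.val h2
      rw [h3] at e
      refine mem_inf.2 ⟨mem_centralizer_singleton_iff.2 ?_, mem_centralizer_singleton_iff.2 ?_⟩
      · calc g * x = x * (x⁻¹ * (g * x * g⁻¹)) * g := by group
          _ = _ := by rw [e]; group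
      · calc g * y = ((y : G) * (g * y * g⁻¹)⁻¹)⁻¹ * y * g := by group
          _ = _ := by rw [h3]; group
    · rw [mem_centralizer_singleton_iff]
      have h1 := mem_centralizer_singleton_iff.1 hg.1
      have h2 := mem_centralizer_singleton_iff.1 hg.2
      rw [← mul_assoc, h1, mul_assoc, h2, mul_assoc]
  refine hmax (x * y) ?_
  rw [hcen, ← relIndex_mul_index (inf_le_left (a := C)), inf_relIndex_left, hx, pow_succ']
  refine Nat.mul_dvd_mul_right (hy.trans ?_) _
  rw [CA.CS1.index_centralizer_coe, ← relIndex_subgroupOf hLC]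
  exact CA.CS2.relIndex_dvd_of_normal _ _

end Cfsg.Agent.S4133
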