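import Cfsg.Statements.S4159
import Cfsg.Agent.Lib.Grp.H4Cls
import Cfsg.Agent.S3861

set_option autoImplicit false
open Cfsg

namespace Cfsg.Agent.S4159

open Subgroup CA.BG CA.H4Cls

/-- Let G be a finite group such that in every subgroup H of G, any two conjugacy classes of H of size greater than 1 have non-coprime sizes. Then G is solvable. -/
theorem result {G : Type*} [Group G] [Finite G]
    (h : ∀ (H : Subgroup G) (x y : H), 1 < (Subgroup.centralizer ({x} : Set H)).index → 1 < (Subgroup.centralizer ({y} : Set H)).index →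
      ¬ ((Subgroup.centralizer ({x} : Set H)).index).Coprime (Subgroup.centralizer ({y} : Set H)).index) : Group.IsSolvable G := by
  obtain ⟨S⟩ : Nonempty (Sylow 2 G) := inferInstance
  refine solv_of_normal_syl S ((Cfsg.Agent.S3861.result S).1 fun y h1 ho hr => ?_)
  obtain ⟨t, ht⟩ := isConj_iff.1 hr
  have hne : y ≠ y⁻¹ := fun e => h1 (by
    have h2 : y ^ 2 = 1 := by rw [pow_two]; exact mul_eq_one_iff_eq_inv.2 e
    have := (Nat.coprime_two_right.2 ho).eq_one_of_dvd (orderOf_dvd_of_pow_eq_one h2)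
    exact orderOf_eq_one_iff.1 this)
  have hn : zpowers t ≤ 𝓝(zpowers y) := by
    rw [zpowers_le, mem_norm_iff_cj, cj_zpowers, ht, zpowers_inv]
  have hy : y ∈ zpowers t ⊔ zpowers y := (le_sup_right : zpowers y ≤ _) (mem_zpowers y)
  have ht' : t ∈ zpowers t ⊔ zpowers y := (le_sup_left : zpowers t ≤ _) (mem_zpowers t)
  have e : ∀ (H : Subgroup G) (x : G) (hx : x ∈ H),
      (centralizer ({⟨x, hx⟩} : Set H)).index = 𝓒₁(x).relIndex H := by
    intro H x hx
    rw [relIndex]; congr 1; ext y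
    simp [mem_subgroupOf, mem_centralizer_singleton_iff, Subtype.ext_iff]
  have hnc : t ∉ 𝓒₁(y) := fun e => hne (by rw [← ht, mem_cent1.1 e, mul_inv_cancel_right])
  have h2 : 𝓒₁(y).relIndex (zpowers t ⊔ zpowers y) = 2 := by
    refine relIndex_eq_two_iff.2 ⟨t, ht', fun b hb => ?_⟩
    have h3 : b * y * b⁻¹ = y ∨ b * y * b⁻¹ = y⁻¹ := by
      obtain ⟨_, ⟨i, rfl⟩, _, ⟨j, rfl⟩, rfl⟩ := (mem_sup_norm hn).1 hb
      have : t ^ i * y ^ j * y * (t ^ i * y ^ j)⁻¹ = t ^ i * y * (t ^ i)⁻¹ := by group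
      simp only [this]
      have hti : t⁻¹ * y * t = y⁻¹ := by
        rw [← inv_inj, inv_inv]
        calc (t⁻¹ * y * t)⁻¹ = t⁻¹ * y⁻¹ * t := by group
          _ = y := by rw [← ht]; group
      induction i using Int.induction_on with
      | zero => simp
      | succ i ih =>
        have : t ^ ((i : ℤ) + 1) * y * (t ^ ((i : ℤ) + 1))⁻¹ = (t ^ (i : ℤ) * y * (t ^ (i : ℤ))⁻¹)⁻¹ := by
          calc _ = t ^ (i : ℤ) * (t * y * t⁻¹) * (t ^ (i : ℤ))⁻¹ := by group
            _ = _ := by rw [ht]; group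
        rw [this]
        rcases ih ((mem_sup_norm hn).2 ⟨_, ⟨i, rfl⟩, _, ⟨j, rfl⟩, rfl⟩) (by group) with e | e <;>
          rw [e] <;> simp
      | pred i ih =>
        have : t ^ (-(i : ℤ) - 1) * y * (t ^ (-(i : ℤ) - 1))⁻¹ =
            (t ^ (-(i : ℤ)) * y * (t ^ (-(i : ℤ)))⁻¹)⁻¹ := by
          calc _ = t ^ (-(i : ℤ)) * (t⁻¹ * y * t) * (t ^ (-(i : ℤ)))⁻¹ := by group
            _ = _ := by rw [hti]; group
        rw [this]
        rcases ih ((mem_sup_norm hn).2 ⟨_, ⟨-i, rfl⟩, _, ⟨j, rfl⟩, rfl⟩) (by group) with e | e <;>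
          rw [e] <;> simp
    have h4 : b * t * y * (b * t)⁻¹ = (b * y * b⁻¹)⁻¹ := by
      calc _ = b * (t * y * t⁻¹) * b⁻¹ := by group
        _ = _ := by rw [ht]; group
    simp only [mem_cent1, ← mul_inv_eq_iff_eq_mul]
    rw [h4]
    rcases h3 with e | e
    · exact Or.inr ⟨e, by rw [e]; exact hne.symm⟩
    · exact Or.inl ⟨by rw [e, inv_inv], by rw [e]; exact hne.symm⟩
  have h5 : 𝓒₁(t).relIndex (zpowers t ⊔ zpowers y) ∣ orderOf y := by
    refine (relIndex_anti (H := zpowers t) (zpowers_le.2 (mem_cent1_self t)) _).trans ?_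
    have a := card_sup_mul_inf hn
    have b := card_mul_relIndex (le_sup_left : zpowers t ≤ zpowers t ⊔ zpowers y)
    rw [← b, mul_assoc, Nat.card_zpowers y] at a
    exact Dvd.intro _ (Nat.eq_of_mul_eq_mul_left (card_pos' _) a)
  refine h _ ⟨y, hy⟩ ⟨t, ht'⟩ ?_ ?_ ?_
  · rw [e, h2]; norm_num
  · rw [e]
    refine lt_of_le_of_ne (Nat.pos_of_ne_zero (relIndex_ne_zero' _ _)) fun e => hnc ?_
    exact mem_cent1_symm.1 (relIndex_eq_one.1 e.symm hy)
  · rw [e, e, h2]
    exact Nat.coprime_two_left.2 (ho.of_dvd_nat h5)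

end Cfsg.Agent.S4159
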