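import Cfsg.Statements.S4172
import Cfsg.Agent.Lib.Loc.AmbChar
import Cfsg.Agent.Lib.Loc.AmbT2
import Cfsg.Agent.Lib.Loc.AmbRed
-- import your own Cfsg.Agent.* helpers here

set_option autoImplicit false
open Cfsg

namespace Cfsg.Agent.S4172

/-- Let p be a prime and G a finite group with a non-commutative Sylow p-subgroup P whose Frattini subgroup has index p² in P (P is generated by two elements). Suppose G has no nontrivial normal subgroup of order prime to p and the Frattini subgroup of P contains no nontrivial normal subgroup of G. Then the generalized Fitting subgroup F*(G) is the unique minimal normal subgroup of G, the image of P in G/F*(G) is cyclic, and if F*(G) is not commutative then P permutes the components of G transitively by conjugation. -/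
theorem result {G : Type*} [Group G] [Finite G] (p : ℕ) [Fact p.Prime] (P : Sylow p G) (hna : ¬ IsMulCommutative (P : Subgroup G)) (hgen : (frattini ↥(P : Subgroup G)).index = p ^ 2) (hcore : Cfsg.pPrimeCore p G = ⊥) (hfrat : ((frattini ↥(P : Subgroup G)).map (P : Subgroup G).subtype).normalCore = ⊥) [hFn : (Cfsg.generalizedFittingSubgroup G).Normal] :
    (Cfsg.generalizedFittingSubgroup G ≠ ⊥ ∧ ∀ K : Subgroup G, K.Normal → K ≠ ⊥ → Cfsg.generalizedFittingSubgroup G ≤ K) ∧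
      IsCyclic ↥((P : Subgroup G).map (QuotientGroup.mk' (Cfsg.generalizedFittingSubgroup G))) ∧
      (¬ IsMulCommutative (Cfsg.generalizedFittingSubgroup G) → ∀ K L : Subgroup G, Cfsg.IsComponent K → Cfsg.IsComponent L → ∃ x ∈ (P : Subgroup G), L = K.map (MulAut.conj x).toMonoidHom) := by
  open Subgroup Cfsg CA CA.Amb CA.AmbSyl CA.AmbCore CA.AmbRes CA.AmbChar CA.AmbFs CA.AmbSpe CA.AmbIso CA.LBal2 CA.AmbT2 in
  open scoped commutatorElement in
  (
  have hS := sylIn_top P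
  replace hgen : (Phi (P : Subgroup G)).relIndex P = p ^ 2 := by
    rw [← hgen, relIndex, Phi, ← comap_subtype, comap_map_eq_self_of_injective (subtype_injective _)]
  generalize (P : Subgroup G) = P at *
  have hO : OQ p (⊤ : Subgroup G) = ⊥ := OQ_top.trans hcore
  have na : ¬ P ≤ 𝐂 P := fun h => hna (le_centralizer_iff_isMulCommutative.1 h)
  have c0 : ∀ N : Subgroup G, ⊤ ≤ 𝐍 N → N ≤ Phi P → N = ⊥ := fun N n h => by
    haveI := normal_iff_top_le.2 n
    exact le_bot_iff.1 (hfrat ▸ normal_le_normalCore.2 h)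
  have g0 : ∀ N : Subgroup G, SN ⊤ N → P ≤ 𝐍 N → ¬ P ⊓ N ≤ Phi P →
      ∃ x ∈ P, (P ⊓ N) ⊔ zpowers x = P := fun N _ _ h => exists_gen hS.pg hgen.le inf_le_left h
  have T : ∀ N : Subgroup G, ⊤ ≤ 𝐍 N → N ≠ ⊥ → ¬ P ⊓ N ≤ Phi P := fun N n h l => by
    have s := hS.inf_norm le_top n
    have := npc_iff.1 (tate hS.pg (le_top.trans n) s l)
    have := res_eq_bot_iff.1 (le_bot_iff.1 (hO ▸ le_OQ le_top (norm_res_of_norm n)
      ((Nat.Prime.coprime_iff_not_dvd Fact.out).2 this).symm))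
    exact h (c0 N n (s.eq_of_isPGroup this ▸ l))
  have g : ∀ N : Subgroup G, ⊤ ≤ 𝐍 N → N ≠ ⊥ → ∃ x ∈ P, (P ⊓ N) ⊔ zpowers x = P :=
    fun N n h => g0 N (SN.of_norm le_top n) (le_top.trans n) (T N n h)
  have d0 : ∀ N : Subgroup G, P ≤ 𝐍 N → (∃ x ∈ P, (P ⊓ N) ⊔ zpowers x = P) →
      ⁅P, P⁆ ≤ N := fun N n ⟨x, _, e⟩ =>
    (der_le_of_sup (norm_inf le_normalizer n) e).trans inf_le_right
  have d : ∀ N : Subgroup G, ⊤ ≤ 𝐍 N → N ≠ ⊥ → ⁅P, P⁆ ≤ N :=
    fun N n h => d0 N (le_top.trans n) (g N n h)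
  have d1 : ⁅P, P⁆ ≠ ⊥ := fun h => na (commutator_eq_bot_iff'.1 h)
  have i : ∀ N M : Subgroup G, ⊤ ≤ 𝐍 N → N ≠ ⊥ → ⊤ ≤ 𝐍 M → M ≠ ⊥ → N ⊓ M ≠ ⊥ := fun N M n h m k e =>
    d1 (le_bot_iff.1 (e ▸ le_inf (d N n h) (d M m k)))
  have dP := PGFrattini.commutator_le_map_frattini hS.pg
  have nE : ⊤ ≤ 𝐍 (EL (⊤ : Subgroup G)) := norm_EL le_normalizer
  have F0 : EL (⊤ : Subgroup G) ≠ ⊥ → FL (⊤ : Subgroup G) = ⊥ := fun hE => by
    by_contra h
    refine T _ (norm_inf nE (norm_centralizer nE)) (i _ _ nE hE (norm_centralizer nE) fun e =>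
      h (le_bot_iff.1 (e ▸ cent_symm (EL_le_cent_FL ⊤)))) fun x hx => dP (commutator_mono inf_le_left inf_le_left
        (mem_der_of_cent (hS.inf_norm le_top nE) ⟨hx.1, hx.2.1⟩ ((EL_perfect ⊤).ge hx.2.1) hx.2.2))
  have z : FL (⊤ : Subgroup G) = ⊥ → ∀ N : Subgroup G, SN ⊤ N → N ⊓ 𝐂 N = ⊥ := fun h N s => by
    refine le_bot_iff.1 (h ▸ AmbFs.SN.le_FL (s.trans (SN.of_norm inf_le_left
      (norm_inf le_normalizer (norm_centralizer le_normalizer)))) (Fitting.isNilpotent_of_commutator_commutator_eq_bot ?_))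
    rw [comm_eq_bot_of_le (inf_le_right.trans (centralizer_anti inf_le_left)), commutator_bot_left]
  have F1 : FS (⊤ : Subgroup G) ≠ ⊥ := fun h => by
    have := (inf_cent_FS_le (⊤ : Subgroup G)).trans (FL_le_FS ⊤)
    rw [h, centralizer_bot, inf_idem] at this
    exact d1 (le_bot_iff.1 (le_top.trans this))
  rw [FS_top] at F1
  refine ⟨⟨F1, fun K hK h => ?_⟩, ?_, fun _ K L hK hL => ?_⟩
  · have n := normal_iff_top_le.1 hK
    rw [← FS_top]
    by_cases hE : EL (⊤ : Subgroup G) = ⊥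
    · have ch : CharP p (⊤ : Subgroup G) := charP_iff_bot.2 ⟨hE, hO⟩
      rw [← FS_top, charP_iff_FS.1 ch] at F1
      rw [charP_iff_FS.1 ch]
      have nQ := norm_pCoreOf p (⊤ : Subgroup G)
      have lQ := pCoreOf_le_syl hS
      have pQ := isPGroup_pCoreOf p (⊤ : Subgroup G)
      generalize pCoreOf p (⊤ : Subgroup G) = Q at *
      have ab : Q ≤ 𝐂 Q := commutator_eq_bot_iff'.1 (c0 _ (norm_commutator nQ nQ) ((commutator_mono lQ lQ).trans dP))
      have nN := norm_inf nQ n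
      obtain ⟨x, hx, e⟩ := g _ nN (i _ _ nQ F1 n h)
      rw [inf_eq_right.2 (inf_le_left.trans lQ), sup_comm] at e
      have e' := sup_inf_of_norm' (le_top.trans nN : zpowers x ≤ _) (inf_le_left : Q ⊓ K ≤ Q)
      rw [e, inf_eq_right.2 lQ] at e'
      have y : zpowers x ⊓ Q ≤ 𝐂 P := by
        rw [← e, centralizer_sup]
        exact le_inf (inf_le_left.trans (le_centralizer _)) (inf_le_right.trans (ab.trans (centralizer_anti inf_le_left)))
      have c : ⁅ncl P ⊤, Q⁆ ≤ Q ⊓ K := comm_ncl_le nQ nN (le_top.trans nN) (by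
        nth_rewrite 1 [e']
        exact comm_sup_le' (le_top.trans nN) (le_top.trans nN) ((comm_eq_bot_of_le' y).le.trans bot_le)
          (commutator_le_right_of_norm (le_top.trans nN)))
      have := AmbRed.inf_cent_syl_eq ab pQ (le_top.trans nQ) (hS.mono (le_ncl _ ⊤) le_top)
      by_cases k : Q ⊓ 𝐂 (ncl P ⊤) = ⊥
      · rw [k, sup_bot_eq] at this
        refine e'.le.trans (sup_le ((le_inf inf_le_right y).trans (this.le.trans (inf_le_left.trans ?_))) inf_le_right)
        rw [commutator_comm]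
        exact (commutator_mono (res_le _ _) le_rfl).trans (c.trans inf_le_right)
      · obtain ⟨x, hx, e⟩ := g _ (norm_inf nQ (norm_centralizer (norm_ncl _ _))) k
        have c : P ⊓ (Q ⊓ 𝐂 (ncl P ⊤)) ≤ 𝐂 P :=
          inf_le_right.trans (inf_le_right.trans (centralizer_anti (le_ncl _ _)))
        refine (na (e.ge.trans (sup_le c (cent_symm (e.ge.trans (sup_le ?_ (le_centralizer _))))))).elim
        exact c.trans (centralizer_anti (zle hx))
    · rw [FS_eq, F0 hE, sup_bot_eq]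
      refine EL_le_iff.2 fun L hL => (hL.le_or_le_centralizer (AmbFs.SN.toS (SN.of_norm le_top n))).resolve_right
        fun c => i _ _ n h (norm_centralizer n) (fun e => hL.ne_bot (le_bot_iff.1 (e ▸ c)))
          (z (F0 hE) K (SN.of_norm le_top n))
  · obtain ⟨x, hx, e⟩ := g _ (normal_iff_top_le.1 hFn) F1
    rw [← e, Subgroup.map_sup, (Subgroup.map_eq_bot_iff _).2 (by rw [QuotientGroup.ker_mk']; exact inf_le_right),
      bot_sup_eq, MonoidHom.map_zpowers]
    infer_instance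
  · rw [← Comp.Cp.top_iff] at hK hL
    have nP : P ≤ 𝐍 (⊤ : Subgroup G) := norm_of_le le_top
    have k : ∀ K : Subgroup G, Comp.Cp K ⊤ → ⁅P, P⁆ ≤ ncl K P := fun K hK => by
      have s := sn_ncl' (sn_of_S hK.sn) nP
      refine d0 _ (norm_ncl _ _) (g0 _ s (norm_ncl _ _) fun l => not_npc ?_ ?_
        (tate hS.pg (norm_ncl _ _) (s.sylIn_inf hS) l))
      · exact Quasi.perfect_iSup fun g => Quasi.perfect_map hK.perfect _
      · by_contra h
        exact hK.ne_bot (le_bot_iff.1 ((le_ncl K P).trans (hO ▸ AmbFs.SN.le_OQ s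
          ((Nat.Prime.coprime_iff_not_dvd Fact.out).2 h).symm)))
    refine mem_comp_of_le_ncl hK nP hL ((hL.le_or_le_centralizer (AmbFs.SN.toS (sn_ncl' (sn_of_S hK.sn) nP))).resolve_right
      fun c => d1 (le_bot_iff.1 ?_))
    rw [← z (F0 fun e => hK.ne_bot (le_bot_iff.1 (e ▸ hK.le_map_layer))) _ (sn_ncl' (sn_of_S hK.sn) nP)]
    exact le_inf (k K hK) ((k L hL).trans (ncl_le_cent (norm_ncl _ _) c)))

end Cfsg.Agent.S4172
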