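import Cfsg.Statements.S4193
import Cfsg.Agent.Lib.Grp.H4Cls
import Cfsg.Agent.S3861
import Cfsg.Agent.S3862
import Cfsg.Agent.S3863

set_option autoImplicit false
open Cfsg

namespace Cfsg.Agent.S4193

open Subgroup CA.BG CA.H4Cls

/-- Let G be a finite group in which the conjugacy classes of all non-central real elements (elements conjugate to their inverses) have sizes with the same 2-part, and suppose G has a Sylow 2-subgroup S such that every element of S that is conjugate in S to its inverse lies in the centre of S. Then G is solvable and the subgroup generated by the 2-elements of G (the smallest normal subgroup of odd index) has a normal 2-complement. -/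
theorem result {G : Type*} [Group G] [Finite G] (a : ℕ) (h : ∀ x : G, IsConj x x⁻¹ → x ∉ Subgroup.center G → ((Subgroup.centralizer ({x} : Set G)).index).factorization 2 = a) (S : Sylow 2 G) (hS : ∀ s : ↥(S : Subgroup G), IsConj s s⁻¹ → s ∈ Subgroup.center ↥(S : Subgroup G)) : Group.IsSolvable G ∧ Cfsg.HasNormalPComplement 2 ↥(Subgroup.closure {g : G | ∃ k : ℕ, orderOf g = 2 ^ k}) := by
  haveI : Fact (Nat.Prime 2) := ⟨Nat.prime_two⟩
  have hP := syl_top Nat.prime_two S
  have h1 : ∀ x : G, (∃ j, orderOf x = 2 ^ j) → IsConj x x⁻¹ → Odd 𝓒₁(x).index := by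
    rintro x ⟨j, hj⟩ hr
    obtain ⟨t, ⟨i, hi⟩, ht⟩ := (Cfsg.Agent.S3863.result x hr).1
    have hn : zpowers t ≤ 𝓝(zpowers x) := by
      rw [zpowers_le, mem_norm_iff_cj, cj_zpowers, ht, zpowers_inv]
    have h2 : IsPi {2} (zpowers t ⊔ zpowers x) :=
      (isPi_zpowers.2 (hi ▸ piNat_pow Nat.prime_two i)).sup
        (isPi_zpowers.2 (hj ▸ piNat_pow Nat.prime_two j)) hn
    obtain ⟨g, -, hg⟩ := hP.syl_conj_le Nat.prime_two h2 le_top
    have hx := hg (conj_mem_cj.2 ((le_sup_right : zpowers x ≤ _) (mem_zpowers x)))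
    have ht' := hg (conj_mem_cj.2 ((le_sup_left : zpowers t ≤ _) (mem_zpowers t)))
    have := hS ⟨_, hx⟩ (isConj_iff.2 ⟨⟨_, ht'⟩, Subtype.ext (by
      show g * t * g⁻¹ * (g * x * g⁻¹) * (g * t * g⁻¹)⁻¹ = (g * x * g⁻¹)⁻¹
      calc _ = g * (t * x * t⁻¹) * g⁻¹ := by group
        _ = _ := by rw [ht]; group)⟩)
    rw [← index_cj g, cj_cent1]
    refine odd_index hP fun y hy => mem_cent1.2 ?_
    exact congrArg Subtype.val (mem_center_iff.1 this ⟨y, hy⟩)
  by_cases h2 : ∀ x : G, (∃ j, orderOf x = 2 ^ j) → IsConj x x⁻¹ → x ∈ center G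
  · have := Cfsg.Agent.S3862.result h2
    exact ⟨solv_of_hasNPC this, CA.PRes.hasNPC_subgroup this _⟩
  push Not at h2
  obtain ⟨x, a1, a2, a3⟩ := h2
  have h3 : a = 0 := by
    rw [← h x a2 a3]
    exact Nat.factorization_eq_zero_of_not_dvd fun e =>
      Nat.not_even_iff_odd.2 (h1 x a1 a2) (even_iff_two_dvd.2 e)
  have h4 : (S : Subgroup G).Normal := by
    refine (Cfsg.Agent.S3861.result S).1 fun y b1 b2 b3 => b1 ?_
    have h5 : Odd 𝓒₁(y).index := by
      by_cases e : y ∈ center G
      · exact odd_index hP fun z _ => mem_cent1.2 (mem_center_iff.1 e z)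
      · have := h y b3 e
        rw [h3] at this
        refine Nat.not_even_iff_odd.1 fun e => ?_
        exact (Nat.prime_two.factorization_pos_of_dvd (index_ne_zero_of_finite)
          (even_iff_two_dvd.1 e)).ne' this
    have h6 := (Cfsg.Agent.S3863.result y b3).2.1 h5
    exact orderOf_eq_one_iff.1
      ((Nat.coprime_two_right.2 b2).eq_one_of_dvd (orderOf_dvd_of_pow_eq_one h6))
  refine ⟨solv_of_normal_syl S h4, CA.PRes.hasNPC_of_isPGroup (S.isPGroup'.to_le ?_)⟩
  rw [closure_le]
  rintro g ⟨k, hk⟩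
  exact hP.mem_of_normal (normalizer_eq_top _).ge (mem_top g) (hk ▸ piNat_pow Nat.prime_two k)

end Cfsg.Agent.S4193
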