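import Cfsg.Statements.S4194
import Cfsg.Agent.Lib.Loc.H6Ctl
import Cfsg.Agent.S3863

set_option autoImplicit false
open Cfsg

namespace Cfsg.Agent.S4194

open Subgroup CA.Amb CA.AmbSyl CA.AmbCore CA.H6Ctl
open scoped commutatorElement
universe u

theorem core (n : ℕ) : ∀ (G : Type u) [Group G] [Finite G] (S : Subgroup G), SylIn 2 S ⊤ →
    Nat.card S = n → (∀ x ∈ S, ∃ g : G, g * x * g⁻¹ ∈ S ⊓ 𝐂 S) → S ≤ 𝐂 S := by
  induction n using Nat.strong_induction_on with
  | _ n ih =>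
  intro G _ _ S hS hn h
  haveI : Fact (Nat.Prime 2) := ⟨Nat.prime_two⟩
  have odd : ∀ x ∈ S, Odd (centralizer ({x} : Set G)).index := by
    intro x hx
    obtain ⟨g, -, hg⟩ := h x hx
    have h1 : cj g⁻¹ S ≤ centralizer ({x} : Set G) := by
      intro y hy
      rw [mem_cj_inv] at hy
      have := (mem_centralizer_sub.1 hg) _ hy
      rw [mem_centralizer_singleton_iff]
      have e : y * x = g⁻¹ * (g * y * g⁻¹ * (g * x * g⁻¹)) * g := by group
      rw [e, this]; group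
    have h2 := index_dvd_of_le h1
    rw [index_cj] at h2
    have h3 := hS.not_dvd
    rw [relIndex_top_right] at h3
    exact Nat.not_even_iff_odd.1 fun e => h3 ((even_iff_two_dvd.1 e).trans h2)
  have real : ∀ x ∈ S, ∀ y : G, y * x * y⁻¹ = x⁻¹ → x * x = 1 := by
    intro x hx y hy
    have := (Cfsg.Agent.S3863.result x (isConj_iff.2 ⟨y, hy⟩)).2.1 (odd x hx)
    rwa [pow_two] at this
  have cm : ∀ a ∈ S, ∀ b ∈ S, a * a = 1 → b * b = 1 → a * b = b * a := by
    intro a ha b hb h1 h2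
    have ea : a⁻¹ = a := inv_eq_of_mul_eq_one_right h1
    have eb : b⁻¹ = b := inv_eq_of_mul_eq_one_right h2
    have := real _ (mul_mem ha hb) a (by rw [mul_inv_rev, ea, eb, ← mul_assoc, h1, one_mul])
    rw [← inv_eq_of_mul_eq_one_right this, mul_inv_rev, ea, eb]
  let A : Subgroup G :=
    { carrier := {x | x ∈ S ∧ x * x = 1}
      one_mem' := ⟨one_mem _, one_mul _⟩
      mul_mem' := fun {a b} ha hb => ⟨mul_mem ha.1 hb.1, by
        rw [mul_assoc, ← mul_assoc b, ← cm a ha.1 b hb.1 ha.2 hb.2, mul_assoc, hb.2, mul_one, ha.2]⟩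
      inv_mem' := fun {a} ha => ⟨inv_mem ha.1, by rw [← mul_inv_rev, ha.2, inv_one]⟩ }
  have hAS : A ≤ S := fun x hx => hx.1
  have hsc : SC ⊤ S A := fun x hx g _ hg => ⟨hg, by
    have : g * x * g⁻¹ * (g * x * g⁻¹) = g * (x * x) * g⁻¹ := by group
    rw [this, hx.2]; group⟩
  have hAc : IsMulCommutative A := ⟨⟨fun a b => Subtype.ext (cm _ a.2.1 _ b.2.1 a.2.2 b.2.2)⟩⟩
  have ctl := ctl_of_comm hS hAS hsc hAc
  by_cases h0 : S = ⊥
  · rw [h0]; exact bot_le
  obtain ⟨t, ht, ho⟩ := exists_orderOf_eq_of_ne_bot hS.pg h0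
  have htA : t ∈ A := ⟨ht, by rw [← pow_two, ← ho, pow_orderOf_eq_one]⟩
  have ht1 : t ≠ 1 := by rintro rfl; simp at ho
  have h' : ∀ x ∈ S, ∃ g ∈ 𝐍 A, g * x * g⁻¹ ∈ S ⊓ 𝐂 S := by
    intro x hx
    obtain ⟨g, hg⟩ := h x hx
    obtain ⟨m, hm, e⟩ := ctl.elem hx (mem_top g) hg.1
    exact ⟨m, hm.2, e ▸ hg⟩
  have hSA : S ≤ 𝐂 A := by
    intro x hx
    obtain ⟨g, hg, h1⟩ := h' x hx
    rw [mem_centralizer_sub]
    intro a ha
    have := (mem_centralizer_sub.1 h1.2) _ (hAS (conj_mem_of_mem_normalizer hg ha))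
    have e : a * x = g⁻¹ * (g * a * g⁻¹ * (g * x * g⁻¹)) * g := by group
    rw [e, this]; group
  have hSN : S ≤ 𝐍 A := norm_of_centralizer hSA
  haveI : (A.subgroupOf (𝐍 A)).Normal := normal_subgroupOf_of_norm le_rfl
  let f := QuotientGroup.mk' (A.subgroupOf (𝐍 A))
  have hS1 : SylIn 2 (S.subgroupOf (𝐍 A)) ⊤ := by
    have := (sylIn_subgroupOf_iff hSN le_rfl).2 (hS.mono hSN le_top)
    rwa [subgroupOf_self] at this
  have hS2 := hS1.map f
  rw [map_top_of_surjective _ (QuotientGroup.mk'_surjective _)] at hS2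
  have hlt : Nat.card ((S.subgroupOf (𝐍 A)).map f) < n := by
    rw [← hn, ← Nat.card_congr (subgroupOfEquivOfLe hSN).toEquiv]
    refine lt_of_le_of_ne (Nat.le_of_dvd Nat.card_pos (card_map_dvd _ _)) fun e => ht1 ?_
    have hb : Function.Bijective (f.subgroupMap (S.subgroupOf (𝐍 A))) :=
      (Nat.bijective_iff_surjective_and_card _).2 ⟨f.subgroupMap_surjective _, e.symm⟩
    have : (⟨⟨t, hSN ht⟩, ht⟩ : S.subgroupOf (𝐍 A)) = 1 := by
      apply hb.1
      rw [map_one]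
      apply Subtype.ext
      exact (QuotientGroup.eq_one_iff _).2 htA
    exact congrArg (fun z : S.subgroupOf (𝐍 A) => ((z : 𝐍 A) : G)) this
  have hq := ih _ hlt _ _ hS2 rfl (by
    rintro _ ⟨x, hx, rfl⟩
    obtain ⟨g, hg, h1⟩ := h' x hx
    refine ⟨f ⟨g, hg⟩, ?_, ?_⟩
    · rw [← map_inv, ← map_mul, ← map_mul]
      exact mem_map_of_mem _ h1.1
    · rw [← map_inv, ← map_mul, ← map_mul]
      refine cent_map f (L := ((S ⊓ 𝐂 S).subgroupOf (𝐍 A))) ?_ (mem_map_of_mem _ h1)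
      rw [centralizer_subgroupOf hSN]
      exact fun y hy => hy.2)
  have hcomm : ⁅S, S⁆ ≤ A := by
    rw [commutator_le]
    intro a ha b hb
    have := (mem_centralizer_sub.1 (hq (mem_map_of_mem f (x := ⟨b, hSN hb⟩) hb))) _
      (mem_map_of_mem f (x := ⟨a, hSN ha⟩) ha)
    have h2 : f ⁅(⟨a, hSN ha⟩ : 𝐍 A), ⟨b, hSN hb⟩⁆ = 1 := by
      rw [map_commutatorElement, commutatorElement_eq_one_iff_mul_comm]; exact this
    have h3 := (QuotientGroup.eq_one_iff (N := A.subgroupOf (𝐍 A)) _).1 h2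
    exact h3
  have ctl2 := ctl_of_chain hS le_rfl (sc_self _ _) hsc hcomm hSA
  intro x hx
  obtain ⟨g, hg⟩ := h x hx
  obtain ⟨m, hm, e⟩ := ctl2.elem hx (mem_top g) hg.1
  have := inv_conj_mem_of_mem_normalizer (norm_centralizer le_rfl hm.2) hg.2
  rw [← e] at this
  simpa [mul_assoc] using this

/-- A finite group G has commutative Sylow 2-subgroups if and only if every 2-element of G (element of order a power of 2) is 2-central, that is, its centralizer contains a Sylow 2-subgroup of G. -/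
theorem result {G : Type*} [Group G] [Finite G] (P : Sylow 2 G) :
    IsMulCommutative (P : Subgroup G) ↔ ∀ x : G, (∃ k : ℕ, orderOf x = 2 ^ k) → (∃ Q : Sylow 2 G, (Q : Subgroup G) ≤ Subgroup.centralizer ({x} : Set G)) := by
  constructor
  · intro hP x ⟨k, hk⟩
    obtain ⟨Q, hQ⟩ := (isPGroup_zpowers_of_orderOf hk).exists_le_sylow
    refine ⟨Q, fun y hy => ?_⟩
    have e := P.equiv Q
    haveI : IsMulCommutative Q := ⟨⟨fun a b => by
      obtain ⟨a, rfl⟩ := e.surjective a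
      obtain ⟨b, rfl⟩ := e.surjective b
      rw [← map_mul, ← map_mul, hP.1.1 a b]⟩⟩
    rw [mem_centralizer_singleton_iff]
    exact congrArg Subtype.val (this.1.1 (⟨y, hy⟩ : Q) ⟨x, hQ (mem_zpowers x)⟩)
  · intro h
    have := core _ G P (sylIn_top P) rfl (by
      intro x hx
      obtain ⟨Q, hQ⟩ := h x (orderOf_eq_pow_of_mem P.isPGroup' hx)
      obtain ⟨g, -, hg⟩ := (sylIn_top Q).exists_conj (sylIn_top P)
      have hxQ : x ∈ (Q : Subgroup G) :=
        (sylIn_top Q).le_of_norm (P.isPGroup'.to_le (zpowers_le.2 hx)) le_top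
          (norm_of_centralizer (by rwa [centralizer_zpowers])) (mem_zpowers x)
      rw [← hg]
      refine ⟨g, conj_mem_cj.2 hxQ, ?_⟩
      rw [← cj_centralizer]
      exact conj_mem_cj.2 (mem_centralizer_sub.2 fun y hy => mem_centralizer_singleton_iff.1 (hQ hy)))
    exact ⟨⟨fun a b => Subtype.ext ((mem_centralizer_sub.1 (this b.2)) _ a.2)⟩⟩

end Cfsg.Agent.S4194
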