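import Cfsg.Statements.S4196
import Cfsg.Agent.S3863
import Cfsg.Agent.Lib.Loc.AmbSyl
import Cfsg.Agent.Lib.Loc.H6Basic

set_option autoImplicit false
open Cfsg

namespace Cfsg.Agent.S4196

open CA.H6Basic Subgroup

/-- A finite group G has elementary abelian Sylow 2-subgroups (commutative with every element squaring to the identity) if and only if every 2-element of G has a Sylow 2-subgroup in its centralizer and is conjugate to its inverse. -/
theorem result {G : Type*} [Group G] [Finite G] (P : Sylow 2 G) :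
    (IsMulCommutative (P : Subgroup G) ∧ ∀ x ∈ (P : Subgroup G), x ^ 2 = 1) ↔
      ∀ x : G, (∃ k : ℕ, orderOf x = 2 ^ k) → (∃ Q : Sylow 2 G, (Q : Subgroup G) ≤ Subgroup.centralizer ({x} : Set G)) ∧ IsConj x x⁻¹ := by
  have : Fact (Nat.Prime 2) := ⟨Nat.prime_two⟩
  constructor
  · rintro ⟨h1, h2⟩ x ⟨k, hk⟩
    obtain ⟨Q, hQ⟩ := (CA.AmbSyl.isPGroup_zpowers_of_orderOf hk).exists_le_sylow
    obtain ⟨g, rfl⟩ := MulAction.exists_smul_eq G P Q
    rw [← cj_sylow] at hQ
    have hx := mem_cj.1 (hQ (mem_zpowers x))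
    refine ⟨⟨g • P, fun y hy => ?_⟩, ?_⟩
    · rw [← cj_sylow] at hy
      have := comm_of_isMulCommutative h1 (mem_cj.1 hy) hx
      rw [mem_centralizer_singleton_iff]
      calc _ = g * (g⁻¹ * y * g * (g⁻¹ * x * g)) * g⁻¹ := by group
        _ = _ := by rw [this]; group
    · have := h2 _ hx
      have h3 : x * x = 1 := by
        calc _ = g * (g⁻¹ * x * g) ^ 2 * g⁻¹ := by rw [sq]; group
          _ = 1 := by rw [this]; group
      rw [← eq_inv_of_mul_eq_one_left h3]
  · intro h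
    have h2 : ∀ x ∈ (P : Subgroup G), x ^ 2 = 1 := fun x hx => by
      obtain ⟨⟨Q, hQ⟩, h3⟩ := h x (CA.AmbSyl.orderOf_eq_pow_of_mem P.isPGroup' hx)
      exact (Cfsg.Agent.S3863.result x h3).2.1 (Nat.odd_iff.2 (Nat.two_dvd_ne_zero.1
        fun h => Q.not_dvd_index (h.trans (Subgroup.index_dvd_of_le hQ))))
    refine ⟨isMulCommutative_iff'.2 fun a ha b hb => ?_, h2⟩
    have e : ∀ y ∈ (P : Subgroup G), y⁻¹ = y := fun y hy =>
      (eq_inv_of_mul_eq_one_left (by rw [← sq, h2 y hy])).symm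
    rw [← e _ (mul_mem ha hb), mul_inv_rev, e a ha, e b hb]

end Cfsg.Agent.S4196
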