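import Cfsg.Statements.S4303
import Cfsg.Agent.S4341
import Cfsg.Agent.Lib.Grp.Coprime2
import Cfsg.Agent.Lib.Grp.PRes

set_option autoImplicit false
universe u
open Cfsg

namespace Cfsg.Agent.S4303

open Subgroup CA.L0Syl CA.SylIn
theorem relIndex_sup {G : Type*} [Group G] [Finite G] {P N T : Subgroup G} (hPN : P ≤ N)
    (hPT : P ≤ normalizer (T : Set G)) : N.relIndex (P ⊔ T) = N.relIndex T := by
  have e1 := CA.Rad.card_inf_mul_relIndex N (P ⊔ T)
  have e2 := CA.Rad.card_inf_mul_relIndex N T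
  have e3 := CA.Rad.card_sup_mul_card_inf hPT
  have hTN : N ⊓ (P ⊔ T) = P ⊔ (N ⊓ T) := by
    rw [inf_comm, CA.Rad.sup_inf_eq_of_le_normalizer hPN (Or.inl hPT), inf_comm]
  have e4 := CA.Rad.card_sup_mul_card_inf (H := P) (N := N ⊓ T)
    (CA.Rad.le_normalizer_inf (hPN.trans le_normalizer) hPT)
  rw [← hTN, ← inf_assoc, inf_eq_left.2 hPN] at e4
  have hpos : 0 < Nat.card (N ⊓ (P ⊔ T) : Subgroup G) * Nat.card (P ⊓ T : Subgroup G) :=
    Nat.mul_pos Nat.card_pos Nat.card_pos
  apply Nat.eq_of_mul_eq_mul_left hpos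
  calc _ = (Nat.card (N ⊓ (P ⊔ T) : Subgroup G) * N.relIndex (P ⊔ T)) * Nat.card (P ⊓ T : Subgroup G) := by ring
    _ = _ := by rw [e1, e3, e4, ← e2]; ring

theorem card_eq {G : Type*} [Group G] [Finite G] {q : ℕ} [Fact q.Prime] {T H : Subgroup G}
    (h : IsSylowIn q T H) : Nat.card T = q ^ (Nat.card H).factorization q := by
  rw [← h.toSylow.card_eq_multiplicity, h.coe_toSylow, CA.Rad.card_subgroupOf_of_le h.le]

theorem aux (p : ℕ) [Fact p.Prime] (n : ℕ) : ∀ {G : Type u} [Group G] [Finite G], Nat.card G = n →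
    ∃ l : List ℕ, l.prod = Nat.card (Sylow p G) ∧
      ∀ m ∈ l, (IsPrimePow m ∧ m % p = 1) ∨
        ∃ (S : Type u) (_ : Group S) (_ : Finite S), IsSimpleGroup S ∧ m = Nat.card (Sylow p S) := by
  have hp : p.Prime := Fact.out
  induction n using Nat.strong_induction_on with
  | _ n ih =>
  intro G _ _ hn
  obtain ⟨P⟩ : Nonempty (Sylow p G) := inferInstance
  rcases subsingleton_or_nontrivial G with h | h
  · refine ⟨[], ?_, by simp⟩
    rw [card_sylow_eq P, Subsingleton.elim (normalizer _) ⊤, index_top]; rfl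
  by_cases hs : IsSimpleGroup G
  · exact ⟨[Nat.card (Sylow p G)], by simp, fun m hm => Or.inr ⟨G, _, ‹_›, hs, by simpa using hm⟩⟩
  obtain ⟨K, hKn, hK1, hK2⟩ : ∃ K : Subgroup G, K.Normal ∧ K ≠ ⊥ ∧ K ≠ ⊤ := by
    by_contra h1; push Not at h1
    exact hs ⟨fun K hK => or_iff_not_imp_left.2 (h1 K hK)⟩
  obtain ⟨l1, h1, h1'⟩ := ih _ (hn ▸ CA.H1Basic.card_quotient_lt hK1) (G := G ⧸ K) rfl
  set N := ((P : Subgroup G) ⊔ K) ⊓ Subgroup.normalizer (((P : Subgroup G) ⊓ K : Subgroup G) : Set G) with hN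
  have hPN : (P : Subgroup G) ≤ N := by
    refine le_inf le_sup_left (le_trans ?_ (CA.SylIn.inf_normalizer_le_normalizer_inf _ _))
    exact le_inf le_normalizer (le_top.trans (normalizer_eq_top K).ge)
  have hnn : (((P : Subgroup G) ⊓ K).subgroupOf N).Normal :=
    (normal_subgroupOf_iff_le_normalizer (inf_le_left.trans hPN)).2 inf_le_right
  by_cases hlt : Nat.card (N ⧸ ((P : Subgroup G) ⊓ K).subgroupOf N) < n
  · obtain ⟨l2, h2, h2'⟩ := ih _ (hn ▸ CA.H1Basic.card_lt_of_ne_top hK2) (G := K) rfl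
    obtain ⟨l3, h3, h3'⟩ := ih _ hlt (G := N ⧸ ((P : Subgroup G) ⊓ K).subgroupOf N) rfl
    refine ⟨l1 ++ l2 ++ l3, ?_, ?_⟩
    · rw [List.prod_append, List.prod_append, h1, h2, h3, Cfsg.Agent.S4341.result p K P N hN]
    · intro m hm
      simp only [List.mem_append] at hm
      rcases hm with (hm | hm) | hm
      exacts [h1' m hm, h2' m hm, h3' m hm]
  have hPK : (P : Subgroup G) ⊓ K = ⊥ := by
    by_contra hne
    apply hlt
    refine lt_of_lt_of_le (CA.H1Basic.card_quotient_lt ?_) (hn ▸ card_le_card_group N)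
    rwa [Ne, subgroupOf_eq_bot, disjoint_iff, inf_eq_left.2 (inf_le_left.trans hPN)]
  have hKp : ¬ p ∣ Nat.card K := (CA.PRes.inf_sylow_eq_bot_iff P K).1 (by rwa [inf_comm])
  set U := normalizer ((P : Subgroup G) : Set G) with hU
  have hUC : U ⊓ K = K ⊓ centralizer ((P : Subgroup G) : Set G) := by
    apply le_antisymm
    · refine le_inf inf_le_right fun x hx y hy => ?_
      have h4 : y * x * y⁻¹ * x⁻¹ ∈ (P : Subgroup G) ⊓ K := by
        refine ⟨?_, K.mul_mem (hKn.conj_mem x hx.2 y) (K.inv_mem hx.2)⟩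
        have := (P : Subgroup G).mul_mem hy (conj_mem_of_mem_normalizer hx.1 ((P : Subgroup G).inv_mem hy))
        rw [← mul_assoc, ← mul_assoc] at this; exact this
      rw [hPK, mem_bot, mul_inv_eq_one, mul_inv_eq_iff_eq_mul] at h4
      exact h4
    · exact le_inf (inf_le_right.trans (centralizer_le_normalizer _)) inf_le_left
  set m := U.relIndex K with hm
  have hm0 : m ≠ 0 := index_ne_zero_of_finite
  refine ⟨l1 ++ m.primeFactors.toList.map fun q => q ^ m.factorization q, ?_, ?_⟩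
  · rw [List.prod_append, h1, card_sylow_eq_mul P K, Finset.prod_map_toList]
    congr 1
    exact Nat.prod_factorization_pow_eq_self hm0
  · intro r hr
    simp only [List.mem_append, List.mem_map, Finset.mem_toList] at hr
    rcases hr with hr | ⟨q, hq, rfl⟩
    · exact h1' r hr
    left
    have hqp := Nat.prime_of_mem_primeFactors hq
    have := Fact.mk hqp
    refine ⟨hqp.isPrimePow.pow (Nat.support_factorization m ▸ hq |> Finsupp.mem_support_iff.1), ?_⟩
    have hAK : (P : Subgroup G) ≤ normalizer (K : Set G) := le_top.trans (normalizer_eq_top K).ge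
    have hcop : (Nat.card (P : Subgroup G)).Coprime (Nat.card K) :=
      CA.H1Basic.coprime_card_of_isPGroup hp P.isPGroup' hKp
    have hsolv : Group.IsSolvable (P : Subgroup G) ∨ Group.IsSolvable K :=
      Or.inl (CA.Core.isSolvable_of_isPGroup P.isPGroup')
    obtain ⟨T, hT, hPT⟩ := CA.Coprime2.exists_isSylowIn hAK hcop hsolv q
    have hT2 := CA.Coprime2.isSylowIn_inf_centralizer hAK hcop hsolv hT hPT
    have h5 : U.relIndex T ≡ 1 [MOD p] := by
      rw [← relIndex_sup le_normalizer hPT, ← card_sylow_sub (isSylowIn_of_le P le_sup_left)]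
      exact card_sylow_modEq_one p _
    have h6 : U ⊓ T = T ⊓ centralizer ((P : Subgroup G) : Set G) := by
      rw [← inf_eq_right.2 hT.le, ← inf_assoc, hUC, inf_right_comm]
    have h7 := CA.Rad.card_inf_mul_relIndex U T
    have h8 := CA.Rad.card_inf_mul_relIndex U K
    rw [h6, card_eq hT2, card_eq hT, ← h8, hUC, Nat.factorization_mul Nat.card_pos.ne' hm0,
      Finsupp.add_apply, pow_add] at h7
    rw [← Nat.eq_of_mul_eq_mul_left (pow_pos hqp.pos _) h7, h5, Nat.mod_eq_of_lt hp.one_lt]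

/-- For a finite group `G` and a prime `p`, the number of Sylow `p`-subgroups of `G` is a product of natural numbers each of which is either a prime power congruent to 1 modulo `p` or the number of Sylow `p`-subgroups of some finite simple group. -/
theorem result {G : Type u} [Group G] [Finite G]
    (p : ℕ) [Fact p.Prime] :
    ∃ l : List ℕ, l.prod = Nat.card (Sylow p G) ∧
      ∀ m ∈ l, (IsPrimePow m ∧ m % p = 1) ∨
        ∃ (S : Type u) (_ : Group S) (_ : Finite S), IsSimpleGroup S ∧ m = Nat.card (Sylow p S) := by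
  exact aux p _ rfl

end Cfsg.Agent.S4303
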