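import Cfsg.Statements.S4236
import Mathlib
import Cfsg.Agent.Lib.Perm.Deg11
import Cfsg.Agent.Lib.Block.H28Sv
import Cfsg.Agent.S4303

set_option autoImplicit false
open Cfsg

namespace Cfsg.Agent.S4236

open MulAction CA.PermBasic CA.PermMulti CA.H28Syl
open scoped Pointwise

variable {G : Type*} [Group G] [Finite G]

instance : Fact (Nat.Prime 17) := ⟨by norm_num⟩

theorem fix_iff {D : Subgroup G} (hD : IsPGroup 17 D) (R : Sylow 17 G) :
    (∀ g ∈ D, g • R = R) ↔ D ≤ R := by
  rw [← hD.sylow_mem_fixedPoints_iff]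
  exact ⟨fun h g => h g g.2, fun h g hg => h ⟨g, hg⟩⟩

theorem fix_eq (P R : Sylow 17 G) : (∀ g ∈ (P : Subgroup G), g • R = R) ↔ R = P := by
  rw [fix_iff P.isPGroup']
  exact ⟨fun h => Sylow.ext (P.is_maximal' R.isPGroup' h), fun h => by rw [h]⟩

theorem prim (h : Nat.card (Sylow 17 G) = 35) : IsPreprimitive G (Sylow 17 G) := by
  refine ⟨fun {B} hB => ?_⟩
  rcases B.eq_empty_or_nonempty with rfl | ⟨P, hP⟩
  · exact Or.inl Set.subsingleton_empty
  have h1 := hB.ncard_dvd_card ⟨P, hP⟩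
  have h2 := ncard_modEq_fixed (p := 17) (P : Subgroup G) P.isPGroup' B (Set.toFinite _)
    fun g hg x hx => by
      have e : g • P = P := (fix_eq P P).2 rfl g hg
      rw [← hB.smul_eq_of_mem hP (e.symm ▸ hP)]
      exact Set.smul_mem_smul_set hx
  have e : {x ∈ B | ∀ g ∈ (P : Subgroup G), g • x = x} = {P} := by
    ext R
    simp only [Set.mem_setOf_eq, fix_eq, Set.mem_singleton_iff]
    exact ⟨fun h => h.2, fun h => by rw [h]; exact ⟨hP, rfl⟩⟩
  rw [e, Set.ncard_singleton] at h2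
  rw [h] at h1
  have h3 := Nat.le_of_dvd (by norm_num) h1
  have h4 : B.ncard = 1 ∨ B.ncard = 35 := by
    unfold Nat.ModEq at h2
    generalize B.ncard = k at *
    interval_cases k <;> omega
  rcases h4 with h4 | h4
  · exact Or.inl (Set.ncard_le_one_iff_subsingleton.1 h4.le)
  · exact Or.inr ((Set.eq_univ_iff_ncard B).2 (h4.trans h.symm))

theorem faith [IsSimpleGroup G] (h : Nat.card (Sylow 17 G) = 35) : FaithfulSMul G (Sylow 17 G) := by
  refine ⟨fun {a b} e => ?_⟩
  rcases (toPermHom G (Sylow 17 G)).normal_ker.eq_bot_or_eq_top with h1 | h1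
  · exact (MonoidHom.ker_eq_bot_iff _).1 h1 (Equiv.ext e)
  · have : Nontrivial (Sylow 17 G) := Finite.one_lt_card_iff_nontrivial.1 (by omega)
    obtain ⟨P, Q, hPQ⟩ := exists_pair_ne (Sylow 17 G)
    obtain ⟨g, hg⟩ := exists_smul_eq G P Q
    have : g ∈ (toPermHom G (Sylow 17 G)).ker := h1 ▸ Subgroup.mem_top g
    exact absurd (hg.symm.trans (Equiv.congr_fun this P)) hPQ.symm

theorem orb (h : Nat.card (Sylow 17 G) = 35) {P R : Sylow 17 G} (hR : R ≠ P) :
    Nat.card (orbit (P : Subgroup G) R) = 17 := by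
  obtain ⟨n, hn⟩ := P.isPGroup'.card_orbit R
  have h1 : Nat.card (orbit (P : Subgroup G) R) ≤ 35 := h ▸ Finite.card_subtype_le _
  rw [hn] at h1 ⊢
  rcases n with _ | _ | n
  · exact absurd ((fix_eq P R).1 fun g hg => (Set.ncard_le_one (Set.toFinite _)).1
      ((Nat.card_coe_set_eq _).symm.trans hn).le _ ⟨⟨g, hg⟩, rfl⟩ _ (mem_orbit_self R)) hR
  · rfl
  · have := Nat.pow_le_pow_right (show 0 < 17 by norm_num) (show 2 ≤ n + 1 + 1 by omega)
    omega

theorem sq [IsSimpleGroup G] (h : Nat.card (Sylow 17 G) = 35) : ¬ 17 ^ 2 ∣ Nat.card G := by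
  classical
  intro h9
  have := Fintype.ofFinite (Sylow 17 G)
  have := faith h
  have hc : Fintype.card (Sylow 17 G) = 35 := by rw [← Nat.card_eq_fintype_card, h]
  have : Nontrivial (Sylow 17 G) := Finite.one_lt_card_iff_nontrivial.1 (by omega)
  obtain ⟨P, b, hb⟩ := exists_pair_ne (Sylow 17 G)
  have h1 := card_orbit_mul_card_stabilizer (G := (P : Subgroup G)) b
  have h2 := P.pow_dvd_card_of_pow_dvd_card h9
  rw [orb h hb.symm] at h1
  obtain ⟨y, hy, hy1⟩ := (stabilizer (P : Subgroup G) b).bot_or_exists_ne_one.resolve_left fun e => by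
    rw [e, Subgroup.card_bot] at h1
    rw [← h1] at h2
    norm_num at h2
  have hcy := CA.Neumann3.orbit_cyclic P.isPGroup' (orb h hb.symm)
  have hP : ∀ g ∈ (P : Subgroup G), g • P = P := (fix_eq P P).2 rfl
  have h3 : insert P (orbit (P : Subgroup G) b) ⊆ fixedBy (Sylow 17 G) (y : G) := by
    rintro _ (rfl | ⟨x, rfl⟩)
    · exact hP y y.2
    · exact (hcy.2.1 y y.2 x x.2 b (mem_orbit_self b)).trans (congrArg _ hy)
  have h4 := Set.ncard_le_ncard h3
  rw [Set.ncard_insert_of_notMem (by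
    rintro ⟨x, hx⟩
    exact hb (MulAction.injective (x : G) ((hP x x.2).trans hx.symm))), ← Nat.card_coe_set_eq,
    orb h hb.symm] at h4
  obtain ⟨q, k, hq, h5, h6, h7⟩ := CA.Deg11.exists_pow (g := (y : G)) fun e => hy1 (Subtype.ext e)
  obtain ⟨n, hn⟩ := IsPGroup.iff_card.1 P.isPGroup'
  obtain rfl : q = 17 := (Nat.prime_dvd_prime_iff_eq hq (by norm_num)).1
    (hq.dvd_of_dvd_pow (hn ▸ h5.trans (Subgroup.orderOf_dvd_natCard _ y.2)))
  have h8 := CA.Deg11.fix_pow_le (X := Sylow 17 G) (y : G) k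
  have h10 := CA.Deg11.supp_add (X := Sylow 17 G) ((y : G) ^ k)
  have h11 : orderOf (toPermHom G (Sylow 17 G) ((y : G) ^ k)) = 17 :=
    orderOf_eq_prime (by rw [← map_pow, h7, map_one]) fun e =>
      h6 (toPerm_injective (e.trans (map_one (toPermHom G (Sylow 17 G))).symm))
  have h12 := Equiv.Perm.isCycle_of_prime_order (h11 ▸ hq) (by omega)
  have h13 := three_iff.1 (CA.Neumann3.mpt_of_alt_le (k := 3) (CA.PermJordan.alt_le_of_prime_cycle _
    (CA.Sharp4.preprimitive_range (prim h)) hq (by omega) h12 (h12.orderOf.symm.trans h11) ⟨_, rfl⟩)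
    (by omega))
  obtain ⟨x, hx, hx'⟩ : ∃ x ∈ (P : Subgroup G), x • b ≠ b := by
    by_contra e
    push Not at e
    exact hb ((fix_eq P b).1 e).symm
  obtain ⟨d, hd⟩ : ∃ d, d ∉ insert P (orbit (P : Subgroup G) b) := by
    by_contra e
    push Not at e
    have := Set.ncard_insert_le P (orbit (P : Subgroup G) b)
    rw [Set.eq_univ_of_forall e, Set.ncard_univ, ← Nat.card_coe_set_eq, orb h hb.symm] at this
    omega
  obtain ⟨g, g1, g2, g3⟩ := h13 P b (x • b) P b d hb
    (fun e => hb (MulAction.injective x ((hP x hx).trans e))) hx'.symm hb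
    (fun e => hd (Or.inl e.symm)) fun e => hd (Or.inr (e ▸ mem_orbit_self b))
  refine hd (Or.inr ⟨⟨g * x * g⁻¹, (Subgroup.mem_normalizer_iff.1
    (Sylow.smul_eq_iff_mem_normalizer.1 g1) x).1 hx⟩, ?_⟩)
  change (g * x * g⁻¹) • b = d
  rw [mul_smul, mul_smul, inv_smul_eq_iff.2 g2.symm, g3]

theorem simple [IsSimpleGroup G] : Nat.card (Sylow 17 G) ≠ 35 := by
  classical
  intro h
  have := Fintype.ofFinite (Sylow 17 G)
  have := faith h
  have hc : Fintype.card (Sylow 17 G) = 35 := by rw [← Nat.card_eq_fintype_card, h]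
  have : Nontrivial (Sylow 17 G) := Finite.one_lt_card_iff_nontrivial.1 (by omega)
  obtain ⟨x, hx⟩ := exists_isSylGen (G := G) (p := 17) (by
    by_contra e
    obtain ⟨a, b, hab⟩ := exists_pair_ne (Sylow 17 G)
    have key : ∀ P : Sylow 17 G, (P : Subgroup G) = ⊥ := fun P => by
      rw [← Subgroup.card_eq_one, P.card_eq_multiplicity, Nat.factorization_eq_zero_of_not_dvd e,
        pow_zero]
    exact hab (Sylow.ext ((key a).trans (key b).symm))) (sq h)
  obtain ⟨b, hb⟩ := exists_ne hx.sylow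
  have hCa : ∀ c ∈ CC x, c • hx.sylow = hx.sylow := fun c hc =>
    Sylow.smul_eq_iff_mem_normalizer.2 (CC_le_NN x hc)
  have hG : ¬ IsMulCommutative G := fun hm => hb (by
    obtain ⟨g, rfl⟩ := exists_smul_eq G hx.sylow b
    exact hCa g (mem_CC.2 (hm.is_comm.comm _ _)))
  have hV : VV 17 x = ⊥ := by
    by_contra e
    obtain ⟨q, hq, hq'⟩ := Nat.exists_prime_and_dvd (n := Nat.card (VV 17 x)) (by
      rwa [Ne, Subgroup.card_eq_one])
    have := Fact.mk hq
    obtain ⟨c, hc'⟩ := exists_prime_orderOf_dvd_card' q hq'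
    have c1 : (c : G) ^ q ^ 1 = 1 := by
      rw [pow_one, ← hc']; exact congrArg Subtype.val (pow_orderOf_eq_one c)
    have h1 := CA.Deg11.fix_mod (X := Sylow 17 G) hq c1
    have h2 := ncard_modEq_fixedBy (p := 17) (g := x) (k := 1) (by
      rw [pow_one, ← hx.ord, pow_orderOf_eq_one]) (fixedBy (Sylow 17 G) (c : G)) (Set.toFinite _)
      fun y hy => by rw [mem_fixedBy, ← mul_smul, mem_CC.1 (hx.VV_le c.2), mul_smul, hy]
    rw [show {y ∈ fixedBy (Sylow 17 G) (c : G) | x • y = y} = {hx.sylow} from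
      Set.Subset.antisymm (fun y hy => (fix_eq hx.sylow y).1 (by
        rintro _ ⟨k, rfl⟩; exact zpow_mem (show x ∈ stabilizer G y from hy.2) k)) (by
        rintro _ rfl; exact ⟨hCa _ (hx.VV_le c.2), hCa x (mem_CC.2 rfl)⟩), Set.ncard_singleton] at h2
    have h3 : (fixedBy (Sylow 17 G) (c : G)).ncard < 35 := by
      rw [← h, ← Set.ncard_univ]
      refine Set.ncard_lt_ncard (Set.ssubset_univ_iff.2 fun e => ?_)
      rw [show c = 1 from Subtype.ext (eq_one_of_forall_smul (X := Sylow 17 G) fun y =>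
        e.ge (Set.mem_univ y)), orderOf_one] at hc'
      exact hq.one_lt.ne hc'
    have h4 : q ≠ 17 := by rintro rfl; exact hx.not_dvd_card_VV hq'
    rw [hc] at h1
    rw [Nat.ModEq] at h2
    obtain h5 | h5 : (fixedBy (Sylow 17 G) (c : G)).ncard = 1 ∨
      (fixedBy (Sylow 17 G) (c : G)).ncard = 18 := by omega
    · rw [h5] at h1
      obtain rfl : q = 2 := ((hq.dvd_mul (m := 2) (n := 17)).1
        ((Nat.modEq_iff_dvd' (by norm_num)).1 h1.symm)).elim
        (Nat.prime_dvd_prime_iff_eq hq Nat.prime_two).1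
        fun h => absurd ((Nat.prime_dvd_prime_iff_eq hq (by norm_num)).1 h) h4
      have h6 := CA.Deg11.sign_inv (X := Sylow 17 G) (t := (c : G)) (by rw [← c1]; simp [pow_two])
      rw [h5, hc, show Equiv.Perm.sign (toPermHom G (Sylow 17 G) c) = 1 from
        CA.SubA8.sign_eq_one hG (Equiv.Perm.sign.comp (toPermHom G (Sylow 17 G))) c] at h6
      exact absurd h6 (by decide)
    · rw [h5] at h1
      exact h4 ((Nat.prime_dvd_prime_iff_eq hq (by norm_num)).1
        ((Nat.modEq_iff_dvd' (by norm_num)).1 h1.symm))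
  have e4 := hx.card_eq
  have e6 : ee x ∣ 16 := ee_dvd hx.ord
  rw [h, hV, Subgroup.card_bot] at e4
  have : Nat.card G = 595 ∨ Nat.card G = 1190 ∨ Nat.card G = 2380 ∨ Nat.card G = 4760 ∨
      Nat.card G = 9520 := by
    have := Nat.le_of_dvd (by norm_num) e6
    generalize ee x = e at *
    interval_cases e <;> omega
  rcases this with h | h | h | h | h <;>
    exact CA.H28Sv.check_false hG h (p := 17) (q := 0) (B := 100) (by decide +kernel)

/-- No finite group has exactly 35 Sylow 17-subgroups. -/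
theorem result {G : Type*} [Group G] [Finite G] : Nat.card (Sylow 17 G) ≠ 35 := by
  intro h
  obtain ⟨l, h1, h2⟩ := Cfsg.Agent.S4303.result (G := G) 17
  have h3 : ∀ m ∈ l, m = 1 := fun m hm => by
    have h4 : m ∣ 35 := h ▸ h1 ▸ List.dvd_prod hm
    have h5 := Nat.le_of_dvd (by norm_num) h4
    rcases h2 m hm with ⟨h6, h7⟩ | ⟨S, _, _, _, h6⟩
    · have : m ≠ 35 := by rintro rfl; revert h6; decide +kernel
      interval_cases m <;> omega
    · have h7 : m % 17 = 1 % 17 := h6 ▸ card_sylow_modEq_one 17 S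
      have : m ≠ 35 := h6 ▸ simple
      interval_cases m <;> omega
  rw [List.prod_eq_one h3] at h1
  omega

end Cfsg.Agent.S4236
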