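import Cfsg.Statements.S4271
import Cfsg.Agent.Lib.Grp.H7Pron
import Cfsg.Agent.S3820

set_option autoImplicit false
open Cfsg

namespace Cfsg.Agent.S4271

open CA.H7Pron CA.BG Subgroup

/-- Let p be a prime and G a finite group with a normal subgroup A such that every subgroup of A containing a Sylow p-subgroup of A is pronormal in A, and the Sylow p-subgroups of G/A are self-normalizing. Let T be a Sylow p-subgroup of A. Then every subgroup of G containing a Sylow p-subgroup of G is pronormal in G if and only if every subgroup of N_G(T)/T containing a Sylow p-subgroup of N_G(T)/T is pronormal in N_G(T)/T. (Pronormal: H and gHg⁻¹ are conjugate inside the subgroup they generate, for every g.) -/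
theorem result {G : Type*} [Group G] [Finite G] {p : ℕ} [Fact p.Prime]
    (A : Subgroup G) [A.Normal] (hA : (∀ K : Subgroup ↥A, (∃ P : Sylow p ↥A, (P : Subgroup ↥A) ≤ K) → Cfsg.IsPronormal K))
    (hQ : ∀ P : Sylow p (G ⧸ A), Subgroup.normalizer ((P : Subgroup (G ⧸ A)) : Set (G ⧸ A)) = P)
    (T : Subgroup G) (hT : ∃ P : Sylow p ↥A, (P : Subgroup ↥A).map A.subtype = T) [(T.subgroupOf (Subgroup.normalizer (T : Set G))).Normal] :
    (∀ K : Subgroup G, (∃ P : Sylow p G, (P : Subgroup G) ≤ K) → Cfsg.IsPronormal K) ↔ (∀ K : Subgroup (↥(Subgroup.normalizer (T : Set G)) ⧸ T.subgroupOf (Subgroup.normalizer (T : Set G))), (∃ P : Sylow p (↥(Subgroup.normalizer (T : Set G)) ⧸ T.subgroupOf (Subgroup.normalizer (T : Set G))), (P : Subgroup (↥(Subgroup.normalizer (T : Set G)) ⧸ T.subgroupOf (Subgroup.normalizer (T : Set G)))) ≤ K) → Cfsg.IsPronormal K) := by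
  obtain ⟨P, rfl⟩ := hT
  have hp : p.Prime := Fact.out
  have h := syl_map hp P
  have h1 : XP p (G ⧸ A) := by
    rintro K ⟨Q, hK⟩
    refine (Cfsg.Agent.S3820.result _ K hK (good_syl (syl_top hp Q))).2 fun g hg => ?_
    exact ⟨g, mem_sup_left (hK (hQ Q ▸ hg)), rfl⟩
  refine (xp_iff hA h1 h).trans ((and_iff_left ?_).trans (xp_norm_iff h.pi).symm)
  rintro K ⟨Q, hK⟩
  refine le_antisymm (le_normalizer_map _) (le_trans ?_ (map_mono (le_norm_self K)))
  have h2 := map_mono (f := QuotientGroup.mk' A) hK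
  have h3 := ((syl_top hp (Q.mapSurjective (QuotientGroup.mk'_surjective A))).of_le h2
    le_top).syl_frattini_sup hp (le_norm_self _) le_rfl
  rw [hQ] at h3
  rw [← h3]
  exact sup_le le_rfl (inf_le_right.trans h2)

end Cfsg.Agent.S4271
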