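import Cfsg.Statements.S4281
import Cfsg.Agent.Lib.Lie.SSInv
-- import your own Cfsg.Agent.* helpers here

set_option autoImplicit false
open scoped BigOperators
open Cfsg

namespace Cfsg.Agent.S4281

open CA.Chev Cfsg.Lie

noncomputable def Oa := (tb8 [0x20406080a070504, 0x8181818181808000, 0x81818181808000, 0x818181808000, 0x8181808000, 0x81808000, 0x808000, 0x18000, 0x800100, 0x10100, 0x2010100, 0x202010100, 0x20202010100, 0x2020202010100, 0x202020202010100, 0x8183858789868483])
theorem cena : cenChk tabE8 2 254 16 Oa (nb 0x1000000000000000000000000000000) (nb 0xd0d0c0b0a0908070605040302010000) (getN [0, 13, 12, 11, 10, 9, 8, 7, 7, 6, 5, 4, 3, 2, 1, 14]) 56 = true := by decide +kernel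
theorem pc254 : poinChk tabE8 254 13 126 (nb 0x10203040506070708090a0b0c0d)
    [1, 1, 1, 1, 1, 1, 2, 1, 1, 1, 1, 1, 1] = true := by decide +kernel
theorem pc126 : poinChk tabE8 126 12 62 (nb 0x10203040506060708090a0b00)
    [1, 1, 1, 1, 1, 2, 1, 1, 1, 1, 1] = true := by decide +kernel
noncomputable def Ob := (tb8 [0x203040506040302, 0x8182838485838281])
theorem cenb : cenChk tabE8 2 127 2 Ob (nb 0x0) (nb 0x0) (getN [0, 1]) 64 = true := by decide +kernel
theorem sgn : sgnChk tabE8 (Oa 0) (Ob 0) (nb 0xe0e7e1e9a8e8adeadfe6bbbbdaceb1ebcecec4c4d5cecbc4dee5bebed9ceb4ecd3d3c9c9d1d3c7c9d7d7b7a1dc78c1c9d0d0c6c6d4d0cac6dde4c0c0d8d0b6edd5d5cbcbced5c4cbd9d9b49ede7dbecba88cad97e086e192dadab19bdf81bbcbd4d4cacad0d4c6cad8d8b6a0dd7ac0cad1d1c7c7d3d1c9c7dce3c1c1d7d1b7eee0e7e1e9a7e8aceadfe6babadacdb0ebcdcdc3c3d5cdcbc3dee5bdbdd9cdb3ecd2d2c8c8d1d2c7c8d6d6b7a1db00c1c8cfcfc5c5d4cfcac5dde4bfbfd8cfb5ede0e7e1e9a6e8abeadfe6b9b9daccafebccccc2c2d5cccbc2dee5bcbcd9ccb2ece0e7e1e9a5e8aaeadfe6b8b8daccaeebe0e7e1e9a4e8a9eaa200e1e9a3e8e100)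
    (nb 0x525252520652065252520607521b0652060706075203520352520607520b06520607060752035203060752520652520b060706075203520352520607520b06520607060752035203060752520652520b5252525206520652060752520652521b0607060752035203060752520652520b060706075203520352520607520b0652d2d2d2d206d206d2d2d20607d21b06d206070607d203d203d2d20607d20b06d206070607d203d2030607d2d20600d20b06070607d203d203d2d20607d20b06d2929292920692069292920607921b0692060706079203920392920607920b0692b2b2b2b206b206b2b2b20607b23b06b2a2a2a2a206a206a20600aaaa06aaae00)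
    (nb 0x1010101010101010101010201020101010201020102010201010102010201010102010201020102010201010101010201020102010201020101010201020101010201020102010201020101010101020101010101010101010201010101010201020102010201020102010101010102010201020102010201010102010201010202020201020102020201020202010201020102020202020202010202020102010201020202020201020202010002020102010202020202020201020202010202020202010201020202010202020102010201020202020202020102020201020202020201020102020201020202010202020202010201020100020201020200) = true := by decide +kernel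

/-- In the Chevalley group of type E₈ over a finite field of odd order q there are exactly two conjugacy classes of involutions; the centralizer of an involution in one class has order q⁵⁶(q⁸ − 1)·∏_{i=1}^{7}(q^{2i} − 1), and in the other class q⁶⁴(q² − 1)²(q⁶ − 1)(q⁸ − 1)(q¹⁰ − 1)(q¹² − 1)(q¹⁴ − 1)(q¹⁸ − 1). -/
theorem result {F : Type*} [Field F] [Fintype F] (hF : Odd (Fintype.card F)) : ∃ s t : ↥(Cfsg.Lie.chevE8.group F), orderOf s = 2 ∧ orderOf t = 2 ∧ ¬ IsConj s t ∧ (∀ u : ↥(Cfsg.Lie.chevE8.group F), orderOf u = 2 → IsConj u s ∨ IsConj u t) ∧ Nat.card (Subgroup.centralizer ({s} : Set ↥(Cfsg.Lie.chevE8.group F))) = Fintype.card F ^ 56 * (Fintype.card F ^ 8 - 1) * ∏ i ∈ Finset.Icc 1 7, (Fintype.card F ^ (2 * i) - 1) ∧ Nat.card (Subgroup.centralizer ({t} : Set ↥(Cfsg.Lie.chevE8.group F))) = Fintype.card F ^ 64 * (Fintype.card F ^ 2 - 1) ^ 2 * (Fintype.card F ^ 6 - 1) * (Fintype.card F ^ 8 - 1) * (Fintype.card F ^ 10 - 1) * (Fintype.card F ^ 12 - 1) * (Fintype.card F ^ 14 - 1) * (Fintype.card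 F ^ 18 - 1) := by
  have h0 : 1 < Fintype.card F := Fintype.one_lt_card
  have h5 : ∀ k, 1 ≤ Fintype.card F ^ k := fun k => Nat.one_le_pow k _ h0.le
  refine (invol_classes (by simp) hF tor_injective_E8 tor_injective_E8 tab_E8 cena cenb sgn (by decide +kernel)
    (by decide +kernel) ?_ ?_).imp fun s => .imp fun t h => ⟨h.1, h.2.1, fun e => ?_, h.2.2.2⟩
  rotate_left 2
  · have := h.2.2.1 e
    simp only [mul_assoc] at this
    exact pow_mul_ne h0 (by decide) (by exact .mul_left (coprime_pow_sub_one h0 (by decide)) (.prod_left fun i hi =>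
      coprime_pow_sub_one h0 (by have := (Finset.mem_Icc.1 hi).1; omega))) this
  on_goal 1 => rw [poin_of_chk tab_E8 pc254, poin_of_chk tab_E8 pc126, poin_of_chk tab_E8 pc3_E8, poin_of_chk tab_E8 pc4_E8, poin_of_chk tab_E8 pc5_E8, poin_of_chk tab_E8 pc6_E8, poin_of_chk tab_E8 pc7_E8]
  on_goal 2 => rw [poin_of_chk tab_E8 pc1_E8, poin_of_chk tab_E8 pc2_E8, poin_of_chk tab_E8 pc3_E8, poin_of_chk tab_E8 pc4_E8, poin_of_chk tab_E8 pc5_E8, poin_of_chk tab_E8 pc6_E8, poin_of_chk tab_E8 pc7_E8]
  all_goals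
    simp only [evalL, List.foldr, Finset.sum_range_succ, Finset.sum_range_zero, getN_eq, show tabE8.l = 8 from rfl,
      List.getD_cons_succ, List.getD_cons_zero, JM_zero, poin_empty,
      show Finset.Icc 1 7 = {1, 2, 3, 4, 5, 6, 7} from rfl, Finset.prod_insert, Finset.mem_insert,
      Finset.mem_singleton, Nat.reduceEqDiff, or_self, not_false_eq_true, Finset.prod_singleton]
    zify [h0.le, h5]
    ring

end Cfsg.Agent.S4281
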