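import Cfsg.Statements.S4321
import Cfsg.Agent.Lib.Grp.H8Cls

set_option autoImplicit false
open Cfsg

namespace Cfsg.Agent.S4321

open Subgroup CA.BG CA.H8Cls

/-- Let `G` be a finite group and `p` a prime not dividing the order of the centre of `G`. Consider the primes dividing the size of some conjugacy class of a `p`-singular element (an element of order divisible by `p`), two of them adjacent when their product divides such a class size. Then any two distinct such primes are joined by a path with at most 3 edges (the graph is connected of diameter at most 3). -/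
theorem result {G : Type*} [Group G] [Finite G] (p : ℕ) [Fact p.Prime]
    (hZ : ¬ p ∣ Nat.card ↥(Subgroup.center G)) (r s : ℕ) (hr : (r.Prime ∧ ∃ x : G, p ∣ orderOf x ∧ r ∣ (Subgroup.centralizer ({x} : Set G)).index)) (hs : (s.Prime ∧ ∃ x : G, p ∣ orderOf x ∧ s ∣ (Subgroup.centralizer ({x} : Set G)).index)) (hrs : r ≠ s) :
    (∃ x : G, p ∣ orderOf x ∧ r * s ∣ (Subgroup.centralizer ({x} : Set G)).index) ∨ (∃ t : ℕ, (t.Prime ∧ ∃ x : G, p ∣ orderOf x ∧ t ∣ (Subgroup.centralizer ({x} : Set G)).index) ∧ t ≠ r ∧ t ≠ s ∧ (∃ x : G, p ∣ orderOf x ∧ r * t ∣ (Subgroup.centralizer ({x} : Set G)).index) ∧ (∃ x : G, p ∣ orderOf x ∧ t * s ∣ (Subgroup.centralizer ({x} : Set G)).index)) ∨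
      (∃ t u : ℕ, (t.Prime ∧ ∃ x : G, p ∣ orderOf x ∧ t ∣ (Subgroup.centralizer ({x} : Set G)).index) ∧ (u.Prime ∧ ∃ x : G, p ∣ orderOf x ∧ u ∣ (Subgroup.centralizer ({x} : Set G)).index) ∧ t ≠ r ∧ u ≠ s ∧ t ≠ u ∧ (∃ x : G, p ∣ orderOf x ∧ r * t ∣ (Subgroup.centralizer ({x} : Set G)).index) ∧ (∃ x : G, p ∣ orderOf x ∧ t * u ∣ (Subgroup.centralizer ({x} : Set G)).index) ∧ (∃ x : G, p ∣ orderOf x ∧ u * s ∣ (Subgroup.centralizer ({x} : Set G)).index)) := by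
  let V : ℕ → Prop := fun a => a.Prime ∧ ∃ g : G, p ∣ orderOf g ∧ a ∣ 𝓒₁(g).index
  let C : ℕ → ℕ → Prop := fun a b => ∃ g : G, p ∣ orderOf g ∧ a ∣ 𝓒₁(g).index ∧ b ∣ 𝓒₁(g).index
  have sy : ∀ {a b}, C a b → C b a := fun ⟨g, h, a, b⟩ => ⟨g, h, b, a⟩
  obtain ⟨t, u, ht, hu, h1, h2, h3⟩ : ∃ t u : ℕ, t.Prime ∧ u.Prime ∧ C r t ∧ C t u ∧ C u s := by
    obtain ⟨hr, x, x1, x2⟩ := hr
    obtain ⟨hs, y, y1, y2⟩ := hs
    by_cases a : ∀ z : G, p ∣ orderOf z → s ∣ 𝓒₁(z).index → ¬ p ∣ 𝓒₁(z).index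
    · exact sing_path hZ hs hr y1 y2 x1 x2 a
    by_cases b : ∀ z : G, p ∣ orderOf z → r ∣ 𝓒₁(z).index → ¬ p ∣ 𝓒₁(z).index
    · obtain ⟨t, u, ht, hu, h1, h2, h3⟩ := sing_path hZ hr hs x1 x2 y1 y2 b
      exact ⟨u, t, hu, ht, sy h3, sy h2, sy h1⟩
    push Not at a b
    obtain ⟨g, a1, a2, a3⟩ := a
    obtain ⟨z, b1, b2, b3⟩ := b
    exact ⟨p, p, Fact.out, Fact.out, ⟨z, b1, b2, b3⟩, ⟨z, b1, b3, b3⟩, g, a1, a3, a2⟩
  have v : ∀ {a b}, a.Prime → C a b → V a := fun h ⟨g, a, b, _⟩ => ⟨h, g, a, b⟩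
  exact (path3 (V := V) (E := fun a b => ∃ g : G, p ∣ orderOf g ∧ a * b ∣ 𝓒₁(g).index)
    (fun a b ha hb ne ⟨g, o, c, d⟩ => ⟨g, o, ((Nat.coprime_primes ha.1 hb.1).2 ne).mul_dvd_of_dvd_of_dvd c d⟩)
    hr (v ht h2) (v hu h3) hs hrs h1 h2 h3).imp_right (Or.imp_right fun ⟨t, u, a, b, c, d, e, _, _, f⟩ =>
      ⟨t, u, a, b, c, d, e, f⟩)

end Cfsg.Agent.S4321
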