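import Cfsg.Statements.S4348
import Cfsg.Agent.Lib.Grp.L0Syl

set_option autoImplicit false
open Cfsg

namespace Cfsg.Agent.S4348

open Subgroup CA.L0Syl CA.SylIn

/-- Let G be a finite group, p a prime and P a Sylow p-subgroup of G, and let O_p(G) be the largest normal p-subgroup of G. If P/O_p(G) is cyclic, then some element of p-power order of G lies in exactly one Sylow p-subgroup. -/
theorem result {G : Type*} [Group G] [Finite G]
    (p : ℕ) [Fact p.Prime] (P : Sylow p G)
    [hn : ((Cfsg.pCore p G).subgroupOf (P : Subgroup G)).Normal]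
    (hc : IsCyclic ((P : Subgroup G) ⧸ (Cfsg.pCore p G).subgroupOf (P : Subgroup G))) :
    ∃ x : G, (∃ k : ℕ, orderOf x = p ^ k) ∧ ∃! Q : Sylow p G, x ∈ Q := by
  obtain ⟨a, ha⟩ := hc.exists_generator
  obtain ⟨x, rfl⟩ := QuotientGroup.mk_surjective a
  refine ⟨x, pElt_of_mem P.isPGroup' x.2, P, x.2, fun Q hQ => ?_⟩
  have hle : (P : Subgroup G) ≤ Q := by
    intro y hy
    obtain ⟨n, hn⟩ := ha (QuotientGroup.mk ⟨y, hy⟩)
    have h1 : ((x ^ n : (P : Subgroup G)) : (P : Subgroup G) ⧸ (Cfsg.pCore p G).subgroupOf P) = QuotientGroup.mk ⟨y, hy⟩ := by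
      rw [← hn]; rfl
    rw [QuotientGroup.eq, mem_subgroupOf] at h1
    have h2 := pCore_le_sylow Q h1
    have h3 : ((x ^ n : (P : Subgroup G)) : G) ∈ (Q : Subgroup G) := by
      rw [coe_zpow]; exact zpow_mem hQ n
    simpa using mul_mem h3 h2
  exact (Sylow.ext (P.is_maximal' Q.isPGroup' hle))

end Cfsg.Agent.S4348
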