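import Cfsg.Statements.S4349

set_option autoImplicit false
open Cfsg

namespace Cfsg.Agent.S4349

open Subgroup Equiv Equiv.Perm
open scoped Nat

/-- at most two fixed points, and nontrivial cycles have different lengths -/
def Cond {α : Type} (x : Perm α) : Prop :=
  (∀ a b c, x a = a → x b = b → x c = c → a = b ∨ a = c ∨ b = c) ∧
  (∀ u v, x u ≠ u → (∀ k : ℕ, (x ^ k) u = u ↔ (x ^ k) v = v) → ∃ j : ℕ, (x ^ j) u = v)

theorem step {G G' : Type*} [Group G] [Group G'] (H : Subgroup G) (ψ : H →* G')
    (hk : IsPGroup 2 ψ.ker) (P Q : Subgroup G) (hP : P ≤ H) (hQ : Q ≤ H)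
    (h : IsPGroup 2 ((P.subgroupOf H).map ψ ⊔ (Q.subgroupOf H).map ψ : Subgroup G')) :
    IsPGroup 2 (P ⊔ Q : Subgroup G) := by
  refine ((h.comap_of_ker_isPGroup ψ hk).map H.subtype).to_le (sup_le ?_ ?_)
  · intro g hg
    exact ⟨⟨g, hP hg⟩, mem_sup_left (mem_map_of_mem ψ hg), rfl⟩
  · intro g hg
    exact ⟨⟨g, hQ hg⟩, mem_sup_right (mem_map_of_mem ψ hg), rfl⟩

section
variable {α : Type} {m : Perm α}

/-- the pairs of an involution -/
def st (hm : ∀ u, m (m u) = u) : Setoid α where
  r u v := v = u ∨ v = m u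
  iseqv := ⟨fun _ => Or.inl rfl, fun {a b} h => by
      rcases h with rfl | rfl
      · exact Or.inl rfl
      · exact Or.inr (hm _).symm,
    fun {a b c} h1 h2 => by
      rcases h1 with rfl | rfl <;> rcases h2 with rfl | rfl
      · exact Or.inl rfl
      · exact Or.inr rfl
      · exact Or.inr rfl
      · exact Or.inl (hm _)⟩

theorem cen_apply (g : centralizer ({m} : Set (Perm α))) (u : α) : g.1 (m u) = m (g.1 u) :=
  congrArg (fun e : Perm α => e u) (mem_centralizer_singleton_iff.1 g.2)

/-- action on the pairs -/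
@[reducible] def qact (hm : ∀ u, m (m u) = u) :
    MulAction (centralizer ({m} : Set (Perm α))) (Quotient (st hm)) where
  smul g := Quotient.map g.1 (fun a b h => by
    rcases h with rfl | rfl
    · exact Or.inl rfl
    · exact Or.inr (cen_apply g a))
  one_smul q := by induction q using Quotient.inductionOn; rfl
  mul_smul a b q := by induction q using Quotient.inductionOn; rfl

/-- the homomorphism to the permutations of the pairs -/
def qhom (hm : ∀ u, m (m u) = u) :
    centralizer ({m} : Set (Perm α)) →* Perm (Quotient (st hm)) :=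
  @MulAction.toPermHom _ _ _ (qact hm)

theorem qhom_apply (hm : ∀ u, m (m u) = u) (g : centralizer ({m} : Set (Perm α))) (u : α) :
    qhom hm g (Quotient.mk _ u) = Quotient.mk _ (g.1 u) := rfl

theorem mk_eq (hm : ∀ u, m (m u) = u) (u v : α) :
    (Quotient.mk (st hm) v = Quotient.mk _ u) ↔ (v = u ∨ v = m u) :=
  ⟨fun h => Quotient.exact h.symm, fun h => (Quotient.sound (s := st hm) h).symm⟩

theorem mem_qker (hm : ∀ u, m (m u) = u) (g : centralizer ({m} : Set (Perm α))) :
    g ∈ (qhom hm).ker ↔ ∀ u, g.1 u = u ∨ g.1 u = m u := by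
  rw [MonoidHom.mem_ker]
  constructor
  · intro h u
    rw [← mk_eq hm, ← qhom_apply, h]; rfl
  · intro h
    ext q
    induction q using Quotient.inductionOn
    rw [qhom_apply]
    exact (mk_eq hm _ _).2 (h _)

theorem qker_p (hm : ∀ u, m (m u) = u) : IsPGroup 2 (qhom hm).ker := by
  intro g
  refine ⟨1, Subtype.ext (Subtype.ext ?_)⟩
  ext u
  change g.1.1 (g.1.1 u) = u
  rcases (mem_qker hm _).1 g.2 u with h | h
  · rw [h, h]
  · rw [h, cen_apply, h, hm]

theorem exists_syl [DecidableEq α] {x : Perm α} (hx : IsPGroup 2 (zpowers x))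
    (hm : ∀ u, m (m u) = u) (hc : x * m = m * x) (u : α) :
    ∃ P : Sylow 2 (Perm α), x ∈ P ∧ swap u (m u) ∈ P := by
  haveI : Fact (Nat.Prime 2) := ⟨Nat.prime_two⟩
  have hx' : x ∈ centralizer ({m} : Set (Perm α)) := mem_centralizer_singleton_iff.2 hc
  have hs : swap u (m u) ∈ centralizer ({m} : Set (Perm α)) := by
    rw [mem_centralizer_singleton_iff, mul_swap_eq_swap_mul, hm, swap_comm]
  have h1 : IsPGroup 2 ((zpowers x).subgroupOf (centralizer ({m} : Set (Perm α)))) :=
    hx.comap_of_injective _ (subtype_injective _)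
  have h2 := (h1.to_sup_of_normal_right (qker_p hm)).map (centralizer ({m} : Set (Perm α))).subtype
  obtain ⟨P, hP⟩ := h2.exists_le_sylow
  refine ⟨P, hP ⟨⟨x, hx'⟩, mem_sup_left (mem_zpowers x), rfl⟩,
    hP ⟨⟨_, hs⟩, mem_sup_right ((mem_qker hm _).2 fun v => ?_), rfl⟩⟩
  change swap u (m u) v = v ∨ swap u (m u) v = m v
  by_cases h1 : v = u
  · right; rw [h1, swap_apply_left]
  by_cases h2 : v = m u
  · right; rw [h2, swap_apply_right, hm]
  · left; exact swap_apply_of_ne_of_ne h1 h2

theorem not_both [DecidableEq α] [Fintype α] {P : Subgroup (Perm α)} (hP : IsPGroup 2 P) {a b c : α}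
    (hab : a ≠ b) (hac : a ≠ c) (hbc : b ≠ c) (h1 : swap a b ∈ P) (h2 : swap a c ∈ P) : False := by
  have h3 := (isThreeCycle_swap_mul_swap_same hab hac hbc).orderOf
  obtain ⟨k, hk⟩ := hP ⟨_, P.mul_mem h1 h2⟩
  have h4 : (swap a b * swap a c) ^ 2 ^ k = 1 := congrArg Subtype.val hk
  have h5 := orderOf_dvd_of_pow_eq_one h4
  rw [h3] at h5
  exact absurd (Nat.prime_three.dvd_of_dvd_pow h5) (by norm_num)

theorem pow_comm_apply {x : Perm α} (hc : x * m = m * x) (k : ℕ) (u : α) :
    (x ^ k) (m u) = m ((x ^ k) u) :=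
  congrArg (fun e : Perm α => e u) ((show Commute x m from hc).pow_left k)

theorem half [Finite α] {x : Perm α} (hx : Cond x) (hm : ∀ u, m (m u) = u) (hf : ∀ u, m u ≠ u)
    (hc : x * m = m * x) {u : α} (hu : x u ≠ u) :
    ∃ h : ℕ, MulAction.period x u = 2 * h ∧ m u = (x ^ h) u := by
  obtain ⟨j, hj⟩ := hx.2 u (m u) hu (fun k => by
    rw [pow_comm_apply hc, m.injective.eq_iff])
  have hpos : 0 < MulAction.period x u := MulAction.period_pos_of_orderOf_pos (orderOf_pos x) u
  have h1 : (x ^ (j % MulAction.period x u)) u = m u := by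
    rw [← hj]; exact MulAction.pow_mod_period_smul (m := x) (a := u) j
  refine ⟨j % MulAction.period x u, ?_, h1.symm⟩
  have h2 : MulAction.period x u ∣ 2 * (j % MulAction.period x u) := by
    rw [← MulAction.pow_smul_eq_iff_period_dvd, two_mul, pow_add]
    change (x ^ _) ((x ^ _) u) = u
    rw [h1, pow_comm_apply hc, h1, hm]
  have h3 : j % MulAction.period x u ≠ 0 := by
    intro h; rw [h] at h1; exact hf u h1.symm
  have h4 := Nat.mod_lt j hpos
  obtain ⟨t, ht⟩ := h2
  have h5 : t = 1 := by
    rcases t with _ | _ | t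
    · omega
    · rfl
    · nlinarith
  rw [h5] at ht; omega

theorem uniq [Finite α] {x m' : Perm α} (hx : Cond x) (hm : ∀ u, m (m u) = u) (hf : ∀ u, m u ≠ u)
    (hc : x * m = m * x) (hm' : ∀ u, m' (m' u) = u) (hf' : ∀ u, m' u ≠ u)
    (hc' : x * m' = m' * x) : m = m' := by
  ext u
  by_cases hu : x u = u
  · have h1 : x (m u) = m u := by
      have := pow_comm_apply hc 1 u
      rw [pow_one, hu] at this; exact this
    have h2 : x (m' u) = m' u := by
      have := pow_comm_apply hc' 1 u
      rw [pow_one, hu] at this; exact this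
    rcases hx.1 _ _ _ hu h1 h2 with h | h | h
    · exact absurd h.symm (hf u)
    · exact absurd h.symm (hf' u)
    · exact h
  · obtain ⟨h, h1, h2⟩ := half hx hm hf hc hu
    obtain ⟨h', h1', h2'⟩ := half hx hm' hf' hc' hu
    rw [h2, h2', show h = h' by omega]

theorem qcond [Finite α] {x : Perm α} (hx : Cond x) (hm : ∀ u, m (m u) = u) (hf : ∀ u, m u ≠ u)
    (hc : x ∈ centralizer ({m} : Set (Perm α))) : Cond (qhom hm ⟨x, hc⟩) := by
  have hc' : x * m = m * x := mem_centralizer_singleton_iff.1 hc
  have hpow : ∀ (k : ℕ) (u : α), (qhom hm ⟨x, hc⟩ ^ k) (Quotient.mk _ u) =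
      Quotient.mk _ ((x ^ k) u) := fun k u => by rw [← map_pow]; rfl
  have key : ∀ u, x u ≠ u → ∃ h : ℕ, MulAction.period x u = 2 * h ∧ ∀ k : ℕ,
      ((qhom hm ⟨x, hc⟩ ^ k) (Quotient.mk _ u) = Quotient.mk _ u ↔ h ∣ k) := by
    intro u hu
    obtain ⟨h, h1, h2⟩ := half hx hm hf hc' hu
    refine ⟨h, h1, fun k => ?_⟩
    rw [hpow, mk_eq, h2]
    have e : ∀ k, (x ^ k) u = u ↔ 2 * h ∣ k := fun k => by
      rw [← h1, ← MulAction.pow_smul_eq_iff_period_dvd]; rfl
    constructor
    · rintro (h3 | h3)
      · exact (Dvd.intro_left 2 rfl).trans ((e k).1 h3)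
      · have h4 : (x ^ (h + k)) u = u := by
          rw [pow_add, mul_apply, h3, ← mul_apply, ← pow_add, e, two_mul]
        have h5 := (Dvd.intro_left 2 rfl).trans ((e _).1 h4)
        exact (Nat.dvd_add_right (dvd_refl h)).1 h5
    · rintro ⟨t, rfl⟩
      rcases Nat.even_or_odd' t with ⟨s, rfl | rfl⟩
      · left; rw [e]; exact ⟨s, by ring⟩
      · right
        rw [show h * (2 * s + 1) = h + 2 * h * s by ring, pow_add, mul_apply,
          (e _).2 (Dvd.intro s rfl)]
  have two : ∀ a b : α, qhom hm ⟨x, hc⟩ (Quotient.mk _ a) = Quotient.mk _ a →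
      qhom hm ⟨x, hc⟩ (Quotient.mk _ b) = Quotient.mk _ b → (x a = a ↔ x b = b) →
      Quotient.mk (st hm) a = Quotient.mk _ b := by
    intro a b ha hb hab
    by_cases h : x a = a
    · have h1 : x (m b) = m b := by
        have := pow_comm_apply hc' 1 b
        rw [pow_one, hab.1 h] at this; exact this
      rcases hx.1 _ _ _ h (hab.1 h) h1 with h | h | h
      · rw [h]
      · exact (mk_eq hm _ _).2 (Or.inr h)
      · exact absurd h.symm (hf b)
    · have h' : x b ≠ b := fun h' => h (hab.2 h')
      obtain ⟨s, hs1, hs2⟩ := key a h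
      obtain ⟨t, ht1, ht2⟩ := key b h'
      have hs : s = 1 := Nat.dvd_one.1 ((hs2 1).1 (by rw [pow_one]; exact ha))
      have ht : t = 1 := Nat.dvd_one.1 ((ht2 1).1 (by rw [pow_one]; exact hb))
      obtain ⟨j, hj⟩ := hx.2 a b h (fun k => by
        have e1 := MulAction.pow_smul_eq_iff_period_dvd (m := x) (a := a) (n := k)
        have e2 := MulAction.pow_smul_eq_iff_period_dvd (m := x) (a := b) (n := k)
        rw [hs1, hs] at e1
        rw [ht1, ht] at e2
        exact e1.trans e2.symm)
      rw [← hj, ← hpow, (hs2 j).2 (hs ▸ one_dvd j)]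
  constructor
  · intro a b c ha hb hc
    induction a using Quotient.inductionOn with | _ a => ?_
    induction b using Quotient.inductionOn with | _ b => ?_
    induction c using Quotient.inductionOn with | _ c => ?_
    by_cases h1 : (x a = a ↔ x b = b)
    · exact Or.inl (two a b ha hb h1)
    by_cases h2 : (x a = a ↔ x c = c)
    · exact Or.inr (Or.inl (two a c ha hc h2))
    · exact Or.inr (Or.inr (two b c hb hc (by tauto)))
  · intro u v hu huv
    induction u using Quotient.inductionOn with | _ u => ?_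
    induction v using Quotient.inductionOn with | _ v => ?_
    have hv : qhom hm ⟨x, hc⟩ (Quotient.mk _ v) ≠ Quotient.mk _ v := fun h => by
      apply hu
      have := (huv 1).2 (by rw [pow_one]; exact h)
      rwa [pow_one] at this
    have hu' : x u ≠ u := fun h => hu (by rw [qhom_apply]; exact congrArg _ h)
    have hv' : x v ≠ v := fun h => hv (by rw [qhom_apply]; exact congrArg _ h)
    obtain ⟨s, hs1, hs2⟩ := key u hu'
    obtain ⟨t, ht1, ht2⟩ := key v hv'
    have hst : s = t := Nat.dvd_antisymm ((hs2 t).1 ((huv t).2 ((ht2 t).2 dvd_rfl)))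
      ((ht2 s).1 ((huv s).1 ((hs2 s).2 dvd_rfl)))
    obtain ⟨j, hj⟩ := hx.2 u v hu' (fun k => by
      have e1 := MulAction.pow_smul_eq_iff_period_dvd (m := x) (a := u) (n := k)
      have e2 := MulAction.pow_smul_eq_iff_period_dvd (m := x) (a := v) (n := k)
      rw [hs1, hst] at e1
      rw [ht1] at e2
      exact e1.trans e2.symm)
    exact ⟨j, by rw [hpow, hj]⟩

theorem odd_df (j : ℕ) : ¬ 2 ∣ (2 * j + 1)‼ := by
  induction j with
  | zero => decide
  | succ j ih =>
    rw [show 2 * (j + 1) + 1 = (2 * j + 1) + 2 by ring, Nat.doubleFactorial_add_two,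
      Nat.prime_two.dvd_mul]
    rintro (h | h)
    · omega
    · exact ih h

theorem exists_fpf [Fintype α] [DecidableEq α] {j : ℕ} (hα : Fintype.card α = 2 * (j + 1))
    {P : Subgroup (Perm α)} (hP : IsPGroup 2 P) :
    ∃ m : Perm α, (∀ u, m (m u) = u) ∧ (∀ u, m u ≠ u) ∧ P ≤ centralizer {m} := by
  haveI : Fact (Nat.Prime 2) := ⟨Nat.prime_two⟩
  letI : MulAction P {g : Perm α // g.cycleType = Multiset.replicate (j + 1) 2} :=
    { smul := fun y q => ⟨y * q * (y : Perm α)⁻¹, by rw [cycleType_conj, q.2]⟩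
      one_smul := fun q => Subtype.ext (by
        change ((1 : P) : Perm α) * q * ((1 : P) : Perm α)⁻¹ = q
        simp)
      mul_smul := fun a b q => Subtype.ext (by
        change ((a * b : P) : Perm α) * q * ((a * b : P) : Perm α)⁻¹ =
          a * (b * q * (b : Perm α)⁻¹) * (a : Perm α)⁻¹
        simp only [Subgroup.coe_mul]; group) }
  have hc : ¬ 2 ∣ Nat.card {g : Perm α // g.cycleType = Multiset.replicate (j + 1) 2} := by
    have h1 := card_of_cycleType_mul_eq α (Multiset.replicate (j + 1) 2)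
    rw [if_pos ⟨by simp [hα]; omega, fun a ha => (Multiset.eq_of_mem_replicate ha).ge⟩,
      Multiset.toFinset_replicate, if_neg (Nat.succ_ne_zero j), Finset.prod_singleton,
      Multiset.count_replicate_self, Multiset.sum_replicate, Multiset.prod_replicate, hα,
      smul_eq_mul, mul_comm (j + 1) 2, Nat.sub_self, Nat.factorial_zero, one_mul,
      ← Nat.doubleFactorial_two_mul, show 2 * (j + 1) = (2 * j + 1) + 1 by ring,
      Nat.factorial_eq_mul_doubleFactorial, mul_comm] at h1
    have h2 := Nat.eq_of_mul_eq_mul_left (Nat.doubleFactorial_pos _) h1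
    rw [Nat.card_eq_fintype_card, Fintype.card_subtype, h2]
    exact odd_df j
  obtain ⟨m, hm⟩ := hP.nonempty_fixed_point_of_prime_not_dvd_card _ hc
  refine ⟨m.1, fun u => ?_, fun u => ?_, fun g hg => ?_⟩
  · have : m.1 ^ 2 = 1 := pow_prime_eq_one_iff.2 fun c hc => by
      rw [m.2] at hc; exact Multiset.eq_of_mem_replicate hc
    exact congrArg (fun e : Perm α => e u) this
  · have h1 := m.1.sum_cycleType
    rw [m.2, Multiset.sum_replicate, smul_eq_mul, mul_comm, ← hα] at h1
    have h2 : m.1.support = Finset.univ := Finset.eq_univ_of_card _ h1.symm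
    rw [← mem_support, h2]; exact Finset.mem_univ _
  · have h1 : g * m.1 * g⁻¹ = m.1 := congrArg Subtype.val (hm ⟨g, hg⟩)
    rw [mem_centralizer_singleton_iff]
    calc g * m.1 = g * m.1 * g⁻¹ * g := by group
      _ = m.1 * g := by rw [h1]

end

theorem main (n : ℕ) : ∀ (α : Type) [Finite α], Nat.card α = n →
    ∀ (x : Perm α) (P Q : Subgroup (Perm α)), Cond x → x ∈ P → x ∈ Q → IsPGroup 2 P →
      IsPGroup 2 Q → IsPGroup 2 (P ⊔ Q : Subgroup (Perm α)) := by
  induction n using Nat.strong_induction_on with | _ n ih => ?_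
  intro α _ hα x P Q hx hxP hxQ hP hQ
  classical
  haveI : Fact (Nat.Prime 2) := ⟨Nat.prime_two⟩
  haveI := Fintype.ofFinite α
  rcases Nat.even_or_odd' n with ⟨j, hj | hj⟩
  · rcases j with _ | j
    · haveI : IsEmpty α := Finite.card_eq_zero_iff.1 (by rw [hα, hj])
      intro g
      exact ⟨0, Subsingleton.elim _ _⟩
    have hα' : Fintype.card α = 2 * (j + 1) := by rw [← hj, ← hα, Nat.card_eq_fintype_card]
    obtain ⟨m, hm, hf, hPm⟩ := exists_fpf hα' hP
    obtain ⟨m', hm', hf', hQm⟩ := exists_fpf hα' hQ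
    have := uniq hx hm hf (mem_centralizer_singleton_iff.1 (hPm hxP)) hm' hf'
      (mem_centralizer_singleton_iff.1 (hQm hxQ))
    subst this
    refine step _ (qhom hm) (qker_p hm) P Q hPm hQm ?_
    refine ih _ ?_ (Quotient (st hm)) rfl (qhom hm ⟨x, hPm hxP⟩) _ _ (qcond hx hm hf _)
      (mem_map_of_mem _ hxP) (mem_map_of_mem _ hxQ)
      ((hP.comap_of_injective _ (subtype_injective _)).map _)
      ((hQ.comap_of_injective _ (subtype_injective _)).map _)
    haveI := Fintype.ofFinite (Quotient (st hm))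
    rw [← hα, Nat.card_eq_fintype_card, Nat.card_eq_fintype_card]
    refine Fintype.card_lt_of_surjective_not_injective (Quotient.mk _) Quotient.mk_surjective ?_
    intro h
    obtain ⟨u⟩ : Nonempty α := Fintype.card_pos_iff.1 (by rw [hα']; omega)
    exact hf u (h ((mk_eq hm u (m u)).2 (Or.inr rfl)))
  · have hodd : ¬ 2 ∣ Nat.card α := by rw [hα, hj]; omega
    obtain ⟨a, ha⟩ := hP.nonempty_fixed_point_of_prime_not_dvd_card α hodd
    obtain ⟨b, hb⟩ := hQ.nonempty_fixed_point_of_prime_not_dvd_card α hodd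
    have hxa : x a = a := ha ⟨x, hxP⟩
    have hxb : x b = b := hb ⟨x, hxQ⟩
    have hab : a = b := by
      by_contra hne
      have h1 : IsPGroup 2 (zpowers x) := hP.to_le (zpowers_le.2 hxP)
      have h2 := h1.card_modEq_card_fixedPoints α
      have h3 : MulAction.fixedPoints (zpowers x) α = {a, b} := by
        ext c
        constructor
        · intro hc
          have hxc : x c = c := hc ⟨x, mem_zpowers x⟩
          rcases hx.1 _ _ _ hxa hxb hxc with h | h | h
          · exact absurd h hne
          · exact Or.inl h.symm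
          · exact Or.inr h.symm
        · rintro (rfl | rfl)
          · rintro ⟨_, k, rfl⟩; exact zpow_apply_eq_self_of_apply_eq_self hxa k
          · rintro ⟨_, k, rfl⟩; exact zpow_apply_eq_self_of_apply_eq_self hxb k
      rw [h3, Nat.card_coe_set_eq, Set.ncard_pair hne] at h2
      exact hodd ((Nat.modEq_zero_iff_dvd).1 (h2.trans (by decide)))
    subst hab
    let ψ := MulAction.toPermHom (MulAction.stabilizer (Perm α) a)
      (SubMulAction.ofStabilizer (Perm α) a)
    have hψ : ∀ (g : MulAction.stabilizer (Perm α) a) (u : SubMulAction.ofStabilizer (Perm α) a),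
        (ψ g u).1 = g.1 u.1 := fun _ _ => rfl
    have hPa : P ≤ MulAction.stabilizer (Perm α) a := fun g hg => ha ⟨g, hg⟩
    have hQa : Q ≤ MulAction.stabilizer (Perm α) a := fun g hg => hb ⟨g, hg⟩
    have hpow : ∀ (k : ℕ) (u : SubMulAction.ofStabilizer (Perm α) a),
        ((ψ ⟨x, hPa hxP⟩ ^ k) u).1 = (x ^ k) u.1 := fun k u => by rw [← map_pow]; rfl
    refine step _ ψ ?_ P Q hPa hQa ?_
    · intro g
      refine ⟨0, Subtype.ext (Subtype.ext ?_)⟩
      ext u
      change g.1.1 u = u
      by_cases hu : u = a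
      · rw [hu]; exact g.1.2
      · have := hψ g.1 ⟨u, hu⟩
        rw [MonoidHom.mem_ker.1 g.2] at this
        exact this.symm
    refine ih _ ?_ (SubMulAction.ofStabilizer (Perm α) a) rfl (ψ ⟨x, hPa hxP⟩) _ _ ⟨?_, ?_⟩
      (mem_map_of_mem _ hxP) (mem_map_of_mem _ hxQ)
      ((hP.comap_of_injective _ (subtype_injective _)).map _)
      ((hQ.comap_of_injective _ (subtype_injective _)).map _)
    · haveI := Fintype.ofFinite (SubMulAction.ofStabilizer (Perm α) a)
      rw [← hα, Nat.card_eq_fintype_card, Nat.card_eq_fintype_card]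
      refine Fintype.card_lt_of_injective_of_notMem Subtype.val Subtype.val_injective (b := a) ?_
      rintro ⟨u, hu⟩
      exact u.2 hu
    · intro u v w hu hv hw
      rcases hx.1 u.1 v.1 w.1 (congrArg Subtype.val hu) (congrArg Subtype.val hv)
        (congrArg Subtype.val hw) with h | h | h
      · exact Or.inl (Subtype.ext h)
      · exact Or.inr (Or.inl (Subtype.ext h))
      · exact Or.inr (Or.inr (Subtype.ext h))
    · intro u v hu huv
      obtain ⟨j, hj⟩ := hx.2 u.1 v.1 (fun h => hu (Subtype.ext h)) (fun k => by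
        rw [← hpow, ← hpow, ← Subtype.ext_iff, ← Subtype.ext_iff]; exact huv k)
      exact ⟨j, Subtype.ext (by rw [hpow, hj])⟩

/-- Let n ≥ 2 and let x be an element of 2-power order of the symmetric group of degree n. Then x lies in exactly one Sylow 2-subgroup if and only if x has at most two fixed points and the nontrivial cycles of x have pairwise different lengths. -/
theorem result (n : ℕ) (hn : 2 ≤ n)
    (x : Equiv.Perm (Fin n)) (hx : ∃ k : ℕ, orderOf x = 2 ^ k) :
    (∃! P : Sylow 2 (Equiv.Perm (Fin n)), x ∈ P) ↔ (n ≤ x.support.card + 2 ∧ x.cycleType.Nodup) := by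
  haveI : Fact (Nat.Prime 2) := ⟨Nat.prime_two⟩
  obtain ⟨k, hk⟩ := hx
  have hx2 : IsPGroup 2 (zpowers x) := IsPGroup.of_card (by rw [Nat.card_zpowers, hk])
  constructor
  · rintro ⟨P, -, hP⟩
    have key : ∀ m : Perm (Fin n), (∀ u, m (m u) = u) → x * m = m * x → ∀ u,
        swap u (m u) ∈ (P : Subgroup (Perm (Fin n))) := by
      intro m hm hc u
      obtain ⟨Q, h1, h2⟩ := exists_syl hx2 hm hc u
      rw [← hP Q h1]; exact h2
    constructor
    · by_contra h
      have h1 : 2 < (x.supportᶜ).card := by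
        rw [Finset.card_compl, Fintype.card_fin]; omega
      obtain ⟨a, b, c, ha, hb, hc, hab, hac, hbc⟩ := Finset.two_lt_card_iff.1 h1
      rw [Finset.mem_compl, notMem_support] at ha hb hc
      have h2 := key (swap a b) (fun u => swap_apply_self _ _ _)
        (by rw [mul_swap_eq_swap_mul, ha, hb]) a
      have h3 := key (swap a c) (fun u => swap_apply_self _ _ _)
        (by rw [mul_swap_eq_swap_mul, ha, hc]) a
      rw [swap_apply_left] at h2 h3
      exact not_both P.2 hab hac hbc h2 h3
    · rw [cycleType_def, Multiset.nodup_map_iff_inj_on x.cycleFactorsFinset.nodup]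
      intro c hc d hd hcd
      by_contra hne
      have hc' : c ∈ x.cycleFactorsFinset := hc
      have hd' : d ∈ x.cycleFactorsFinset := hd
      have hcd' : c.support.card = d.support.card := hcd
      obtain ⟨a⟩ := Basis.nonempty x
      have hτ : swap (⟨c, hc'⟩ : x.cycleFactorsFinset) ⟨d, hd'⟩ ∈
          OnCycleFactors.range_toPermHom' x := by
        intro e
        by_cases h1 : e = ⟨c, hc'⟩
        · rw [h1, swap_apply_left]; exact hcd'.symm
        by_cases h2 : e = ⟨d, hd'⟩
        · rw [h2, swap_apply_right]; exact hcd'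
        · rw [swap_apply_of_ne_of_ne h1 h2]
      have hu := a.mem_support_self ⟨c, hc'⟩
      set u := a ⟨c, hc'⟩ with hudef
      have hm2 : a.ofPermHom ⟨_, hτ⟩ * a.ofPermHom ⟨_, hτ⟩ = 1 := by
        rw [← map_mul, ← map_one a.ofPermHom]
        congr 1
        exact Subtype.ext (swap_mul_self _ _)
      have h2 := key (a.ofPermHom ⟨_, hτ⟩) (fun v => congrArg (fun e : Perm (Fin n) => e v) hm2)
        (mem_centralizer_singleton_iff.1 (a.ofPermHom_mem_centralizer _)).symm u
      have h3 : a.ofPermHom ⟨_, hτ⟩ u ∈ d.support := by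
        have := (a.ofPermHomFun_apply_mem_support_cycle_iff ⟨_, hτ⟩ (c := ⟨c, hc'⟩)).2 hu
        simp only [swap_apply_left] at this
        exact this
      have hcyc : c.IsCycle := (mem_cycleFactorsFinset_iff.1 hc').1
      have hl : c.support.card ∣ 2 ^ k := by
        rw [← hk]
        exact dvd_of_mem_cycleType (by
          rw [cycleType_def]; exact Multiset.mem_map_of_mem _ hc)
      obtain ⟨i, -, hi⟩ := (Nat.dvd_prime_pow Nat.prime_two).1 hl
      have hi0 : i ≠ 0 := by
        rintro rfl
        have := hcyc.two_le_card_support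
        omega
      obtain ⟨i, rfl⟩ := Nat.exists_eq_succ_of_ne_zero hi0
      have hm1 : c ^ 2 ^ i * c ^ 2 ^ i = 1 := by
        rw [← pow_add, ← two_mul, ← pow_succ', ← hi, ← hcyc.orderOf, pow_orderOf_eq_one]
      have h4 := key (c ^ 2 ^ i) (fun v => congrArg (fun e : Perm (Fin n) => e v) hm1)
        ((self_mem_cycle_factors_commute hc').pow_left _).symm u
      have h5 : (c ^ 2 ^ i) u ∈ c.support := pow_apply_mem_support.2 hu
      have h6 : (c ^ 2 ^ i) u ≠ u := by
        intro h
        have h7 : c ^ 2 ^ i = 1 := (hcyc.pow_eq_one_iff' (mem_support.1 hu)).2 h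
        have h8 := orderOf_dvd_of_pow_eq_one h7
        rw [hcyc.orderOf, hi, Nat.pow_dvd_pow_iff_le_right (by norm_num)] at h8
        omega
      have hdis := (x.cycleFactorsFinset_pairwise_disjoint hc' hd' hne).disjoint_support
      rw [Finset.disjoint_left] at hdis
      refine not_both P.2 h6.symm ?_ ?_ h4 h2
      · intro h; rw [← h] at h3; exact hdis hu h3
      · intro h; rw [← h] at h3; exact hdis h5 h3
  · rintro ⟨h1, h2⟩
    have hC : Cond x := by
      constructor
      · intro a b c ha hb hc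
        by_contra h
        push Not at h
        have h3 : 2 < (x.supportᶜ).card := Finset.two_lt_card_iff.2
          ⟨a, b, c, by simpa using ha, by simpa using hb, by simpa using hc, h.1, h.2.1, h.2.2⟩
        rw [Finset.card_compl, Fintype.card_fin] at h3
        omega
      · intro u v hu huv
        have hv : x v ≠ v := fun h => hu (by
          have := (huv 1).2 (by rw [pow_one]; exact h)
          rwa [pow_one] at this)
        have e : ∀ w, x w ≠ w → ∀ k, (x ^ k) w = w ↔ (x.cycleOf w).support.card ∣ k :=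
          fun w hw k => (x.isCycleOn_support_cycleOf w).pow_apply_eq
            (mem_support_cycleOf_iff.2 ⟨SameCycle.refl _ _, mem_support.2 hw⟩)
        have h3 : (x.cycleOf u).support.card = (x.cycleOf v).support.card :=
          Nat.dvd_antisymm ((e u hu _).1 ((huv _).2 ((e v hv _).2 dvd_rfl)))
            ((e v hv _).1 ((huv _).1 ((e u hu _).2 dvd_rfl)))
        rw [cycleType_def, Multiset.nodup_map_iff_inj_on x.cycleFactorsFinset.nodup] at h2
        have h4 := h2 _ (cycleOf_mem_cycleFactorsFinset_iff.2 (mem_support.2 hu)) _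
          (cycleOf_mem_cycleFactorsFinset_iff.2 (mem_support.2 hv)) h3
        have h5 : v ∈ (x.cycleOf u).support := by
          rw [h4]; exact mem_support_cycleOf_iff.2 ⟨SameCycle.refl _ _, mem_support.2 hv⟩
        obtain ⟨j, -, hj⟩ := (mem_support_cycleOf_iff.1 h5).1.exists_pow_eq'
        exact ⟨j, hj⟩
    obtain ⟨P, hP⟩ := hx2.exists_le_sylow
    refine ⟨P, hP (mem_zpowers x), fun Q hQ => ?_⟩
    have h3 := main _ (Fin n) rfl x P Q hC (hP (mem_zpowers x)) hQ P.2 Q.2
    exact Sylow.ext ((Q.3 h3 le_sup_right).symm.trans (P.3 h3 le_sup_left))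

end Cfsg.Agent.S4349
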