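import Cfsg.Statements.S4355
import Cfsg.Agent.S4194

set_option autoImplicit false
open Cfsg

namespace Cfsg.Agent.S4355

open Subgroup CA.Amb CA.AmbSyl

/-- If every element of 2-power order of a finite group has a conjugacy class of odd size, then the Sylow 2-subgroups of the group are abelian. -/
theorem result {G : Type*} [Group G] [Finite G]
    (h : ∀ x : G, (∃ k : ℕ, orderOf x = 2 ^ k) → ¬ 2 ∣ (Subgroup.centralizer ({x} : Set G)).index) (P : Sylow 2 G) :
    IsMulCommutative P := by
  refine (Cfsg.Agent.S4194.result P).2 fun x hx => ?_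
  obtain ⟨T, hT⟩ := exists_sylIn 2 (centralizer ({x} : Set G))
  have h1 : SylIn 2 T ⊤ := by
    refine sylIn_of_not_dvd le_top hT.pg fun e => ?_
    rw [relIndex_top_right, ← relIndex_mul_index hT.le] at e
    rcases (Nat.Prime.dvd_mul Nat.prime_two).1 e with e | e
    · exact hT.not_dvd e
    · exact h x hx e
  exact ⟨h1.toSylowTop, hT.le⟩

end Cfsg.Agent.S4355
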