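import Cfsg.Statements.S4358


set_option autoImplicit false
open Cfsg

set_option linter.unusedVariables false
set_option linter.unusedSimpArgs false
set_option linter.style.haveILetI false

namespace Cfsg.Agent.S4358

open Matrix

section
variable {F : Type*} [Field F] {p : ℕ} [NeZero p]

/-- Monomial matrix with cyclic pattern. -/
def mo (i : Fin p) (d : Fin p → F) : Matrix (Fin p) (Fin p) F := of fun k l => if l = k + i then d k else 0

theorem mo_mul' (i : Fin p) (d : Fin p → F) (M : Matrix (Fin p) (Fin p) F) (k l : Fin p) :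
    (mo i d * M) k l = d k * M (k + i) l := by
  simp [mo, mul_apply]

theorem mo_mul (i j : Fin p) (d e : Fin p → F) :
    mo i d * mo j e = mo (i + j) fun k => d k * e (k + i) := by
  ext k l
  rw [mo_mul']
  simp [mo, add_assoc]

theorem mo_one : mo (0 : Fin p) (fun _ => (1 : F)) = 1 := by
  ext k l
  simp [mo, one_apply, eq_comm]

theorem ne0 {a : F} (h : a ^ p = 1) : a ≠ 0 := fun e => by simp [e, NeZero.ne p] at h

def mu (i : Fin p) (d : Fin p → F) (h : ∀ k, d k ^ p = 1) : GL (Fin p) F :=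
  ⟨mo i d, mo (-i) fun k => (d (k - i))⁻¹, by rw [mo_mul, ← mo_one]; simp [ne0 (h _)],
    by rw [mo_mul, ← mo_one]; simp [ne0 (h _), sub_eq_add_neg]⟩

variable (F p) in
def W : Subgroup (GL (Fin p) F) where
  carrier := {y | ∃ i d, (∀ k, d k ^ p = 1) ∧ y.1 = mo i d}
  mul_mem' := by
    rintro a b ⟨i, d, hd, ha⟩ ⟨j, e, he, hb⟩
    exact ⟨i + j, fun k => d k * e (k + i), fun k => by rw [mul_pow, hd, he, one_mul],
      by rw [Units.val_mul, ha, hb, mo_mul]⟩
  one_mem' := ⟨0, _, fun _ => one_pow _, mo_one.symm⟩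
  inv_mem' := by
    rintro a ⟨i, d, hd, ha⟩
    obtain rfl : a = mu i d hd := Units.ext ha
    exact ⟨_, _, fun k => by rw [inv_pow, hd, inv_one], rfl⟩

theorem card_W {ω : F} (hω : IsPrimitiveRoot ω p) : Nat.card (W F p) = p ^ (p + 1) := by
  have h : ∀ (s : Fin p → Fin p) k, (ω ^ (s k : ℕ)) ^ p = 1 := fun s k => by
    rw [← pow_mul, mul_comm, pow_mul, hω.pow_eq_one, one_pow]
  let f : Fin p × (Fin p → Fin p) → W F p := fun x => ⟨mu x.1 _ (h x.2), _, _, h x.2, rfl⟩
  rw [← Nat.card_congr (Equiv.ofBijective f ⟨?_, ?_⟩)]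
  · simp [pow_succ']
  · rintro ⟨i, s⟩ ⟨j, t⟩ e
    have e1 : mo i (fun k => ω ^ (s k : ℕ)) = mo j fun k => ω ^ (t k : ℕ) := congrArg (fun y : W F p => y.1.1) e
    have e2 := fun k => congrFun (congrFun e1 k) (k + i)
    simp only [mo, of_apply, if_true, add_right_inj] at e2
    obtain rfl : i = j := by
      by_contra hne
      exact ne0 (h s 0) (by simpa [hne] using e2 0)
    exact Prod.ext rfl (funext fun k => Fin.ext (hω.pow_inj (s k).2 (t k).2 (by simpa using e2 k)))
  · rintro ⟨y, i, d, hd, hy⟩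
    choose s hs hs' using fun k => hω.eq_pow_of_pow_eq_one (hd k)
    exact ⟨(i, fun k => ⟨s k, hs k⟩), Subtype.ext (Units.ext (by
      change mo i (fun k => ω ^ s k) = y.1
      rw [hy, funext hs']))⟩

theorem notnorm {ω : F} (hω : IsPrimitiveRoot ω p) (h3 : 3 ≤ p) (g : GL (Fin p) F) {j k l : Fin p} (hkl : k ≠ l)
    (hk : g.1 k j ≠ 0) (hl : g.1 l j ≠ 0) : ∃ y ∈ W F p, g * y * g⁻¹ ∉ W F p := by
  have h : ∀ m, (if m = j then ω else 1) ^ p = 1 := fun m => by split_ifs; exacts [hω.pow_eq_one, one_pow _]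
  have w1 : ω - 1 ≠ 0 := sub_ne_zero.2 (hω.ne_one (by omega))
  refine ⟨mu 0 _ h, ⟨_, _, h, rfl⟩, ?_⟩
  rintro ⟨i, d, hd, e⟩
  have y1 : (mu 0 _ h).1 = 1 + single j j (ω - 1) := by
    ext a b
    simp only [mu, mo, of_apply, add_zero, Matrix.add_apply, one_apply, single_apply]
    by_cases h1 : a = b
    · subst h1
      by_cases h2 : a = j
      · simp [h2]
      · simp [h2, Ne.symm h2]
    · rw [if_neg (Ne.symm h1), if_neg h1, if_neg fun h => h1 (h.1.symm.trans h.2), add_zero]
  have key : ∀ a b, mo i d a b = (1 : Matrix (Fin p) (Fin p) F) a b + g.1 a j * ((ω - 1) * (g⁻¹).1 j b) := by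
    intro a b
    rw [← e, Units.val_mul, Units.val_mul, y1, mul_add, add_mul, mul_one, g.mul_inv, Matrix.add_apply, mul_assoc,
      mul_apply, Finset.sum_eq_single j (fun m _ hm => by rw [single_mul_apply_of_ne _ _ _ _ _ hm, mul_zero])
        (by simp), single_mul_apply_same]
  by_cases hi : i = 0
  · obtain ⟨m, hm⟩ : ∃ m, (g⁻¹).1 j m ≠ 0 := by
      by_contra hc
      push Not at hc
      have := congrFun (congrFun g.inv_mul j) j
      rw [mul_apply, Finset.sum_eq_zero fun m _ => by rw [hc, zero_mul], one_apply_eq] at this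
      exact zero_ne_one this
    have no : ∀ a, g.1 a j ≠ 0 → a = m := fun a ha => by
      by_contra hne
      have := key a m
      rw [one_apply_ne hne, zero_add, mo, of_apply, if_neg (by simpa [hi] using Ne.symm hne)] at this
      exact mul_ne_zero ha (mul_ne_zero w1 hm) this.symm
    exact hkl ((no k hk).trans (no l hl).symm)
  · have no : ∀ a, g.1 a j * ((ω - 1) * (g⁻¹).1 j a) ≠ 0 := fun a ha => by
      have := key a a
      rw [ha, one_apply_eq, mo, of_apply, if_neg (by simpa using hi)] at this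
      simp at this
    obtain ⟨b, -, hb⟩ := Finset.exists_mem_notMem_of_card_lt_card (s := {0, i}) (t := Finset.univ)
      (Finset.card_le_two.trans_lt (by rw [Finset.card_univ, Fintype.card_fin]; omega))
    simp only [Finset.mem_insert, Finset.mem_singleton, not_or] at hb
    have := key 0 b
    rw [one_apply_ne (Ne.symm hb.1), zero_add, mo, of_apply, if_neg (by simpa using hb.2)] at this
    exact mul_ne_zero (left_ne_zero_of_mul (no 0)) (right_ne_zero_of_mul (no b)) this.symm

theorem exists_g {ω : F} (hω : IsPrimitiveRoot ω p) (h3 : 3 ≤ p) {x : GL (Fin p) F} (hx : x ∈ W F p) :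
    ∃ g : Matrix (Fin p) (Fin p) F, IsUnit g ∧ ∃ y ∈ W F p, x.1 * g = g * y.1 ∧
      ∃ j k l, k ≠ l ∧ g k j ≠ 0 ∧ g l j ≠ 0 := by
  classical
  have hx' := hx
  obtain ⟨i, d, hd, e⟩ := hx'
  by_cases hi : i = 0
  · subst hi
    by_cases hinj : Function.Injective d
    · haveI : Nontrivial (Fin p) := Fin.nontrivial_iff_two_le.2 (by omega)
      obtain ⟨k, l, hkl⟩ := exists_pair_ne (Fin p)
      refine ⟨vandermonde d, (isUnit_iff_isUnit_det _).2 (det_vandermonde_ne_zero_iff.2 hinj).isUnit,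
        mu (-1) (fun _ => 1) fun _ => one_pow _, ⟨_, _, fun _ => one_pow _, rfl⟩, ?_, 0, k, l, hkl, by simp, by simp⟩
      ext a b
      rw [e, mo_mul', mul_apply, Finset.sum_eq_single (b + 1) (fun m _ hm => by
        simp [mu, mo, ← sub_eq_add_neg, eq_sub_iff_add_eq, Ne.symm hm]) (by simp)]
      simp only [mu, mo, add_zero, vandermonde_apply, of_apply, add_neg_cancel_right, if_true, mul_one, Fin.val_add]
      rw [← pow_eq_pow_mod _ (hd a), Fin.val_one', Nat.mod_eq_of_lt (by omega), pow_succ']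
    · obtain ⟨k, l, h1, hkl⟩ := Function.not_injective_iff.1 hinj
      refine ⟨transvection k l 1, (isUnit_iff_isUnit_det _).2 (by rw [det_transvection_of_ne _ _ hkl]; simp),
        x, hx, ?_, l, k, l, hkl, by simp [transvection, hkl], by simp [transvection, hkl]⟩
      have : x.1 = diagonal d := by
        rw [e]; ext a b; simp [mo, diagonal_apply, eq_comm]
      rw [this, transvection, mul_add, add_mul, mul_one, one_mul]
      congr 1
      ext a b
      simp only [diagonal_mul, mul_diagonal, single_apply]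
      split_ifs with h
      · rw [← h.1, ← h.2, h1, mul_comm]
      · simp
  · by_cases hev : ∀ k : Fin p, ∃ v, v ≠ 0 ∧ x.1 *ᵥ v = ω ^ (k : ℕ) • v
    · choose v v0 hv using hev
      have h : ∀ k : Fin p, (ω ^ (k : ℕ)) ^ p = 1 := fun k => by
        rw [← pow_mul, mul_comm, pow_mul, hω.pow_eq_one, one_pow]
      have li : LinearIndependent F v := Module.End.eigenvectors_linearIndependent' (toLin' x.1)
        (fun k : Fin p => ω ^ (k : ℕ)) (fun a b hab => Fin.ext (hω.pow_inj a.2 b.2 hab)) v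
        fun k => ⟨Module.End.mem_eigenspace_iff.2 (hv k), v0 k⟩
      obtain ⟨k, hk⟩ := Function.ne_iff.1 (v0 0)
      refine ⟨(of v)ᵀ, linearIndependent_cols_iff_isUnit.1 li, mu 0 _ h, ⟨_, _, h, rfl⟩, ?_, 0, k, k + i,
        by simpa using hi, hk, fun h0 => ?_⟩
      · ext a b
        have : (mu 0 _ h).1 = diagonal fun k : Fin p => ω ^ (k : ℕ) := by
          ext a b; simp [mu, mo, diagonal_apply, eq_comm]
        rw [this, mul_diagonal, mul_comm]
        exact congrFun (hv b) a
      · have : (x.1 * (of v)ᵀ) k 0 = ω ^ ((0 : Fin p) : ℕ) * v 0 k := congrFun (hv 0) k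
        rw [e, mo_mul', h0, mul_zero] at this
        exact mul_ne_zero (ne0 (h 0)) hk this.symm
    · push Not at hev
      obtain ⟨k, hk⟩ := hev
      refine ⟨x.1 - ω ^ (k : ℕ) • 1, mulVec_injective_iff_isUnit.1 ((injective_iff_map_eq_zero
        (mulVecLin (x.1 - ω ^ (k : ℕ) • 1))).2 fun v hv => ?_), x, hx, by simp [mul_sub, sub_mul], i, 0, i,
        Ne.symm hi, ?_, ?_⟩
      · by_contra hne
        exact hk v hne (by simpa [sub_mulVec, smul_mulVec, sub_eq_zero] using hv)
      · simpa [e, mo, one_apply_ne (Ne.symm hi)] using ne0 (hd 0)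
      · simpa [e, mo, hi] using fun h => absurd h (ne0 hω.pow_eq_one)

end

theorem val_GL {F : Type*} [Field F] [Fintype F] (p : ℕ) [Fact p.Prime] (hp : p ≠ 2)
    (h1 : p ∣ Fintype.card F - 1) (h2 : ¬ p ^ 2 ∣ Fintype.card F - 1) :
    (Nat.card (GL (Fin p) F)).factorization p = p + 1 := by
  have pp : p.Prime := Fact.out
  set q := Fintype.card F
  have q1 : 1 < q := Fintype.one_lt_card
  have nq : ¬ p ∣ q := fun h => pp.one_lt.ne' (Nat.dvd_one.1 (by
    have := Nat.dvd_sub h h1
    rwa [Nat.sub_sub_self q1.le] at this))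
  have v1 : padicValNat p (q - 1) = 1 := by
    have := (padicValNat_dvd_iff_le (p := p) (n := 1) (a := q - 1) (by omega)).1 (by simpa using h1)
    have := (padicValNat_dvd_iff_le (p := p) (n := 2) (a := q - 1) (by omega)).not.1 h2
    omega
  have hv : ∀ i : Fin p, padicValNat p (q ^ p - q ^ (i : ℕ)) = 1 + if i = ⟨0, pp.pos⟩ then 1 else 0 := fun i => by
    have e : q ^ p - q ^ (i : ℕ) = q ^ (i : ℕ) * (q ^ (p - i) - 1 ^ (p - i)) := by
      rw [Nat.mul_sub, ← pow_add, one_pow, mul_one, Nat.add_sub_cancel' i.2.le]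
    have := i.2
    have lt : 1 ^ (p - i) < q ^ (p - i) := Nat.pow_lt_pow_left q1 (by omega)
    rw [e, padicValNat.mul (by positivity) (by omega), padicValNat.eq_zero_of_not_dvd
      (fun h => nq (pp.dvd_of_dvd_pow h)), padicValNat.pow_sub_pow (pp.odd_of_ne_two hp) q1 h1 nq (by omega), v1]
    split_ifs with h
    · simp [h]
    · have : (i : ℕ) ≠ 0 := fun e => h (Fin.ext e)
      rw [padicValNat.eq_zero_of_not_dvd (n := p - i) (Nat.not_dvd_of_pos_of_lt (by omega) (by omega))]
  rw [Matrix.card_GL_field, Nat.factorization_prod fun i _ => Nat.sub_ne_zero_of_lt (Nat.pow_lt_pow_right q1 i.2),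
    Finsupp.finsetSum_apply]
  simp only [Nat.factorization_def _ pp, hv, Finset.sum_add_distrib, Finset.sum_ite_eq', Finset.mem_univ, if_true]
  simp


/-- Let p be an odd prime and F a finite field with q elements such that p divides q - 1 but p² does not. Then GL(p, F) has a Sylow p-subgroup Q such that every element of p-power order lies in some Sylow p-subgroup other than Q (a redundant Sylow p-subgroup). -/
theorem result {F : Type*} [Field F] [Fintype F] (p : ℕ) [Fact p.Prime]
    (hp : p ≠ 2) (h1 : p ∣ Fintype.card F - 1) (h2 : ¬ p ^ 2 ∣ Fintype.card F - 1) :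
    ∃ Q : Sylow p (Matrix.GeneralLinearGroup (Fin p) F), ∀ x : Matrix.GeneralLinearGroup (Fin p) F,
      (∃ k : ℕ, orderOf x = p ^ k) → ∃ P : Sylow p (Matrix.GeneralLinearGroup (Fin p) F), P ≠ Q ∧ x ∈ P := by
  classical
  have pp : p.Prime := Fact.out
  have h3 : 3 ≤ p := by have := pp.two_le; omega
  obtain ⟨u, hu⟩ := exists_prime_orderOf_dvd_card' (G := Fˣ) p (by
    rwa [Nat.card_eq_fintype_card, Fintype.card_units])
  have hω : IsPrimitiveRoot (u : F) p := IsPrimitiveRoot.coe_units_iff.2 (hu ▸ IsPrimitiveRoot.orderOf u)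
  let Q : Sylow p (GL (Fin p) F) := Sylow.ofCard (W F p) (by rw [card_W hω, val_GL p hp h1 h2])
  refine ⟨Q, fun x ⟨k, hk⟩ => ?_⟩
  by_cases hx : x ∈ W F p
  · obtain ⟨g, ⟨g, rfl⟩, y, hy, e, j, k, l, hkl, a1, a2⟩ := exists_g hω h3 hx
    obtain ⟨z, hz, hz'⟩ := notnorm hω h3 g hkl a1 a2
    have m : ∀ z ∈ W F p, g * z * g⁻¹ ∈ g • Q := fun z hz =>
      Subgroup.smul_mem_pointwise_smul z (MulAut.conj g) (W F p) hz
    refine ⟨g • Q, fun h => hz' (h ▸ m z hz : g * z * g⁻¹ ∈ Q), ?_⟩
    rw [show x = g * y * g⁻¹ from eq_mul_inv_of_mul_eq (Units.ext e)]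
    exact m y hy
  · obtain ⟨P, hP⟩ := (IsPGroup.of_card (p := p) ((Nat.card_zpowers x).trans hk)).exists_le_sylow
    exact ⟨P, fun h => hx (h ▸ hP (Subgroup.mem_zpowers x) : x ∈ Q), hP (Subgroup.mem_zpowers x)⟩

end Cfsg.Agent.S4358
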