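import Cfsg.Statements.S4394
import Cfsg.Agent.Lib.Loc.EqO1
import Cfsg.Agent.Lib.Solv.HH3
import Cfsg.Agent.Lib.Solv.SS2
import Cfsg.Agent.Lib.Odd.BG4a
import Cfsg.Agent.Lib.Grp.Two
import Cfsg.Agent.Lib.Grp.H10Pg

set_option autoImplicit false
open Cfsg

namespace Cfsg.Agent.S4394

open CA CA.EqO Subgroup CA.BG CA.HH
open scoped commutatorElement

universe u
variable {G G' : Type*} [Group G] [Group G'] {p : ℕ} {Q : Subgroup G}

structure Good (p : ℕ) (Q : Subgroup G) : Prop where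
  c : ⁅Q, Q⁆ ≤ 𝓒(Q)
  e : ∀ x ∈ Q, x ^ p ∈ ⁅Q, Q⁆
  s : ∀ x ∈ Q, x ∉ ⁅Q, Q⁆ → ⁅Q, Q⁆ ≤ ⁅zpowers x, Q⁆
  t : ⁅Q, Q⁆.relIndex Q = p ^ 2 → p ≤ 3 → p = 2 ∧
    ∀ y ∈ Q, y ∉ ⁅Q, Q⁆ → ∀ z ∈ Q, z ∉ ⁅Q, Q⁆ → ∃ w, w ^ 2 = y ^ 2 ∧ w⁻¹ * z ∈ ⁅Q, Q⁆

theorem Good.range (h : Good p Q) (f : Q →* G') (hk : f.ker ≤ ⁅Q, Q⁆.subgroupOf Q) : Good p f.range := by
  have e0 : ∀ K : Subgroup Q, (⁅K.map Q.subtype, Q⁆).subgroupOf Q = ⁅K, ⊤⁆ := fun K => by
    rw [← comap_map_eq_self_of_injective Q.subtype_injective ⁅K, ⊤⁆, map_commutator, ← MonoidHom.range_eq_map, range_subtype]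
    rfl
  have e1 := e0 ⊤
  rw [← MonoidHom.range_eq_map, range_subtype] at e1
  have e2 : ⁅f.range, f.range⁆ = (⁅Q, Q⁆.subgroupOf Q).map f := by rw [e1, map_commutator, ← MonoidHom.range_eq_map]
  have e3 : ∀ x : Q, f x ∈ ⁅f.range, f.range⁆ ↔ x.1 ∈ ⁅Q, Q⁆ := fun x => by
    rw [e2, ← mem_comap, comap_map_eq_self hk]; rfl
  refine ⟨fun z hz => ?_, ?_, ?_, fun a b => ?_⟩
  · obtain ⟨d, hd, rfl⟩ := e2.le hz
    rintro _ ⟨x, rfl⟩
    rw [← map_mul, ← map_mul]
    exact congrArg f (Subtype.ext (h.c hd x x.2))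
  · rintro _ ⟨x, rfl⟩
    rw [← map_pow, e3]
    exact h.e x x.2
  · rintro _ ⟨x, rfl⟩ hx
    rw [e2, ← MonoidHom.map_zpowers, MonoidHom.range_eq_map, ← map_commutator, ← e0, MonoidHom.map_zpowers]
    exact map_mono (comap_mono (h.s x x.2 (mt (e3 x).2 hx)))
  · rw [← index_comap, e2, comap_map_eq_self hk] at a
    refine ⟨(h.t a b).1, ?_⟩
    rintro _ ⟨y, rfl⟩ hy _ ⟨z, rfl⟩ hz
    obtain ⟨w, h1, h2⟩ := (h.t a b).2 y y.2 (mt (e3 y).2 hy) z z.2 (mt (e3 z).2 hz)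
    have h3 : w ∈ Q := by simpa using mul_mem z.2 (inv_mem (der_le Q h2))
    refine ⟨f ⟨w, h3⟩, ?_, ?_⟩
    · rw [← map_pow, ← map_pow]; exact congrArg f (Subtype.ext h1)
    · rw [← map_inv, ← map_mul, e3]; exact h2

theorem Good.map (h : Good p Q) (f : G →* G') (hk : Q ⊓ f.ker ≤ ⁅Q, Q⁆) : Good p (Q.map f) :=
  f.restrict_range Q ▸ h.range (f.domRestrict Q) fun x hx => hk ⟨x.2, hx⟩

variable [Finite G]

theorem good_of (hp : p.Prime) {x : G} {q : ℕ} [Q.Normal] (hq : q.Prime) (hx : IsPi {q} (zpowers x))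
    (h : Crit p (zpowers x) (zpowers x) Q) (hs : Q ⊔ zpowers x = ⊤) (hn : ∀ H : Subgroup G, H ≠ ⊤ → Group.IsNilpotent H)
    (hc : ¬ IsMulCommutative Q) : Good p Q := by
  have d1 := h.phi_eq_der ▸ h.phi_le_cent
  have d2 := h.phi_eq_der ▸ h.phi_cent
  have d3 : ∀ E ≤ ⁅Q, Q⁆, E.Normal := fun E hE =>
    normal_of (norm_of_cent (hs ▸ sup_le (cent_symm (hE.trans d1)) (cent_symm (hE.trans d2))))
  have d4 : ∀ y ∈ Q, y ^ p ∈ ⁅Q, Q⁆ := fun y hy => h.phi_eq_der ▸ pow_mem_Phi hp h.pi hy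
  have d5 : ∀ y ∈ Q, x * y * x⁻¹ ∈ Q := fun y hy => Normal.conj_mem inferInstance y hy x
  haveI := d3 _ le_rfl
  set π := QuotientGroup.mk' ⁅Q, Q⁆
  have d6 : ∀ y, π y = 1 ↔ y ∈ ⁅Q, Q⁆ := QuotientGroup.eq_one_iff
  have L : ∀ y ∈ Q, π (x * y * x⁻¹) ∈ zpowers (π y) → y ∈ ⁅Q, Q⁆ := fun y hy e => by
    have a : zpowers y ⊔ ⁅Q, Q⁆ ≤ Q := sup_le (zpowers_le.2 hy) (der_le Q)
    refine h.phi_eq_der.le (h.le_phi (lt_of_le_of_ne a fun b => hc ?_) (zpowers_le.2 (mem_norm_of_cj_le ?_))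
      (mem_sup_left (mem_zpowers y)))
    · rw [← Phi_nongen (zpowers_le.2 hy) (h.phi_eq_der ▸ b.ge)]; infer_instance
    · rw [cj_sup, cj_zpowers, cj_normal]
      refine sup_le (zpowers_le.2 ?_) le_sup_right
      rwa [← MonoidHom.map_zpowers, ← mem_comap, comap_map_eq, QuotientGroup.ker_mk'] at e
  have d7 : ∀ a ∈ Q, ∀ b ∈ Q, π a * π b = π b * π a := fun a ha b hb => by
    rw [← commutatorElement_eq_one_iff_mul_comm, ← map_commutatorElement, d6]
    exact commutator_mem_commutator ha hb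
  refine ⟨d1, d4, fun y hy h1 => ?_, fun h1 h2 => ?_⟩
  · haveI := d3 ⁅zpowers y, Q⁆ (comm_mono (zpowers_le.2 hy) le_rfl)
    set ρ := QuotientGroup.mk' ⁅zpowers y, Q⁆
    haveI : (Q.map ρ).Normal := Normal.map inferInstance _ (QuotientGroup.mk'_surjective _)
    have a : zpowers y ≤ (𝓒(Q.map ρ)).comap ρ := by
      rw [← map_le_iff_le_comap, ← comm_eq_bot_iff, ← map_commutator, Subgroup.map_eq_bot_iff, QuotientGroup.ker_mk']
    have b : Q ⊓ (𝓒(Q.map ρ)).comap ρ = Q := by_contra fun e => h1 (h.phi_eq_der.le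
      (h.le_phi (lt_of_le_of_ne inf_le_left e) (top_norm _ _) ⟨hy, a (mem_zpowers y)⟩))
    have := der_le_ker (comm_iff_le_cent.2 (map_le_iff_le_comap.2 (inf_eq_left.1 b)))
    rwa [QuotientGroup.ker_mk'] at this
  have h3 : p = 2 := by_contra fun e => by
    obtain rfl : p = 3 := by have := hp.two_le; omega
    have a := BG4.card_modEq_cent hq hx h.norm
    rw [show Q ⊓ 𝓒(zpowers x) = ⁅Q, Q⁆ from le_antisymm (h.le_of_der_le le_rfl (der_le Q) (top_norm _ _) inf_le_left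
      inf_le_right) (le_inf (der_le Q) d2), ← card_mul_relIndex (der_le Q), h1] at a
    have b := (Nat.modEq_iff_dvd' (by omega)).1 a.symm
    rw [show ♯⁅Q, Q⁆ * 3 ^ 2 - ♯⁅Q, Q⁆ = ♯⁅Q, Q⁆ * 2 ^ 3 by omega] at b
    have x1 : zpowers x ≠ ⊥ := fun e => h.nc (by rw [e, cent_bot]; exact le_top)
    obtain rfl : q = 2 := (Nat.prime_dvd_prime_iff_eq hq Nat.prime_two).1 (hq.dvd_of_dvd_pow
      (((Nat.Prime.dvd_mul hq).1 b).resolve_left fun c => not_dvd_of_coprime hq h.cop (c.trans (card_dvd (der_le Q)))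
        (hx.dvd_card x1)))
    have c1 : zpowers (x ^ 2) ≤ zpowers x := zpowers_le.2 (pow_mem (mem_zpowers x) 2)
    have c := cent_of_nil_cop (hn (zpowers (x ^ 2) ⊔ Q) fun e => by
      have := sup_inf_of_le_left (top_norm Q _) c1
      rw [e, top_inf_eq, inf_eq_bot_of_cop h.cop, sup_bot_eq] at this
      have d := mem_zpowers_pow_iff.1 (this ▸ mem_zpowers x : x ∈ zpowers (x ^ 2))
      rw [Nat.gcd_eq_left (Nat.card_zpowers x ▸ hx.dvd_card x1)] at d
      omega) le_sup_left le_sup_right (cop_mono h.cop le_rfl c1).symm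
    refine (der_lt_of_solv (h.pi.isSolvable hp) h.ne_bot).not_ge fun y hy => L y hy ?_
    have d := (d6 _).2 (L _ (mul_mem hy (d5 y hy)) (by
      have := BG.mem_cent.1 (c (mem_zpowers _)) y hy
      rw [show x * (y * (x * y * x⁻¹)) * x⁻¹ = x * y * x⁻¹ * (x ^ 2 * y * (x ^ 2)⁻¹) by group, ← this, mul_inv_cancel_right,
        map_mul π (x * y * x⁻¹), d7 _ (d5 y hy) y hy, ← map_mul]
      exact mem_zpowers _))
    rw [map_mul] at d
    rw [eq_inv_of_mul_eq_one_right d]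
    exact inv_mem (mem_zpowers _)
  subst h3
  refine ⟨rfl, fun y hy h4 z hz h5 => ?_⟩
  have k := Two.isKleinFour_of (T := Q.map π) ((relIndex_mk _ Q).trans h1) (by
    rintro _ ⟨a, ha, rfl⟩
    rw [← map_pow, d6]; exact d4 a ha)
  have y1 := d5 y hy
  have y2 := d5 _ y1
  have n1 : π (x * y * x⁻¹) ≠ π y := fun e => h4 (L y hy (e ▸ mem_zpowers _))
  have n0 : ∀ a, a ∉ ⁅Q, Q⁆ → x * a * x⁻¹ ∉ ⁅Q, Q⁆ := fun a ha e =>
    ha (by simpa [mul_assoc] using Normal.conj_mem inferInstance _ e x⁻¹)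
  have sq : ∀ a ∈ Q, (x * a * x⁻¹) ^ 2 = a ^ 2 := fun a ha => by
    rw [conj_pow, BG.mem_cent.1 (d2 (d4 a ha)) x (mem_zpowers x), mul_inv_cancel_right]
  have km := fun a (ha : a ∈ Q) => Two.klein_mem k (mem_map_of_mem π hy) (mem_map_of_mem π y1) (mt (d6 _).1 h4)
    (mt (d6 _).1 (n0 y h4)) n1.symm (mem_map_of_mem π ha)
  have fin : ∀ w, π z = π w → w⁻¹ * z ∈ ⁅Q, Q⁆ := fun w e => by rw [← d6, map_mul, map_inv, e, inv_mul_cancel]
  rcases km z hz with e | e | e | e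
  · exact (h5 ((d6 z).1 e)).elim
  · exact ⟨y, rfl, fin _ e⟩
  · exact ⟨_, sq y hy, fin _ e⟩
  refine ⟨_, (sq _ y1).trans (sq y hy), fin _ (e.trans ?_)⟩
  rcases km _ y2 with e | e | e | e
  · exact (n0 _ (n0 y h4) ((d6 _).1 e)).elim
  · have d := (d6 _).2 (L _ (mul_mem hy y1) (by
      rw [show x * (y * (x * y * x⁻¹)) * x⁻¹ = x * y * x⁻¹ * (x * (x * y * x⁻¹) * x⁻¹) by group,
        map_mul π (x * y * x⁻¹), e, d7 _ y1 y hy, ← map_mul]
      exact mem_zpowers _))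
    rw [map_mul] at d
    exact (h4 (L y hy (by rw [eq_inv_of_mul_eq_one_right d]; exact inv_mem (mem_zpowers _)))).elim
  · exact (n0 y h4 (L _ y1 (e ▸ mem_zpowers _))).elim
  · exact e.symm

theorem base [hp : Fact p.Prime] (hs : IsPSolvable p G) (hO : pPrimeCore p G = ⊥) (hQ : Syl p Q ⊤) (h : Good p Q)
    (hN : IsElementaryAbelian p (pCore p G)) : Q ≤ pCore p G := by
  by_contra h0
  set N := pCore p G
  set D := ⁅Q, Q⁆
  set π := QuotientGroup.mk' N
  have n1 : 𝓒(N) ≤ N := H12PSolv.centralizer_pCore_le hs hO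
  have n2 : IsPi {p} N := isPi_pcore hp.out
  have n3 : N ≤ Q := hQ.le_of_norm' n2 le_top (top_norm N Q)
  have n4 : IsMulCommutative N := hN.1
  have d1 : D ≤ N := (h.c.trans (cent_anti n3)).trans n1
  have d2 : D ≠ ⊥ := fun e => h0 (((comm_eq_bot_iff.1 e).trans (cent_anti n3)).trans n1)
  have a1 : IsMulCommutative (Q.map π) := by
    rw [comm_iff_der_eq_bot, ← map_commutator, Subgroup.map_eq_bot_iff, QuotientGroup.ker_mk']; exact d1
  have a2 := pi_map hQ.pi π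
  have a3 := isPi_p'core (G := G ⧸ N) hp.out
  obtain ⟨B, b1, ⟨y, b2, b3⟩, b4⟩ : ∃ B ≤ Q.map π, CycMod (Q.map π) B ∧ ¬ pPrimeCore p (G ⧸ N) ⊓ 𝓒(B) ≤ 𝓒(Q.map π) := by
    by_contra! e
    have := (cent_symm (coprime_abelian_gen_cent a1 (top_norm _ _) (a3.coprime' a2) e)).trans
      (cent_p'core (H12PSolv.psolv_quotient hs N) (pcore_quot hp.out))
    have := inf_eq_left.2 this ▸ a2.inf_eq_bot a3
    rw [Subgroup.map_eq_bot_iff, QuotientGroup.ker_mk'] at this
    exact h0 this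
  obtain ⟨q, R', r1, r2⟩ := exists_crit (norm_inf (top_norm _ _) (norm_cent (norm_of_comm a1 b1))) le_rfl le_normalizer
    ((a3.inf_left _).coprime' a2) (Or.inl (solv_of_comm a1)) b4
  obtain ⟨R, r3, rfl⟩ := HH.exists_lift r2.prime (QuotientGroup.mk'_surjective N) r2.pi
  have r4 : ¬ R ≤ 𝓒(N) := fun e => r2.ne_bot (by
    rw [Subgroup.map_eq_bot_iff, QuotientGroup.ker_mk']; exact e.trans n1)
  have r5 : (♯N).Coprime ♯R := n2.coprime_ne r3 (by
    rintro rfl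
    exact r2.ne_bot (r2.pi.eq_bot (a3.of_le (r1.trans inf_le_left))))
  have r6 : R ≤ ⁅R, Q⁆ ⊔ N := by
    have := Subgroup.map_le_map_iff.1 ((map_commutator R Q π).trans r2.comm_eq).ge
    rwa [QuotientGroup.ker_mk'] at this
  have r7 : Q ≤ 𝓝(R ⊔ N) := by
    have := r2.comm_eq.le
    rw [← map_commutator, Subgroup.map_le_map_iff, QuotientGroup.ker_mk'] at this
    exact sup_comm R N ▸ norm_sup_of_comm_le (top_norm N Q) (top_norm N R) (by rwa [comm_symm, sup_comm])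
  have K1 : ∀ W ≤ D, R ≤ 𝓝(W) → W ≤ 𝓒(R) := fun W a b => cent_symm (r6.trans (sup_le
    (comm_le_cent_of_norm b (cent_symm (a.trans h.c))) (cent_of_comm n4 le_rfl (a.trans d1))))
  have K2 : ∀ W ≤ N, Q ≤ 𝓝(W) → ¬ W ≤ D → D ≤ W := fun W a b c => by
    obtain ⟨w, c1, c2⟩ := SetLike.not_le_iff_exists.1 c
    exact (h.s w (n3 (a c1)) c2).trans ((comm_mono (zpowers_le.2 c1) le_rfl).trans (comm_le_left b))
  have w1 := coprime_abel_cent_TI (top_norm N R) r5 n4
  have w2 : ⁅N, R⁆ ≤ N := comm_le_left (top_norm N R)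
  have w3 : D ≤ ⁅N, R⁆ := K2 _ w2 (by
      rw [comm_symm, ← sup_bot_eq ⁅R, N⁆, ← comm_iff_der_eq_bot.1 n4,
        ← comm_sup_left (norm_comm (top_norm N R) (top_norm N R)) (le_norm_comm_right R N)]
      exact norm_comm r7 (top_norm N Q)) fun e =>
    r4 (cent_symm (comm_eq_bot_iff.1 (inf_eq_left.2 (K1 _ e (le_norm_comm_right N R)) ▸ w1)))
  have w4 : N ⊓ 𝓒(R) = ⊥ := by
    have a : N ⊓ 𝓒(R) = N ⊓ 𝓒(R ⊔ N) := by
      rw [cent_sup, inf_comm 𝓒(R), ← inf_assoc, inf_eq_left.2 (comm_iff_le_cent.1 n4)]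
    by_cases e : N ⊓ 𝓒(R) ≤ D
    · exact BG.eq_bot_mono (le_inf (e.trans w3) inf_le_right) w1
    · exact (d2 (BG.eq_bot_mono (le_inf w3 ((K2 _ inf_le_left (a ▸ norm_inf (top_norm N Q) (norm_cent r7)) e).trans
        inf_le_right)) w1)).elim
  have c1 : B.comap π ≤ Q := by
    rw [← comap_map_eq_self (f := π) (H := Q) (by rwa [QuotientGroup.ker_mk'])]; exact comap_mono b1
  have c2 : R ≤ 𝓝(B.comap π) := norm_of_comm_le_right (by
    rw [← map_le_iff_le_comap, map_commutator, map_comap_eq_self_of_surjective (QuotientGroup.mk'_surjective N),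
      comm_eq_bot_iff.2 (r1.trans inf_le_right)]
    exact bot_le)
  have c3 : ⁅N, B.comap π⁆ ≤ D := comm_mono n3 c1
  have c4 : B.comap π ≤ N := (cent_symm (comm_eq_bot_iff.1 (BG.eq_bot_mono (le_inf (c3.trans d1)
    (K1 _ c3 (norm_comm (top_norm N R) c2))) w4))).trans n1
  obtain rfl : B = ⊥ := by
    rw [← map_comap_eq_self_of_surjective (QuotientGroup.mk'_surjective N) B, Subgroup.map_eq_bot_iff, QuotientGroup.ker_mk']
    exact c4
  obtain ⟨y, y1, rfl⟩ := b2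
  rw [sup_bot_eq] at b3
  have y2 : Q ≤ zpowers y ⊔ N := by
    rwa [← MonoidHom.map_zpowers, Subgroup.map_le_map_iff, QuotientGroup.ker_mk'] at b3
  have y3 : orderOf (π y) = p := orderOf_eq_prime
    (by rw [← map_pow]; exact (QuotientGroup.eq_one_iff _).2 (d1 (h.e y y1))) fun e =>
      h0 (y2.trans (sup_le (zpowers_le.2 ((QuotientGroup.eq_one_iff _).1 e)) le_rfl))
  have y4 : N.relIndex Q = p := by
    rw [← relIndex_mk, le_antisymm b3 (zpowers_le.2 (mem_map_of_mem π y1)), Nat.card_zpowers, y3]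
  have hcm : ∀ v ∈ N, ⁅y, v⁆ ∈ D := fun v hv => commutator_mem_commutator y1 (n3 hv)
  have p3 : p ≤ 3 := by
    rcases thmB_PV hs hO (n := 0) (r := 2) (x := π y) (by rw [y3, zero_add, pow_one]) (LinearMap.ext fun w => by
      obtain ⟨v, hv, rfl⟩ := pv_surj w
      rw [sq, Module.End.mul_apply]
      refine (congrArg _ (prep_sub_pv y hv (d1 (hcm v hv)))).trans
        ((prep_sub_pv y _ (d1 (hcm _ (d1 (hcm v hv))))).trans (pv_eq_zero.2 ?_))
      rw [commutatorElement_eq_one_iff_mul_comm.2 (BG.mem_cent.1 (h.c (hcm v hv)) y y1)]; exact one_mem _) with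
      e | ⟨m, -, -, -, e1, e2, -, -, -, -, -, e⟩
    · simp at e; omega
    · obtain rfl : m = 1 := by omega
      simp at e; omega
  obtain ⟨w, w5, w6⟩ := SetLike.not_le_iff_exists.1 fun e : N ≤ D => h0 ((cent_symm (e.trans h.c)).trans n1)
  have e1 : ♯D = p := by
    have a : zpowers ⁅y, w⁆ ≤ D := zpowers_le.2 (hcm w w5)
    have b : Q ≤ 𝓝(zpowers ⁅y, w⁆) := norm_of_cent (cent_symm (a.trans h.c))
    have c : D ≤ zpowers ⁅y, w⁆ := (h.s w (n3 w5) w6).trans ((comm_symm _ _).le.trans ((comm_mono y2 le_rfl).trans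
      (comm_sup_le_of_norm ((zpowers_le.2 y1).trans b) (n3.trans b) ((zpowers_le.2 (n3 w5)).trans b)
        (BG4.comm_zpowers_le (b y1) fun g ⟨m, hg⟩ => hg ▸ BG4.comm_symm_mem
          (PGBasic.comm_zpow_left_mem (b (n3 w5)) (BG4.comm_symm_mem (mem_zpowers _)) m))
        ((comm_eq_bot_iff.2 (cent_of_comm n4 le_rfl (zpowers_le.2 w5))).le.trans bot_le))))
    rw [le_antisymm c a, Nat.card_zpowers]
    exact orderOf_eq_prime (hN.2 _ (d1 (hcm w w5))) fun e => d2 (by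
      rwa [e, zpowers_one_eq_bot, le_bot_iff] at c)
  have e2 : 𝓩(Q) = D := le_antisymm (fun z hz => by_contra fun e => d2 (BG.eq_bot_mono (h.s z hz.1 e)
    (comm_eq_bot_iff.2 (zpowers_le.2 hz.2)))) (le_inf (der_le Q) h.c)
  have e3 := H10Pg.center_mul (A := N.subgroupOf Q) y4 (fun e => d2 (card_eq_one.1 (by rw [← card_der, e, card_bot])))
  rw [card_der, ← card_map_of_injective (K := center Q) Q.subtype_injective, map_center, e2, e1,
    show ♯(N.subgroupOf Q) = ♯N from Nat.card_congr (subgroupOfEquivOfLe n3).toEquiv] at e3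
  obtain ⟨rfl, e4⟩ := h.t (by
    have a := card_mul_relIndex d1
    rw [e1, ← e3] at a
    rw [← relIndex_mul' d1 n3, y4, Nat.eq_of_mul_eq_mul_left hp.out.pos a, sq]) p3
  have sq1 : ∀ v ∈ N, v ^ 2 = 1 := hN.2
  refine d2 (comm_iff_der_eq_bot.1 (comm_of_exp2 fun z hz => ?_))
  by_cases e : z ∈ D
  · exact sq1 z (d1 e)
  obtain ⟨u, u1, u2⟩ := e4 w (n3 w5) w6 z hz e
  have u3 : u ∈ Q := by simpa using mul_mem hz (inv_mem (der_le Q u2))
  rw [← mul_inv_cancel_left u z, Commute.mul_pow (BG.mem_cent.1 (h.c u2) u u3), u1, sq1 w w5, sq1 _ (d1 u2), one_mul]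

theorem step [hp : Fact p.Prime] (hs : IsPSolvable p G) (hO : pPrimeCore p G = ⊥) (hQ : Syl p Q ⊤)
    (h : IsMulCommutative Q ∨ Good p Q) : Q ≤ pCore p G := by
  have n2 : IsPi {p} (pCore p G) := isPi_pcore hp.out
  have n3 : pCore p G ≤ Q := hQ.le_of_norm' n2 le_top (top_norm _ Q)
  obtain h | h := h
  · exact (cent_of_comm h le_rfl n3).trans (H12PSolv.centralizer_pCore_le hs hO)
  set π := QuotientGroup.mk' (Phi (pCore p G))
  have hπ : Function.Surjective π := QuotientGroup.mk'_surjective _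
  have k : π.ker = Phi (pCore p G) := QuotientGroup.ker_mk' _
  have a : (pCore p (G ⧸ Phi (pCore p G))).comap π ≤ pCore p G :=
    le_pcore hp.out (isPi_comap π (n2.of_le (k.le.trans (Phi_le _))) (isPi_pcore hp.out))
  refine (map_le_iff_le_comap.1 (base (H12PSolv.psolv_quotient hs _) ?_ (syl_map' hp.out hπ hQ) (h.map π ?_) ?_)).trans a
  · have b := le_pcore_of_comm_le hs hO (C := (pPrimeCore p _).comap π) (by
      haveI : ((pCore p G).map π).Normal := Normal.map inferInstance _ hπ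
      refine le_of_le_of_eq ?_ k
      rw [← Subgroup.map_eq_bot_iff, map_commutator, map_comap_eq_self_of_surjective hπ, comm_eq_bot_iff]
      exact cent_of_norm_cop (top_norm _ _) (top_norm _ _) ((pi_map n2 π).coprime (isPi_p'core hp.out)))
    refine ((pi_map n2 π).of_le ?_).eq_bot (isPi_p'core hp.out)
    rw [← map_comap_eq_self_of_surjective hπ (pPrimeCore p _)]
    exact map_mono b
  · rw [k]; exact inf_le_right.trans ((Phi_mono hp.out hQ.pi n3).trans (Phi_le_of hp.out hQ.pi le_rfl h.e))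
  · rw [le_antisymm ((map_comap_eq_self_of_surjective hπ _).ge.trans (map_mono a)) (Core.map_pCore_le π hπ)]
    exact elem_PV G p

/-- Let X be a finite minimal non-nilpotent group (not nilpotent, every proper subgroup nilpotent) with a nontrivial normal Sylow p-subgroup P. If G is a finite p-solvable group whose Sylow p-subgroups are isomorphic to P, then G has p-length at most 1. -/
theorem result {G X : Type*} [Group G] [Finite G] [Group X] [Finite X] (p : ℕ) [Fact p.Prime]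
    (hX : Cfsg.IsMinimalNonNilpotent X) (P : Sylow p X) (hPn : (P : Subgroup X).Normal) (hP1 : (P : Subgroup X) ≠ ⊥)
    (hG : Cfsg.IsPSolvable p G) (Q : Sylow p G) (hQ : Nonempty (↥(Q : Subgroup G) ≃* ↥(P : Subgroup X))) : Cfsg.PLengthLE p 1 G := by
  have hp : p.Prime := Fact.out
  have hQ' := syl_top hp Q
  obtain ⟨e⟩ := hQ
  have h : IsMulCommutative (Q : Subgroup G) ∨ Good p (Q : Subgroup G) := by
    by_cases hc : IsMulCommutative (P : Subgroup X)
    · exact Or.inl ⟨⟨fun a b => e.injective (by rw [map_mul, map_mul, hc.is_comm.comm])⟩⟩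
    right
    obtain ⟨q, r, x, R, hq, hr, h, h1, h2, h3, h4⟩ := schmidt_struct (H := (⊤ : Subgroup X))
      (fun h => hX.1 (Group.nilpotent_of_mulEquiv topEquiv)) fun K h => hX.2 K h.ne
    have hS := syl_top hp P
    have hPn' := top_norm (P : Subgroup X) ⊤
    have hd : p ∣ ♯R * ♯(zpowers x) := by
      rw [h3.card]; exact (hS.pi.dvd_card hP1).trans (card_dvd le_top)
    obtain rfl : p = r := by
      rcases (Nat.Prime.dvd_mul hp).1 hd with i | i
      · exact h2.pi p hp i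
      obtain rfl : p = q := h1.pi p hp i
      exact (hc (hS.eq_of_normal hPn' h1 ▸ inferInstance)).elim
    obtain rfl := hS.eq_of_normal hPn' h2
    have hcop := h2.pi.coprime_ne h1.pi h.symm
    have := (good_of hp hq h1.pi ⟨hp, h2.pi, h3.norm, hcop, le_rfl, le_normalizer,
      fun i => h4 (cent_symm i (mem_zpowers x)), fun U a b => cent_of_nil_cop (hX.2 (zpowers x ⊔ U) fun i => a.ne (by
        have := sup_inf_of_le_right b a.le
        rw [i, top_inf_eq, h3.disj', bot_sup_eq] at this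
        exact this.symm)) le_sup_right le_sup_left (cop_mono hcop a.le le_rfl)⟩ h3.sup hX.2 hc).range
      ((Q : Subgroup G).subtype.comp e.symm.toMonoidHom) fun y hy => by
        rw [e.symm.injective.eq_iff' (map_one _) |>.1 (Subtype.ext hy)]; exact one_mem _
    rwa [MonoidHom.range_comp, MonoidHom.range_eq_top.2 e.symm.surjective, ← MonoidHom.range_eq_map, range_subtype] at this
  set π := QuotientGroup.mk' (pPrimeCore p G)
  have hS := syl_map' hp (QuotientGroup.mk'_surjective (pPrimeCore p G)) hQ'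
  have := step (H12PSolv.psolv_quotient hG _) (p'core_quot hp) hS (h.imp (comm_map · π) fun h => h.map π (by
    rw [QuotientGroup.ker_mk', hQ'.pi.inf_eq_bot (isPi_p'core hp)]; exact bot_le))
  refine PL_of_quot_p'core hp ((PL1_top hp).1 (PL1_of_normal_syl hp hS ?_))
  rw [← hS.eq_of_le (isPi_pcore hp) this le_top]
  exact top_norm _ _

end Cfsg.Agent.S4394
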