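import Cfsg.Statements.S4395
import Cfsg.Agent.Lib.Grp.Schm2
import Cfsg.Agent.Lib.Solv.HH2

set_option autoImplicit false
universe u
open Cfsg

namespace Cfsg.Agent.S4395

open Subgroup CA.Schm CA.HigLin CA.PRes CA.Hyperfocal CA.BG CA.HH SemidirectProduct
open scoped commutatorElement

theorem struct {p q r t : ℕ} [hp : Fact p.Prime] [hq : Fact q.Prime] (hpq : p ≠ q) (hr : 1 ≤ r) {X : Type u} [Group X]
    [Finite X] (h1 : ¬ HasNormalPComplement p X) (h2 : ∀ K : Subgroup X, K ≠ ⊤ → HasNormalPComplement p K)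
    (ht : Nat.card X = p ^ t * q ^ r) {E : Type} [Field E] [Fintype E] (hE : Fintype.card E = p ^ orderOf (p : ZMod q))
    {ζ : E} (ho : orderOf ζ = q) :
    ∃ (P Φ : Subgroup X) (y : X) (π : X → E), IsPGroup p P ∧ Add P Φ π ∧ Φ < P ∧ (∀ z ∈ Φ, ∀ x ∈ P, z * x = x * z) ∧
      (∀ z ∈ Φ, y * z * y⁻¹ = z) ∧ (∀ x ∈ P, y * x * y⁻¹ ∈ P) ∧ (∀ x ∈ P, π (y * x * y⁻¹) = ζ * π x) ∧
      (∀ x ∈ P, y ^ q * x * (y ^ q)⁻¹ = x) ∧ orderOf y = q ^ r ∧ zpowers y ⊔ P = ⊤ ∧
      ∀ U, U < P → (∀ x ∈ U, y * x * y⁻¹ ∈ U) → U ≤ Φ := by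
  rw [hasNPC_iff_forall_pgroup] at h1
  push Not at h1
  obtain ⟨Q, hQ, g, hg, hc, hn⟩ := h1
  have cen : ∀ U : Subgroup X, U ≤ Q → ∀ y ∈ normalizer (U : Set X), (orderOf y).Coprime p → zpowers y ⊔ U ≠ ⊤ →
      y ∈ centralizer (U : Set X) := fun U hU y h3 h4 h5 =>
    mem_centralizer_of_hasNPC_subgroup (h2 _ h5) (hQ.to_le hU) le_sup_right (mem_sup_left (mem_zpowers y)) h3 h4
  have htop : zpowers g ⊔ Q = ⊤ := by
    by_contra hne
    exact hn (cen Q le_rfl g hg hc hne)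
  have hQn : Q.Normal := normalizer_eq_top_iff.1
    (eq_top_iff.2 (htop.ge.trans (sup_le (zpowers_le.2 hg) le_normalizer)))
  have hco : (q ^ r).Coprime p := ((Nat.coprime_primes hq.out hp.out).2 hpq.symm).pow_left r
  have hd : ∀ y, zpowers y ⊔ Q = ⊤ → q ^ r ∣ orderOf y := fun y hy => by
    have h3 := CA.Coprime.relIndex_dvd_card_of_le_sup (A := zpowers y) (K := Q) (by rw [normalizer_eq_top]; exact le_top)
      hy.ge
    rw [relIndex_top_right, Nat.card_zpowers] at h3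
    obtain ⟨k, hk⟩ := hQ.exists_card_eq
    exact ((hco.pow_right k).dvd_of_dvd_mul_left (by rw [← hk, Q.card_mul_index, ht]; exact dvd_mul_left _ _)).trans h3
  have hog : orderOf g = q ^ r :=
    Nat.dvd_antisymm ((hc.pow_right t).dvd_of_dvd_mul_left (ht ▸ orderOf_dvd_natCard g)) (hd g htop)
  have hgq : g ^ q ∈ centralizer (Q : Set X) := cen Q le_rfl _ (pow_mem hg q)
    (hc.coprime_dvd_left (orderOf_pow_dvd q)) fun e => by
      have h3 : q ^ r ∣ q ^ (r - 1) := (hd _ e).trans (orderOf_dvd_of_pow_eq_one (by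
        rw [← pow_mul, ← pow_succ', Nat.sub_add_cancel hr, ← hog, pow_orderOf_eq_one]))
      rw [Nat.pow_dvd_pow_iff_le_right hq.out.one_lt] at h3
      omega
  have hπQ := isPi_of_isPGroup hp.out hQ
  have hcop := hπQ.coprime ((isPi_compl_iff_coprime hp.out (H := zpowers g)).2 (by rwa [Nat.card_zpowers]))
  have h : Crit p (zpowers g) (zpowers g) Q := ⟨hp.out, hπQ, zpowers_le.2 hg, hcop, le_rfl, le_normalizer,
    fun e => hn (cent_symm e (mem_zpowers g)), fun U a b => cent_symm (zpowers_le.2 (cen U a.le g (b (mem_zpowers g)) hc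
      fun i => a.ne (by
        have := sup_inf_of_le_right b a.le
        rw [i, top_inf_eq, inf_eq_bot_of_cop hcop.symm, bot_sup_eq] at this
        exact this.symm)))⟩
  have hlt := Phi_lt h.ne_bot
  have hcj : ∀ y, ∀ x ∈ Q, y * x * y⁻¹ ∈ Q := fun y x hx => hQn.conj_mem x hx y
  have hfix : ∀ k : ℕ, ∀ z ∈ Phi Q, g ^ k * z * (g ^ k)⁻¹ = z := fun k z hz => by
    rw [h.phi_cent hz _ (npow_mem_zpowers g k), mul_inv_cancel_right]
  obtain ⟨V, _, π, hπ⟩ := exists_add hlt.le fun x hx y hy => der_le_Phi hp.out hπQ (commutator_mem_commutator hx hy)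
  have := hπ.finite
  obtain ⟨α, hα⟩ := hπ.lift (fun x => π (g * x * g⁻¹)) (fun x hx y hy => by
    rw [← hπ.mul _ (hcj g x hx) _ (hcj g y hy)]; congr 1; group) fun x hx hx' => by
      have := hfix 1 x hx'
      rw [pow_one] at this
      rw [this, hπ.zero x hx]; exact hx'
  obtain ⟨x0, hx0, hx0'⟩ := SetLike.exists_of_lt hlt
  have hphi : ∀ U, U < Q → (∀ x ∈ U, g * x * g⁻¹ ∈ U) → U ≤ Phi Q := fun U a b =>
    h.le_phi a (zpowers_le.2 (CA.SylIn.mem_normalizer_of_forall b))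
  obtain ⟨F, _, _, e, -, h3, h4⟩ := exists_field (V := V) {α} (by rintro _ rfl _ rfl; rfl) (fun W hW => by
    refine hπ.eq_bot_or_top hlt.le ((lt_or_eq_of_le fun x hx => (hπ.mem_pre.1 hx).1).imp_left fun a =>
      le_antisymm (hphi _ a fun x hx => ?_) (hπ.le_pre hlt.le W))
    rw [hπ.mem_pre] at hx ⊢
    exact ⟨hcj g x hx.1, hα x hx.1 ▸ hW α rfl _ hx.2⟩) (v0 := π x0) fun e => hx0' ((hπ.zero _ hx0).1 e)
  obtain ⟨c, hc'⟩ := h3 α rfl
  have hπ' := hπ.comp e
  have h5 : ∀ k : ℕ, ∀ x ∈ Q, e (π (g ^ k * x * (g ^ k)⁻¹)) = c ^ k * e (π x) := fun k x hx => by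
    induction k with
    | zero => simp
    | succ k ih =>
      rw [pow_succ' c, mul_assoc c, ← ih, ← hc', show (show AddMonoid.End V from α) (π _) = _ from hα _ (hcj _ x hx)]
      congr 2; group
  obtain ⟨x1, hx1, e1⟩ := hπ'.surj 1
  have h6 : orderOf c = q := orderOf_eq_prime (by
      have := h5 q x1 hx1
      rw [← hgq x1 hx1, mul_inv_cancel_right, e1, mul_one] at this
      exact this.symm) fun e2 => hlt.not_ge (h.comm_eq.ge.trans (commutator_le.2 fun x hx y hy => by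
    obtain ⟨k, rfl⟩ := mem_powers_iff_mem_zpowers.2 hy
    have := h5 k _ (inv_mem hx)
    rw [e2, one_pow, one_mul, eq_comm, hπ'.eq_iff (inv_mem hx) (hcj _ _ (inv_mem hx))] at this
    simpa [commutatorElement_def, mul_assoc] using this))
  have h7 : CharP F p := (CharP.charP_iff_prime_eq_zero hp.out).2 (by
    have h8 : ∀ n : ℕ, e (π (x1 ^ n)) = n := fun n => by
      induction n with
      | zero => simpa using hπ'.one
      | succ n ih => rw [pow_succ, hπ'.mul _ (pow_mem hx1 n) _ hx1, ih, e1, Nat.cast_succ]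
    exact (h8 p).symm.trans ((hπ'.zero _ (pow_mem hx1 p)).2 (pow_mem_Phi hp.out hπQ hx1)))
  have h8 : Subring.closure {c} = ⊤ := eq_top_iff.2 (h4.ge.trans (Subring.closure_mono (by
    rintro d ⟨_, rfl, hd⟩
    have := (hd (π x1)).symm.trans (hc' (π x1))
    rwa [e1, mul_one, mul_one] at this)))
  let f := FiniteField.ringEquivOfCardEq ((card_of_clos hpq h6 h8).trans hE.symm)
  have h9 : orderOf (f c) = q := (f.toMulEquiv.orderOf_eq c).trans h6
  obtain ⟨k, -, hk⟩ := (h9 ▸ IsPrimitiveRoot.orderOf (f c) : IsPrimitiveRoot (f c) q).eq_pow_of_pow_eq_one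
    (ho ▸ pow_orderOf_eq_one ζ : ζ ^ q = 1)
  have h10 : k.Coprime (orderOf g) := hog ▸ ((hq.out.coprime_iff_not_dvd.2 fun e => hq.out.one_lt.ne' (by
    rw [← ho, ← hk, orderOf_dvd_iff_pow_eq_one.1 (h9 ▸ e), orderOf_one])).symm).pow_right r
  have h11 : zpowers (g ^ k) = zpowers g :=
    le_antisymm (zpowers_le.2 (npow_mem_zpowers g k)) (zpowers_le.2 (mem_zpowers_pow_iff.2 h10))
  refine ⟨Q, Phi Q, g ^ k, fun x => f (e (π x)), hQ, hπ'.comp f.toAddEquiv, hlt, fun z hz x hx =>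
    (h.phi_le_cent hz x hx).symm, hfix k, hcj _, fun x hx => by simp only [h5 k x hx, map_mul, map_pow, hk], fun x hx => ?_,
    h10.symm.orderOf_pow.trans hog, h11 ▸ htop, fun U a b =>
      h.le_phi a (h11 ▸ zpowers_le.2 (CA.SylIn.mem_normalizer_of_forall b))⟩
  rw [← pow_mul, pow_mul', ← pow_mem hgq k x hx, mul_inv_cancel_right]

/-- Let p ≠ q be primes, r ≥ 1, a the multiplicative order of p modulo q, and a₀ = a when a is odd, a₀ = 3a/2 when a is even. Call a finite group minimal non-p-nilpotent when it has no normal p-complement but every proper subgroup has one. Then there is a minimal non-p-nilpotent group G₀ of order p^a₀ · q^r such that every minimal non-p-nilpotent group of order p^t · q^r (any t) is a quotient of G₀ by a central subgroup. -/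
theorem result (p q r : ℕ) [Fact p.Prime] [Fact q.Prime] (hpq : p ≠ q) (hr : 1 ≤ r) (a a₀ : ℕ)
    (ha : a = orderOf (p : ZMod q)) (ha₀ : a₀ = if a % 2 = 1 then a else 3 * a / 2) :
    ∃ (G₀ : Type u) (_ : Group G₀) (_ : Finite G₀),
      (¬ Cfsg.HasNormalPComplement p G₀ ∧ ∀ K : Subgroup G₀, K ≠ ⊤ → Cfsg.HasNormalPComplement p ↥K) ∧ Nat.card G₀ = p ^ a₀ * q ^ r ∧
      ∀ (X : Type u) [Group X] [Finite X], (¬ Cfsg.HasNormalPComplement p X ∧ ∀ K : Subgroup X, K ≠ ⊤ → Cfsg.HasNormalPComplement p ↥K) →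
        (∃ t : ℕ, Nat.card X = p ^ t * q ^ r) → ∃ φ : G₀ →* X, Function.Surjective φ ∧ φ.ker ≤ Subgroup.center G₀ := by
  have hp : p.Prime := Fact.out
  have hq : q.Prime := Fact.out
  obtain ⟨E, W, _, _, _, ζ, β, hE, ho, D, hc⟩ := exists_dat.{u} hpq ha
  have h0 := ne_zero_of_ord ho
  rw [← ha₀, ← card_Hz (β := β)] at hc
  have : Finite (Hz β) := Nat.finite_of_card_ne_zero (hc ▸ pow_ne_zero _ hp.ne_zero)
  have : NeZero (q ^ r) := ⟨pow_ne_zero _ hq.ne_zero⟩
  let C := ULift.{u} (Multiplicative (ZMod (q ^ r)))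
  have hC : Nat.card C = q ^ r := by simp [C]
  obtain ⟨g, hg⟩ := (isCyclic_of_surjective (MulEquiv.ulift (α := Multiplicative (ZMod (q ^ r)))).symm
    (MulEquiv.surjective _) : IsCyclic C).exists_generator
  have hog := (orderOf_eq_card_of_forall_mem_zpowers hg).trans hC
  let φ : C →* MulAut (Hz β) := monoidHomOfForallMemZpowers hg (g' := th h0 D.inv) (by
    rw [hog]
    refine (orderOf_dvd_of_pow_eq_one (MulEquiv.ext fun x => ?_)).trans (dvd_pow_self q (by omega))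
    rw [th_pow, ← ho, pow_orderOf_eq_one, one_mul]; rfl)
  have hφ : φ g = th h0 D.inv := monoidHomOfForallMemZpowers_apply_gen _ _
  have : Finite (Hz β ⋊[φ] C) := Finite.of_equiv _ equivProd.symm
  refine ⟨Hz β ⋊[φ] C, inferInstance, this, min_G D h0 ho hpq (Nat.card_eq_fintype_card.trans (ha ▸ hE))
    (IsPGroup.of_card hc) hg hog φ hφ, by rw [SemidirectProduct.card, hc, hC], fun X _ _ ⟨h1, h2⟩ ⟨t, ht⟩ => ?_⟩
  obtain ⟨P, Φ, y, π, hP, hπ, hlt, h3, h4, h5, h6, h7, h8, h9, h10⟩ := struct hpq hr h1 h2 ht (ha ▸ hE) ho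
  obtain ⟨ψ, h11, h12⟩ := exists_hom D h0 ho hP hpq hπ hlt.le h3 h4 h5 h6 h7
  let χ : C →* X := monoidHomOfForallMemZpowers hg (g' := y) (by rw [h8, hog])
  have hχ : χ g = y := monoidHomOfForallMemZpowers_apply_gen _ _
  have h13 : ∀ (k : ℕ) u, ψ (φ (g ^ k) u) = χ (g ^ k) * ψ u * (χ (g ^ k))⁻¹ := fun k u => by
    induction k with
    | zero => simp
    | succ k ih => rw [pow_succ', map_mul, MulAut.mul_apply, hφ, h12, ih, map_mul, hχ]; group
  have h14 : ψ.range = P := by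
    refine (lt_or_eq_of_le (by rintro _ ⟨u, rfl⟩; exact (h11 u).1)).resolve_left fun e => ?_
    have := h10 _ e (by rintro _ ⟨u, rfl⟩; exact ⟨_, h12 u⟩) ⟨⟨1, 0⟩, rfl⟩
    exact one_ne_zero ((h11 ⟨1, 0⟩).2.symm.trans ((hπ.zero _ (h11 _).1).2 this))
  refine ⟨lift ψ χ fun c => MonoidHom.ext fun u => ?_, MonoidHom.range_eq_top.1 (eq_top_iff.2 (h9.ge.trans
    (sup_le (zpowers_le.2 ⟨inr g, by simp [hχ]⟩) (h14.ge.trans ?_)))), fun x hx => ?_⟩
  · obtain ⟨k, rfl⟩ := mem_powers_iff_mem_zpowers.2 (hg c)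
    exact h13 k u
  · rintro _ ⟨u, rfl⟩
    exact ⟨inl u, by simp⟩
  obtain ⟨k, hk⟩ := mem_powers_iff_mem_zpowers.2 (hg x.right)
  have h15 : ψ x.left * χ x.right = 1 := hx
  rw [← hk] at h15
  simp only [map_pow, hχ] at h15
  have h16 : y ^ k = 1 := by
    obtain ⟨j, hj⟩ := hP ⟨y ^ k, eq_inv_of_mul_eq_one_right h15 ▸ inv_mem (h11 _).1⟩
    exact orderOf_eq_one_iff.1 (Nat.eq_one_of_dvd_coprimes (((Nat.coprime_primes hq hp).2 hpq.symm).pow r j)
      (h8 ▸ orderOf_pow_dvd k) (orderOf_dvd_of_pow_eq_one (congrArg Subtype.val hj)))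
  have h17 : x.right = 1 := hk.symm.trans (orderOf_dvd_iff_pow_eq_one.1 (by
    rw [hog, ← h8]; exact orderOf_dvd_of_pow_eq_one h16))
  rw [h16, mul_one] at h15
  have h18 : x.left.a = 0 := by rw [← (h11 _).2, h15, hπ.one]
  refine mem_center_iff.2 fun z => SemidirectProduct.ext ?_ (by simp [h17])
  obtain ⟨j, hj⟩ := mem_powers_iff_mem_zpowers.2 (hg z.right)
  simp only [mul_left, h17, map_one, MulAut.one_apply, ← hj, map_pow, hφ, th_pow, h18, mul_zero]
  rw [cent_Hz h18, ← h18]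

end Cfsg.Agent.S4395
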