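import Cfsg.Statements.S4408
import Cfsg.Agent.S1349
import Cfsg.Agent.Lib.Grp.Fitting

set_option autoImplicit false
open Cfsg

namespace Cfsg.Agent.S4408

open Subgroup in
theorem prime_pow {G : Type*} [Group G] [Finite G] {x : G} (hx : x ≠ 1) :
    ∃ k : ℕ, (orderOf (x ^ k)).Prime := by
  have h1 : orderOf x ≠ 1 := by simpa using hx
  have h0 : orderOf x ≠ 0 := (orderOf_pos x).ne'
  refine ⟨orderOf x / (orderOf x).minFac, ?_⟩
  rw [orderOf_pow_orderOf_div h0 (Nat.minFac_dvd _)]
  exact Nat.minFac_prime h1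

theorem eq_one_of_inv {G : Type*} [Group G] [Finite G] {B : Subgroup G} (hB : Odd (Nat.card B))
    {y : G} (hy : y ∈ B) (h : y = y⁻¹) : y = 1 := by
  have h2 : y ^ 2 = 1 := by rw [pow_two]; nth_rewrite 2 [h]; simp
  have hd : orderOf y ∣ Nat.card B := Subgroup.orderOf_dvd_natCard B hy
  have : orderOf y ∣ Nat.gcd 2 (Nat.card B) := Nat.dvd_gcd (orderOf_dvd_of_pow_eq_one h2) hd
  rw [(Nat.coprime_two_left.2 hB : Nat.gcd 2 _ = 1)] at this
  simpa using this

open Subgroup in

/-- Let S be a finite solvable group whose Fitting subgroup F(S) has odd order, and let I be an elementary abelian 2-subgroup of S of order 2ⁿ with n ≥ 1. Then F(S) contains subgroups A₁, …, Aₙ of prime order, each normalized by I, pairwise commuting and generating a subgroup A of order |A₁|⋯|Aₙ| (their internal direct product), such that no non-identity element of I centralizes A. -/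
theorem result {S : Type*} [Group S] [Finite S]
    [Group.IsSolvable S] (hF : Odd (Nat.card ↥(Cfsg.fittingSubgroup S)))
    (I : Subgroup S) (hI : Cfsg.IsElementaryAbelian 2 I) (n : ℕ) (hn : 1 ≤ n) (hIn : Nat.card ↥I = 2 ^ n) :
    ∃ f : Fin n → Subgroup S, (∀ i, (Nat.card ↥(f i)).Prime) ∧ (∀ i, f i ≤ Cfsg.fittingSubgroup S) ∧
      (∀ i, I ≤ Subgroup.normalizer ((f i) : Set S)) ∧ (∀ i j, i ≠ j → ∀ a ∈ f i, ∀ b ∈ f j, a * b = b * a) ∧
      Nat.card ↥(⨆ i, f i) = ∏ i, Nat.card ↥(f i) ∧ I ⊓ Subgroup.centralizer ((⨆ i, f i : Subgroup S) : Set S) = ⊥ := by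
  classical
  have hf : I ⊓ centralizer (fittingSubgroup S : Set S) = ⊥ := by
    rw [eq_bot_iff]
    rintro a ⟨haI, haC⟩
    have hF' := CA.Fitting.centralizer_fitting_le haC
    refine eq_one_of_inv hF hF' ?_
    have := hI.2 a haI
    rw [pow_two] at this
    exact eq_inv_of_mul_eq_one_left this
  have hn' : I ≤ normalizer (fittingSubgroup S : Set S) := by
    have : (fittingSubgroup S).Normal := inferInstance
    rw [normalizer_eq_top]; exact le_top
  obtain ⟨B, hBF, hBC, hIB, hB0⟩ := S1349.exists_ab (L := fittingSubgroup S) inferInstance hF hI hn' hf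
  have hB : Odd (Nat.card B) := Odd.of_dvd_nat hF (card_dvd_of_le hBF)
  obtain ⟨x, a, h, -, h0⟩ := S1349.dual hI hB hIB hB0 n I le_rfl hIn
  have hx1 : ∀ i, x i ≠ 1 := fun i e => (h i).2.2.2.1 (by rw [e]; simp [mem_centralizer_iff])
  choose k hk using fun i => prime_pow (hx1 i)
  have hyB : ∀ i, zpowers (x i ^ k i) ≤ B := fun i => zpowers_le.2 (B.pow_mem (h i).1 _)
  have hinv : ∀ i, ∀ b ∈ I, b ∉ centralizer {x i} → ∀ y ∈ zpowers (x i ^ k i), b * y * b⁻¹ = y⁻¹ := by
    intro i b hb hbc y hy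
    rcases (h i).2.1 b hb with e | e
    · exact absurd (mem_centralizer_singleton_iff.2 (by rw [← mul_inv_eq_iff_eq_mul]; exact e)) hbc
    · obtain ⟨m, rfl⟩ := hy
      simp only
      rw [← conj_zpow, ← conj_pow, e, inv_pow, inv_zpow]
  have hcen : ∀ i, ∀ b ∈ centralizer {x i}, ∀ y ∈ zpowers (x i ^ k i), b * y * b⁻¹ = y := by
    intro i b hb y hy
    obtain ⟨m, rfl⟩ := hy
    have e : b * x i * b⁻¹ = x i := by
      rw [mul_inv_eq_iff_eq_mul]; exact mem_centralizer_singleton_iff.1 hb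
    simp only
    rw [← conj_zpow, ← conj_pow, e]
  have hcomm : ∀ i j, i ≠ j → ∀ u ∈ zpowers (x i ^ k i), ∀ v ∈ zpowers (x j ^ k j), u * v = v * u :=
    fun i j _ u hu v hv => (hBC (hyB j hv) u (hyB i hu))
  refine ⟨fun i => zpowers (x i ^ k i), fun i => by rw [Nat.card_zpowers]; exact hk i,
    fun i => (hyB i).trans hBF, fun i b hb => ?_, hcomm, ?_, ?_⟩
  · refine mem_normalizer_fintype ?_
    intro y hy
    by_cases hc : b ∈ centralizer {x i}
    · rw [hcen i b hc y hy]; exact hy
    · rw [hinv i b hb hc y hy]; exact inv_mem hy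
  · have hc : Pairwise fun i j : Fin n => ∀ u v : S, u ∈ zpowers (x i ^ k i) →
        v ∈ zpowers (x j ^ k j) → Commute u v := fun i j hij u v hu hv => hcomm i j hij u hu v hv
    have hind : iSupIndep fun i => zpowers (x i ^ k i) := by
      intro i
      rw [disjoint_iff, eq_bot_iff]
      rintro y ⟨hy, hy'⟩
      have hle : (⨆ j, ⨆ (_ : j ≠ i), zpowers (x j ^ k j)) ≤ centralizer {a i} := by
        refine iSup₂_le fun j hj u hu => ?_
        have := hcen j (a i) ((h j).2.2.2.2 i (Ne.symm hj)) u hu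
        rw [mem_centralizer_singleton_iff]
        rw [mul_inv_eq_iff_eq_mul] at this; exact this.symm
      have e1 := mem_centralizer_singleton_iff.1 (hle hy')
      have e2 := hinv i (a i) (h i).2.2.1 (h i).2.2.2.1 y hy
      rw [← e1, mul_inv_cancel_right] at e2
      exact eq_one_of_inv hB (hyB i hy) e2
    have hinj := Subgroup.injective_noncommPiCoprod_of_iSupIndep (hcomm := hc) hind
    rw [← Subgroup.noncommPiCoprod_range (hcomm := hc), ← Nat.card_pi]
    exact (Nat.card_congr (MonoidHom.ofInjective hinj).toEquiv).symm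
  · rw [eq_bot_iff, ← h0]
    rintro b ⟨hb, hbc⟩
    refine ⟨hb, ?_⟩
    refine mem_iInf.2 fun i => ?_
    by_contra hc
    have hy : x i ^ k i ∈ zpowers (x i ^ k i) := mem_zpowers _
    have e2 := hinv i b hb hc _ hy
    have e1 : x i ^ k i * b = b * x i ^ k i :=
      hbc _ (mem_iSup_of_mem (S := fun i => zpowers (x i ^ k i)) i hy)
    rw [← e1, mul_inv_cancel_right] at e2
    have := eq_one_of_inv hB (hyB i hy) e2
    have hp := hk i
    rw [this, orderOf_one] at hp
    exact Nat.not_prime_one hp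

end Cfsg.Agent.S4408
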