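import Cfsg.Statements.S4418
import Cfsg.Agent.S1238
import Cfsg.Agent.S0949
import Cfsg.Agent.S4593
import Cfsg.Agent.Lib.Grp.Iso3
import Cfsg.Agent.Lib.Grp.H4Cls
import Cfsg.Agent.Lib.Grp.Core

set_option autoImplicit false
open Cfsg

namespace Cfsg.Agent.S4418

open Subgroup CA.SylIn CA.PRes
open scoped commutatorElement

universe u

structure E {G : Type*} [Group G] (S : Subgroup G) (a b : G) : Prop where
  pg : IsPGroup 2 S
  ha : a ∈ S
  hb : b ∈ S
  nrm : b * a * b⁻¹ ∈ zpowers a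
  gen : ∀ s ∈ S, ∃ j : ℕ, s * (b ^ j)⁻¹ ∈ zpowers a
  sq : b ^ 2 ∉ zpowers a

theorem cyc_card_le {C : Type*} [Group C] [Finite C] (hc : IsCyclic C) {m : ℕ} (hm : 0 < m)
    (h : ∀ x : C, x ^ m = 1) : Nat.card C ≤ m := by
  rw [← IsCyclic.exponent_eq_card]
  exact Nat.le_of_dvd hm (Monoid.exponent_dvd_of_forall_pow_eq_one h)

theorem cyc_two {C : Type*} [Group C] [Finite C] (hc : IsCyclic C) {x y : C} (hx : x ^ 2 = 1)
    (hy : y ^ 2 = 1) : x = 1 ∨ y = 1 ∨ x = y := by
  classical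
  by_contra h
  push Not at h
  obtain ⟨h1, h2, h3⟩ := h
  have := Fintype.ofFinite C
  have hle := IsCyclic.card_pow_eq_one_le (α := C) (n := 2) (by norm_num)
  have : ({1, x, y} : Finset C) ⊆ Finset.univ.filter (fun a : C => a ^ 2 = 1) := by
    intro z hz
    simp only [Finset.mem_insert, Finset.mem_singleton] at hz
    rcases hz with rfl | rfl | rfl <;> simp [*]
  have := (Finset.card_le_card this).trans hle
  rw [Finset.card_eq_three.2 ⟨1, x, y, h1.symm, h2.symm, h3, rfl⟩] at this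
  omega

namespace E
variable {G : Type*} [Group G] [Finite G] {S : Subgroup G} {a b : G} (h : E S a b)
include h

theorem le : zpowers a ≤ S := (zpowers_le).2 h.ha

theorem b_norm : b ∈ normalizer (zpowers a : Set G) := by
  refine mem_normalizer_of_conj_le ?_
  rw [conj_zpowers]; exact zpowers_le.2 h.nrm

theorem le_norm : S ≤ normalizer (zpowers a : Set G) := by
  intro s hs
  obtain ⟨j, hj⟩ := h.gen s hs
  have : s = s * (b ^ j)⁻¹ * b ^ j := by group
  rw [this]
  exact mul_mem (le_normalizer hj) (pow_mem h.b_norm j)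

theorem nm : ((zpowers a).subgroupOf S).Normal :=
  (normal_subgroupOf_iff_le_normalizer h.le).2 h.le_norm

theorem cyc : haveI := h.nm; IsCyclic (S ⧸ (zpowers a).subgroupOf S) := by
  haveI := h.nm
  refine ⟨⟨((⟨b, h.hb⟩ : S) : S ⧸ (zpowers a).subgroupOf S), fun x => ?_⟩⟩
  obtain ⟨s, rfl⟩ := QuotientGroup.mk_surjective x
  obtain ⟨j, hj⟩ := h.gen s s.2
  refine ⟨j, ?_⟩
  simp only [zpow_natCast]
  rw [← QuotientGroup.mk_pow, eq_comm, ← mul_inv_eq_one, ← QuotientGroup.mk_inv,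
    ← QuotientGroup.mk_mul, QuotientGroup.eq_one_iff, mem_subgroupOf]
  simpa using hj

theorem three {x y : G} (hx : x ∈ S) (hy : y ∈ S) (hx2 : x ^ 2 ∈ zpowers a)
    (hy2 : y ^ 2 ∈ zpowers a) : x ∈ zpowers a ∨ y ∈ zpowers a ∨ x⁻¹ * y ∈ zpowers a := by
  haveI := h.nm
  have := cyc_two h.cyc (x := ((⟨x, hx⟩ : S) : S ⧸ (zpowers a).subgroupOf S))
    (y := ((⟨y, hy⟩ : S) : S ⧸ (zpowers a).subgroupOf S))
    (by rw [← QuotientGroup.mk_pow, QuotientGroup.eq_one_iff, mem_subgroupOf]; simpa using hx2)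
    (by rw [← QuotientGroup.mk_pow, QuotientGroup.eq_one_iff, mem_subgroupOf]; simpa using hy2)
  rw [QuotientGroup.eq_one_iff, QuotientGroup.eq_one_iff, QuotientGroup.eq, mem_subgroupOf,
    mem_subgroupOf, mem_subgroupOf] at this
  simpa using this

theorem comm_mem {x y : G} (hx : x ∈ S) (hy : y ∈ S) : ⁅x, y⁆ ∈ zpowers a := by
  haveI := h.nm
  have := h.cyc
  have e : (((⁅(⟨x, hx⟩ : S), (⟨y, hy⟩ : S)⁆ : S)) : S ⧸ (zpowers a).subgroupOf S) = 1 := by
    change QuotientGroup.mk' _ _ = 1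
    rw [map_commutatorElement, commutatorElement_eq_one_iff_mul_comm]
    exact (IsCyclic.commutative).is_comm.comm _ _
  rw [QuotientGroup.eq_one_iff, mem_subgroupOf] at e
  exact e

theorem comm_le : ⁅S, S⁆ ≤ zpowers a :=
  commutator_le.2 fun _ hx _ hy => h.comm_mem hx hy

theorem even_of {x : G} (hx : x ∈ S) (hx2 : x ^ 2 ∈ zpowers a) :
    ∃ j : ℕ, x * ((b ^ 2) ^ j)⁻¹ ∈ zpowers a := by
  haveI := h.nm
  obtain ⟨j, hj⟩ := h.gen x hx
  rcases Nat.even_or_odd' j with ⟨i, rfl | rfl⟩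
  · exact ⟨i, by rwa [← pow_mul]⟩
  exfalso
  apply h.sq
  set β := ((⟨b, h.hb⟩ : S) : S ⧸ (zpowers a).subgroupOf S)
  have e1 : ((⟨x, hx⟩ : S) : S ⧸ (zpowers a).subgroupOf S) = β ^ (2 * i + 1) := by
    rw [← QuotientGroup.mk_pow, ← mul_inv_eq_one, ← QuotientGroup.mk_inv,
      ← QuotientGroup.mk_mul, QuotientGroup.eq_one_iff, mem_subgroupOf]
    simpa using hj
  have e2 : ((⟨x, hx⟩ : S) : S ⧸ (zpowers a).subgroupOf S) ^ 2 = 1 := by
    rw [← QuotientGroup.mk_pow, QuotientGroup.eq_one_iff, mem_subgroupOf]; simpa using hx2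
  rw [e1, ← pow_mul, mul_comm, pow_mul] at e2
  have e3 : β ^ 2 = 1 := by
    refine eq_one_of_coprime_of_isPGroup (h.pg.to_quotient _) ?_
    exact Nat.Coprime.coprime_dvd_left (orderOf_dvd_of_pow_eq_one e2) (by simp)
  rw [← QuotientGroup.mk_pow, QuotientGroup.eq_one_iff, mem_subgroupOf] at e3
  simpa using e3

theorem sq_comm {w : G} (hw : w ∈ zpowers a) (h4 : w ^ 4 = 1) : Commute (b ^ 2) w := by
  obtain ⟨r, hr⟩ := mem_powers_iff_mem_zpowers.2 h.nrm
  obtain ⟨i, rfl⟩ := mem_powers_iff_mem_zpowers.2 hw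
  simp only at hr h4 ⊢
  have e : b * a ^ i * b⁻¹ = (a ^ i) ^ r := by
    rw [← conj_pow, ← hr, ← pow_mul, ← pow_mul, mul_comm]
  generalize a ^ i = w at e h4
  have e2 : b ^ 2 * w * (b ^ 2)⁻¹ = w ^ (r * r) := by
    rw [pow_mul, ← e, conj_pow, ← e, pow_two]; group
  have e3 : b ^ 2 * w * (b ^ 2)⁻¹ = w := by
    rcases Nat.even_or_odd' r with ⟨k, rfl | rfl⟩
    · rw [show 2 * k * (2 * k) = 4 * (k * k) by ring, pow_mul, h4, one_pow] at e2
      have : w = 1 := by simpa using e2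
      rw [this]; group
    · rw [show (2 * k + 1) * (2 * k + 1) = 4 * (k * k + k) + 1 by ring, pow_succ w, pow_mul, h4,
        one_pow, one_mul] at e2
      exact e2
  exact (mul_inv_eq_iff_eq_mul.1 e3)

theorem comm_of {x w : G} (hx : x ∈ S) (hx2 : x ^ 2 ∈ zpowers a) (hw : w ∈ zpowers a)
    (h4 : w ^ 4 = 1) : Commute x w := by
  obtain ⟨j, hj⟩ := h.even_of hx hx2
  have : x = x * ((b ^ 2) ^ j)⁻¹ * (b ^ 2) ^ j := by group
  rw [this]
  refine Commute.mul_left ?_ ((h.sq_comm hw h4).pow_left j)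
  obtain ⟨i, hi⟩ := hj
  obtain ⟨k, rfl⟩ := hw
  rw [← hi]
  exact Commute.zpow_zpow_self a i k

theorem noQD {x y : G} (hx : x ∈ S) (hy : y ∈ S) (e : y * x * y⁻¹ = x⁻¹) (h4 : x ^ 4 = 1)
    (hy2 : y ^ 2 = 1 ∨ y ^ 2 = x ^ 2) : x ^ 2 = 1 := by
  have a1 : x ^ 2 ∈ zpowers a := by
    have := h.comm_mem hx hy
    rwa [commutatorElement_def, show x * y * x⁻¹ * y⁻¹ = x * (y * x * y⁻¹)⁻¹ by group, e, inv_inv,
      ← pow_two] at this
  have a2 : y ^ 2 ∈ zpowers a := by
    rcases hy2 with e' | e' <;> rw [e']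
    exacts [one_mem _, a1]
  have y4 : y ^ 4 = 1 := by
    rw [show 4 = 2 * 2 by norm_num, pow_mul]
    rcases hy2 with e' | e' <;> rw [e']
    · simp
    · rw [← pow_mul]; exact h4
  have key : Commute x y → x ^ 2 = 1 := by
    intro hc
    rw [← hc.eq, mul_inv_cancel_right, eq_inv_iff_mul_eq_one] at e
    rwa [pow_two]
  rcases h.three hx hy a1 a2 with w | w | w
  · exact key (h.comm_of hy a2 w h4).symm
  · exact key (h.comm_of hx a1 w y4)
  · refine key ?_
    have e2 : (x⁻¹ * y) ^ 2 = y ^ 2 := by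
      have : y * x⁻¹ * y⁻¹ = x := by
        rw [show y * x⁻¹ * y⁻¹ = (y * x * y⁻¹)⁻¹ by group, e, inv_inv]
      calc (x⁻¹ * y) ^ 2 = x⁻¹ * (y * x⁻¹ * y⁻¹) * y ^ 2 := by rw [pow_two, pow_two]; group
        _ = y ^ 2 := by rw [this]; group
    have := h.comm_of hx a1 w (by
      rw [show 4 = 2 * 2 by norm_num, pow_mul, e2, ← pow_mul]; exact y4)
    have h3 := (Commute.refl x).mul_right this
    rwa [mul_inv_cancel_left] at h3

theorem card_le {A : Subgroup G} (hA : A ≤ S) {m : ℕ} (hm : 0 < m) (he : ∀ x ∈ A, x ^ m = 1) :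
    Nat.card A ≤ m * m := by
  haveI := h.nm
  let f : A →* S ⧸ (zpowers a).subgroupOf S := (QuotientGroup.mk' _).comp (inclusion hA)
  rw [← f.ker.card_mul_index, index_ker]
  have := h.cyc
  refine Nat.mul_le_mul (cyc_card_le ?_ hm fun x => ?_) (cyc_card_le inferInstance hm fun x => ?_)
  · let g : f.ker →* zpowers a := (A.subtype.comp f.ker.subtype).codRestrict _ (fun x => by
      have := x.2
      rw [MonoidHom.mem_ker] at this
      exact (mem_subgroupOf (K := S) (h := inclusion hA x.1)).1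
        ((QuotientGroup.eq_one_iff _).1 this))
    refine isCyclic_of_injective g (fun x y e => Subtype.ext (Subtype.ext ?_))
    exact congrArg (fun z : zpowers a => (z : G)) e
  · exact Subtype.ext (Subtype.ext (he _ x.1.2))
  · obtain ⟨_, y, rfl⟩ := x
    refine Subtype.ext ?_
    change f y ^ m = 1
    rw [← map_pow, show y ^ m = 1 from Subtype.ext (he _ y.2), map_one]

theorem map {G' : Type*} [Group G'] (f : G →* G') (hk : f.ker ⊓ S ≤ zpowers a) :
    E (S.map f) (f a) (f b) where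
  pg := h.pg.map f
  ha := mem_map_of_mem f h.ha
  hb := mem_map_of_mem f h.hb
  nrm := by
    rw [← map_inv, ← map_mul, ← map_mul, ← MonoidHom.map_zpowers]
    exact mem_map_of_mem f h.nrm
  gen := by
    rintro _ ⟨s, hs, rfl⟩
    obtain ⟨j, hj⟩ := h.gen s hs
    refine ⟨j, ?_⟩
    rw [← map_pow, ← map_inv, ← map_mul, ← MonoidHom.map_zpowers]
    exact mem_map_of_mem f hj
  sq := by
    rw [← map_pow, ← MonoidHom.map_zpowers]
    rintro ⟨n, hn, e⟩
    apply h.sq
    have : n⁻¹ * b ^ 2 ∈ zpowers a := hk (mem_inf.2 ⟨by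
      rw [MonoidHom.mem_ker, map_mul, map_inv, e, inv_mul_cancel],
      mul_mem (inv_mem (h.le hn)) (pow_mem h.hb 2)⟩)
    simpa using mul_mem hn this

end E

section
variable {G : Type*} [Group G] [Finite G] {a b : G}

theorem rank (S : Sylow 2 G) (h : E (S : Subgroup G) a b) : PRankLE 2 2 G := by
  intro A hA he
  have hp : IsPGroup 2 A := fun x => ⟨1, Subtype.ext (by simpa using he x x.2)⟩
  obtain ⟨g, hg⟩ := exists_conj_le_sylow S hp
  rw [← card_conj g A]
  refine h.card_le hg (m := 2) (by norm_num) fun x hx => ?_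
  obtain ⟨y, hy, rfl⟩ := hx
  change (g * y * g⁻¹) ^ 2 = 1
  rw [conj_pow, he y hy]; group

theorem klein (S : Sylow 2 G) (h : E (S : Subgroup G) a b) (K : Subgroup G) [hK : K.Normal]
    (hZ : center K = ⊥) (hO : pPrimeCore 2 K = ⊥)
    (hT : IsKleinFour ((S : Subgroup G) ⊓ K : Subgroup G)) : False := by
  have hsyl := isSylowIn_inf_normal S K
  set T := (S : Subgroup G) ⊓ K with hTdef
  have hTc := CA.PGBasic.isMulCommutative_iff.1 (CA.Two.klein_comm hT)
  have key : ∀ c ∈ (S : Subgroup G), c ∈ centralizer (T : Set G) → c ∈ T := by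
    intro c hc hcT
    obtain ⟨j, hj⟩ := (IsPGroup.iff_orderOf.1 S.isPGroup') ⟨c, hc⟩
    have hj' : orderOf c = 2 ^ j := by rw [← hj]; exact (orderOf_mk _ hc).symm
    have ho : ∃ i, orderOf (MulAut.conjNormal c : MulAut K) = 2 ^ i := by
      have := orderOf_map_dvd (MulAut.conjNormal : G →* MulAut K) c
      rw [hj'] at this
      obtain ⟨i, -, hi⟩ := (Nat.dvd_prime_pow Nat.prime_two).1 this
      exact ⟨i, hi⟩
    obtain ⟨g, hg⟩ := Cfsg.Agent.S4593.result hZ hO hsyl.toSylow (CA.PGBasic.isMulCommutative_iff.2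
      fun x hx y hy => Subtype.ext (hTc _ (hsyl.mem_toSylow.1 hx) _ (hsyl.mem_toSylow.1 hy)))
      (MulAut.conjNormal c) ho (fun x hx => Subtype.ext (by
        have := (mem_centralizer_iff.1 hcT) _ (hsyl.mem_toSylow.1 hx)
        rw [MulAut.conjNormal_apply, ← this]; group))
    have hg' : ∀ x ∈ K, c * x * c⁻¹ = g * x * (g : G)⁻¹ := fun x hx =>
      congrArg Subtype.val (hg ⟨x, hx⟩)
    have hgo : (g : G) ^ 2 ^ j = 1 := by
      have : g ^ 2 ^ j ∈ center K := by
        rw [mem_center_iff]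
        intro x
        have e : ∀ n : ℕ, ∀ x ∈ K, c ^ n * x * (c ^ n)⁻¹ = (g : G) ^ n * x * ((g : G) ^ n)⁻¹ := by
          intro n
          induction n with
          | zero => simp
          | succ n ih =>
            intro x hx
            calc c ^ (n + 1) * x * (c ^ (n + 1))⁻¹ = c ^ n * (c * x * c⁻¹) * (c ^ n)⁻¹ := by
                  rw [pow_succ]; group
              _ = (g : G) ^ n * (g * x * (g : G)⁻¹) * ((g : G) ^ n)⁻¹ := by
                  rw [ih _ (hK.conj_mem x hx c), hg' x hx]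
              _ = _ := by rw [pow_succ]; group
        have := e (2 ^ j) x x.2
        rw [← hj', pow_orderOf_eq_one, hj', one_mul, inv_one, mul_one,
          eq_mul_inv_iff_mul_eq] at this
        exact Subtype.ext (by simpa using this)
      rw [hZ, mem_bot] at this
      simpa using congrArg Subtype.val this
    have hgc : (g : G) ∈ centralizer (T : Set G) := by
      rw [mem_centralizer_iff]
      intro x hx
      have e1 := (mem_centralizer_iff.1 hcT) _ hx
      have e2 := hg' x hx.2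
      rw [← e1, mul_inv_cancel_right, eq_mul_inv_iff_mul_eq] at e2
      exact e2
    have hgT : (g : G) ∈ T := by
      refine zpowers_le.1 (hsyl.le_of_le_normalizer' ?_ (zpowers_le.2 g.2)
        (zpowers_le.2 (centralizer_le_normalizer _ hgc)))
      refine IsPGroup.of_card_dvd_pow (n := j) ?_
      rw [Nat.card_zpowers]; exact orderOf_dvd_of_pow_eq_one hgo
    by_contra hcT'
    have hd1 : (g : G)⁻¹ * c ≠ 1 := by
      intro e
      rw [inv_mul_eq_one] at e
      exact hcT' (e ▸ hgT)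
    have hdS : (g : G)⁻¹ * c ∈ (S : Subgroup G) := mul_mem (inv_mem hgT.1) hc
    have hdK : (g : G)⁻¹ * c ∈ centralizer (K : Set G) := by
      rw [mem_centralizer_iff]
      intro x hx
      have := hg' x hx
      calc x * ((g : G)⁻¹ * c) = (g : G)⁻¹ * (g * x * (g : G)⁻¹) * c := by group
        _ = _ := by rw [← this]; group
    generalize (g : G)⁻¹ * c = d at hd1 hdS hdK
    obtain ⟨k, hk⟩ := S.isPGroup' ⟨d, hdS⟩
    obtain ⟨m, hm, hm'⟩ := CA.Higman3.exists_inv_pow ⟨k, congrArg Subtype.val hk⟩ hd1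
    have hm2 := pow_mem hdK m
    change d ^ m ≠ 1 at hm
    change d ^ m * d ^ m = 1 at hm'
    have := CA.Rk2.mem_of_rank (rank S h) hT (centralizer_le (show (T : Set G) ⊆ K from
      fun x hx => hx.2) hm2) hm'
    have hc : (⟨d ^ m, this.2⟩ : K) ∈ center K := by
      rw [mem_center_iff]
      exact fun x => Subtype.ext (mem_centralizer_iff.1 hm2 x x.2)
    rw [hZ, mem_bot] at hc
    exact hm (congrArg Subtype.val hc)
  have hsq : ∀ x ∈ T, x ^ 2 ∈ zpowers a := fun x hx => by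
    rw [CA.Two.klein_sq hT hx]; exact one_mem _
  obtain ⟨u, huT, hu1, hua⟩ : ∃ u ∈ T, u ≠ 1 ∧ u ∈ zpowers a := by
    obtain ⟨x, hx, hx1, -⟩ := CA.Two.klein_exists hT 1
    obtain ⟨y, hy, hy1, hyx⟩ := CA.Two.klein_exists hT x
    rcases h.three hx.1 hy.1 (hsq x hx) (hsq y hy) with w | w | w
    exacts [⟨x, hx, hx1, w⟩, ⟨y, hy, hy1, w⟩, ⟨_, mul_mem (inv_mem hx) hy,
      fun e => hyx (inv_mul_eq_one.1 e).symm, w⟩]
  have hbu : b * u * b⁻¹ = u := by
    have hm := conj_mem_of_mem_normalizer h.b_norm hua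
    have u2 := CA.Two.klein_sq hT huT
    rcases cyc_two (C := zpowers a) inferInstance (x := ⟨_, hm⟩) (y := ⟨_, hua⟩)
      (Subtype.ext (by change (b * u * b⁻¹) ^ 2 = 1; rw [conj_pow, u2]; group))
      (Subtype.ext u2) with w | w | w
    · have : b * u * b⁻¹ = 1 := congrArg Subtype.val w
      exact absurd (by simpa using this) hu1
    · exact absurd (congrArg Subtype.val w) hu1
    · exact congrArg Subtype.val w
  have hbT : ∀ x ∈ T, b * x * b⁻¹ ∈ T := fun x hx =>
    mem_inf.2 ⟨mul_mem (mul_mem h.hb (mem_inf.1 hx).1) (inv_mem h.hb), hK.conj_mem x hx.2 b⟩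
  have cent : ∀ c v : G, c * u * c⁻¹ = u → v ∈ T → v ≠ 1 → u ≠ v → c * v * c⁻¹ = v →
      c ∈ centralizer (T : Set G) := by
    intro c v e1 hv hv1 huv e2
    rw [mem_centralizer_iff]
    intro x hx
    rw [mul_inv_eq_iff_eq_mul] at e1 e2
    rcases CA.Two.klein_mem hT huT hv hu1 hv1 huv hx with rfl | rfl | rfl | rfl
    · simp
    · exact e1.symm
    · exact e2.symm
    · rw [mul_assoc, ← e2, ← mul_assoc, ← e1, mul_assoc]
  obtain ⟨v, hv, hv1, hvu⟩ := CA.Two.klein_exists hT u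
  have hb2 : b ^ 2 ∈ T := by
    refine key _ (pow_mem h.hb 2) (cent _ v ?_ hv hv1 hvu.symm ?_)
    · rw [show b ^ 2 * u * (b ^ 2)⁻¹ = b * (b * u * b⁻¹) * b⁻¹ by rw [pow_two]; group, hbu, hbu]
    · rw [show b ^ 2 * v * (b ^ 2)⁻¹ = b * (b * v * b⁻¹) * b⁻¹ by rw [pow_two]; group]
      rcases CA.Two.klein_mem hT huT hv hu1 hv1 hvu.symm (hbT v hv) with e | e | e | e
      · exact absurd (by simpa using e) hv1
      · rw [← hbu] at e
        exact absurd (by simpa using e) hvu
      · rw [e, e]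
      · rw [e, show b * (u * v) * b⁻¹ = (b * u * b⁻¹) * (b * v * b⁻¹) by group, hbu, e,
          ← mul_assoc, ← pow_two, CA.Two.klein_sq hT huT, one_mul]
  have hb : b ∈ T := key _ h.hb (cent _ _ hbu hb2 (fun e => h.sq (e ▸ one_mem _))
    (fun e => h.sq (e ▸ hua)) (by group))
  exact h.sq (hsq b hb)

end

theorem main (n : ℕ) : ∀ (G : Type u) [Group G] [Finite G], Nat.card G = n →
    ∀ (S : Sylow 2 G) (a b : G), E (S : Subgroup G) a b → Group.IsSolvable G := by
  induction n using Nat.strong_induction_on with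
  | _ n ih =>
  intro G _ _ hn S a b h
  have quot : ∀ (N : Subgroup G) [N.Normal], N ≠ ⊥ → Group.IsSolvable N →
      N ⊓ S ≤ zpowers a → Group.IsSolvable G := by
    intro N _ h1 h2 h3
    refine CA.H4Cls.solv_ext N h2 (ih _ ?_ _ rfl
      (S.mapSurjective (QuotientGroup.mk'_surjective N)) _ _ (h.map (QuotientGroup.mk' N) ?_))
    · rw [← hn, ← N.card_mul_index]
      have := (Subgroup.one_lt_card_iff_ne_bot N).2 h1
      have h0 : 0 < N.index := Nat.pos_of_ne_zero index_ne_zero_of_finite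
      change N.index < _
      nlinarith
    · rwa [QuotientGroup.ker_mk']
  by_cases hO : pPrimeCore 2 G = ⊥
  swap
  · have hc := CA.Core.coprime_pPrimeCore (p := 2) (G := G)
    refine quot _ hO (Cfsg.Agent.S0205.result (Nat.coprime_two_right.1 hc)) ?_
    rw [(inf_sylow_eq_bot_iff S _).2 (coprime_iff_not_dvd.1 hc)]
    exact bot_le
  set K := pResidual 2 G with hKdef
  have hOK : pPrimeCore 2 K = ⊥ :=
    CA.Core.pPrimeCore_eq_bot_of_subnormal (Normal.isSubnormal inferInstance) hO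
  have hKtop : pResidual 2 K = ⊤ := pResidual_pResidual
  have hsyl := isSylowIn_inf_normal S K
  by_cases hZ : center K = ⊥
  swap
  · set Z := (center K).map K.subtype
    have hZn : Z.Normal := ConjAct.normal_of_characteristic_of_normal
    have hZS : ¬ Z ⊓ (S : Subgroup G) ≤ ⊥ := by
      rw [le_bot_iff, inf_sylow_eq_bot_iff, ← coprime_iff_not_dvd]
      intro hc
      have := CA.Core.le_pPrimeCore hc
      rw [hO, le_bot_iff, map_eq_bot_iff_of_injective _ K.subtype_injective] at this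
      exact hZ this
    obtain ⟨z, hz, hz1, hzc⟩ := CA.PGBasic.exists_layer S.isPGroup'.isNilpotent le_rfl inf_le_right
      (le_trans (le_inf le_normalizer_of_normal le_normalizer)
        (inf_normalizer_le_normalizer_inf _ _)) hZS
    obtain ⟨⟨z', hz', rfl⟩, hzS⟩ := hz
    have hzG : (z' : G) ∈ center G := by
      rw [mem_center_iff]
      intro g
      obtain ⟨k, hk, s, hs, rfl⟩ := exists_mul_eq_pResidual_sylow S g
      have e1 : k * z' = z' * k := congrArg Subtype.val (mem_center_iff.1 hz' ⟨k, hk⟩)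
      have e2 := hzc s hs
      rw [mem_bot, commutatorElement_eq_one_iff_mul_comm] at e2
      change (z' : G) * s = s * z' at e2
      rw [mul_assoc, ← e2, ← mul_assoc, e1, mul_assoc]
    have hzc' : (z' : G) ∈ _root_.commutator G := by
      have := sylow_le_commutator_of_pResidual_eq_top hsyl.toSylow hKtop
        (hsyl.mem_toSylow.2 ⟨hzS, z'.2⟩)
      have h2 := mem_map_of_mem K.subtype this
      rw [map_subtype_commutator] at h2
      exact commutator_mono le_top le_top h2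
    obtain ⟨e, he⟩ := S.isPGroup' ⟨_, hzS⟩
    have hza := h.comm_le (CA.NPC2.mem_commutator_sylow_of_center S.not_dvd_index hzS
      (congrArg Subtype.val he) hzc' hzG)
    have : (zpowers (z' : G)).Normal := ⟨fun x hx g => by
      rw [mem_center_iff.1 (zpowers_le.2 hzG hx) g, mul_inv_cancel_right]; exact hx⟩
    refine quot (zpowers (z' : G)) (fun e => hz1 (e ▸ mem_zpowers _))
      (CA.H4Cls.solv_of_isPGroup Nat.prime_two (S.isPGroup'.to_le (zpowers_le.2 hzS)))
      (inf_le_left.trans (zpowers_le.2 hza))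
  suffices Group.IsSolvable K from CA.H4Cls.solv_ext K this
    (CA.H4Cls.solv_of_isPGroup Nat.prime_two isPGroup_quotient_pResidual)
  have hiso : ∀ z : K, ¬ IsIsolatedInvolution z := by
    intro z hz
    have := CA.Iso3.inZStar hz
    have hc : z ∈ center K := by
      rw [mem_center_iff]
      intro g
      have := this g
      rw [hOK, mem_bot, mul_inv_eq_one, mul_inv_eq_iff_eq_mul] at this
      exact this
    rw [hZ, mem_bot] at hc
    have := hz.1
    rw [hc, orderOf_one] at this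
    omega
  by_cases h1 : PRankLE 2 1 K
  · by_cases hev : 2 ∣ Nat.card K
    swap
    · exact Cfsg.Agent.S0205.result (Nat.odd_iff.2 (by omega))
    obtain ⟨z, hz⟩ := exists_prime_orderOf_dvd_card' 2 hev
    refine absurd ⟨hz, fun g hc => ?_⟩ (hiso z)
    by_contra hne
    have hk := CA.Two.isKleinFour_sup hz (by rw [← hz]; exact (MulAut.conj g).orderOf_eq z) hc (Ne.symm hne)
    have := h1 _ (CA.Two.klein_comm hk) (fun x hx => CA.Two.klein_sq hk hx)
    rw [CA.Two.klein_card hk] at this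
    omega
  have h2 : PRankLE 2 2 K := by
    intro A hA he
    rw [← card_map_of_injective K.subtype_injective]
    refine rank S h _ (map_isMulCommutative _ _) ?_
    rintro _ ⟨x, hx, rfl⟩
    rw [← map_pow, he x hx, map_one]
  letI : Fintype (GaloisField 2 4) := Fintype.ofFinite _
  have hF : Fintype.card (GaloisField 2 4) = 16 := by
    rw [← Nat.card_eq_fintype_card, GaloisField.card 2 4 (by norm_num)]; norm_num
  obtain ⟨P⟩ : Nonempty (Sylow 2 (Cfsg.PSU 3 (GaloisField 2 4) 4)) := inferInstance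
  set T := hsyl.toSylow
  let ι : T →* G := K.subtype.comp (T : Subgroup K).subtype
  have hι : Function.Injective ι := K.subtype_injective.comp (T : Subgroup K).subtype_injective
  have hιS : ∀ x, ι x ∈ (S : Subgroup G) := fun x => (hsyl.mem_toSylow.1 x.2).1
  have nq : ∀ x y : T, y * x * y⁻¹ = x⁻¹ → x ^ 4 = 1 → (y ^ 2 = 1 ∨ y ^ 2 = x ^ 2) → x ^ 2 = 1 := by
    intro x y e1 e2 e3
    apply hι
    rw [map_pow, map_one]
    refine h.noQD (hιS x) (hιS y) (by rw [← map_inv, ← map_mul, ← map_mul, e1, map_inv])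
      (by rw [← map_pow, e2, map_one]) ?_
    rw [← map_pow, ← map_pow]
    rcases e3 with e | e <;> rw [e]
    exacts [Or.inl (map_one _), Or.inr rfl]
  rcases Cfsg.Agent.S1238.result h2 h1 (pResidual_two_eq_top_iff.1 hKtop) hiso T hF P with
    ⟨m, hm, ⟨e⟩⟩ | ⟨m, hm, hc, x, y, hx, hy, e⟩ | ⟨m, hm, hc, x, y, z, hx, hxy, hd, hz, e⟩ |
    ⟨m, hm, ⟨e⟩⟩ | ⟨⟨e⟩⟩
  · exfalso
    obtain ⟨k, hk⟩ := T.isPGroup'.exists_card_eq
    have hk' := hk
    rw [Nat.card_congr e.toEquiv, DihedralGroup.nat_card] at hk'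
    have hm2 : m = 2 := by
      by_contra hne
      obtain ⟨c, rfl⟩ : 4 ∣ m := by
        have : m ∣ 2 ^ k := ⟨2, by omega⟩
        obtain ⟨i, -, rfl⟩ := (Nat.dvd_prime_pow Nat.prime_two).1 this
        have : 2 ≤ i := by
          by_contra hh
          obtain rfl | rfl : i = 0 ∨ i = 1 := by omega
          all_goals omega
        exact pow_dvd_pow 2 this
      have := nq (e.symm (DihedralGroup.r c)) (e.symm (DihedralGroup.sr 0))
        (by rw [← map_inv, ← map_mul, ← map_mul, ← map_inv]; simp)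
        (by
          rw [← map_pow, DihedralGroup.r_pow, ← map_one e.symm, DihedralGroup.one_def]
          congr 2
          exact_mod_cast (ZMod.natCast_eq_zero_iff (c * 4) (4 * c)).2 (by rw [mul_comm]))
        (Or.inl (by rw [← map_pow, pow_two, DihedralGroup.sr_mul_self, map_one]))
      rw [← map_pow, MulEquiv.map_eq_one_iff, DihedralGroup.r_pow, DihedralGroup.one_def,
        DihedralGroup.r.injEq] at this
      have h' : ((c * 2 : ℕ) : ZMod (4 * c)) = 0 := by exact_mod_cast this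
      have := Nat.le_of_dvd (by omega) ((ZMod.natCast_eq_zero_iff _ _).1 h')
      omega
    subst hm2
    refine klein S h K hZ hOK (CA.Two.isKleinFour_of ?_ ?_)
    · rw [← hsyl.map_toSylow, card_map_of_injective K.subtype_injective,
        Nat.card_congr e.toEquiv, DihedralGroup.nat_card]
    · intro x hx
      have : ∀ d : DihedralGroup 2, d ^ 2 = 1 := by decide
      have := this (e ⟨⟨x, hx.2⟩, hsyl.mem_toSylow.2 hx⟩)
      rw [← map_pow, MulEquiv.map_eq_one_iff] at this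
      exact congrArg ι this
  · exfalso
    obtain ⟨k, rfl⟩ := Nat.exists_eq_add_of_le hm
    have x0 : x ^ 2 ^ (3 + k) = 1 := hx ▸ pow_orderOf_eq_one x
    have := nq (x ^ 2 ^ (1 + k)) y (by
        rw [← conj_pow, e, ← pow_mul, eq_inv_iff_mul_eq_one, ← pow_add, show 3 + k - 1 = 2 + k by omega,
          show (2 ^ (2 + k) - 1) * 2 ^ (1 + k) + 2 ^ (1 + k) = 2 ^ (3 + k) * 2 ^ k by
            have : 1 ≤ 2 ^ (2 + k) := Nat.one_le_two_pow
            zify [this]; ring, pow_mul, x0, one_pow])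
      (by rw [← pow_mul, ← x0]; congr 1; ring) (Or.inl (orderOf_dvd_iff_pow_eq_one.1 hy.dvd))
    rw [← pow_mul, ← orderOf_dvd_iff_pow_eq_one, hx, ← pow_succ,
      Nat.pow_dvd_pow_iff_le_right (by norm_num)] at this
    omega
  · exfalso
    obtain ⟨k, rfl⟩ := Nat.exists_eq_add_of_le hm
    have x0 : x ^ 2 ^ (2 + k) = 1 := hx ▸ pow_orderOf_eq_one x
    have z2 : z ^ 2 = 1 := orderOf_dvd_iff_pow_eq_one.1 hz.dvd
    have e' : z * y * z⁻¹ = x := by
      rw [← e, show z * (z * x * z⁻¹) * z⁻¹ = z ^ 2 * x * (z ^ 2)⁻¹ by rw [pow_two]; group, z2]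
      group
    have y0 : y ^ 2 ^ (2 + k) = 1 := by rw [← e, conj_pow, x0]; group
    have hc : Commute x y⁻¹ := Commute.inv_right hxy
    have := nq ((x * y⁻¹) ^ 2 ^ k) z (by
        rw [← conj_pow, ← inv_pow, show z * (x * y⁻¹) * z⁻¹ = (z * x * z⁻¹) * (z * y * z⁻¹)⁻¹ by
          group, e, e']
        congr 1
        group)
      (by rw [← pow_mul, show 2 ^ k * 4 = 2 ^ (2 + k) by ring, hc.mul_pow, inv_pow, x0, y0]; simp)
      (Or.inl z2)
    rw [← pow_mul, hc.mul_pow, inv_pow, mul_inv_eq_one] at this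
    have hm : x ^ (2 ^ k * 2) ∈ zpowers x ⊓ zpowers y :=
      ⟨pow_mem (mem_zpowers x) _, this ▸ pow_mem (mem_zpowers y) _⟩
    rw [hd, mem_bot, ← orderOf_dvd_iff_pow_eq_one, hx, ← pow_succ,
      Nat.pow_dvd_pow_iff_le_right (by norm_num)] at hm
    omega
  · exact CA.H4Cls.solv_of_normal_syl T (Cfsg.Agent.S0949.result T m hm e fun N _ hN =>
      CA.Core.pPrimeCore_eq_bot_iff.1 hOK N ‹_› (Nat.coprime_two_right.2 hN)).1
  · exfalso
    obtain ⟨ρ, hρ⟩ := CA.Rk3.u34_sylow hF P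
    have hρ' := hρ.map e.symm
    have := h.card_le (A := ι.range) (by rintro _ ⟨x, rfl⟩; exact hιS x) (m := 4) (by norm_num)
      (by
        rintro _ ⟨x, rfl⟩
        have := hρ'.om.sq (hρ'.sq x)
        rw [← map_pow, show x ^ 4 = x * x * (x * x) by simp only [pow_succ, pow_zero, one_mul, mul_assoc], this, map_one])
    rw [← Nat.card_congr (MonoidHom.ofInjective hι).toEquiv, hρ'.card] at this
    omega

/-- Let G be a finite group whose Sylow 2-subgroup S is metacyclic via a cyclic normal subgroup N of S with S/N cyclic of order greater than 2. Then G is soluble. -/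
theorem result {G : Type*} [Group G] [Finite G] (S : Sylow 2 G) (N : Subgroup ↥(S : Subgroup G)) [hN : N.Normal] (hNc : IsCyclic N) (hQc : IsCyclic (↥(S : Subgroup G) ⧸ N)) (hQ : 2 < Nat.card (↥(S : Subgroup G) ⧸ N)) : Group.IsSolvable G := by
  obtain ⟨a, ha⟩ := (Subgroup.isCyclic_iff_exists_zpowers_eq_top N).1 hNc
  obtain ⟨β, hβ⟩ := hQc.exists_generator
  obtain ⟨b, rfl⟩ := QuotientGroup.mk_surjective β
  have hz : ∀ s : (S : Subgroup G), s ∈ N ↔ (s : G) ∈ zpowers (a : G) := by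
    intro s
    rw [← ha]
    constructor
    · rintro ⟨k, rfl⟩; exact ⟨k, by simp⟩
    · rintro ⟨k, hk⟩; exact ⟨k, Subtype.ext (by simpa using hk)⟩
  refine main _ G rfl S a b ⟨S.isPGroup', a.2, b.2, ?_, ?_, ?_⟩
  · exact (hz (b * a * b⁻¹)).1 (hN.conj_mem a (ha ▸ mem_zpowers a) b)
  · intro s hs
    obtain ⟨j, hj⟩ := mem_powers_iff_mem_zpowers.2 (hβ ((⟨s, hs⟩ : (S : Subgroup G)) : _ ⧸ N))
    refine ⟨j, (hz (⟨s, hs⟩ * (b ^ j)⁻¹)).1 ?_⟩
    rw [← QuotientGroup.eq_one_iff, QuotientGroup.mk_mul, QuotientGroup.mk_inv,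
      QuotientGroup.mk_pow, ← hj, mul_inv_cancel]
  · intro h
    have := (hz (b ^ 2)).2 h
    rw [← QuotientGroup.eq_one_iff, QuotientGroup.mk_pow, ← orderOf_dvd_iff_pow_eq_one,
      orderOf_eq_card_of_forall_mem_zpowers hβ] at this
    exact absurd (Nat.le_of_dvd (by norm_num) this) (by omega)

end Cfsg.Agent.S4418
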