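import Cfsg.Statements.S4419
import Cfsg.Agent.Lib.Grp.FrobCrit

set_option autoImplicit false
open Cfsg

namespace Cfsg.Agent.S4419

open Subgroup CA.BG CA.OQuo CA.FrobCrit

/-- Let p be a prime and G a finite group whose Sylow p-subgroups are metacyclic (a cyclic normal subgroup with cyclic quotient). Then G has a normal p-complement if and only if the order of G/O_{p′,p}(G) is coprime to p² − 1. -/
theorem result {G : Type*} [Group G] [Finite G] (p : ℕ) [Fact p.Prime] (S : Sylow p G) (hS : Cfsg.IsMetacyclic ↥(S : Subgroup G)) : Cfsg.HasNormalPComplement p G ↔ Nat.Coprime (Nat.card (G ⧸ Cfsg.pPrimePCore p G)) (p ^ 2 - 1) := by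
  have hp : p.Prime := Fact.out
  have e : Nat.card (G ⧸ Cfsg.pPrimePCore p G) = (Opp p (⊤ : Subgroup G)).relIndex ⊤ := by
    rw [Opp_top hp, relIndex_top_right]; rfl
  rw [← hasPC_top_iff, e]
  constructor
  · intro h
    rw [Opp_eq_self hp h, relIndex_self]; exact Nat.coprime_one_left _
  · intro h
    refine hasPC_of_prime hp (syl_top hp S) fun Q hQ _ q hq hqp T _ hT _ hn => ?_
    have hQp := (syl_top hp S).pi.of_le hQ
    by_cases hd : q ∣ p ^ 2 - 1
    · refine cent_of_le_Opp hp hQp le_top (hT.ne hqp) ?_ hn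
      exact hT.le_of_relIndex le_top (le_norm_Opp _ _) ((piNat_compl_iff hq).2 (not_dvd_of_coprime hq h.symm hd))
    · exact cent_of_metacyclic hp hq hqp hd hQp (CA.BG4.metacyclic_of_le hS hQ) hT hn

end Cfsg.Agent.S4419
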