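import Cfsg.Statements.S4573
import Cfsg.Agent.Lib.Char.H10Pi
import Cfsg.Agent.Lib.Solv.SS2

set_option autoImplicit false
universe u
open Cfsg

namespace Cfsg.Agent.S4573
open CA.H10Pi CA.H10FS CA.MatRep CA.H11FS CA.Clif CA.Gall CA.Ind2 CA.Ext CChar.CharFun CChar.CharOrth CChar.CharInt CChar.CharProd CChar.CharKer CA.Ind Subgroup

theorem aux (n : ℕ) : ∀ (G : Type u) [Group G] [Finite G], Nat.card G = n → Group.IsSolvable G →
    ∃ (M : Type u) (_ : Group M) (_ : Fintype M), (∀ χ : M → ℂ, IsIrrCharacter M χ → Mon χ) ∧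
      ∃ f : G →* M, Function.Injective f := by
  induction n using Nat.strong_induction_on with
  | _ n ih =>
  intro G _ _ hn hs
  by_cases h : (⊤ : Subgroup G) = ⊥
  · haveI := Fintype.ofFinite G
    refine ⟨G, inferInstance, inferInstance, fun χ hχ => ?_, MonoidHom.id G, fun _ _ h => h⟩
    have h1 : ∀ g : G, g = 1 := fun g => mem_bot.1 (h ▸ mem_top g)
    have h2 : χ = fun _ => 1 := funext fun g => by
      rw [h1 g]; exact irr_apply_one_of_comm (fun a b => by rw [h1 a, h1 b]) hχ
    refine mon_of hχ (MonoidHom.id G) (fun _ _ h => h) 1 ?_ (Nat.le_mul_of_pos_left _ (charDegree_pos hχ))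
    rw [h2]
    simpa using (CChar.CharFun.inner_one_one (G := G)).trans_ne one_ne_zero
  obtain ⟨N, h1, h2, h3⟩ := CA.BG.exists_normal_prime (H := (⊤ : Subgroup G)) inferInstance h
  haveI : N.Normal := normalizer_eq_top_iff.1 (top_le_iff.1 h2)
  rw [relIndex_top_right] at h3
  obtain ⟨M, _, _, hM, j, hj⟩ := ih (Nat.card N) (by
    rw [← hn, ← N.card_mul_index]
    have : 0 < Nat.card N := Nat.card_pos
    have := h3.one_lt
    nlinarith) N rfl inferInstance
  haveI := Fintype.ofFinite (G ⧸ N)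
  haveI := Fintype.ofFinite (M ≀ᵣ (G ⧸ N))
  exact ⟨M ≀ᵣ (G ⧸ N), inferInstance, inferInstance, fun χ hχ => mon_wr h3 hM hχ,
    (wmap j).comp (kk N), (wmap_inj hj).comp (kk_inj N)⟩

/-- Every finite solvable group is isomorphic to a subgroup of a finite M-group, a group each of whose irreducible characters is induced from a homomorphism of some subgroup into ℂˣ. -/
theorem result {G : Type u} [Group G] [Finite G] (hsolv : Group.IsSolvable G) : ∃ (M : Type u) (_ : Group M) (_ : Fintype M), (∀ χ : M → ℂ, Cfsg.IsIrrCharacter M χ → (∃ (H : Subgroup M) (lam : ↥H →* ℂˣ), χ = Cfsg.indFun H (fun h => (lam h : ℂ)))) ∧ ∃ f : G →* M, Function.Injective f := by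
  exact aux _ G rfl hsolv

end Cfsg.Agent.S4573
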