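import Cfsg.Statements.S4587
import Cfsg.Agent.S4172

set_option autoImplicit false
open Cfsg

namespace Cfsg.Agent.S4587

open Subgroup CA CA.Amb CA.AmbSyl CA.AmbCore CA.AmbRes CA.AmbFs CA.AmbT2 CA.Comp CA.Fstar
open scoped commutatorElement

theorem trf {S : Type*} [Group S] [Finite S] {H W : Subgroup S} [hH : H.Normal] (hW : ⁅H, H⁆ ≤ W) {a : S}
    (ha : a ∈ H) (h1 : a ∈ commutator S) (h2 : ∀ t ∉ H, t⁻¹ * a * t ∈ W) : a ∈ W := by
  classical
  let φ : H →* Abelianization H ⧸ (W.subgroupOf H).map Abelianization.of :=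
    (QuotientGroup.mk' _).comp Abelianization.of
  have h3 : ∀ x : H, φ x = 1 ↔ (x : S) ∈ W := fun x => by
    rw [show φ x = 1 ↔ x ∈ ((W.subgroupOf H).map Abelianization.of).comap Abelianization.of from
      QuotientGroup.eq_one_iff _, comap_map_eq, Abelianization.ker_of, sup_eq_left.2
        (show commutator H ≤ W.subgroupOf H from map_le_iff_le_comap.1 ((map_subtype_commutator H).le.trans hW)),
      mem_subgroupOf]
  have h4 : MonoidHom.transfer φ a = 1 := Abelianization.commutator_subset_ker _ h1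
  let T : H.LeftTransversal := default
  have h5 : ∀ q : S ⧸ H, a⁻¹ • q = q := fun q => QuotientGroup.induction_on q fun g =>
    QuotientGroup.eq.2 (by simpa [mul_assoc] using hH.conj_mem' a ha g)
  rw [MonoidHom.transfer_def φ T, leftTransversals.diff, Finset.prod_eq_single (1 : S ⧸ H) (fun q _ hq => by
    rw [h3, coe_mk, smul_apply_eq_smul_apply_inv_smul, h5, smul_eq_mul, ← mul_assoc]
    exact h2 _ fun e => hq ((T.2.quotientGroupMk_leftQuotientEquiv q).symm.trans ((QuotientGroup.eq_one_iff _).2 e)))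
    (by simp)] at h4
  have h6 : (T.2.leftQuotientEquiv 1 : S) ∈ H := (QuotientGroup.eq_one_iff _).1 (T.2.quotientGroupMk_leftQuotientEquiv 1)
  refine (h3 ⟨a, ha⟩).1 (Eq.trans ?_ h4)
  refine Eq.trans ?_ (congrArg φ (show (⟨_, h6⟩ : H)⁻¹ * ⟨a, ha⟩ * ⟨_, h6⟩ = _ from Subtype.ext (by
    simp [smul_apply_eq_smul_apply_inv_smul, h5, mul_assoc])))
  rw [map_mul, map_mul, map_inv, inv_mul_cancel_comm]

variable {G : Type*} [Group G] [Finite G] {P Q W : Subgroup G}

theorem trf' (l : Q ≤ P) (n : P ≤ 𝐍 Q) (hW : ⁅Q, Q⁆ ≤ W) {a : G} (ha : a ∈ Q) (h1 : a ∈ ⁅P, P⁆)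
    (h2 : ∀ t ∈ P, t ∉ Q → t⁻¹ * a * t ∈ W) : a ∈ W := by
  haveI := normal_subgroupOf_of_norm n
  refine trf (H := Q.subgroupOf P) (W := W.subgroupOf P) (a := ⟨a, l ha⟩)
    (commutator_le.2 fun x hx y hy => hW (commutator_mem_commutator hx hy)) ha ?_ fun t ht => h2 t t.2 ht
  rw [← map_subtype_commutator] at h1
  obtain ⟨b, hb, rfl⟩ := h1
  exact hb

theorem cls {x : G} (hx : x ∈ P) : (𝐂 (zpowers x)).relIndex P ≤ Nat.card ↥⁅P, P⁆ ∧
    ((∀ d ∈ ⁅P, P⁆, ∃ g ∈ P, ⁅g, x⁆ = d) → (𝐂 (zpowers x)).relIndex P = Nat.card ↥⁅P, P⁆) := by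
  have key : ∀ a b : P, (QuotientGroup.leftRel ((𝐂 (zpowers x)).subgroupOf P)) a b ↔ ⁅(a : G), x⁆ = ⁅(b : G), x⁆ :=
    fun a b => by
      rw [QuotientGroup.leftRel_apply, mem_subgroupOf, Amb.centralizer_zpowers, mem_centralizer_singleton_iff]
      simp only [coe_mul, coe_inv, commutatorElement_def, mul_left_inj]
      constructor <;> intro h
      · calc _ = (a : G) * (x * ((a : G)⁻¹ * b)) * (b : G)⁻¹ := by group
          _ = _ := by rw [← h]; group
      · calc _ = (a : G)⁻¹ * (b * x * (b : G)⁻¹) * b := by group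
          _ = _ := by rw [← h]; group
  let f : P ⧸ (𝐂 (zpowers x)).subgroupOf P → ↥⁅P, P⁆ :=
    Quotient.lift (fun g => ⟨⁅(g : G), x⁆, commutator_mem_commutator g.2 hx⟩) fun a b h => Subtype.ext ((key a b).1 h)
  have hf : Function.Injective f := fun a b => Quotient.inductionOn₂ a b fun a b e =>
    Quotient.sound ((key a b).2 (congrArg Subtype.val e))
  refine ⟨Nat.card_le_card_of_injective f hf, fun h => Nat.card_eq_of_bijective f ⟨hf, fun d => ?_⟩⟩
  obtain ⟨g, hg, e⟩ := h d d.2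
  exact ⟨QuotientGroup.mk ⟨g, hg⟩, Subtype.ext e⟩

omit [Finite G] in
theorem surj [Finite G] {x : G} (n : P ≤ 𝐍 Q) (c : Q ≤ 𝐂 Q) (h : Q ⊔ zpowers x = P) :
    ∀ d ∈ ⁅P, P⁆, ∃ g ∈ Q, ⁅g, x⁆ = d := by
  have hx : x ∈ P := h.le (mem_sup_right (mem_zpowers x))
  have c' : ∀ a ∈ Q, ∀ b ∈ Q, a * b = b * a := fun a ha b hb => c hb a ha
  have m : ∀ a ∈ Q, x * a * x⁻¹ ∈ Q := fun a ha => conj_mem_of_mem_normalizer (n hx) ha
  let U : Subgroup G :=
    { carrier := {d | ∃ g ∈ Q, ⁅g, x⁆ = d}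
      one_mem' := ⟨1, one_mem _, by simp⟩
      mul_mem' := by
        rintro _ _ ⟨a, ha, rfl⟩ ⟨b, hb, rfl⟩
        refine ⟨b * a, mul_mem hb ha, ?_⟩
        calc _ = b * (a * (x * a⁻¹ * x⁻¹)) * (x * b⁻¹ * x⁻¹) := by rw [commutatorElement_def]; group
          _ = _ := by rw [c' b hb _ (mul_mem ha (m _ (inv_mem ha)))]; simp only [commutatorElement_def]; group
      inv_mem' := by
        rintro _ ⟨a, ha, rfl⟩
        refine ⟨a⁻¹, inv_mem ha, ?_⟩
        calc _ = a⁻¹ * (x * a * x⁻¹) := by rw [commutatorElement_def]; group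
          _ = _ := by rw [c' _ (inv_mem ha) _ (m a ha), commutatorElement_def]; group }
  have u : U ≤ Q := by
    rintro _ ⟨a, ha, rfl⟩
    rw [commutatorElement_def, mul_assoc, mul_assoc, ← mul_assoc x]
    exact mul_mem ha (m _ (inv_mem ha))
  have n1 : Q ≤ 𝐍 U := norm_of_centralizer (c.trans (centralizer_anti u))
  have n2 : x ∈ 𝐍 U := mem_normalizer_of_cj_le (cj_le_iff'.2 (by
    rintro _ ⟨a, ha, rfl⟩
    exact ⟨_, m a ha, by simp only [commutatorElement_def]; group⟩))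
  have n3 : zpowers x ≤ 𝐍 U := zpowers_le.2 n2
  have k : ⁅Q, zpowers x⁆ ≤ U := by
    rw [zpowers_eq_closure]
    exact comm_closure_le' (by rintro _ rfl; exact n2) (by rintro _ rfl y hy; exact ⟨y, hy, rfl⟩)
  change ⁅P, P⁆ ≤ U
  rw [← h]
  exact comm_sup_le n1 n3 (comm_sup_le' n1 n3 ((comm_eq_bot_of_le c).le.trans bot_le) k)
    (comm_sup_le' n1 n3 ((commutator_comm _ _).le.trans k) ((comm_eq_bot_of_le (le_centralizer _)).le.trans bot_le))

variable {p : ℕ} [hp : Fact p.Prime]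

theorem gen {x : G} (l : Q ≤ P) (h : Q.relIndex P ∣ p) (hx : x ∈ P) (hx' : x ∉ Q) : Q ⊔ zpowers x = P := by
  have l2 : Q ⊔ zpowers x ≤ P := sup_le l (zpowers_le.2 hx)
  have e := relIndex_mul_relIndex Q _ P (le_sup_left : Q ≤ Q ⊔ zpowers x) l2
  have h1 : Q.relIndex (Q ⊔ zpowers x) ≠ 1 := fun e => hx' (relIndex_eq_one.1 e (mem_sup_right (mem_zpowers x)))
  have h2 := ((Nat.dvd_prime hp.out).1 ((Dvd.intro _ e).trans h)).resolve_left h1
  refine le_antisymm l2 (relIndex_eq_one.1 (Nat.dvd_one.1 (Nat.dvd_of_mul_dvd_mul_left hp.out.pos ?_)))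
  rw [← h2, e, h2, mul_one]; exact h

theorem cyc (hP : IsPGroup p P) (h : ⁅P, P⁆.relIndex P ∣ p) : ⁅P, P⁆ = ⊥ := by
  have l : ⁅P, P⁆ ≤ P := comm_le_of_le le_rfl le_rfl
  have f := PGFrattini.commutator_le_map_frattini hP
  rcases l.eq_or_lt with e | lt
  · rw [e]; exact (eq_of_le_sup_Phi bot_le (e.ge.trans (f.trans le_sup_right))).symm
  obtain ⟨x, hx, hx'⟩ := SetLike.exists_of_lt lt
  rw [← eq_of_le_sup_Phi (zpowers_le.2 hx) ((gen l h hx hx').ge.trans (sup_le (f.trans le_sup_right) le_sup_left))]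
  exact comm_eq_bot_of_le (le_centralizer _)

theorem abel (S : Sylow p G) (hD : ⁅(S : Subgroup G), (S : Subgroup G)⁆.relIndex S = p ^ 2) (h0 : ⁅(S : Subgroup G), (S : Subgroup G)⁆ ≠ ⊥)
    (hcore : pPrimeCore p G = ⊥) (hc : ⁅(S : Subgroup G), (S : Subgroup G)⁆.normalCore = ⊥)
    (hnas : ¬ ∃ S : Subgroup G, S.Normal ∧ IsSimpleGroup S ∧ ¬ IsMulCommutative S ∧ centralizer (S : Set G) = ⊥) :
    ∃ N : Subgroup G, N.Normal ∧ ((S : Subgroup G) ⊓ N).relIndex S = p ∧
      (S : Subgroup G) ⊓ N ≤ 𝐂 ((S : Subgroup G) ⊓ N : Subgroup G) := by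
  have hS := sylIn_top S
  have na : ¬ IsMulCommutative (S : Subgroup G) := fun h => h0 (comm_eq_bot_of_le (le_centralizer _))
  have l : ⁅(S : Subgroup G), (S : Subgroup G)⁆ ≤ S := comm_le_of_le le_rfl le_rfl
  have f := PGFrattini.commutator_le_map_frattini hS.pg
  have hpow : ∀ x ∈ (S : Subgroup G), x ^ p ∈ ⁅(S : Subgroup G), (S : Subgroup G)⁆ := fun x hx => by_contra fun e => by
    have l2 : ⁅(S : Subgroup G), (S : Subgroup G)⁆ ⊔ zpowers (x ^ p) ≤ Phi S :=
      sup_le f (zpowers_le.2 (PGFrattini.pow_mem_map_frattini hS.pg hx))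
    have e1 := relIndex_mul_relIndex _ _ _ (le_sup_left.trans l2) (Phi_le (S : Subgroup G))
    have h1 : ⁅(S : Subgroup G), (S : Subgroup G)⁆.relIndex (Phi S) ≠ 1 := fun e' =>
      e (relIndex_eq_one.1 e' (l2 (mem_sup_right (mem_zpowers _))))
    rw [hD] at e1
    obtain ⟨i, hi, e2⟩ := (Nat.dvd_prime_pow hp.out).1 (Dvd.intro_left _ e1)
    have h2 : (Phi (S : Subgroup G)).relIndex S ∣ p := by
      rw [e2] at e1 ⊢
      refine (pow_dvd_pow p (Nat.le_of_lt_succ (hi.lt_of_ne ?_))).trans (pow_one p).dvd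
      rintro rfl
      exact h1 (Nat.eq_of_mul_eq_mul_right (pow_pos hp.out.pos 2) (by rw [e1, one_mul]))
    rcases (Phi_le (S : Subgroup G)).eq_or_lt with e3 | lt
    · exact h0 (le_bot_iff.1 (l.trans (eq_of_le_sup_Phi bot_le (e3.ge.trans le_sup_right)).ge))
    obtain ⟨y, hy, hy'⟩ := SetLike.exists_of_lt lt
    rw [← eq_of_le_sup_Phi (zpowers_le.2 hy) ((gen (Phi_le _) h2 hy hy').ge.trans (sup_comm _ _).le)] at h0
    exact h0 (comm_eq_bot_of_le (le_centralizer _))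
  have eP : Phi (S : Subgroup G) = ⁅(S : Subgroup G), (S : Subgroup G)⁆ := le_antisymm (PGFrattini.map_frattini_le hp.out le_rfl hpow) f
  obtain ⟨⟨F1, F2⟩, F3, F4⟩ := S4172.result p S na (by
    rw [← hD, ← eP, relIndex, Phi, ← comap_subtype, comap_map_eq_self_of_injective (subtype_injective _)]) hcore
    (by rw [← hc, ← eP])
  have hN : (generalizedFittingSubgroup G).Normal := inferInstance
  have hF := fstar_def (G := G)
  generalize (S : Subgroup G) = P at *
  set N := generalizedFittingSubgroup G with hN'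
  have dN : ⁅P, P⁆ ≤ N := commutator_le.2 fun a ha b hb => by
    rw [← QuotientGroup.eq_one_iff, ← QuotientGroup.mk'_apply, map_commutatorElement, commutatorElement_eq_one_iff_mul_comm]
    exact congrArg Subtype.val (F3.isMulCommutative.is_comm.comm (⟨_, mem_map_of_mem _ ha⟩ : P.map (QuotientGroup.mk' N))
      ⟨_, mem_map_of_mem _ hb⟩)
  have i1 : (P ⊓ N).relIndex P ∣ p := by
    rw [inf_relIndex_left, ← QuotientGroup.ker_mk' N, relIndex_ker, ← IsCyclic.exponent_eq_card]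
    refine Monoid.exponent_dvd_of_forall_pow_eq_one fun ⟨_, x, hx, rfl⟩ => Subtype.ext ?_
    exact (map_pow _ _ _).symm.trans ((QuotientGroup.eq_one_iff _).2 (dN (hpow x hx)))
  clear F3 hN'
  clear_value N
  have hQ := hS.inf_norm le_top (norm_of_normal (H := N))
  have i2 : ¬ P ≤ N → (P ⊓ N).relIndex P = p := fun h => ((Nat.dvd_prime hp.out).1 i1).resolve_left fun e =>
    h ((relIndex_eq_one.1 e).trans inf_le_right)
  by_cases ab : N ≤ 𝐂 N
  · exact ⟨N, hN, i2 fun h => h0 (comm_eq_bot_of_le (h.trans (ab.trans (centralizer_anti h)))),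
      inf_le_right.trans (ab.trans (centralizer_anti inf_le_right))⟩
  have c0 : 𝐂 N = ⊥ := by_contra fun h => ab (F2 _ inferInstance h)
  have eN : N = layer G := by
    by_cases e : layer G = ⊥
    · rw [e, bot_sup_eq] at hF
      subst hF
      haveI := (Subgroup.nontrivial_iff_ne_bot _).2 F1
      haveI := Core.isNilpotent_fitting (G := G)
      obtain ⟨z, hz, hz'⟩ := exists_ne_one_of_ne_bot (Group.IsNilpotent.center_ne_bot (G := fittingSubgroup G))
      have : (z : G) ∈ 𝐂 (fittingSubgroup G) := fun y hy => congrArg Subtype.val (mem_center_iff.1 hz ⟨y, hy⟩)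
      exact (hz' (Subtype.ext (c0.le this))).elim
    · exact le_antisymm (F2 _ inferInstance e) (hF ▸ le_sup_left)
  subst eN
  have k1 : ∀ K, IsComponent K → layer G ≤ K ⊔ layer G ⊓ 𝐂 K := fun K hK => layer_le fun L hL => by
    by_cases e : L = K
    · exact e.le.trans le_sup_left
    · exact (le_inf (le_layer hL) (comp_le_centralizer_of_ne hL hK e)).trans le_sup_right
  have k2 : ∀ K, IsComponent K → K ⊓ 𝐂 K = ⊥ := fun K hK => le_bot_iff.1 (c0 ▸ (le_inf inf_le_right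
    (inf_le_left.trans (cent_symm inf_le_right))).trans ((centralizer_sup _ _).ge.trans (centralizer_anti (k1 K hK))))
  have k3 : ∀ K, IsComponent K → ¬ P ≤ 𝐍 K := fun K hK h => by
    have e : layer G = K := le_antisymm (layer_le fun L hL => by
      obtain ⟨x, hx, rfl⟩ := F4 (mt le_centralizer_iff_isMulCommutative.2 ab) K L hK hL
      exact (cj_eq_self (h hx)).le) (le_layer hK)
    refine hnas ⟨K, e ▸ hN, ?_, e ▸ mt le_centralizer_iff_isMulCommutative.2 ab, e ▸ c0⟩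
    have : center K = ⊥ := (Subgroup.map_eq_bot_iff_of_injective _ K.subtype_injective).1
      ((map_subtype_center K).trans (k2 K hK))
    exact Quasi.simple_of_qs_of_center_eq_bot hK.2 this
  obtain ⟨K0, hK0⟩ := exists_comp_of_layer_ne_bot F1
  have i3 := i2 fun h => k3 K0 hK0 (h.trans (layer_le_normalizer hK0))
  refine ⟨_, hN, i3, commutator_eq_bot_iff'.1 (le_bot_iff.1 (c0 ▸ cent_symm (layer_le fun K hK => cent_symm ?_)))⟩
  have nK := layer_le_normalizer hK
  have hA := hQ.inf_norm (le_layer hK) nK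
  generalize hq : P ⊓ layer G = Q at *
  have q1 : Q ≤ P := hq ▸ inf_le_left
  have q2 : Q ≤ layer G := hq ▸ inf_le_right
  have dec : Q ≤ Q ⊓ K ⊔ Q ⊓ 𝐂 K := fun q hq => by
    obtain ⟨k, hk, c, hc, rfl⟩ := (mem_sup_of_norm' (inf_le_left.trans nK)).1 (k1 K hK (q2 hq))
    have hc2 : c ∈ 𝐂 K := hc.2
    have cm : Commute k c := hc2 k hk
    obtain ⟨n, hn⟩ := isPGroup_iff_mem.1 hQ.pg _ hq
    rw [cm.mul_pow] at hn
    have h1 : k ^ p ^ n = 1 := (k2 K hK).le (mem_inf.2 ⟨pow_mem hk _, by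
      rw [eq_inv_of_mul_eq_one_left hn]; exact inv_mem (pow_mem hc2 _)⟩)
    have h2 : k ∈ Q ⊓ K := hA.le_of_norm' (isPGroup_zpowers h1) (zpowers_le.2 hk) (zpowers_le.2 (by
      rw [show k = k * c * c⁻¹ by group]
      exact mul_mem (norm_inf le_normalizer (q2.trans nK) hq)
        (inv_mem (centralizer_le_normalizer _ (centralizer_anti inf_le_right hc2))))) (mem_zpowers k)
    exact mul_mem_sup h2 ⟨(Q.mul_mem_cancel_left h2.1).1 hq, hc2⟩
  have nA : Q ≤ 𝐍 (Q ⊓ K : Subgroup G) := norm_inf le_normalizer (q2.trans nK)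
  have nC : Q ≤ 𝐍 (Q ⊓ 𝐂 K : Subgroup G) := norm_inf le_normalizer (norm_centralizer (q2.trans nK))
  have nW : Q ≤ 𝐍 (⁅Q ⊓ K, Q ⊓ K⁆ ⊔ Q ⊓ 𝐂 K : Subgroup G) := norm_sup (norm_commutator nA nA) nC
  have w : ⁅Q, Q⁆ ≤ ⁅Q ⊓ K, Q ⊓ K⁆ ⊔ Q ⊓ 𝐂 K := (commutator_mono dec dec).trans (comm_sup_le (inf_le_left.trans nW)
    (inf_le_left.trans nW) (comm_sup_le' (inf_le_left.trans nW) (inf_le_left.trans nW) le_sup_left
      ((commutator_le_right_of_norm (inf_le_left.trans nC)).trans le_sup_right))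
    ((commutator_le_left_of_norm ((sup_le inf_le_left inf_le_left).trans nC)).trans le_sup_right))
  have nQ : P ≤ 𝐍 Q := hq ▸ norm_inf le_normalizer norm_of_normal
  have t : ⁅P, P⁆ ⊓ (Q ⊓ K) ≤ ⁅Q ⊓ K, Q ⊓ K⁆ := fun a ha => by
    have := trf' q1 nQ w ha.2.1 ha.1 fun t ht ht' => mem_sup_right ⟨inv_conj_mem_of_mem_normalizer (nQ ht) ha.2.1,
      comp_le_centralizer_of_ne (comp_map_conj hK t⁻¹) hK (fun e => k3 K hK ((gen q1 i3.dvd ht ht').ge.trans
        (sup_le (q2.trans nK) (zpowers_le.2 (inv_mem_iff.1 (cj_eq_self_iff.1 e)))))) (mem_cj_inv.2 (by simpa [mul_assoc] using ha.2.2))⟩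
    have l3 : ⁅Q ⊓ K, Q ⊓ K⁆ ≤ K := comm_le_of_le inf_le_right inf_le_right
    have e := sup_inf_of_norm ((comm_le_of_le inf_le_left inf_le_left : ⁅Q ⊓ K, Q ⊓ K⁆ ≤ Q).trans nC) l3
    rw [show Q ⊓ 𝐂 K ⊓ K = ⊥ from le_bot_iff.1 (k2 K hK ▸ le_inf inf_le_right (inf_le_left.trans inf_le_right)),
      sup_bot_eq] at e
    exact e.le ⟨this, ha.2.2⟩
  have d1 : ⁅P, P⁆.relIndex Q = p := by
    have := relIndex_mul_relIndex _ _ _ (hq ▸ le_inf l dN : ⁅P, P⁆ ≤ Q) q1
    rw [hD, i3, pow_two] at this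
    exact Nat.eq_of_mul_eq_mul_right hp.out.pos this
  have d2 : ⁅Q ⊓ K, Q ⊓ K⁆.relIndex (Q ⊓ K) ∣ p := by
    haveI := normal_subgroupOf_of_norm (q1.trans (norm_commutator le_normalizer le_normalizer))
    refine (relIndex_dvd_of_le_left _ t).trans ?_
    rw [inf_relIndex_right, ← d1, ← relIndex_subgroupOf (inf_le_left : Q ⊓ K ≤ Q)]
    exact relIndex_dvd_index_of_normal _ _
  rw [cyc hA.pg d2, bot_sup_eq] at w
  exact w.trans inf_le_right


/-- Let G be a finite group, p a prime and P a Sylow p-subgroup of order at least p². Assume that G has no nontrivial normal subgroup of order prime to p, that the derived subgroup P' of P contains no nontrivial normal subgroup of G, and that G is not almost simple (there is no non-abelian simple normal subgroup of G with trivial centralizer). Then [P : P'] = p² if and only if some p-element x of G has centralizer whose order has p-part exactly p². -/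
theorem result {G : Type*} [Group G] [Finite G] (p : ℕ) [Fact p.Prime] (P : Sylow p G) (hbig : p ^ 2 ∣ Nat.card G) (hcore : Cfsg.pPrimeCore p G = ⊥)
    (hcore' : (⁅(P : Subgroup G), (P : Subgroup G)⁆).normalCore = ⊥) (hnas : ¬ ∃ S : Subgroup G, S.Normal ∧ IsSimpleGroup S ∧ ¬ IsMulCommutative S ∧ Subgroup.centralizer (S : Set G) = ⊥) :
    (⁅(P : Subgroup G), (P : Subgroup G)⁆).relIndex (P : Subgroup G) = p ^ 2 ↔
      ∃ x : G, (∃ k : ℕ, orderOf x = p ^ k) ∧ (Nat.card (Subgroup.centralizer ({x} : Set G))).factorization p = 2 := by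
  have hp : p.Prime := Fact.out
  have hS := sylIn_top P
  have l : ⁅(P : Subgroup G), (P : Subgroup G)⁆ ≤ P := comm_le_of_le le_rfl le_rfl
  have e0 := card_mul_relIndex l
  have cP := P.card_eq_multiplicity
  constructor
  · intro hD
    by_cases h0 : ⁅(P : Subgroup G), (P : Subgroup G)⁆ = ⊥
    · refine ⟨1, ⟨0, by simp⟩, ?_⟩
      rw [hD, h0, card_bot, one_mul, cP] at e0
      rw [show centralizer ({1} : Set G) = ⊤ from eq_top_iff.2 fun x _ => by simp [mem_centralizer_iff], card_top]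
      exact (Nat.pow_right_injective hp.two_le e0).symm
    obtain ⟨N, hN, h1, h2⟩ := abel P hD h0 hcore hcore' hnas
    have key : ∀ y ∈ (P : Subgroup G), y ∉ N → Nat.card ↥(𝐂 (zpowers y) ⊓ P) = p ^ 2 := fun y hy hy' => by
      have := card_inf_mul_relIndex (𝐂 (zpowers y)) P
      rw [(cls hy).2 fun d hd => (surj (norm_inf le_normalizer norm_of_normal) h2
        (gen inf_le_left h1.dvd hy fun e => hy' e.2) d hd).imp fun g e => ⟨e.1.1, e.2⟩, ← e0, hD, mul_comm] at this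
      exact Nat.eq_of_mul_eq_mul_left Nat.card_pos this
    obtain ⟨x, hx, hx'⟩ := SetLike.not_le_iff_exists.1 fun e : (P : Subgroup G) ≤ N => hp.one_lt.ne
      ((relIndex_eq_one.2 (le_inf le_rfl e)).symm.trans h1)
    obtain ⟨k, hk⟩ := orderOf_eq_pow_of_mem hS.pg hx
    refine ⟨x, ⟨k, hk⟩, ?_⟩
    rw [← Amb.centralizer_zpowers]
    obtain ⟨R, hR, r⟩ := exists_sylIn_ge (isPGroup_zpowers_of_orderOf hk) (le_centralizer (zpowers x))
    obtain ⟨g, -, hg⟩ := hS.exists_conj_le hR.pg le_top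
    have h3 := card_le_of_le (le_inf (cj_mono g hR.le) hg)
    rw [card_cj, cj_centralizer, cj_zpowers, key _ (hg (conj_mem_cj.2 (r (mem_zpowers x))))
      fun e => hx' (by simpa [mul_assoc] using hN.conj_mem' _ e g), hR.card_eq_pow] at h3
    have h4 := hR.card_le (hS.pg.to_le inf_le_right) (inf_le_left : _ ⊓ (P : Subgroup G) ≤ _)
    rw [key x hx hx', hR.card_eq_pow] at h4
    exact le_antisymm ((Nat.pow_le_pow_iff_right hp.one_lt).1 h3) ((Nat.pow_le_pow_iff_right hp.one_lt).1 h4)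
  · rintro ⟨x, ⟨k, hk⟩, h⟩
    obtain ⟨g, -, hg⟩ := hS.exists_conj_le (isPGroup_zpowers_of_orderOf hk) le_top
    rw [← Amb.centralizer_zpowers, ← card_cj g, cj_centralizer, cj_zpowers] at h
    rw [cj_zpowers] at hg
    obtain ⟨R, hR⟩ := exists_sylIn p (𝐂 (zpowers (g * x * g⁻¹)))
    have h1 := hR.card_le (hS.pg.to_le inf_le_right) (inf_le_left : _ ⊓ (P : Subgroup G) ≤ _)
    rw [hR.card_eq_pow, h] at h1
    have h2 := (card_inf_mul_relIndex _ _).ge.trans (Nat.mul_le_mul h1 (cls (zpowers_le.1 hg)).1)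
    rw [← e0, mul_comm] at h2
    have h3 := Nat.le_of_mul_le_mul_right h2 Nat.card_pos
    obtain ⟨i, -, hi⟩ := (Nat.dvd_prime_pow hp).1 (cP ▸ Dvd.intro_left _ e0)
    rw [hi] at h3 ⊢
    refine congrArg _ (le_antisymm ((Nat.pow_le_pow_iff_right hp.one_lt).1 h3) (not_lt.1 fun h4 => ?_))
    have h5 := cyc hS.pg (hi ▸ (pow_dvd_pow p (Nat.le_of_lt_succ h4)).trans (pow_one p).dvd)
    rw [hi, h5, card_bot, one_mul, cP] at e0
    have := (hp.pow_dvd_iff_le_factorization Nat.card_pos.ne').1 hbig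
    have := Nat.pow_right_injective hp.two_le e0
    omega

end Cfsg.Agent.S4587
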