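import Cfsg.Statements.S4843
import Cfsg.Agent.Lib.Char.Cons
import Cfsg.Agent.Lib.Char.GalC
import Cfsg.Agent.Lib.Char.CharProd
import Cfsg.Agent.Lib.Char.CharKer
import Cfsg.Agent.Lib.Odd.BG1b
import Cfsg.Agent.Lib.Loc.EqO1

set_option autoImplicit false
open Cfsg

namespace Cfsg.Agent.S4843

open CA CA.BG Subgroup CChar.CharFun CChar.CharOrth CChar.CharKer ComplexConjugate
open scoped commutatorElement

theorem fe {G X : Type*} [Group G] [Fintype G] [Group X] (f : G →* X) {Θ : X → ℂ} (h : IsCharacter X Θ)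
    (hi : IsIrrCharacter G fun g => Θ (f g)) (u v : X) :
    Θ 1 * ∑ g, Θ (f g * u * (f g)⁻¹ * v) = Nat.card G * (Θ u * Θ v) := by
  obtain ⟨n, R, rfl⟩ := h
  haveI : Representation.IsIrreducible (R.comp f) := (isIrreducible_iff_irr (R.comp f)).2 hi
  obtain ⟨c, hc⟩ := CChar.CharRep.exists_eq_smul_of_commute (R.comp f) (∑ g, R (f g * u * (f g)⁻¹)) fun a => by
    rw [Finset.sum_mul, Finset.mul_sum, ← Equiv.sum_comp (Equiv.mulLeft a)]
    refine Finset.sum_congr rfl fun g _ => ?_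
    rw [MonoidHom.comp_apply, ← map_mul, ← map_mul, Equiv.coe_mulLeft, map_mul f]
    congr 1; group
  have h1 := congrArg (LinearMap.trace ℂ _) hc
  have h2 := congrArg (fun T => LinearMap.trace ℂ _ (T * R v)) hc
  simp only [Finset.sum_mul, smul_mul_assoc, one_mul, map_sum, map_smul, smul_eq_mul, ← map_mul,
    LinearMap.trace_one] at h1 h2
  have h3 : ∀ g, LinearMap.trace ℂ _ (R (f g * u * (f g)⁻¹)) = R.character u := fun g => R.char_conj u (f g)
  simp only [h3, Finset.sum_const, Finset.card_univ, nsmul_eq_mul] at h1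
  rw [R.char_one, Nat.card_eq_fintype_card, ← mul_assoc, h1]
  exact (congrArg _ h2).trans (by unfold Representation.character; ring)

/-- Let G be a finite group with a faithful irreducible character χ (taking the value χ(1) only at the identity) and let k be prime to the order of G, so that g ↦ χ(g^k) is a Galois conjugate of χ. If the pointwise product g ↦ χ(g)·χ(g^k) is again an irreducible character, then the Fitting subgroup of G equals its centre. -/
theorem result {G : Type*} [Group G] [Finite G] (χ : Cfsg.IrrCharacter G) (hfaith : ∀ g : G, (χ : G → ℂ) g = (χ : G → ℂ) 1 → g = 1) (k : ℕ) (hk : Nat.Coprime k (Nat.card G)) (hirr : Cfsg.IsIrrCharacter G (fun g => (χ : G → ℂ) g * (χ : G → ℂ) (g ^ k))) : Cfsg.fittingSubgroup G = Subgroup.center G := by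
  classical
  haveI := Fintype.ofFinite G
  have hc := char_of_irr χ.2
  have hker : charKer χ.1 = ⊥ := eq_bot_iff.2 fun g hg => hfaith g (apply_of_mem_charKer hg)
  have hZ := charCenter_eq_center χ.2 hker
  obtain ⟨σ, hσ⟩ := GalC.exists_equiv_pow Nat.card_pos hk
  have h0 : IsCharacter G fun g => χ.1 (g ^ k) := by
    have := Cons.char_map σ.toRingHom hc
    rwa [funext fun g => Cons.map_char_apply σ.toRingHom hc g k fun z hz => hσ z (by
      obtain ⟨c, e⟩ := orderOf_dvd_natCard g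
      rw [e, pow_mul, hz, one_pow])] at this
  obtain ⟨j, -, hj⟩ := Nat.exists_mul_mod_eq_of_coprime (Nat.card G - 1) hk Nat.card_pos.ne'
  have h1 : ∀ g : G, χ.1 ((g ^ j) ^ k) = conj (χ.1 g) := fun g => by
    rw [← char_apply_inv hc, ← pow_mul, mul_comm, ← pow_mod_natCard, hj, pow_mod_natCard]
    refine congrArg _ ?_
    rw [eq_inv_iff_mul_eq_one, ← pow_succ, Nat.sub_add_cancel Nat.card_pos, pow_card_eq_one']
  have FE : ∀ x y : G, χ.1 1 * conj (χ.1 1) * ∑ g, χ.1 (g * x * g⁻¹ * y) * χ.1 (((g * x * g⁻¹) ^ j * y ^ j) ^ k)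
      = Nat.card G * (χ.1 x * conj (χ.1 x) * (χ.1 y * conj (χ.1 y))) := fun x y => by
    have := fe ((MonoidHom.id G).prod (MonoidHom.id G)) (CChar.CharProd.char_prod_mul hc h0) hirr (x, x ^ j) (y, y ^ j)
    simp only [h1] at this
    rw [← this, ← h1 1]
    simp [conj_pow]
  have n1 : χ.1 1 * conj (χ.1 1) ≠ 0 :=
    mul_ne_zero (irr_apply_one_ne_zero χ.2) ((map_ne_zero _).2 (irr_apply_one_ne_zero χ.2))
  have pos : ∀ (s : Finset G) (f : G → G) (a : G), a ∈ s → f a = 1 → ∑ x ∈ s, χ.1 (f x) * conj (χ.1 (f x)) ≠ 0 := by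
    intro s f a ha e h
    simp only [Complex.mul_conj] at h
    have h2 : ∑ x ∈ s, Complex.normSq (χ.1 (f x)) = 0 := by exact_mod_cast h
    have h3 := (Finset.sum_eq_zero_iff_of_nonneg fun x _ => Complex.normSq_nonneg _).1 h2 a ha
    rw [e, Complex.normSq_eq_zero] at h3
    exact irr_apply_one_ne_zero χ.2 h3
  have A : ∀ N : Subgroup G, N.Normal → IsMulCommutative N → N ≤ center G := by
    intro N hN hcm y hy
    haveI := Fintype.ofFinite N
    have h2 : ∀ g : G, ∑ x : N, χ.1 (g * x * g⁻¹ * y) * χ.1 (((g * x * g⁻¹) ^ j * y ^ j) ^ k)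
        = ∑ x : N, χ.1 x * conj (χ.1 x) := fun g => by
      rw [← Equiv.sum_comp ((MulAut.conjNormal g).toEquiv.trans (Equiv.mulRight (⟨y, hy⟩ : N)))
        fun x : N => χ.1 x * conj (χ.1 x)]
      refine Finset.sum_congr rfl fun x _ => ?_
      have : Commute (g * x * g⁻¹) y := (mem_cent.1 (comm_iff_le_cent.1 hcm hy) _ (hN.conj_mem _ x.2 g))
      rw [← this.mul_pow, h1]; rfl
    have h3 := Finset.sum_congr rfl fun (x : N) (_ : x ∈ Finset.univ) => FE x y
    rw [← Finset.mul_sum, Finset.sum_comm, ← Finset.mul_sum, ← Finset.sum_mul] at h3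
    simp only [h2, Finset.sum_const, Finset.card_univ, nsmul_eq_mul, ← Nat.card_eq_fintype_card] at h3
    have h4 : ∑ x : N, χ.1 x * conj (χ.1 x) ≠ 0 := by
      rw [← Finset.sum_subtype (Finset.univ.filter (· ∈ N)) (by simp) fun x => χ.1 x * conj (χ.1 x)]
      exact pos _ id 1 (by simp) rfl
    rw [mul_left_comm, mul_comm _ (∑ x : N, _)] at h3
    have h5 := mul_left_cancel₀ h4 (mul_left_cancel₀ (Ind.card_ne_zero G) h3)
    rw [← hZ, mem_charCenter hc]
    rw [Complex.mul_conj, Complex.mul_conj, Complex.ofReal_inj, Complex.normSq_eq_norm_sq,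
      Complex.normSq_eq_norm_sq] at h5
    exact ((pow_left_inj₀ (norm_nonneg _) (norm_nonneg _) two_ne_zero).1 h5).symm
  refine le_antisymm ?_ Fitting.center_le_fitting
  by_contra hF
  rw [← fit_top] at hF
  obtain ⟨N, hle, ⟨hN, hn⟩, hmin⟩ := exists_minimal_le (P := fun N : Subgroup G => N.Normal ∧ ¬ N ≤ center G)
    ⟨EqO.normal_of (le_norm_fit ⊤), hF⟩
  have h2 : ⁅N, N⁆ ≤ center G := by
    by_contra h
    exact (comm_lt_of_nil (fit_nil ⊤) hle hle (le_norm_self N) (fun e => hn (e ▸ bot_le))).ne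
      (hmin _ ⟨inferInstance, h⟩ (der_le N))
  have h3 : ∀ y ∈ N, y ∉ center G → χ.1 y = 0 := fun y hy h => by
    obtain ⟨a, ha, h4⟩ : ∃ a ∈ N, a * y ≠ y * a := by
      by_contra! h4
      exact h (A 𝓩(N) (EqO.normal_of ((EqO.top_norm N ⊤).trans (norm_center N))) (comm_center N)
        ⟨hy, mem_cent.2 h4⟩)
    refine apply_eq_zero_of_commutator_mem χ.2 (h := a) (hZ ▸ h2 (commutator_mem_commutator ha hy)) ?_
    rwa [hker, mem_bot, commutatorElement_eq_one_iff_mul_comm]
  obtain ⟨x, hx, hxZ⟩ := SetLike.not_le_iff_exists.1 hn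
  have h4 := FE x x⁻¹
  rw [h3 x hx hxZ, zero_mul, zero_mul, mul_zero] at h4
  refine pos Finset.univ (fun g => g * x * g⁻¹ * x⁻¹) 1 (by simp) (by simp) ?_
  rw [← (mul_eq_zero.1 h4).resolve_left n1]
  refine Finset.sum_congr rfl fun g _ => ?_
  by_cases h5 : g * x * g⁻¹ * x⁻¹ ∈ center G
  · have : Commute (g * x * g⁻¹) x⁻¹ := by
      have h6 : Commute (g * x * g⁻¹ * x⁻¹) x⁻¹ := (mem_center_iff.1 h5 _).symm
      simpa using h6.mul_left (Commute.refl x).inv_right
    rw [← this.mul_pow, h1]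
  · rw [h3 _ (mul_mem (hN.conj_mem x hx g) (inv_mem hx)) h5, zero_mul, zero_mul]

end Cfsg.Agent.S4843
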