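import Cfsg.Statements.S4756
import Cfsg.Agent.S4843
import Cfsg.Agent.Lib.Char.H12Misc
import Cfsg.Agent.Lib.Odd.PF1c
import Cfsg.Agent.Lib.Odd.BGMisc
import Cfsg.Agent.Lib.Grp.H4Cls

set_option autoImplicit false
open Cfsg

namespace Cfsg.Agent.S4756

open CA CA.BG Subgroup CChar.CharFun CChar.CharOrth CChar.CharKer
open scoped commutatorElement

theorem orderOf_conj {G : Type*} [Group G] (g x : G) : orderOf (g * x * g⁻¹) = orderOf x :=
  (MulAut.conj g).orderOf_eq x

theorem pi_of {G : Type*} [Group G] {x : G} {p a : ℕ} (hp : p.Prime) (h : orderOf x = p ^ a) : IsPi {p} (zpowers x) :=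
  isPi_zpowers.2 (h ▸ piNat_pow hp a)

theorem prime_eq {G : Type*} [Group G] [Finite G] {x : G} {p q a : ℕ} {P : Subgroup G} (hP : IsPi {p} P) (hq : q.Prime)
    (h : orderOf x = q ^ a) (h1 : x ≠ 1) (hx : x ∈ P) : q = p :=
  (pi_of hq h).mem_of_ne_bot (zpowers_ne_bot.2 h1) (hP.of_le (zpowers_le.2 hx))

/-- For a finite group G the following are equivalent. (1) χ(x y) = χ(x) χ(y) for every irreducible character χ and all non-identity elements x, y of prime power orders for two different primes. (2) G is a p-group for some prime p, or G is abelian, or for some prime p: G = A P with P a normal Sylow p-subgroup and A a nontrivial cyclic subgroup of order prime to p such that, with C = C_P(A) and D = [A, P], one has P = C D, C abelian, D normal in G, C ∩ D = 1, and A acts fixed-point-freely on D (no non-identity element of A centralizes a non-identity element of D). -/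
theorem result {G : Type*} [Group G] [Finite G] : (∀ (x y : G) (χ : Cfsg.IrrCharacter G), x ≠ 1 → y ≠ 1 → (∃ p q a b : ℕ, p.Prime ∧ q.Prime ∧ p ≠ q ∧ orderOf x = p ^ a ∧ orderOf y = q ^ b) → (χ : G → ℂ) (x * y) = (χ : G → ℂ) x * (χ : G → ℂ) y) ↔ ((∃ p : ℕ, p.Prime ∧ IsPGroup p G) ∨ IsMulCommutative G ∨ ∃ (p : ℕ) (_ : Fact p.Prime) (P : Sylow p G) (A : Subgroup G), (P : Subgroup G).Normal ∧ IsCyclic ↥A ∧ A ≠ ⊥ ∧ (Nat.card ↥A).Coprime p ∧ A ⊔ (P : Subgroup G) = ⊤ ∧ IsMulCommutative ↥((P : Subgroup G) ⊓ Subgroup.centralizer (A : Set G)) ∧ (⁅A, (P : Subgroup G)⁆).Normal ∧ ((P : Subgroup G) ⊓ Subgroup.centralizer (A : Set G)) ⊔ ⁅A, (P : Subgroup G)⁆ = (P : Subgroup G) ∧ ((P : Subgroup G) ⊓ Subgroup.centralizer (A : Set G)) ⊓ ⁅A, (P : Subgroup G)⁆ = ⊥ ∧ ∀ a ∈ A, a ≠ 1 → ∀ d ∈ ⁅A, (P : Subgroup G)⁆, a * d = d * a → d = 1) := by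
  haveI := Fintype.ofFinite G
  constructor
  · intro h
    by_cases hpg : ∃ p : ℕ, p.Prime ∧ IsPGroup p G
    · exact Or.inl hpg
    by_cases hab : IsMulCommutative G
    · exact Or.inr (Or.inl hab)
    refine Or.inr (Or.inr ?_)
    have key : ∀ x y : G, x ≠ 1 → y ≠ 1 → ∀ p q a b : ℕ, p.Prime → q.Prime → p ≠ q → orderOf x = p ^ a →
        orderOf y = q ^ b → ∀ c ∈ commutator G, IsConj (x * y) (x * y * c) := by
      intro x y hx hy p q a b hp hq hpq ox oy c hc
      refine H12Misc.isConj_of_forall fun χ => ?_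
      by_cases h1 : χ.1 1 = 1
      · exact Or.inr (apply_mul_of_mem_charKer' ((irr_apply_one_iff χ.2).1 h1 hc) _)
      have h2 := S4843.fe (MonoidHom.id G) (char_of_irr χ.2) χ.2 x y
      have h3 : ∀ g : G, χ.1 (g * x * g⁻¹ * y) = χ.1 x * χ.1 y := fun g => by
        rw [h _ y χ (by simpa using hx) hy ⟨p, q, a, b, hp, hq, hpq, (orderOf_conj g x).trans ox, oy⟩,
          classFun_apply (irr_classFun χ.2)]
      simp only [MonoidHom.id_apply, h3, Finset.sum_const, Finset.card_univ, nsmul_eq_mul,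
        ← Nat.card_eq_fintype_card] at h2
      rw [h x y χ hx hy ⟨p, q, a, b, hp, hq, hpq, ox, oy⟩]
      by_contra! h4
      exact h1 (mul_right_cancel₀ (mul_ne_zero (Ind.card_ne_zero G) h4.1) (h2.trans (one_mul _).symm))
    have h0 : commutator G ≠ ⊥ := fun e => hab ⟨⟨fun a b => CChar.CharMisc.comm_of_commutator_eq_bot e.le a b⟩⟩
    obtain ⟨p, hp, hd⟩ := exists_prime_dvd_card h0
    haveI := Fact.mk hp
    obtain ⟨x, hx, ox⟩ := exists_orderOf_eq hp hd
    have h1 : IsPi {p} (commutator G) := fun q hq hd' => by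
      by_contra hne
      obtain ⟨y, hy, oy⟩ := exists_orderOf_eq hq hd'
      have n1 : ∀ {z : G} {r : ℕ}, r.Prime → orderOf z = r → z ≠ 1 := fun hr e e' =>
        hr.one_lt.ne (by rw [← e, e', orderOf_one])
      have h2 := key x y (n1 hp ox) (n1 hq oy) p q 1 1 hp hq (Ne.symm hne) (by simpa) (by simpa) _
        (inv_mem (mul_mem hx hy))
      rw [mul_inv_cancel, isConj_one_left, mul_eq_one_iff_eq_inv] at h2
      exact hne (by rw [Set.mem_singleton_iff, ← oy, ← ox, h2, orderOf_inv])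
    obtain ⟨P⟩ := (inferInstance : Nonempty (Sylow p G))
    have hP := syl_top hp P
    have h2 : commutator G ≤ P := hP.le_of_norm' h1 le_top (EqO.top_norm _ _)
    have hn : (⊤ : Subgroup G) ≤ 𝓝((P : Subgroup G)) := norm_of_der_le h2 le_top
    have hs : Group.IsSolvable (⊤ : Subgroup G) := EqO.solv_of_der_le (h1.isSolvable hp) le_rfl
    obtain ⟨A, hA, hS⟩ := exists_hall_compl hP hs hn
    have cA : IsMulCommutative A := comm_iff_der_eq_bot.2 (BG.eq_bot_mono
      (le_inf ((der_mono le_top).trans h2) (der_le A)) hS.disj)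
    have A0 : A ≠ ⊥ := fun e => hpg ⟨p, hp, by
      have := hS.sup
      rw [e, sup_bot_eq] at this
      exact (P.2.of_equiv (MulEquiv.subgroupCongr this)).of_equiv topEquiv⟩
    have h3 : ∀ a ∈ A, a ≠ 1 → ∀ d ∈ commutator G, a * d = d * a → d = 1 := fun a ha a1 d hd e => by
      by_contra d1
      obtain ⟨q, hq, hd'⟩ := exists_prime_dvd_card (zpowers_ne_bot.2 a1)
      obtain ⟨b, hb, ob⟩ := exists_orderOf_eq hq hd'
      have hqp : q ≠ p := hA.pi q hq (hd'.trans (card_dvd (zpowers_le.2 ha)))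
      obtain ⟨k, hk⟩ := (h1.orderOf hd).exists_pow hp (orderOf_pos d).ne'
      have h4 := key b d (fun e => hq.one_lt.ne (by rw [← ob, e, orderOf_one])) d1 q p 1 k hq hp hqp (by simpa) hk _
        (inv_mem hd)
      obtain ⟨c, hc⟩ := isConj_iff.1 h4
      rw [mul_inv_cancel_right] at hc
      have h5 : Commute b d := by
        obtain ⟨n, rfl⟩ := hb
        exact Commute.zpow_left e n
      have h6 := h5.orderOf_mul_eq_mul_orderOf_of_coprime (by
        rw [ob, hk]; exact ((Nat.coprime_primes hq hp).2 hqp).pow_right k)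
      rw [← orderOf_conj c, hc, left_eq_mul₀ (orderOf_pos b).ne', orderOf_eq_one_iff] at h6
      exact d1 h6
    have h4 : ⁅A, (P : Subgroup G)⁆ ≤ commutator G := commutator_mono le_top le_top
    have h5 : (P : Subgroup G) ⊓ 𝓒(A) ⊓ commutator G = ⊥ := eq_bot_iff.2 fun d hd => by
      obtain ⟨a, ha, a1⟩ := exists_ne_one A0
      exact h3 a ha a1 d hd.2 (mem_cent.1 hd.1.2 a ha)
    refine ⟨p, inferInstance, P, A, EqO.normal_of hn, ?_, A0, (isPi_compl_iff_coprime hp).1 hA.pi, hS.sup', ?_,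
      EqO.normal_of (hS.sup' ▸ sup_le (le_norm_comm_left _ _) (le_norm_comm_right _ _)), ?_,
      BG.eq_bot_mono (inf_le_inf_left _ h4) h5, fun a ha a1 d hd => h3 a ha a1 d (h4 hd)⟩
    · by_contra hc
      exact h0 (eq_bot_iff.2 (coprime_abelian_gen_cent1 cA hc (EqO.top_norm _ _) (h1.coprime hA.pi)
        fun a ha a1 d hd => h3 a ha a1 d hd.1 (mem_cent1.1 hd.2).symm))
    · exact comm_iff_der_eq_bot.2 (BG.eq_bot_mono (le_inf (der_le _) (der_mono le_top)) h5)
    · rw [sup_comm, comm_symm]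
      exact coprime_cent_prod hS.norm (hP.pi.coprime hA.pi) (Or.inr (hP.pi.isSolvable hp))
  rintro (⟨p, hp, h⟩ | h | ⟨p, hp, P, A, hn, cA, -, hc, hs, cC, hD, h1, -, h2⟩) x y χ hx hy
    ⟨r, q, a, b, hr, hq, hne, ox, oy⟩
  · have hP := isPi_of_isPGroup hp (h.to_subgroup ⊤)
    exact absurd ((prime_eq hP hr ox hx (mem_top x)).trans (prime_eq hP hq oy hy (mem_top y)).symm) hne
  · exact char_map_mul_of_apply_one (char_of_irr χ.2) (irr_apply_one_of_comm h.is_comm.comm χ.2) x y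
  by_cases h3 : χ.1 1 = 1
  · exact char_map_mul_of_apply_one (char_of_irr χ.2) h3 x y
  have hP := syl_top hp.out P
  have hA : IsPi {p}ᶜ A := (isPi_compl_iff_coprime hp.out).2 hc
  have h4 : commutator G ≤ ⁅A, (P : Subgroup G)⁆ := by
    have := comm_sup_le (EqO.top_norm ⁅A, (P : Subgroup G)⁆ (A ⊔ (P : Subgroup G) ⊓ 𝓒(A)))
      (EqO.top_norm ⁅A, (P : Subgroup G)⁆ (A ⊔ (P : Subgroup G) ⊓ 𝓒(A)))
    rwa [comm_iff_der_eq_bot.1 (comm_sup (comm_of_cyclic cA) cC (cent_symm inf_le_right)), bot_sup_eq, sup_assoc, h1,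
      hs] at this
  have h5 : ∀ g, g ∉ (P : Subgroup G) → χ.1 g = 0 := fun g hg => by
    refine PF.irr_reg_off_ker_0 (PF.nrm_top ⁅A, (P : Subgroup G)⁆) (PF.mem_irr_top.2 χ.2) (fun h => h3
      ((irr_apply_one_iff χ.2).2 fun c hc => (mem_charKer (char_of_irr χ.2)).2 (PF.cfker_apply (h (h4 hc)))))
      (mem_top g) (eq_bot_iff.2 fun d hd => ?_)
    obtain ⟨k, m, hm, e⟩ := Nat.exists_eq_pow_mul_and_not_dvd (orderOf_pos g).ne' p hp.out.one_lt.ne'
    have h6 : IsPi {p}ᶜ (zpowers (g ^ p ^ k)) := isPi_zpowers.2 ((piNat_compl_iff hp.out).2 (by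
      rwa [orderOf_pow_of_dvd (pow_ne_zero k hp.out.ne_zero) (e ▸ dvd_mul_right _ _), e,
        Nat.mul_div_cancel_left _ (pow_pos hp.out.pos k)]))
    obtain ⟨c, -, h7⟩ := coprime_conj_le (EqO.top_norm (P : Subgroup G) A) (hP.pi.coprime hA) (hs ▸ le_top)
      (hP.pi.coprime h6) (Or.inr (Or.inr (hP.pi.isSolvable hp.out)))
    have h8 := h2 _ (h7 (conj_mem_cj.2 (mem_zpowers _))) (fun e => hg (hP.mem_of_normal (EqO.top_norm _ _) (mem_top g)
      ((piNat_pow hp.out k).of_dvd (orderOf_dvd_of_pow_eq_one (by simpa using e))))) _ (hD.conj_mem d hd.1 c) (by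
        have := (Commute.pow_right (mem_cent1.1 hd.2) (p ^ k)).eq
        simp only [conj_mul, this])
    simpa using h8
  have h6 : ∀ {u v : G}, (orderOf u).Coprime (orderOf v) → u * v ∈ (P : Subgroup G) → v ∈ (P : Subgroup G) := by
    intro u v h hm
    have h7 := mul_eq_one_iff_eq_inv.1 ((QuotientGroup.mk_mul _ u v).symm.trans ((QuotientGroup.eq_one_iff _).2 hm))
    refine (QuotientGroup.eq_one_iff v).1 (orderOf_eq_one_iff.1 (Nat.eq_one_of_dvd_coprimes h ?_
      (orderOf_map_dvd (QuotientGroup.mk' _) v)))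
    rw [← orderOf_inv, ← h7]
    exact orderOf_map_dvd (QuotientGroup.mk' _) u
  have h7 : (orderOf x).Coprime (orderOf y) := ox ▸ oy ▸ Nat.coprime_pow_primes a b hr hq hne
  by_cases h8 : y ∈ (P : Subgroup G)
  · have h9 : x ∉ (P : Subgroup G) := fun h =>
      hne ((prime_eq hP.pi hr ox hx h).trans (prime_eq hP.pi hq oy hy h8).symm)
    rw [h5 x h9, h5 _ fun h => h9 ((mul_mem_cancel_right h8).1 h), zero_mul]
  · rw [h5 y h8, h5 _ fun h => h8 (h6 h7 h), mul_zero]

end Cfsg.Agent.S4756
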