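import Cfsg.Statements.S4763
import Cfsg.Agent.Lib.Char.H10FS
import Cfsg.Agent.S4807
import Cfsg.Agent.Lib.Grp.PRes
import Cfsg.Agent.Lib.Char.CharMisc

set_option autoImplicit false
open Cfsg

namespace Cfsg.Agent.S4763
open CA.H10FS CA.MatRep CA.H11FS CA.Clif CA.Gall CA.Ind2 CA.Ext CChar.CharFun CChar.CharOrth CChar.CharInt CChar.CharProd CChar.CharKer CA.Ind Subgroup

/-- Let p be a prime and G a finite group that is not nilpotent and has a normal p-complement (a normal subgroup of order prime to p and index a power of p). If G has exactly one irreducible complex character of degree divisible by p, then G has exactly one conjugacy class whose size is divisible by p. -/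
theorem result {G : Type*} [Group G] [Finite G] (p : ℕ) [Fact p.Prime] (hnil : ¬ Group.IsNilpotent G) (N : Subgroup G) [N.Normal] (hN : (Nat.card N).Coprime p) (hidx : ∃ k : ℕ, N.index = p ^ k) (hone : Nat.card {χ : Cfsg.IrrCharacter G // p ∣ Cfsg.charDegree (χ : G → ℂ)} = 1) : Nat.card {C : ConjClasses G // p ∣ Nat.card C.carrier} = 1 := by
  classical
  haveI : Fintype G := Fintype.ofFinite _
  haveI : Fintype N := Fintype.ofFinite _
  have hp : p.Prime := Fact.out
  obtain ⟨k, hk⟩ := hidx
  have hQ : IsPGroup p (G ⧸ N) := IsPGroup.of_card hk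
  have hN' : ¬ p ∣ Nat.card N := (hp.coprime_iff_not_dvd).1 hN.symm
  obtain ⟨⟨χ, hχ⟩, huniq⟩ := Nat.card_eq_one_iff_exists.1 hone
  have hu : ∀ ψ, IsIrrCharacter G ψ → p ∣ charDegree ψ → ψ = χ.1 := fun ψ h hψ =>
    congrArg (fun x => x.1.1) (huniq ⟨⟨ψ, h⟩, hψ⟩)
  have hab : ∀ a b : G ⧸ N, a * b = b * a := by
    by_contra hna
    rw [comm_iff_irr_apply_one] at hna
    push Not at hna
    obtain ⟨β, hβ, hβ1⟩ := hna
    obtain ⟨j, hj⟩ := CChar.CharMisc.degree_eq_pow_of_isPGroup hQ hβ
    have hd : p ∣ charDegree β := by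
      rw [hj]; refine dvd_pow_self p ?_
      rintro rfl
      exact hβ1 (by rw [irr_apply_one_eq hβ, hj]; simp)
    have hb := irr_inflate hβ
    have hbN : ∀ n ∈ N, β (n : G ⧸ N) = β ((1 : G) : G ⧸ N) := fun n hn =>
      apply_of_mem_charKer (χ := fun g : G => β (g : G ⧸ N)) (le_charKer_inflate β hn)
    have hb1 : β ((1 : G) : G ⧸ N) = charDegree β := irr_apply_one_eq hβ
    have hbχ := hu _ hb (by rw [charDegree_eq hb1]; exact hd)
    have hθ : ∀ θ, IsIrrCharacter N θ → θ = fun _ => 1 := by
      intro θ hθ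
      have key : ∃ ψ, IsIrrCharacter G ψ ∧ p ∣ charDegree ψ ∧ classInner (fun n : N => ψ n) θ ≠ 0 := by
        by_cases hi : inertia θ = ⊤
        · obtain ⟨η, hη, he⟩ := exists_ext_of_coprime_card hθ hi (by
            rw [hk]; exact hN.pow_right k)
          have hr : (fun n : N => η n) = θ := funext he
          refine ⟨_, irr_mul (char_of_irr hη) (hr ▸ hθ) hb hbN, ?_, ?_⟩
          · rw [charDegree_eq (n := charDegree β * charDegree η) (by
              simp only [Pi.mul_apply]; rw [hb1, irr_apply_one_eq hη]; simp)]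
            exact hd.mul_right _
          · have : (fun n : N => ((fun g : G => β (g : G ⧸ N)) * η) n) = (charDegree β : ℂ) • θ := by
              funext n
              simp only [Pi.mul_apply, Pi.smul_apply, smul_eq_mul]
              rw [hbN n n.2, hb1, he]
            rw [this, CChar.CharFun.inner_smul_left, inner_irr_self hθ, mul_one]
            exact_mod_cast (charDegree_pos hβ).ne'
        · obtain ⟨ψ, hψ, hi2⟩ := CA.Cons.exists_irr_over N hθ
          refine ⟨ψ, hψ, ?_, hi2⟩
          obtain ⟨m, hm⟩ := inner_char_char (char_comp (char_of_irr hψ) N.subtype) (char_of_irr hθ)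
          have h1 := apply_one_eq hψ hθ hi2
          have hm' : classInner (fun n : N => ψ n) θ = m := hm
          rw [hm', irr_apply_one_eq hθ] at h1
          rw [charDegree_eq (n := m * (inertia θ).index * charDegree θ) (by rw [h1]; simp)]
          obtain ⟨i, -, hi3⟩ := (Nat.dvd_prime_pow hp).1
            (hk ▸ index_dvd_of_le (le_inertia (irr_classFun hθ)))
          refine Dvd.dvd.mul_right (Dvd.dvd.mul_left ?_ _) _
          rw [hi3]; refine dvd_pow_self p ?_
          rintro rfl
          exact hi (index_eq_one.1 hi3)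
      obtain ⟨ψ, hψ, h1, h2⟩ := key
      rw [hu ψ hψ h1, ← hbχ] at h2
      have : (fun n : N => β ((n : G) : G ⧸ N)) = (charDegree β : ℂ) • fun _ : N => (1 : ℂ) := by
        funext n; simp only [Pi.smul_apply, smul_eq_mul]; rw [hbN n n.2, hb1, mul_one]
      simp only at h2
      rw [this, CChar.CharFun.inner_smul_left] at h2
      exact (irr_eq_of_inner_ne_zero irr_one hθ (right_ne_zero_of_mul h2)).symm
    have hbot : N = ⊥ := eq_bot_iff.2 fun x hx => by
      have := eq_one_of_forall_irr (g := (⟨x, hx⟩ : N)) fun θ h => by rw [hθ θ h]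
      exact congrArg Subtype.val this
    subst hbot
    exact hnil (IsPGroup.of_card (by rw [← hk, index_bot]) : IsPGroup p G).isNilpotent
  obtain ⟨P⟩ : Nonempty (Sylow p G) := inferInstance
  have hdis := (CA.PRes.inf_sylow_eq_bot_iff P N).2 hN'
  have hNC : normalizer ((P : Subgroup G) : Set G) = centralizer ((P : Subgroup G) : Set G) := by
    refine le_antisymm (fun g hg x hx => ?_) (centralizer_le_normalizer _)
    have h1 : g * x * g⁻¹ * x⁻¹ ∈ N ⊓ (P : Subgroup G) := by
      refine ⟨(QuotientGroup.eq_one_iff _).1 ?_, (P : Subgroup G).mul_mem ((mem_normalizer_iff.1 hg x).1 hx) ((P : Subgroup G).inv_mem hx)⟩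
      simp only [QuotientGroup.mk_mul, QuotientGroup.mk_inv]
      rw [hab (g : G ⧸ N) x]; simp
    rw [hdis, mem_bot, mul_inv_eq_one, mul_inv_eq_iff_eq_mul] at h1
    exact h1.symm
  have hps : IsPSolvable p G := CA.H12PSolv.psolv_ext N (CA.H12PSolv.psolv_of_coprime hN)
    (CA.H12PSolv.psolv_of_isPGroup hQ)
  have hmk := Cfsg.Agent.S4807.result p hps ⊥ P P (by simp) bot_le ⟨fun _ => 1, irr_one⟩
    (fun _ _ _ _ _ => rfl)
  set H := normalizer ((P : Subgroup G) : Set G) with hH
  have hPH : (P : Subgroup G) ≤ H := le_normalizer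
  have h1 : Nat.card {χ : IrrCharacter G // ¬ p ∣ charDegree χ.1} = Nat.card (ConjClasses H) := by
    rw [← card_irr]
    refine Eq.trans (Nat.card_congr (Equiv.subtypeEquivRight fun ψ => ?_)) (hmk.trans
      (Nat.card_congr (Equiv.subtypeUnivEquiv fun ψ => ⟨?_, ?_⟩)))
    · refine ⟨fun h => ⟨h, ?_⟩, fun h => h.1⟩
      rw [finsum_unique]
      have : ((default : (⊥ : Subgroup G)) : G) = 1 := rfl
      rw [this]
      simpa using irr_apply_one_ne_zero ψ.2
    · intro h
      have h2 := degree_dvd_index_center ψ.2 (irr_apply_one_eq ψ.2)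
      have h3 : (P : Subgroup G).subgroupOf H ≤ center H := fun x hx =>
        mem_center_iff.2 fun g => Subtype.ext ((hNC ▸ g.2 : (g : G) ∈ centralizer _) x hx).symm
      exact P.not_dvd_index ((h.trans (h2.trans (index_dvd_of_le h3))).trans
        (relIndex_dvd_index_of_le hPH))
    · rw [finsum_unique]
      have : inclusion (bot_le : ⊥ ≤ H) default = 1 := Subtype.ext rfl
      rw [this]
      simpa using irr_apply_one_ne_zero ψ.2
  have hcar : ∀ g : G, Nat.card (ConjClasses.mk g).carrier = (centralizer ({g} : Set G)).index :=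
    fun g => by
      rw [← natCard_class_eq_index]
      exact Nat.card_congr (Equiv.subtypeEquivRight fun h => by
        rw [ConjClasses.mem_carrier_iff_mk_eq, ConjClasses.mk_eq_mk_iff_isConj, isConj_comm])
  have h2 : Nat.card (ConjClasses H) = Nat.card {C : ConjClasses G // ¬ p ∣ Nat.card C.carrier} := by
    refine Nat.card_eq_of_bijective (fun c => ⟨ConjClasses.map H.subtype c, ?_⟩) ⟨?_, ?_⟩
    · obtain ⟨x, rfl⟩ := ConjClasses.mk_surjective c
      change ¬ p ∣ Nat.card (ConjClasses.mk (x : G)).carrier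
      rw [hcar]
      refine fun h => P.not_dvd_index (h.trans (index_dvd_of_le fun y hy => ?_))
      exact mem_centralizer_singleton_iff.2 ((hNC ▸ x.2 : (x : G) ∈ centralizer _) y hy)
    · intro c c' e
      obtain ⟨x, rfl⟩ := ConjClasses.mk_surjective c
      obtain ⟨y, rfl⟩ := ConjClasses.mk_surjective c'
      obtain ⟨g, hg⟩ := isConj_iff.1 (ConjClasses.mk_eq_mk_iff_isConj.1 (congrArg Subtype.val e))
      have hg' : g⁻¹⁻¹ * x * g⁻¹ = y := by simpa using hg
      obtain ⟨n, hn, e2⟩ := P.conj_eq_normalizer_conj_of_mem_centralizer x g⁻¹ (hNC ▸ x.2)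
        (hg' ▸ hNC ▸ y.2)
      exact ConjClasses.mk_eq_mk_iff_isConj.2 (isConj_iff.2 ⟨⟨n, hn⟩⁻¹, Subtype.ext (by
        simpa [← e2] using hg)⟩)
    · rintro ⟨c, hc⟩
      obtain ⟨x, rfl⟩ := ConjClasses.mk_surjective c
      rw [hcar] at hc
      obtain ⟨R⟩ : Nonempty (Sylow p (centralizer ({x} : Set G))) := inferInstance
      have h3 : ¬ p ∣ ((R : Subgroup _).map (centralizer ({x} : Set G)).subtype).index := by
        rw [index_map_subtype]
        exact fun h => ((Nat.Prime.dvd_mul hp).1 h).elim R.not_dvd_index hc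
      let Q := (R.2.map (centralizer ({x} : Set G)).subtype).toSylow h3
      have hQR : (R : Subgroup _).map (centralizer ({x} : Set G)).subtype = Q := rfl
      obtain ⟨g, hg⟩ := MulAction.exists_smul_eq G Q P
      refine ⟨ConjClasses.mk ⟨g * x * g⁻¹, ?_⟩, Subtype.ext (ConjClasses.mk_eq_mk_iff_isConj.2
        (IsConj.symm (isConj_iff.2 ⟨g, rfl⟩)))⟩
      rw [hNC]
      intro y hy
      rw [← hg] at hy
      obtain ⟨z, hz, rfl⟩ : ∃ z ∈ (Q : Subgroup G), g * z * g⁻¹ = y := hy
      rw [← hQR] at hz
      obtain ⟨w, -, rfl⟩ := hz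
      have := mem_centralizer_singleton_iff.1 w.2
      simp only [coe_subtype, mul_assoc, inv_mul_cancel_left]
      rw [← mul_assoc (w : G), this, mul_assoc]
  have h3 := card_irr (G := G)
  have a := Fintype.card_subtype_compl (fun χ : IrrCharacter G => p ∣ charDegree χ.1)
  haveI : Fintype (ConjClasses G) := Fintype.ofFinite _
  have b := Fintype.card_subtype_compl (fun C : ConjClasses G => p ∣ Nat.card C.carrier)
  have a' := Fintype.card_subtype_le (fun χ : IrrCharacter G => p ∣ charDegree χ.1)
  have b' := Fintype.card_subtype_le (fun C : ConjClasses G => p ∣ Nat.card C.carrier)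
  simp only [← Nat.card_eq_fintype_card] at a b a' b'
  omega

end Cfsg.Agent.S4763
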