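import Cfsg.Statements.S4775
import Cfsg.Agent.Lib.Lie.H19SzDat
import Cfsg.Agent.Lib.Lie.SzModel

set_option autoImplicit false
open Cfsg

namespace Cfsg.Agent.S4775

open CA.H19Tor CChar.CharOrth CChar.CharInt in
theorem degs {G : Type*} [Group G] [Fintype G] {r : ℕ} {D : Data G r} (t : Tab D) {n A : ℕ} (hn : n + 1 = 2 * r ^ 2)
    (hA : A + 2 * r = 2 * r ^ 2 + 1) (d : ℕ) : d ∈ charDegrees G ↔ d = 1 ∨ d = (2 * r ^ 2) ^ 2 ∨
      d = (2 * r ^ 2) ^ 2 + 1 ∨ d = n * A ∨ d = n * (2 * r ^ 2 + 2 * r + 1) ∨ d = r * n := by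
  have hn' : (n : ℂ) = 2 * r ^ 2 - 1 := by rw [eq_sub_iff_add_eq]; exact_mod_cast hn
  have hA' : (A : ℂ) = 2 * r ^ 2 + 1 - 2 * r := by rw [eq_sub_iff_add_eq]; exact_mod_cast hA
  have d1 : charDegree (irrOne G).1 = 1 := charDegree_eq (by simp [irrOne_apply])
  have d2 : charDegree D.St.1 = (2 * r ^ 2) ^ 2 := charDegree_eq (by simp [D.St1])
  have d3 : ∀ χ ∈ t.X, charDegree χ.1 = (2 * r ^ 2) ^ 2 + 1 := fun χ h =>
    charDegree_eq (by rw [t.vX χ h 1 fun h => h.1 rfl, D.St1]; push_cast; ring)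
  have d4 : ∀ χ ∈ t.Y, charDegree χ.1 = n * A := fun χ h =>
    charDegree_eq (by rw [(t.vY χ h).1]; push_cast; rw [hn', hA']; ring)
  have d5 : ∀ χ ∈ t.Z, charDegree χ.1 = n * (2 * r ^ 2 + 2 * r + 1) := fun χ h =>
    charDegree_eq (by rw [(t.vZ χ h).1]; push_cast; rw [hn'])
  have d6 : ∀ χ, χ = t.W1 ∨ χ = t.W2 → charDegree χ.1 = r * n := fun χ h =>
    charDegree_eq (by rw [(t.vW χ h).1]; push_cast; rw [hn'])
  have hr := D.hr
  have hr2 : 2 * r ≤ r ^ 2 := by nlinarith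
  constructor
  · rintro ⟨χ, rfl⟩
    rcases t.cover χ with rfl | rfl | h | h | h | h | h
    · simp [d1]
    · simp [d2]
    · simp [d6 χ (.inl h)]
    · simp [d6 χ (.inr h)]
    · simp [d3 χ h]
    · simp [d4 χ h]
    · simp [d5 χ h]
  · rintro (rfl | rfl | rfl | rfl | rfl | rfl)
    · exact ⟨_, d1⟩
    · exact ⟨_, d2⟩
    · obtain ⟨χ, h⟩ := Finset.card_pos.1 (show 0 < t.X.card by have := t.cX; omega)
      exact ⟨χ, d3 χ h⟩
    · obtain ⟨χ, h⟩ := Finset.card_pos.1 (show 0 < t.Y.card by have := t.cY; omega)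
      exact ⟨χ, d4 χ h⟩
    · obtain ⟨χ, h⟩ := Finset.card_pos.1 (show 0 < t.Z.card by have := t.cZ; omega)
      exact ⟨χ, d5 χ h⟩
    · exact ⟨_, d6 _ (.inl rfl)⟩

theorem degs_congr {G H : Type*} [Group G] [Group H] (e : G ≃* H) : charDegrees H ⊆ charDegrees G := by
  rintro _ ⟨χ, rfl⟩
  exact ⟨⟨fun x => χ.1 (e x), CChar.CharFun.irr_comp_mulEquiv χ.2 e⟩, CChar.CharInt.charDegree_eq (by
    simpa using CChar.CharInt.irr_apply_one_eq χ.2)⟩

/-- Let F be a finite field with q = 2^(2m+1) ≥ 8 elements and let S be isomorphic to the Suzuki group over F. Then the vertices of the character degree graph of S are 2 and the primes dividing (q − 1)(q² + 1); the primes dividing (q − 1)(q² + 1) are pairwise adjacent, and 2 is adjacent exactly to the primes dividing q − 1. -/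
theorem result (F : Type*) [Field F] [Fintype F] (m : ℕ) (hm : 1 ≤ m) (q : ℕ) (hq : Fintype.card F = q) (hqm : q = 2 ^ (2 * m + 1)) {S : Type*} [Group S] [Finite S] (hS : Nonempty (S ≃* ↥(Cfsg.Lie.Sz F (2 ^ (m + 1))))) : Cfsg.degreePrimes S = {r : ℕ | r.Prime ∧ (r = 2 ∨ r ∣ (q - 1) * (q ^ 2 + 1))} ∧ ∀ r s : ℕ, (Cfsg.degreeGraph S).Adj r s ↔ (r ≠ s ∧ r.Prime ∧ s.Prime ∧ ((r ∣ (q - 1) * (q ^ 2 + 1) ∧ s ∣ (q - 1) * (q ^ 2 + 1)) ∨ (r = 2 ∧ s ∣ q - 1) ∨ (s = 2 ∧ r ∣ q - 1))) := by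
  have : CA.SzBasic.Hyp F m := ⟨hm, hq.trans hqm⟩
  have := Fintype.ofFinite (CA.SzBasic.G F)
  obtain ⟨D, -⟩ := CA.H19SzDat.exists_data (F := F)
  obtain ⟨t⟩ := D.exists_tab
  obtain ⟨e⟩ := hS
  have e' := e.trans (CA.SzModel.szEquiv F).symm
  have hr := D.hr
  have hr2 : 2 * 2 ^ m ≤ (2 ^ m) ^ 2 := by nlinarith
  rw [CA.SzTori.q_eq] at hqm
  obtain ⟨n, hn⟩ : ∃ n, n + 1 = 2 * (2 ^ m) ^ 2 := ⟨2 * (2 ^ m) ^ 2 - 1, by omega⟩
  obtain ⟨A, hA⟩ : ∃ A, A + 2 * 2 ^ m = 2 * (2 ^ m) ^ 2 + 1 := ⟨2 * (2 ^ m) ^ 2 + 1 - 2 * 2 ^ m, by omega⟩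
  have hd := degs t hn hA
  rw [← (degs_congr e'.symm).antisymm (degs_congr e'), ← hqm] at hd
  obtain ⟨B, hB⟩ : ∃ B, B = q + 2 * 2 ^ m + 1 := ⟨_, rfl⟩
  have hAB : q ^ 2 + 1 = A * B := by
    rw [← hqm] at hA
    zify at hA hB hqm ⊢
    rw [hB, eq_sub_of_add_eq hA]
    linear_combination (-2) * hqm
  rw [← hB, hAB] at hd
  rw [show q - 1 = n by omega, hAB]
  have p2 : ∀ p : ℕ, p.Prime → p ∣ 2 ^ m → p = 2 := fun p hp h =>
    (Nat.prime_dvd_prime_iff_eq hp Nat.prime_two).1 (hp.dvd_of_dvd_pow h)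
  have p3 : ∀ p : ℕ, p.Prime → p ∣ q ^ 2 → p = 2 := fun p hp h => by
    have := hp.dvd_of_dvd_pow h
    rw [hqm, ← CA.SzTori.q_eq] at this
    exact (Nat.prime_dvd_prime_iff_eq hp Nat.prime_two).1 (hp.dvd_of_dvd_pow this)
  have p4 : ∀ p : ℕ, p.Prime → p ∣ 2 ^ m * n → p = 2 ∨ p ∣ n := fun p hp h =>
    (hp.dvd_mul.1 h).imp_left (p2 p hp)
  have p5 : 2 ∣ 2 ^ m * n := (dvd_pow_self 2 (by omega)).mul_right n
  have p6 : n * A ∣ n * (A * B) := mul_dvd_mul_left n (dvd_mul_right A B)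
  have p7 : n * B ∣ n * (A * B) := mul_dvd_mul_left n (dvd_mul_left B A)
  have m1 : A * B ∈ charDegrees S := by simp [hd]
  have m2 : n * A ∈ charDegrees S := by simp [hd]
  have m3 : n * B ∈ charDegrees S := by simp [hd]
  have m4 : 2 ^ m * n ∈ charDegrees S := by simp [hd]
  refine ⟨Set.ext fun p => and_congr_right fun hp => ⟨?_, ?_⟩,
    fun p s => and_congr_right fun hps => and_congr_right fun hp => and_congr_right fun hs => ⟨?_, ?_⟩⟩
  · rintro ⟨d, h, h'⟩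
    rcases (hd d).1 h with rfl | rfl | rfl | rfl | rfl | rfl
    · exact absurd (Nat.dvd_one.1 h') hp.ne_one
    · exact .inl (p3 p hp h')
    · exact .inr (h'.mul_left n)
    · exact .inr (h'.trans p6)
    · exact .inr (h'.trans p7)
    · exact (p4 p hp h').imp_right fun h => h.mul_right _
  · rintro (rfl | h)
    · exact ⟨_, m4, p5⟩
    · rcases hp.dvd_mul.1 h with h | h
      · exact ⟨_, m2, h.mul_right _⟩
      · exact ⟨_, m1, h⟩
  · rintro ⟨d, h, h'⟩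
    have h1 := (dvd_mul_right p s).trans h'
    have h2 := (dvd_mul_left s p).trans h'
    rcases (hd d).1 h with rfl | rfl | rfl | rfl | rfl | rfl
    · exact absurd (Nat.dvd_one.1 h1) hp.ne_one
    · exact absurd ((p3 p hp h1).trans (p3 s hs h2).symm) hps
    · exact .inl ⟨h1.mul_left n, h2.mul_left n⟩
    · exact .inl ⟨h1.trans p6, h2.trans p6⟩
    · exact .inl ⟨h1.trans p7, h2.trans p7⟩
    · rcases p4 p hp h1 with a | a <;> rcases p4 s hs h2 with b | b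
      · exact absurd (a.trans b.symm) hps
      · exact .inr (.inl ⟨a, b⟩)
      · exact .inr (.inr ⟨b, a⟩)
      · exact .inl ⟨a.mul_right _, b.mul_right _⟩
  · have k : ∀ d ∈ charDegrees S, p ∣ d → s ∣ d → ∃ d ∈ charDegrees S, p * s ∣ d := fun d h a b =>
      ⟨d, h, ((Nat.coprime_primes hp hs).2 hps).mul_dvd_of_dvd_of_dvd a b⟩
    rintro (⟨a, b⟩ | ⟨rfl, b⟩ | ⟨rfl, b⟩)
    · simp only [hp.dvd_mul, hs.dvd_mul] at a b
      rcases a with a | a | a <;> rcases b with b | b | b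
      · exact k _ m2 (a.mul_right _) (b.mul_right _)
      · exact k _ m2 (a.mul_right _) (b.mul_left _)
      · exact k _ m3 (a.mul_right _) (b.mul_left _)
      · exact k _ m2 (a.mul_left _) (b.mul_right _)
      · exact k _ m2 (a.mul_left _) (b.mul_left _)
      · exact k _ m1 (a.mul_right _) (b.mul_left _)
      · exact k _ m3 (a.mul_left _) (b.mul_right _)
      · exact k _ m1 (a.mul_left _) (b.mul_right _)
      · exact k _ m3 (a.mul_left _) (b.mul_left _)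
    · exact k _ m4 p5 (b.mul_left _)
    · exact k _ m4 (b.mul_left _) p5

end Cfsg.Agent.S4775
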