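import Cfsg.Statements.S4776
import Cfsg.Agent.Lib.Char.H4Rel

set_option autoImplicit false
open Cfsg

namespace Cfsg.Agent.S4776

open CA.H4Rel

/-- Let N be a normal subgroup of the finite group G that is not perfect and is contained in the derived subgroup of G. Consider the common-divisor graph on the relative degree set cd(G|N) (the degrees of the irreducible complex characters of G whose kernel does not contain N; two distinct degrees adjacent when they have a common divisor greater than one). Then this graph has at most two connected components; and if a, b ∈ cd(G|N) lie in different components, then one of a, b is coprime to the index m of the derived subgroup of N in N while the other is divisible by every prime divisor of m. -/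
theorem result {G : Type*} [Group G] [Finite G] (N : Subgroup G) [N.Normal] (hN : ⁅N, N⁆ < N) (hNG : N ≤ commutator G) : Nat.card (Cfsg.commonDivisorGraph.induce (Cfsg.relCharDegrees N)).ConnectedComponent ≤ 2 ∧ ∀ (a b : ℕ) (ha : a ∈ Cfsg.relCharDegrees N) (hb : b ∈ Cfsg.relCharDegrees N), ¬ (Cfsg.commonDivisorGraph.induce (Cfsg.relCharDegrees N)).Reachable ⟨a, ha⟩ ⟨b, hb⟩ → (Nat.Coprime a (⁅N, N⁆.relIndex N) ∧ ∀ r : ℕ, r.Prime → r ∣ ⁅N, N⁆.relIndex N → r ∣ b) ∨ (Nat.Coprime b (⁅N, N⁆.relIndex N) ∧ ∀ r : ℕ, r.Prime → r ∣ ⁅N, N⁆.relIndex N → r ∣ a) := by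
  classical
  haveI := Fintype.ofFinite G
  haveI := Fintype.ofFinite N
  rw [← card_W]
  have hm : Nat.card (Lin N) ≠ 1 := by
    rw [card_W]
    exact fun h => hN.not_ge (Subgroup.relIndex_eq_one.1 h)
  obtain ⟨p, hp, hpm⟩ := Nat.exists_prime_and_dvd hm
  refine ⟨?_, fun a b ha hb h => ?_⟩
  · obtain ⟨l, d, hd, -, -, h1⟩ := hub hNG hp hpm
    obtain ⟨x, hx⟩ : ∃ x : relCharDegrees N, ∀ a (ha : a ∈ relCharDegrees N), p ∣ a →
        (commonDivisorGraph.induce (relCharDegrees N)).Reachable ⟨a, ha⟩ x := by
      by_cases h : ∃ x ∈ relCharDegrees N, p ∣ x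
      · obtain ⟨x, hx, hpx⟩ := h
        exact ⟨⟨x, hx⟩, fun a ha hpa => reach hNG ha hx (ncop hp.ne_one hpa hpx)⟩
      · exact ⟨⟨d, hd⟩, fun a ha hpa => absurd ⟨a, ha, hpa⟩ h⟩
    let f : Bool → (commonDivisorGraph.induce (relCharDegrees N)).ConnectedComponent := fun b =>
      if b then SimpleGraph.connectedComponentMk _ x else SimpleGraph.connectedComponentMk _ ⟨d, hd⟩
    have hf : Function.Surjective f := by
      intro C
      induction C using SimpleGraph.ConnectedComponent.ind with
      | _ v =>
        obtain ⟨a, ha⟩ := v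
        by_cases hpa : p ∣ a
        · exact ⟨true, (SimpleGraph.ConnectedComponent.sound (hx a ha hpa)).symm⟩
        · exact ⟨false, (SimpleGraph.ConnectedComponent.sound (h1 a ha hpa)).symm⟩
    simpa using Nat.card_le_card_of_surjective f hf
  · rcases sep hNG ha hb h hp hpm with h1 | h1
    · exact Or.inr (sep2 hNG hb ha (fun e => h e.symm) hp hpm h1)
    · exact Or.inl (sep2 hNG ha hb h hp hpm h1)

end Cfsg.Agent.S4776
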