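import Cfsg.Statements.S4779
import Cfsg.Agent.Lib.Char.H4Rel
import Mathlib.GroupTheory.Solvable

set_option autoImplicit false
open Cfsg

namespace Cfsg.Agent.S4779

open CA.H4Rel

theorem card_ne {G : Type*} [Group G] [Fintype G] {N : Subgroup G} [Fintype N] [Group.IsSolvable N]
    {a : ℕ} (ha : a ∈ relCharDegrees N) : ⁅N, N⁆ < N := by
  have hN : N ≠ ⊥ := by
    rintro rfl
    obtain ⟨χ, ⟨x, hx, h⟩, -⟩ := ha
    rw [Subgroup.mem_bot.1 hx] at h
    exact h rfl
  haveI : Nontrivial N := (Subgroup.nontrivial_iff_ne_bot N).2 hN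
  have h1 := (Subgroup.map_lt_map_iff_of_injective N.subtype_injective).2
    (Group.IsSolvable.commutator_lt_top_of_nontrivial N)
  rwa [comm_map, ← MonoidHom.range_eq_map, Subgroup.range_subtype] at h1

theorem adj {G : Type*} [Group G] [Fintype G] {N : Subgroup G} (hNG : N ≤ commutator G)
    {a b : relCharDegrees N} (hab : a ≠ b) (h : ¬ a.1.Coprime b.1) :
    (commonDivisorGraph.induce (relCharDegrees N)).Adj a b := by
  change a.1 ≠ b.1 ∧ 1 < Nat.gcd a.1 b.1
  have h1 : 0 < Nat.gcd a.1 b.1 := Nat.gcd_pos_of_pos_left _ (by have := one_lt_of_mem hNG a.2; omega)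
  exact ⟨fun e => hab (Subtype.ext e), lt_of_le_of_ne h1 (Ne.symm h)⟩

theorem common {G : Type*} [Group G] [Fintype G] (k : ℕ) : ∀ (N : Subgroup G) [N.Normal]
    [Group.IsSolvable N], Nat.card N = k → N ≤ commutator G → ∀ {a b x : ℕ} (ha : a ∈ relCharDegrees N)
    (hb : b ∈ relCharDegrees N) (hx : x ∈ relCharDegrees N), a.Coprime b →
    ¬ (commonDivisorGraph.induce (relCharDegrees N)).Reachable ⟨x, hx⟩ ⟨a, ha⟩ →
    ¬ (commonDivisorGraph.induce (relCharDegrees N)).Reachable ⟨x, hx⟩ ⟨b, hb⟩ →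
    ∃ c ∈ relCharDegrees N, ¬ a.Coprime c ∧ ¬ c.Coprime b := by
  induction k using Nat.strong_induction_on with
  | _ k ih =>
  intro N _ _ hk hNG a b x ha hb hx hab hxa hxb
  haveI := Fintype.ofFinite N
  have hN := card_ne ha
  have hm : Nat.card (Lin N) ≠ 1 := by
    rw [card_W]
    exact fun h => hN.not_ge (Subgroup.relIndex_eq_one.1 h)
  obtain ⟨p, hp, hpm⟩ := Nat.exists_prime_and_dvd hm
  have hpx : p ∣ x := by
    by_contra h
    exact ncop hp.ne_one ((sep hNG hx ha hxa hp hpm).resolve_left h)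
      ((sep hNG hx hb hxb hp hpm).resolve_left h) hab
  have ham := (sep2 hNG ha hx (fun e => hxa e.symm) hp hpm hpx).1
  have hbm := (sep2 hNG hb hx (fun e => hxb e.symm) hp hpm hpx).1
  by_cases ha' : a ∈ relCharDegrees ⁅N, N⁆
  swap
  · obtain ⟨μ, hμ, hu⟩ := lin_of_not_mem ha ha'
    obtain ⟨θ, hθ, hθ1, hv⟩ := ov_of_mem hb
    obtain ⟨f, -, hf⟩ := CChar.CharFun.irr_apply_one hθ
    exact gkl hNG hμ hu hθ hθ1 hf hv hab hbm (Or.inr ham)
  by_cases hb' : b ∈ relCharDegrees ⁅N, N⁆
  swap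
  · obtain ⟨μ, hμ, hu⟩ := lin_of_not_mem hb hb'
    obtain ⟨θ, hθ, hθ1, hv⟩ := ov_of_mem ha
    obtain ⟨f, -, hf⟩ := CChar.CharFun.irr_apply_one hθ
    obtain ⟨c, h1, h2, h3⟩ := gkl hNG hμ hu hθ hθ1 hf hv hab.symm ham (Or.inr hbm)
    exact ⟨c, h1, fun e => h3 e.symm, fun e => h2 e.symm⟩
  by_cases hx' : x ∈ relCharDegrees ⁅N, N⁆
  swap
  · exfalso
    obtain ⟨μ, hμ, hu⟩ := lin_of_not_mem hx hx'
    obtain ⟨θ, f, hθ, hf, hf1, hv⟩ := nonlin_of_mem ha'
    have hxa' : x.Coprime a := by
      by_contra h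
      exact hxa (reach hNG hx ha h)
    obtain ⟨c, h1, h2, h3⟩ := gkl hNG hμ hu hθ (ne_one_of_deg hf hf1) hf hv hxa' ham (Or.inl hf1)
    exact hxa ((reach hNG hx h1 h2).trans (reach hNG h1 ha h3))
  have hsub : relCharDegrees ⁅N, N⁆ ≤ relCharDegrees N := by
    rintro _ ⟨χ, ⟨y, hy, h⟩, rfl⟩
    exact ⟨χ, ⟨y, hN.le hy, h⟩, rfl⟩
  haveI : Group.IsSolvable (⁅N, N⁆ : Subgroup G) :=
    solvable_of_solvable_injective (Subgroup.inclusion_injective hN.le)
  have hlt : Nat.card (⁅N, N⁆ : Subgroup G) < k := by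
    rw [← hk]
    exact Set.ncard_lt_ncard (SetLike.coe_ssubset_coe.2 hN) (Set.toFinite _)
  obtain ⟨c, h1, h2, h3⟩ := ih _ hlt ⁅N, N⁆ rfl (hN.le.trans hNG) ha' hb' hx' hab
    (fun e => hxa (e.map (commonDivisorGraph.induceHomOfLE hsub).toHom))
    (fun e => hxb (e.map (commonDivisorGraph.induceHomOfLE hsub).toHom))
  exact ⟨c, hsub h1, h2, h3⟩

/-- Let N be a solvable normal subgroup of the finite group G contained in the derived subgroup of G, and consider the common-divisor graph on the relative degree set cd(G|N) (degrees of irreducible complex characters of G whose kernel does not contain N, two distinct degrees adjacent when not coprime). If this graph has two vertices that are not joined by any path, then there is a vertex a₀ such that any two distinct vertices in the component of a₀ are adjacent, and any two distinct vertices outside that component are adjacent or have a common neighbour (one component is complete, the other has diameter at most 2). -/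
theorem result {G : Type*} [Group G] [Finite G] (N : Subgroup G) [N.Normal] [Group.IsSolvable N] (hNG : N ≤ commutator G) (hdisc : ¬ (Cfsg.commonDivisorGraph.induce (Cfsg.relCharDegrees N)).Preconnected) : ∃ a₀ : ↥(Cfsg.relCharDegrees N), (∀ b c : ↥(Cfsg.relCharDegrees N), (Cfsg.commonDivisorGraph.induce (Cfsg.relCharDegrees N)).Reachable a₀ b → (Cfsg.commonDivisorGraph.induce (Cfsg.relCharDegrees N)).Reachable a₀ c → b ≠ c → (Cfsg.commonDivisorGraph.induce (Cfsg.relCharDegrees N)).Adj b c) ∧ (∀ b c : ↥(Cfsg.relCharDegrees N), ¬ (Cfsg.commonDivisorGraph.induce (Cfsg.relCharDegrees N)).Reachable a₀ b → ¬ (Cfsg.commonDivisorGraph.induce (Cfsg.relCharDegrees N)).Reachable a₀ c → b ≠ c → (Cfsg.commonDivisorGraph.induce (Cfsg.relCharDegrees N)).Adj b c ∨ ∃ d : ↥(Cfsg.relCharDegrees N), (Cfsg.commonDivisorGraph.induce (Cfsg.relCharDegrees N)).Adj b d ∧ (Cfsg.commonDivisorGraph.induce (Cfsg.relCharDegrees N)).Adj d c) := by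
  classical
  haveI := Fintype.ofFinite G
  haveI := Fintype.ofFinite N
  have key : ∀ u v : relCharDegrees N,
      ¬ (commonDivisorGraph.induce (relCharDegrees N)).Reachable u v → ∀ p : ℕ, p.Prime →
      p ∣ Nat.card (Lin N) → p ∣ v.1 → ∀ b c : relCharDegrees N,
      (commonDivisorGraph.induce (relCharDegrees N)).Reachable v b →
      (commonDivisorGraph.induce (relCharDegrees N)).Reachable v c → b ≠ c →
      (commonDivisorGraph.induce (relCharDegrees N)).Adj b c := by
    intro u v huv p hp hpm hpv b c hb hc hbc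
    have hu := (sep2 hNG u.2 v.2 huv hp hpm hpv).1
    have hpu : ¬ p ∣ u.1 := fun e => ncop hp.ne_one e hpm hu
    exact adj hNG hbc (ncop hp.ne_one
      ((sep hNG u.2 b.2 (fun e => huv (e.trans hb.symm)) hp hpm).resolve_left hpu)
      ((sep hNG u.2 c.2 (fun e => huv (e.trans hc.symm)) hp hpm).resolve_left hpu))
  have key2 : ∀ v b c : relCharDegrees N,
      ¬ (commonDivisorGraph.induce (relCharDegrees N)).Reachable v b →
      ¬ (commonDivisorGraph.induce (relCharDegrees N)).Reachable v c → b ≠ c →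
      (commonDivisorGraph.induce (relCharDegrees N)).Adj b c ∨ ∃ d : relCharDegrees N,
        (commonDivisorGraph.induce (relCharDegrees N)).Adj b d ∧
        (commonDivisorGraph.induce (relCharDegrees N)).Adj d c := by
    intro v b c hb hc hbc
    by_cases h : b.1.Coprime c.1
    · right
      obtain ⟨d, hd, h1, h2⟩ := common _ N rfl hNG b.2 c.2 v.2 h hb hc
      refine ⟨⟨d, hd⟩, adj hNG ?_ h1, adj hNG ?_ h2⟩
      · rintro rfl
        exact h2 h
      · rintro rfl
        exact h1 h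
    · exact Or.inl (adj hNG hbc h)
  obtain ⟨u, v, huv⟩ : ∃ u v : relCharDegrees N,
      ¬ (commonDivisorGraph.induce (relCharDegrees N)).Reachable u v := by
    by_contra! h
    exact hdisc h
  have hN := card_ne u.2
  have hm : Nat.card (Lin N) ≠ 1 := by
    rw [card_W]
    exact fun h => hN.not_ge (Subgroup.relIndex_eq_one.1 h)
  obtain ⟨p, hp, hpm⟩ := Nat.exists_prime_and_dvd hm
  rcases sep hNG u.2 v.2 huv hp hpm with h | h
  · exact ⟨u, key v u (fun e => huv e.symm) p hp hpm h, key2 u⟩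
  · exact ⟨v, key u v huv p hp hpm h, key2 v⟩

end Cfsg.Agent.S4779
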