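import Cfsg.Statements.S4811
import Cfsg.Agent.Lib.Char.H10Cd2
import Mathlib.Combinatorics.SimpleGraph.Connectivity.Connected

set_option autoImplicit false
open Cfsg

namespace Cfsg.Agent.S4811
open CA.PF CA.OQuo CA.H12Deg CA.H12Cd CA.H10Cd Subgroup CA.H10Cd2

/-- For every finite solvable group G the character degree graph of G (vertices: the primes dividing some irreducible complex character degree; edges: distinct primes whose product divides some degree) has at most two connected components. -/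
theorem result {G : Type*} [Group G] [Finite G] [Group.IsSolvable G] : Nat.card ((Cfsg.degreeGraph G).induce (Cfsg.degreePrimes G)).ConnectedComponent ≤ 2 := by
  classical
  have := Fintype.ofFinite G
  let R (a v : ℕ) : Prop := ∃ d ∈ cd G, v ∣ d ∧ a ∣ d
  have h1 : ∀ (a) (ha : a ∈ degreePrimes G) (v : degreePrimes G), R a v →
      ((degreeGraph G).induce (degreePrimes G)).Reachable v ⟨a, ha⟩ := fun a ha v ⟨d, h1, h2, h3⟩ => by
    by_cases e : v.1 = a
    · subst e; rfl
    · exact SimpleGraph.Adj.reachable ⟨e, v.2.1, ha.1, d, mem_cd'.1 h1,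
        ((Nat.coprime_primes v.2.1 ha.1).2 e).mul_dvd_of_dvd_of_dvd h2 h3⟩
  have h2 : ∀ a, a.Prime → ∀ v w : degreePrimes G, R a v → R a w →
      ((degreeGraph G).induce (degreePrimes G)).Reachable v w := fun a ha v w hv hw =>
    have : a ∈ degreePrimes G := ⟨ha, hv.imp fun d h => ⟨mem_cd'.1 h.1, h.2.2⟩⟩
    (h1 a this v hv).trans (h1 a this w hw).symm
  suffices ∃ a b : ℕ, a.Prime ∧ b.Prime ∧ ∀ v ∈ degreePrimes G, R a v ∨ R b v by
    obtain ⟨a, b, ha, hb, h⟩ := this
    refine (Nat.card_le_card_of_injective (fun c => decide (R a c.out)) fun c c' e => ?_).trans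
      (by simp)
    rw [← c.out_eq, ← c'.out_eq]
    refine SimpleGraph.ConnectedComponent.sound ?_
    rw [decide_eq_decide] at e
    by_cases i : R a c.out
    · exact h2 a ha _ _ i (e.1 i)
    · exact h2 b hb _ _ ((h _ c.out.2).resolve_left i) ((h _ c'.out.2).resolve_left (mt e.2 i))
  by_cases h0 : commutator G ≤ ⊥
  · refine ⟨2, 2, Nat.prime_two, Nat.prime_two, fun v ⟨hv, d, h3, h4⟩ => (hv.not_dvd_one ?_).elim⟩
    exact cd_of_comm (fun a b => commutatorElement_eq_one_iff_mul_comm.1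
      (mem_bot.1 (h0 (commutator_mem_commutator trivial trivial)))) (mem_cd'.2 h3) ▸ h4
  rcases dich2 ‹_› h0 with ⟨p, a, hp, ha, h1⟩ | ⟨p, K, N, F⟩
  · refine ⟨p, p, hp, hp, fun v ⟨hv, d, h3, h4⟩ => ?_⟩
    by_cases e : p ∣ d
    · exact Or.inl ⟨d, mem_cd'.2 h3, h4, e⟩
    · exact Or.inl ⟨_, h1 d (mem_cd'.2 h3) e, h4.mul_left _, (dvd_pow_self p ha).mul_right _⟩
  · obtain ⟨q, hq, h3⟩ := Nat.exists_prime_and_dvd F.one_lt.ne'
    refine ⟨q, p, hq, F.prime, fun v ⟨hv, d, h4, h5⟩ => ?_⟩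
    obtain ⟨a, b, h6, rfl, h7⟩ := fs_split F (mem_cd'.2 h4)
    rcases hv.dvd_mul.1 h5 with e | e
    · exact Or.inl ⟨_, F.index_mem.1, e.trans h6, h3⟩
    · exact h7.imp (fun i => ⟨_, i, e.mul_left _, h3.mul_right _⟩)
        fun i => ⟨_, mem_cd'.2 h4, h5, i.mul_left _⟩

end Cfsg.Agent.S4811
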