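import Cfsg.Statements.S4997
import Cfsg.Agent.Lib.Loc.H29Van2

set_option autoImplicit false
open Cfsg

namespace Cfsg.Agent.S4997

open Subgroup CA.H29Van

/-- Let p be an odd prime and G a finite solvable group with exactly one conjugacy class consisting of vanishing elements (elements at which some irreducible complex character is zero) of order divisible by p. Let P be a Sylow p-subgroup of G. Then the order of P is at most p times the order of the largest normal p-subgroup of G. -/
theorem result {G : Type*} [Group G] [Finite G] (hsolv : Group.IsSolvable G) (p : ℕ) [Fact p.Prime] (hp : p ≠ 2) (h1 : Set.ncard {C : ConjClasses G | (∀ g ∈ C.carrier, ∃ χ : Cfsg.IrrCharacter G, (χ : G → ℂ) g = 0) ∧ ∃ g ∈ C.carrier, p ∣ orderOf g} = 1) (P : Sylow p G) : Nat.card ↥(P : Subgroup G) ≤ p * Nat.card ↥(Cfsg.pCore p G) := by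
  obtain ⟨C, hC⟩ := Set.ncard_eq_one.1 h1
  have hcl : ∀ x : G, Van x → p ∣ orderOf x → ConjClasses.mk x = C := fun x hx hp => by
    have : ConjClasses.mk x ∈ ({C} : Set (ConjClasses G)) := by
      rw [← hC]
      exact ⟨fun g hg => hx.conj (ConjClasses.mk_eq_mk_iff_isConj.1
        (ConjClasses.mem_carrier_iff_mk_eq.1 hg)).symm, x, ConjClasses.mem_carrier_mk, hp⟩
    exact this
  have h := all_case (G := G) (p := p) (fun x x' hx hx' h h' => by
    obtain ⟨c, hc⟩ := isConj_iff.1
      (ConjClasses.mk_eq_mk_iff_isConj.1 ((hcl x hx h).trans (hcl x' hx' h').symm))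
    rw [← hc]
    exact (MulEquiv.orderOf_eq (MulAut.conj c) x).symm)
    (P.isPGroup'.map (QuotientGroup.mk' (pCore p G)))
  have h2 := CA.PGBasic.card_mul_relIndex (CA.Fitting.pCore_le_sylow P)
  have h3 : (pCore p G).relIndex P =
      Nat.card ((P : Subgroup G).map (QuotientGroup.mk' (pCore p G))) := by
    rw [← relIndex_ker, QuotientGroup.ker_mk']
  rw [← h2, h3, mul_comm]
  exact Nat.mul_le_mul_right _ h

end Cfsg.Agent.S4997
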