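import Cfsg.Statements.S5005
import Cfsg.Agent.Lib.Spor.M24Blk
import Cfsg.Agent.Lib.Spor.CGNorm
import Cfsg.Agent.S2062

set_option autoImplicit false
open Cfsg

namespace Cfsg.Agent.S5005

open Cfsg CA.NatBits CA.OrbBfs CA.CGroup CA.CGConstr CA.CGParts CA.CGCert CA.CGRank CA.CGDec CA.Perm24 CA.Golay
open CA.M24Core CA.M24Sub CA.M24Tools MulAction
open scoped Pointwise
open CA.M24St2 CA.M24Syl CA.M24Cls CA.CGIso CA.CGLin CA.CGLin2 CA.M24Iso CA.CGNorm CA.M24Blk CA.BlkOne CA.BlkZero CChar.CharFun CChar.CharInt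
set_option maxRecDepth 100000

abbrev K : Subgroup M24 := stabilizer M24 (none : GolayPt) ⊓ stabilizer M24 (some 0 : GolayPt)
def cz : ℕ := 565685063416258347921839429499791981906978691378344952576
def cx : ℕ := 564343746898861939012280521025164273976657754275945185536
def cy : ℕ := 566070785777078688505466124146512642491067702430057431296

theorem stCz : St [565401064309330953278547132190897375133156037203891717376, 564247590304041737608398239207537191309085393694336619776] (K ⊓ stabilizer M24 (toCj (elt cz))) 384 :=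
  stabM mCj st22 (sCj cz (by decide +kernel)) 1155 [[1, 2, 1, 3, 3, 1, 3, 0, 3, 3, 0, 3, 3, 0, 0], [0, 0, 2, 0, 2, 2, 2]]
    [(1, [[1, 1, 2, 0, 2], [0, 3, 0, 2]]), (7, [[1, 3, 0, 2]]), (2, [])] (by decide +kernel)

theorem stCx : St [566066686264986242792670246036793808295365721798241422336, 566070785777078688505466124146512642491067702430057431296, 564346732643946302938378146526595749277679414980197026816] (K ⊓ stabilizer M24 (toCj (elt cx))) 36 :=
  stabM mCj st22 (sCj cx (by decide +kernel)) 12320 [[0, 0, 2, 2, 1, 1, 3, 0, 2, 0, 2, 0], [0, 3, 0, 3, 1, 2, 0, 3, 1, 2, 1, 3], [0, 0, 3, 1, 2, 0, 3, 0, 3, 1, 2, 0, 2, 1, 2, 0]]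
    [(2, [[1, 4, 4, 0, 2, 0]]), (1, [])] (by decide +kernel)

theorem loc : Loc 2 K (elt cz) :=
  locM (lQ := [565496475572169168460533884463561603327246745911561355776, 565685063416258347921839429499791981906978691378344952576, 565977993564960846414454056222586968243655044689256777216, 564917308814444542701939396700318662053796805714463229696])
    stCz (by rw [stabilizer_toCj]) [[2, 0, 0, 3], [2, 2, 2, 2], [0, 0], [2, 0, 2, 0, 2, 0]] 4 24
    [(565496475572169168460533884463561603327246745911561355776, [[1, 3, 3, 0], [1, 2, 0, 2, 2], [3, 1, 2], [1, 1, 3, 0, 2]]), (565685063416258347921839429499791981906978691378344952576, [[7, 2, 2, 0, 2], [2], [2, 1, 6, 6], [4]]), (565977993564960846414454056222586968243655044689256777216, [[3, 3, 0, 3, 0, 7, 3, 6], [1, 2, 5, 5, 6, 1], [3, 5, 0], [7, 3]]), (564917308814444542701939396700318662053796805714463229696, [])]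
    (by decide +kernel)

theorem inxy : mG.In [cx, cy] K :=
  inS mPt (inS0 mPt (ok_of (by decide +kernel)) (sPt none) (by decide +kernel)) (sPt (some 0)) (by decide +kernel)

theorem cls3 : Cls K 3 [cx] :=
  cls_of st22.card (l := g22) st22.inn inxy inxy (p := 3) (by norm_num) 2 1 49280
    [([], cx), ([1, 2, 1, 3, 3, 3], cx), ([2, 2, 2, 0, 3, 0], cx), ([3, 3, 3, 0, 2, 0, 0, 2, 2], cx), ([1, 3, 3, 0, 3, 3, 0, 2], cx), ([1, 1, 2, 1, 2, 1, 2, 1, 3], cx), ([2, 2, 1, 1, 1, 3, 3, 0, 0, 2, 2], cx), ([3, 3, 1, 2, 1, 2, 1, 1, 3, 0, 0], cx)] (by decide +kernel)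

theorem hx : elt cx ∈ K := elt_mem fun c hc => inxy c (List.mem_cons.2 (Or.inl (List.mem_singleton.1 hc)))

theorem arith (k : ℕ) (a : ℤ) (m : ℕ) (hk : 128 * k ∣ 443520)
    (h : (128 * k : ℤ) ^ 2 + 12320 * (4 * a) ^ 2 ≤ 443520) (h1 : (128 * k : ℤ) + 32 * a = 9 * m) : False := by
  have h3 : k ≤ 5 := by nlinarith [sq_nonneg a]
  have h4 : a ≤ 1 := by nlinarith [sq_nonneg (k : ℤ)]
  have h5 : -1 ≤ a := by nlinarith [sq_nonneg (k : ℤ)]
  interval_cases k <;> interval_cases a <;> omega

theorem no_dz {M : Ideal AlgInt} (hM : IsPModular 2 M) (χ : IrrCharacter K) : ¬ DZ 2 χ := by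
  intro h
  have hd := irr_apply_one_eq χ.2
  have h1 := (dz_iff_pow_dvd Nat.prime_two).1 h
  have h2 := charDegree_dvd_card χ.2
  rw [st22.card, show Nat.factorization 443520 2 = 7 by
    rw [Nat.factorization_def _ Nat.prime_two]; decide +kernel] at h1
  rw [st22.card] at h2
  obtain ⟨k, hk⟩ := h1
  rw [hk] at hd h2
  have h9 := (ncard_elts inxy.ok (P := fun _ => True) (fun _ => true) (by simp) (n := 9) (N := 9) (by decide +kernel)).1
  have h3 := pow_elts inxy.ok 3 (by decide +kernel)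
  obtain ⟨m, e1⟩ := sum_two (char_comp (char_of_irr χ.2) (Subgroup.inclusion inxy.gen_le)) (a := χ.1 ⟨_, hx⟩)
    (n := 8) (fun g hg => by
      obtain ⟨r, hr, k, hk, e⟩ := cls3.2 g (inxy.gen_le g.2) (fun e => hg (Subtype.ext e)) (h3 g g.2)
      rw [List.mem_singleton.1 hr] at e
      rw [← irr_classFun χ.2 ⟨_, hx⟩ ⟨k, hk⟩]
      exact congrArg χ.1 (Subtype.ext e.symm)) h9
  rw [map_one, hd] at e1
  obtain ⟨ec⟩ := cent_sub (K := K) ⟨_, hx⟩
  have hc := (Nat.card_congr ec.toEquiv).trans stCx.card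
  obtain ⟨a, ha⟩ := dvd_of_dz hM h (y := ⟨_, hx⟩) (c := 8) (n := 9 * m - 128 * k) (i := 3) (j := 2)
    (by push_cast at e1 ⊢; linear_combination e1) (by norm_num) (by rw [hc]; norm_num)
  have ha' : χ.1 ⟨_, hx⟩ = (4 * a : ℤ) := by
    have := congrArg (Int.cast : ℤ → ℂ) ha
    push_cast at e1 this ⊢; linear_combination (e1 + this) / 8
  have n1 : (⟨_, hx⟩ : K) ≠ 1 := fun e => elt_ne_one (c := cx) (by decide +kernel) (congrArg Subtype.val e)
  classical
  have h3 := norm_le χ {1, ⟨_, hx⟩} (by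
    simp only [Finset.mem_insert, Finset.mem_singleton]
    rintro x (rfl | rfl) y (rfl | rfl) hc <;>
      first | rfl | exact (isConj_one_right.1 hc).symm | exact isConj_one_left.1 hc)
  have i1 := (Subgroup.centralizer ({⟨_, hx⟩} : Set K)).index_mul_card
  rw [hc, st22.card] at i1
  rw [Finset.sum_insert (by simpa using n1.symm), Finset.sum_singleton,
    show (Subgroup.centralizer ({⟨_, hx⟩} : Set K)).index = 12320 by omega,
    show (Subgroup.centralizer ({1} : Set K)).index = 1 by simp [Subgroup.centralizer_eq_top_iff_subset.2],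
    hd, ha', st22.card, Complex.norm_natCast, Complex.norm_intCast, sq_abs] at h3
  have h4 : ((128 : ℝ) * k) ^ 2 + 12320 * (4 * a) ^ 2 ≤ 443520 := by simpa using h3
  exact arith k a m (by simpa using h2) (by exact_mod_cast h4) (by omega)

/-- All irreducible complex characters of the Mathieu group `M₂₂` lie in a single 2-block: any two of them lie in the same block relative to every maximal ideal of the algebraic integers containing 2. -/
theorem result (M : Ideal Cfsg.AlgInt) (hM : Cfsg.IsPModular 2 M)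
    (χ ψ : Cfsg.IrrCharacter ↥Cfsg.Spor.M22) : Cfsg.SameBlock M (χ : ↥Cfsg.Spor.M22 → ℂ) (ψ : ↥Cfsg.Spor.M22 → ℂ) := by
  refine same_equiv (eqv map22) (one_block hM (fun z hz => ?_) (no_dz hM)) χ ψ
  obtain ⟨r, hr, k, hk, e⟩ := S2062.clsB.of_order (by norm_num) z.2 (by rwa [Subgroup.orderOf_coe])
  rw [List.mem_singleton.1 hr] at e
  have hz' : elt cz ∈ K := elt_mem (inS mPt (inS0 mPt (ok_of (by decide +kernel)) (sPt none) (by decide +kernel)) (sPt (some 0)) (by decide +kernel))
  exact ⟨⟨_, hz'⟩, (isConj_iff.2 ⟨⟨k, hk⟩, Subtype.ext e⟩).symm, Loc.sub loc⟩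

end Cfsg.Agent.S5005
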