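import Cfsg.Statements.S5185
import Cfsg.Agent.Lib.Fus.FusSm
-- import your own Cfsg.Agent.* helpers here

set_option autoImplicit false
universe u
open Cfsg

namespace Cfsg.Agent.S5185

open CA.Fus CA.AmbSyl in
/-- Let F be a saturated fusion system over a finite p-group S and H an essential subgroup of order p². Then H is elementary abelian (isomorphic to C_p × C_p) and its F-automorphism group contains a subgroup isomorphic to SL(2,p). -/
theorem result {Ω : Type u} [Group Ω] {S : Subgroup Ω} [Finite S] (p : ℕ) [Fact p.Prime] (hS : IsPGroup p S)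
    (F : Cfsg.FusionSystem S) (hF : F.IsSaturated p) (H : Subgroup Ω) (hH : F.IsEssential p H) (hcard : Nat.card H = p ^ 2) :
    Cfsg.IsElementaryAbelian p H ∧
      ∃ K : Subgroup ↥(F.autGroup H), Nonempty (↥K ≃* Matrix.SpecialLinearGroup (Fin 2) (ZMod p)) := by
  have l := lr_of_ess hS hF hH
  obtain ⟨s, hs, hn, hs', -⟩ := l.exists_norm hS
  obtain ⟨-, κ, ρ, a, c, -, -, hall⟩ := l.sl2 hS hs hn (le_stab_of_top (stabA_bot H)) (le_stab_of_top (stabA_self H)) bot_le
    le_rfl (by rw [Subgroup.relIndex_bot_left, hcard]) fun hc => hs' (l.mem_of_chain hS hs hn bot_le hc)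
  refine ⟨⟨CA.PGBasic.isMulCommutative_iff.2 fun x hx y hy => commutatorElement_eq_one_iff_mul_comm.1
    (c.der (Subgroup.commutator_mem_commutator hx hy)), fun x hx => c.pow_mem hx⟩, c.exists_sl hall fun β hβ e =>
      aut_eq_one_iff.2 fun x hx => (inv_mul_eq_one.1 ((c.eq_one_iff hβ).1 e x hx)).symm⟩

end Cfsg.Agent.S5185
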