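import Cfsg.Statements.S5186
import Cfsg.Agent.Lib.Fus.FusSm
-- import your own Cfsg.Agent.* helpers here

set_option autoImplicit false
universe u
open Cfsg

namespace Cfsg.Agent.S5186

open CA.Fus CA.AmbSyl in
/-- Let F be a saturated fusion system over a finite p-group S and H an essential subgroup of order p³. Then H is elementary abelian, or p is odd and H is extraspecial of exponent p, or p = 2 and H is the quaternion group of order 8. -/
theorem result {Ω : Type u} [Group Ω] {S : Subgroup Ω} [Finite S] (p : ℕ) [Fact p.Prime] (hS : IsPGroup p S)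
    (F : Cfsg.FusionSystem S) (hF : F.IsSaturated p) (H : Subgroup Ω) (hH : F.IsEssential p H) (hcard : Nat.card H = p ^ 3) :
    Cfsg.IsElementaryAbelian p H ∨ (Odd p ∧ Cfsg.IsExtraspecial p ↥H ∧ ∀ x ∈ H, x ^ p = 1) ∨
      (p = 2 ∧ Nonempty (↥H ≃* QuaternionGroup 2)) := by
  have l := lr_of_ess hS hF hH
  have := fin_le l.le
  have := fin_le (frat_le H)
  have hP := hS.to_le l.le
  have hp : p.Prime := Fact.out
  refine or_iff_not_imp_left.2 fun h0 => ?_
  obtain ⟨s, hs, hn, hs', -⟩ := l.exists_norm hS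
  have h1 := CA.PGBasic.card_mul_relIndex (frat_le H)
  have h2 : p ≤ Nat.card (frat H) := Nat.le_of_dvd Nat.card_pos (by
    rw [← Subgroup.relIndex_bot_left]
    exact dvd_relIndex (hP.to_le (frat_le H)) fun e => h0 ((frat_eq_bot_iff hP).1 (eq_bot_iff.2 e)))
  have hr : (frat H).relIndex H ≤ p ^ 2 := Nat.le_of_mul_le_mul_left
    ((Nat.mul_le_mul_right _ h2).trans (h1.trans (hcard.trans (pow_succ' p 2))).le) hp.pos
  rw [(l.rank2' hS hs hn hs' hr).1, hcard, pow_succ' p 2, Nat.mul_left_inj (pow_pos hp.pos 2).ne'] at h1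
  have h3 : ¬ H ≤ zc H := fun e => by
    obtain ⟨k, -, h, -⟩ := l.homocyc' hS (e.trans inf_le_right) hr
    have := Nat.pow_right_injective hp.two_le (hcard.symm.trans h)
    omega
  obtain ⟨z, h4, h5, h6, h7⟩ := frat_data hP h1 h3
  have h8 := l.no_mid hS hr (le_stab_of_top (stabA_zc H)) (h7 ▸ Subgroup.zpowers_le.2 h5) (inf_le_left.lt_of_ne fun e => h3 e.ge)
  obtain ⟨u, hu, v, hv, -, -, h9, h10, h11⟩ := l.extra hS h4 h5 h7 (fun x hx => by
    obtain ⟨i, rfl⟩ := Subgroup.mem_zpowers_iff.1 ((h8.trans h7).le hx)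
    rw [← zpow_natCast, ← zpow_mul, mul_comm, zpow_mul, zpow_natCast, ← h4, pow_orderOf_eq_one, one_zpow]) (h8 ▸ hr)
    (by rw [h8, Subgroup.relIndex_self]; exact hp.one_le)
  by_cases e : p = 2
  · obtain ⟨i⟩ := (h11 e).2.nonempty_quaternion odd_one rfl
    exact .inr ⟨e, ⟨(MulEquiv.subgroupCongr (eq_of_sup_frat (sup_le (Subgroup.zpowers_le.2 hu) (Subgroup.zpowers_le.2 hv))
      (h8 ▸ h9)).symm).trans i⟩⟩
  · exact .inl ⟨hp.odd_of_ne_two e, extra_amb hP h4 (h8.trans h7) h6 fun x hx => h7 ▸ pow_mem_frat hP hx, h10 e⟩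

end Cfsg.Agent.S5186
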