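import Cfsg.Statements.S5187
import Cfsg.Agent.Lib.Fus.FusSm
-- import your own Cfsg.Agent.* helpers here

set_option autoImplicit false
universe u
open Cfsg

namespace Cfsg.Agent.S5187

open CA.Fus CA.AmbSyl in
/-- Let F be a saturated fusion system over a finite p-group S and H an abelian essential subgroup that can be generated by two elements (its Frattini quotient has order at most p²). Then H is elementary abelian of order p², or p ≤ 3 and H is homocyclic of rank two, that is isomorphic to C_{pᵏ} × C_{pᵏ} for some k. -/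
theorem result {Ω : Type u} [Group Ω] {S : Subgroup Ω} [Finite S] (p : ℕ) [Fact p.Prime] (hS : IsPGroup p S)
    (F : Cfsg.FusionSystem S) (hF : F.IsSaturated p) (H : Subgroup Ω) (hH : F.IsEssential p H) (hab : IsMulCommutative ↥H) (hrk : (frattini ↥H).index ≤ p ^ 2) :
    (Cfsg.IsElementaryAbelian p H ∧ Nat.card H = p ^ 2) ∨
      (p ≤ 3 ∧ ∃ k : ℕ, Nonempty (↥H ≃* Multiplicative (ZMod (p ^ k) × ZMod (p ^ k)))) := by
  obtain ⟨k, e, h1, h2, h3⟩ := (lr_of_ess hS hF hH).homocyc' hS (Subgroup.le_centralizer H) (relIndex_frat H ▸ hrk)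
  rcases eq_or_ne k 0 with rfl | hk
  · exact .inl ⟨⟨hab, by simpa using h2⟩, h1⟩
  · exact .inr ⟨h3 hk, _, e⟩

end Cfsg.Agent.S5187
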