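import Cfsg.Statements.S5188
import Cfsg.Agent.Lib.Fus.FusSm
import Cfsg.Agent.S0095
import Cfsg.Agent.Lib.Grp.MC3
-- import your own Cfsg.Agent.* helpers here

set_option autoImplicit false
universe u
open Cfsg

namespace Cfsg.Agent.S5188

open CA.Fus CA.AmbSyl in
/-- Let F be a saturated fusion system over a finite p-group S and H an essential subgroup of order p⁴. Then H is isomorphic to one of: C_p⁴ or C_{p²} × C_p × C_p (any p); C_{p²} × C_{p²} with p ∈ {2, 3}; p^{1+2}_+ × C_p with p odd (the direct product of an extraspecial group of order p³ and exponent p with a group of order p); Q₈ × C₂ (p = 2); or the non-abelian group of order p⁴ of exponent p² whose centre is cyclic of order p² (the central product of an extraspecial group of order p³ with a cyclic group of order p²; for p = 2 this is D₈ ∘ C₄). -/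
theorem result {Ω : Type u} [Group Ω] {S : Subgroup Ω} [Finite S] (p : ℕ) [Fact p.Prime] (hS : IsPGroup p S)
    (F : Cfsg.FusionSystem S) (hF : F.IsSaturated p) (H : Subgroup Ω) (hH : F.IsEssential p H) (hcard : Nat.card H = p ^ 4) :
    Cfsg.IsElementaryAbelian p H ∨
      Nonempty (↥H ≃* Multiplicative (ZMod (p ^ 2) × ZMod p × ZMod p)) ∨
      ((p = 2 ∨ p = 3) ∧ Nonempty (↥H ≃* Multiplicative (ZMod (p ^ 2) × ZMod (p ^ 2)))) ∨
      (Odd p ∧ ∃ (E : Type) (_ : Group E) (_ : Finite E), Cfsg.IsExtraspecial p E ∧ Nat.card E = p ^ 3 ∧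
        (∀ x : E, x ^ p = 1) ∧ Nonempty (↥H ≃* E × Multiplicative (ZMod p))) ∨
      (p = 2 ∧ Nonempty (↥H ≃* QuaternionGroup 2 × Multiplicative (ZMod 2))) ∨
      (¬ IsMulCommutative ↥H ∧ (∀ x ∈ H, x ^ (p ^ 2) = 1) ∧ IsCyclic ↥(Subgroup.center ↥H) ∧
        Nat.card (Subgroup.center ↥H) = p ^ 2) := by
  have l := lr_of_ess hS hF hH
  have := fin_le l.le
  have := fin_le (frat_le H)
  have hP := hS.to_le l.le
  have hp : p.Prime := Fact.out
  refine or_iff_not_imp_left.2 fun h0 => ?_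
  obtain ⟨s, hs, hn, hs', -⟩ := l.exists_norm hS
  have h1 := CA.PGBasic.card_mul_relIndex (frat_le H)
  obtain ⟨m, h2⟩ := (hP.to_le (frat_le H)).exists_card_eq
  obtain ⟨r, h3⟩ := relIndex_pow hP (frat H)
  have h4 : m + r = 4 := Nat.pow_right_injective hp.two_le (by simp only [pow_add, ← h2, ← h3, h1, hcard])
  have h5 : m ≠ 0 := fun e => h0 ((frat_eq_bot_iff hP).1 (Subgroup.card_eq_one.1 (by rw [h2, e, pow_zero])))
  have hlt : ∀ {i j}, i < j → ¬ p ^ j ≤ p ^ i := fun h => (Nat.pow_lt_pow_right hp.one_lt h).not_ge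
  have dj : ∀ {U : Subgroup Ω} {x}, x ∉ U → x ^ p = 1 → Disjoint U (Subgroup.zpowers x) := fun h1 h2 =>
    Subgroup.disjoint_def.2 fun h3 h4 => by
      obtain ⟨i, rfl⟩ := Subgroup.mem_zpowers_iff.1 h4
      exact eq_one_of_zpow_mem h1 h2 h3
  by_cases hr : (frat H).relIndex H ≤ p ^ 2
  · obtain rfl : r = 2 := Nat.pow_right_injective hp.two_le (h3.symm.trans (l.rank2' hS hs hn hs' hr).1)
    obtain rfl : m = 2 := by omega
    obtain ⟨k, e, h6, -, h7⟩ := l.homocyc' hS (l.comm_of_four hS h2 hr) hr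
    obtain rfl : k = 1 := by
      have := Nat.pow_right_injective hp.two_le (hcard.symm.trans h6)
      omega
    have := h7 one_ne_zero
    have := hp.two_le
    exact .inr (.inl ⟨by omega, e⟩)
  obtain rfl : m = 1 := by
    have := mt (Nat.pow_le_pow_right hp.pos) (h3 ▸ hr)
    omega
  obtain rfl : r = 3 := by omega
  rw [pow_one] at h2
  have hpw : ∀ x ∈ frat H, x ^ p = 1 := fun x hx =>
    congrArg Subtype.val (h2 ▸ pow_card_eq_one' (x := (⟨x, hx⟩ : frat H)))
  have hp2 : ∀ x ∈ H, x ^ p ^ 2 = 1 := fun x hx => by rw [sq, pow_mul, hpw _ (pow_mem_frat hP hx)]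
  by_cases hab : H ≤ zc H
  · left
    have hc : ∀ U, U ≤ H → ∀ x ∈ H, x ∈ Subgroup.centralizer (U : Set Ω) := fun U hU x hx y hy => (hab hx).2 y (hU hy)
    have hf : HomOn H fun x => x ^ p := fun x hx y hy => Commute.mul_pow (zc_comm (hab hy) hx) p
    obtain ⟨W, h6, h7, h8⟩ := hf.exists_ker fun x hx => pow_mem_frat hP hx
    have := fin_le h6
    have h9 := CA.PGBasic.card_mul_relIndex h6
    have h10 : p ^ 3 ≤ Nat.card W := Nat.le_of_mul_le_mul_right
      ((pow_succ p 3).symm.trans_le ((hcard ▸ h9).ge.trans (Nat.mul_le_mul_left _ (h8.trans_eq h2)))) hp.pos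
    obtain ⟨a, ha, ha'⟩ : ∃ a ∈ H, a ∉ W := by
      by_contra! e
      exact h0 ⟨CA.PGBasic.isMulCommutative_iff.2 fun x hx y hy => zc_comm (hab hy) hx, fun x hx => (h7 x hx).1 (e x hx)⟩
    have oa : orderOf a = p ^ 2 := orderOf_eq_prime_pow (fun e => ha' ((h7 a ha).2 (by rwa [pow_one] at e))) (hp2 a ha)
    have hA := Subgroup.zpowers_le.2 ha
    have := fin_le hA
    obtain ⟨b, hb, hb'⟩ : ∃ b ∈ W, b ∉ Subgroup.zpowers a := by
      by_contra! e
      exact hlt (by norm_num : 2 < 3) (h10.trans ((Subgroup.card_le_of_le e).trans_eq ((Nat.card_zpowers a).trans oa)))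
    have hb1 := (h7 b (h6 hb)).1 hb
    have hB := sup_le hA (Subgroup.zpowers_le.2 (h6 hb))
    have := fin_le hB
    have cB := CA.PGBasic.card_sup_zpowers hp (Subgroup.centralizer_le_normalizer _ (hc _ hA b (h6 hb))) hb' (hb1 ▸ one_mem _)
    rw [Nat.card_zpowers, oa, ← pow_succ] at cB
    obtain ⟨c, hc1, hc'⟩ : ∃ c ∈ W, c ∉ Subgroup.zpowers a ⊔ Subgroup.zpowers b := by
      by_contra! e
      exact ha' ((Subgroup.eq_of_le_of_card_ge e (cB ▸ h10)).ge (Subgroup.mem_sup_left (Subgroup.mem_zpowers a)))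
    have hc2 := (h7 c (h6 hc1)).1 hc1
    have cC := CA.PGBasic.card_sup_zpowers hp (Subgroup.centralizer_le_normalizer _ (hc _ hB c (h6 hc1))) hc' (hc2 ▸ one_mem _)
    have e := Subgroup.eq_of_le_of_card_ge (sup_le hB (Subgroup.zpowers_le.2 (h6 hc1))) (by rw [cC, cB, hcard, pow_succ p 3])
    obtain ⟨i1⟩ := nonempty_prod (Subgroup.zpowers_le.2 (hc _ hB c (h6 hc1))) (dj hc' hc2)
    obtain ⟨i2⟩ := nonempty_prod (Subgroup.zpowers_le.2 (hc _ hA b (h6 hb))) (dj hb' hb1)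
    obtain ⟨j1⟩ := nonempty_zp oa
    obtain ⟨j2⟩ := nonempty_zp (orderOf_eq_prime hb1 fun e => hb' (e ▸ one_mem _))
    obtain ⟨j3⟩ := nonempty_zp (orderOf_eq_prime hc2 fun e => hc' (e ▸ one_mem _))
    exact ⟨(MulEquiv.subgroupCongr e.symm).trans <| i1.trans <| ((i2.trans (j1.prodCongr j2)).prodCongr j3).trans <|
      MulEquiv.prodAssoc.trans <| ((MulEquiv.refl _).prodCongr (MulEquiv.prodMultiplicative _ _).symm).trans
        (MulEquiv.prodMultiplicative _ _).symm⟩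
  right; right
  obtain ⟨z, h6, h7, h8, h9⟩ := frat_data hP h2 hab
  have hz : ∀ x ∈ H, x ^ p ∈ Subgroup.zpowers z := fun x hx => h9 ▸ pow_mem_frat hP hx
  have h10 : frat H < zc H := (h9 ▸ Subgroup.zpowers_le.2 h7 : frat H ≤ zc H).lt_of_ne fun e => by
    obtain ⟨n, -, e⟩ := Cfsg.Agent.S0095.result (extra_amb hP h6 (e.symm.trans h9) h8 hz)
    have := Nat.pow_right_injective hp.two_le (hcard.symm.trans e)
    omega
  have := fin_le (inf_le_left : zc H ≤ H)
  have h11 := Subgroup.relIndex_mul_relIndex _ _ H h10.le inf_le_left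
  obtain ⟨x, hx, hx'⟩ := SetLike.not_le_iff_exists.1 hab
  have h12 := sup_ne_of_not_comm hab hx
  have := fin_le h12.le
  have h13 : p ^ 2 ∣ (zc H).relIndex H := by
    rw [← Subgroup.relIndex_mul_relIndex _ _ H le_sup_left h12.le, sq]
    exact mul_dvd_mul (dvd_relIndex (hP.to_le h12.le) fun e => hx' (e (Subgroup.mem_sup_right (Subgroup.mem_zpowers x))))
      (dvd_relIndex hP h12.not_ge)
  have h14 := dvd_relIndex (hP.to_le inf_le_left) h10.not_ge
  have p1 := Nat.pos_of_ne_zero (CA.Amb.relIndex_ne_zero (zc H) H)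
  have p2 := Nat.pos_of_ne_zero (CA.Amb.relIndex_ne_zero (frat H) (zc H))
  have h15 : (zc H).relIndex H ≤ p ^ 2 := Nat.le_of_mul_le_mul_left
    ((Nat.mul_le_mul_right _ (Nat.le_of_dvd p2 h14)).trans (h11.trans (h3.trans (pow_succ' p 2))).le) hp.pos
  have h16 : (frat H).relIndex (zc H) = p := le_antisymm (Nat.le_of_mul_le_mul_right
    ((Nat.mul_le_mul_left _ (Nat.le_of_dvd p1 h13)).trans (h11.trans (h3.trans (pow_succ' p 2))).le) (pow_pos hp.pos 2))
    (Nat.le_of_dvd p2 h14)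
  have h17 := CA.PGBasic.card_mul_relIndex h10.le
  rw [h2, h16, ← sq] at h17
  have eZ := (Subgroup.center H).equivMapOfInjective _ H.subtype_injective
  rw [CA.MC3.map_center_eq] at eZ
  by_cases hZ : ∀ x ∈ zc H, x ^ p = 1
  swap
  · push Not at hZ
    obtain ⟨w, hw, hw'⟩ := hZ
    refine .inr (.inr ⟨fun e => hab (le_inf le_rfl (Subgroup.le_centralizer H)), hp2, ?_,
      (Nat.card_congr eZ.toEquiv).trans h17.symm⟩)
    rw [eZ.isCyclic]
    exact isCyclic_of_orderOf_eq_card (⟨w, hw⟩ : zc H) (by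
      rw [Subgroup.orderOf_mk, ← h17]
      exact orderOf_eq_prime_pow (by rwa [pow_one]) (hp2 w hw.1))
  obtain ⟨u, hu, v, hv, hu', hv', h18, h19, h20⟩ := l.extra hS h6 h7 h9 hZ h15 h16.le
  obtain ⟨w, hw, hw'⟩ := SetLike.exists_of_lt h10
  have h21 := CA.PGBasic.sup_zpowers_eq_of_relIndex_prime hp h16 h10.le hw hw'
  have hU : Subgroup.zpowers z ⊔ Subgroup.zpowers u ≤ H := sup_le (Subgroup.zpowers_le.2 h7.1) (Subgroup.zpowers_le.2 hu)
  have hU' : Subgroup.zpowers z ⊔ Subgroup.zpowers u ≤ zc H ⊔ Subgroup.zpowers u :=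
    sup_le_sup_right (Subgroup.zpowers_le.2 h7) _
  have hE := sup_le hU (Subgroup.zpowers_le.2 hv)
  have cE := CA.PGBasic.card_sup_zpowers hp (norm_of_der_le (h8.le.trans le_sup_left) hU hv) (fun e => hv' (hU' e))
    (Subgroup.mem_sup_left (hz v hv))
  rw [CA.PGBasic.card_sup_zpowers hp (norm_of_le_zc (Subgroup.zpowers_le.2 h7) hu)
    (fun e => hu' (Subgroup.zpowers_le.2 h7 e)) (hz u hu), Nat.card_zpowers, h6, ← sq, ← pow_succ] at cE
  have eE : Subgroup.zpowers z ⊔ Subgroup.zpowers u ⊔ Subgroup.zpowers v ⊔ Subgroup.zpowers w = H :=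
    le_antisymm (sup_le hE (Subgroup.zpowers_le.2 hw.1)) (h18.trans (sup_le (le_sup_left.trans' (sup_le_sup_right le_sup_right _))
      (h21 ▸ h9 ▸ sup_le_sup_right (le_sup_left.trans le_sup_left) _)))
  have h22 : p = 2 → Subgroup.zpowers z ⊔ Subgroup.zpowers u ⊔ Subgroup.zpowers v = Subgroup.zpowers u ⊔ Subgroup.zpowers v :=
    fun e => by rw [sup_eq_right.2 (Subgroup.zpowers_le.2 ((h20 e).1 ▸ pow_mem (Subgroup.mem_zpowers u) 2))]
  have hzE : z ∈ Subgroup.zpowers z ⊔ Subgroup.zpowers u ⊔ Subgroup.zpowers v :=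
    Subgroup.mem_sup_left (Subgroup.mem_sup_left (Subgroup.mem_zpowers z))
  generalize Subgroup.zpowers z ⊔ Subgroup.zpowers u ⊔ Subgroup.zpowers v = E at hE cE eE h22 hzE
  have := fin_le hE
  have hwE : w ∉ E := fun e => hlt (by norm_num : 2 + 1 < 4) (by
    rw [← cE, ← hcard, ← eE, sup_eq_left.2 (Subgroup.zpowers_le.2 e)])
  have hw1 := hZ w hw
  obtain ⟨i1⟩ := nonempty_prod (Subgroup.zpowers_le.2 fun y hy => zc_comm hw (hE hy) : _ ≤ Subgroup.centralizer (E : Set Ω))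
    (dj hwE hw1)
  obtain ⟨j⟩ := nonempty_zp (orderOf_eq_prime hw1 fun e => hwE (e ▸ one_mem _))
  have i2 := (MulEquiv.subgroupCongr eE.symm).trans i1
  by_cases e : p = 2
  · obtain ⟨i⟩ := (h20 e).2.nonempty_quaternion odd_one rfl
    subst e
    exact .inr (.inl ⟨rfl, ⟨i2.trans (((MulEquiv.subgroupCongr (h22 rfl)).trans i).prodCongr j)⟩⟩)
  · have h23 : zc E ≤ zc H := fun y hy => ⟨hE hy.1, Subgroup.le_centralizer_iff.1 (eE.ge.trans (sup_le
      (Subgroup.le_centralizer_iff.1 (Subgroup.zpowers_le.2 hy.2)) (Subgroup.zpowers_le.2 fun y' hy' =>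
        zc_comm hw (hE (Subgroup.zpowers_le.2 hy.1 hy'))))) (Subgroup.mem_zpowers y)⟩
    have h24 : Subgroup.zpowers z ≤ zc E := Subgroup.zpowers_le.2 ⟨hzE, fun y hy => zc_comm h7 (hE hy)⟩
    have h25 := (CA.PGBasic.eq_or_eq_of_relIndex_prime hp (h9 ▸ h16) h24 h23).resolve_right fun e => hwE (e.ge hw).1
    have h26 : ⁅E, E⁆ = Subgroup.zpowers z := eq_zpowers_of_ne_bot (h6 ▸ pow_orderOf_eq_one z)
      ((Subgroup.commutator_mono hE hE).trans h8.le) fun e => by
        have := fin_le (inf_le_left : zc E ≤ E)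
        have : Nat.card E ≤ Nat.card (zc E) :=
          Subgroup.card_le_of_le (le_inf le_rfl (Subgroup.commutator_eq_bot_iff_le_centralizer.1 e))
        rw [h25, cE, Nat.card_zpowers, h6] at this
        exact hlt (by norm_num : 1 < 3) (this.trans_eq (pow_one p).symm)
    obtain ⟨E', _, ⟨i⟩⟩ := exists_copy E
    exact .inl ⟨hp.odd_of_ne_two e, E', _, Finite.of_equiv _ i.toEquiv,
      extra_equiv i (extra_amb (hP.to_le hE) h6 h25 h26 fun x hx => hz x (hE hx)), (Nat.card_congr i.toEquiv).symm.trans cE,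
      fun x => by rw [← i.apply_symm_apply x, ← map_pow, show i.symm x ^ p = 1 from
        Subtype.ext (h19 e _ (hE (i.symm x).2)), map_one], ⟨i2.trans (i.prodCongr j)⟩⟩

end Cfsg.Agent.S5188
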