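import Cfsg.Statements.S5191
import Cfsg.Agent.Lib.Fus.FusIso
import Cfsg.Agent.Lib.Grp.Core
-- import your own Cfsg.Agent.* helpers here

set_option autoImplicit false
open Cfsg

namespace Cfsg.Agent.S5191

open CA.Fus CA.AmbSyl in
/-- Fusion in a finite group G and in its quotient by O_{p'}(G) agree. Let S be a Sylow p-subgroup of G, N = O_{p'}(G) and P ≤ S. If an element of G/N conjugates the image of P into the image of S, then some element g of G conjugates P into S and induces the same map on P modulo N. (Together with the injectivity of S → G/N this says that g ↦ gN induces an isomorphism of the fusion system of G on S with that of G/N on SN/N.) -/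
theorem result {G : Type*} [Group G] [Finite G] {p : ℕ} [Fact p.Prime]
    [hN : (Cfsg.pPrimeCore p G).Normal] (S : Sylow p G) (P : Subgroup G) (hP : P ≤ (S : Subgroup G))
    (γ : G ⧸ Cfsg.pPrimeCore p G)
    (hγ : ∀ x ∈ P, γ * QuotientGroup.mk x * γ⁻¹ ∈ ((S : Subgroup G).map (QuotientGroup.mk' (Cfsg.pPrimeCore p G)))) :
    ∃ g : G, ∀ x ∈ P, g * x * g⁻¹ ∈ S ∧
      (QuotientGroup.mk (g * x * g⁻¹) : G ⧸ Cfsg.pPrimeCore p G) = γ * QuotientGroup.mk x * γ⁻¹ := by
  have hs := sylIn_top S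
  have hh := homOn_hom (⊤ : Subgroup G) (QuotientGroup.mk' (pPrimeCore p G))
  have q := quo_ofSub hs hh
  have e1 : img (QuotientGroup.mk' (pPrimeCore p G)) (⊤ : Subgroup G) = ⊤ := by
    rw [img_hom]; exact Subgroup.map_top_of_surjective _ (QuotientGroup.mk'_surjective _)
  have hk : q.hom.pre ⊥ = ⊥ := by
    refine le_bot_iff.1 (le_trans (fun x hx => ?_) (CA.Core.inf_eq_bot_of_isPGroup_of_coprime S.2
      (CA.Core.coprime_pPrimeCore (p := p) (G := G))).le)
    exact ⟨hx.1, (QuotientGroup.eq_one_iff x).1 hx.2⟩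
  obtain ⟨θ', i⟩ := q.fIso hk
  have h1 := i.bwd (mor_ofSub_cj (hTH := img_mono _ hs.le) (g := γ) (e1 ▸ Subgroup.mem_top γ) (i.img_le hP)
    fun y hy => by
      obtain ⟨x, hx, rfl⟩ := (i.hom.mono hP).mem_img.1 hy
      rw [img_hom]; exact hγ x hx)
  rw [i.img_img hP] at h1
  obtain ⟨-, h2, g, -, e⟩ := (mor_ofSubgroup _).1 h1
  refine ⟨g, fun x hx => ⟨e x hx ▸ h2 x hx, ?_⟩⟩
  rw [← e x hx]
  exact i.fg _ (by rw [img_hom]; exact hγ x hx)

end Cfsg.Agent.S5191
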