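import Cfsg.Statements.S5212
import Cfsg.Agent.Lib.Fus.FusMc
-- import your own Cfsg.Agent.* helpers here

set_option autoImplicit false
open Cfsg

namespace Cfsg.Agent.S5212

open CA.Fus CA.AmbSyl in
/-- Let S be a finite metacyclic 2-group that is not homocyclic abelian (a direct product of cyclic groups of one common order), not dihedral, not semidihedral and not generalized quaternion. Then every saturated fusion system over S is the inner fusion system of S. -/
theorem result {Ω : Type*} [Group Ω] {S : Subgroup Ω} [Finite S] (hS : IsPGroup 2 S) (F : Cfsg.FusionSystem S) (hF : F.IsSaturated 2) (hm : Cfsg.IsMetacyclic ↥S) (hh : ¬ ∃ n k : ℕ, Nonempty (↥S ≃* Multiplicative (Fin k → ZMod (2 ^ n)))) (hd : ¬ ∃ m : ℕ, Nonempty (↥S ≃* DihedralGroup m)) (hq : ¬ ∃ m : ℕ, Nonempty (↥S ≃* QuaternionGroup m)) (hsd : ¬ Cfsg.IsQuasiDihedral ↥S) : ∀ P : Subgroup Ω, F.Hom P = (Cfsg.innerFusionSystem S).Hom P := by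
  haveI : Fact (Nat.Prime 2) := ⟨Nat.prime_two⟩
  have h : F = innerFusionSystem S := by
    refine eq_inner_of_ess hS hF fun P h => ?_
    rcases h with rfl | h
    · by_contra hc
      rcases S1896.result hS hm (fun h => hc (h.to_subgroup _)) with h | ⟨n, ⟨e⟩⟩
      · exact hq ⟨_, h⟩
      · exact hh ⟨n, 2, ⟨e.trans ((MulEquiv.prodMultiplicative _ _).symm.trans
          (AddEquiv.toMultiplicative (LinearEquiv.finTwoArrow ℤ _).symm.toAddEquiv))⟩⟩
    · exact (((lr_of_ess hS hF h).dqs hS hm).elim hd fun h => h.elim hq hsd).elim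
  rw [h]
  exact fun _ => rfl

end Cfsg.Agent.S5212
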