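import Cfsg.Statements.S5214
import Cfsg.Agent.Lib.Fus.FusDr
import Cfsg.Agent.S1137
import Cfsg.Agent.S1138
-- import your own Cfsg.Agent.* helpers here

set_option autoImplicit false
open Cfsg

namespace Cfsg.Agent.S5214

open CA.Fus CA.AmbSyl in
/-- Let S be a Suzuki 2-group (a finite nonabelian 2-group with more than one involution admitting a cyclic group of automorphisms permuting its involutions regularly). Then S is normal in every saturated fusion system over S (such a group is resistant). -/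
theorem result {Ω : Type*} [Group Ω] {S : Subgroup Ω} [Finite S] (hS : IsPGroup 2 S) (F : Cfsg.FusionSystem S) (hF : F.IsSaturated 2) (hsz : Cfsg.IsSuzukiTwoGroup ↥S) : F.IsNormal S := by
  haveI : Fact (Nat.Prime 2) := ⟨Nat.prime_two⟩
  by_contra h1
  obtain ⟨Q, l⟩ := exists_lr hS hF (sc_top F) h1
  obtain ⟨s, hs, hn, hs', -⟩ := l.exists_norm hS
  have := fin_le l.le
  obtain ⟨h4, h5⟩ := S1137.result hsz
  have h2 : ∀ x ∈ S, x ∈ (Subgroup.center S).map S.subtype ↔ x ^ 2 = 1 := fun x hx => by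
    rw [sq]
    refine (Subgroup.mem_map_iff_mem (x := ⟨x, hx⟩) S.subtype_injective).trans
      ⟨fun h => congrArg Subtype.val (h5 _ h), fun h => by_contra fun e => e ((h4 _).1 ⟨fun e' => e ?_, Subtype.ext h⟩).1⟩
    exact e' ▸ one_mem _
  have h3 : ∀ x ∈ (Subgroup.center S).map S.subtype, ∀ s ∈ S, s * x = x * s := by
    rintro _ ⟨x, hx, rfl⟩ s hs
    exact congrArg Subtype.val (Subgroup.mem_center_iff.1 hx ⟨s, hs⟩)
  refine hs' (l.mem_of_two hS hs hn (le_top.trans (stabA_of_pow (n := 2) (fun x hx => l.cent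
    (Subgroup.map_subtype_le _ hx) fun y hy => h3 x hx y (l.le hy)) fun x hx => h2 x (l.le hx)).ge) (fun x hx => ?_)
    fun x _ hx => by rw [h3 x hx s hs, mul_inv_cancel_right])
  exact ⟨_, (S1138.result hsz).2.1 ⟨x, l.le hx⟩ (⟨s, hs⟩ : S)⁻¹, by simp [mul_assoc]⟩

end Cfsg.Agent.S5214
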