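import Cfsg.Statements.S5215
import Cfsg.Agent.Lib.Fus.FusDr
-- import your own Cfsg.Agent.* helpers here

set_option autoImplicit false
open Cfsg

namespace Cfsg.Agent.S5215

open CA.Fus CA.AmbSyl in
/-- Let S be a finite 2-group of 2-rank 2 (an elementary abelian subgroup of order 4, none of order 8) and F a simple saturated fusion system over S. Then S is dihedral, semidihedral or wreathed, and F is the fusion system of the projective special linear group PSL₂(q) for some odd prime power q ≡ ±1 (mod 8) or of PSL₃(q) for some odd prime power q: it is realized by an injective homomorphism of S into that group whose image is a Sylow 2-subgroup. -/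
theorem result {Ω : Type*} [Group Ω] {S : Subgroup Ω} [Finite S] (hS : IsPGroup 2 S) (F : Cfsg.FusionSystem S) (hF : F.IsSaturated 2) (hr : Cfsg.PRankAtLeast 2 2 ↥S ∧ ¬ Cfsg.PRankAtLeast 2 3 ↥S) (hsimple : F.IsSimple 2) : ((∃ m : ℕ, Nonempty (↥S ≃* DihedralGroup m)) ∨ Cfsg.IsQuasiDihedral ↥S ∨ Cfsg.IsWreathed ↥S) ∧ ∃ (K : Type) (_ : Field K) (_ : Fintype K) (q : ℕ), Fintype.card K = q ∧ Odd q ∧ (((q % 8 = 1 ∨ q % 8 = 7) ∧ ∃ ι : ↥S →* Matrix.ProjectiveSpecialLinearGroup (Fin 2) K, F.IsRealizedBy ι ∧ ∃ T : Sylow 2 (Matrix.ProjectiveSpecialLinearGroup (Fin 2) K), (T : Subgroup (Matrix.ProjectiveSpecialLinearGroup (Fin 2) K)) = ι.range) ∨ (∃ ι : ↥S →* Matrix.ProjectiveSpecialLinearGroup (Fin 3) K, F.IsRealizedBy ι ∧ ∃ T : Sylow 2 (Matrix.ProjectiveSpecialLinearGroup (Fin 3) K), (T : Subgroup (Matrix.ProjectiveSpecialLinearGroup (Fin 3) K)) = ι.range)) := by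
  haveI : Fact (Nat.Prime 2) := ⟨Nat.prime_two⟩
  have h1 : Nat.card S ≠ 2 := fun e => by
    obtain ⟨A, -, -, h⟩ := hr.1
    have := h.trans (Subgroup.card_le_card_group A)
    omega
  have h := (rk2_cases hS hF hr (by_contra fun e =>
    h1 (simple_card hS hsimple (central_normal (center_central F)) e).1)).resolve_left fun e =>
    h1 (simple_card hS hsimple e hsimple.2.1).1
  refine ⟨h.imp_left fun ⟨m, _, e⟩ => ⟨m, e⟩, ?_⟩
  obtain ⟨G, _, _, T, E, θ, θ', hU, i, hE, hT⟩ := exists_amb hS hF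
  obtain ⟨q, _, h2, h3⟩ := simple_main hT hU (i.simple hS hsimple) (i.card_eq ▸ h1)
    (h.imp (fun ⟨m, h, ⟨e⟩⟩ => ⟨m, h, ⟨i.equiv.symm.trans e⟩⟩) (.imp (CA.Wrth2.isQuasiDihedral_of_equiv · i.equiv)
      (CA.Wrth2.isWreathed_of_equiv · i.equiv)))
  haveI : NeZero q := ⟨(Fact.out : q.Prime).ne_zero⟩
  exact ⟨ZMod q, inferInstance, inferInstance, q, ZMod.card q, h2,
    h3.imp (fun h => ⟨.inl h.1, h.2.of_fIso i⟩) fun h => h.of_fIso i⟩

end Cfsg.Agent.S5215
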