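import Cfsg.Statements.S5270
import Cfsg.Agent.Lib.Fus.FusAb
import Cfsg.Agent.Lib.Fus.FusPark
import Cfsg.Agent.Lib.Grp.MxCl2
-- import your own Cfsg.Agent.* helpers here

set_option autoImplicit false
open Cfsg

namespace Cfsg.Agent.S5270

open CA.Fus CA.AmbSyl in
/-- Let p ≥ 5 be a prime, S a finite p-group of maximal class of order p^n with n ≥ 4, and F a saturated fusion system over S. If some map of F defined on the second centre Z₂(S) with image Z₂(S) does not carry Z(S) into itself, then the centralizer C_S(Z₂(S)) is an F-essential subgroup. -/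
theorem result {Ω : Type*} [Group Ω] {S : Subgroup Ω} [Finite S] (p : ℕ) [Fact p.Prime] (hS : IsPGroup p ↥S) (n : ℕ) (hn : Nat.card S = p ^ n) (h4 : 4 ≤ n) (hmax : Subgroup.lowerCentralSeries S (n - 2) ≠ ⊥) (F : Cfsg.FusionSystem S) (hF : F.IsSaturated p) (hp : 5 ≤ p) (φ : ↥((Subgroup.upperCentralSeries ↥S 2).map S.subtype) →* Ω) (hφ : φ ∈ F.Hom ((Subgroup.upperCentralSeries ↥S 2).map S.subtype)) (hφZ : φ.range = ((Subgroup.upperCentralSeries ↥S 2).map S.subtype)) (hmove : ∃ (z : Ω) (hz : z ∈ ((Subgroup.upperCentralSeries ↥S 2).map S.subtype)), z ∈ ((Subgroup.center ↥S).map S.subtype) ∧ φ ⟨z, hz⟩ ∉ ((Subgroup.center ↥S).map S.subtype)) : F.IsEssential p (S ⊓ Subgroup.centralizer (((Subgroup.upperCentralSeries ↥S 2).map S.subtype) : Set Ω)) := by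
  have h := (CA.MxCl.mx_iff (Fact.out : p.Prime) hn (by omega)).2 hmax
  have e1 := h.ucs_eq (i := 2) (by omega)
  obtain ⟨Z, eZ⟩ : ∃ Z, Z = (Subgroup.upperCentralSeries S 2).map S.subtype := ⟨_, rfl⟩
  have hZ : Z ≤ S := eZ ▸ Subgroup.map_subtype_le _
  have := fin_le hZ
  have : Finite (Z : Set Ω) := this
  have hn : S ≤ Subgroup.normalizer (Z : Set Ω) := fun s hs => Subgroup.mem_normalizer_fintype (by
    subst eZ
    rintro _ ⟨x, hx, rfl⟩
    exact ⟨_, Subgroup.Normal.conj_mem inferInstance x hx ⟨s, hs⟩, rfl⟩)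
  have e2 : (S ⊓ Subgroup.centralizer (Z : Set Ω)).relIndex S = p := by
    rw [← h.index_K (i := n - 2) (by omega) (by omega), h.K_last, ← e1, Subgroup.relIndex, eZ]
    congr 1
    ext x
    exact ⟨fun hx y hy => Subtype.ext (hx.2 _ ⟨y, hy, rfl⟩), fun hx => ⟨x.2, by
      rintro _ ⟨y, hy, rfl⟩; exact congrArg Subtype.val (hx y hy)⟩⟩
  have e3 : (Subgroup.center S).map S.subtype = zc S := by
    ext x
    exact ⟨by rintro ⟨y, hy, rfl⟩; exact ⟨y.2, fun s hs => congrArg Subtype.val (Subgroup.mem_center_iff.1 hy ⟨s, hs⟩)⟩,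
      fun hx => ⟨⟨x, hx.1⟩, Subgroup.mem_center_iff.2 fun s => Subtype.ext (hx.2 s s.2), rfl⟩⟩
  revert φ
  rw [← eZ]
  rintro φ hφ hφZ ⟨z, hz, h1, h2⟩
  rw [e3] at h1 h2
  have hf := mor_ext hφ
  have e4 := (img_ext φ).trans hφZ
  obtain ⟨g, hg, e5⟩ := sat_ext_cent hS hF hf (e4.symm ▸ sat_fullyCent hS hF (fullyNorm_of_normal hZ hn))
  have := fin_le (inf_le_left : S ⊓ Subgroup.centralizer (Z : Set Ω) ≤ S)
  obtain ⟨α, hα, e6⟩ := (hg.mono le_sup_right).exists_aut fun x hx => ⟨hg.mem (Subgroup.mem_sup_right hx), fun y hy => by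
    obtain ⟨w, hw, rfl⟩ := hf.mem_img.1 (e4.ge hy)
    rw [← e5 w hw, ← hg.hom w (Subgroup.mem_sup_left hw) x (Subgroup.mem_sup_right hx), hx.2 w hw,
      hg.hom x (Subgroup.mem_sup_right hx) w (Subgroup.mem_sup_left hw)]⟩
  have h3 : zc S ≤ S ⊓ Subgroup.centralizer (Z : Set Ω) := inf_le_inf_left S (Subgroup.centralizer_le hZ)
  refine (essential_iff_HP hS hF).2 ⟨fullyNorm_of_normal inf_le_left (CA.Amb.norm_inf Subgroup.le_normalizer
    (hn.trans (CA.Amb.normalizer_le_normalizer_centralizer Z))), inf_le_left.lt_of_ne fun e => ?_, fun e => h2 ?_⟩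
  · rw [e, Subgroup.relIndex_self] at e2
    omega
  have h4 : HP F _ ≤ stabA (S ⊓ Subgroup.centralizer (Z : Set Ω)) (zc S) := HP_le fun β Q k hQ hk e => by
    obtain rfl := (CA.PGBasic.eq_or_eq_of_relIndex_prime Fact.out e2 hQ.le hk.le).resolve_left hQ.ne'
    obtain ⟨γ, -, e'⟩ := hk.exists_aut fun _ => hk.mem
    have := fin_le h3
    exact mem_stabA_of_maps h3 fun x hx => by
      rw [← e x (h3 hx), ← e' x hx.1]
      exact ((stabA_zc Q).ge (Subgroup.mem_top γ) x).2 hx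
  rw [← ext_of_mem φ hz, ← e5 z hz, ← e6 z (h3 h1)]
  exact (h4 (e.ge hα) z).2 h1

end Cfsg.Agent.S5270
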