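import Cfsg.Statements.S5299
import Cfsg.Agent.Lib.Fus.FusSec
-- import your own Cfsg.Agent.* helpers here

set_option autoImplicit false
universe u
open Cfsg

namespace Cfsg.Agent.S5299

open CA.Fus CA.AmbSyl in
/-- Let F be a saturated fusion system over a finite p-group S, H a finite group and Q a p-subgroup of H. If Q is not involved in S (no section of S is isomorphic to Q), then F is H-free: H is involved in no model of the normalizer system of a fully normalized centric subgroup. -/
theorem result {Ω : Type u} [Group Ω] {S : Subgroup Ω} [Finite S] (p : ℕ) [Fact p.Prime] (hS : IsPGroup p S)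
    (F : Cfsg.FusionSystem S) (hF : F.IsSaturated p) (H : Type*) [Group H] [Finite H] (Q : Subgroup H) (hQ : IsPGroup p Q)
    (hfree : ¬ Cfsg.Involves (↥Q) (↥S)) : F.IsSectionFree p H := by
  intro R _ _ N _ L _ ι hL hi
  have := hL.1
  obtain ⟨K, -, ψ, hψ, -⟩ := CA.H6Stab.involves_iff.1 hi
  obtain ⟨T, hT⟩ := exists_sylIn p (Q.comap ψ)
  have h1 := hT.map ψ
  rw [Subgroup.map_comap_eq_self_of_surjective hψ] at h1
  have h2 := h1.eq_of_isPGroup hQ
  obtain ⟨g, -, hg⟩ := (model_syl hL).exists_conj_le (hT.pg.map K.subtype) le_top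
  have h0 : Involves Q Q := CA.H6Stab.involves_iff.2 ⟨⊤, le_rfl, Subgroup.subtype ⊤,
    fun x => ⟨⟨x, trivial⟩, rfl⟩, fun x hx => by rw [Subgroup.mem_bot] at hx; exact hx⟩
  have h3 : Involves Q T := involves_of_surj ((ψ.comp T.subtype).codRestrict Q fun x => hT.le x.2) (fun y => by
    obtain ⟨x, hx, e⟩ := h2.ge y.2
    exact ⟨⟨x, hx⟩, Subtype.ext e⟩) h0
  have h4 : Involves Q ι.range := involves_of_inj (((MulAut.conj g).toMonoidHom.comp (K.subtype.comp T.subtype)).codRestrict
    _ fun x => CA.Amb.cj_le_iff'.1 hg _ ⟨x, x.2, rfl⟩) (fun a b e => Subtype.ext (Subtype.ext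
      ((MulAut.conj g).injective (congrArg Subtype.val e)))) h3
  exact hfree (involves_of_inj _ (Subgroup.inclusion_injective (normIn_le S R))
    (involves_of_inj (MonoidHom.ofInjective hL.2.1.1).symm.toMonoidHom (MulEquiv.injective _) h4))

end Cfsg.Agent.S5299
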