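import Cfsg.Statements.S5309
import Cfsg.Agent.Lib.Fus.FusCP
-- import your own Cfsg.Agent.* helpers here

set_option autoImplicit false
open Cfsg

namespace Cfsg.Agent.S5309

open CA.Fus CA.AmbSyl in
/-- Self-centralizing property of the generalized Fitting subsystem. Let F be a saturated fusion system over a finite p-group S and D a generalized Fitting subsystem of F, over U. Then the centre of D is the largest subgroup Y of C_S(U) centralized by D in F, in the sense that every map of D extends to a map of F fixing Y elementwise: the centre of D is such a subgroup, and every such Y lies in the centre of D. -/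
theorem result {Ω : Type*} [Group Ω] {S : Subgroup Ω} [Finite S] (p : ℕ) [Fact p.Prime] (hS : IsPGroup p S) (F : Cfsg.FusionSystem S) (hF : F.IsSaturated p)
    {U : Subgroup Ω} (D : Cfsg.FusionSystem U) (hD : D.IsGeneralizedFittingOf F p) :
    (D.center ≤ Cfsg.FusionSystem.centralizerIn S U ∧ ∀ P : Subgroup Ω, D.Hom P ⊆ F.centralizerHom D.center P) ∧
      ∀ Y : Subgroup Ω, Y ≤ Cfsg.FusionSystem.centralizerIn S U →
        (∀ P : Subgroup Ω, D.Hom P ⊆ F.centralizerHom Y P) → Y ≤ D.center := by
  obtain ⟨T, E, h1, h2⟩ := fstar_iff.1 hD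
  have h3 := fstar_nm hS h1 h2
  have := fin_le (nm_le h3)
  have h4 := (cz_central.2 (center_central D)).sub' (nm_sub h3)
  exact ⟨⟨h4.le, cz_iff.2 h4⟩, fun Y _ h5 => le_center ((cz_iff.1 h5).central ((((cz_iff.1 h5).le_csE hS h3).trans
    (csE_fstar hS h1 h2)).trans h2.le₁) (hS.to_le (nm_le h3)) (nm_sat h3))⟩

end Cfsg.Agent.S5309
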