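import Cfsg.Statements.S5316
import Cfsg.Agent.Lib.Fus.H8Tv

set_option autoImplicit false
open Cfsg

namespace Cfsg.Agent.S5316

open Subgroup CA CA.Fus CA.AmbSyl CA.MxCl CA.H8Mx CA.H8Tv Relation
open Cfsg.FusionSystem (normalizerIn centralizerIn)
open scoped commutatorElement

theorem small {X : Type*} [Group X] [Finite X] {p k : ℕ} [hp : Fact p.Prime] (h2 : p ≠ 2) (hk : Nat.card X = p ^ k)
    (h3 : k ≤ 3) (he : ¬ ∀ x : X, x ^ p = 1) :
    ∃ W : Subgroup X, W.Characteristic ∧ frattini X ≤ W ∧ (frattini X).relIndex W ∣ p ∧ W.index ∣ p := by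
  have hX : IsPGroup p X := IsPGroup.of_card hk
  obtain ⟨i, hi⟩ := PGBasic.exists_card_eq_pow hX (frattini X)
  obtain ⟨j, hj⟩ := hX.index (frattini X)
  have h1 : i + j = k := Nat.pow_right_injective hp.out.two_le (by
    simp only [pow_add]; rw [← hi, ← hj, card_mul_index, hk])
  have h4 : i ≠ 0 := by
    rintro rfl
    exact he ((PGFrattini.frattini_eq_bot_iff hX).1 (card_eq_one.1 hi)).2
  by_cases h5 : j ≤ 1
  · exact ⟨_, inferInstance, le_rfl, by simp, hj ▸ (pow_dvd_pow p h5).trans (pow_one p).dvd⟩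
  obtain rfl : i = 1 := by omega
  obtain rfl : k = 3 := by omega
  rw [pow_one] at hi
  have h6 := fun x y g => PGClassTwo.commute_of_mem_center
    (PGBasic.le_center_of_card_eq hX hi (PGFrattini.comm_mem_frattini hX x y)) g
  have h7 : ∀ x ∈ frattini X, x ^ p = 1 := fun x hx => by
    rw [← hi]; exact congrArg Subtype.val (pow_card_eq_one' (x := (⟨x, hx⟩ : frattini X)))
  let φ : X →* X := MonoidHom.mk' (· ^ p) fun x y => PGClassTwo.mul_pow_odd (h6 _ _ _) (h6 _ _ _)
    (hp.out.odd_of_ne_two h2) (h7 _ (PGFrattini.comm_mem_frattini hX y x))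
  have h8 : φ.ker.index ∣ p := by
    rw [index_ker, ← hi]
    exact card_dvd_of_le (by rintro _ ⟨x, rfl⟩; exact PGFrattini.pow_mem_frattini hX x)
  have h9 : φ.ker.index = p := ((Nat.dvd_prime hp.out).1 h8).resolve_left fun e => he fun x =>
    (index_eq_one.1 e).ge (mem_top x)
  refine ⟨φ.ker, characteristic_iff_le_comap.2 fun α x hx => ?_, h7, ?_, h8⟩
  · exact (map_pow α x p).symm.trans ((congrArg α hx).trans (map_one α))
  · have := relIndex_mul_index (show frattini X ≤ φ.ker from h7)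
    rw [h9, hj, show j = 2 by omega, pow_two] at this
    exact (Nat.eq_of_mul_eq_mul_right hp.out.pos this).dvd

variable {Ω : Type*} [Group Ω] {S E : Subgroup Ω} {F : FusionSystem S} {p n : ℕ}

theorem mm {H : Subgroup S} {g : S} : (g : Ω) ∈ H.map S.subtype ↔ g ∈ H := mem_map_iff_mem S.subtype_injective

theorem lift {R : Subgroup S} {k : Ω → Ω} (hk : Mor F (R.map S.subtype) k) :
    ∃ f : S → S, HomOn R f ∧ ∀ g ∈ R, (f g : Ω) = k g := by
  classical
  have e : ∀ g ∈ R, ((if h : k g ∈ S then ⟨k g, h⟩ else 1 : S) : Ω) = k g := fun g hg => by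
    rw [dif_pos (hk.mem (mm.2 hg))]
  refine ⟨fun g => if h : k g ∈ S then ⟨k g, h⟩ else 1, fun x hx y hy => Subtype.ext ?_, e⟩
  rw [coe_mul, e x hx, e y hy, e _ (mul_mem hx hy)]
  exact hk.hom.mul (mm.2 hx) (mm.2 hy)

theorem main [Finite S] [hp : Fact p.Prime] (h2 : p ≠ 2) (h : Mx p n S) (h5 : 5 ≤ n) (hF : F.IsSaturated p)
    (hE : F.IsEssential p E) (hab : E ≤ centralizer (E : Set Ω)) (h3 : Nat.card E = p ^ 3) (hex : ∀ x ∈ E, x ^ p = 1) :
    False := by
  have hS := h.pg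
  have l := lr_of_ess hS hF hE
  have := fin_le l.le
  have hc : ∀ {i : ℕ}, gam S i ≤ centralizer (E.subgroupOf S : Set S) → (gam S i).map S.subtype ≤ E := fun e => by
    rintro _ ⟨g, hg, rfl⟩
    exact l.cent g.2 fun x hx => congrArg Subtype.val (e hg ⟨x, l.le hx⟩ hx)
  have cm : ∀ H : Subgroup S, Nat.card (H.map S.subtype) = Nat.card H := fun H =>
    card_map_of_injective S.subtype_injective
  have hZ := hc (i := n - 1) (h.center_eq.ge.trans (center_le_centralizer _))
  have hK := K_eq h h5 (i := n - 3) (by omega) (by omega)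
  have hl := h.K_last
  have h4 : p ^ 4 < Nat.card S := by rw [h.card]; exact Nat.pow_lt_pow_right hp.out.one_lt h5
  have hor : E.subgroupOf S ≤ K S 2 ∨ E.subgroupOf S ≤ K S (n - 2) := by
    by_contra! e
    obtain ⟨s, hs, h6, h7⟩ : ∃ s ∈ E.subgroupOf S, s ∉ K S 2 ∧ s ∉ K S (n - 2) := by
      obtain ⟨a, ha, ha'⟩ := SetLike.not_le_iff_exists.1 e.1
      obtain ⟨b, hb, hb'⟩ := SetLike.not_le_iff_exists.1 e.2
      by_cases h6 : a ∈ K S (n - 2)
      · by_cases h7 : b ∈ K S 2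
        · exact ⟨a * b, mul_mem ha hb, mt (mul_mem_cancel_right h7).1 ha', mt (mul_mem_cancel_left h6).1 hb'⟩
        · exact ⟨b, hb, h7, hb'⟩
      · exact ⟨a, ha, ha', h6⟩
    have := h.card_le_of_unif (s := s) (N := ⊥) (fun i a b => by
      rcases a.eq_or_lt with rfl | a
      · exact mt (fun e => K_one_le e) h6
      by_cases c : i = n - 2
      · rwa [c]
      · rwa [K_eq h h5 a (by omega)]) (fun e => l.lt.not_ge (subgroupOf_eq_top.1 e)) hs
      (commutator_le.2 fun a ha b hb => commutatorElement_eq_one_iff_mul_comm.2 (Subtype.ext (hab hb a ha)))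
    rw [card_bot, mul_one, Nat.card_congr (subgroupOfEquivOfLe l.le).toEquiv, h3,
      Nat.pow_le_pow_iff_right hp.out.one_lt] at this
    omega
  obtain ⟨m, rfl⟩ : ∃ m, n = m + 3 := ⟨n - 3, by omega⟩
  simp only [show m + 3 - 3 = m by omega, show m + 3 - 2 = m + 1 by omega, show m + 3 - 1 = m + 2 by omega] at hZ hK hl hor
  obtain ⟨z, hz, hz'⟩ := h.exists_not_mem (i := m + 2) (by omega) (by omega)
  have eZ : (gam S (m + 2)).map S.subtype = zpowers (z : Ω) := by
    rw [← S.coe_subtype, ← MonoidHom.map_zpowers]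
    congr 1
    refine le_antisymm (fun y hy => ?_) (zpowers_le.2 hz)
    obtain ⟨u, hu, k, rfl⟩ := h.layer (by omega) hz hz' hy
    rw [(h.gam_bot le_rfl).le hu, one_mul]; exact npow_mem_zpowers z k
  have zE : (z : Ω) ∈ E := hZ (mm.2 hz)
  have zc : ∀ g : S, (g : Ω) * z * (g : Ω)⁻¹ = z := fun g => by
    rw [show (g : Ω) * z = z * g from congrArg Subtype.val (mem_center_iff.1 (h.center_eq.ge hz) g), mul_inv_cancel_right]
  have le : ∀ {i j : ℕ}, i ≤ j → (gam S j).map S.subtype ≤ (gam S i).map S.subtype := fun e => map_mono (gam_anti e)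
  have nm : ∀ i : ℕ, S ≤ normalizer ((gam S i).map S.subtype : Set Ω) := fun i => Amb.norm_map_subtype _
  have hV : (gam S m).map S.subtype ≤ S := map_subtype_le _
  have := fin_le hV
  have hV3 : Nat.card ((gam S m).map S.subtype) = p ^ 3 := by rw [cm, h.card_gam (by omega)]; congr 1; omega
  have hVa : (gam S m).map S.subtype ≤ centralizer ((gam S m).map S.subtype : Set Ω) :=
    Amb.cent_map _ (Amb.commutator_eq_bot_iff'.1 (le_bot_iff.1 ((h.der_gam (by omega)).trans (h.gam_bot (by omega)).le)))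
  by_cases eV : (gam S m).map S.subtype ≤ E
  · have e := eq_of_le_of_card_ge eV (by rw [h3, hV3])
    obtain ⟨w, hw, hw'⟩ := SetLike.not_le_iff_exists.1 fun e : Gam S (m - 1) ≤ gam S m => by
      have := card_le_of_le e
      rw [h.card_Gam (by omega) (by omega), h.card_gam (by omega), Nat.pow_le_pow_iff_right hp.out.one_lt] at this
      omega
    have := card_norm hS hF hE hab h3 w.2 (e ▸ nm m w.2) (fun e' => hw' (mm.1 (e.ge e'))) zE (hex _ zE) (zc w) fun q hq => by
      obtain ⟨q, hq', rfl⟩ := e.ge hq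
      exact eZ.le (mm.2 (dl_eq w q ▸ mem_K.1 (hK.ge hw.2) _ (inv_mem hq') : dl w q ∈ _))
    rw [normIn_eq_of_le (e ▸ nm m)] at this
    exact h4.ne' this
  obtain ⟨_, ⟨w, hw, rfl⟩, hw'⟩ := SetLike.not_le_iff_exists.1 eV
  have fV := fullyNorm_of_normal (F := F) hV (nm m)
  have st : ∀ {B : Subgroup (MulAut ((gam S m).map S.subtype))} (s : S) (i : ℕ), B ≤ stabA _ ((gam S (i + 1)).map S.subtype) →
      B ≤ stabA _ ((gam S i).map S.subtype) →
      St B (cjA _ s) ((gam S (i + 1)).map S.subtype) ((gam S i).map S.subtype) := fun s i a b =>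
    st_cjA (nm m s.2) a b fun x _ hx => by
      obtain ⟨x, hx, rfl⟩ := hx
      exact mm.2 (dl_mem hx s)
  have ai : ∀ i, m ≤ i → autInducedBy S ((gam S m).map S.subtype) ≤ stabA _ ((gam S i).map S.subtype) := fun i hi γ hγ => by
    obtain ⟨t, ht, rfl⟩ := mem_autInd'.1 hγ
    exact (cjA_mem_stabA (le hi) ht.2).2 (nm i ht.1)
  have ext : ∀ κ ∈ F.autGroup ((gam S m).map S.subtype), ∀ R : Subgroup S, gam S m ≤ R →
      R.map S.subtype ≤ Nf S _ (act κ) → ∃ f : S → S, HomOn R f ∧ ∀ g ∈ gam S m, (f g : Ω) = act κ g := fun κ hκ R a b => by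
    obtain ⟨k, hk, e⟩ := rec_ext (sat_rec' hS hF fV) ((mem_aut hV).1 hκ) (img_act κ)
    obtain ⟨f, hf, e'⟩ := lift (hk.mono b)
    exact ⟨f, hf, fun g hg => (e' g (a hg)).trans (e g (mm.2 hg))⟩
  have nE : (∀ v ∈ gam S m, ∀ q ∈ E, q⁻¹ * (v * q * (v : Ω)⁻¹) ∈ E) → (gam S m).map S.subtype ≤ normalizer (E : Set Ω) := by
    rintro e _ ⟨v, hv, rfl⟩
    exact mem_normalizer_of_maps fun q hq => by simpa using mul_mem hq (e v hv q hq)
  have s0 : ∀ B, B ≤ stabA ((gam S m).map S.subtype) ((gam S m).map S.subtype) := fun B => by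
    rw [stabA_self]; exact le_top
  have s1 : ∀ B, B ≤ stabA ((gam S m).map S.subtype) ⊥ := fun B => by rw [stabA_bot]; exact le_top
  by_cases hA : E.subgroupOf S ≤ K S 2
  · have t1 : ∀ v ∈ gam S m, ∀ q ∈ E, q⁻¹ * (v * q * (v : Ω)⁻¹) ∈ (gam S (m + 2)).map S.subtype := fun v hv q hq => by
      have := mm.2 (inv_mem (mem_K.1 (inv_mem (hK.ge (hA (show ⟨q, l.le hq⟩ ∈ E.subgroupOf S from hq)))) v hv))
      simpa [commutatorElement_def, mul_assoc] using this
    obtain ⟨κ, hκ, k1, k2, k3, k4⟩ := exists_inv hS hF h2 hE hab h3 hV (nm m) hVa hV3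
      (nE fun v hv q hq => hZ (t1 v hv q hq)) h4 (mm.2 hw) hw' zE (hex _ zE) (zc w) fun q hq => eZ.le (t1 w hw q hq)
    rw [← eZ] at k2 k3
    have := fin_le ((le (i := m) (j := m + 2) (by omega)).trans hV)
    have := fin_le ((le (i := m) (j := m + 1) (by omega)).trans hV)
    have k5 : κ ∈ stabA _ ((gam S (m + 2)).map S.subtype) := mem_stabA_of_maps (le (by omega)) fun r hr => by
      rw [k2 r hr]; exact inv_mem hr
    have k6 := fun v hv => mod_of_coprime (hS.to_le hV) k1 (hV.trans (nm (m + 2))) k5 hv (k3 _ (k4 v hv))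
    have k7 : κ ∈ stabA _ ((gam S (m + 1)).map S.subtype) := mem_stabA_of_maps (le (by omega)) fun r hr => by
      simpa using mul_mem hr (le (by omega) (k6 r (le (by omega) hr)))
    obtain ⟨f, hf, e⟩ := ext κ hκ ⊤ le_top (by
      rintro _ ⟨s, -, rfl⟩
      refine mem_Nf_of hS hF fV (B := F.autGroup _ ⊓ (stabA _ ((gam S (m + 1)).map S.subtype) ⊓
        stabA _ ((gam S (m + 2)).map S.subtype))) inf_le_left (le_inf (autInd_le_aut F hV)
        (le_inf (ai _ (by omega)) (ai _ (by omega)))) ⟨hκ, k7, k5⟩ ⟨s.2, nm m s.2⟩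
        (((ReflTransGen.single (st_cjA (nm m s.2) (s1 _) (inf_le_right.trans inf_le_right) fun x _ hx => ?_)).tail
          (st s (m + 1) (inf_le_right.trans inf_le_right) (inf_le_right.trans inf_le_left))).tail
          (st s m (inf_le_right.trans inf_le_left) (s0 _)))
      obtain ⟨x, hx, rfl⟩ := hx
      exact congrArg Subtype.val ((h.gam_bot le_rfl).le (dl_mem hx s)))
    exact no_top h h2 h5 hf (fun v hv => mm.1 (by rw [coe_mul, e v hv]; exact k6 v (mm.2 hv)))
      fun v hv => Subtype.ext ((e v (gam_anti (by omega) hv)).trans (k2 v (mm.2 hv)))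
  have hB := hor.resolve_left hA
  have hx0 : ¬ K S 2 ≤ K S (m + 1) := fun e => hA (hB.trans (h.K_eq_of_le le_rfl (by omega) (by omega) e).ge)
  have Z2 := hc (i := m + 1) (le_centralizer_iff.1 (hB.trans hl.le))
  obtain ⟨x, hx, hx'⟩ := SetLike.not_le_iff_exists.1 hA
  have xE : (x : Ω) ∈ E := hx
  have xV : (x : Ω) ∉ (gam S m).map S.subtype := fun e => hx' (gam_le_K 2 (gam_anti (by omega) (mm.1 e)))
  have i1 := rel_of_card Z2 (by rw [cm, h.card_gam (by omega)]; congr 1; omega) h3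
  have e1 := PGBasic.sup_zpowers_eq_of_relIndex_prime hp.out i1 Z2 xE fun e => xV (le (by omega) e)
  have e2 : E ⊓ (gam S m).map S.subtype = (gam S (m + 1)).map S.subtype :=
    (PGBasic.eq_or_eq_of_relIndex_prime hp.out i1 (le_inf Z2 (le (by omega))) inf_le_left).resolve_right
      fun e => xV (e.ge xE).2
  have aZ := mm.2 (comm_mem hw x)
  have cw : ∀ c ∈ (gam S (m + 1)).map S.subtype, (w : Ω) * c * (w : Ω)⁻¹ = c := fun c hc => by
    rw [hVa (le (by omega) hc) w (mm.2 hw), mul_inv_cancel_right]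
  obtain ⟨κ, hκ, k1, k2, k3, k4⟩ := exists_inv hS hF h2 hE hab h3 hV (nm m) hVa hV3
    (nE fun v hv q hq => Z2 (by
      have := mm.2 (inv_mem (comm_mem hv (⟨q, l.le hq⟩ : S)⁻¹))
      simpa [commutatorElement_def, mul_assoc] using this)) h4 (mm.2 hw) hw' (Z2 aZ) (hex _ (Z2 aZ)) (cw _ aZ) fun q hq => by
      obtain ⟨c, hc, j, rfl⟩ := (PGBasic.mem_sup_zpowers (nm _ x.2)).1 (e1.ge hq)
      have c1 : Commute (((⁅w, x⁆ : S) : Ω)) x := hab xE _ (Z2 aZ)
      have c2 : (w : Ω) * x * (w : Ω)⁻¹ = (⁅w, x⁆ : S) * x := by simp [commutatorElement_def]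
      rw [show (w : Ω) * (c * x ^ j) * (w : Ω)⁻¹ = w * c * (w : Ω)⁻¹ * (w * x * (w : Ω)⁻¹) ^ j by rw [conj_zpow]; group,
        cw c hc, c2, c1.mul_zpow, (c1.zpow_zpow j j).eq]
      simp [mul_assoc]
  rw [e2] at k3 k4
  have := fin_le ((le (i := m) (j := m + 1) (by omega)).trans hV)
  have k5 : κ ∈ stabA _ ((gam S (m + 1)).map S.subtype) := mem_stabA_of_maps (le (by omega)) fun r hr => by
    simpa using mul_mem hr (k4 r (le (by omega) hr))
  have l1 : gam S m ≤ K S (m + 1) := (gam_anti (by omega)).trans (gam_le_K _)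
  obtain ⟨f, hf, e⟩ := ext κ hκ (K S (m + 1)) l1 (by
    rintro _ ⟨s, hs, rfl⟩
    refine mem_Nf_of hS hF fV (B := F.autGroup _ ⊓ stabA _ ((gam S (m + 1)).map S.subtype)) inf_le_left
      (le_inf (autInd_le_aut F hV) (ai _ (by omega))) ⟨hκ, k5⟩ ⟨s.2, nm m s.2⟩
      ((ReflTransGen.single (st_cjA (nm m s.2) (s1 _) inf_le_right fun x _ hx => ?_)).tail (st s m inf_le_right (s0 _)))
    obtain ⟨x, hx, rfl⟩ := hx
    have : (x : Ω) * s = s * x := congrArg Subtype.val (hl.le hs x hx)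
    simp [← this])
  refine no_exc h h2 h5 hx0 hf (fun r hr => hl.ge fun c hc => ?_) (hB hx) hx' hw (fun e => hw' (Z2 (mm.2 e)))
    (fun v hv => mm.1 (by rw [coe_mul, e v hv]; exact k4 v (mm.2 hv)))
    (Subtype.ext ((e _ (gam_anti (by omega) (comm_mem hw x))).trans (k2 _ (mem_zpowers _)))) fun c hc => ?_
  · obtain ⟨d, hd, e'⟩ := (inv_mem k5 c).2 (mm.2 hc)
    have d1 := gam_anti (Nat.le_succ m) hd
    have d2 : f d = c := Subtype.ext ((e d d1).trans ((congrArg (act κ) e').trans (act_act_inv κ _)))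
    rw [← d2, ← hf.mul (l1 d1) hr, hl.le hr d hd, hf.mul hr (l1 d1)]
  · obtain ⟨j, hj⟩ := mem_zpowers_iff.1 (k3 c (mm.2 hc))
    exact mem_zpowers_iff.2 ⟨j, Subtype.ext (by rw [coe_mul, e c (gam_anti (by omega) hc)]; exact hj)⟩


/-- Let p ≥ 5 be a prime, S a finite p-group of maximal class of order p^n with n ≥ 5 (nilpotency class n − 1), F a saturated fusion system over S, and E an F-essential subgroup that is not a pearl (not elementary abelian of order p² and not extraspecial of order p³ and exponent p). Then E has order at least p⁴. -/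
theorem result {Ω : Type*} [Group Ω] {S : Subgroup Ω} [Finite S] (p : ℕ) [Fact p.Prime] (hp : 5 ≤ p) (hS : IsPGroup p ↥S) (n : ℕ) (hn : Nat.card S = p ^ n) (h5 : 5 ≤ n)
    (hmax : Subgroup.lowerCentralSeries S (n - 2) ≠ ⊥) (F : Cfsg.FusionSystem S) (hF : F.IsSaturated p)
    (E : Subgroup Ω) (hE : F.IsEssential p E)
    (hnp : ¬ ((Nat.card ↥E = p ^ 2 ∧ Cfsg.IsElementaryAbelian p E) ∨ (Nat.card ↥E = p ^ 3 ∧ Cfsg.IsExtraspecial p ↥E ∧ Monoid.exponent ↥E = p))) :
    p ^ 4 ≤ Nat.card ↥E := by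
  have l := lr_of_ess hS hF hE
  have := fin_le l.le
  have h2 : p ≠ 2 := by omega
  have hp' : p.Prime := Fact.out
  obtain ⟨k, hk⟩ := IsPGroup.iff_card.1 (hS.to_le l.le)
  rw [hk, Nat.pow_le_pow_iff_right hp'.one_lt]
  refine not_lt.1 fun h4 => ?_
  obtain ⟨s, hs, hn', hs', -⟩ := l.exists_norm hS
  have ch : ∀ W : Subgroup E, W.Characteristic → frattini E ≤ W → (frattini E).relIndex W ∣ p → W.index ∣ p → False :=
    fun W _ a b c => hs' (l.mem_of_chain hS hs hn' le_rfl ((ReflTransGen.single (st_index hS l.le hs hn' (l.cjA_mem hs hn')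
      (by rw [stabA_frat]; exact le_top) (by rw [stabA_char]; exact le_top) (map_mono a) (map_subtype_le W)
      (by rwa [relIndex_map_map_of_injective _ _ E.subtype_injective]))).tail (st_index hS l.le hs hn' (l.cjA_mem hs hn')
      (by rw [stabA_char]; exact le_top) (by rw [stabA_self]; exact le_top) (map_subtype_le W) le_rfl
      (by rwa [relIndex, ← comap_subtype, comap_map_eq_self_of_injective E.subtype_injective]))))
  have he : ∀ x : E, x ^ p = 1 := by_contra fun he => by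
    obtain ⟨W, a, b, c, d⟩ := small h2 hk (by omega) he
    exact ch W a b c d
  have he' : ∀ x ∈ E, x ^ p = 1 := fun x hx => congrArg Subtype.val (he ⟨x, hx⟩)
  have h1 : ¬ k ≤ 1 := fun e => ch _ inferInstance le_rfl (by simp)
    ((index_dvd_card _).trans (hk ▸ (pow_dvd_pow p e).trans (pow_one p).dvd))
  by_cases h3 : k = 2
  · exact hnp (.inl ⟨h3 ▸ hk, IsPGroup.isMulCommutative_of_card_eq_prime_sq (h3 ▸ hk), he'⟩)
  obtain rfl : k = 3 := by omega
  by_cases ab : IsMulCommutative E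
  · exact main h2 ((mx_iff hp' hn (by omega)).2 hmax) h5 hF hE (le_centralizer E) hk he'
  refine hnp (.inr ⟨hk, (mx_three hp' hk ab).extra, ((Nat.dvd_prime hp').1
    (Monoid.exponent_dvd_of_forall_pow_eq_one he)).resolve_left fun e => ab ?_⟩)
  have := Monoid.exp_eq_one_iff.1 e
  infer_instance

end Cfsg.Agent.S5316
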