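import Cfsg.Statements.S5324
import Cfsg.Agent.Lib.Spor.LyF6
import Cfsg.Agent.Lib.Spor.LyF7
import Cfsg.Agent.S1702

set_option autoImplicit false
open Cfsg

namespace Cfsg.Agent.S5324

/-- For a finite group G isomorphic to the Lyons group, the 2-fusion system of G on a Sylow 2-subgroup is simple: saturated, over a nontrivial 2-group, with no normal subsystem other than the trivial one and itself. -/
theorem result {G : Type*} [Group G] [Finite G] (hG : Cfsg.Spor.IsoLy G) (S : Sylow 2 G) : (Cfsg.groupFusionSystem (S : Subgroup G)).IsSimple 2 := by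
  obtain ⟨e⟩ := hG
  obtain ⟨h1, h2⟩ := Cfsg.Agent.S1702.result
  have : Finite Cfsg.Spor.Ly := Nat.finite_of_card_ne_zero (by rw [h2]; decide)
  obtain ⟨x, h3, h4, h5⟩ := CA.LyF.elts
  exact CA.LyF.crit h3 h4 h5 (m := 202207730484375) (h2.trans (by norm_num)) (by norm_num) e.symm S

end Cfsg.Agent.S5324
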