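import Cfsg.Statements.S5331
import Cfsg.Agent.Lib.Fus.FusSs
-- import your own Cfsg.Agent.* helpers here

set_option autoImplicit false
open Cfsg

namespace Cfsg.Agent.S5331

open CA.Fus CA.AmbSyl in
/-- Let S be a finite abelian 2-group that is a direct product of cyclic groups of pairwise distinct orders 2^{a_1} < 2^{a_2} < ⋯ < 2^{a_n} (all a_i ≥ 1). Then every saturated fusion system over S is the inner one: its maps are exactly the conjugations by elements of S. -/
theorem result {Ω : Type*} [Group Ω] {S : Subgroup Ω} [Finite S] (n : ℕ) (a : Fin n → ℕ) (ha : StrictMono a) (ha1 : ∀ i, 1 ≤ a i) (e : ↥S ≃* Multiplicative ((i : Fin n) → ZMod (2 ^ a i))) (F : Cfsg.FusionSystem S) (hF : F.IsSaturated 2) (P : Subgroup Ω) : F.Hom P = (Cfsg.innerFusionSystem S).Hom P := by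
  haveI : Fact (Nat.Prime 2) := ⟨Nat.prime_two⟩
  have e' := e.trans (MulEquiv.piMultiplicative _)
  have : ∀ i, NeZero (2 ^ a i) := fun i => ⟨pow_ne_zero _ two_ne_zero⟩
  have hS : IsPGroup 2 S := .of_equiv (.of_card (n := ∑ i, a i) (by simp [Nat.card_pi, Finset.prod_pow_eq_pow_sum])) e'.symm
  have h1 := normal_of_sc_comm hS hF (sc_top F) (Subgroup.commutator_eq_bot_iff_le_centralizer.2 fun x hx y hy =>
    congrArg Subtype.val (e.injective (a₁ := ⟨y, hy⟩ * ⟨x, hx⟩) (a₂ := ⟨x, hx⟩ * ⟨y, hy⟩) (by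
      rw [map_mul, map_mul, mul_comm])))
  rw [eq_inner_of_ess hS hF fun P h => ?_]
  rcases h with rfl | h
  · exact (pg_of_pa ((pa_pi ha.injective).of_equiv e')).to_subgroup _
  · exact (not_ess_of_normal_top hS hF h1 h).elim

end Cfsg.Agent.S5331
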