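import Cfsg.Statements.S5343
import Cfsg.Agent.Lib.Fus.FusSimp
-- import your own Cfsg.Agent.* helpers here

set_option autoImplicit false
universe u
open Cfsg

namespace Cfsg.Agent.S5343

open CA.Fus CA.AmbSyl in
/-- Let F be a simple saturated fusion system over a finite p-group S that is realized by some finite group on a Sylow p-subgroup. Then F is realized by a finite simple group on a Sylow p-subgroup. -/
theorem result {Ω : Type u} [Group Ω] {S : Subgroup Ω} [Finite S] (p : ℕ) [Fact p.Prime] (hS : IsPGroup p S) (F : Cfsg.FusionSystem S) (hsimple : F.IsSimple p) (hreal : F.IsRealizable p) : ∃ (G : Type u) (_ : Group G) (_ : Finite G) (_ : IsSimpleGroup G) (ι : ↥S →* G), F.IsRealizedBy ι ∧ ∃ T : Sylow p G, (T : Subgroup G) = ι.range := by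
  obtain ⟨G, _, _, ι, h, T, hT⟩ := hreal
  generalize hn : Nat.card G = n
  induction n using Nat.strong_induction_on generalizing G with
  | _ n ih =>
  obtain ⟨j, i⟩ := rz_fIso h
  have h1 := i.simple hS hsimple
  have h2 : SylIn p ι.range ⊤ := hT ▸ sylIn_top T
  by_cases hG : IsSimpleGroup G
  · exact ⟨G, _, ‹_›, hG, ι, h, T, hT⟩
  have : Nontrivial G := by
    by_contra e
    rw [not_nontrivial_iff_subsingleton] at e
    exact h1.2.1 (Subsingleton.elim _ _)
  obtain ⟨N, hN, h3, h4⟩ : ∃ N : Subgroup G, N.Normal ∧ N ≠ ⊥ ∧ N ≠ ⊤ := by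
    by_contra! e
    exact hG ⟨fun N hN => or_iff_not_imp_left.2 (e N hN)⟩
  rw [group_eq_ofSubgroup] at h1 i
  rcases h1.2.2 _ _ (ofSub_nm h2 le_top (Subgroup.normalizer_eq_top N).ge) with e | ⟨e, e'⟩
  · obtain ⟨θ, k⟩ := (quo_ofSub h2 (homOn_hom ⊤ (QuotientGroup.mk' N))).fIso (eq_bot_iff.2 fun x hx =>
      e.le ⟨hx.1, (QuotientGroup.eq_one_iff x).1 hx.2⟩)
    have h5 := i.trans k
    have h6 : img (QuotientGroup.mk' N) ⊤ = ⊤ := by
      rw [img_hom, ← MonoidHom.range_eq_map, MonoidHom.range_eq_top.2 (QuotientGroup.mk'_surjective N)]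
    refine ih _ ?_ (G ⧸ N) _ inferInstance ((QuotientGroup.mk' N).comp ι) (rz_of_fIso (T := img (QuotientGroup.mk' N) ι.range) (j' := fun z => j (θ z))
      (j := fun x => QuotientGroup.mk' N (ext ι x)) ?_ fun x => by simp [ext_of_mem ι x.2])
      (T.mapSurjective (QuotientGroup.mk'_surjective N)) (by rw [Sylow.coe_mapSurjective, hT, MonoidHom.range_comp]) rfl
    · rw [← hn, Subgroup.card_eq_card_quotient_mul_card_subgroup N]
      exact lt_mul_of_one_lt_right Nat.card_pos ((Subgroup.one_lt_card_iff_ne_bot N).2 h3)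
    · rw [group_eq_ofSubgroup]
      revert h5
      generalize img_mono (QuotientGroup.mk' N) h2.le = h7
      revert h7
      rw [h6]
      exact fun _ h => h
  · have h5 : ι.range ≤ N := inf_eq_left.1 e
    refine ih _ ?_ N _ inferInstance (ι.codRestrict N fun x => h5 ⟨x, rfl⟩) ⟨fun x y e => h.1 (congrArg Subtype.val e), fun P hP φ hφ =>
      (h.2 P hP φ hφ).trans ⟨fun ⟨g, hg⟩ => ?_, fun ⟨g, hg⟩ => ⟨g, fun x => congrArg Subtype.val (hg x)⟩⟩⟩
      (T.subtype (hT ▸ h5)) (by
        ext x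
        rw [Sylow.coe_subtype, Subgroup.mem_subgroupOf, hT]
        exact exists_congr fun y => ⟨fun e => Subtype.ext e, fun e => congrArg Subtype.val e⟩) rfl
    · rw [← hn]
      exact lt_of_le_of_ne (Subgroup.card_le_card_group N) fun e => h4 (Subgroup.eq_top_of_card_eq N e)
    · obtain ⟨-, -, m, hm, h6⟩ := (mor_ofSubgroup _).1 ((hom_eq_iff.1 (e' ((P.subgroupOf S).map ι)) (cj g)).2
        (mor_ofSub_cj trivial (Subgroup.map_le_range _ _) (by
          rintro _ ⟨x, hx, rfl⟩
          exact ⟨_, hg ⟨x, hx⟩⟩)))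
      exact ⟨⟨m, hm⟩, fun x => Subtype.ext ((hg x).trans (h6 _ ⟨⟨x, hP x.2⟩, x.2, rfl⟩))⟩

end Cfsg.Agent.S5343
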