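import Cfsg.Statements.S5472
import Cfsg.Agent.Lib.Fi.OutI

set_option autoImplicit false
open Cfsg

namespace Cfsg.Agent.S5472

/-- Let G be a finite group with trivial centre generated by a conjugation-invariant set D of 3-transpositions on which it acts primitively, such that for some d in D the subgroup generated by the members of D other than d commuting with d has central largest normal 2- and 3-subgroups, and suppose G with D is of type M(22). Then G has a non-inner automorphism s of order 2 whose fixed-point subgroup is isomorphic to the full automorphism group of Ω⁺(8, 2) (the commutator subgroup of the isometry group of the hyperbolic quadratic form in dimension 8 over the field with two elements), together with distinct commuting members a, b of D fixed by s such that: s, s composed with conjugation by a, and s composed with conjugation by a b represent the three classes (under the automorphism group) of non-inner automorphisms of order 2; the elements fixed by the automorphism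 s composed with conjugation by a are exactly those fixed by s and commuting with a, and they form a group isomorphic to the direct product of a group of order 2 and the symplectic group of dimension 6 over the field with two elements; and the elements fixed by the automorphism s composed with conjugation by a b form a group whose largest normal 2-subgroup is elementary abelian of order 64 with quotient isomorphic to the full isometry group of the elliptic quadratic form in dimension 6 over the field with two elements. -/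
theorem result {G : Type*} [Group G] [Finite G] {D : Set G} (hD : Cfsg.IsThreeTranspositionGroup D) (hprim : Cfsg.IsPrimitiveUnderConj D) (d₀ : G) (hd₀ : d₀ ∈ D) (h3 : Cfsg.pCore 3 ↥(Subgroup.closure {y : G | y ∈ D ∧ y ≠ d₀ ∧ Commute d₀ y}) ≤ Subgroup.center ↥(Subgroup.closure {y : G | y ∈ D ∧ y ≠ d₀ ∧ Commute d₀ y})) (h2 : Cfsg.pCore 2 ↥(Subgroup.closure {y : G | y ∈ D ∧ y ≠ d₀ ∧ Commute d₀ y}) ≤ Subgroup.center ↥(Subgroup.closure {y : G | y ∈ D ∧ y ≠ d₀ ∧ Commute d₀ y})) (h22 : Cfsg.IsOfTypeM22 G D) : ∃ (s : MulAut G) (a b : G) (Cs : Subgroup G), orderOf s = 2 ∧ s ∉ (MulAut.conj : G →* MulAut G).range ∧ (∀ g : G, g ∈ Cs ↔ s g = g) ∧ Nonempty (↥Cs ≃* MulAut (Cfsg.Omega (ZMod 2) (Cfsg.quadFormPlus 4 (ZMod 2)))) ∧ a ∈ D ∧ b ∈ D ∧ a ≠ b ∧ Commute a b ∧ s a = a ∧ s b = b ∧ (∀ t : MulAut G, orderOf t = 2 → t ∉ (MulAut.conj : G →* MulAut G).range → (IsConj t s ∨ IsConj t (s * MulAut.conj a) ∨ IsConj t (s * MulAut.conj (a * b)))) ∧ ¬ IsConj s (s * MulAut.conj a) ∧ ¬ IsConj s (s * MulAut.conj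 (a * b)) ∧ ¬ IsConj (s * MulAut.conj a) (s * MulAut.conj (a * b)) ∧ (∀ g : G, (s * MulAut.conj a) g = g ↔ g ∈ Cs ⊓ Subgroup.centralizer ({a} : Set G)) ∧ Nonempty (↥(Cs ⊓ Subgroup.centralizer ({a} : Set G)) ≃* Multiplicative (ZMod 2) × Cfsg.PSp 3 (ZMod 2)) ∧ ∃ Csab O : Subgroup G, (∀ g : G, g ∈ Csab ↔ (s * MulAut.conj (a * b)) g = g) ∧ O = (Cfsg.pCore 2 ↥Csab).map Csab.subtype ∧ Cfsg.IsElementaryAbelian 2 O ∧ Nat.card O = 64 ∧ ∃ _ : (O.subgroupOf Csab).Normal, Nonempty (↥Csab ⧸ O.subgroupOf Csab ≃* Cfsg.isometryGroup (ZMod 2) (Cfsg.quadFormMinus 2 (ZMod 2) 1 1)) := by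
  obtain ⟨M⟩ := CA.Fi.T22 hD h22
  obtain ⟨A⟩ := CA.Fi.exists_AM M
  have p := CA.Fi.pf22c M
  have e0 := CA.OutI.ev_s A (w := []) rfl
  have e1 := CA.OutI.ev_s A (w := [0]) (by decide +kernel)
  have e2 := CA.OutI.ev_s A (w := [0,4]) (by decide +kernel)
  have ho := CA.OutI.outer A (w := []) rfl
  have ea := CA.C2B.pa M
  have eb := CA.C2B.pac M
  have es : CA.CWord.ev A.γ [28] = A.γ 14 := CA.CWord.ev_gen _ 14
  rw [← es] at e1 e2
  have hs := A.sigma
  have f4 : M.e [4] = M.e [2,0,4,2] * M.γ 0 * (M.e [2,0,4,2])⁻¹ := by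
    rw [← M.t_p, ← mul_right_inj (M.e [0]), ← ea, eb]; simp [ea]
  rw [← es] at hs
  refine ⟨CA.CWord.ev A.γ [28], _, _, CA.UB.Fx _, orderOf_eq_prime ((CA.CWord.ev_wpow _ _ _).symm.trans
    (CA.Fi.sat_of_inj A.inj A.hγ (CA.Fi.satA (R := [(CA.CWord.wpow [28] 2, [])]) (by decide +kernel)) _ (.head _)))
    (fun h => ho (h ▸ one_mem _)), ho, fun _ => Iff.rfl, CA.OutI.cs_iso A, M.t_mem (M.p []), M.t_mem (M.p [2,0,4,2]),
    by simpa using p.1, p.2.2.2.1 _ (by simp) _ (by simp), CA.OutI.le_cs A (ea ▸ CA.CWord.mem_grp _ (by decide)),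
    CA.OutI.le_cs A ((M.t_p _).symm ▸ f4 ▸ CA.CWord.mem_grp _ (by decide)), ?_⟩
  rw [eb, ea, ← e1, ← e2]
  refine ⟨fun t h1 h2 => ?_, CA.UB.not_conj A (by decide +kernel), CA.UB.not_conj A (by decide +kernel),
    CA.UB.not_conj A (by decide +kernel), CA.OutI.csa A, CA.OutI.csa_iso A, ?_⟩
  · have k : ∀ {x : G}, ¬ IsConj (MulAut.conj x) t := fun h => by
      obtain ⟨c, rfl⟩ := isConj_iff.1 h
      exact h2 ((inferInstance : (Inn G).Normal).conj_mem _ ⟨_, rfl⟩ c)
    rw [e1, e2]
    rcases CA.Fi.ainv22 M hs (h1 ▸ pow_orderOf_eq_one t) with rfl | h | h | h | h | h | h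
    exacts [absurd (one_mem _) h2, absurd h k, absurd h k, absurd h k, .inl h.symm, .inr (.inl h.symm),
      .inr (.inr h.symm)]
  · obtain ⟨E, h⟩ := CA.OutI.csac A
    exact ⟨_, E, fun _ => Iff.rfl, h⟩

end Cfsg.Agent.S5472
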