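import Cfsg.Statements.S5522
import Cfsg.Agent.Lib.Spor.M24Iso
import Cfsg.Agent.Lib.Spor.CGLin2

set_option autoImplicit false
open Cfsg

namespace Cfsg.Agent.S5522

open Cfsg CA.NatBits CA.OrbBfs CA.CGroup CA.CGConstr CA.CGParts CA.CGCert CA.CGRank CA.CGDec CA.Perm24 CA.Golay
open CA.M24Core CA.M24Sub CA.M24Tools MulAction
open scoped Pointwise
open CA.M24St2 CA.M24Syl CA.M24Cls CA.CGIso CA.CGLin CA.CGLin2 CA.M24Iso
set_option maxRecDepth 100000

/-- fixes a point outside the dodecad -/
noncomputable def fo (c : ℕ) : Bool := anyL (List.range 24) fun i => !(tb D0 i) && Nat.beq (ap8 c i) i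

theorem key {g : M24} (h : ∃ k ∈ stabilizer M24 (ds D0) ⊓ stabilizer M24 (some 0 : GolayPt), ∃ c,
    mG.R c (k * g * k⁻¹) ∧ fo c = true) : ∃ x, x ∉ ds D0 ∧ g • x = x := by
  obtain ⟨k, hk, c, h1, h2⟩ := h
  obtain ⟨i, hi, h3⟩ := anyL_iff.1 h2
  rw [Bool.and_eq_true, beq_iff, Bool.not_eq_true'] at h3
  have h4 : gix (gpt i) = i := gE.ix_pt i (List.mem_range.1 hi)
  refine ⟨k⁻¹ • gpt i, ?_, ?_⟩
  · rw [← Finset.smul_mem_smul_finset_iff k, smul_inv_smul, show k • ds D0 = ds D0 from hk.1, mem_ds', h4, h3.1]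
    simp
  · have h5 : (k * g * k⁻¹) • gpt i = gpt i := gE.ix_inj ((R_pt h1 _).trans (by rw [h4, h3.2]; exact h4.symm))
    rwa [mul_smul, mul_smul, smul_eq_iff_eq_inv_smul] at h5

/-- The Mathieu group M₁₁, realised as the stabiliser of one point of the dodecad of squares inside the stabiliser M₁₂ of that dodecad in M₂₄, acts on the twelve coordinate positions outside the dodecad of squares (its 3-transitive action of degree 12); in this action every element of prime order fixes a point, i.e. the action is elusive. -/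
theorem result (g : Equiv.Perm Cfsg.GolayPt) (hg : g ∈ Cfsg.Spor.M11) (hord : (orderOf g).Prime) :
    ∃ x : Cfsg.GolayPt, x ∉ Cfsg.Spor.squareDodecad ∧ g x = x := by
  rw [← map11] at hg
  obtain ⟨g, hg, rfl⟩ := hg
  rw [squareDodecad_eq]
  have h1 : g ^ orderOf (g : Equiv.Perm GolayPt) ^ 1 = 1 := by rw [pow_one, Subgroup.orderOf_coe, pow_orderOf_eq_one]
  have h2 : orderOf (g : Equiv.Perm GolayPt) ∣ 2 ^ 4 * 3 ^ 2 * 5 * 11 := by
    rw [Subgroup.orderOf_coe, show 2 ^ 4 * 3 ^ 2 * 5 * 11 = 7920 from rfl, ← st11.card]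
    exact Subgroup.orderOf_dvd_natCard _ hg
  change (orderOf (g : Equiv.Perm GolayPt)).Prime at hord
  generalize orderOf (g : Equiv.Perm GolayPt) = p at h1 h2 hord
  have h3 : p = 2 ∨ p = 3 ∨ p = 5 ∨ p = 11 := by
    simp only [hord.dvd_mul, hord.prime.dvd_pow_iff_dvd (show 4 ≠ 0 by norm_num),
      hord.prime.dvd_pow_iff_dvd (show 2 ≠ 0 by norm_num), or_assoc] at h2
    rwa [Nat.prime_dvd_prime_iff_eq hord (by norm_num), Nat.prime_dvd_prime_iff_eq hord (by norm_num),
      Nat.prime_dvd_prime_iff_eq hord (by norm_num), Nat.prime_dvd_prime_iff_eq hord (by norm_num)] at h2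
  apply key
  rcases h3 with rfl | rfl | rfl | rfl
  · exact syl_all R_inj (st11c1.inn.mono le11) hord 4 495 1 st11.card (by norm_num) fo (by decide +kernel) hg h1
  · exact syl_all R_inj (inS mPt (inS0 mSub (ok_of (l := [566070809149553710266984410835427747935035417766163251456, 271930063880928830868025931038177719629144396018806292736]) (by decide +kernel)) (sS (m := D0) (by decide)) (by decide +kernel)) (sPt (some 0)) (by decide +kernel)) hord 2 880 1 st11.card (by norm_num) fo (by decide +kernel) hg h1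
  · exact syl_all R_inj (inS mPt (inS0 mSub (ok_of (l := [344915538182256852246097411410798815291338056213604075776]) (by decide +kernel)) (sS (m := D0) (by decide)) (by decide +kernel)) (sPt (some 0)) (by decide +kernel)) hord 1 1584 1 st11.card (by norm_num) fo (by decide +kernel) hg h1
  · exact syl_all R_inj (inS mPt (inS0 mSub (ok_of (l := [173753824361352725848959192074452351822773433944071210496]) (by decide +kernel)) (sS (m := D0) (by decide)) (by decide +kernel)) (sPt (some 0)) (by decide +kernel)) hord 1 720 1 st11.card (by norm_num) fo (by decide +kernel) hg h1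

end Cfsg.Agent.S5522
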