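import Cfsg.Statements.S5529
import Cfsg.Agent.Lib.Spor.M24Max
import Cfsg.Agent.Lib.Spor.ReeCyc

set_option autoImplicit false
open Cfsg

namespace Cfsg.Agent.S5529

open Cfsg CA.NatBits CA.OrbBfs CA.CGroup CA.CGConstr CA.CGParts CA.CGCert CA.CGRank CA.CGDec CA.Perm24 CA.Golay
open CA.M24Core CA.M24Sub CA.M24Tools MulAction
open scoped Pointwise
open CA.M24St2 CA.M24Syl CA.M24Cls CA.CGIso CA.CGLin CA.CGLin2 CA.M24Iso CA.CGNorm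
set_option maxRecDepth 100000
open CA.M24Max CA.ReeCyc

theorem cyc_lab {c : ℕ} (k : ℕ) [NeZero k] (l : List ℕ) (h0 : okM [c] = true)
    (h1 : ∀ j : Fin k, ∃ p : GolayPt, Fin.ofNat k (nth 0 l (gix p)) = j)
    (h2 : ∀ p : GolayPt, nth 0 l (ap8 c (gix p)) = nth 0 l (gix p)) : Cyc GolayPt (elt c) k :=
  ⟨fun p => Fin.ofNat k (nth 0 l (gix p)), h1, fun p => by simp only [R_pt (elt_R h0), h2]⟩

/-- lower bounds for the numbers of cycles -/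
def cy (p : ℕ) : ℕ := if p = 2 then 16 else if p = 3 then 12 else if p = 5 then 8 else if p = 7 then 6 else 1

theorem cyc_of {g : M24} (hg : g • (none : GolayPt) = none) : Cyc GolayPt g (cy (orderOf g)) := by
  have h0 : (fx g).card ≠ 0 := Finset.card_ne_zero_of_mem (mem_fx.2 hg)
  unfold cy
  split_ifs with h2 h3 h5 h7
  · obtain ⟨k, rfl⟩ := conj2A h2 h0
    exact (cyc_lab 16 [0, 1, 2, 3, 4, 5, 6, 7, 8, 9, 10, 11, 8, 12, 13, 10, 4, 14, 11, 7, 9, 6, 12, 15]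
      (by decide +kernel) (by decide +kernel) (by decide +kernel)).conj k
  · obtain ⟨k, rfl⟩ := conj3A h3 h0
    exact (cyc_lab 12 [0, 1, 2, 3, 4, 5, 6, 7, 8, 9, 7, 8, 7, 8, 10, 11, 6, 10, 9, 9, 11, 6, 11, 10]
      (by decide +kernel) (by decide +kernel) (by decide +kernel)).conj k
  · obtain ⟨r, hr, k, -, rfl⟩ := cls5.of_order (by norm_num) (Subgroup.mem_top g) h5
    rw [List.mem_singleton.1 hr]
    exact (cyc_lab 8 [0, 1, 2, 2, 3, 4, 3, 3, 5, 5, 5, 3, 2, 3, 6, 6, 2, 5, 7, 6, 6, 6, 2, 5]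
      (by decide +kernel) (by decide +kernel) (by decide +kernel)).conj k
  · obtain ⟨r, hr, k, -, rfl⟩ := cls7.of_order (by norm_num) (Subgroup.mem_top g) h7
    rcases List.mem_pair.1 hr with rfl | rfl <;>
    exact (cyc_lab 6 [0, 1, 2, 3, 4, 3, 4, 3, 2, 2, 4, 2, 3, 4, 3, 3, 3, 4, 4, 2, 2, 2, 4, 5]
      (by decide +kernel) (by decide +kernel) (by decide +kernel)).conj k
  · exact cyc_one g

/-- the stabiliser of a point -/
abbrev K23 : Subgroup M24 := stabilizer M24 (none : GolayPt)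

theorem neg {x y : K23} (h : Subgroup.closure {x, y} = ⊤) :
    cy (orderOf x) + cy (orderOf y) + cy (orderOf (x * y)) ≤ 28 := by
  have h1 : ∀ g : K23, Cyc GolayPt g (cy (orderOf g)) := fun g => Subgroup.orderOf_coe g ▸ cyc_of g.2
  refine ree {none, some 0} (fun p => ?_) (h1 x) (h1 y) (h1 (x * y))
  by_cases hp : none = p
  · exact ⟨none, by simp, 1, one_mem _, hp ▸ one_smul _ _⟩
  · obtain ⟨g, h2, h3⟩ := exists_smul_pt2 (p := none) (q := some 0) (by simp) hp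
    exact ⟨some 0, by simp, ⟨g, h2⟩, h ▸ Subgroup.mem_top _, h3⟩

/-- the check for a generating pair -/
noncomputable def chk (t : ℕ × ℕ × ℕ × ℕ × ℕ × List (ℕ × List (List ℕ))) : Bool :=
  okM [t.2.2.2.1, t.2.2.2.2.1] && allL [t.2.2.2.1, t.2.2.2.2.1] (fun a => Nat.beq (ap8 a 23) 23) &&
    (Nat.beq (powC mul24 id24 t.2.2.2.1 t.1) id24 && !(Nat.beq t.2.2.2.1 id24)) &&
    (Nat.beq (powC mul24 id24 t.2.2.2.2.1 t.2.1) id24 && !(Nat.beq t.2.2.2.2.1 id24)) &&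
    force (mul24 t.2.2.2.1 t.2.2.2.2.1) (fun a => Nat.beq (powC mul24 id24 a t.2.2.1) id24 && !(Nat.beq a id24)) &&
    lowM t.2.2.2.2.2 [t.2.2.2.1, t.2.2.2.2.1] 10200960

theorem pos {p q r a b : ℕ} {L : List (ℕ × List (List ℕ))} (hp : p.Prime) (hq : q.Prime) (hr : r.Prime)
    (h : chk (p, q, r, a, b, L) = true) : ∃ x y : K23, orderOf x = p ∧ orderOf y = q ∧ orderOf (x * y) = r ∧
      Subgroup.closure {x, y} = ⊤ := by
  rw [chk, Bool.and_eq_true, Bool.and_eq_true, Bool.and_eq_true, Bool.and_eq_true, Bool.and_eq_true, force_eq] at h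
  obtain ⟨⟨⟨⟨⟨h1, h2⟩, h3⟩, h4⟩, h5⟩, h6⟩ := h
  have h7 := inS0 mPt (ok_of h1) (sPt none) (mPt_act ▸ h2)
  obtain ⟨x, hx, Rx⟩ := h7 a (by simp)
  obtain ⟨y, hy, Ry⟩ := h7 b (by simp)
  refine ⟨⟨x, hx⟩, ⟨y, hy⟩, (Subgroup.orderOf_coe _).symm.trans (orderOf_R Rx hp h3),
    (Subgroup.orderOf_coe _).symm.trans (orderOf_R Ry hq h4),
    (Subgroup.orderOf_coe _).symm.trans (orderOf_R (R_mul Rx Ry) hr h5), Subgroup.eq_top_of_le_card _ ?_⟩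
  rw [st23.card, ← Subgroup.card_map_of_injective K23.subtype_injective]
  exact le_card_of_lowM (in_cons Rx (Subgroup.mem_map.2 ⟨⟨x, hx⟩, Subgroup.subset_closure (by simp), rfl⟩)
    (in_cons Ry (Subgroup.mem_map.2 ⟨⟨y, hy⟩, Subgroup.subset_closure (by simp), rfl⟩) fun _ h => absurd h List.not_mem_nil)) L h6

/-- generating pairs -/
def tab : List (ℕ × ℕ × ℕ × ℕ × ℕ × List (ℕ × List (List ℕ))) :=
  [(2, 5, 11, 564058659024796527304309028526163608062958786210590823936, 565881855998742190832953349110793369007110234943793530891, [(0, [[3, 1, 3, 1, 2, 2, 0, 3, 3, 3, 1, 3, 3, 3], [2, 0, 3, 1]]), (1, [[3, 0], [2, 0, 3, 1, 1, 1, 3]]), (2, [[2, 1, 1, 3, 0], [1, 1, 1, 2, 1, 1]]), (3, [[1, 3, 0, 2, 2, 2, 0, 2, 2], [1, 3, 3, 0, 3], [0, 0, 2, 2, 0]]), (4, [[1, 4, 2, 1, 4]]), (5, [])]),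
  (2, 5, 23, 566070803383607711395070562939108355314272264889970591491, 565496471130328163641451001929167866131086033108861063446, [(0, [[1, 2, 1, 2, 0, 2, 1, 3, 0], [2, 1, 3, 1, 1], [3, 3, 1, 2, 2]]), (1, [[5, 1, 5, 1, 1, 4], [5, 0, 5, 2, 4]]), (2, [[1, 1, 3, 0, 3, 1, 3], [0, 2, 0, 2, 2, 2]]), (3, [[0, 2, 0, 3, 1], [1, 3, 3, 0, 2, 2, 0], [3, 1, 1, 3, 0, 3, 3, 1, 1]]), (4, [[1, 3, 1, 5, 2]]), (5, [])]),
  (2, 7, 7, 564346376065712287596606884350862597686664221026014072586, 565786079485936156707383459611352194877722292746269167361, [(0, [[2, 2, 1, 3, 3, 1, 1, 3, 1], [3, 1, 3, 1, 1, 2, 2, 2]]), (1, [[2, 2, 1, 3, 3], [1, 1, 2, 2, 2, 0]]), (2, [[3, 0, 3, 3, 0], [0, 3, 1, 1, 3, 1, 3, 3]]), (3, [[0, 2, 1, 2, 0, 2], [1, 1, 1, 3], [1, 1, 2, 1, 1, 2, 0, 3, 0]]), (4, [[1, 4, 3, 5, 1, 2, 5]]), (5, [])]),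
  (2, 7, 11, 565399592679944251168156530661838962492261935552009666816, 566066301930040332785338678042971482357179481001919906581, [(0, [[1], [2, 2, 0, 3, 0]]), (1, [[0], [3, 3, 3, 1, 2, 0, 2, 2, 2]]), (2, [[3, 0, 0, 3, 1, 2, 1, 3], [1, 2, 2, 0, 3, 1, 3, 1], [2, 2, 1, 3, 3]]), (3, [[0, 4, 0, 2, 1], [1, 2, 2, 5, 1, 5, 0, 5], [0, 2, 5, 0, 4, 2, 4]]), (4, [[4, 2, 0, 2, 0]]), (5, [])]),
  (2, 7, 23, 564247958511490217154824789356902879630331935158461137171, 566068910738695800001515079191679000975762866003656246286, [(0, [[3, 3, 1, 3, 3, 1, 3], [0, 3, 1]]), (1, [[3, 0, 2, 1, 1, 3], [1, 1, 1, 3, 0, 0]]), (2, [[1, 2, 0, 0, 0, 0, 3, 3], [0, 3, 0, 0, 2]]), (3, [[3, 3], [1, 1, 3, 1, 3, 0, 2, 0], [1, 2, 1, 3, 0, 3, 1]]), (4, [[0, 5, 0, 0, 5, 3]]), (5, [])]),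
  (2, 11, 11, 565682431228973380050426914663471383734532713192295238421, 564441382504281420841909561643153152774726369209595332621, [(0, [[3, 3, 1, 3, 1, 3, 3, 1, 3], [2, 1, 3, 3]]), (1, [[1, 2, 0, 3, 3], [0, 3]]), (2, [[2, 2, 0, 3, 1], [0, 3, 3, 1, 2, 2, 2, 2]]), (3, [[1, 1, 3, 1, 2, 1, 3], [3, 0, 0, 3, 0], [0, 2, 1, 1, 1, 1]]), (4, [[2, 0, 2]]), (5, [])]),
  (2, 11, 23, 566071532575870591430021395140833168818956913776677555466, 564916941926487077745130411745007317643666135574741320456, [(0, [[3, 0, 2], [1, 3, 3, 1, 3, 3]]), (1, [[3, 3, 0, 3, 0, 2, 1], [1]]), (2, [[0, 3, 1], [3, 0, 0, 3, 0, 3, 3, 0, 0, 0, 2], [0, 0, 2, 1, 1]]), (3, [[1, 5, 5, 0, 5], [1, 3, 3, 0], [3, 0, 5, 1, 4, 2, 1, 5, 5]]), (4, [[5, 0, 2]]), (5, [])]),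
  (2, 23, 23, 565307154162816759255483557493696386808428947331664121866, 564827505379373687494293541381256466486543802699186504971, [(0, [[1, 2, 2, 2, 1, 2, 0, 2], [1, 3, 3, 0, 2]]), (1, [[1, 2], [1, 3, 0, 3, 1, 3, 0, 2, 0, 2]]), (2, [[1, 2, 0, 0], [2, 1, 2, 2, 1]]), (3, [[1, 2, 2, 1], [1, 1, 3], [0, 0, 3, 0, 0, 2]]), (4, [[1, 2, 4, 4, 3, 5]]), (5, [])]),
  (3, 3, 11, 565307154162928790400483823944873001737025011853558943751, 565879991128629465131726727930029044686865515978611098881, [(0, [[1, 3, 3, 1], [0, 2, 0, 2, 1, 1]]), (1, [[0, 0, 0, 2, 1, 3, 0], [3, 3, 0]]), (2, [[0, 3, 1, 2], [1, 3, 1]]), (3, [[0, 2, 2, 1, 3, 1, 3], [0, 2, 2, 2, 2, 0, 3, 3, 1, 2, 1, 3, 3], [0, 0, 2, 1, 2, 0, 2]]), (4, [[4, 0, 0, 3, 4, 4]]), (5, [])]),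
  (3, 3, 23, 564154796659411655504646512438144933330843752808317129746, 564533072703913706511132613843895396514195464444736375561, [(0, [[0, 3, 1, 2, 2, 0, 0, 3, 3, 1], [2, 0, 3, 3, 3, 0, 3, 0, 3]]), (1, [[1, 3, 1, 1], [2, 1, 3, 3, 0, 0, 3, 0]]), (2, [[3, 0, 0, 2, 2], [0]]), (3, [[0, 0], [3, 0, 3, 3, 1, 2], [2, 1, 2, 1, 1, 2, 0, 3, 0]]), (4, [[1, 4, 1, 3]]), (5, [])]),
  (3, 5, 5, 564444001509284128686626436751375310015330213931541594116, 564060519482127779100225156783587586509514579593109309186, [(0, [[3, 1, 3, 3, 1], [2, 0, 2, 1, 1]]), (1, [[0, 2, 2, 0, 0], [1, 2, 2, 2]]), (2, [[1, 1, 1, 1, 2, 1], [3, 3, 0, 2, 1, 3, 0, 2]]), (3, [[3, 0, 3, 1, 1, 2, 1, 3], [0, 2, 1, 3, 0, 3], [2, 2, 1, 1, 3]]), (4, [[3, 1, 3]]), (5, [])]),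
  (3, 5, 7, 564727255067643225994133664587059586151342464163451044096, 564732474078437652415213519536840280666930161347573386251, [(0, [[1, 3, 1, 3, 3, 1, 3], [2, 0, 3, 3]]), (1, [[2, 0, 2, 2, 0], [3, 1, 1]]), (2, [[1, 3, 0, 0, 3], [3, 3, 1]]), (3, [[3, 3, 1], [2, 1, 1, 2, 1, 2, 2, 2], [1, 3, 3, 1, 3, 0]]), (4, [[1, 3, 4, 1, 2, 1]]), (5, [])]),
  (3, 5, 11, 564247590270166298242493508613458286853030215842102708246, 563964355688536948715158088446766679220013959772226524166, [(0, [[0, 3, 1], [3, 3, 3, 3, 1, 2, 1]]), (1, [[3, 1, 1], [1, 1, 2, 1, 1, 3, 1]]), (2, [[2, 1, 1, 2, 2, 0], [1, 2]]), (3, [[1, 2, 0], [0, 2, 2, 1, 1, 2], [0, 3, 0, 3]]), (4, [[3, 5, 3, 5, 3, 5, 1]]), (5, [])]),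
  (3, 5, 23, 564824886397006492226873995387862196412476180406686845451, 566072286784687628652786512359869275099881514774502310146, [(0, [[1, 2, 2, 0, 3, 1], [1, 3, 3, 3, 3, 1, 2, 1]]), (1, [[2, 2, 0, 3, 3, 1, 1], [0, 2, 2, 1, 1, 3, 1]]), (2, [[3, 0, 3, 0, 0, 2], [1]]), (3, [[0, 3, 3, 1, 1, 3], [1, 2, 0], [1, 1, 3, 1, 3, 0, 0, 2]]), (4, [[4, 2]]), (5, [])]),
  (3, 7, 7, 566068543907583810772299575090551224705091341028474814976, 564536054127201724215903157658629936247882876425366606356, [(0, [[1], [3, 1, 3, 3, 1, 2, 1]]), (1, [[3, 3, 0, 0, 3, 3, 1, 1], [3, 1, 1, 3, 1]]), (2, [[1, 2, 1, 1, 2, 1, 1, 1, 3, 3, 3], [0, 2]]), (3, [[0, 3, 1, 2], [1, 3, 0, 3, 3, 1, 1, 3, 3], [1, 1, 3, 3, 1, 1]]), (4, [[4, 1, 5, 1, 1, 2, 5]]), (5, [])]),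
  (3, 7, 11, 564636712226611398851554524086085687719252136442007260176, 564537534719837821980930285250016240263618583860774766601, [(0, [[0, 2, 1, 3, 3, 1], [0, 0, 2, 1, 1]]), (1, [[0, 3], [3, 0, 0, 2, 1, 1]]), (2, [[0, 3, 0, 2], [2, 1, 2, 1, 3, 0, 2]]), (3, [[1, 3], [1, 2, 1, 1, 2, 1, 2, 2, 0], [0, 3, 3, 0, 3, 1, 1, 1]]), (4, [[3, 0, 0, 3, 4]]), (5, [])]),
  (3, 7, 23, 564437667303941926701915634641971382888904971862103162901, 565783079029139827251688158961599239213340608382064267026, [(0, [[3, 1, 3, 1, 2, 0, 2], [1, 2, 1, 3, 0, 2]]), (1, [[1], [3, 3, 0, 2, 0, 2, 2]]), (2, [[1, 2, 1, 3], [2, 1, 2, 0, 2]]), (3, [[1, 3, 1, 3], [0, 0, 2, 2], [1, 1, 2, 2, 1, 1, 1, 3, 3]]), (4, [[5, 3, 1, 3, 4, 1, 1, 2, 5, 1]]), (5, [])]),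
  (3, 11, 11, 565396945809135455578827472490175268115218707567349992726, 566071528259539753729622781389630034745784414222749927176, [(0, [[0, 3, 0, 2, 2, 0, 2], [2, 2, 2, 1, 3, 3]]), (1, [[3, 3, 1, 2, 0, 3, 0, 2, 1], [1, 3, 3, 1]]), (2, [[1, 3, 3, 1, 2, 2], [0, 3, 0, 0, 3]]), (3, [[1, 3, 1, 1, 2, 0], [0, 2, 1, 1, 2], [3, 0, 3]]), (4, [[1, 2, 5, 3, 5, 1]]), (5, [])]),
  (3, 11, 23, 565396225283274231066185780853968658054207742236823261446, 565113357515921125061096549953502250047106386259700350981, [(0, [[0, 3, 3, 1], [1, 2, 2, 0, 2, 1, 1]]), (1, [[2], [0, 3, 1, 1]]), (2, [[0, 3, 0], [3, 3, 3, 0, 0]]), (3, [[3, 0, 0, 0, 2, 0, 3], [2, 0, 0], [2, 2, 0, 0, 0, 2, 1]]), (4, [[3, 1, 2, 4, 2, 5]]), (5, [])]),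
  (3, 23, 23, 564247581484031158097596310894748946749058233651358206741, 565686158063834910311847992775421200686914647041594754306, [(0, [[1, 2, 2, 2, 0, 2], [2, 0, 2, 1, 3, 3]]), (1, [[1, 3, 0, 2, 1], [0, 3, 3, 1]]), (2, [[1, 1, 1, 2, 2], [0, 2, 0, 3]]), (3, [[1, 3, 1, 1], [3, 1, 3, 3, 0], [3, 3]]), (4, [[0, 4]]), (5, [])]),
  (5, 5, 5, 565972004428237004551438798294841091270873533313047465991, 565877724305245770920597513511248673259546114356455343126, [(0, [[3, 3, 1], [0, 3, 3, 1, 2, 1]]), (1, [[0, 3, 3, 3, 1, 1], [1, 3, 1]]), (2, [[1, 2, 1, 1], [3, 3, 1, 3, 1]]), (3, [[1, 2, 1, 1], [0, 2, 0, 2, 0], [3, 1, 2, 2, 2, 0, 2, 2]]), (4, [[3, 5, 2, 2, 1, 4]]), (5, [])]),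
  (5, 5, 7, 563959858545238012698158981655899349029621337492559107591, 564533424971502964721725830456780596497733839561686061056, [(0, [[3], [0, 3, 0, 3, 0, 3, 1]]), (1, [[3], [0, 2, 1, 3, 0, 0]]), (2, [[1, 1], [3, 0, 3, 0, 0, 3, 0]]), (3, [[2, 0, 2, 2, 2, 2, 2, 2, 0, 0, 3, 3], [3, 1, 3, 0, 2, 2, 2, 1, 2, 2, 2, 1, 3], [2, 1, 2, 1, 2]]), (4, [[5, 0, 0, 2, 1, 2, 5]]), (5, [])]),
  (5, 5, 11, 565113369168038801010737648846391420728730585285043684881, 564157422892197913378087941234973566752944132376455024146, [(0, [[3, 3, 3, 3, 1, 3], [2, 2, 0, 0, 3, 0, 3, 0, 3, 1]]), (1, [[1, 2, 0, 2, 0, 0, 3], [3, 3]]), (2, [[1, 3, 0, 3, 0, 2], [2, 0, 0, 3, 1, 1]]), (3, [[0, 3, 0, 3, 1, 2], [2, 2], [1, 2, 1, 2, 2, 1, 3, 1, 1]]), (4, [[3, 4, 2, 4, 4, 4]]), (5, [])]),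
  (5, 5, 23, 565402959922469519565664847299985000217984657248431769616, 564062381452340185917913702568441554943449459153919676171, [(0, [[0, 0, 0, 3, 1], [1, 3, 3, 1, 2, 1]]), (1, [[0, 3, 3, 1, 1], [1, 1, 1, 3, 1]]), (2, [[0, 2, 1, 3, 0], [1, 3, 0, 3, 0]]), (3, [[0, 2, 0, 2, 2, 0, 0, 3, 1], [0, 0, 2, 1], [3, 1, 3, 3]]), (4, [[5, 1, 3]]), (5, [])]),
  (5, 7, 7, 565402588740995051752470834054726203883322153316953227276, 564059766802918497411875045295230311768180365481619228946, [(0, [[0, 0, 2], [1, 3, 1, 2, 2, 1, 2]]), (1, [[1, 3, 3], [3, 1, 2, 2, 1]]), (2, [[0, 0, 3, 1, 3, 0, 2], [1, 2, 1, 2, 0, 2]]), (3, [[3, 1, 3, 1, 2, 0], [1, 2, 0, 0, 3, 1], [2, 1, 1]]), (4, [[1, 3, 0, 3, 5, 0, 3]]), (5, [])]),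
  (5, 7, 11, 565688790159731691498531579318870770954794188211733465601, 565591899988209207185282123988200770750681433558792668176, [(0, [[1, 3, 3, 3, 1], [0, 2, 1, 1]]), (1, [[2, 2, 0, 0], [2, 1, 2, 2, 2]]), (2, [[0, 3, 1], [0, 0, 3, 3, 0, 0, 3, 0, 0]]), (3, [[1, 1, 2, 2, 1, 1, 2, 1, 3], [1, 2, 0, 3], [1, 2, 2, 2, 2, 1, 1, 3]]), (4, [[1, 3, 3, 4]]), (5, [])]),
  (5, 7, 23, 566067427292033240214103436294344264357721601618224349696, 564251322916491482777614832471666532795244448677429580556, [(0, [[1], [3, 1, 2, 1]]), (1, [[1, 3, 1, 1], [1, 1, 3, 1]]), (2, [[1, 3, 0, 2, 1, 2, 1], [2]]), (3, [[0, 3, 0, 3, 1, 2, 1, 3], [1, 2, 0, 3], [3, 3, 1, 3, 1]]), (4, [[5, 3, 3, 4, 1]]), (5, [])]),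
  (5, 11, 11, 565780471595795012349020901318214485049703106307833334806, 565874364386842145093265317746335594899096158711225320981, [(0, [[3, 1, 1, 3], [1, 3, 3, 3, 0, 3]]), (1, [[1, 3, 1, 2, 0, 3, 0], [0, 3, 1, 3, 0]]), (2, [[0, 2, 1, 2, 1], [3, 0, 2, 0, 2, 1]]), (3, [[1, 2, 1, 3, 0, 2, 0, 2], [0, 2, 0, 3, 0, 3, 3, 0, 3, 0], [1, 2, 0, 3, 1, 3, 1, 1]]), (4, [[5, 1, 5, 2]]), (5, [])]),
  (5, 11, 23, 565690278053766008318570191015282967546630748272925413376, 564537926401896556099612416120952612369646768023023456276, [(0, [[3, 3, 1, 3], [3, 1, 1, 3, 0, 3]]), (1, [[1, 3, 3, 3], [3, 0, 0, 2, 1]]), (2, [[1, 2], [0, 0, 3, 0, 2]]), (3, [[1, 1, 3, 1, 2, 1], [0, 2, 2, 0, 3, 0], [0, 0, 2]]), (4, [[5, 1, 4, 0, 5, 1, 1, 2, 5]]), (5, [])]),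
  (5, 23, 23, 565876987754027066096269540696359751816452645236802913536, 564822261517139548087198672063752787608290852720370714636, [(0, [[3, 3, 3, 3, 1, 1, 2, 1, 1, 2], [1]]), (1, [[0, 0], [1, 2, 1, 3, 0]]), (2, [[2, 1, 3, 3, 0, 2, 0, 2, 0], [1, 3, 3, 1, 2, 2, 1], [3, 1, 2]]), (3, [[5, 0, 3, 1, 4], [0, 5, 1, 5, 3], [3, 5, 1, 1, 4, 1, 1]]), (4, [[1, 2, 5, 2, 5]]), (5, [])]),
  (7, 7, 7, 564730612239241332812037550392994926318457226163661440276, 566067037019469851462284560463133543483273802489125995281, [(0, [[0, 0, 0, 2], [0, 0, 2, 2, 2, 1, 2]]), (1, [[0, 0, 3, 0, 2, 1, 3, 3], [1, 2, 2, 1]]), (2, [[1, 3, 0, 2, 0], [0, 2, 2, 2, 2, 0]]), (3, [[0, 3, 3, 3], [0, 3, 1, 2, 1, 2, 1, 1], [1, 3, 1, 3]]), (4, [[1, 5, 3, 0, 3]]), (5, [])]),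
  (7, 7, 11, 565015325808924521843163321819745946956046998973567861781, 565017187762278786915234080859509502149606481892818028821, [(0, [[0, 2, 2, 2, 2, 0, 2], [2, 2, 1, 3, 3]]), (1, [[1, 3, 0, 2, 1], [0, 0, 3, 1]]), (2, [[0, 2, 1, 1, 2, 2], [1, 2, 0, 0, 3]]), (3, [[0, 2, 1, 1], [1, 3, 1, 1, 2, 1], [0, 3, 3, 3, 1, 2, 2, 2, 0]]), (4, [[0, 5, 5, 0, 2, 1]]), (5, [])]),
  (7, 7, 23, 564349347350211981846114531001175935842576178245037525776, 565492757563383925430579530590198663092749889932238459406, [(0, [[1, 3, 1, 1, 2, 0, 2], [2, 1, 3, 0, 2]]), (1, [[1, 2], [0, 0, 3, 1, 3, 1, 3, 0, 2, 0, 2]]), (2, [[1, 2, 1, 3, 0, 2], [2]]), (3, [[3, 3, 3, 1], [3, 0, 3, 0], [0, 2, 1, 2, 2, 2, 2, 1, 3, 0]]), (4, [[1, 2]]), (5, [])]),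
  (7, 11, 11, 564725007369268239720737632447520388553535357094380766471, 564535690202053663423046592006786975459158086554644779791, [(0, [[0, 3, 3, 1, 2, 0, 2], [3, 0, 2]]), (1, [[3], [1, 3, 3, 3, 1]]), (2, [[0, 0, 0, 2], [1, 1, 3]]), (3, [[1, 3, 1, 2, 1, 3], [1, 3, 1, 2, 2, 1, 1, 1, 1], [2, 1, 1, 3, 1, 3, 1]]), (4, [[5, 5, 2]]), (5, [])]),
  (7, 11, 23, 565299675613624732525910112605696320913405026169510956821, 565019831607099723729442400791945123137819480461525978631, [(0, [[2, 1, 1], [3, 0, 2]]), (1, [[3, 0, 3, 1], [1, 1, 3, 0, 2, 0, 2, 2]]), (2, [[0, 0, 2, 2, 1, 3], [1, 1, 2, 2, 0, 2]]), (3, [[1, 3, 3, 0, 3, 1, 3], [0, 0, 2, 2], [3, 1, 3, 3]]), (4, [[0, 2, 0, 3, 3]]), (5, [])]),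
  (7, 23, 23, 565880717517444496955728398877940696505222685400605851906, 564057147860671742359083091598114539916852782906246304781, [(0, [[3, 1, 1, 2, 0, 2], [0, 3, 3, 0, 2]]), (1, [[1, 2, 0, 0, 0, 0, 3], [3, 1, 3, 1]]), (2, [[1, 2, 0, 0, 2, 2], [2, 0, 2]]), (3, [[1, 1, 1, 3], [1, 3, 1, 3, 0, 0, 3, 0], [1, 1, 2, 1, 2, 2, 0]]), (4, [[0, 3, 5, 5, 5]]), (5, [])]),
  (11, 11, 11, 564250220978779011867447901127376231366525696051385731081, 565205038975265201935572888503199840898659155414336143626, [(0, [[1, 3, 1, 1], [2, 2, 0, 2]]), (1, [[1, 3, 0, 2, 0, 2, 2], [3, 1, 2, 2, 2, 2, 0]]), (2, [[0, 3, 1, 3, 1, 2], [1, 2, 0, 0, 3, 1]]), (3, [[3, 3, 0, 3, 3, 1], [0, 3, 3, 3, 0, 3, 1], [1, 3, 0, 3, 1, 3]]), (4, [[4, 1, 3, 0, 5]]), (5, [])]),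
  (11, 11, 23, 564828246388868084023893660178637387768245998226336121616, 565496101427571860316335103931589586219082164461136512271, [(0, [[0, 2, 1, 1, 1], [1, 2, 0, 2, 2, 0, 2]]), (1, [[0, 2, 1], [2, 0, 0, 0, 0]]), (2, [[0, 3, 1, 2, 0, 2], [3, 1, 2, 1]]), (3, [[0, 3, 3, 1, 1, 1, 3], [0, 3, 0, 0, 0, 3, 0], [0, 3, 1, 2, 2, 0]]), (4, [[0, 3, 5, 5, 5]]), (5, [])]),
  (11, 23, 23, 565877348796334004547066375907085301990784369660071838731, 565012709738121976482031788460872244849972885732906177296, [(0, [[1, 2, 1, 2, 1, 3], [3, 0, 0, 0]]), (1, [[1, 2, 2, 2, 1, 2], [3, 1, 1, 1, 3, 3]]), (2, [[0, 3, 3, 1, 2, 2], [0, 3, 3, 0, 2]]), (3, [[3, 0, 3, 0], [1, 1, 3, 1, 2, 2], [0, 2, 1]]), (4, [[5]]), (5, [])]),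
  (23, 23, 23, 565016841489196736578065640173008836884459839562159555591, 564535688751746484323047643039259809138165860063485889806, [(0, [[0, 0, 2, 1, 2, 0, 2], [1, 2, 1, 3, 0, 2]]), (1, [[0, 0, 3], [1, 1, 2, 2, 2, 1]]), (2, [[1, 3, 0, 3, 3, 0], [3, 1, 3, 0, 0]]), (3, [[3, 0, 2, 2, 1], [1, 1, 3, 3, 0], [1, 1, 1, 3, 1]]), (4, [[5, 2, 5, 1, 2]]), (5, [])])]

theorem chk_tab : allL tab chk = true := by decide +kernel

theorem cases_tab : ∀ p ∈ [2, 3, 5, 7, 11, 23], ∀ q ∈ [2, 3, 5, 7, 11, 23], ∀ r ∈ [2, 3, 5, 7, 11, 23], p ≤ q → q ≤ r →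
    ¬ (p = 2 ∧ q = 2) → ¬ ((p = 2 ∧ q = 3) ∨ (p = 2 ∧ q = 5 ∧ r = 5) ∨ (p = 2 ∧ q = 5 ∧ r = 7) ∨
      (p = 3 ∧ q = 3 ∧ r ≤ 7)) → ∃ t ∈ tab, t.1 = p ∧ t.2.1 = q ∧ t.2.2.1 = r := by decide +kernel

theorem cases_neg : ∀ p ∈ [2, 3, 5, 7, 11, 23], ∀ q ∈ [2, 3, 5, 7, 11, 23], ∀ r ∈ [2, 3, 5, 7, 11, 23], q ≤ r →
    cy p + cy q + cy r ≤ 28 → ¬ ((p = 2 ∧ q = 3) ∨ (p = 2 ∧ q = 5 ∧ r = 5) ∨ (p = 2 ∧ q = 5 ∧ r = 7) ∨
      (p = 3 ∧ q = 3 ∧ r ≤ 7)) := by decide +kernel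

theorem primes {p : ℕ} (hp : p.Prime) (h : p ∣ 10200960) : p ∈ [2, 3, 5, 7, 11, 23] := by
  have h1 : p ∈ Nat.primeFactorsList 10200960 := (Nat.mem_primeFactorsList (by norm_num)).2 ⟨hp, h⟩
  simp only [Nat.primeFactorsList_ofNat, List.mem_cons, List.not_mem_nil] at h1 ⊢
  tauto

/-- Generation of the Mathieu group M₂₃ (the stabiliser of a point in the Mathieu group M₂₄ acting on 24 points) by triples of prime orders. Let p ≤ q ≤ r be primes dividing |M₂₃| = 10200960 = 2⁷·3²·5·7·11·23, not both p and q equal to 2. Then M₂₃ contains elements x, y, z of orders p, q, r with xyz = 1 and ⟨x, y⟩ = M₂₃ if and only if (p, q, r) is none of: (2, 3, r) for any r, (2, 5, 5), (2, 5, 7), (3, 3, 3), (3, 3, 5), (3, 3, 7). -/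
theorem result (p q r : ℕ) (hp : p.Prime) (hq : q.Prime)
    (hr : r.Prime) (hpq : p ≤ q) (hqr : q ≤ r) (hp2 : ¬ (p = 2 ∧ q = 2))
    (hdvd : p ∣ 10200960 ∧ q ∣ 10200960 ∧ r ∣ 10200960) :
    (∃ x y z : Cfsg.Spor.M23, orderOf x = p ∧ orderOf y = q ∧ orderOf z = r ∧ x * y * z = 1 ∧
        Subgroup.closure {x, y} = ⊤) ↔
      ¬ ((p = 2 ∧ q = 3) ∨ (p = 2 ∧ q = 5 ∧ r = 5) ∨ (p = 2 ∧ q = 5 ∧ r = 7) ∨ (p = 3 ∧ q = 3 ∧ r ≤ 7)) := by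
  have e := eqv map23
  have h1 := primes hp hdvd.1
  have h2 := primes hq hdvd.2.1
  have h3 := primes hr hdvd.2.2
  have key : ∀ {Γ Γ' : Type} [Group Γ] [Group Γ'] (f : Γ ≃* Γ') {x y : Γ}, Subgroup.closure {x, y} = ⊤ →
      Subgroup.closure {f x, f y} = ⊤ := fun f x y h => by
    have := congrArg (Subgroup.map f.toMonoidHom) h
    rwa [MonoidHom.map_closure, Set.image_pair, Subgroup.map_top_of_surjective _ f.surjective] at this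
  refine ⟨fun ⟨x, y, z, hx, hy, hz, h4, h5⟩ => cases_neg p h1 q h2 r h3 hqr ?_, fun h => ?_⟩
  · have h6 := neg (key e.symm h5)
    rwa [← map_mul, MulEquiv.orderOf_eq, MulEquiv.orderOf_eq, MulEquiv.orderOf_eq, eq_inv_of_mul_eq_one_left h4,
      orderOf_inv, hx, hy, hz] at h6
  · obtain ⟨⟨p', q', r', a, b, L⟩, ht, rfl, rfl, rfl⟩ := cases_tab p h1 q h2 r h3 hpq hqr hp2 h
    obtain ⟨x, y, hx, hy, hz, h5⟩ := pos hp hq hr (allL_iff.1 chk_tab _ ht)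
    exact ⟨e x, e y, (e (x * y))⁻¹, (e.orderOf_eq x).trans hx, (e.orderOf_eq y).trans hy,
      (orderOf_inv _).trans ((e.orderOf_eq _).trans hz), by rw [map_mul, mul_inv_cancel], key e h5⟩

end Cfsg.Agent.S5529
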