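import Cfsg.Statements.S5726
import Mathlib
import Cfsg.Agent.Lib.Perm.PermMulti

set_option autoImplicit false
open Cfsg

namespace Cfsg.Agent.S5726

open MulAction CA.PermBasic CA.PermMulti

/-- If a finite group acts faithfully and transitively on a set with p^k elements, p a prime and k ≥ 1, then some element of order p fixes no point. -/
theorem result {G Ω : Type*} [Group G] [Finite G] [MulAction G Ω] [FaithfulSMul G Ω] [Fintype Ω] (htr : MulAction.IsPretransitive G Ω)
    (p k : ℕ) (hp : p.Prime) (hk : 1 ≤ k) (hΩ : Fintype.card Ω = p ^ k) :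
    ∃ g : G, orderOf g = p ∧ ∀ ω : Ω, g • ω ≠ ω := by
  have := Fact.mk hp
  obtain ⟨P⟩ : Nonempty (Sylow p G) := inferInstance
  have hne : Nonempty Ω := Fintype.card_pos_iff.1 (by rw [hΩ]; exact pow_pos hp.pos k)
  obtain ⟨a⟩ := hne
  have hPt : IsPretransitive (P : Subgroup G) Ω := by
    rw [isPretransitive_iff_orbit_eq_univ a]
    have ht : IsPretransitive (⊤ : Subgroup G) Ω := by
      rw [subgroup_pretransitive_iff]
      exact fun a b => let ⟨g, hg⟩ := exists_smul_eq G a b; ⟨g, trivial, hg⟩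
    have h := pow_dvd_card_orbit (isSylowIn_top P) a (k := k) (by
      rw [orbit_eq_univ, Nat.card_coe_set_eq, Set.ncard_univ, Nat.card_eq_fintype_card, hΩ])
    rw [Nat.card_coe_set_eq] at h
    apply Set.eq_of_subset_of_ncard_le (Set.subset_univ _)
    rw [Set.ncard_univ, Nat.card_eq_fintype_card, hΩ]
    exact Nat.le_of_dvd ((Set.ncard_pos).2 ⟨a, mem_orbit_self a⟩) h
  have hnt : Nontrivial (P : Subgroup G) := by
    have h1 : 1 < Fintype.card Ω := by rw [hΩ]; exact Nat.one_lt_pow (by omega) hp.one_lt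
    obtain ⟨b, hb⟩ := Fintype.exists_ne_of_one_lt_card h1 a
    obtain ⟨g, hg⟩ := exists_smul_eq (P : Subgroup G) a b
    exact ⟨g, 1, by rintro rfl; exact hb (by simpa using hg.symm)⟩
  have := P.isPGroup'.center_nontrivial
  have hZ : IsPGroup p (Subgroup.center (P : Subgroup G)) := P.isPGroup'.to_subgroup _
  obtain ⟨n, hn0, hn⟩ := (hZ.nontrivial_iff_card).1 inferInstance
  obtain ⟨z, hz⟩ := exists_prime_orderOf_dvd_card' (G := Subgroup.center (P : Subgroup G)) p
    (by rw [hn]; exact dvd_pow_self p hn0.ne')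
  refine ⟨((z : (P : Subgroup G)) : G), by rw [Subgroup.orderOf_coe, Subgroup.orderOf_coe, hz], fun ω hω => ?_⟩
  have : ((z : (P : Subgroup G)) : G) = 1 := eq_one_of_commute_of_fix (P : Subgroup G) hPt
    (fun n hn => congrArg Subtype.val (Subgroup.mem_center_iff.1 z.2 ⟨n, hn⟩)) hω
  have : z = 1 := Subtype.ext (Subtype.ext this)
  rw [this, orderOf_one] at hz
  exact hp.one_lt.ne hz

end Cfsg.Agent.S5726
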