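import Cfsg.Statements.S5727
import Mathlib
import Cfsg.Agent.Lib.Perm.PermMulti
import Cfsg.Agent.S5726

set_option autoImplicit false
open Cfsg

namespace Cfsg.Agent.S5727

open MulAction CA.PermBasic CA.PermMulti

/-- If a finite group acts faithfully and transitively on a set with m·p elements, where p is a prime and 1 ≤ m ≤ p, then some element of order p fixes no point. -/
theorem result {G Ω : Type*} [Group G] [Finite G] [MulAction G Ω] [FaithfulSMul G Ω] [Fintype Ω] (htr : MulAction.IsPretransitive G Ω)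
    (p m : ℕ) (hp : p.Prime) (hm : 1 ≤ m) (hmp : m ≤ p) (hΩ : Fintype.card Ω = m * p) :
    ∃ g : G, orderOf g = p ∧ ∀ ω : Ω, g • ω ≠ ω := by
  classical
  rcases hmp.eq_or_lt with rfl | hlt
  · exact Cfsg.Agent.S5726.result htr m 2 hp (by norm_num) (by rw [hΩ, pow_two])
  have := Fact.mk hp
  obtain ⟨P⟩ : Nonempty (Sylow p G) := inferInstance
  have ht : IsPretransitive (⊤ : Subgroup G) Ω := by
    rw [subgroup_pretransitive_iff]
    exact fun a b => let ⟨g, hg⟩ := exists_smul_eq G a b; ⟨g, trivial, hg⟩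
  have horb : ∀ a : Ω, p ≤ Nat.card (orbit (P : Subgroup G) a) := by
    intro a
    have h := pow_dvd_card_orbit (isSylowIn_top P) a (k := 1) (by
      rw [orbit_eq_univ, Nat.card_coe_set_eq, Set.ncard_univ, Nat.card_eq_fintype_card, hΩ, pow_one]
      exact Dvd.intro_left _ rfl)
    rw [pow_one] at h
    have : Nonempty (orbit (P : Subgroup G) a) := ⟨⟨a, mem_orbit_self a⟩⟩
    exact Nat.le_of_dvd Nat.card_pos h
  have := Fintype.ofFinite (P : Subgroup G)
  have := Fintype.ofFinite (orbitRel.Quotient (P : Subgroup G) Ω)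
  have hcount : Nat.card (orbitRel.Quotient (P : Subgroup G) Ω) * p ≤ m * p := by
    rw [← hΩ, ← Nat.card_eq_fintype_card, Nat.card_congr (selfEquivSigmaOrbits' (P : Subgroup G) Ω),
      Nat.card_sigma, Nat.card_eq_fintype_card, ← Finset.card_univ, ← smul_eq_mul]
    apply Finset.card_nsmul_le_sum
    intro ω _
    induction ω using Quotient.inductionOn' with | h a => exact horb a
  have hex : ∃ g : (P : Subgroup G), ∀ ω : Ω, g • ω ≠ ω := by
    by_contra hcon
    push Not at hcon
    have h1 : ∀ g : (P : Subgroup G), p ≤ Nat.card (fixedBy Ω g) := by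
      intro g
      obtain ⟨k, hk⟩ := P.isPGroup' g
      have h := ncard_modEq_fixedBy hk (Set.univ : Set Ω) Set.finite_univ (fun _ _ => trivial)
      rw [Set.ncard_univ, Nat.card_eq_fintype_card, hΩ] at h
      have h2 : p ∣ {x ∈ (Set.univ : Set Ω) | g • x = x}.ncard :=
        (Nat.modEq_zero_iff_dvd).1 (h.symm.trans ((Nat.modEq_zero_iff_dvd).2 (Dvd.intro_left _ rfl)))
      have e : {x ∈ (Set.univ : Set Ω) | g • x = x} = fixedBy Ω g := by ext; simp
      rw [e] at h2
      obtain ⟨ω, hω⟩ := hcon g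
      exact Nat.le_of_dvd ((Set.ncard_pos).2 ⟨ω, hω⟩) h2
    have h2 := sum_card_fixedBy (G := (P : Subgroup G)) (X := Ω)
    have h3 : (Finset.univ : Finset (P : Subgroup G)).card • p ≤ _ :=
      Finset.card_nsmul_le_sum _ _ _ (fun g _ => h1 g)
    rw [h2, Finset.card_univ, smul_eq_mul, ← Nat.card_eq_fintype_card, mul_comm] at h3
    have h4 := Nat.le_of_mul_le_mul_right h3 Nat.card_pos
    have h5 := Nat.le_of_mul_le_mul_right hcount hp.pos
    omega
  obtain ⟨g, hg⟩ := hex
  have hne : Nonempty Ω := Fintype.card_pos_iff.1 (by rw [hΩ]; exact Nat.mul_pos hm hp.pos)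
  obtain ⟨a⟩ := hne
  refine ⟨g, orderOf_eq_prime ?_ (fun e => hg a (by show (g : G) • a = a; rw [e, one_smul])), hg⟩
  apply eq_one_of_forall_smul (X := Ω)
  intro x
  rw [pow_smul_eq_iff_period_dvd]
  obtain ⟨k, hk⟩ := P.isPGroup' g
  have h1 : period (g : G) x ∣ p ^ k := by
    rw [← pow_smul_eq_iff_period_dvd, ← Subgroup.coe_pow, hk]; simp
  obtain ⟨j, -, hj⟩ := (Nat.dvd_prime_pow hp).1 h1
  have h2 : period (g : G) x ≤ Fintype.card Ω := Function.minimalPeriod_le_card
  rw [hj] at h2 ⊢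
  have h3 : p ^ j < p ^ 2 := by rw [pow_two]; nlinarith [hp.pos]
  have h4 := (Nat.pow_lt_pow_iff_right hp.one_lt).1 h3
  interval_cases j <;> simp

end Cfsg.Agent.S5727
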