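import Cfsg.Statements.S5728


set_option autoImplicit false
open Cfsg

namespace Cfsg.Agent.S5728

/-- An elusive transitive action. Let p = 2^s − 1 be a prime and let F be the field with p² elements. Inside the group of affine maps x ↦ a·x + b of F (a ≠ 0), consider the subgroup of maps with both coefficients in the prime field. Then every element of prime order of the affine group is conjugate, within the affine group, to an element of that subgroup; equivalently, in the transitive action of the affine group on the cosets of that subgroup (of degree p(p + 1)) every element of prime order fixes a point. -/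
theorem result (p s : ℕ) [Fact p.Prime] (hs : p = 2 ^ s - 1)
    (g : Equiv.Perm (GaloisField p 2)) (hg : g ∈ Cfsg.affineGroup (GaloisField p 2)) (hord : (orderOf g).Prime) :
    ∃ x ∈ Cfsg.affineGroup (GaloisField p 2), ∃ a b : ZMod p, a ≠ 0 ∧
      ∀ y : GaloisField p 2, (x * g * x⁻¹) y = algebraMap (ZMod p) (GaloisField p 2) a * y + algebraMap (ZMod p) (GaloisField p 2) b := by
  have hp : p.Prime := Fact.out
  obtain ⟨a, b, hab⟩ := hg
  by_cases ha : a = 1
  · subst ha
    have hb : b ≠ 0 := by
      rintro rfl
      have : g = 1 := Equiv.ext fun x => by simp [hab]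
      rw [this, orderOf_one] at hord
      exact Nat.not_prime_one hord
    refine ⟨Equiv.mulLeft₀ b⁻¹ (inv_ne_zero hb), ⟨Units.mk0 b⁻¹ (inv_ne_zero hb), 0, fun x => by simp⟩,
      1, 1, one_ne_zero, fun y => ?_⟩
    obtain ⟨z, rfl⟩ := (Equiv.mulLeft₀ b⁻¹ (inv_ne_zero hb)).surjective y
    simp [hab, mul_add, hb]
  · have ha' : (1 : GaloisField p 2) - a ≠ 0 := fun h => ha (Units.ext (sub_eq_zero.1 h).symm)
    set c : GaloisField p 2 := b / (1 - a) with hc
    have hfix : ∀ x, g (x + c) = a * x + c := fun x => by
      rw [hab, hc]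
      field_simp
      ring
    have hpow : ∀ n : ℕ, ∀ x, (g ^ n) (x + c) = a ^ n * x + c := by
      intro n
      induction n with
      | zero => simp
      | succ n ih => intro x; rw [pow_succ', Equiv.Perm.mul_apply, ih, hfix]; ring
    have hr : (a : GaloisField p 2) ^ orderOf g = 1 := by
      have := hpow (orderOf g) 1
      rw [pow_orderOf_eq_one] at this
      simpa using this.symm
    have hoa : orderOf (a : GaloisField p 2) = orderOf g := by
      refine ((Nat.dvd_prime hord).1 (orderOf_dvd_of_pow_eq_one hr)).resolve_left fun h => ?_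
      exact ha (Units.ext (orderOf_eq_one_iff.1 h))
    have h2 : 2 ≤ p := hp.two_le
    have hs' : p + 1 = 2 ^ s := by
      have := Nat.one_le_two_pow (n := s)
      omega
    have hd : orderOf g ∣ p - 1 := by
      have : Fintype (GaloisField p 2) := Fintype.ofFinite _
      have h1 := FiniteField.pow_card_sub_one_eq_one (a : GaloisField p 2) a.ne_zero
      rw [← Nat.card_eq_fintype_card, GaloisField.card p 2 two_ne_zero] at h1
      have h3 := orderOf_dvd_of_pow_eq_one h1
      rw [hoa, show p ^ 2 - 1 = (p + 1) * (p - 1) by simpa using Nat.sq_sub_sq p 1] at h3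
      refine ((Nat.Prime.dvd_mul hord).1 h3).elim (fun h => ?_) id
      rw [hs'] at h
      have e : orderOf g = 2 :=
        (Nat.prime_dvd_prime_iff_eq hord Nat.prime_two).1 (hord.dvd_of_dvd_pow h)
      rw [e] at h ⊢
      omega
    have hap : (a : GaloisField p 2) ^ p = a := by
      have : (a : GaloisField p 2) ^ (p - 1) = 1 := orderOf_dvd_iff_pow_eq_one.1 (hoa ▸ hd)
      rw [← pow_sub_one_mul hp.ne_zero, this, one_mul]
    obtain ⟨a0, ha0⟩ : ∃ a0 : ZMod p, algebraMap (ZMod p) (GaloisField p 2) a0 = a := by
      have := (Subfield.mem_bot_iff_pow_eq_self (GaloisField p 2) p).2 hap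
      rw [← ZMod.fieldRange_castHom_eq_bot p] at this
      obtain ⟨a0, h⟩ := this
      exact ⟨a0, by rw [← h]; congr 1; exact Subsingleton.elim _ _⟩
    refine ⟨Equiv.subRight c, ⟨1, -c, fun x => by simp [sub_eq_add_neg]⟩, a0, 0, ?_, fun y => ?_⟩
    · rintro rfl
      exact a.ne_zero (by simpa using ha0.symm)
    · simp [Equiv.Perm.inv_def, hfix, ha0]

end Cfsg.Agent.S5728
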