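import Cfsg.Statements.S5740
import Cfsg.Agent.Lib.Lie.H23E6h
import Cfsg.Agent.S1066

set_option autoImplicit false
open Cfsg

namespace Cfsg.Agent.S5740

open CA.Chev CA.Chev.E6loc

/-- In the simple group ²E₆(2) (the twisted group of type E₆ over the field with 4 elements), for every prime p > 5 no p-local subgroup is maximal: the normaliser of a non-trivial p-subgroup is never a maximal subgroup. -/
theorem result {K : Type*} [Field K] [Fintype K] (hK : Fintype.card K = 4) (p : ℕ) (hp : p.Prime) (h5 : 5 < p)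
    (P : Subgroup (Cfsg.Lie.twistedE6 K 2)) (hP : IsPGroup p P) (hP1 : P ≠ ⊥) :
    ¬ IsCoatom (Subgroup.normalizer (P : Set (Cfsg.Lie.twistedE6 K 2))) := by
  have h2 : (2 : K) = 0 := by
    have := FiniteField.cast_card_eq_zero K
    rw [hK, show (4 : ℕ) = 2 ^ 2 from rfl, Nat.cast_pow] at this
    exact_mod_cast eq_zero_of_pow_eq_zero this
  have : CharP K 2 := (CharP.charP_iff_prime_eq_zero Nat.prime_two).2 (by exact_mod_cast h2)
  have hq : IsPrimePow 2 := Nat.prime_two.isPrimePow
  have hc := Cfsg.Agent.S1066.result (K := K) hq hK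
  obtain ⟨τ, Φ, hα, hρ, hι, hf⟩ := form_2E6 K (p := 2) hq hK
  obtain ⟨ξ, hξ⟩ := ex_ord (K := AlgebraicClosure K) (n := 9) rfl
  exact main hρ hf hα hι Φ hξ (by norm_num at hc ⊢; omega) hp h5 hP hP1

end Cfsg.Agent.S5740
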