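import Cfsg.Statements.S5744
import Cfsg.Agent.Lib.Fi.E6Emb
import Cfsg.Agent.S2604

set_option autoImplicit false
open Cfsg

namespace Cfsg.Agent.S5744

/-- The simple group ²E₆(2) (the twisted group of type E₆ over the field with 4 elements) contains at least three pairwise non-conjugate subgroups isomorphic to the orthogonal group Ω₇(3) (the commutator subgroup of the isometry group of x₀² + x₁y₁ + x₂y₂ + x₃y₃ over the field with 3 elements). -/
theorem result {K : Type*} [Field K] [Fintype K] (hK : Fintype.card K = 4) :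
    ∃ H : Fin 3 → Subgroup (Cfsg.Lie.twistedE6 K 2),
      (∀ i, Nonempty ((H i) ≃* Cfsg.Omega (ZMod 3) (Cfsg.quadFormOdd 3 (ZMod 3)))) ∧
      (∀ i j, i ≠ j → ∀ g : (Cfsg.Lie.twistedE6 K 2), (H i).map (MulAut.conj g).toMonoidHom ≠ H j) := by
  obtain ⟨j, h1, h2, h3⟩ := CA.E6F.emb hK
  obtain ⟨e⟩ := CA.E6F.o7_equiv
  obtain ⟨e'⟩ := CA.E6F.pOmega_equiv
  obtain ⟨o⟩ := S2604.result (F := ZMod 3) (p := 3) (f := 1) (m := 3) le_rfl (by simp) (by decide) le_rfl
  have k : ∀ i < 8, CA.Fi22Pres.g (i + 1) ∈ CA.CWord.grp CA.Fi22Pres.g CA.FiO7.gens := fun i hi => by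
    rw [← CA.CWord.ev_gen CA.Fi22Pres.g]
    exact CA.CWord.mem_grp _ (by revert i; decide)
  obtain ⟨H, a, b⟩ := CA.E6F.three hK ((CA.CGOut.card_out_congr e).symm.trans ((Nat.card_congr o.toEquiv).trans (by simp)))
    (j.comp (CA.CWord.grp CA.Fi22Pres.g CA.FiO7.gens).subtype) (h1.comp Subtype.val_injective)
    (fun _ ⟨x, hx⟩ => h2 ⟨x, hx⟩) fun Y hY => h3 Y fun i hi => hY ⟨CA.Fi22Pres.g (i + 1), k i hi⟩
  exact ⟨H, fun i => ⟨(a i).some.trans (e.trans e')⟩, b⟩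

end Cfsg.Agent.S5744
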