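import Cfsg.Statements.S5804
import Cfsg.Agent.Lib.Lin.H12Tn8
import Cfsg.Agent.Lib.Lin.H12Pair

set_option autoImplicit false
open Cfsg

namespace Cfsg.Agent.S5804

open CA.CForm CA.CForm.Form CA.MaxGL CA.AschFG CA.AschFG7 CA.AschTForm CA.AschO1 CA.AschProp CA.H12Tn Module in

/-- Maximal subgroups of Sp_6(q) of geometric type (any q). Let F be a finite field with q elements, f the standard alternating form on F^6 (coordinates Fin 3 ⊕ Fin 3) and Sp_6(F) its isometry group inside GL_6(F). Each of the following, intersected with Sp_6(F), is a maximal subgroup of Sp_6(F): (1) the stabiliser of any non-zero totally isotropic subspace (dimensions 1, 2, 3); (2) the stabiliser of any non-degenerate 2-space; (3) for q ≥ 3, the stabiliser of any decomposition of F^6 into three mutually orthogonal non-degenerate 2-spaces; (4) for q odd, the stabiliser of any decomposition into two totally isotropic 3-spaces; (5) the normaliser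 of any degree-3 subfield K of the matrix algebra whose elements are self-adjoint for f with f(k v, v) = 0 (f is the trace of an alternating form over K); (6) for q odd, the normaliser of any degree-2 subfield of the matrix algebra that is closed under adjoints but not self-adjoint (f is the trace of a multiple of a unitary form over K); (7) for q odd with q ≥ 5, the stabiliser of any tensor decomposition of f as (alternating form on F^2) ⊗ (non-degenerate symmetric bilinear form on F^3) up to a scalar; (8) every subfield group for a subfield F₀ with |F| = |F₀|^r, r prime, whose F₀-structure carries a non-zero scalar multiple of f; (9) for q even, the similarity group of any non-degenerate quadratic form whose polar form is f (either Witt type); its intersection with Sp_6(F) is the orthogonal group of that form. -/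
theorem result {F : Type*} [Field F] [Fintype F] :
    (∀ W : Submodule F (Fin 3 ⊕ Fin 3 → F), W ≠ ⊥ → Cfsg.Geo.IsTotallySingularFor (Cfsg.sympForm 3 F) W → Cfsg.Geo.IsMaximalIn (Cfsg.spGL 3 F) (Cfsg.Geo.subspaceStabilizer W ⊓ Cfsg.spGL 3 F)) ∧
    (∀ W : Submodule F (Fin 3 ⊕ Fin 3 → F), W ≠ ⊥ → Cfsg.Geo.IsNondegenerateOn (Cfsg.sympForm 3 F) W → Module.finrank F W < 3 → Cfsg.Geo.IsMaximalIn (Cfsg.spGL 3 F) (Cfsg.Geo.subspaceStabilizer W ⊓ Cfsg.spGL 3 F)) ∧
    (3 ≤ Fintype.card F → ∀ D : Fin 3 → Submodule F (Fin 3 ⊕ Fin 3 → F), Cfsg.Geo.IsNondegenerateMDecomposition (Cfsg.sympForm 3 F) 2 D → Cfsg.Geo.IsMaximalIn (Cfsg.spGL 3 F) (Cfsg.Geo.decompositionStabilizer D ⊓ Cfsg.spGL 3 F)) ∧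
    (Odd (Fintype.card F) → ∀ D : Fin 2 → Submodule F (Fin 3 ⊕ Fin 3 → F), Cfsg.Geo.IsMDecomposition 3 D → (∀ i, Cfsg.Geo.IsTotallySingularFor (Cfsg.sympForm 3 F) (D i)) → Cfsg.Geo.IsMaximalIn (Cfsg.spGL 3 F) (Cfsg.Geo.decompositionStabilizer D ⊓ Cfsg.spGL 3 F)) ∧
    (∀ K : Subalgebra F (Matrix (Fin 3 ⊕ Fin 3) (Fin 3 ⊕ Fin 3) F), Cfsg.Geo.IsFieldSubalgebra 3 K → Cfsg.Geo.IsSelfAdjointFor (Cfsg.sympForm 3 F) K → (∀ k ∈ K, ∀ v : (Fin 3 ⊕ Fin 3 → F), (Cfsg.sympForm 3 F) (Matrix.mulVec k v) v = 0) → Cfsg.Geo.IsMaximalIn (Cfsg.spGL 3 F) (Cfsg.Geo.subalgebraNormalizer K ⊓ Cfsg.spGL 3 F)) ∧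
    (Odd (Fintype.card F) → ∀ K : Subalgebra F (Matrix (Fin 3 ⊕ Fin 3) (Fin 3 ⊕ Fin 3) F), Cfsg.Geo.IsFieldSubalgebra 2 K → Cfsg.Geo.IsAdjointClosedFor (Cfsg.sympForm 3 F) K → ¬ Cfsg.Geo.IsSelfAdjointFor (Cfsg.sympForm 3 F) K → Cfsg.Geo.IsMaximalIn (Cfsg.spGL 3 F) (Cfsg.Geo.subalgebraNormalizer K ⊓ Cfsg.spGL 3 F)) ∧
    (Odd (Fintype.card F) → 5 ≤ Fintype.card F → ∀ (e : (Fin 3 ⊕ Fin 3) ≃ Fin 2 × Fin 3) (P : Matrix.GeneralLinearGroup (Fin 3 ⊕ Fin 3) F) (f₁ : (Fin 2 → F) → (Fin 2 → F) → F) (f₂ : (Fin 3 → F) → (Fin 3 → F) → F), Cfsg.Geo.IsSymplecticForm f₁ → Cfsg.Geo.IsSymmetricForm f₂ → Cfsg.Geo.IsTensorFormStructure id (Cfsg.sympForm 3 F) f₁ f₂ e P → Cfsg.Geo.IsMaximalIn (Cfsg.spGL 3 F) (Cfsg.Geo.tensorProductSubgroup 2 3 e P ⊓ Cfsg.spGL 3 F)) ∧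
    (∀ (F₀ : Subfield F) (r : ℕ) (P : Matrix.GeneralLinearGroup (Fin 3 ⊕ Fin 3) F) (ζ : F), r.Prime → Fintype.card F = Nat.card F₀ ^ r → ζ ≠ 0 → Cfsg.Geo.IsFormRationalStructure (Cfsg.sympForm 3 F) F₀ ζ P → Cfsg.Geo.IsMaximalIn (Cfsg.spGL 3 F) (Cfsg.Geo.subfieldSubgroup F₀ P ⊓ Cfsg.spGL 3 F)) ∧
    (¬ Odd (Fintype.card F) → ∀ Q : (Fin 3 ⊕ Fin 3 → F) → F, Cfsg.Geo.IsNondegenerateQuadraticForm Q → (∀ u v : (Fin 3 ⊕ Fin 3 → F), QuadraticMap.polar Q u v = (Cfsg.sympForm 3 F) u v) → Cfsg.Geo.IsMaximalIn (Cfsg.spGL 3 F) (Cfsg.Geo.quadSimilarityGroup Q ⊓ Cfsg.spGL 3 F)) := by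
  have hφ := toSymp_nondeg (CA.AschSp.symp_std (F := F) 3)
  refine ⟨fun W h0 hW => ?_, fun W h0 hW hd => ?_, fun h D hD => sp_max_decomp (by omega) hD (by omega),
    fun h D hD hts => ?_, fun K hK hsa ha => ?_, fun h K hK hac hsa => ?_,
    fun h h5 e P f₁ f₂ h₁ h₂ hT =>
      sp_max_tensor (by omega) h (by omega) (by omega) (by omega) e P h₁ h₂ hT,
    fun F₀ r P ζ hr hc hζ hP => ?_, fun h Q hQ hp => ?_⟩
  · rw [sp_eq]
    exact max_ts hφ (iso_symp _) (by simp) (by simp) h0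
      (symp_ts_iff.2 fun u hu w hw => hW w hw u hu) fun _ _ _ _ => .inr ⟨1, one_ne_zero, rfl⟩
  · rw [sp_eq]
    have hW' := (nondegOn_iff (φ := toSymp (CA.AschSp.symp_std 3))).1 hW
    have hN := (Form.nondeg_restrict_iff _ _).2 hW'
    obtain ⟨r, hr⟩ := hN.symp_even
    have hp : 0 < finrank F W := Nat.pos_of_ne_zero fun e => h0 (Submodule.finrank_eq_zero.1 e)
    have e := hφ.finrank_perp W
    simp only [finrank_fun, Fintype.card_sum, Fintype.card_fin] at e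
    refine max_stab hφ (iso_symp _) (by simp) (by simp) h0 (fun e => ?_) ?_
    · rw [e] at hd
      simp at hd
    rw [← hφ.stab_perp W]
    refine max_nondeg' hφ (iso_symp _) one_pos ?_ (by omega) ?_ ?_ ?_ <;> rw [hφ.perp_perp]
    exacts [hW'.symm, by omega, hN.symp_irrI,
      fun h => not_equiv_of_ne hφ (by simp; omega) h.symm]
  · rw [sp_eq]
    have h' : (toSymp (CA.AschSp.symp_std 3)).TSPair (D 0) (D 1) := ⟨hφ,
      symp_ts_iff.2 fun u hu w hw => hts 0 w hw u hu, symp_ts_iff.2 fun u hu w hw => hts 1 w hw u hu,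
      isCompl_of_pair hD⟩
    exact max_pair hD h' (sp_not_le (.inl (by omega)) hD) (by omega)
      (symp_hπ (two_ne_zero_iff_odd.2 h))
      (h'.exists_swap_of_π (decomp_ne_bot hD 0) ⟨1, one_ne_zero, rfl⟩)
      fun _ a b c d _ _ e e' e'' => CA.H12Pair.le_or_le h' a b c d (two_ne_zero_iff_odd.2 h)
        (by rw [hD.finrank_eq]) e e' e''
  · rw [sp_eq]
    exact symp_max_ext hφ (qs_sp' (by omega)) (.inl (by simp)) (by norm_num) hK hsa ha
  · rw [sp_eq]
    exact herm_symp_max_ext hφ (qs_sp' (by omega)) (by simp) (two_ne_zero_iff_odd.2 h) hK hac hsa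
  · rw [sp_eq]
    exact symp_max_sub hφ (by simp) hr hc hζ hP
  · rw [CA.AschSp.spGL_eq]
    refine CA.MaxQ2.quad_max ?_ _ (by simp) hQ hp
    by_contra h'
    exact h (CA.CForm.two_ne_zero_iff_odd.1 h')

end Cfsg.Agent.S5804
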