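import Cfsg.Statements.S5825
import Cfsg.Agent.Lib.Lin.MaxC5

set_option autoImplicit false
open Cfsg

namespace Cfsg.Agent.S5825

section
open CA.CForm CA.CForm.Form CA.MaxGL CA.AschFG CA.AschFG7 CA.AschTForm CA.AschO1 CA.AschProp Module Geo
variable {F : Type*} [Field F] [Fintype F] {φ : Form (Kind.orth F) (Fin 8 → F)} (hφ : φ.Nondeg)
  {U : Submodule F (Fin 8 → F)} (hU : Disjoint U (φ.perp U))
include hφ hU

omit hU in
theorem dim_perp : finrank F U + finrank F (φ.perp U) = 8 := by simpa using hφ.finrank_perp U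

theorem five (h5 : finrank F U = 5) (X : Subgroup φ.Isom) (hX : φ.stab U ⊓ φ.Eich ≤ X) :
    X ≤ φ.stab U ∨ φ.Eich ≤ X := by
  have e := dim_perp hφ (U := U)
  refine hφ.max_nondeg_two hU (by omega) (by omega) (fun y hy qy y0 => ?_) (fun T h1 h2 => ?_)
    (fun T h1 h2 => .inl (φ.iso_orth _ ?_)) hX
  · have := φ.finrank_le_inf_perp U y
    obtain ⟨z, h1, h2, h3⟩ := φ.iso_orth.avoid' (W := U ⊓ φ.perp (F ∙ y)) (Y := F ∙ y)
      (by rw [finrank_span_singleton y0]; omega)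
    exact ⟨z, h1.1, h3, φ.mem_perp_span_singleton.1 h1.2, h2⟩
  · have := (nondeg_perp hφ hU).two_mul_finrank_le (W := T.comap (φ.perp U).subtype)
      (orth_ts_iff.2 fun w hw => h2.Q_eq _ hw)
    rw [← Submodule.finrank_map_subtype_eq, Submodule.map_comap_subtype, inf_eq_right.2 h1] at this
    omega
  · have := dim_perp hφ (U := T)
    have := Submodule.finrank_sup_add_finrank_inf_eq U (φ.perp T)
    have := Submodule.finrank_le (U ⊔ φ.perp T)
    simp only [finrank_fintype_fun_eq_card, Fintype.card_fin] at this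
    omega

theorem four (hm : ¬IsPlusTypeOn φ.Q ⊤) (h4 : finrank F U = 4) (hp : IsPlusTypeOn φ.Q U)
    (hp' : ¬IsPlusTypeOn φ.Q (φ.perp U)) (X : Subgroup φ.Isom) (hX : φ.stab U ⊓ φ.Eich ≤ X) :
    X ≤ φ.stab U ∨ φ.Eich ≤ X := by
  have e := dim_perp hφ (U := U)
  have hU' := hφ.disjoint_perp_perp hU
  refine hφ.max_nondeg_two hU (by omega) (by omega) (fun y hy qy y0 => ?_) (fun T h1 h2 => ?_)
    (fun T h1 h2 => ?_) hX
  · obtain ⟨T, h1, h2, h3⟩ := hp
    replace h2 : φ.TS T := orth_ts_iff.2 h2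
    by_cases h : y ∈ T
    · obtain ⟨z, h4, h5⟩ := exists_not_mem_of_lt (S := F ∙ y) (T := T)
        (by rw [finrank_span_singleton y0]; omega)
      exact ⟨z, h1 h4, h2.Q_eq z h4, h2.B_eq y h z h4, h5⟩
    have := φ.finrank_le_inf_perp T y
    obtain ⟨z, h4, z0⟩ := Submodule.exists_mem_ne_zero_of_ne_bot (p := T ⊓ φ.perp (F ∙ y))
      fun e => by rw [e, finrank_bot] at this; omega
    refine ⟨z, h1 h4.1, h2.Q_eq z h4.1, φ.mem_perp_span_singleton.1 h4.2, fun h5 => h ?_⟩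
    obtain ⟨c, rfl⟩ := Submodule.mem_span_singleton.1 h5
    exact (T.smul_mem_iff (left_ne_zero_of_smul z0)).1 h4.1
  · have := (nondeg_perp hφ hU).two_mul_finrank_le (W := T.comap (φ.perp U).subtype)
      (orth_ts_iff.2 fun w hw => h2.Q_eq _ hw)
    rw [← Submodule.finrank_map_subtype_eq, Submodule.map_comap_subtype, inf_eq_right.2 h1] at this
    by_contra h
    exact hp' ⟨T, h1, h2.Q_eq, by omega⟩
  by_contra H
  push Not at H
  have d1 := dim_perp hφ (U := T)
  have key : ∀ W : Submodule F (Fin 8 → F), finrank F W = 4 → (∀ x ∈ W ⊓ φ.perp T, x ≠ 0 → φ.Q x ≠ 0) →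
      finrank F (W ⊓ φ.perp T : Submodule F _) = 2 ∧ Disjoint (W ⊓ φ.perp T) (φ.perp (W ⊓ φ.perp T)) ∧
        ¬IsPlusTypeOn φ.Q (W ⊓ φ.perp T) := fun W h4 h => by
    have h' : ∀ x ∈ W ⊓ φ.perp T, φ.Q x = 0 → x = 0 := fun x hx => not_imp_not.1 (h x hx)
    have := Submodule.finrank_sup_add_finrank_inf_eq W (φ.perp T)
    have := Submodule.finrank_le (W ⊔ φ.perp T)
    have := φ.finrank_le_two_of_anisotropic h'
    simp only [finrank_fintype_fun_eq_card, Fintype.card_fin] at *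
    refine ⟨by omega, disjoint_of_aniso h' (by omega), fun ⟨S, k1, k2, k3⟩ => ?_⟩
    rw [(Submodule.eq_bot_iff S).2 fun x hx => h' x (k1 hx) (k2 x hx), finrank_bot] at k3
    omega
  obtain ⟨a1, a2, a3⟩ := key U h4 H.1
  obtain ⟨b1, b2, b3⟩ := key _ (by omega) H.2
  have c1 : φ.perp U ⊓ φ.perp T ≤ φ.perp (U ⊓ φ.perp T) := inf_le_left.trans (φ.perp_anti inf_le_left)
  obtain ⟨S, k1, k2, k3⟩ := (plusOn_sup a2 b2 c1 (a1 ▸ even_two) (b1 ▸ even_two)).2 (iff_of_false a3 b3)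
  have d2 := Submodule.finrank_sup_add_finrank_inf_eq (U ⊓ φ.perp T) (φ.perp U ⊓ φ.perp T)
  rw [(a2.mono_right c1).eq_bot, finrank_bot] at d2
  have d3 := Submodule.finrank_sup_add_finrank_inf_eq T S
  rw [show T ⊓ S = ⊥ from (Submodule.eq_bot_iff _).2 fun p hp => by
    obtain ⟨a, ha, b, hb, rfl⟩ := Submodule.mem_sup.1 (k1 hp.2)
    rw [Submodule.disjoint_def.1 a2 a ha fun u hu => by
      simpa [hb.1 u hu.1] using φ.eq_zero_symm (hu.2 _ hp.1), Submodule.disjoint_def.1 b2 b hb fun u hu => by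
      simpa [φ.eq_zero_symm (hu.1 a ha.1)] using φ.eq_zero_symm (hu.2 _ hp.1), add_zero], finrank_bot] at d3
  exact hm ⟨_, le_top, (h1.sup (orth_ts_iff.2 k2) (k1.trans (sup_le inf_le_right inf_le_right))).Q_eq,
    by simp; omega⟩

theorem small (h0 : U ≠ ⊥) (h2 : finrank F U ≤ 2) (hI : (φ.restrict U).IrrI) (X : Subgroup φ.Isom)
    (hX : φ.stab (φ.perp U) ⊓ φ.Eich ≤ X) : X ≤ φ.stab (φ.perp U) ∨ φ.Eich ≤ X := by
  have e := dim_perp hφ (U := U)
  exact max_nondeg' hφ φ.iso_orth (by omega) (hφ.disjoint_perp_perp hU) (by omega)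
    (by rw [hφ.perp_perp]; omega) (by rwa [hφ.perp_perp]) (not_equiv_of_ne hφ (by simp; omega)) X hX

end

open CA.CForm CA.CForm.Form CA.MaxGL CA.AschFG CA.AschFG7 CA.AschTForm CA.AschO1 CA.AschProp Module in
/-- Maximal subgroups of Ω_8^-(q) of geometric type (any q). Let F be a finite field with q elements, Q a non-degenerate quadratic form on F^8 (non-degenerate polar form) of minus type (Witt index 3: no totally singular 4-space), and Ω = Ω_8^-(q) the commutator subgroup of the isometry group of Q, inside GL_8(F). Each of the following, intersected with Ω, is a maximal subgroup of Ω: (1) the stabiliser of any non-zero subspace on which Q vanishes identically (totally singular 1-, 2- and 3-spaces); (2) for q odd, the stabiliser of any proper subspace of odd dimension (1, 3, 5 or 7) on which the polar form of Q is non-degenerate; (3) the stabiliser of any non-degenerate 2-space of minus type (containing no non-zero singular vector);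 (4) for q ≥ 4, the stabiliser of any non-degenerate 2-space of plus type (containing a non-zero singular vector); (5) the stabiliser of any non-degenerate 4-space (its orthogonal complement is then a non-degenerate 4-space of the opposite type); (6) for q even, the stabiliser of the 1-space spanned by any non-singular vector v (Q(v) ≠ 0); (7) for q odd, the normaliser of any degree-2 subfield K of the matrix algebra whose elements are self-adjoint for the polar form of Q (Q is then the trace of a quadratic form over K); (8) every subfield group for a subfield F₀ of odd prime index r in F whose F₀-structure carries a non-zero scalar multiple of Q. -/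
theorem result {F : Type*} [Field F] [Fintype F] (Q : (Fin 8 → F) → F) (hQ : Cfsg.Geo.IsNondegenerateQuadraticForm Q) (hminus : ¬ Cfsg.Geo.IsPlusTypeOn Q ⊤) :
    (∀ W : Submodule F (Fin 8 → F), W ≠ ⊥ → Cfsg.Geo.IsTotallySingularQuad Q W → Cfsg.Geo.IsMaximalIn (Cfsg.Geo.omegaGL Q) (Cfsg.Geo.subspaceStabilizer W ⊓ Cfsg.Geo.omegaGL Q)) ∧
    (Odd (Fintype.card F) → ∀ W : Submodule F (Fin 8 → F), W ≠ ⊥ → W ≠ ⊤ → Odd (Module.finrank F W) → Cfsg.Geo.IsNondegenerateOn (QuadraticMap.polar Q) W → Cfsg.Geo.IsMaximalIn (Cfsg.Geo.omegaGL Q) (Cfsg.Geo.subspaceStabilizer W ⊓ Cfsg.Geo.omegaGL Q)) ∧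
    (∀ W : Submodule F (Fin 8 → F), Module.finrank F W = 2 → Cfsg.Geo.IsNondegenerateOn (QuadraticMap.polar Q) W → ¬ Cfsg.Geo.IsPlusTypeOn Q W → Cfsg.Geo.IsMaximalIn (Cfsg.Geo.omegaGL Q) (Cfsg.Geo.subspaceStabilizer W ⊓ Cfsg.Geo.omegaGL Q)) ∧
    (4 ≤ Fintype.card F → ∀ W : Submodule F (Fin 8 → F), Module.finrank F W = 2 → Cfsg.Geo.IsNondegenerateOn (QuadraticMap.polar Q) W → Cfsg.Geo.IsPlusTypeOn Q W → Cfsg.Geo.IsMaximalIn (Cfsg.Geo.omegaGL Q) (Cfsg.Geo.subspaceStabilizer W ⊓ Cfsg.Geo.omegaGL Q)) ∧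
    (∀ W : Submodule F (Fin 8 → F), Module.finrank F W = 4 → Cfsg.Geo.IsNondegenerateOn (QuadraticMap.polar Q) W → Cfsg.Geo.IsMaximalIn (Cfsg.Geo.omegaGL Q) (Cfsg.Geo.subspaceStabilizer W ⊓ Cfsg.Geo.omegaGL Q)) ∧
    (¬ Odd (Fintype.card F) → ∀ v : (Fin 8 → F), Q v ≠ 0 → Cfsg.Geo.IsMaximalIn (Cfsg.Geo.omegaGL Q) (Cfsg.Geo.subspaceStabilizer (Submodule.span F {v}) ⊓ Cfsg.Geo.omegaGL Q)) ∧
    (Odd (Fintype.card F) → ∀ K : Subalgebra F (Matrix (Fin 8) (Fin 8) F), Cfsg.Geo.IsFieldSubalgebra 2 K → Cfsg.Geo.IsSelfAdjointFor (QuadraticMap.polar Q) K → Cfsg.Geo.IsMaximalIn (Cfsg.Geo.omegaGL Q) (Cfsg.Geo.subalgebraNormalizer K ⊓ Cfsg.Geo.omegaGL Q)) ∧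
    (∀ (F₀ : Subfield F) (r : ℕ) (P : Matrix.GeneralLinearGroup (Fin 8) F) (ζ : F), r.Prime → Odd r → Fintype.card F = Nat.card F₀ ^ r → ζ ≠ 0 → Cfsg.Geo.IsQuadFormRationalStructure (fun v : Fin 8 → F => ζ * Q v) F₀ P → Cfsg.Geo.IsMaximalIn (Cfsg.Geo.omegaGL Q) (Cfsg.Geo.subfieldSubgroup F₀ P ⊓ Cfsg.Geo.omegaGL Q)) := by
  obtain ⟨φ, hφ, rfl⟩ : ∃ φ : Form (Kind.orth F) _, φ.Nondeg ∧ φ.Q = Q :=
    ⟨toOrth hQ, toOrth_nondeg hQ, rfl⟩
  have ts := fun W h0 hW => orth_max_ts hφ (by simp) (W := W) h0 hW fun _ => hminus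
  rw [omega_eq hφ (by simp)] at ts ⊢
  rw [polar_fn]
  simp only [nondegOn_iff]
  have st := fun W => max_stab hφ φ.iso_orth (by simp) (by simp) (W := W)
  have n0 : ∀ W : Submodule F (Fin 8 → F), finrank F W ≠ 0 → W ≠ ⊥ := by
    rintro W h rfl; simp at h
  have n1 : ∀ W : Submodule F (Fin 8 → F), finrank F W ≠ 8 → W ≠ ⊤ := by
    rintro W h rfl; simp at h
  refine ⟨ts, fun hq W h0 h1 ho hW => st W h0 h1 ?_, fun W h2 hW hp => st W (n0 W (by omega))
    (n1 W (by omega)) ?_, fun hq W h2 hW hp => st W (n0 W (by omega)) (n1 W (by omega)) ?_,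
    fun W h4 hW => st W (n0 W (by omega)) (n1 W (by omega)) ?_, fun hq v hv => ?_,
    fun hq K hK hsa => orth_max_ext hφ (two_ne_zero_iff_odd.2 hq) Nat.prime_two (by simp) hK hsa,
    fun F₀ r P ζ hr _ hc hζ hP => orth_max_sub hφ (by simp) hr hc hζ hP⟩
  · have e := dim_perp hφ (U := W)
    have hW' := hφ.disjoint_perp_perp hW
    obtain h | h | h | h : finrank F W = 1 ∨ finrank F W = 3 ∨ finrank F W = 5 ∨ finrank F W = 7 := by
      obtain ⟨j, hj⟩ := ho; omega
    · exact hφ.stab_perp W ▸ small hφ hW h0 (by omega) (orth_irrI hW (by omega))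
    · exact hφ.stab_perp W ▸ five hφ hW' (by omega)
    · exact five hφ hW h
    · simpa only [hφ.perp_perp] using small hφ hW' (n0 _ (by omega)) (by omega) (orth_irrI hW' (by omega))
  · exact hφ.stab_perp W ▸ small hφ hW (n0 _ (by omega)) (by omega) (orth_irrI hW fun h => hp h.2.2)
  · exact hφ.stab_perp W ▸ small hφ hW (n0 _ (by omega)) (by omega) (orth_irrI hW (by omega))
  · have e := dim_perp hφ (U := W)
    have hW' := hφ.disjoint_perp_perp hW
    have := plusOn_sup hW hW' le_rfl (h4 ▸ by decide) (by rw [show finrank F (φ.perp W) = 4 by omega]; decide)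
    rw [(hφ.isCompl_perp hW).sup_eq_top] at this
    by_cases hp : Geo.IsPlusTypeOn φ.Q W
    · exact four hφ hW hminus h4 hp (by tauto)
    · exact hφ.stab_perp W ▸ four hφ hW' hminus (by omega) (by tauto) (by rwa [hφ.perp_perp])
  · refine max_nonsing hφ φ.iso_orth (by omega) (by simp) hv ?_
    rw [φ.B_self, Kind.orth_δ, not_not.1 (mt two_ne_zero_iff_odd.1 hq), zero_mul]

end Cfsg.Agent.S5825
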