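import Cfsg.Statements.S5871
import Cfsg.Agent.Lib.Lin.AschO4

set_option autoImplicit false
open Cfsg

namespace Cfsg.Agent.S5871

open CA.CForm CA.AschTForm CA.AschProp CA.AschO1 CA.AschO CA.AschO4 in

/-- Every maximal subgroup of Ω_12^+(q) is of one of the listed geometric types or lies in the residual class. Let F be a finite field with q elements (characteristic p), Q a non-degenerate quadratic form on F^12 of plus type (Witt index 6: some totally singular 6-space), Ω the commutator subgroup of its isometry group, and H a maximal subgroup of Ω (inside GL_12(F)). Then H is the intersection with Ω of one of: the stabiliser of a non-zero totally singular subspace of dimension ≠ 5; for q odd, the stabiliser of a non-degenerate subspace of odd dimension; the stabiliser of a non-degenerate 2-space of minus type; for q ≥ 4, the stabiliser of a non-degenerate 2-space of plus type; the stabiliser of a non-degenerate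 4-space; for q even, the stabiliser of the span of a non-singular vector; for q = p an odd prime, the stabiliser of a decomposition into 12 pairwise orthogonal, pairwise isometric non-degenerate 1-spaces; for q ≥ 7, the stabiliser of a decomposition into 6 pairwise orthogonal, pairwise isometric non-degenerate 2-spaces of plus type; for q ≠ 3, the stabiliser of a decomposition into 6 pairwise orthogonal, pairwise isometric non-degenerate 2-spaces of minus type; for q odd with q ≥ 5, the stabiliser of a decomposition into 4 pairwise orthogonal, pairwise isometric non-degenerate 3-spaces; for q ≥ 3, the stabiliser of a decomposition into 3 pairwise orthogonal, pairwise isometric non-degenerate 4-spaces; the stabiliser of a decomposition into 2 pairwise orthogonal, pairwise isometric non-degenerate 6-spaces; of a decomposition into two totally singular 6-spaces; the normaliser of a degree-2 subfield of the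 matrix algebra; the normaliser of a degree-3 subfield of the matrix algebra; the normaliser of a degree-2 subfield K, adjoint-closed but not self-adjoint, acting by similarities of Q; for q ≥ 3, the stabiliser of a tensor decomposition of Q into alternating forms on F^2 and F^6 (Q vanishing on pure tensors); a subfield group (|F| = |F₀|^r, r prime) whose F₀-structure carries a non-zero multiple of Q — or else H lies in the residual class of the orthogonal case (modulo scalars H is almost simple, with absolutely irreducible perfect socle preimage realisable over no proper subfield and fixing no non-degenerate unitary form). -/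
theorem result {F : Type*} [Field F] [Fintype F] (Q : (Fin 12 → F) → F) (hQ : Cfsg.Geo.IsNondegenerateQuadraticForm Q) (hplus : Cfsg.Geo.IsPlusTypeOn Q ⊤) (H : Subgroup (Matrix.GeneralLinearGroup (Fin 12) F)) (hH : Cfsg.Geo.IsMaximalIn (Cfsg.Geo.omegaGL Q) H) :
    (∃ W : Submodule F (Fin 12 → F), W ≠ ⊥ ∧ Cfsg.Geo.IsTotallySingularQuad Q W ∧ Module.finrank F W ≠ 5 ∧ H = Cfsg.Geo.subspaceStabilizer W ⊓ Cfsg.Geo.omegaGL Q) ∨
    (Odd (Fintype.card F) ∧ ∃ W : Submodule F (Fin 12 → F), W ≠ ⊥ ∧ W ≠ ⊤ ∧ Odd (Module.finrank F W) ∧ 2 * Module.finrank F W ≠ 12 ∧ Cfsg.Geo.IsNondegenerateOn (QuadraticMap.polar Q) W ∧ H = Cfsg.Geo.subspaceStabilizer W ⊓ Cfsg.Geo.omegaGL Q) ∨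
    (∃ W : Submodule F (Fin 12 → F), Module.finrank F W = 2 ∧ Cfsg.Geo.IsNondegenerateOn (QuadraticMap.polar Q) W ∧ ¬ Cfsg.Geo.IsPlusTypeOn Q W ∧ H = Cfsg.Geo.subspaceStabilizer W ⊓ Cfsg.Geo.omegaGL Q) ∨
    (4 ≤ Fintype.card F ∧ ∃ W : Submodule F (Fin 12 → F), Module.finrank F W = 2 ∧ Cfsg.Geo.IsNondegenerateOn (QuadraticMap.polar Q) W ∧ Cfsg.Geo.IsPlusTypeOn Q W ∧ H = Cfsg.Geo.subspaceStabilizer W ⊓ Cfsg.Geo.omegaGL Q) ∨
    (∃ W : Submodule F (Fin 12 → F), Module.finrank F W = 4 ∧ Cfsg.Geo.IsNondegenerateOn (QuadraticMap.polar Q) W ∧ H = Cfsg.Geo.subspaceStabilizer W ⊓ Cfsg.Geo.omegaGL Q) ∨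
    (¬ Odd (Fintype.card F) ∧ ∃ v : (Fin 12 → F), Q v ≠ 0 ∧ H = Cfsg.Geo.subspaceStabilizer (Submodule.span F {v}) ⊓ Cfsg.Geo.omegaGL Q) ∨
    ((∃ p : ℕ, p.Prime ∧ Odd p ∧ Fintype.card F = p) ∧ ∃ D : Fin 12 → Submodule F (Fin 12 → F), Cfsg.Geo.IsOrthogonalMDecomposition Q 1 D ∧ H = Cfsg.Geo.decompositionStabilizer D ⊓ Cfsg.Geo.omegaGL Q) ∨
    (7 ≤ Fintype.card F ∧ ∃ D : Fin 6 → Submodule F (Fin 12 → F), Cfsg.Geo.IsOrthogonalMDecomposition Q 2 D ∧ (∀ i, Cfsg.Geo.IsPlusTypeOn Q (D i)) ∧ H = Cfsg.Geo.decompositionStabilizer D ⊓ Cfsg.Geo.omegaGL Q) ∨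
    (Fintype.card F ≠ 3 ∧ ∃ D : Fin 6 → Submodule F (Fin 12 → F), Cfsg.Geo.IsOrthogonalMDecomposition Q 2 D ∧ (∀ i, ¬ Cfsg.Geo.IsPlusTypeOn Q (D i)) ∧ H = Cfsg.Geo.decompositionStabilizer D ⊓ Cfsg.Geo.omegaGL Q) ∨
    (Odd (Fintype.card F) ∧ 5 ≤ Fintype.card F ∧ ∃ D : Fin 4 → Submodule F (Fin 12 → F), Cfsg.Geo.IsOrthogonalMDecomposition Q 3 D ∧ H = Cfsg.Geo.decompositionStabilizer D ⊓ Cfsg.Geo.omegaGL Q) ∨
    (3 ≤ Fintype.card F ∧ ∃ D : Fin 3 → Submodule F (Fin 12 → F), Cfsg.Geo.IsOrthogonalMDecomposition Q 4 D ∧ H = Cfsg.Geo.decompositionStabilizer D ⊓ Cfsg.Geo.omegaGL Q) ∨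
    (∃ D : Fin 2 → Submodule F (Fin 12 → F), Cfsg.Geo.IsOrthogonalMDecomposition Q 6 D ∧ H = Cfsg.Geo.decompositionStabilizer D ⊓ Cfsg.Geo.omegaGL Q) ∨
    (∃ D : Fin 2 → Submodule F (Fin 12 → F), Cfsg.Geo.IsMDecomposition 6 D ∧ (∀ i, Cfsg.Geo.IsTotallySingularQuad Q (D i)) ∧ H = Cfsg.Geo.decompositionStabilizer D ⊓ Cfsg.Geo.omegaGL Q) ∨
    (∃ K : Subalgebra F (Matrix (Fin 12) (Fin 12) F), Cfsg.Geo.IsFieldSubalgebra 2 K ∧ H = Cfsg.Geo.subalgebraNormalizer K ⊓ Cfsg.Geo.omegaGL Q) ∨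
    (∃ K : Subalgebra F (Matrix (Fin 12) (Fin 12) F), Cfsg.Geo.IsFieldSubalgebra 3 K ∧ H = Cfsg.Geo.subalgebraNormalizer K ⊓ Cfsg.Geo.omegaGL Q) ∨
    (∃ K : Subalgebra F (Matrix (Fin 12) (Fin 12) F), Cfsg.Geo.IsFieldSubalgebra 2 K ∧ Cfsg.Geo.IsAdjointClosedFor (QuadraticMap.polar Q) K ∧ ¬ Cfsg.Geo.IsSelfAdjointFor (QuadraticMap.polar Q) K ∧ (∀ k ∈ K, ∃ c : F, ∀ v : (Fin 12 → F), Q (Matrix.mulVec k v) = c * Q v) ∧ H = Cfsg.Geo.subalgebraNormalizer K ⊓ Cfsg.Geo.omegaGL Q) ∨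
    (3 ≤ Fintype.card F ∧ ∃ (e : Fin 12 ≃ Fin 2 × Fin 6) (P : Matrix.GeneralLinearGroup (Fin 12) F) (f₁ : (Fin 2 → F) → (Fin 2 → F) → F) (f₂ : (Fin 6 → F) → (Fin 6 → F) → F), Cfsg.Geo.IsSymplecticForm f₁ ∧ Cfsg.Geo.IsSymplecticForm f₂ ∧ Cfsg.Geo.IsTensorFormStructure id (QuadraticMap.polar Q) f₁ f₂ e P ∧ (∀ (x₁ : Fin 2 → F) (x₂ : Fin 6 → F), Q (Matrix.mulVec (P : Matrix (Fin 12) (Fin 12) F) ((fun a : Fin 2 × Fin 6 => x₁ a.1 * x₂ a.2) ∘ e)) = 0) ∧ H = Cfsg.Geo.tensorProductSubgroup 2 6 e P ⊓ Cfsg.Geo.omegaGL Q) ∨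
    (∃ (F₀ : Subfield F) (r : ℕ) (P : Matrix.GeneralLinearGroup (Fin 12) F) (ζ : F), r.Prime ∧ Fintype.card F = Nat.card F₀ ^ r ∧ ζ ≠ 0 ∧ Cfsg.Geo.IsQuadFormRationalStructure (fun v : Fin 12 → F => ζ * Q v) F₀ P ∧ H = Cfsg.Geo.subfieldSubgroup F₀ P ⊓ Cfsg.Geo.omegaGL Q) ∨
    Cfsg.Geo.InOrthogonalResidualClass H := by
  obtain ⟨φ, hφ, rfl⟩ : ∃ φ : Form (Kind.orth F) (Fin 12 → F), φ.Nondeg ∧ φ.Q = Q :=
    ⟨toOrth hQ, toOrth_nondeg hQ, rfl⟩
  have hp : Pl φ := plus_top.1 hplus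
  have hc : Fintype.card (Fin 12) = 12 := Fintype.card_fin _
  rcases o_max hφ (by omega) (by omega) (by omega) hH with h | h
  swap
  · repeat (first | exact .inl h | exact h | right)
  unfold OC at h
  rw [hc] at h
  rcases h with ⟨W, h1, h2, h3, hE⟩ | ⟨W, h1, h2, h3, h4, hE, -, hE'⟩ | ⟨h1, h⟩ |
    ⟨t, k, D, hD, h1, h2, h3, h4, hE⟩ | ⟨k, D, hD, h1, h2, h3, hE⟩ |
    ⟨r, K, hr, h1, h2, h3, h4, hK, h5, hE⟩ | ⟨m, K, h1, h2, hK, h3, h4, h5, hE⟩ |
    ⟨h0, a, b, e, P, f₁, f₂, h1, h2, h3, h4, h5, h6, h7, h8, hE⟩ |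
    ⟨h0, h0', b, e, P, f₁, f₂, h1, h2, h3, h4, h5, h6, hE⟩ | ⟨F₀, r, P, ζ, hr, h1, h2, h3, hE⟩ |
    ⟨k, t, e, P, f₁, h1, h2, h3, -⟩
  · exact .inl ⟨W, h1, h2, by have := h3 hp; omega, hE⟩
  · have a1 : Module.finrank F W ≠ 0 := mt Submodule.finrank_eq_zero.1 h1
    have a2 := nd_of h2
    by_cases ho : Odd (Module.finrank F W) ∧ 2 * Module.finrank F W ≠ 12
    · exact .inr (.inl ⟨odd_of h2 ho.1, W, h1, ne_top_of (by omega), ho.1, ho.2, a2, hE⟩)
    rw [Nat.odd_iff] at ho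
    by_cases d2 : Module.finrank F W = 2
    · by_cases hw : Geo.IsPlusTypeOn φ.Q W
      · exact .inr (.inr (.inr (.inl ⟨h4 d2 hw, W, d2, a2, hw, hE⟩)))
      · exact .inr (.inr (.inl ⟨W, d2, a2, hw, hE⟩))
    by_cases d4 : Module.finrank F W = 4
    · exact .inr (.inr (.inr (.inr (.inl ⟨W, d4, a2, hE⟩))))
    have d6 : Module.finrank F W = 6 := by omega
    obtain ⟨-, b2, -, b3⟩ := pair_cases hφ h1 h2 d6 (by omega)
    have b4 := b2 (b3 (by decide) hp)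
    have b6 := hE' (by omega)
    repeat (first | exact .inl ⟨_, b4, b6⟩ | exact ⟨_, b4, b6⟩ | right)
  · have h2 : ¬ Odd (Fintype.card F) := fun h => two_ne_zero_iff_odd.2 h h1
    repeat (first | exact .inl ⟨h2, h⟩ | exact ⟨h2, h⟩ | right)
  · have a1 := decomp_card hD.decomp.decomp
    have a2 := hD.decomp.decomp.two_le
    obtain ⟨rfl, rfl⟩ | ⟨rfl, rfl⟩ | ⟨rfl, rfl⟩ | ⟨rfl, rfl⟩ | ⟨rfl, rfl⟩ : (t = 12 ∧ k = 1) ∨ (t = 6 ∧ k = 2) ∨ (t = 4 ∧ k = 3) ∨ (t = 3 ∧ k = 4) ∨ (t = 2 ∧ k = 6) := by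
      rw [hc] at a1
      have hm : k ≤ 12 := by nlinarith
      clear * - hm a1 a2
      interval_cases k <;> omega
    · have b1 := odd_of_decomp hD (by decide)
      repeat (first | exact .inl ⟨⟨_, h1 rfl, b1, rfl⟩, D, hD, hE⟩ | exact ⟨⟨_, h1 rfl, b1, rfl⟩, D, hD, hE⟩ | right)
    · have b1 : ∀ i, Geo.IsPlusTypeOn φ.Q (D i) ↔ Geo.IsPlusTypeOn φ.Q (D 0) := fun i => by
        rw [plusOn_iff, plusOn_iff, pl_congr ((orthDecomp_iff.1 hD).2 i 0)]
      by_cases hw : Geo.IsPlusTypeOn φ.Q (D 0)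
      · have b2 := fun i => (b1 i).2 hw
        repeat (first | exact .inl ⟨(h2 rfl 0).1 hw, D, hD, b2, hE⟩ | exact ⟨(h2 rfl 0).1 hw, D, hD, b2, hE⟩ | right)
      · have b2 := fun i => mt (b1 i).1 hw
        repeat (first | exact .inl ⟨(h2 rfl 0).2 hw, D, hD, b2, hE⟩ | exact ⟨(h2 rfl 0).2 hw, D, hD, b2, hE⟩ | right)
    · have b1 := odd_of_decomp hD (by decide)
      repeat (first | exact .inl ⟨b1, h3 rfl, D, hD, hE⟩ | exact ⟨b1, h3 rfl, D, hD, hE⟩ | right)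
    · have b1 := h4 rfl 0 (((pl_decomp hD (by decide) 0).1 hp).resolve_right (by decide))
      repeat (first | exact .inl ⟨b1, D, hD, hE⟩ | exact ⟨b1, D, hD, hE⟩ | right)
    · repeat (first | exact .inl ⟨D, hD, hE⟩ | exact ⟨D, hD, hE⟩ | right)
  · obtain rfl : k = 6 := by have := decomp_card hD; omega
    repeat (first | exact .inl ⟨D, hD, h1, hE⟩ | exact ⟨D, hD, h1, hE⟩ | right)
  · obtain rfl | rfl : r = 2 ∨ r = 3 := by
      have a1 : r ≤ 12 := Nat.le_of_dvd (by norm_num) h1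
      clear * - hr h1 h3 a1
      interval_cases r <;> first | omega | exact absurd hr (by norm_num)
    · repeat (first | exact .inl ⟨K, hK, hE⟩ | exact ⟨K, hK, hE⟩ | right)
    · repeat (first | exact .inl ⟨K, hK, hE⟩ | exact ⟨K, hK, hE⟩ | right)
  · repeat (first | exact .inl ⟨K, hK, hE⟩ | exact ⟨K, hK, hE⟩ | right)
  · obtain ⟨rfl, rfl⟩ : a = 3 ∧ b = 4 := by
      have hm : a ≤ 12 := by nlinarith
      clear * - hm h1 h2 h3
      interval_cases a <;> omega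
    exact absurd hp (h5 rfl).2
  · obtain rfl : b = 6 := by omega
    repeat (first | exact .inl ⟨h0, e, P, f₁, f₂, h3, h4, h5, h6, hE⟩ | exact ⟨h0, e, P, f₁, f₂, h3, h4, h5, h6, hE⟩ | right)
  · repeat (first | exact .inl ⟨F₀, r, P, ζ, hr, h1, h2, h3, hE⟩ | exact ⟨F₀, r, P, ζ, hr, h1, h2, h3, hE⟩ | right)
  · have a1 : t = 2 := by
      by_contra c
      have := (Nat.pow_le_pow_right (by norm_num) (show 3 ≤ t by omega)).trans
        (Nat.pow_le_pow_left h2 t)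
      omega
    subst a1
    have a2 : k = 3 := by
      by_contra c
      have := Nat.pow_le_pow_left (show 4 ≤ k by omega) 2
      omega
    subst a2
    omega

end Cfsg.Agent.S5871
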