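import Cfsg.Statements.S5873
import Cfsg.Agent.Lib.Lin.MaxP4
import Cfsg.Agent.Lib.Lin.H15Four
import Cfsg.Agent.Lib.Lin.MaxC5

set_option autoImplicit false
open Cfsg

namespace Cfsg.Agent.S5873

open CA.CForm CA.CForm.Form CA.MaxGL CA.AschFG CA.AschFG7 CA.AschTForm CA.AschO1 CA.AschProp Module in
/-- Maximal subgroups of Ω_12^-(q) of geometric type (any q). Let F be a finite field with q elements (characteristic p), Q a non-degenerate quadratic form on F^12 (non-degenerate polar form) of minus type (Witt index 5: no totally singular 6-space), and Ω = Ω_12^-(q) the commutator subgroup of the isometry group of Q, inside GL_12(F). Each of the following, intersected with Ω, is a maximal subgroup of Ω: (1) the stabiliser of any non-zero subspace on which Q vanishes identically (totally singular subspaces, dimensions 1 to 5); (2) for q odd, the stabiliser of any subspace of odd dimension on which the polar form of Q is non-degenerate; (3) the stabiliser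 of any non-degenerate 2-space of minus type (containing no non-zero singular vector); (4) for q ≥ 4, the stabiliser of any non-degenerate 2-space of plus type (containing a non-zero singular vector); (5) the stabiliser of any non-degenerate 4-space (either type); (6) the stabiliser of any non-degenerate 6-space (either type); (7) for q even, the stabiliser of the 1-space spanned by any non-singular vector v (Q(v) ≠ 0); (8) the stabiliser of any decomposition of F^12 into 3 pairwise orthogonal, pairwise Q-isometric non-degenerate 4-spaces of minus type; (9) for q odd, the normaliser of any degree-2 subfield K of the matrix algebra whose elements are self-adjoint for the polar form of Q (Q is then the trace of a quadratic form over K); (10) for q odd, the normaliser of any degree-3 subfield K of the matrix algebra whose elements are self-adjoint for the polar form of Q (Q is then the trace of a quadratic form over K); (11) for q odd with q ≥ 5, the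 stabiliser of any tensor decomposition F^12 = F^3 ⊗ F^4 in which the polar form of Q is the product of non-degenerate symmetric bilinear forms, the second of minus type, up to a scalar; (12) every subfield group for a subfield F₀ with |F| = |F₀|^r, r an odd prime, whose F₀-structure carries a non-zero scalar multiple of Q. -/
theorem result {F : Type*} [Field F] [Fintype F] (Q : (Fin 12 → F) → F) (hQ : Cfsg.Geo.IsNondegenerateQuadraticForm Q) (hminus : ¬ Cfsg.Geo.IsPlusTypeOn Q ⊤) :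
    (∀ W : Submodule F (Fin 12 → F), W ≠ ⊥ → Cfsg.Geo.IsTotallySingularQuad Q W → Cfsg.Geo.IsMaximalIn (Cfsg.Geo.omegaGL Q) (Cfsg.Geo.subspaceStabilizer W ⊓ Cfsg.Geo.omegaGL Q)) ∧
    (Odd (Fintype.card F) → ∀ W : Submodule F (Fin 12 → F), W ≠ ⊥ → W ≠ ⊤ → Odd (Module.finrank F W) → 2 * Module.finrank F W ≠ 12 → Cfsg.Geo.IsNondegenerateOn (QuadraticMap.polar Q) W → Cfsg.Geo.IsMaximalIn (Cfsg.Geo.omegaGL Q) (Cfsg.Geo.subspaceStabilizer W ⊓ Cfsg.Geo.omegaGL Q)) ∧
    (∀ W : Submodule F (Fin 12 → F), Module.finrank F W = 2 → Cfsg.Geo.IsNondegenerateOn (QuadraticMap.polar Q) W → ¬ Cfsg.Geo.IsPlusTypeOn Q W → Cfsg.Geo.IsMaximalIn (Cfsg.Geo.omegaGL Q) (Cfsg.Geo.subspaceStabilizer W ⊓ Cfsg.Geo.omegaGL Q)) ∧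
    (4 ≤ Fintype.card F → ∀ W : Submodule F (Fin 12 → F), Module.finrank F W = 2 → Cfsg.Geo.IsNondegenerateOn (QuadraticMap.polar Q) W → Cfsg.Geo.IsPlusTypeOn Q W → Cfsg.Geo.IsMaximalIn (Cfsg.Geo.omegaGL Q) (Cfsg.Geo.subspaceStabilizer W ⊓ Cfsg.Geo.omegaGL Q)) ∧
    (∀ W : Submodule F (Fin 12 → F), Module.finrank F W = 4 → Cfsg.Geo.IsNondegenerateOn (QuadraticMap.polar Q) W → Cfsg.Geo.IsMaximalIn (Cfsg.Geo.omegaGL Q) (Cfsg.Geo.subspaceStabilizer W ⊓ Cfsg.Geo.omegaGL Q)) ∧
    (∀ W : Submodule F (Fin 12 → F), Module.finrank F W = 6 → Cfsg.Geo.IsNondegenerateOn (QuadraticMap.polar Q) W → Cfsg.Geo.IsMaximalIn (Cfsg.Geo.omegaGL Q) (Cfsg.Geo.subspaceStabilizer W ⊓ Cfsg.Geo.omegaGL Q)) ∧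
    (¬ Odd (Fintype.card F) → ∀ v : (Fin 12 → F), Q v ≠ 0 → Cfsg.Geo.IsMaximalIn (Cfsg.Geo.omegaGL Q) (Cfsg.Geo.subspaceStabilizer (Submodule.span F {v}) ⊓ Cfsg.Geo.omegaGL Q)) ∧
    (∀ D : Fin 3 → Submodule F (Fin 12 → F), Cfsg.Geo.IsOrthogonalMDecomposition Q 4 D → (∀ i, ¬ Cfsg.Geo.IsPlusTypeOn Q (D i)) → Cfsg.Geo.IsMaximalIn (Cfsg.Geo.omegaGL Q) (Cfsg.Geo.decompositionStabilizer D ⊓ Cfsg.Geo.omegaGL Q)) ∧
    (Odd (Fintype.card F) → ∀ K : Subalgebra F (Matrix (Fin 12) (Fin 12) F), Cfsg.Geo.IsFieldSubalgebra 2 K → Cfsg.Geo.IsSelfAdjointFor (QuadraticMap.polar Q) K → Cfsg.Geo.IsMaximalIn (Cfsg.Geo.omegaGL Q) (Cfsg.Geo.subalgebraNormalizer K ⊓ Cfsg.Geo.omegaGL Q)) ∧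
    (Odd (Fintype.card F) → ∀ K : Subalgebra F (Matrix (Fin 12) (Fin 12) F), Cfsg.Geo.IsFieldSubalgebra 3 K → Cfsg.Geo.IsSelfAdjointFor (QuadraticMap.polar Q) K → Cfsg.Geo.IsMaximalIn (Cfsg.Geo.omegaGL Q) (Cfsg.Geo.subalgebraNormalizer K ⊓ Cfsg.Geo.omegaGL Q)) ∧
    (Odd (Fintype.card F) ∧ 5 ≤ Fintype.card F → ∀ (e : Fin 12 ≃ Fin 3 × Fin 4) (P : Matrix.GeneralLinearGroup (Fin 12) F) (f₁ : (Fin 3 → F) → (Fin 3 → F) → F) (f₂ : (Fin 4 → F) → (Fin 4 → F) → F), Cfsg.Geo.IsSymmetricForm f₁ → Cfsg.Geo.IsSymmetricForm f₂ → ¬ Cfsg.Geo.IsPlusTypeOn (fun v : Fin 4 → F => f₂ v v) ⊤ → Cfsg.Geo.IsTensorFormStructure id (QuadraticMap.polar Q) f₁ f₂ e P → Cfsg.Geo.IsMaximalIn (Cfsg.Geo.omegaGL Q) (Cfsg.Geo.tensorProductSubgroup 3 4 e P ⊓ Cfsg.Geo.omegaGL Q)) ∧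
    (∀ (F₀ : Subfield F) (r : ℕ) (P : Matrix.GeneralLinearGroup (Fin 12) F) (ζ : F), r.Prime → Odd r → Fintype.card F = Nat.card F₀ ^ r → ζ ≠ 0 → Cfsg.Geo.IsQuadFormRationalStructure (fun v : Fin 12 → F => ζ * Q v) F₀ P → Cfsg.Geo.IsMaximalIn (Cfsg.Geo.omegaGL Q) (Cfsg.Geo.subfieldSubgroup F₀ P ⊓ Cfsg.Geo.omegaGL Q)) := by
  obtain ⟨φ, hφ, rfl⟩ : ∃ φ : Form (Kind.orth F) _, φ.Nondeg ∧ φ.Q = Q :=
    ⟨toOrth hQ, toOrth_nondeg hQ, rfl⟩
  have ts := fun W h0 hW => orth_max_ts hφ (by simp) (W := W) h0 hW fun _ => hminus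
  have dc := fun D hD (h : ∀ i, ¬Geo.IsPlusTypeOn φ.Q (D i)) =>
    CA.H15Four.orth_max_decomp4 hφ (t := 3) (D := D) hD le_rfl fun ⟨_, i, hi⟩ => h i hi
  have tn := fun (hq : Odd (Fintype.card F) ∧ 5 ≤ Fintype.card F) e P f₁ f₂ =>
    CA.OO.orth_max_tensor34 hφ hq.1 (by omega) e P (f₁ := f₁) (f₂ := f₂)
  refine ⟨ts, ?_, ?_, ?_, ?_, ?_, ?_, dc, ?_, ?_, tn, ?_⟩
  all_goals rw [omega_eq hφ (by simp)]
  any_goals rw [polar_fn]
  any_goals simp only [nondegOn_iff]
  rotate_left 5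
  · refine fun hq v hv => max_nonsing hφ φ.iso_orth (by omega) (by simp) hv ?_
    rw [φ.B_self, Kind.orth_δ, not_not.1 (mt two_ne_zero_iff_odd.1 hq), zero_mul]
  · exact fun hq K hK hsa => orth_max_ext hφ (two_ne_zero_iff_odd.2 hq) Nat.prime_two (by simp) hK hsa
  · exact fun hq K hK hsa =>
      orth_max_ext hφ (two_ne_zero_iff_odd.2 hq) Nat.prime_three (by simp) hK hsa
  · exact fun F₀ r P ζ hr _ hc hζ hP => orth_max_sub hφ (by simp) hr hc hζ hP
  all_goals
    have n0 : ∀ W : Submodule F (Fin 12 → F), finrank F W ≠ 0 → W ≠ ⊥ := by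
      rintro W h rfl; simp at h
    have n1 : ∀ W : Submodule F (Fin 12 → F), finrank F W ≠ 12 → W ≠ ⊤ := by
      rintro W h rfl; simp at h
    have e : ∀ W : Submodule F (Fin 12 → F), finrank F W + finrank F (φ.perp W) = 12 := fun W => by
      simpa using hφ.finrank_perp W
    have nd := fun (W : Submodule F (Fin 12 → F)) (h0 : finrank F W ≠ 0) (h1 : finrank F W ≠ 12) hW i1 i2 =>
      max_nondeg hφ φ.iso_orth (by omega) (by simp) (n0 W h0) (n1 W h1) hW (orth_irrI hW i1)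
        (orth_irrI (hφ.disjoint_perp_perp hW) i2)
  · intro hq W h0 h1 ⟨j, hj⟩ h6 hW
    have := e W
    exact nd W (by omega) (by omega) hW (by omega) (by omega) (not_equiv_of_ne hφ (by simpa using h6))
  · intro W h2 hW hp
    have := e W
    exact nd W (by omega) (by omega) hW (fun h => hp h.2.2) (by omega)
      (not_equiv_of_ne hφ (by simp [h2]))
  · intro hq W h2 hW hp
    have := e W
    exact nd W (by omega) (by omega) hW (by omega) (by omega) (not_equiv_of_ne hφ (by simp [h2]))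
  · intro W h2 hW
    have := e W
    exact nd W (by omega) (by omega) hW (by omega) (by omega) (not_equiv_of_ne hφ (by simp [h2]))
  · intro W h2 hW
    have := e W
    refine nd W (by omega) (by omega) hW (by omega) (by omega) fun h => hminus ?_
    rw [← (hφ.isCompl_perp hW).sup_eq_top, plusOn_sup hW (hφ.disjoint_perp_perp hW) le_rfl
      (h2 ▸ by decide) (by rw [show finrank F (φ.perp W) = 6 by omega]; decide), plusOn_iff, plusOn_iff]
    exact pl_congr h

end Cfsg.Agent.S5873
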