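import Cfsg.Statements.S5913


set_option autoImplicit false
open Cfsg

namespace Cfsg.Agent.S5913

/-- Let S be a non-abelian simple group and n a natural number. Every normal subgroup N of the direct power S^n (functions Fin n → S) is a subproduct: there is a set T of coordinates such that N consists exactly of the elements whose coordinates outside T are trivial. In particular the minimal normal subgroups of S^n are its n factors. -/
theorem result {S : Type*} [Group S] [IsSimpleGroup S] (hS : ¬ IsMulCommutative S) (n : ℕ)
    (N : Subgroup (Fin n → S)) [N.Normal] :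
    ∃ T : Finset (Fin n), ∀ x : Fin n → S, x ∈ N ↔ ∀ i, i ∉ T → x i = 1 := by
  classical
  refine ⟨Finset.univ.filter fun i => ∃ x ∈ N, x i ≠ 1, fun x => ⟨fun hx i hi => ?_, fun h => ?_⟩⟩
  · by_contra hc
    exact hi (Finset.mem_filter.2 ⟨Finset.mem_univ _, x, hx, hc⟩)
  have key : ∀ i, (∃ y ∈ N, y i ≠ 1) → ∀ s : S, Pi.mulSingle i s ∈ N := by
    rintro i ⟨y, hy, hy1⟩
    have hn : (N.comap (MonoidHom.mulSingle (fun _ : Fin n => S) i)).Normal := inferInstance
    rcases hn.eq_bot_or_eq_top with h | h
    · have hz : y i ∈ Subgroup.center S := by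
        rw [Subgroup.mem_center_iff]
        intro g
        have h1 : g * y i * g⁻¹ * (y i)⁻¹ ∈ N.comap (MonoidHom.mulSingle (fun _ : Fin n => S) i) := by
          have := N.mul_mem (‹N.Normal›.conj_mem y hy (Pi.mulSingle i g)) (N.inv_mem hy)
          rw [Subgroup.mem_comap]
          convert this using 1
          ext j
          by_cases hj : j = i
          · subst hj; simp
          · simp [hj]
        rw [h, Subgroup.mem_bot] at h1
        rw [← mul_inv_eq_one, ← h1]
        group
      rcases (inferInstance : (Subgroup.center S).Normal).eq_bot_or_eq_top with h' | h'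
      · exact absurd (by rwa [h', Subgroup.mem_bot] at hz) hy1
      · exact absurd ⟨⟨fun a b => (Subgroup.mem_center_iff.1 (h' ▸ Subgroup.mem_top b) a)⟩⟩ hS
    · intro s
      exact (h ▸ Subgroup.mem_top s : s ∈ N.comap (MonoidHom.mulSingle (fun _ : Fin n => S) i))
  have hN : Subgroup.pi Set.univ (fun i => N.comap (MonoidHom.mulSingle (fun _ : Fin n => S) i)) ≤ N :=
    Subgroup.pi_le_iff.2 fun i => Subgroup.map_comap_le _ _
  refine hN fun i _ => ?_
  by_cases hi : ∃ y ∈ N, y i ≠ 1
  · exact key i hi _
  · rw [h i (by simpa using hi)]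
    exact Subgroup.one_mem _

end Cfsg.Agent.S5913
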