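import Cfsg.Statements.S5914
import Cfsg.Agent.S5913

set_option autoImplicit false
open Cfsg

namespace Cfsg.Agent.S5914

theorem back {S : Type*} [Group S] [IsSimpleGroup S] {n : ℕ} (H : Subgroup (Fin n → S))
    [hH : H.Characteristic] : H = ⊥ ∨ H = ⊤ := by
  classical
  refine or_iff_not_imp_left.2 fun h0 => ?_
  have hφ : ∀ φ : (Fin n → S) ≃* (Fin n → S), ∀ x ∈ H, φ x ∈ H := fun φ x hx =>
    Subgroup.characteristic_iff_le_comap.1 hH φ hx
  obtain ⟨x, hx, hx1⟩ := (Subgroup.bot_or_exists_ne_one H).resolve_left h0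
  obtain ⟨i, hi⟩ : ∃ i, x i ≠ 1 := by
    by_contra hc
    push Not at hc
    exact hx1 (funext hc)
  obtain ⟨j, s, hs, hj⟩ : ∃ (j : Fin n) (s : S), s ≠ 1 ∧ Pi.mulSingle j s ∈ H := by
    by_cases hS : IsMulCommutative S
    · by_cases hj : ∃ j, j ≠ i
      · obtain ⟨j, hj⟩ := hj
        let φ : (Fin n → S) ≃* (Fin n → S) :=
          { toFun := fun y => y * Pi.mulSingle j (y i)
            invFun := fun y => y * Pi.mulSingle j (y i)⁻¹
            left_inv := fun y => by simp [hj.symm, mul_assoc, ← Pi.mulSingle_mul]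
            right_inv := fun y => by simp [hj.symm, mul_assoc, ← Pi.mulSingle_mul]
            map_mul' := fun y z => by
              ext k
              simp only [Pi.mul_apply, Pi.mulSingle_mul, mul_assoc]
              congr 1
              rw [← mul_assoc, ← mul_assoc, hS.is_comm.comm (z k)] }
        exact ⟨j, x i, hi, by simpa [φ] using H.mul_mem (H.inv_mem hx) (hφ φ x hx)⟩
      · push Not at hj
        refine ⟨i, x i, hi, ?_⟩
        convert hx
        ext k
        rw [hj k, Pi.mulSingle_eq_same]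
    · obtain ⟨T, hT⟩ := Cfsg.Agent.S5913.result hS n H
      refine ⟨i, x i, hi, (hT _).2 fun k hk => ?_⟩
      by_cases e : k = i
      · subst e
        exact absurd ((hT x).1 hx k hk) hi
      · simp [e]
  have hn : (H.comap (MonoidHom.mulSingle (fun _ : Fin n => S) j)).Normal := inferInstance
  have ht := hn.eq_bot_or_eq_top.resolve_left fun h =>
    hs (Subgroup.mem_bot.1 (h ▸ (hj : s ∈ H.comap (MonoidHom.mulSingle (fun _ : Fin n => S) j))))
  have hN : Subgroup.pi Set.univ (fun i => H.comap (MonoidHom.mulSingle (fun _ : Fin n => S) i)) ≤ H :=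
    Subgroup.pi_le_iff.2 fun i => Subgroup.map_comap_le _ _
  refine eq_top_iff.2 fun y _ => hN fun k _ => ?_
  have := hφ (MulEquiv.arrowCongr (Equiv.swap j k) (MulEquiv.refl S)) _
    (ht ▸ Subgroup.mem_top (y k) : y k ∈ H.comap (MonoidHom.mulSingle (fun _ : Fin n => S) j))
  show Pi.mulSingle k (y k) ∈ H
  convert this using 1
  ext l
  simp [Pi.mulSingle_apply, Equiv.swap_apply_eq_iff]

theorem fwd {G : Type*} [Group G] [Finite G] [Nontrivial G]
    (h : ∀ H : Subgroup G, H.Characteristic → H = ⊥ ∨ H = ⊤) :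
    ∃ (N : Subgroup G) (n : ℕ), IsSimpleGroup N ∧ 1 ≤ n ∧ Nonempty (G ≃* (Fin n → N)) := by
  obtain ⟨N, ⟨hN, hN0⟩, hmin⟩ := exists_minimal_of_wellFoundedLT
    (fun N : Subgroup G => N.Normal ∧ N ≠ ⊥) ⟨⊤, inferInstance, top_ne_bot⟩
  have hnor : ∀ φ : G ≃* G, (N.map φ.toMonoidHom).Normal := fun φ => hN.map _ φ.surjective
  have hdis : ∀ (φ : G ≃* G) (M : Subgroup G), M.Normal →
      N.map φ.toMonoidHom ≤ M ∨ Disjoint (N.map φ.toMonoidHom) M := by
    intro φ M hM
    by_cases h0 : N ⊓ M.comap φ.toMonoidHom = ⊥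
    · right
      rw [Subgroup.disjoint_def]
      rintro _ ⟨x, hx, rfl⟩ hx'
      have : x ∈ N ⊓ M.comap φ.toMonoidHom := ⟨hx, hx'⟩
      rw [h0, Subgroup.mem_bot] at this
      simp [this]
    · exact Or.inl (Subgroup.map_le_iff_le_comap.2
        ((hmin ⟨inferInstance, h0⟩ inf_le_left).trans inf_le_right))
  have hgen : ∀ M : Subgroup G, (∀ φ : G ≃* G, N.map φ.toMonoidHom ≤ M) → M = ⊤ := by
    intro M hM
    have hc : (⨆ φ : G ≃* G, N.map φ.toMonoidHom).Characteristic := by
      rw [Subgroup.characteristic_iff_map_le]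
      intro ψ
      rw [Subgroup.map_iSup]
      refine iSup_le fun φ => le_iSup_of_le (φ.trans ψ) ?_
      rw [Subgroup.map_map]
      exact le_rfl
    rcases h _ hc with h | h
    · refine absurd (eq_bot_iff.2 ?_) hN0
      rw [← h]
      exact le_iSup_of_le (MulEquiv.refl G) (by simp)
    · exact eq_top_iff.2 (h ▸ iSup_le hM)
  have hnt : Nontrivial N := (Subgroup.nontrivial_iff_ne_bot N).2 hN0
  have hsimple : IsSimpleGroup N := ⟨fun K hK => by
    have : (K.map N.subtype).Normal := by
      rw [← Subgroup.normalizer_eq_top_iff]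
      refine hgen _ fun φ => ?_
      rcases hdis φ N hN with h | h
      · refine h.trans fun x hx => ?_
        have := Subgroup.le_normalizer_map (H := K) N.subtype
        exact this ⟨⟨x, hx⟩, Subgroup.normalizer_eq_top K ▸ Subgroup.mem_top _, rfl⟩
      · refine fun x hx => Subgroup.centralizer_le_normalizer _ fun y hy => ?_
        exact (Subgroup.commute_of_normal_of_disjoint _ _ (hnor φ) hN h x y hx
          (Subgroup.map_subtype_le _ hy)).symm
    by_cases h0 : K.map N.subtype = ⊥
    · exact Or.inl ((Subgroup.map_eq_bot_iff_of_injective _ N.subtype_injective).1 h0)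
    · refine Or.inr (eq_top_iff.2 fun x _ => ?_)
      obtain ⟨y, hy, e⟩ := hmin ⟨this, h0⟩ (Subgroup.map_subtype_le _) x.2
      exact (Subtype.ext e : y = x) ▸ hy⟩
  by_contra hc
  have key : ∀ k, ∃ ψ : (Fin k → N) →* G, Function.Injective ψ ∧ ψ.range.Normal := by
    intro k
    induction k with
    | zero => exact ⟨1, Function.injective_of_subsingleton _, by
        rw [MonoidHom.range_one]; infer_instance⟩
    | succ k ih =>
      obtain ⟨ψ, h1, h2⟩ := ih
      obtain ⟨φ, hφ⟩ : ∃ φ : G ≃* G, ¬ N.map φ.toMonoidHom ≤ ψ.range := by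
        by_contra hc'
        push Not at hc'
        have hs := MonoidHom.range_eq_top.1 (hgen _ hc')
        refine hc ⟨N, k, hsimple, ?_, ⟨(MulEquiv.ofBijective ψ ⟨h1, hs⟩).symm⟩⟩
        by_contra hk
        obtain rfl : k = 0 := by omega
        exact not_subsingleton G hs.subsingleton
      have hd := (hdis φ _ h2).resolve_left hφ
      have hcomm : ∀ (a : N) (b : Fin k → N), Commute (φ a) (ψ b) := fun a b =>
        Subgroup.commute_of_normal_of_disjoint _ _ (hnor φ) h2 hd _ _ ⟨a, a.2, rfl⟩ ⟨b, rfl⟩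
      let ψ' : (Fin (k + 1) → N) →* G := MonoidHom.mk' (fun x => φ (x 0) * ψ (Fin.tail x))
        fun x y => by
          have : Fin.tail (x * y) = Fin.tail x * Fin.tail y := rfl
          simp only [this, Pi.mul_apply, Subgroup.coe_mul, map_mul]
          exact (hcomm _ _).mul_mul_mul_comm _ _
      refine ⟨ψ', (injective_iff_map_eq_one _).2 fun x hx => ?_, ?_⟩
      · have e : φ (x 0) = (ψ (Fin.tail x))⁻¹ := eq_inv_of_mul_eq_one_left hx
        have e1 : φ (x 0) = 1 := Subgroup.disjoint_def.1 hd ⟨x 0, (x 0).2, rfl⟩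
          (e ▸ Subgroup.inv_mem _ ⟨_, rfl⟩)
        have e2 : Fin.tail x = 1 := h1 (by rw [map_one, ← inv_eq_one, ← e, e1])
        ext1 i
        refine Fin.cases ?_ (fun j => congrFun e2 j) i
        exact Subtype.ext ((map_eq_one_iff _ φ.injective).1 e1)
      · have : ψ'.range = N.map φ.toMonoidHom ⊔ ψ.range := by
          refine le_antisymm ?_ (sup_le ?_ ?_)
          · rintro _ ⟨x, rfl⟩
            exact Subgroup.mul_mem_sup ⟨x 0, (x 0).2, rfl⟩ ⟨_, rfl⟩
          · rintro _ ⟨a, ha, rfl⟩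
            refine ⟨Fin.cons ⟨a, ha⟩ 1, ?_⟩
            simp [ψ']
          · rintro _ ⟨b, rfl⟩
            exact ⟨Fin.cons 1 b, by simp [ψ']⟩
        rw [this]
        have := hnor φ
        infer_instance
  obtain ⟨ψ, h1, -⟩ := key (Nat.card G)
  have := Nat.card_le_card_of_injective ψ h1
  rw [Nat.card_fun, Nat.card_fin] at this
  exact absurd this (not_le.2 (Nat.lt_pow_self Finite.one_lt_card))

/-- A non-trivial finite group G is characteristically simple (its only characteristic subgroups are 1 and G) if and only if G is isomorphic to a direct power S^n (n ≥ 1) of some simple group S (possibly cyclic of prime order). -/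
theorem result {G : Type*} [Group G] [Finite G] [Nontrivial G] :
    (∀ H : Subgroup G, H.Characteristic → H = ⊥ ∨ H = ⊤) ↔
    ∃ (S : Type) (_ : Group S) (_ : IsSimpleGroup S) (n : ℕ), 1 ≤ n ∧ Nonempty (G ≃* (Fin n → S)) := by
  constructor
  · intro h
    obtain ⟨N, n, h1, h2, ⟨e⟩⟩ := fwd h
    let c := (equivShrink.{0} N).symm
    let _ := c.group
    exact ⟨Shrink.{0} N, inferInstance, c.mulEquiv.isSimpleGroup, n, h2,
      ⟨e.trans (MulEquiv.piCongrRight fun _ => c.mulEquiv.symm)⟩⟩
  · rintro ⟨S, _, _, n, -, ⟨e⟩⟩ H hH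
    have : (H.map e.toMonoidHom).Characteristic := by
      rw [Subgroup.characteristic_iff_le_comap]
      rintro φ _ ⟨x, hx, rfl⟩
      exact ⟨_, Subgroup.characteristic_iff_le_comap.1 hH ((e.trans φ).trans e.symm) hx, by simp⟩
    rcases back (H.map e.toMonoidHom) with h | h
    · exact Or.inl ((Subgroup.map_eq_bot_iff_of_injective _ e.injective).1 h)
    · refine Or.inr (eq_top_iff.2 fun x _ => ?_)
      obtain ⟨y, hy, e'⟩ : e x ∈ H.map e.toMonoidHom := h ▸ Subgroup.mem_top _
      exact e.injective e' ▸ hy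

end Cfsg.Agent.S5914
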