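import Cfsg.Statements.S5895
import Cfsg.Agent.S5914

set_option autoImplicit false
open Cfsg

namespace Cfsg.Agent.S5895

/-- For every prime p and every d ≥ 2 there is a finite group G with a maximal subgroup M of index p^d and a maximal subgroup H of M that is not second maximal in G: some maximal subgroup K of G contains H without H being maximal in K. (One may take G the affine group V ⋊ GL(V) of V = 𝔽_p^d, M = GL(V), H the stabiliser in M of a line W of V, and K = V ⋊ H, with H < W ⋊ H < K.) So the prime-index hypothesis in the second-maximality criterion cannot be relaxed to prime-power index. -/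
theorem result (p d : ℕ) (hp : p.Prime)
    (hd : 2 ≤ d) :
    ∃ (G : Type) (_ : Group G) (_ : Finite G) (M H K : Subgroup G), IsCoatom M ∧ M.index = p ^ d ∧ H ≤ M ∧
      IsCoatom (H.subgroupOf M) ∧ IsCoatom K ∧ H ≤ K ∧ ¬ IsCoatom (H.subgroupOf K) := by
  classical
  have := Fact.mk hp
  have : IsSimpleGroup (Multiplicative (ZMod p)) := isSimpleGroup_of_prime_card (p := p) (by simp)
  let V := Fin d → Multiplicative (ZMod p)
  have hV : Nat.card V = p ^ d := by simp [V]
  have : Nontrivial V := Finite.one_lt_card_iff_nontrivial.1 (hV ▸ Nat.one_lt_pow (by omega) hp.one_lt)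
  obtain ⟨A, hA, hmin⟩ := exists_minimal_of_wellFoundedLT
    (fun A : Subgroup (MulAut V) => ∀ W : Subgroup V, (∀ a ∈ A, ∀ w ∈ W, a w ∈ W) → W = ⊥ ∨ W = ⊤)
    ⟨⊤, fun W hW => by
      have : W.Characteristic := Subgroup.characteristic_iff_le_comap.2 fun φ w hw =>
        hW φ trivial w hw
      exact Cfsg.Agent.S5914.back W⟩
  have : Nontrivial A := by
    rw [Subgroup.nontrivial_iff_ne_bot]
    rintro rfl
    obtain ⟨x, hx⟩ := exists_prime_orderOf_dvd_card' (G := V) p (hV ▸ dvd_pow_self p (by omega))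
    have hc := Nat.card_zpowers x
    rcases hA (Subgroup.zpowers x) (fun a ha w hw => by rwa [Subgroup.mem_bot.1 ha]) with h | h
    · rw [h, Subgroup.card_bot, hx] at hc
      exact hp.one_lt.ne hc
    · rw [h, Subgroup.card_top, hx, hV] at hc
      have := Nat.pow_lt_pow_right hp.one_lt (show 1 < d by omega)
      rw [pow_one] at this
      omega
  obtain ⟨H0, hH0, -⟩ := (eq_top_or_exists_le_coatom (⊥ : Subgroup A)).resolve_left bot_ne_top
  obtain ⟨W, hW, hW0, hW1⟩ : ∃ W : Subgroup V, (∀ a ∈ H0, ∀ w ∈ W, a.1 w ∈ W) ∧ W ≠ ⊥ ∧ W ≠ ⊤ := by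
    by_contra hc
    push Not at hc
    have := hmin (y := H0.map A.subtype) (fun W hW => or_iff_not_imp_left.2
      (hc W fun a ha => hW a.1 ⟨a, ha, rfl⟩)) (Subgroup.map_subtype_le _)
    refine hH0.1 (eq_top_iff.2 fun x _ => ?_)
    obtain ⟨y, hy, e⟩ := this x.2
    exact (Subtype.ext e : y = x) ▸ hy
  let G := V ⋊[A.subtype] A
  have : Finite G := Finite.of_equiv _ SemidirectProduct.equivProd.symm
  let ι : A →* G := SemidirectProduct.inr
  have hι : Function.Injective ι := SemidirectProduct.inr_injective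
  have hr : ∀ g : G, g ∈ ι.range ↔ g.left = 1 := fun g =>
    ⟨by rintro ⟨a, rfl⟩; rfl, fun h => ⟨g.right, SemidirectProduct.ext h.symm rfl⟩⟩
  refine ⟨G, inferInstance, inferInstance, ι.range, H0.map ι, H0.comap SemidirectProduct.rightHom,
    ⟨fun h => ?_, fun L hL => ?_⟩, ?_, Subgroup.map_le_range _ _, ?_,
    Subgroup.isCoatom_comap_of_surjective SemidirectProduct.rightHom_surjective hH0,
    by rintro _ ⟨a, ha, rfl⟩; exact ha, fun hc => ?_⟩
  · obtain ⟨v, hv⟩ := exists_ne (1 : V)
    exact hv ((hr (SemidirectProduct.inl v)).1 (h ▸ Subgroup.mem_top _))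
  · have hl : ∀ g ∈ L, SemidirectProduct.inl g.left ∈ L := fun g hg => by
      have := L.mul_mem hg (L.inv_mem (hL.le ⟨g.right, rfl⟩))
      rwa [mul_inv_eq_of_eq_mul (SemidirectProduct.inl_left_mul_inr_right g).symm] at this
    rcases hA (L.comap SemidirectProduct.inl) (fun a ha w hw => by
      have := L.mul_mem (L.mul_mem (hL.le ⟨⟨a, ha⟩, rfl⟩) hw) (hL.le ⟨⟨a, ha⟩⁻¹, rfl⟩)
      rw [← SemidirectProduct.inl_aut] at this
      exact this) with h | h
    · refine absurd (fun g hg => (hr g).2 ?_) hL.not_ge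
      exact Subgroup.mem_bot.1 (h ▸ (hl g hg : g.left ∈ L.comap SemidirectProduct.inl))
    · refine eq_top_iff.2 fun g _ => ?_
      rw [← SemidirectProduct.inl_left_mul_inr_right g]
      exact L.mul_mem (h ▸ Subgroup.mem_top g.left : g.left ∈ L.comap SemidirectProduct.inl)
        (hL.le ⟨g.right, rfl⟩)
  · have := ι.range.index_mul_card
    rw [← Nat.card_congr (MonoidHom.ofInjective hι).toEquiv, SemidirectProduct.card, hV] at this
    exact Nat.eq_of_mul_eq_mul_right Nat.card_pos this
  · have := ((MonoidHom.ofInjective hι).mapSubgroup.isCoatom_iff _).2 hH0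
    convert this using 1
    ext g
    obtain ⟨k, rfl⟩ := (MonoidHom.ofInjective hι).surjective g
    simp only [Subgroup.mem_subgroupOf, MonoidHom.ofInjective_apply, MulEquiv.mapSubgroup_apply]
    rw [Subgroup.mem_map_iff_mem hι]
    exact (Subgroup.mem_map_iff_mem (MonoidHom.ofInjective hι).injective).symm
  · let L : Subgroup G :=
      { carrier := {g | g.right ∈ H0 ∧ g.left ∈ W}
        one_mem' := ⟨H0.one_mem, W.one_mem⟩
        mul_mem' := fun {a b} ha hb => ⟨H0.mul_mem ha.1 hb.1, W.mul_mem ha.2 (hW _ ha.1 _ hb.2)⟩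
        inv_mem' := fun {a} ha => ⟨H0.inv_mem ha.1, hW _ (H0.inv_mem ha.1) _ (W.inv_mem ha.2)⟩ }
    have := hc.2 (L.subgroupOf _) (lt_of_le_of_ne (Subgroup.subgroupOf_mono _ (by
      rintro _ ⟨a, ha, rfl⟩; exact ⟨ha, W.one_mem⟩)) fun h => hW0 (eq_bot_iff.2 fun w hw => ?_))
    · exact hW1 (eq_top_iff.2 fun v _ =>
        (Subgroup.subgroupOf_eq_top.1 this (x := SemidirectProduct.inl v) H0.one_mem).2)
    · have : (⟨SemidirectProduct.inl w, H0.one_mem⟩ : H0.comap SemidirectProduct.rightHom) ∈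
        L.subgroupOf _ := ⟨H0.one_mem, hw⟩
      rw [← h] at this
      exact (hr _).1 (Subgroup.map_le_range _ _ this)

end Cfsg.Agent.S5895
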